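import Groth.Agent.Lib.Helper24.SemiLocalDim
import Mathlib.RingTheory.KrullDimension.NonZeroDivisors
import Mathlib.RingTheory.FiniteLength
import Mathlib.RingTheory.HopkinsLevitzki
import Mathlib.RingTheory.Regular.RegularSequence
import Mathlib.Algebra.Module.Torsion.Basic

set_option autoImplicit false

namespace Groth.Agent.Lib.Helper24

universe u

open Module

/-- If `p` is in the support of `N` then `dim A/p ≤ dim N`. -/
lemma ringKrullDim_quotient_le_supportDim {A : Type u} [CommRing A] {N : Type u}
    [AddCommGroup N] [Module A N] (p : PrimeSpectrum A) (hp : p ∈ Module.support A N) :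
    ringKrullDim (A ⧸ p.asIdeal) ≤ Module.supportDim A N := by
  rw [ringKrullDim_quotient]
  unfold Module.supportDim
  refine Order.krullDim_le_of_strictMono
    (fun q : PrimeSpectrum.zeroLocus (p.asIdeal : Set A) =>
      (⟨q.1, Module.mem_support_mono (p := p) q.2 hp⟩ : Module.support A N)) ?_
  intro q₁ q₂ h
  exact h

/-- A finite module over a Noetherian ring whose support has dimension `≤ 0` has finite length. -/
lemma isFiniteLength_of_supportDim_le_zero {A : Type u} [CommRing A] [IsNoetherianRing A]
    {N : Type u} [AddCommGroup N] [Module A N] [Module.Finite A N]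
    (h : Module.supportDim A N ≤ 0) : IsFiniteLength A N := by
  rw [isFiniteLength_iff_isNoetherian_isArtinian]
  refine ⟨inferInstance, ?_⟩
  rw [Module.supportDim_eq_ringKrullDim_quotient_annihilator] at h
  let _ : Module (A ⧸ Module.annihilator A N) N := Module.quotientAnnihilator
  have hst : IsScalarTower A (A ⧸ Module.annihilator A N) N :=
    (Module.isTorsionBySet_annihilator A N).isScalarTower
  have hfin : Module.Finite (A ⧸ Module.annihilator A N) N :=
    Module.Finite.of_restrictScalars_finite A _ N
  have hdim : Ring.KrullDimLE 0 (A ⧸ Module.annihilator A N) := by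
    rw [Ring.krullDimLE_iff]
    exact_mod_cast h
  have hart : IsArtinianRing (A ⧸ Module.annihilator A N) :=
    isArtinianRing_iff_krullDimLE_zero.mpr hdim
  have : IsArtinian (A ⧸ Module.annihilator A N) N := inferInstance
  exact isArtinian_of_surjective_algebraMap (S := A) (R := A ⧸ Module.annihilator A N)
    Ideal.Quotient.mk_surjective

/-- A finite module of finite length has support of dimension `≤ 0`. -/
lemma supportDim_le_zero_of_isFiniteLength {A : Type u} [CommRing A]
    {N : Type u} [AddCommGroup N] [Module A N] [Module.Finite A N]
    (h : IsFiniteLength A N) : Module.supportDim A N ≤ 0 := by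
  rw [isFiniteLength_iff_isNoetherian_isArtinian] at h
  obtain ⟨-, hart⟩ := h
  rw [Module.supportDim_eq_ringKrullDim_quotient_annihilator]
  obtain ⟨n, s, hs⟩ := Module.Finite.exists_fin (R := A) (M := N)
  let φ : A →ₗ[A] (Fin n → N) := LinearMap.pi fun i => LinearMap.toSpanSingleton A N (s i)
  have hker : LinearMap.ker φ = Module.annihilator A N := by
    ext a
    simp only [LinearMap.mem_ker, φ, Module.mem_annihilator]
    constructor
    · intro ha x
      have hx : x ∈ Submodule.span A (Set.range s) := hs ▸ Submodule.mem_top
      induction hx using Submodule.span_induction with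
      | mem y hy =>
        obtain ⟨i, rfl⟩ := hy
        simpa using congrFun ha i
      | zero => simp
      | add x y _ _ hx hy => rw [smul_add, hx, hy, add_zero]
      | smul c x _ hx => rw [smul_comm, hx, smul_zero]
    · intro ha
      ext i
      simpa using ha (s i)
  let ψ : (A ⧸ Module.annihilator A N) →ₗ[A] (Fin n → N) :=
    Submodule.liftQ (Module.annihilator A N) φ hker.ge
  have hψ : Function.Injective ψ := by
    rw [← LinearMap.ker_eq_bot, Submodule.ker_liftQ_eq_bot _ _ _ hker.le]
  have h1 : IsArtinian A (A ⧸ Module.annihilator A N) := isArtinian_of_injective ψ hψ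
  have h2 : IsArtinianRing (A ⧸ Module.annihilator A N) :=
    isArtinian_of_tower A h1
  have h3 : Ring.KrullDimLE 0 (A ⧸ Module.annihilator A N) := inferInstance
  rw [Ring.krullDimLE_iff] at h3
  exact_mod_cast h3

/-- Cutting by `k` elements of the Jacobson radical drops the dimension by at most `k`. -/
lemma supportDim_le_supportDim_quot_ofList_add_length {A : Type u} [CommRing A]
    [IsNoetherianRing A] (xs : List A) (hxs : ∀ x ∈ xs, x ∈ Ring.jacobson A) :
    ∀ (N : Type u) [AddCommGroup N] [Module A N] [Module.Finite A N],
      Module.supportDim A N ≤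
        Module.supportDim A (N ⧸ (Ideal.ofList xs • (⊤ : Submodule A N))) + xs.length := by
  induction xs with
  | nil =>
    intro N _ _ _
    have hbot : (Ideal.ofList ([] : List A) • (⊤ : Submodule A N)) = ⊥ := by
      rw [Ideal.ofList_nil, Submodule.bot_smul]
    rw [Module.supportDim_eq_of_equiv (Submodule.quotEquivOfEqBot _ hbot)]
    simp
  | cons x xs ih =>
    intro N _ _ _
    have hx : x ∈ (Module.annihilator A N).jacobson :=
      (Ideal.jacobson_bot.symm.trans_le (Ideal.jacobson_mono bot_le))
        (hxs x List.mem_cons_self)
    have h1 := Module.supportDim_le_supportDim_quotSMulTop_succ_of_mem_jacobson (M := N) hx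
    have h2 := ih (fun y hy => hxs y (List.mem_cons_of_mem _ hy)) (QuotSMulTop x N)
    rw [Module.supportDim_eq_of_equiv
      (Submodule.quotOfListConsSMulTopEquivQuotSMulTopInner N x xs)]
    calc Module.supportDim A N ≤ Module.supportDim A (QuotSMulTop x N) + 1 := h1
      _ ≤ (Module.supportDim A (QuotSMulTop x N ⧸
            (Ideal.ofList xs • (⊤ : Submodule A (QuotSMulTop x N)))) + xs.length) + 1 :=
          add_le_add_left h2 1
      _ = _ := by
          rw [add_assoc, List.length_cons]
          push_cast
          rfl

/-- Iterated quotients have the same dimension as the quotient by the concatenated list. -/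
lemma supportDim_quot_quot_eq {A : Type u} [CommRing A] (xs ys : List A)
    (M : Type u) [AddCommGroup M] [Module A M] [Module.Finite A M] :
    Module.supportDim A ((M ⧸ (Ideal.ofList xs • (⊤ : Submodule A M))) ⧸
      (Ideal.ofList ys • (⊤ : Submodule A (M ⧸ (Ideal.ofList xs • (⊤ : Submodule A M)))))) =
    Module.supportDim A (M ⧸ (Ideal.ofList (xs ++ ys) • (⊤ : Submodule A M))) := by
  unfold Module.supportDim
  rw [Module.support_quotient, Module.support_quotient, Module.support_quotient,
    Ideal.ofList_append, PrimeSpectrum.zeroLocus_sup, Set.inter_assoc]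

end Groth.Agent.Lib.Helper24
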