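import Mathlib.RingTheory.Smooth.IntegralClosure
import Mathlib.RingTheory.Etale.Field
import Mathlib.RingTheory.LocalProperties.IntegrallyClosed
import Mathlib.AlgebraicGeometry.Morphisms.Etale
import Mathlib.AlgebraicGeometry.Morphisms.Finite
import Mathlib.AlgebraicGeometry.Morphisms.QuasiFinite
import Mathlib.AlgebraicGeometry.Morphisms.UniversallyOpen
import Mathlib.AlgebraicGeometry.Morphisms.Flat
import Mathlib.AlgebraicGeometry.FunctionField
import Mathlib.AlgebraicGeometry.Stalk
import Mathlib.Algebra.Group.Pi.Units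

/-!
# Étale over normal is normal

* `ENorm.isDomain_and_isIntegrallyClosed_localization_of_etale`: localizations at primes of an étale
  algebra over an integrally closed domain are integrally closed domains.
* `ENorm.stalk_of_etale`: the same for stalks of a scheme étale over a normal integral scheme.
* `ENorm.irreducibleSpace_of_flat_finite`: connected + finite flat over integral + stalks domains
  implies irreducible.
-/

set_option autoImplicit false
universe u v

namespace Groth.Agent.Lib.Helper24.ENorm
open Polynomial TensorProduct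

/-- integral closedness in an overring localizes -/
theorem isIntegrallyClosedIn_localization (S : Type u) (T : Type v) [CommRing S] [CommRing T]
    [Algebra S T] [IsIntegrallyClosedIn S T] (M : Submonoid S) :
    IsIntegrallyClosedIn (Localization M) (Localization (Algebra.algebraMapSubmonoid T M)) := by
  have hinj : Function.Injective (algebraMap S T) := IsIntegralClosure.algebraMap_injective S S T
  set Tq := Localization (Algebra.algebraMapSubmonoid T M) with hTq
  have hloc : IsLocalization (M.map (algebraMap S T)) Tq :=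
    inferInstanceAs (IsLocalization (Algebra.algebraMapSubmonoid T M) Tq)
  constructor
  · rw [IsLocalization.algebraMap_eq_map_map_submonoid M T (Localization M) Tq]
    exact IsLocalization.map_injective_of_injective M (Localization M) Tq hinj
  · intro x
    refine ⟨fun hx => ?_, fun ⟨y, hy⟩ => hy ▸ isIntegral_algebraMap⟩
    obtain ⟨⟨m₁, hm₁⟩, h1⟩ := IsIntegral.exists_multiple_integral_of_isLocalization M x hx
    obtain ⟨⟨t, ⟨_, m₂, hm₂, rfl⟩⟩, ht⟩ := IsLocalization.surj (Algebra.algebraMapSubmonoid T M) x
    simp only at ht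
    -- ht : x * algebraMap T Tq (algebraMap S T m₂) = algebraMap T Tq t
    have h2 : IsIntegral S (algebraMap T Tq (m₁ • t)) := by
      have : algebraMap T Tq (m₁ • t) = m₂ • ((⟨m₁, hm₁⟩ : M) • x) := by
        rw [Algebra.smul_def, map_mul, ← ht, Submonoid.smul_def, Algebra.smul_def,
          Algebra.smul_def, ← IsScalarTower.algebraMap_apply, ← IsScalarTower.algebraMap_apply]
        ring
      rw [this]
      exact h1.smul m₂
    obtain ⟨m₃, hm₃, h3⟩ := IsLocalization.exists_isIntegral_smul_of_isIntegral_map M h2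
    obtain ⟨s, hs⟩ := (IsIntegralClosure.isIntegral_iff (A := S) (R := S) (B := T)).mp h3
    refine ⟨IsLocalization.mk' (Localization M) s
      (⟨m₃ * m₁ * m₂, mul_mem (mul_mem hm₃ hm₁) hm₂⟩ : M), ?_⟩
    have hunit : IsUnit (algebraMap S Tq (m₃ * m₁ * m₂)) := by
      rw [IsScalarTower.algebraMap_apply S T Tq]
      exact IsLocalization.map_units Tq
        (⟨algebraMap S T (m₃ * m₁ * m₂), Algebra.mem_algebraMapSubmonoid_of_mem
          (⟨m₃ * m₁ * m₂, mul_mem (mul_mem hm₃ hm₁) hm₂⟩ : M)⟩ : Algebra.algebraMapSubmonoid T M)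
    apply hunit.mul_left_injective
    simp only
    rw [IsScalarTower.algebraMap_apply S (Localization M) Tq, ← map_mul,
      IsLocalization.mk'_spec, ← IsScalarTower.algebraMap_apply,
      IsScalarTower.algebraMap_apply S T Tq, hs, Algebra.smul_def, Algebra.smul_def, map_mul,
      map_mul, ← ht, ← IsScalarTower.algebraMap_apply, ← IsScalarTower.algebraMap_apply,
      ← IsScalarTower.algebraMap_apply, map_mul, map_mul]
    have e1 : ∀ s : S, algebraMap (Localization M) Tq (algebraMap S (Localization M) s) =
        algebraMap S Tq s := fun s => (IsScalarTower.algebraMap_apply S (Localization M) Tq s).symm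
    rw [e1, e1, map_mul]
    ring

end Groth.Agent.Lib.Helper24.ENorm

namespace Groth.Agent.Lib.Helper24.ENorm
open Polynomial TensorProduct

universe w w'

/-- a local ring integrally closed in a product of fields is an integrally closed domain -/
theorem isDomain_and_isIntegrallyClosed_of_pi (A : Type u) (B : Type v) [CommRing A] [CommRing B]
    [IsLocalRing A] [Algebra A B] [IsIntegrallyClosedIn A B] {I : Type w} (Ai : I → Type w')
    [∀ i, Field (Ai i)] (e : B ≃+* ∀ i, Ai i) : IsDomain A ∧ IsIntegrallyClosed A := by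
  classical
  have hinj : Function.Injective (algebraMap A B) := IsIntegralClosure.algebraMap_injective A A B
  have hB : Nontrivial B := hinj.nontrivial
  -- idempotents of `B` are trivial
  have hidem : ∀ b : B, b * b = b → b = 0 ∨ b = 1 := by
    intro b hb
    have hint : IsIntegral A b := by
      refine ⟨X ^ 2 - X, ?_, ?_⟩
      · apply monic_X_pow_sub
        rw [degree_X]; norm_num
      · rw [eval₂_sub, eval₂_pow, eval₂_X, pow_two, hb, sub_self]
    obtain ⟨a, rfl⟩ := (IsIntegralClosure.isIntegral_iff (A := A) (R := A) (B := B)).mp hint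
    have ha : a * a = a := hinj (by rw [map_mul, hb])
    rcases IsLocalRing.isUnit_or_isUnit_one_sub_self a with h | h
    · right
      have : a * (1 - a) = 0 := by rw [mul_sub, mul_one, ha, sub_self]
      have h1 : 1 - a = 0 := by
        have := h.mul_right_eq_zero.mp this
        exact this
      rw [← map_one (algebraMap A B)]
      congr 1
      exact (sub_eq_zero.mp h1).symm
    · left
      have : (1 - a) * a = 0 := by rw [sub_mul, one_mul, ha, sub_self]
      have h1 : a = 0 := h.mul_right_eq_zero.mp this
      rw [h1, map_zero]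
  -- every element of `B` is zero or a unit
  have hkey : ∀ x : B, x = 0 ∨ IsUnit x := by
    intro x
    set y := e x with hy
    set ε : ∀ i, Ai i := fun i => if y i = 0 then 0 else 1 with hε
    have hεε : ε * ε = ε := by
      funext i
      simp only [Pi.mul_apply, hε]
      split_ifs <;> simp
    have h1 : e.symm ε * e.symm ε = e.symm ε := by rw [← map_mul, hεε]
    rcases hidem _ h1 with h0 | h0
    · left
      have hε0 : ε = 0 := by
        have := congrArg e h0
        rwa [RingEquiv.apply_symm_apply, map_zero] at this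
      have : y = 0 := by
        funext i
        show y i = 0
        by_contra hne
        have := congrFun hε0 i
        simp only [hε, Pi.zero_apply] at this
        rw [if_neg hne] at this
        exact one_ne_zero this
      exact (map_eq_zero_iff e e.injective).mp this
    · right
      have hε1 : ε = 1 := by
        have := congrArg e h0
        rwa [RingEquiv.apply_symm_apply, map_one] at this
      have hyi : ∀ i, y i ≠ 0 := by
        intro i hne
        have := congrFun hε1 i
        simp only [hε, Pi.one_apply] at this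
        rw [if_pos hne] at this
        exact zero_ne_one this
      have : IsUnit y := by
        rw [Pi.isUnit_iff]
        intro i
        exact (hyi i).isUnit
      have := this.map e.symm
      rwa [hy, RingEquiv.symm_apply_apply] at this
  have hnzd : NoZeroDivisors B := by
    constructor
    intro a b hab
    rcases hkey a with h | h
    · exact Or.inl h
    · exact Or.inr (h.mul_right_eq_zero.mp hab)
  have hBdom : IsDomain B := NoZeroDivisors.to_isDomain B
  have hAdom : IsDomain A := hinj.isDomain (algebraMap A B)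
  refine ⟨hAdom, ?_⟩
  have hunits : ∀ y : nonZeroDivisors A, IsUnit (algebraMap A B y) := by
    intro y
    rcases hkey (algebraMap A B y) with h | h
    · exfalso
      have : (y : A) = 0 := hinj (by rw [h, map_zero])
      exact nonZeroDivisors.coe_ne_zero y this
    · exact h
  set g : FractionRing A →+* B := IsLocalization.lift hunits with hg
  have hgcomp : g.comp (algebraMap A (FractionRing A)) = algebraMap A B := IsLocalization.lift_comp _
  rw [isIntegrallyClosed_iff (FractionRing A)]
  intro x hx
  have hgx : IsIntegral A (g x) := by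
    obtain ⟨p, hp, hpx⟩ := hx
    refine ⟨p, hp, ?_⟩
    have := Polynomial.hom_eval₂ p (algebraMap A (FractionRing A)) g x
    rw [hgcomp] at this
    rw [← this, hpx, map_zero]
  obtain ⟨a, ha⟩ := (IsIntegralClosure.isIntegral_iff (A := A) (R := A) (B := B)).mp hgx
  refine ⟨a, g.injective ?_⟩
  rw [← ha, ← hgcomp]
  rfl

end Groth.Agent.Lib.Helper24.ENorm

namespace Groth.Agent.Lib.Helper24.ENorm
open Polynomial TensorProduct

/-- An étale algebra over an integrally closed domain is integrally closed in its generic fibre. -/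
theorem isIntegrallyClosedIn_tensor_fractionRing (R S : Type u) [CommRing R] [CommRing S]
    [Algebra R S] [IsDomain R] [IsIntegrallyClosed R] [Algebra.Etale R S] :
    IsIntegrallyClosedIn S (S ⊗[R] FractionRing R) := by
  set K := FractionRing R with hK
  have hinjT : Function.Injective (algebraMap S (S ⊗[R] K)) :=
    Algebra.TensorProduct.includeLeft_injective (S := S) (IsFractionRing.injective R K)
  have hbij := TensorProduct.toIntegralClosure_bijective_of_smooth (R := R) (S := S) (B := K)
  have hall : ∀ z : S ⊗[R] integralClosure R K,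
      ∃ s : S, ((TensorProduct.toIntegralClosure R S K z : integralClosure S (S ⊗[R] K)) :
        S ⊗[R] K) = algebraMap S (S ⊗[R] K) s := by
    intro z
    induction z with
    | zero => exact ⟨0, by simp⟩
    | tmul s b =>
      obtain ⟨r, hr⟩ := (IsIntegrallyClosed.isIntegral_iff (R := R) (K := K)).mp b.2
      refine ⟨r • s, ?_⟩
      simp only [TensorProduct.toIntegralClosure, AlgHom.coe_codRestrict,
        Algebra.TensorProduct.map_tmul, AlgHom.coe_id, id_eq, Subalgebra.coe_val]
      rw [← hr, Algebra.algebraMap_eq_smul_one, TensorProduct.tmul_smul, TensorProduct.smul_tmul']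
      rfl
    | add x y hx hy =>
      obtain ⟨s, hs⟩ := hx
      obtain ⟨s', hs'⟩ := hy
      exact ⟨s + s', by rw [map_add, map_add, ← hs, ← hs']; rfl⟩
  constructor
  · exact hinjT
  · intro x
    refine ⟨fun hx => ?_, fun ⟨y, hy⟩ => hy ▸ isIntegral_algebraMap⟩
    obtain ⟨z, hz⟩ := hbij.surjective ⟨x, hx⟩
    obtain ⟨s, hs⟩ := hall z
    refine ⟨s, ?_⟩
    rw [← hs, hz]

end Groth.Agent.Lib.Helper24.ENorm

namespace Groth.Agent.Lib.Helper24.ENorm
open Polynomial TensorProduct

/-- Localizations at primes of an étale algebra over an integrally closed domain are integrally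
closed domains. -/
theorem isDomain_and_isIntegrallyClosed_localization_of_etale (R S : Type u) [CommRing R]
    [CommRing S] [Algebra R S] [IsDomain R] [IsIntegrallyClosed R] [Algebra.Etale R S]
    (q : Ideal S) [q.IsPrime] :
    IsDomain (Localization.AtPrime q) ∧ IsIntegrallyClosed (Localization.AtPrime q) := by
  set K := FractionRing R with hK
  let _ : Algebra K (S ⊗[R] K) := Algebra.TensorProduct.rightAlgebra
  have hcl : IsIntegrallyClosedIn S (S ⊗[R] K) := isIntegrallyClosedIn_tensor_fractionRing R S
  have hclq := isIntegrallyClosedIn_localization S (S ⊗[R] K) q.primeCompl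
  let e : K ⊗[R] S ≃ₐ[K] S ⊗[R] K :=
    { Algebra.TensorProduct.comm R K S with
      commutes' := fun k => by
        show (Algebra.TensorProduct.comm R K S) (k ⊗ₜ[R] (1 : S)) = (1 : S) ⊗ₜ[R] k
        rw [Algebra.TensorProduct.comm_tmul] }
  have : Algebra.Etale K (S ⊗[R] K) := Algebra.Etale.of_equiv e
  set Tq := Localization (Algebra.algebraMapSubmonoid (S ⊗[R] K) q.primeCompl) with hTq
  have : Algebra.FormallyEtale (S ⊗[R] K) Tq :=
    Algebra.FormallyEtale.of_isLocalization (Algebra.algebraMapSubmonoid (S ⊗[R] K) q.primeCompl)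
  have : Algebra.FormallyEtale K Tq := .comp K (S ⊗[R] K) Tq
  have : Algebra.EssFiniteType (S ⊗[R] K) Tq :=
    .of_isLocalization _ (Algebra.algebraMapSubmonoid (S ⊗[R] K) q.primeCompl)
  have : Algebra.EssFiniteType K Tq := .comp K (S ⊗[R] K) Tq
  obtain ⟨I, _, Ai, _, _, e', _⟩ :=
    (Algebra.FormallyEtale.iff_exists_algEquiv_prod K Tq).mp inferInstance
  exact isDomain_and_isIntegrallyClosed_of_pi (Localization.AtPrime q) Tq Ai e'.toRingEquiv

end Groth.Agent.Lib.Helper24.ENorm

namespace Groth.Agent.Lib.Helper24.ENorm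
open AlgebraicGeometry CategoryTheory

/-- sections over an affine open of a normal integral scheme form an integrally closed domain -/
theorem isIntegrallyClosed_of_isAffineOpen {X : Scheme.{u}} [IsIntegral X]
    (hX : ∀ x : X, IsIntegrallyClosed (X.presheaf.stalk x)) {U : X.Opens} (hU : IsAffineOpen U)
    [Nonempty U] : IsIntegrallyClosed Γ(X, U) := by
  let inst : ∀ x : PrimeSpectrum Γ(X, U), Algebra Γ(X, U) (X.presheaf.stalk (hU.fromSpec x)) :=
    fun x => TopCat.Presheaf.algebra_section_stalk X.presheaf _
  have (P : Ideal Γ(X, U)) [hP : P.IsPrime] : IsLocalization.AtPrime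
      (X.presheaf.stalk (hU.fromSpec ⟨P, hP⟩)) P :=
    hU.isLocalization_stalk' ⟨P, hP⟩ (hU.isoSpec.inv _).2
  exact IsIntegrallyClosed.of_isLocalization_maximal
    (fun P hP => X.presheaf.stalk (hU.fromSpec ⟨P, hP.isPrime⟩)) (fun P hP => hX _)

/-- stalks of a scheme étale over a normal integral scheme are integrally closed domains -/
theorem stalk_of_etale {X Y : Scheme.{u}} [IsIntegral X]
    (hX : ∀ x : X, IsIntegrallyClosed (X.presheaf.stalk x)) (f : Y ⟶ X) [Etale f] (y : Y) :
    IsDomain (Y.presheaf.stalk y) ∧ IsIntegrallyClosed (Y.presheaf.stalk y) := by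
  obtain ⟨_, ⟨U, hU : IsAffineOpen U, rfl⟩, hfy, -⟩ :=
    X.isBasis_affineOpens.exists_subset_of_mem_open (Set.mem_univ (f y)) isOpen_univ
  obtain ⟨_, ⟨V, hV : IsAffineOpen V, rfl⟩, hyV, hVU⟩ :=
    Y.isBasis_affineOpens.exists_subset_of_mem_open (show y ∈ (f ⁻¹ᵁ U : Set Y) from hfy)
      (f ⁻¹ᵁ U).isOpen
  have e : V ≤ f ⁻¹ᵁ U := hVU
  have : Nonempty U := ⟨⟨f y, hfy⟩⟩
  have hR : IsIntegrallyClosed Γ(X, U) := isIntegrallyClosed_of_isAffineOpen hX hU
  let _ : Algebra Γ(X, U) Γ(Y, V) := (f.appLE U V e).hom.toAlgebra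
  have : Algebra.Etale Γ(X, U) Γ(Y, V) := Etale.etale_appLE f hU hV e
  set q := (hV.primeIdealOf ⟨y, hyV⟩).asIdeal with hq
  let _ : Algebra Γ(Y, V) (Y.presheaf.stalk y) :=
    TopCat.Presheaf.algebra_section_stalk Y.presheaf ⟨y, hyV⟩
  have hloc : IsLocalization.AtPrime (Y.presheaf.stalk y) q := hV.isLocalization_stalk ⟨y, hyV⟩
  obtain ⟨h1, h2⟩ := isDomain_and_isIntegrallyClosed_localization_of_etale Γ(X, U) Γ(Y, V) q
  let eq : Localization.AtPrime q ≃ₐ[Γ(Y, V)] (Y.presheaf.stalk y) :=
    IsLocalization.algEquiv q.primeCompl _ _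
  exact ⟨eq.toRingEquiv.toMulEquiv.isDomain_iff.mp h1, .of_equiv eq.toRingEquiv⟩

end Groth.Agent.Lib.Helper24.ENorm

namespace Groth.Agent.Lib.Helper24.ENorm
open AlgebraicGeometry CategoryTheory

/-- A connected scheme, finite and flat over an integral scheme, all of whose stalks are domains,
is irreducible. -/
theorem irreducibleSpace_of_flat_finite {X Y : Scheme.{u}} [IsIntegral X] (f : Y ⟶ X) [Flat f]
    [IsFinite f] (hY : ∀ y : Y, IsDomain (Y.presheaf.stalk y)) [ConnectedSpace Y] :
    IrreducibleSpace Y := by
  set η := genericPoint X with hη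
  set F : Set Y := f ⁻¹' {η} with hF
  have hFfin : F.Finite := f.finite_preimage_singleton η
  have hFdisc : _root_.IsDiscrete F := f.isDiscrete_preimage_singleton η
  -- Step 1
  have h1 : ∀ y : Y, ∃ ξ ∈ F, ξ ⤳ y := by
    intro y
    obtain ⟨a, ha, hfa⟩ := (Flat.generalizingMap f) (genericPoint_specializes (f y))
    exact ⟨a, hfa, ha⟩
  -- Step 2
  have h2 : ∀ ξ ∈ F, ∀ z : Y, z ⤳ ξ → z = ξ := by
    intro ξ hξ z hz
    have hfz : f z ⤳ f ξ := hz.map f.continuous
    have hξ' : f ξ = η := hξ
    rw [hξ'] at hfz
    have hzF : z ∈ F := (hfz.antisymm (genericPoint_specializes (f z))).eq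
    have := hFdisc.to_subtype
    have hsub : (⟨z, hzF⟩ : F) ⤳ ⟨ξ, hξ⟩ := by
      rw [← Topology.IsInducing.subtypeVal.specializes_iff]
      exact hz
    exact congrArg Subtype.val hsub.eq
  -- Step 3
  have h3 : ∀ y : Y, ∀ ξ ∈ F, ∀ ξ' ∈ F, ξ ⤳ y → ξ' ⤳ y → ξ = ξ' := by
    intro y ξ hξ ξ' hξ' hy hy'
    have := hY y
    set ζ := Y.fromSpecStalk y (⊥ : PrimeSpectrum (Y.presheaf.stalk y)) with hζ
    have hgen : ∀ z : Y, z ⤳ y → ζ ⤳ z := by
      intro z hz
      have : z ∈ Set.range (Y.fromSpecStalk y) := by
        rw [Scheme.range_fromSpecStalk]; exact hz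
      obtain ⟨p, rfl⟩ := this
      apply Specializes.map _ (Y.fromSpecStalk y).continuous
      exact (PrimeSpectrum.le_iff_specializes (⊥ : PrimeSpectrum (Y.presheaf.stalk y)) p).mp bot_le
    rw [← h2 ξ hξ ζ (hgen ξ hy), ← h2 ξ' hξ' ζ (hgen ξ' hy')]
  -- Step 4
  obtain ⟨y₀⟩ : Nonempty Y := inferInstance
  obtain ⟨ξ₀, hξ₀, -⟩ := h1 y₀
  have hclopen : IsClopen (closure {ξ₀}) := by
    refine ⟨isClosed_closure, ?_⟩
    have : (closure {ξ₀})ᶜ = ⋃ ξ ∈ F \ {ξ₀}, closure {ξ} := by
      ext y
      simp only [Set.mem_compl_iff, Set.mem_iUnion, exists_prop, ← specializes_iff_mem_closure]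
      constructor
      · intro hy
        obtain ⟨ξ, hξ, hξy⟩ := h1 y
        refine ⟨ξ, ⟨hξ, ?_⟩, hξy⟩
        rintro rfl
        exact hy hξy
      · rintro ⟨ξ, ⟨hξ, hne⟩, hξy⟩ hy
        exact hne (h3 y ξ hξ ξ₀ hξ₀ hξy hy)
    rw [← isClosed_compl_iff, this]
    exact (hFfin.subset Set.sdiff_subset).isClosed_biUnion fun _ _ => isClosed_closure
  have huniv : closure {ξ₀} = Set.univ :=
    hclopen.eq_univ ⟨ξ₀, subset_closure rfl⟩
  have hirr : IsIrreducible (Set.univ : Set Y) := by
    rw [← huniv]
    exact isIrreducible_singleton.closure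
  exact { isPreirreducible_univ := hirr.isPreirreducible, toNonempty := ⟨y₀⟩ }

end Groth.Agent.Lib.Helper24.ENorm
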