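import Groth.Agent.Lib.Helper24.SmSrcLocal
import Groth.Agent.Lib.Helper14.AlgSpLocP3
import Groth.Agent.Lib.Helper14.AlgSpImm
import Groth.Prelude.Def_AlgSpCov
set_option autoImplicit false

/-!
# `AlgSp.LocP Q` is smooth local on source-and-target (helper24)

for `Q` = flat, locally of finite type, locally of finite presentation.
-/

universe u
open CategoryTheory CategoryTheory.Limits AlgebraicGeometry Opposite Topology

namespace Groth.Agent.Lib.Helper24.AlgSpSmLocal

open AlgSp Groth.Agent.Lib.Helper14.ESL Groth.Agent.Lib.Helper14.AS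
open Groth.Agent.Lib.Helper24.SmSrc

variable {S : Scheme.{u}}

/-- the data making `LocP Q` smooth local on source-and-target -/
structure SmLocal (Q : MorphismProperty Scheme.{u}) : Prop where
  etl : EtLocal Q
  src : SmSrcLocal Q
  le : (@Smooth : MorphismProperty Scheme.{u}) ≤ Q

variable {Q : MorphismProperty Scheme.{u}}

theorem locP_mono {Q Q' : MorphismProperty Scheme.{u}} (h : Q ≤ Q') {X Y : Sp S} {f : X ⟶ Y}
    (hf : LocP Q f) : LocP Q' f := fun _ _ a b k ha hb comm => by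
  exact h _ (hf a b k ha hb comm)

/-- base change of a `LocP Q` morphism from a scheme along a representable etale chart -/
theorem prop_snd_of_locP {X : Sp S} {U₁ U' : Over S} (a₁ : (yon S).obj U₁ ⟶ X) (h₁ : LocP Q a₁)
    (a' : (yon S).obj U' ⟶ X) (ha' : RepWith @Etale a') :
    Q (ha'.rep.fst' a₁).left := by
  have sq := ha'.rep.isPullback' a₁
  have he : RepWith @Etale ((yon S).map (ha'.rep.snd a₁)) :=
    (repWith_yon_map_iff _ _).2 (ha'.property_snd a₁)
  exact h₁ ((yon S).map (ha'.rep.snd a₁)) a' (ha'.rep.fst' a₁) he ha' sq.w.symm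

set_option backward.isDefEq.respectTransparency.types false in
/-- replace a chart square of algebraic spaces by one of schemes -/
theorem exists_scheme_square [Q.IsStableUnderComposition] {X Y U V : Sp S} (hU : IsAlgSpace U)
    (hV : IsAlgSpace V) (hX : IsAlgSpace X) (hY : IsAlgSpace Y) (f : X ⟶ Y) (a : U ⟶ X) (b : V ⟶ Y)
    (h : U ⟶ V)
    (ha : LocP @Smooth a) (hb : LocP @Smooth b) (comm : a ≫ f = h ≫ b) (hh : LocP Q h)
    (v : Points U) :
    ∃ (U₁ V₁ : Over S) (a₁ : (yon S).obj U₁ ⟶ X) (b₁ : (yon S).obj V₁ ⟶ Y) (h₁ : U₁ ⟶ V₁)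
      (u₁ : ↥U₁.left), LocP @Smooth a₁ ∧ LocP @Smooth b₁ ∧ a₁ ≫ f = (yon S).map h₁ ≫ b₁ ∧
      Points.ofPt a₁ u₁ = Points.map a v ∧ Q h₁.left := by
  obtain ⟨V₁, β, hβe, hβs⟩ := hV.atlas
  obtain ⟨U₁, α, h₁, hαe, hαs, commh⟩ := exists_chart_diagram hU h β hβe hβs
  obtain ⟨u₁, hu₁⟩ := ofPt_surjective_of_repWith hαs v
  refine ⟨U₁, V₁, α ≫ a, β ≫ b, h₁, u₁, ?_, ?_, ?_, ?_, hh α β h₁ hαe hβe commh⟩
  · exact locP_comp etLocal_smooth (IsAlgSpace.yon_obj U₁) hU hX α a
      (locP_of_repWith etale_le_smooth (repWith_mono etale_le_smooth hαe)) ha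
  · exact locP_comp etLocal_smooth (IsAlgSpace.yon_obj V₁) hV hY β b
      (locP_of_repWith etale_le_smooth (repWith_mono etale_le_smooth hβe)) hb
  · rw [Category.assoc, comm, ← Category.assoc, commh, Category.assoc]
  · rw [← hu₁, Points.map_ofPt]

set_option backward.isDefEq.respectTransparency.types false in
/-- the locality clause of `IsSmoothLocalST` for `LocP Q` -/
theorem locP_of_smooth_squares (hQ : SmLocal Q) [Q.IsStableUnderComposition]
    [IsZariskiLocalAtSource Q] {X Y : Sp S} (hX : IsAlgSpace X) (hY : IsAlgSpace Y) (f : X ⟶ Y)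
    (H : ∀ x : Points X, ∃ (U V : Sp S) (a : U ⟶ X) (b : V ⟶ Y) (h : U ⟶ V) (v : Points U),
      IsAlgSpace U ∧ IsAlgSpace V ∧ LocP @Smooth a ∧ LocP @Smooth b ∧ a ≫ f = h ≫ b ∧
      Points.map a v = x ∧ LocP Q h) : LocP Q f := by
  intro U' V' a' b' h' ha' hb' comm'
  -- for each point of `U'` a scheme square
  have key : ∀ u : ↥U'.left, ∃ (U₁ V₁ : Over S) (a₁ : (yon S).obj U₁ ⟶ X)
      (b₁ : (yon S).obj V₁ ⟶ Y) (h₁ : U₁ ⟶ V₁)
      (u₁ : ↥U₁.left), LocP @Smooth a₁ ∧ LocP @Smooth b₁ ∧ a₁ ≫ f = (yon S).map h₁ ≫ b₁ ∧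
      Points.ofPt a₁ u₁ = Points.ofPt a' u ∧ Q h₁.left := by
    intro u
    obtain ⟨U, V, a, b, h, v, hU, hV, ha, hb, comm, hv, hh⟩ := H (Points.ofPt a' u)
    obtain ⟨U₁, V₁, a₁, b₁, h₁, u₁, h1, h2, h3, h4, h5⟩ :=
      exists_scheme_square hU hV hX hY f a b h ha hb comm hh v
    exact ⟨U₁, V₁, a₁, b₁, h₁, u₁, h1, h2, h3, h4.trans hv, h5⟩
  choose U₁ V₁ a₁ b₁ h₁ u₁ hsa hsb comm₁ hpt hQh using key
  refine hQ.src.of_family (fun u => ((ha'.rep.pullback (a₁ u))).left)
    (fun u => (ha'.rep.fst' (a₁ u)).left) (fun u => prop_snd_of_locP (a₁ u) (hsa u) a' ha') ?_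
    h'.left ?_
  · intro u
    obtain ⟨w, hw, -⟩ := exists_point_of_isPullback_yon (ha'.rep.isPullback' (a₁ u)) u (u₁ u)
      (hpt u).symm
    exact ⟨u, w, hw⟩
  · intro u
    -- W = U₁ ×_X U'
    have sqW := ha'.rep.isPullback' (a₁ u)
    have hWe : Etale (ha'.rep.snd (a₁ u)).left := ha'.property_snd (a₁ u)
    -- V'' = V₁ ×_Y V'
    have sqV := hb'.rep.isPullback' (b₁ u)
    have hVe : Etale (hb'.rep.snd (b₁ u)).left := hb'.property_snd (b₁ u)
    have hVs : Smooth (hb'.rep.fst' (b₁ u)).left := prop_snd_of_locP (b₁ u) (hsb u) b' hb'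
    -- k : W ⟶ V''
    have compat : (yon S).map (ha'.rep.fst' (a₁ u) ≫ h') ≫ b' =
        (yon S).map (ha'.rep.snd (a₁ u) ≫ h₁ u) ≫ b₁ u := by
      rw [Functor.map_comp, Functor.map_comp, Category.assoc, Category.assoc, ← comm', ← comm₁ u,
        ← Category.assoc, sqW.w, Category.assoc]
    obtain ⟨k, hk⟩ := (yon S).map_surjective (sqV.lift _ _ compat)
    have hk1 : k ≫ hb'.rep.fst' (b₁ u) = ha'.rep.fst' (a₁ u) ≫ h' :=
      (yon S).map_injective (by rw [Functor.map_comp, hk, sqV.lift_fst])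
    have hk2 : k ≫ hb'.rep.snd (b₁ u) = ha'.rep.snd (a₁ u) ≫ h₁ u :=
      (yon S).map_injective (by rw [Functor.map_comp, hk, sqV.lift_snd])
    have s1 : Q ((ha'.rep.snd (a₁ u)).left ≫ (h₁ u).left) := hQ.etl.etale_comp _ _ hWe (hQh u)
    have s2 : Q (k.left ≫ (hb'.rep.snd (b₁ u)).left) := by
      rw [← Over.comp_left, hk2, Over.comp_left]; exact s1
    have s3 : Q k.left := hQ.etl.of_comp_etale _ _ s2 hVe
    have s4 : Q (k.left ≫ (hb'.rep.fst' (b₁ u)).left) :=
      Q.comp_mem _ _ s3 (hQ.le _ _ _ hVs)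
    rw [← Over.comp_left, hk1, Over.comp_left] at s4
    exact s4


theorem locP_smooth_id (X : Sp S) : LocP @Smooth (𝟙 X) := by
  have : MorphismProperty.ContainsIdentities (@Smooth : MorphismProperty Scheme.{u}) :=
    ⟨fun _ => inferInstance⟩
  exact locP_of_repWith etale_le_smooth (repWith_of_isIso @Smooth (𝟙 X))

/-- `LocP Q` is smooth local on source-and-target -/
theorem isSmoothLocalST_locP (hQ : SmLocal Q) [Q.IsStableUnderComposition]
    [Q.IsStableUnderBaseChange] [IsZariskiLocalAtSource Q] :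
    IsSmoothLocalST (LocP Q (S := S)) where
  precomp X Y Z hX hY hZ f g hf hg := locP_comp hQ.etl hX hY hZ f g (locP_mono hQ.le hf) hg
  baseChange X Y X' Y' hX hY hX' hY' f g f' g' sq hg hf :=
    locP_baseChange hQ.etl hX hY hY' f g g' f' sq hf
  locality X Y hX hY f := by
    refine ⟨fun hf x => ⟨X, Y, 𝟙 X, 𝟙 Y, f, x, hX, hY, locP_smooth_id X, locP_smooth_id Y,
      by simp, Points.map_id _, hf⟩, locP_of_smooth_squares hQ hX hY f⟩

theorem smooth_le_flat : (@Smooth : MorphismProperty Scheme.{u}) ≤ @Flat :=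
  fun _ _ f h => by have : Smooth f := h; exact (inferInstance : Flat f)

theorem smooth_le_lfp : (@Smooth : MorphismProperty Scheme.{u}) ≤ @LocallyOfFinitePresentation :=
  fun _ _ f h => by have : Smooth f := h; exact (inferInstance : LocallyOfFinitePresentation f)

theorem smooth_le_lft : (@Smooth : MorphismProperty Scheme.{u}) ≤ @LocallyOfFiniteType :=
  fun _ _ f h => by have : Smooth f := h; exact (inferInstance : LocallyOfFiniteType f)

theorem smLocal_flat : SmLocal @Flat.{u} := ⟨etLocal_flat, smSrcLocal_flat, smooth_le_flat⟩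

theorem smLocal_lfp : SmLocal @LocallyOfFinitePresentation.{u} :=
  ⟨etLocal_lfp, smSrcLocal_locallyOfFinitePresentation, smooth_le_lfp⟩

theorem smLocal_lft : SmLocal @LocallyOfFiniteType.{u} :=
  ⟨etLocal_lft, smSrcLocal_locallyOfFiniteType, smooth_le_lft⟩

set_option backward.isDefEq.respectTransparency.types false in
theorem isSmoothLocalST_flat : IsSmoothLocalST (LocP @Flat (S := S)) :=
  isSmoothLocalST_locP smLocal_flat

set_option backward.isDefEq.respectTransparency.types false in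
theorem isSmoothLocalST_lfp : IsSmoothLocalST (LocP @LocallyOfFinitePresentation (S := S)) :=
  isSmoothLocalST_locP smLocal_lfp

set_option backward.isDefEq.respectTransparency.types false in
theorem isSmoothLocalST_lft : IsSmoothLocalST (LocP @LocallyOfFiniteType (S := S)) :=
  isSmoothLocalST_locP smLocal_lft

end Groth.Agent.Lib.Helper24.AlgSpSmLocal
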