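import Groth.Agent.Lib.Helper24.AlgSpSmLocal
import Groth.Agent.S2805

/-!
# Smoothness is smooth local on the source (helper24)

`p : U' ⟶ U` smooth surjective and `p ≫ h` smooth imply `h` smooth (via S2805: smoothness descends
along flat morphisms of the source, given local finite presentation, which is `SmSrcLocal` for lfp).
Consequence: `LocP @Smooth` is smooth local on source-and-target for algebraic spaces.
-/

universe u
open CategoryTheory CategoryTheory.Limits AlgebraicGeometry MorphismProperty

namespace Groth.Agent.Lib.Helper24.SmSrc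

set_option backward.isDefEq.respectTransparency.types false in
theorem smSrcLocal_smooth : SmSrcLocal @Smooth.{u} := by
  intro U' U V p h hp hs hph
  have hp' : Smooth p := hp
  have hs' : Surjective p := hs
  have hph' : Smooth (p ≫ h) := hph
  have hlfp : LocallyOfFinitePresentation h :=
    smSrcLocal_locallyOfFinitePresentation p h hp hs
      (inferInstance : LocallyOfFinitePresentation (p ≫ h))
  have key : ∀ u : U, ∃ W : U.Opens, u ∈ W ∧ Smooth (W.ι ≫ h) := by
    intro u
    obtain ⟨u', rfl⟩ := p.surjective u
    have hfl : (p.stalkMap u').hom.Flat := Flat.stalkMap p u'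
    exact Groth.Agent.S2805.result h (p ≫ h) p rfl u' hfl
      ⟨⊤, trivial, (inferInstance : Smooth ((⊤ : U'.Opens).ι ≫ p ≫ h))⟩
  choose W hW hWs using key
  have hsup : iSup W = ⊤ := by
    rw [eq_top_iff]
    intro u _
    exact TopologicalSpace.Opens.mem_iSup.2 ⟨u, hW u⟩
  exact IsZariskiLocalAtSource.of_iSup_eq_top (P := @Smooth) W hsup hWs

end Groth.Agent.Lib.Helper24.SmSrc

namespace Groth.Agent.Lib.Helper24.AlgSpSmLocal

open AlgSp Groth.Agent.Lib.Helper14.ESL Groth.Agent.Lib.Helper14.AS
open Groth.Agent.Lib.Helper24.SmSrc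

variable {S : Scheme.{u}}

theorem smLocal_smooth : SmLocal @Smooth.{u} := ⟨etLocal_smooth, smSrcLocal_smooth, le_rfl⟩

set_option backward.isDefEq.respectTransparency.types false in
theorem isSmoothLocalST_smooth : IsSmoothLocalST (LocP @Smooth (S := S)) :=
  isSmoothLocalST_locP smLocal_smooth

end Groth.Agent.Lib.Helper24.AlgSpSmLocal
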