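import Groth.Agent.Lib.Helper24.AlgStLocQ5
import Groth.Agent.Lib.Helper24.AlgSpSmLocal
import Groth.Agent.Lib.Helper14.NoethDescent
set_option autoImplicit false
open CategoryTheory AlgebraicGeometry Opposite
universe w₁ v₁ w₂ v₂ w₃ v₃ w₄ v₄ u
set_option backward.isDefEq.respectTransparency false
set_option backward.isDefEq.respectTransparency.types false

/-! Refined chart squares for `LocQ` and locally Noetherian stacks (S12998, S12999). -/

namespace Groth.Agent.Lib.Helper24.AlgStLocQ6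
open Groth.Agent.Lib.Helper24.FibCatFpMap
open Groth.Agent.Lib.Helper24.FibCatEquiv Groth.Agent.Lib.Helper24.FibCatFpGen
open Groth.Agent.Lib.Helper24.AlgStRep
open Groth.Agent.Lib.Helper24.AlgStBridge Groth.Agent.Lib.Helper24.AlgStBoot
open Groth.Agent.Lib.Helper24.AlgStRepS
open Groth.Agent.Lib.Helper24.AlgStSchLocal
open Groth.Agent.Lib.Helper24.AlgStGC
open Groth.Agent.Lib.Helper24.AlgStProps Groth.Agent.Lib.Helper24.AlgStSmooth
open Groth.Agent.Lib.Helper24.AlgStFpAlg Groth.Agent.Lib.Helper24.AlgStSmLoc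
open Groth.Agent.Lib.Helper24.AlgStEqv Groth.Agent.Lib.Helper24.PshBridge
open Groth.Agent.Lib.Helper24.AlgStLocQ1 Groth.Agent.Lib.Helper24.FibCatFpMapL
open Groth.Agent.Lib.Helper24.AlgStLocQ2 Groth.Agent.Lib.Helper24.FibCatFpLiftIso
open Groth.Agent.Lib.Helper24.AlgStLocQ3 Groth.Agent.Lib.Helper24.AlgStProdAlg
open Groth.Agent.Lib.Helper24.AlgStLocQ4 Groth.Agent.Lib.Helper24.AlgStLocQ5
open Groth.Agent.Lib.Helper24.AlgStCalc Groth.Agent.Lib.Helper24.AlgStDiag
open Groth.Agent.Lib.Helper24.AlgStCalc2 Groth.Agent.Lib.Helper24.AlgStDescent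
open Groth.Agent.Lib.Helper24.FibCatOverMap Groth.Agent.Lib.Helper24.AlgStAtlas
open Groth.Agent.Lib.Helper24.FibCatGraph Groth.Agent.Lib.Helper24.AlgStDiagLft
open Groth.Agent.Lib.Helper24.FibCatFpSwap Groth.Agent.Lib.Helper24.AlgStProd
open Groth.Agent.Lib.Helper24.AlgSpSmLocal
open CategoryTheory.Limits

variable {S : Scheme.{u}}

section
variable {P : MorphismProperty (AlgSp.Sp S)}
variable {𝒳 𝒴 : AlgSt.Cat S} (h𝒳 : AlgSt.IsAlgStack Scheme.fppfPrecoverage 𝒳)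
  (h𝒴 : AlgSt.IsAlgStack Scheme.fppfPrecoverage 𝒴) (f : 𝒳 ⥤ᵇ 𝒴)

include h𝒳 h𝒴 in
/-- over given smooth scheme charts `x` of the source and `y` of the target there is a chart
square refining `x` on which `LocQ P f` can be read -/
theorem exists_refined_square (hP : AlgSp.IsSmoothLocalST P) (hf : AlgSt.LocQ P f) {U V : Over S}
    (x : FibCat.overCat U ⥤ᵇ 𝒳) (hx : AlgSt.RepByAlgSpWith (AlgSp.LocP @Smooth) x)
    (y : FibCat.overCat V ⥤ᵇ 𝒴) (hy : AlgSt.RepByAlgSpWith (AlgSp.LocP @Smooth) y) :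
    ∃ (W : Over S) (p : W ⟶ U) (h : W ⟶ V), Smooth p.left ∧
      (AlgSt.RepByAlgSpWith AlgSp.IsSurjectiveMor y → Surjective p.left) ∧
      P ((AlgSp.yon S).map h) ∧
      Nonempty (BasedFunctor.comp (BasedFunctor.comp (AlgSt.overMap p) x) f ≅
        BasedFunctor.comp (AlgSt.overMap h) y) := by
  have hPi := phat_respectsIso' hP
  have hUalg : AlgSt.IsAlgStack Scheme.fppfPrecoverage (FibCat.overCat U) :=
    isAlgStack_of_repByAlgSp (repByAlgSp_overCat U)
  obtain ⟨W, x', h, α', hx', hℓ', -, hsurj⟩ :=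
    exists_square hUalg h𝒴 (BasedFunctor.comp x f) y hy
  obtain ⟨p, ⟨i⟩⟩ := exists_iso_overMapC x'
  have hp : AlgSt.RepByAlgSpWith (AlgSp.LocP @Smooth) (AlgSt.overMap p) :=
    repByAlgSpWith_of_iso _ i hx'
  have hp1 : Smooth p.left :=
    AlgSp.locP_yon_map ((repByAlgSpWith_overMap_iff _ good_smooth p).1 hp)
  refine ⟨W, p, h, hp1, ?_, ?_, ⟨(whiskerRightIso (whiskerRightIso i.symm x) f).trans α'⟩⟩
  · intro hy'
    have := repByAlgSpWith_of_iso _ i (hsurj hy')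
    exact surjective_of_isSurjectiveMor_yon_map p
      ((repByAlgSpWith_overMap_iff _ good_isSurjectiveMor p).1 this)
  · -- the chart `c = ℓ' ≫ mapL x f y` of `fp f y`
    have hc : AlgSt.RepByAlgSpWith (AlgSp.LocP @Smooth)
        (BasedFunctor.comp (FibCat.fpLift x' (AlgSt.overMap h) α') (mapL x f y)) :=
      repByAlgSpWith_comp (StkFpCrit.isFibGrpd_overForget W)
        (isFibGrpd_fp _ _ (StkFpCrit.isFibGrpd_overForget U) (StkFpCrit.isFibGrpd_overForget V)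
          h𝒴.isStack.1)
        (isFibGrpd_fp _ _ h𝒳.isStack.1 (StkFpCrit.isFibGrpd_overForget V) h𝒴.isStack.1)
        _ good_smooth.nice stableComp_smooth _ _ hℓ' (repByAlgSpWith_mapL _ x f y hx)
    have := pt_of_locQ h𝒳 h𝒴 f hP hf (repByAlgSp_overCat W) (repByAlgSp_overCat V) y hy _ hc
    exact (pt_overMap_iff hPi h).1 (PT.of_iso (Iso.refl _) this)

end

section Noeth

theorem lfp_of_lft_of_isLocallyNoetherian {X Y : Scheme.{u}} (g : X ⟶ Y) [LocallyOfFiniteType g]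
    [IsLocallyNoetherian Y] : LocallyOfFinitePresentation g := by
  constructor
  intro U hU V hV e
  have : IsNoetherianRing Γ(Y, U) := IsLocallyNoetherian.component_noetherian ⟨U, hU⟩
  exact RingHom.FinitePresentation.of_finiteType.1 (g.finiteType_appLE hU hV e)

variable {𝒳 𝒴 : AlgSt.Cat S} (h𝒳 : AlgSt.IsAlgStack Scheme.fppfPrecoverage 𝒳)
  (h𝒴 : AlgSt.IsAlgStack Scheme.fppfPrecoverage 𝒴) (f : 𝒳 ⥤ᵇ 𝒴)

include h𝒳 h𝒴 in
/-- S12998 -/
theorem smoothLocally_noeth_of_locQ_lft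
    (hf : AlgSt.LocQ (AlgSp.LocP @LocallyOfFiniteType) f)
    (hN : AlgSt.SmoothLocally (fun T ↦ IsLocallyNoetherian T) 𝒴) :
    AlgSt.SmoothLocally (fun T ↦ IsLocallyNoetherian T) 𝒳 := by
  intro U x hx
  obtain ⟨V, y, hy, hy'⟩ := h𝒴.atlas
  have hV : IsLocallyNoetherian V.left := hN V y hy
  obtain ⟨W, p, h, hp, hps, hh, -⟩ :=
    exists_refined_square h𝒳 h𝒴 f isSmoothLocalST_lft hf x hx y hy
  have hh' : LocallyOfFiniteType h.left := AlgSp.locP_yon_map hh
  have hW : IsLocallyNoetherian W.left := LocallyOfFiniteType.isLocallyNoetherian h.left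
  have := hps hy'
  exact Groth.Agent.Lib.Helper14.AS.isLocallyNoetherian_of_flat_surjective p.left

theorem locP_yon_map_of {Q : MorphismProperty Scheme.{u}}
    (hQ : Groth.Agent.Lib.Helper14.AS.EtLocal Q) {U V : Over S} {g : U ⟶ V} (h : Q g.left) :
    AlgSp.LocP Q ((AlgSp.yon S).map g) :=
  Groth.Agent.Lib.Helper14.AS.locP_of_chart hQ ((AlgSp.yon S).map g) (𝟙 _) (𝟙 _) g
    (AlgSp.repWith_id _ U) (AlgSp.repWith_id _ U) (AlgSp.repWith_id _ V) (by simp) h

include h𝒳 h𝒴 in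
/-- S12999 -/
theorem locQ_lfp_of_lft (hN : AlgSt.SmoothLocally (fun T ↦ IsLocallyNoetherian T) 𝒴)
    (hf : AlgSt.LocQ (AlgSp.LocP @LocallyOfFiniteType) f) :
    AlgSt.LocQ (AlgSp.LocP @LocallyOfFinitePresentation) f := by
  refine locQ_of_forall h𝒳 h𝒴 f fun U V x y h α hx hy hℓ => ?_
  have h1 : AlgSp.LocP @LocallyOfFiniteType ((AlgSp.yon S).map h) :=
    (locQ_iff_forall h𝒳 h𝒴 f isSmoothLocalST_lft).1 hf U V x y h α hx hy hℓ
  have : LocallyOfFiniteType h.left := AlgSp.locP_yon_map h1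
  have : IsLocallyNoetherian V.left := hN V y hy
  have : LocallyOfFinitePresentation h.left := lfp_of_lft_of_isLocallyNoetherian h.left
  exact locP_yon_map_of Groth.Agent.Lib.Helper14.AS.etLocal_lfp this

end Noeth

end Groth.Agent.Lib.Helper24.AlgStLocQ6
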