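import Groth.Agent.Lib.Helper24.SmLocalST
import Groth.Agent.Lib.Helper14.AlgSpEtaleMor
import Groth.Agent.Lib.Helper14.FpqcBase4

/-!
# Formal consequences of etale-smooth locality on source-and-target (helper24)
-/

universe u
open CategoryTheory CategoryTheory.Limits AlgebraicGeometry Opposite Topology

namespace Groth.Agent.Lib.Helper24.EtSmLocalST

open AlgSp Groth.Agent.Lib.Helper14.ESL Groth.Agent.Lib.Helper14.AS
open Groth.Agent.Lib.Helper24.AlgSpSmLocal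

variable {S : Scheme.{u}} {P : MorphismProperty (Sp S)}

theorem isEtaleMor_id (X : Sp S) : IsEtaleMor (𝟙 X) := fun U φ hφ => by
  rwa [Category.comp_id]

theorem locP_smooth_of_isEtaleMor {X Y : Sp S} {g : X ⟶ Y} (hg : IsEtaleMor g) :
    LocP @Smooth g :=
  locP_mono etale_le_smooth (locP_etale_of_isEtaleMor hg)

theorem isLocalOnSource (hP : IsEtaleSmoothLocalST P) :
    IsLocalOnSource (IsEtCover (S := S)) P := by
  intro ι X Xi g hX hXi hcov Y f hY
  constructor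
  · intro hf i
    exact hP.precomp (hXi i) hX hY (g i) f (hcov.1 i) hf
  · intro H
    refine (hP.locality hX hY f).2 fun x => ?_
    obtain ⟨i, v, hv⟩ := hcov.2 x
    refine ⟨Y, X, Xi i, 𝟙 Y, 𝟙 X, f, g i, v, hY, hX, hXi i, locP_smooth_id Y,
      IsPullback.of_horiz_isIso ⟨by simp⟩, hcov.1 i, ?_, H i⟩
    rw [Category.comp_id]
    exact hv

theorem isLocalOnBase (hP : IsEtaleSmoothLocalST P) :
    IsLocalOnBase (IsSmCover (S := S)) P := by
  intro ι Y Yi g hY hYi hcov X f hX Xi p q hXi hsq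
  constructor
  · intro hf i
    exact hP.baseChange hX hY (hXi i) (hYi i) f (g i) (p i) (q i) (hsq i) (hcov.1 i) hf
  · intro H
    refine (hP.locality hX hY f).2 fun x => ?_
    obtain ⟨i, y, hy⟩ := hcov.2 (Points.map f x)
    obtain ⟨z, hz1, hz2⟩ := points_exists_of_isPullback (hsq i) x y hy.symm
    refine ⟨Yi i, Xi i, Xi i, g i, q i, p i, 𝟙 _, z, hYi i, hXi i, hXi i, hcov.1 i, hsq i,
      isEtaleMor_id _, ?_, ?_⟩
    · rw [Category.id_comp]
      exact hz1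
    · rw [Category.id_comp]
      exact H i

/-- the graph construction for an etale `g : Y ⟶ Z` and `f : X ⟶ Y` -/
theorem graph_data {X Y Z : Sp S} (hX : IsAlgSpace X) (hY : IsAlgSpace Y) (hZ : IsAlgSpace Z)
    (f : X ⟶ Y) (g : Y ⟶ Z) (hg : IsEtaleMor g) :
    ∃ (W : Sp S) (p : W ⟶ X) (q : W ⟶ Y) (e : X ⟶ W), IsAlgSpace W ∧
      IsPullback p q (f ≫ g) g ∧ IsEtaleMor e ∧ e ≫ p = 𝟙 X ∧ e ≫ q = f := by
  have sq := IsPullback.of_hasPullback (f ≫ g) g
  have hW : IsAlgSpace (pullback (f ≫ g) g) :=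
    isAlgSpace_of_isPullback (repDiag_of_isAlgSpace hZ) hX hY sq
  have hp : IsEtaleMor (pullback.fst (f ≫ g) g) :=
    isEtaleMor_of_isPullback hY hZ hX sq.flip hg
  have h1 : pullback.lift (𝟙 X) f (by simp) ≫ pullback.fst (f ≫ g) g = 𝟙 X :=
    pullback.lift_fst _ _ _
  have h2 : pullback.lift (𝟙 X) f (by simp) ≫ pullback.snd (f ≫ g) g = f :=
    pullback.lift_snd _ _ _
  refine ⟨_, _, _, pullback.lift (𝟙 X) f (by simp), hW, sq, ?_, h1, h2⟩
  refine isEtaleMor_of_comp hW (h := pullback.fst (f ≫ g) g) ?_ hp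
  rw [h1]
  exact isEtaleMor_id X

theorem postcomp (hP : IsEtaleSmoothLocalST P) {X Y Z : Sp S} (hX : IsAlgSpace X)
    (hY : IsAlgSpace Y) (hZ : IsAlgSpace Z) (f : X ⟶ Y) (g : Y ⟶ Z) (hf : P f)
    (hg : IsEtaleMor g) : P (f ≫ g) := by
  obtain ⟨W, p, q, e, hW, sq, he, h1, h2⟩ := graph_data hX hY hZ f g hg
  refine (hP.locality hX hZ (f ≫ g)).2 fun x => ?_
  refine ⟨Y, W, X, g, p, q, e, x, hY, hW, hX, locP_smooth_of_isEtaleMor hg, sq, he, ?_, ?_⟩
  · rw [h1]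
    exact Points.map_id x
  · rw [h2]
    exact hf

theorem of_postcomp (hP : IsEtaleSmoothLocalST P) {X Y Z : Sp S} (hX : IsAlgSpace X)
    (hY : IsAlgSpace Y) (hZ : IsAlgSpace Z) (f : X ⟶ Y) (g : Y ⟶ Z) (hg : IsEtaleMor g)
    (hfg : P (f ≫ g)) : P f := by
  obtain ⟨W, p, q, e, hW, sq, he, h1, h2⟩ := graph_data hX hY hZ f g hg
  have hq : P q := hP.baseChange hX hZ hW hY (f ≫ g) g q p sq (locP_smooth_of_isEtaleMor hg) hfg
  have := hP.precomp hX hW hY e q he hq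
  rwa [h2] at this

end Groth.Agent.Lib.Helper24.EtSmLocalST
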