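import Groth.Agent.Lib.Helper14.AlgSpLocP2
set_option autoImplicit false
open CategoryTheory AlgebraicGeometry Opposite
universe u
set_option backward.isDefEq.respectTransparency false
set_option backward.isDefEq.respectTransparency.types false

/-! A monomorphism of sheaves which is locally of finite type (etale locally) is unramified. -/

namespace Groth.Agent.Lib.Helper24.AlgSpMonoUnram
open Groth.Agent.Lib.Helper14.AS
open CategoryTheory.Limits AlgSp

variable {S : Scheme.{u}}

/-- The kernel ideal sheaf of `Spec.map φ` is nilpotent if `ker φ` is (after helper7). -/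
theorem ker_SpecMap_pow_eq_bot {R S : CommRingCat.{u}} (φ : R ⟶ S) (n : ℕ)
    (h : RingHom.ker φ.hom ^ n = ⊥) : (Spec.map φ).ker ^ n = ⊥ := by
  apply Scheme.IdealSheafData.ext_of_isAffine
  rw [Scheme.IdealSheafData.ideal_pow, Pi.pow_apply, Scheme.Hom.ker_apply,
    Scheme.IdealSheafData.ideal_bot, Pi.bot_apply]
  have e : RingHom.ker ((Spec.map φ).app ⊤).hom =
      Ideal.comap (Scheme.ΓSpecIso R).commRingCatIsoToRingEquiv (RingHom.ker φ.hom) := by
    ext x
    rw [Ideal.mem_comap, RingHom.mem_ker, RingHom.mem_ker]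
    have h1 := Scheme.ΓSpecIso_naturality φ
    have h2 : (Scheme.ΓSpecIso S).hom.hom (((Spec.map φ).app ⊤).hom x) =
        φ.hom ((Scheme.ΓSpecIso R).hom.hom x) := by
      exact congrArg (fun f => f.hom x) h1
    change _ ↔ φ.hom ((Scheme.ΓSpecIso R).hom.hom x) = 0
    rw [← h2]
    constructor
    · intro hx; rw [hx, map_zero]
    · intro hx
      have hinj : Function.Injective (Scheme.ΓSpecIso S).hom.hom :=
        (ConcreteCategory.bijective_of_isIso (Scheme.ΓSpecIso S).hom).1
      exact hinj (by rw [hx, map_zero])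
  change RingHom.ker ((Spec.map φ).app ⊤).hom ^ n = ⊥
  rw [e, ← Ideal.map_symm, ← Ideal.map_pow, h, Ideal.map_bot]

/-- a monomorphism is formally unramified, etale locally on the source and target -/
theorem locP_formallyUnramified_of_mono {F G : Sp S} (f : F ⟶ G) [Mono f] :
    LocP @FormallyUnramified f := by
  intro U V a b h ha hb comm
  refine FormallyUnramified.of_hom_ext h.left (fun R S' φ hφ hker g₁ g₂ hi hgf => ?_)
  have hU : U.hom = h.left ≫ V.hom := (Over.w h).symm
  let Z : Over S := Over.mk (g₁ ≫ U.hom)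
  let G₁ : Z ⟶ U := Over.homMk g₁ rfl
  let G₂ : Z ⟶ U := Over.homMk g₂ (by
    change g₂ ≫ U.hom = g₁ ≫ U.hom
    rw [hU, ← Category.assoc, ← Category.assoc, hgf])
  have hG : G₁ ≫ h = G₂ ≫ h := Over.OverMorphism.ext hgf
  have key : (yon S).map G₁ ≫ a = (yon S).map G₂ ≫ a := by
    rw [← cancel_mono f, Category.assoc, Category.assoc, comm, ← Category.assoc, ← Category.assoc,
      ← Functor.map_comp, ← Functor.map_comp, hG]
  let t : (yon S).obj Z ⟶ F := (yon S).map G₁ ≫ a
  have hr := ha.rep
  have hsnd : Etale (hr.snd t).left := ha.property_snd t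
  have c₁ : (yon S).map G₁ ≫ a = (yon S).map (𝟙 Z) ≫ t := by simp [t]
  have c₂ : (yon S).map G₂ ≫ a = (yon S).map (𝟙 Z) ≫ t := by rw [← key]; simp [t]
  let σ₁ := hr.lift ((yon S).map G₁) (𝟙 Z) c₁
  let σ₂ := hr.lift ((yon S).map G₂) (𝟙 Z) c₂
  have hσ : σ₁ = σ₂ := by
    have h1 : σ₁ ≫ hr.snd t = 𝟙 Z := hr.lift_snd _ _ _
    have h2 : σ₂ ≫ hr.snd t = 𝟙 Z := hr.lift_snd _ _ _
    let Z' : Over S := Over.mk (Spec.map φ ≫ Z.hom)
    let I : Z' ⟶ Z := Over.homMk (Spec.map φ) rfl
    have hI : I ≫ G₁ = I ≫ G₂ := Over.OverMorphism.ext hi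
    have hIσ : I ≫ σ₁ = I ≫ σ₂ := by
      apply hr.hom_ext
      · rw [Functor.map_comp, Functor.map_comp, Category.assoc, Category.assoc, hr.lift_fst,
          hr.lift_fst, ← Functor.map_comp, ← Functor.map_comp, hI]
      · rw [Category.assoc, Category.assoc, h1, h2]
    have : IsClosedImmersion (Spec.map φ) := IsClosedImmersion.spec_of_surjective φ hφ
    have hnil : IsNilpotent (Spec.map φ).ker := ⟨2, ker_SpecMap_pow_eq_bot φ 2 hker⟩
    have hleft : σ₁.left = σ₂.left := by
      apply FormallyUnramified.hom_ext (Spec.map φ) hnil (hr.snd t).left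
      · exact congrArg (fun m => m.left) hIσ
      · have e1 := congrArg (fun m => m.left) h1
        have e2 := congrArg (fun m => m.left) h2
        exact e1.trans e2.symm
    exact Over.OverMorphism.ext hleft
  have e1 : (yon S).map σ₁ ≫ hr.fst t = (yon S).map G₁ := hr.lift_fst _ _ _
  have e2 : (yon S).map σ₂ ≫ hr.fst t = (yon S).map G₂ := hr.lift_fst _ _ _
  rw [hσ, e2] at e1
  have := (yon S).map_injective e1
  exact (congrArg (fun m => m.left) this).symm

/-- a monomorphism locally of finite type is unramified -/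
theorem locP_unramified_of_mono {F G : Sp S} (f : F ⟶ G) [Mono f]
    (hf : LocP @LocallyOfFiniteType f) : LocP (@LocallyOfFiniteType ⊓ @FormallyUnramified) f :=
  fun _ _ a b h ha hb comm =>
    ⟨hf a b h ha hb comm, locP_formallyUnramified_of_mono f a b h ha hb comm⟩

end Groth.Agent.Lib.Helper24.AlgSpMonoUnram
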