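import Mathlib.AlgebraicGeometry.AffineTransitionLimit
import Mathlib.AlgebraicGeometry.Morphisms.Affine

set_option autoImplicit false

namespace Groth.Agent.Lib.Helper24

open CategoryTheory Limits AlgebraicGeometry

universe u

variable {I : Type u} [Category.{u} I] [IsCofiltered I] {S : Scheme.{u}} (D : I ⥤ Scheme.{u})
  (t : D ⟶ (Functor.const I).obj S) (c : Cone D)

/-- The structure map of the limit does not depend on the stage. -/
lemma limOver_structure_eq (i j : I) :
    c.π.app i ≫ t.app i = c.π.app j ≫ t.app j := by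
  obtain ⟨k, a, b, -⟩ := IsCofilteredOrEmpty.cone_objs i j
  have h1 : c.π.app k ≫ t.app k = c.π.app i ≫ t.app i := by
    rw [← c.w a, Category.assoc]
    congr 1
    simp
  have h2 : c.π.app k ≫ t.app k = c.π.app j ≫ t.app j := by
    rw [← c.w b, Category.assoc]
    congr 1
    simp
  rw [← h1, h2]

omit [IsCofiltered I] in
lemma limOver_map_comp_app {i j : I} (a : i ⟶ j) : D.map a ≫ t.app j = t.app i := by
  simp

variable (hc : IsLimit c) [∀ {i j : I} (f : i ⟶ j), IsAffineHom (D.map f)]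
  [∀ i, CompactSpace (D.obj i)] [∀ i, QuasiSeparatedSpace (D.obj i)]

include hc in
/-- If the preimage of an affine open `U` of the base in the limit is affine, then the preimage in
the stages is eventually affine. -/
lemma limOver_exists_isAffineOpen_preimage [QuasiSeparatedSpace S] (i₀ : I) (U : S.Opens)
    (hU : IsAffineOpen U) (hW : IsAffineOpen ((c.π.app i₀ ≫ t.app i₀) ⁻¹ᵁ U)) :
    ∃ j : I, ∀ (i : I) (_ : i ⟶ j), IsAffineOpen (t.app i ⁻¹ᵁ U) := by
  obtain ⟨i, V, hV, hVW⟩ := exists_isAffineOpen_preimage_eq D c hc _ hW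
  have hV' : c.π.app i ⁻¹ᵁ (t.app i ⁻¹ᵁ U) = (c.π.app i₀ ≫ t.app i₀) ⁻¹ᵁ U := by
    rw [← Scheme.Hom.comp_preimage, limOver_structure_eq D t c i i₀]
  have hqc : QuasiCompact (t.app i) := quasiCompact_of_compactSpace (Y := S) (t.app i)
  have hcV' : IsCompact ((t.app i ⁻¹ᵁ U : (D.obj i).Opens) : Set (D.obj i)) :=
    QuasiCompact.isCompact_preimage (f := t.app i) _ U.2 hU.isCompact
  obtain ⟨j, fji, hj⟩ := exists_map_preimage_eq_map_preimage D c hc hV.isCompact hcV'
    (hVW.trans hV'.symm)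
  refine ⟨j, fun i' a => ?_⟩
  have h1 : t.app i' ⁻¹ᵁ U = D.map (a ≫ fji) ⁻¹ᵁ V := by
    rw [Functor.map_comp, Scheme.Hom.comp_preimage, hj, ← Scheme.Hom.comp_preimage,
      ← Scheme.Hom.comp_preimage, Category.assoc, limOver_map_comp_app, limOver_map_comp_app]
  rw [h1]
  exact hV.preimage _

end Groth.Agent.Lib.Helper24
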