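import Mathlib
import Groth.Agent.S2535

/-!
# Geometric reducedness from finite purely inseparable extensions (helper24)
-/

set_option autoImplicit false
universe u
open CategoryTheory CategoryTheory.Limits AlgebraicGeometry Opposite TensorProduct

namespace Groth.Agent.Lib.Helper24.GeomRedPI

/-- If `X_{k'}` is reduced for every finite purely inseparable extension `k'/k`, then `X` is
geometrically reduced over `k`. -/
theorem geometricallyReduced_of_forall_finite_pi {k : Type u} [Field k] {U : Scheme.{u}}
    (f : U ⟶ Spec (CommRingCat.of k))
    (h : ∀ (k' : Type u) [Field k'] [Algebra k k'], Module.Finite k k' → IsPurelyInseparable k k' →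
      IsReduced (FBase.bc f k')) : GeometricallyReduced f := by
  let L : IntermediateField k (AlgebraicClosure k) := perfectClosure k (AlgebraicClosure k)
  haveI : IsReduced (FBase.bc f L) := by
    refine @IsReduced.of_openCover _ (Scheme.Pullback.openCoverOfLeft U.affineCover f
      (Spec.map (CommRingCat.ofHom (algebraMap k L)))) fun i => ?_
    show IsReduced (pullback (U.affineCover.f i ≫ f) (Spec.map (CommRingCat.ofHom (algebraMap k L))))
    obtain ⟨A, _, _, -, hA⟩ := Groth.Agent.S2535.affine_bc (U.affineCover.X i) (U.affineCover.f i ≫ f)
    rw [hA L]
    have h1 : _root_.IsReduced (L ⊗[k] A) := by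
      apply Groth.Agent.Lib.Helper6.isReduced_of_forall_finite
      intro F hF
      have hpi : IsPurelyInseparable k F := IsPurelyInseparable.tower_bot k F L
      have h2 : IsReduced (pullback f (Spec.map (CommRingCat.ofHom (algebraMap k F)))) := h F hF hpi
      have hoi : IsOpenImmersion ((Scheme.Pullback.openCoverOfLeft U.affineCover f
          (Spec.map (CommRingCat.ofHom (algebraMap k F)))).f i) :=
        Scheme.Cover.map_prop (Scheme.Pullback.openCoverOfLeft U.affineCover f
          (Spec.map (CommRingCat.ofHom (algebraMap k F)))) i
      have h3 : IsReduced (pullback (U.affineCover.f i ≫ f)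
          (Spec.map (CommRingCat.ofHom (algebraMap k F)))) :=
        @isReduced_of_isOpenImmersion _ _ _ hoi h2
      have h4 : _root_.IsReduced (A ⊗[k] F) := (hA F).mp h3
      exact isReduced_of_injective (Algebra.TensorProduct.comm k F A).toAlgHom
        (Algebra.TensorProduct.comm k F A).injective
    exact isReduced_of_injective (Algebra.TensorProduct.comm k A L).toAlgHom
      (Algebra.TensorProduct.comm k A L).injective
  exact Groth.Agent.S2535.result (Ω := L) f

end Groth.Agent.Lib.Helper24.GeomRedPI
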