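import Mathlib
set_option autoImplicit false
universe u
open CategoryTheory CategoryTheory.Limits AlgebraicGeometry

/-! A property of morphisms of schemes which is Zariski local on the target and descends along
fppf covers can be checked after base change along a jointly surjective family of flat, locally
finitely presented morphisms. -/

namespace Groth.Agent.Lib.Helper24.FppfLocal

set_option backward.isDefEq.respectTransparency.types false in
theorem of_fppf_local (P : MorphismProperty Scheme.{u}) [IsZariskiLocalAtTarget P]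
    [P.DescendsAlong (@Surjective ⊓ @Flat ⊓ @LocallyOfFinitePresentation)]
    {X T : Scheme.{u}} (ρ : X ⟶ T)
    (h : ∀ x : T, ∃ (W X' : Scheme.{u}) (w : W ⟶ T) (a : X' ⟶ X) (b : X' ⟶ W),
      IsPullback a b ρ w ∧ Flat w ∧ LocallyOfFinitePresentation w ∧ x ∈ Set.range w ∧ P b) :
    P ρ := by
  refine IsZariskiLocalAtTarget.of_forall_exists_morphismRestrict (P := P) fun x => ?_
  obtain ⟨W, X', w, a, b, sq, hF, hL, hx, hb⟩ := h x
  have hopen : IsOpenMap w := w.isOpenMap
  let O : T.Opens := ⟨Set.range w, hopen.isOpen_range⟩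
  refine ⟨O, hx, ?_⟩
  let w' : W ⟶ O := IsOpenImmersion.lift O.ι w (by rw [Scheme.Opens.range_ι]; rfl)
  have hw' : w' ≫ O.ι = w := IsOpenImmersion.lift_fac _ _ _
  have h1 : Flat w' := by
    refine MorphismProperty.of_postcomp (W := @Flat) (W' := @IsOpenImmersion) w' O.ι
      inferInstance ?_
    rw [hw']
    exact hF
  have h2 : LocallyOfFinitePresentation w' := by
    refine MorphismProperty.of_postcomp (W := @LocallyOfFinitePresentation)
      (W' := @IsOpenImmersion) w' O.ι inferInstance ?_
    rw [hw']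
    exact hL
  have h3 : Surjective w' := by
    refine ⟨fun y => ?_⟩
    obtain ⟨z, hz⟩ := y.2
    refine ⟨z, ?_⟩
    apply O.ι.injective
    have : (w' ≫ O.ι) z = w z := by rw [hw']
    simp only [Scheme.Hom.comp_apply] at this
    exact this.trans hz
  have sqR := isPullback_morphismRestrict ρ O
  let a' : X' ⟶ (ρ ⁻¹ᵁ O : Scheme.{u}) := sqR.lift (b ≫ w') a (by
    rw [Category.assoc, hw', sq.w])
  have ha'1 : a' ≫ (ρ ∣_ O) = b ≫ w' := sqR.lift_fst _ _ _
  have ha'2 : a' ≫ (ρ ⁻¹ᵁ O).ι = a := sqR.lift_snd _ _ _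
  have sq' : IsPullback b a' w' (ρ ∣_ O) := by
    refine IsPullback.of_bot ?_ ha'1.symm sqR
    rw [ha'2, hw']
    exact sq.flip
  exact MorphismProperty.of_isPullback_of_descendsAlong
    (Q := @Surjective ⊓ @Flat ⊓ @LocallyOfFinitePresentation) sq' ⟨⟨h3, h1⟩, h2⟩ hb

end Groth.Agent.Lib.Helper24.FppfLocal
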