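import Groth.Agent.Lib.Helper24.DescSL
import Groth.Agent.Lib.Helper24.FppfLocal
set_option autoImplicit false
set_option linter.unusedSectionVars false
universe u
open CategoryTheory CategoryTheory.Limits AlgebraicGeometry Opposite

/-! Representability with a property `P` (implying separated, locally quasi-finite, locally of
finite type) can be checked fppf locally on the test scheme. -/

namespace Groth.Agent.Lib.Helper24.RepLocal
open AlgSp Groth.Agent.Lib.Helper14.AS Groth.Agent.Lib.Helper24.ZarGlueRep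
open Groth.Agent.Lib.Helper24.DescSL

variable {S : Scheme.{u}}

/-- two representing squares of the same cospan have isomorphic projections -/
lemma prop_of_isPullback_of_isPullback (P : MorphismProperty Scheme.{u}) [P.RespectsIso]
    {F G : Sp S} {f : F ⟶ G} {T V₁ V₂ : Over S} {g : (yon S).obj T ⟶ G}
    {a₁ : (yon S).obj V₁ ⟶ F} {r₁ : V₁ ⟶ T} {a₂ : (yon S).obj V₂ ⟶ F} {r₂ : V₂ ⟶ T}
    (sq₁ : IsPullback a₁ ((yon S).map r₁) f g) (sq₂ : IsPullback a₂ ((yon S).map r₂) f g)
    (h : P r₁.left) : P r₂.left := by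
  let i : (yon S).obj V₂ ≅ (yon S).obj V₁ := sq₂.isoIsPullback _ _ sq₁
  have hi : i.hom ≫ (yon S).map r₁ = (yon S).map r₂ := sq₂.isoIsPullback_hom_snd _ _ sq₁
  let i₀ : V₂ ≅ V₁ := (yon S).preimageIso i
  have hi₀ : i₀.hom ≫ r₁ = r₂ := by
    apply (yon S).map_injective
    rw [Functor.map_comp]
    exact (congrArg (· ≫ _) ((yon S).map_preimage i.hom)).trans hi
  rw [← hi₀]
  change P (i₀.hom.left ≫ r₁.left)
  have : IsIso i₀.hom.left := inferInstanceAs (IsIso ((Over.forget S).map i₀.hom))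
  exact (MorphismProperty.cancel_left_of_respectsIso P _ _).2 h

set_option backward.isDefEq.respectTransparency.types false in
theorem repWith_of_locally (P : MorphismProperty Scheme.{u}) [IsZariskiLocalAtTarget P]
    [P.IsStableUnderBaseChange]
    [P.DescendsAlong (@Surjective ⊓ @Flat ⊓ @LocallyOfFinitePresentation)]
    (hP : ∀ ⦃X Y : Scheme.{u}⦄ (f : X ⟶ Y), P f →
      IsSeparated f ∧ LocallyQuasiFinite f ∧ LocallyOfFiniteType f)
    {F G : Sp S} (f : F ⟶ G)
    (h : ∀ ⦃T : Over S⦄ (g₀ : (yon S).obj T ⟶ G) (x : T.left),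
      ∃ (W V : Over S) (w : W ⟶ T) (r : V ⟶ W) (fstV : (yon S).obj V ⟶ F),
        IsPullback fstV ((yon S).map r) f ((yon S).map w ≫ g₀) ∧ Flat w.left ∧
        LocallyOfFinitePresentation w.left ∧ x ∈ Set.range w.left ∧ P r.left) :
    RepWith P f := by
  have : (MorphismProperty.inverseImage P (Over.forget S)).RespectsIso :=
    MorphismProperty.RespectsIso.inverseImage _ _
  refine MorphismProperty.relative.of_exists fun T g₀ => ?_
  obtain ⟨U, ρ, e, he⟩ := exists_rep_of_chart (pullback.snd f g₀) (fun x => by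
    obtain ⟨W, V, w, r, fstV, sq, hwF, hwL, hxw, hr⟩ := h g₀ x
    obtain ⟨h1, h2, h3⟩ := hP _ hr
    exact ⟨W, V, w, r, _, isPullback_lift_of_isPullback f g₀ w r fstV sq, hwF, hwL, hxw,
      h1, h2, h3⟩)
  have sqU := isPullback_of_iso_pullback f g₀ ρ e he
  refine ⟨U, e.hom ≫ pullback.fst f g₀, ρ, sqU, ?_⟩
  change P ρ.left
  refine FppfLocal.of_fppf_local P ρ.left fun x => ?_
  obtain ⟨W, V, w, r, fstV, sq, hwF, hwL, hxw, hr⟩ := h g₀ x
  have sq1 : IsPullback ((yon S).map (pullback.fst ρ w) ≫ e.hom ≫ pullback.fst f g₀)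
      ((yon S).map (pullback.snd ρ w)) f ((yon S).map w ≫ g₀) :=
    ((IsPullback.of_hasPullback ρ w).map (yon S)).paste_horiz sqU
  have hXW : P (pullback.snd ρ w).left := prop_of_isPullback_of_isPullback P sq sq1 hr
  exact ⟨W.left, (pullback ρ w).left, w.left, (pullback.fst ρ w).left, (pullback.snd ρ w).left,
    (IsPullback.of_hasPullback ρ w).map (Over.forget S), hwF, hwL, hxw, hXW⟩

end Groth.Agent.Lib.Helper24.RepLocal
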