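import Groth.Agent.Lib.Helper14.AlgSpYonSigma
import Groth.Agent.Lib.Helper14.AlgSpSep2
import Groth.Agent.Lib.Helper14.AlgSpRedFactor2
set_option autoImplicit false
set_option linter.unusedSectionVars false
universe u
open CategoryTheory CategoryTheory.Limits AlgebraicGeometry Opposite

/-! Zariski gluing of representability for fppf sheaves over `S`: a sheaf covered by
representable open subfunctors is representable (Stacks 01JJ in the `Sp S` setting). -/

namespace Groth.Agent.Lib.Helper24.ZarGlue
open AlgSp Groth.Agent.Lib.Helper14.AS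
open Functor.relativelyRepresentable

variable {S : Scheme.{u}}

/-- representable-mono morphisms are monos -/
theorem mono_of_repWith_mono {F G : Sp S} (f : F ⟶ G)
    (hf : ((MorphismProperty.monomorphisms Scheme.{u}).inverseImage (Over.forget S)).relative
      (yon S) f) : Mono f := by
  refine mono_of_yon_test f fun T a b h => ?_
  have : Mono (hf.rep.snd (a ≫ f)).left := hf.property_snd (a ≫ f)
  have hm : Mono (hf.rep.snd (a ≫ f)) := (Over.forget S).mono_of_mono_map this
  have e : hf.rep.lift (g := a ≫ f) a (𝟙 T) (by simp) =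
      hf.rep.lift b (𝟙 T) (by simp [← h]) := by
    rw [← cancel_mono (hf.rep.snd (a ≫ f)), lift_snd, lift_snd]
  have h1 := hf.rep.lift_fst (g := a ≫ f) a (𝟙 T) (by simp)
  have h2 := hf.rep.lift_fst (g := a ≫ f) b (𝟙 T) (by simp [← h])
  rw [← h1, ← h2, e]

theorem mono_of_repWith_isOpenImmersion {F G : Sp S} (f : F ⟶ G)
    (hf : RepWith @IsOpenImmersion f) : Mono f :=
  mono_of_repWith_mono f (MorphismProperty.relative_monotone
    (fun _ _ g (_ : IsOpenImmersion ((Over.forget S).map g)) =>
      (inferInstance : Mono ((Over.forget S).map g))) _ hf)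

section
variable {E : Sp S} {ι : Type u} {X : ι → Over S} {f : ∀ i, (yon S).obj (X i) ⟶ E}
  (hf : ∀ i, RepWith @IsOpenImmersion (f i))

lemma fst'_self_eq_snd (i : ι) : (hf i).rep.fst' (f i) = (hf i).rep.snd (f i) := by
  have := mono_of_repWith_isOpenImmersion _ (hf i)
  apply (yon S).map_injective
  rw [← cancel_mono (f i), ((hf i).rep.isPullback' (f i)).w]

lemma isIso_fst'_self (i : ι) : IsIso ((hf i).rep.fst' (f i)) := by
  have := mono_of_repWith_isOpenImmersion _ (hf i)
  have := ((hf i).rep.isPullback' (f i)).isIso_fst_of_mono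
  exact (Functor.FullyFaithful.ofFullyFaithful (yon S)).isIso_of_isIso_map _

lemma isOpenImmersion_fst' (i j : ι) : IsOpenImmersion ((hf i).rep.fst' (f j)).left :=
  (hf j).property _ _ _ ((hf i).rep.isPullback' (f j)).flip

set_option backward.isDefEq.respectTransparency false in
/-- the gluing data in `Over S` -/
noncomputable def glueDataOver : CategoryTheory.GlueData (Over S) where
  J := ι
  U := X
  V := fun (i, j) ↦ (hf i).rep.pullback (f j)
  f i j := (hf i).rep.fst' (f j)
  f_mono i j := by
    have := isOpenImmersion_fst' hf i j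
    exact (Over.forget S).mono_of_mono_map (inferInstanceAs (Mono ((hf i).rep.fst' (f j)).left))
  f_id i := isIso_fst'_self hf i
  t i j := (hf i).rep.symmetry (hf j).rep
  t_id i := by
    apply (hf i).rep.hom_ext' <;> simp [fst'_self_eq_snd hf i]
  t' i j k := lift₃ _ _ _ (pullback₃.p₂ _ _ _) (pullback₃.p₃ _ _ _) (pullback₃.p₁ _ _ _)
    (by simp) (by simp)
  t_fac i j k := (hf j).rep.hom_ext' (by simp) (by simp)
  cocycle i j k := pullback₃.hom_ext (by simp) (by simp) (by simp)

/-- the scheme-level gluing data -/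
noncomputable def glueData : Scheme.GlueData where
  toGlueData := (glueDataOver hf).mapGlueData (Over.forget S)
  f_open i j := isOpenImmersion_fst' hf i j

lemma glueData_f (i j : ι) : (glueData hf).f i j = ((hf i).rep.fst' (f j)).left := rfl

lemma glueData_t (i j : ι) :
    (glueData hf).t i j = ((hf i).rep.symmetry (hf j).rep).left := rfl

/-- the structure morphism of the glued scheme -/
noncomputable def gluedHom : (glueData hf).glued ⟶ S :=
  Multicoequalizer.desc _ S (fun i => (X i).hom) (by
    rintro ⟨i, j⟩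
    change ((hf i).rep.fst' (f j)).left ≫ (X i).hom =
      (((hf i).rep.symmetry (hf j).rep).left ≫ ((hf j).rep.fst' (f i)).left) ≫ (X j).hom
    rw [Over.w, Category.assoc, Over.w, Over.w])

lemma ι_gluedHom (i : ι) : (glueData hf).ι i ≫ gluedHom hf = (X i).hom :=
  Multicoequalizer.π_desc _ _ _ _ _

/-- the glued scheme over `S` -/
noncomputable def glued : Over S := Over.mk (gluedHom hf)

/-- the open immersions into the glued scheme -/
noncomputable def toGlued (i : ι) : X i ⟶ glued hf := Over.homMk ((glueData hf).ι i) (ι_gluedHom hf i)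

lemma toGlued_left (i : ι) : (toGlued hf i).left = (glueData hf).ι i := rfl

instance (i : ι) : IsOpenImmersion (toGlued hf i).left :=
  Scheme.GlueData.ι_isOpenImmersion (glueData hf) i

lemma toGlued_condition (i j : ι) :
    (hf i).rep.fst' (f j) ≫ toGlued hf i = (hf i).rep.snd (f j) ≫ toGlued hf j := by
  ext1
  have h : ((hf i).rep.symmetry (hf j).rep).left ≫ ((hf j).rep.fst' (f i)).left ≫
      (glueData hf).ι j = ((hf i).rep.fst' (f j)).left ≫ (glueData hf).ι i :=
    (glueData hf).glue_condition i j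
  have h3 : ((hf i).rep.symmetry (hf j).rep).left ≫ ((hf j).rep.fst' (f i)).left =
      ((hf i).rep.snd (f j)).left := by
    rw [← Over.comp_left, Functor.relativelyRepresentable.symmetry_fst]
  have h4 := (Category.assoc _ _ _).trans h
  rw [h3] at h4
  exact h4.symm

lemma toGlued_mem_KS : Presieve.ofArrows X (toGlued hf) ∈ KS S (glued hf) := by
  refine ofArrows_mem_KS X (toGlued hf) (fun i => ⟨inferInstance, inferInstance⟩) fun x => ?_
  obtain ⟨i, y, hy⟩ := (glueData hf).ι_jointly_surjective x
  exact ⟨i, y, hy⟩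

lemma toGlued_jointly_surjective (u : (glued hf).left) :
    ∃ (i : ι) (y : (X i).left), (toGlued hf i).left y = u := by
  obtain ⟨i, y, hy⟩ := (glueData hf).ι_jointly_surjective u
  exact ⟨i, y, hy⟩

lemma toGlued_w (i : ι) : (toGlued hf i).left ≫ gluedHom hf = (X i).hom := ι_gluedHom hf i

/-- points of two charts with the same image in the glued scheme lift to the overlap -/
lemma exists_lift_of_toGlued_eq {Z : Over S} {i j : ι} (a : Z ⟶ X i) (b : Z ⟶ X j)
    (h : a ≫ toGlued hf i = b ≫ toGlued hf j) :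
    ∃ l : Z ⟶ (hf i).rep.pullback (f j), l ≫ (hf i).rep.fst' (f j) = a ∧
      l ≫ (hf i).rep.snd (f j) = b := by
  have h' : a.left ≫ (glueData hf).ι i = b.left ≫ (glueData hf).ι j :=
    congrArg (fun m => m.left) h
  let l₀ : Z.left ⟶ ((hf i).rep.pullback (f j)).left :=
    PullbackCone.IsLimit.lift ((glueData hf).vPullbackConeIsLimit i j) a.left b.left h'
  have h1 : l₀ ≫ ((hf i).rep.fst' (f j)).left = a.left :=
    PullbackCone.IsLimit.lift_fst ((glueData hf).vPullbackConeIsLimit i j) a.left b.left h'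
  have h2 : l₀ ≫ (((hf i).rep.symmetry (hf j).rep).left ≫ ((hf j).rep.fst' (f i)).left) = b.left :=
    PullbackCone.IsLimit.lift_snd ((glueData hf).vPullbackConeIsLimit i j) a.left b.left h'
  rw [← Over.comp_left, Functor.relativelyRepresentable.symmetry_fst] at h2
  refine ⟨Over.homMk l₀ ?_, ?_, ?_⟩
  · rw [← Over.w ((hf i).rep.fst' (f j)), ← Category.assoc, h1, Over.w]
  · ext1; exact h1
  · ext1; exact h2

lemma compat_of_toGlued_eq {Z : Over S} {i j : ι} (a : Z ⟶ X i) (b : Z ⟶ X j)
    (h : a ≫ toGlued hf i = b ≫ toGlued hf j) :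
    (yon S).map a ≫ f i = (yon S).map b ≫ f j := by
  obtain ⟨l, rfl, rfl⟩ := exists_lift_of_toGlued_eq hf a b h
  rw [Functor.map_comp, Functor.map_comp, Category.assoc, Category.assoc,
    ((hf i).rep.isPullback' (f j)).w]

end

/-- gluing maps out of a representable sheaf along an fppf covering family -/
theorem existsUnique_desc_of_cover {F : Sp S} {W : Over S} {ι : Type u} (T : ι → Over S)
    (g : ∀ i, T i ⟶ W) (hg : Presieve.ofArrows T g ∈ KS S W) (c : ∀ i, (yon S).obj (T i) ⟶ F)
    (hc : ∀ (i j : ι) (Z : Over S) (a : Z ⟶ T i) (b : Z ⟶ T j), a ≫ g i = b ≫ g j →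
      (yon S).map a ≫ c i = (yon S).map b ≫ c j) :
    ∃! d : (yon S).obj W ⟶ F, ∀ i, (yon S).map (g i) ≫ d = c i := by
  have hsh := isSheafFor_of_mem_KS F _ hg
  rw [Presieve.isSheafFor_arrows_iff] at hsh
  have hcompat : Presieve.Arrows.Compatible F.obj g (fun i => yEquiv (c i)) := by
    intro i j Z gi gj hij
    have h1 := (AlgSp.J S).uliftYonedaEquiv_naturality (c i) gi
    have h2 := (AlgSp.J S).uliftYonedaEquiv_naturality (c j) gj
    exact h1.trans ((congrArg _ (hc i j Z gi gj hij)).trans h2.symm)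
  obtain ⟨t, ht, htu⟩ := hsh _ hcompat
  refine ⟨yEquiv.symm t, fun i => ?_, fun d hd => ?_⟩
  · apply yEquiv.injective
    rw [← ht i]
    have h1 := (AlgSp.J S).uliftYonedaEquiv_naturality (yEquiv.symm t) (g i)
    have h2 : yEquiv (yEquiv.symm t) = t := Equiv.apply_symm_apply _ _
    rw [h2] at h1
    exact h1.symm
  · apply yEquiv.injective
    rw [Equiv.apply_symm_apply]
    apply htu
    intro i
    rw [← hd i]
    exact ((AlgSp.J S).uliftYonedaEquiv_naturality d (g i))

section Main
variable {E : Sp S} {ι : Type u} {X : ι → Over S} {f : ∀ i, (yon S).obj (X i) ⟶ E}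
  (hf : ∀ i, RepWith @IsOpenImmersion (f i))

/-- the restriction of an object over `S` to an open of its underlying scheme -/
abbrev resOpen (T : Over S) (O : T.left.Opens) : Over S := Over.mk (O.ι ≫ T.hom)

/-- the inclusion of an open -/
abbrev resOpenι (T : Over S) (O : T.left.Opens) : resOpen T O ⟶ T := Over.homMk O.ι rfl

lemma existsUnique_glued_desc :
    ∃! ψ : (yon S).obj (glued hf) ⟶ E, ∀ i, (yon S).map (toGlued hf i) ≫ ψ = f i :=
  existsUnique_desc_of_cover X (toGlued hf) (toGlued_mem_KS hf) f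
    (fun _ _ _ a b h => compat_of_toGlued_eq hf a b h)

/-- the comparison map from the glued scheme -/
noncomputable def gluedDesc : (yon S).obj (glued hf) ⟶ E := (existsUnique_glued_desc hf).choose

lemma toGlued_gluedDesc (i : ι) : (yon S).map (toGlued hf i) ≫ gluedDesc hf = f i :=
  (existsUnique_glued_desc hf).choose_spec.1 i

lemma mono_gluedDesc : Mono (gluedDesc hf) := by
  refine mono_of_yon_test _ fun T p p' h => ?_
  obtain ⟨a, rfl⟩ := (yon S).map_surjective p
  obtain ⟨b, rfl⟩ := (yon S).map_surjective p'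
  congr 1
  refine over_hom_ext_of_locally a b fun w => ?_
  obtain ⟨i, y, hy⟩ := toGlued_jointly_surjective hf (a.left w)
  obtain ⟨j, z, hz⟩ := toGlued_jointly_surjective hf (b.left w)
  let O : T.left.Opens := a.left ⁻¹ᵁ (toGlued hf i).left.opensRange ⊓
    b.left ⁻¹ᵁ (toGlued hf j).left.opensRange
  have hwO : w ∈ O := ⟨⟨y, hy⟩, ⟨z, hz⟩⟩
  refine ⟨O, hwO, ?_⟩
  have hOa : Set.range (O.ι ≫ a.left) ⊆ Set.range (toGlued hf i).left := by
    rintro _ ⟨x, rfl⟩
    exact x.2.1
  have hOb : Set.range (O.ι ≫ b.left) ⊆ Set.range (toGlued hf j).left := by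
    rintro _ ⟨x, rfl⟩
    exact x.2.2
  let a₀ : (O : Scheme) ⟶ (X i).left := IsOpenImmersion.lift (toGlued hf i).left (O.ι ≫ a.left) hOa
  let b₀ : (O : Scheme) ⟶ (X j).left := IsOpenImmersion.lift (toGlued hf j).left (O.ι ≫ b.left) hOb
  have ha₀ : a₀ ≫ (toGlued hf i).left = O.ι ≫ a.left := IsOpenImmersion.lift_fac _ _ hOa
  have hb₀ : b₀ ≫ (toGlued hf j).left = O.ι ≫ b.left := IsOpenImmersion.lift_fac _ _ hOb
  let a' : resOpen T O ⟶ X i := Over.homMk a₀ (by
    rw [← Over.w (toGlued hf i), ← Category.assoc, ha₀, Category.assoc]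
    have := Over.w a
    exact congrArg (O.ι ≫ ·) this)
  let b' : resOpen T O ⟶ X j := Over.homMk b₀ (by
    rw [← Over.w (toGlued hf j), ← Category.assoc, hb₀, Category.assoc]
    have := Over.w b
    exact congrArg (O.ι ≫ ·) this)
  have ea : a' ≫ toGlued hf i = resOpenι T O ≫ a := by ext1; exact ha₀
  have eb : b' ≫ toGlued hf j = resOpenι T O ≫ b := by ext1; exact hb₀
  have hab : (yon S).map a' ≫ f i = (yon S).map b' ≫ f j := by
    rw [← toGlued_gluedDesc hf i, ← toGlued_gluedDesc hf j, ← Category.assoc, ← Category.assoc,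
      ← Functor.map_comp, ← Functor.map_comp, ea, eb, Functor.map_comp, Functor.map_comp,
      Category.assoc, Category.assoc, h]
  have h1 := (hf i).rep.lift'_fst a' b' hab
  have h2 := (hf i).rep.lift'_snd a' b' hab
  have h3 : a' ≫ toGlued hf i = b' ≫ toGlued hf j := by
    have e1 := congrArg (· ≫ toGlued hf i) h1
    have e2 := congrArg (· ≫ toGlued hf j) h2
    simp only [Category.assoc] at e1 e2
    rw [toGlued_condition] at e1
    exact e1.symm.trans e2
  rw [ea, eb] at h3
  exact congrArg (fun m => m.left) h3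

include hf in
/-- **Zariski gluing of representability.** An fppf sheaf covered (Zariski-locally on every test
scheme) by representable open subfunctors is representable. -/
theorem exists_iso_yon_of_open_cover
    (hsurj : ∀ (T : Over S) (t : (yon S).obj T ⟶ E) (x : T.left), ∃ (i : ι) (O : T.left.Opens)
      (_ : x ∈ O) (l : resOpen T O ⟶ X i), (yon S).map l ≫ f i = (yon S).map (resOpenι T O) ≫ t) :
    ∃ (U : Over S) (e : (yon S).obj U ≅ E) (j : ∀ i, X i ⟶ U), (∀ i, IsOpenImmersion (j i).left) ∧
      (∀ i, (yon S).map (j i) ≫ e.hom = f i) ∧ ∀ u : U.left, ∃ i, u ∈ Set.range (j i).left := by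
  have hm := mono_gluedDesc hf
  have hls : Sheaf.IsLocallySurjective (gluedDesc hf) := by
    refine isLocallySurjective_of_cover_lift _ fun T t => ?_
    choose i O hxO l hl using hsurj T t
    refine ⟨Presieve.ofArrows (fun x : T.left => resOpen T (O x)) (fun x => resOpenι T (O x)),
      ofArrows_mem_KS _ _ (fun x => ⟨?_, ?_⟩) (fun x => ⟨x, ⟨x, hxO x⟩, rfl⟩), ?_⟩
    · exact inferInstanceAs (Flat (O x).ι)
    · exact inferInstanceAs (LocallyOfFinitePresentation (O x).ι)
    · rintro W w ⟨x⟩
      exact ⟨(yon S).map (l x) ≫ (yon S).map (toGlued hf (i x)), by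
        rw [Category.assoc, toGlued_gluedDesc, hl]⟩
  have he : Epi (gluedDesc hf) := (Sheaf.isLocallySurjective_iff_epi _).1 hls
  have hiso : IsIso (gluedDesc hf) := isIso_of_mono_of_epi _
  refine ⟨glued hf, asIso (gluedDesc hf), toGlued hf, fun i => inferInstance,
    fun i => toGlued_gluedDesc hf i, fun u => ?_⟩
  obtain ⟨i, y, hy⟩ := toGlued_jointly_surjective hf u
  exact ⟨i, y, hy⟩

end Main

section Relative
variable {E : Sp S} {W : Over S} (π : E ⟶ (yon S).obj W)

/-- restriction of a morphism to preimage opens -/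
noncomputable def resMap {T W : Over S} (τ : T ⟶ W) (O : W.left.Opens) :
    resOpen T (τ.left ⁻¹ᵁ O) ⟶ resOpen W O :=
  Over.homMk (τ.left ∣_ O) (by
    change (τ.left ∣_ O) ≫ O.ι ≫ W.hom = (τ.left ⁻¹ᵁ O).ι ≫ T.hom
    rw [← Category.assoc, morphismRestrict_ι, Category.assoc, Over.w τ])

lemma resMap_comp {T W : Over S} (τ : T ⟶ W) (O : W.left.Opens) :
    resMap τ O ≫ resOpenι W O = resOpenι T (τ.left ⁻¹ᵁ O) ≫ τ := by
  ext1
  exact morphismRestrict_ι _ _

/-- **Relative Zariski gluing of representability.** If `E ⟶ h_W` is representable over the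
members of an open cover of `W`, then `E` is representable. -/
theorem exists_rep_of_locally
    (Q : ∀ (O : W.left.Opens) (X : Over S), (X ⟶ resOpen W O) → Prop)
    (h : ∀ w : W.left, ∃ (O : W.left.Opens) (_ : w ∈ O) (X : Over S) (r : X ⟶ resOpen W O)
      (fst : (yon S).obj X ⟶ E), IsPullback fst ((yon S).map r) π ((yon S).map (resOpenι W O)) ∧
        Q O X r) :
    ∃ (U : Over S) (ρ : U ⟶ W) (e : (yon S).obj U ≅ E), e.hom ≫ π = (yon S).map ρ ∧
      ∀ w : W.left, ∃ (O : W.left.Opens) (_ : w ∈ O) (X : Over S) (r : X ⟶ resOpen W O)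
        (fst : (yon S).obj X ⟶ E) (j : X ⟶ U),
        IsPullback fst ((yon S).map r) π ((yon S).map (resOpenι W O)) ∧
        IsPullback j.left r.left ρ.left O.ι ∧ Q O X r := by
  choose O hwO X r fst sq hQ using h
  have hf : ∀ w, RepWith @IsOpenImmersion (fst w) := fun w =>
    MorphismProperty.of_isPullback (P := RepWith @IsOpenImmersion) (sq w).flip
      ((repWith_yon_map_iff @IsOpenImmersion (resOpenι W (O w))).2
        (inferInstanceAs (IsOpenImmersion (O w).ι)))
  obtain ⟨U, e, j, hj, hje, -⟩ := exists_iso_yon_of_open_cover hf (by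
    intro T t x
    obtain ⟨τ, hτ⟩ := (yon S).map_surjective (t ≫ π)
    let w := τ.left x
    refine ⟨w, τ.left ⁻¹ᵁ (O w), hwO w, ?_⟩
    let l' : (yon S).obj (resOpen T (τ.left ⁻¹ᵁ (O w))) ⟶ (yon S).obj (X w) :=
      (sq w).lift ((yon S).map (resOpenι T _) ≫ t) ((yon S).map (resMap τ (O w))) (by
        rw [Category.assoc, ← hτ, ← Functor.map_comp, ← Functor.map_comp, resMap_comp])
    refine ⟨(yon S).preimage l', ?_⟩
    rw [Functor.map_preimage]
    exact (sq w).lift_fst _ _ _)
  obtain ⟨ρ, hρ⟩ := (yon S).map_surjective (e.hom ≫ π)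
  refine ⟨U, ρ, e, hρ.symm, fun w => ⟨O w, hwO w, X w, r w, fst w, j w, sq w, ?_, hQ w⟩⟩
  have h1 : IsPullback ((yon S).map (j w)) ((yon S).map (r w)) ((yon S).map ρ)
      ((yon S).map (resOpenι W (O w))) := by
    refine IsPullback.of_iso (sq w) (Iso.refl _) e.symm (Iso.refl _) (Iso.refl _) ?_ ?_ ?_ ?_
    · simp only [Iso.refl_hom, Category.id_comp, Iso.symm_hom]
      rw [← hje w, Category.assoc, Iso.hom_inv_id, Category.comp_id]
    · simp
    · simp only [Iso.symm_hom, Iso.refl_hom, Category.comp_id]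
      rw [hρ, Iso.inv_hom_id_assoc]
    · simp
  exact (IsPullback.of_map (yon S) (by
    have := h1.w
    rw [← Functor.map_comp, ← Functor.map_comp] at this
    exact (yon S).map_injective this) h1).map (Over.forget S)

end Relative

end Groth.Agent.Lib.Helper24.ZarGlue
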