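import Mathlib
set_option autoImplicit false
universe u
open CategoryTheory CategoryTheory.Limits AlgebraicGeometry Opposite

namespace Groth.Agent.Lib.Helper24.ZarGlueAff

/-- the range of the first projection of a pullback square over an open -/
lemma range_fst_of_isPullback {P X Y : Scheme.{u}} {O : Y.Opens} {fst : P ⟶ X}
    {snd : P ⟶ (O : Scheme)} {ρ : X ⟶ Y} (h : IsPullback fst snd ρ O.ι) :
    Set.range fst = ρ ⁻¹' (O : Set Y) := by
  have h1 : fst = h.isoPullback.hom ≫ pullback.fst ρ O.ι := by simp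
  rw [h1, Scheme.Hom.comp_base, TopCat.coe_comp, Set.range_comp,
    Set.range_eq_univ.2 h.isoPullback.hom.surjective, Set.image_univ, Scheme.Pullback.range_fst]
  congr 1
  exact Scheme.Opens.range_ι O

lemma isAffineOpen_preimage_of_isPullback {P X Y : Scheme.{u}} {O : Y.Opens} {fst : P ⟶ X}
    {snd : P ⟶ (O : Scheme)} {ρ : X ⟶ Y} (h : IsPullback fst snd ρ O.ι) [IsAffine P] :
    IsAffineOpen (ρ ⁻¹ᵁ O) := by
  have : IsOpenImmersion fst := MorphismProperty.of_isPullback (P := @IsOpenImmersion) h.flip
    inferInstance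
  have e : fst.opensRange = ρ ⁻¹ᵁ O := by
    ext1
    exact range_fst_of_isPullback h
  rw [← e]
  exact isAffineOpen_opensRange fst

end Groth.Agent.Lib.Helper24.ZarGlueAff
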