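import Groth.Agent.Lib.Helper24.DescRingCat
import Groth.Prelude.Def_Desc
set_option autoImplicit false
set_option linter.unusedSectionVars false
set_option linter.style.haveILetI false
universe u
open CategoryTheory CategoryTheory.Limits AlgebraicGeometry

/-! Effective descent for affine schemes: the affine-affine core. -/

namespace Groth.Agent.Lib.Helper24.DescAffine
open Desc

variable {X S : Scheme.{u}} {p : X ⟶ S}

/-- transport of `φ` along equalities -/
theorem φ_congr (D : SchDD p) {T : Scheme.{u}} {x₀ x₀' x₁ x₁' : T ⟶ X} (e₀ : x₀ = x₀')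
    (e₁ : x₁ = x₁') (h : x₀ ≫ p = x₁ ≫ p) (h' : x₀' ≫ p = x₁' ≫ p) (v : Lifts D.obj x₀)
    (v' : Lifts D.obj x₀') (hv : v.1 = v'.1) : (D.φ x₀ x₁ h v).1 = (D.φ x₀' x₁' h' v').1 := by
  subst e₀ e₁
  have : v = v' := Subtype.ext hv
  subst this
  rfl

/-- a morphism of descent data whose underlying morphism is an isomorphism is an isomorphism -/
theorem isIso_of_isIso_hom {D D' : SchDD p} (f : D ⟶ D') [IsIso f.hom] : IsIso f := by
  have hl : IsIso f.hom.left := inferInstanceAs (IsIso ((Over.forget X).map f.hom))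
  refine ⟨⟨⟨inv f.hom, fun T x₀ x₁ h v w hw => ?_⟩, ?_, ?_⟩⟩
  · have h1 := f.comm x₀ x₁ h w v (by
      rw [hw, Category.assoc, ← Over.comp_left, IsIso.inv_hom_id, Over.id_left, Category.comp_id])
    rw [h1, Category.assoc, ← Over.comp_left, IsIso.hom_inv_id, Over.id_left, Category.comp_id]
  · apply SchDD.hom_ext
    simp
  · apply SchDD.hom_ext
    simp

section Act
variable (D : SchDD p)

/-- `X ×_S V` -/
noncomputable abbrev TT : Scheme.{u} := pullback p (D.obj.hom ≫ p)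

lemma hx : (pullback.snd p (D.obj.hom ≫ p) ≫ D.obj.hom) ≫ p = pullback.fst p (D.obj.hom ≫ p) ≫ p := by
  rw [Category.assoc, pullback.condition]

/-- the action `X ×_S V ⟶ V` -/
noncomputable def act : TT D ⟶ D.obj.left :=
  (D.φ (pullback.snd p (D.obj.hom ≫ p) ≫ D.obj.hom) (pullback.fst p (D.obj.hom ≫ p)) (hx D)
    ⟨pullback.snd p (D.obj.hom ≫ p), rfl⟩).1

lemma act_hom : act D ≫ D.obj.hom = pullback.fst p (D.obj.hom ≫ p) :=
  (D.φ (pullback.snd p (D.obj.hom ≫ p) ≫ D.obj.hom) (pullback.fst p (D.obj.hom ≫ p)) (hx D)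
    ⟨pullback.snd p (D.obj.hom ≫ p), rfl⟩).2

lemma lift_cond {T : Scheme.{u}} (x₀ x₁ : T ⟶ X) (h : x₀ ≫ p = x₁ ≫ p) (v : Lifts D.obj x₀) :
    x₁ ≫ p = v.1 ≫ D.obj.hom ≫ p := by
  have := v.2
  rw [← Category.assoc, this, h]

/-- every value of `φ` is a pullback of the action -/
lemma φ_eq_act {T : Scheme.{u}} (x₀ x₁ : T ⟶ X) (h : x₀ ≫ p = x₁ ≫ p) (v : Lifts D.obj x₀) :
    (D.φ x₀ x₁ h v).1 = pullback.lift x₁ v.1 (lift_cond D x₀ x₁ h v) ≫ act D := by
  let g : T ⟶ TT D := pullback.lift x₁ v.1 (lift_cond D x₀ x₁ h v)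
  have h0 : g ≫ pullback.snd p (D.obj.hom ≫ p) ≫ D.obj.hom = x₀ := by
    rw [pullback.lift_snd_assoc]; exact v.2
  have h1 : g ≫ pullback.fst p (D.obj.hom ≫ p) = x₁ := pullback.lift_fst _ _ _
  have h' : (g ≫ pullback.snd p (D.obj.hom ≫ p) ≫ D.obj.hom) ≫ p =
      (g ≫ pullback.fst p (D.obj.hom ≫ p)) ≫ p := by rw [h0, h1, h]
  have key := D.φ_natural g (pullback.snd p (D.obj.hom ≫ p) ≫ D.obj.hom)
    (pullback.fst p (D.obj.hom ≫ p)) (hx D) h' ⟨pullback.snd p (D.obj.hom ≫ p), rfl⟩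
    ⟨v.1, by rw [h0]; exact v.2⟩ (pullback.lift_snd _ _ _).symm
  rw [← φ_congr D h0 h1 h' h ⟨v.1, by rw [h0]; exact v.2⟩ v rfl]
  exact key

/-- the unit `V ⟶ X ×_S V` -/
noncomputable def unit : D.obj.left ⟶ TT D := pullback.lift D.obj.hom (𝟙 _) (by simp)

lemma unit_act : unit D ≫ act D = 𝟙 _ := by
  have h1 := φ_eq_act D D.obj.hom D.obj.hom rfl ⟨𝟙 _, Category.id_comp _⟩
  rw [D.φ_self] at h1
  exact h1.symm

/-- `X ×_S (X ×_S V)` -/
noncomputable abbrev TT₂ : Scheme.{u} := pullback p (pullback.fst p (D.obj.hom ≫ p) ≫ p)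

/-- `(x', x, v) ↦ (x', x * v)` -/
noncomputable def m₁ : TT₂ D ⟶ TT D :=
  pullback.lift (pullback.fst p (pullback.fst p (D.obj.hom ≫ p) ≫ p))
    (pullback.snd p (pullback.fst p (D.obj.hom ≫ p) ≫ p) ≫ act D) (by
      rw [Category.assoc, ← Category.assoc (act D), act_hom, pullback.condition])

/-- `(x', x, v) ↦ (x', v)` -/
noncomputable def m₂ : TT₂ D ⟶ TT D :=
  pullback.lift (pullback.fst p (pullback.fst p (D.obj.hom ≫ p) ≫ p))
    (pullback.snd p (pullback.fst p (D.obj.hom ≫ p) ≫ p) ≫ pullback.snd p (D.obj.hom ≫ p)) (by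
      rw [Category.assoc, ← pullback.condition, pullback.condition])

lemma m_assoc : m₁ D ≫ act D = m₂ D ≫ act D := by
  -- notation
  let s₂ := pullback.snd p (pullback.fst p (D.obj.hom ≫ p) ≫ p)
  let f₂ := pullback.fst p (pullback.fst p (D.obj.hom ≫ p) ≫ p)
  let sn := pullback.snd p (D.obj.hom ≫ p)
  let fs := pullback.fst p (D.obj.hom ≫ p)
  -- the three points of `X`
  let y₀ : TT₂ D ⟶ X := s₂ ≫ sn ≫ D.obj.hom
  let y₁ : TT₂ D ⟶ X := s₂ ≫ fs
  let y₂ : TT₂ D ⟶ X := f₂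
  have h01 : y₀ ≫ p = y₁ ≫ p := by
    simp only [y₀, y₁, Category.assoc]
    rw [pullback.condition]
  have h12 : y₁ ≫ p = y₂ ≫ p := by
    simp only [y₁, y₂, Category.assoc]
    rw [← pullback.condition]
  let v : Lifts D.obj y₀ := ⟨s₂ ≫ sn, by simp [y₀]⟩
  have e1 : (D.φ y₀ y₁ h01 v).1 = s₂ ≫ act D := by
    rw [φ_eq_act]
    congr 1
    apply pullback.hom_ext
    · exact pullback.lift_fst _ _ _
    · exact pullback.lift_snd _ _ _
  have e2 : (D.φ y₀ y₂ (h01.trans h12) v).1 = m₂ D ≫ act D := by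
    rw [φ_eq_act]
    rfl
  have e3 : (D.φ y₁ y₂ h12 (D.φ y₀ y₁ h01 v)).1 = m₁ D ≫ act D := by
    rw [φ_eq_act]
    congr 1
    apply pullback.hom_ext
    · rw [pullback.lift_fst]
      exact (pullback.lift_fst _ _ _).symm
    · rw [pullback.lift_snd, e1]
      exact (pullback.lift_snd _ _ _).symm
  rw [← e3, ← e2, D.φ_comp]

end Act

section Core
variable [IsAffine X] [IsAffine S] [Flat p] (D : SchDD p) [IsAffine D.obj.left]

include p in
/-- the ring-level output: a ring `B₀` with `Γ(V) = Γ(X) ⊗_{Γ(S)} B₀`, on which the action is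
trivial -/
theorem exists_ring :
    ∃ (B₀ : CommRingCat.{u}) (ι : B₀ ⟶ Γ(D.obj.left, ⊤)) (a₀ : Γ(S, ⊤) ⟶ B₀),
      ι ≫ (act D).appTop = ι ≫ (pullback.snd p (D.obj.hom ≫ p)).appTop ∧
      a₀ ≫ ι = p.appTop ≫ D.obj.hom.appTop ∧ IsPushout p.appTop a₀ D.obj.hom.appTop ι := by
  have hT : IsAffine (TT D) := inferInstance
  have hT₂ : IsAffine (TT₂ D) := inferInstance
  have h₁ := isPushout_appTop_of_isPullback (IsPullback.of_hasPullback p (D.obj.hom ≫ p))
  have h₂ := isPushout_appTop_of_isPullback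
    (IsPullback.of_hasPullback p (pullback.fst p (D.obj.hom ≫ p) ≫ p))
  rw [Scheme.Hom.comp_appTop] at h₁ h₂
  refine DescRing.exists_isPushout_of_coaction p.appTop D.obj.hom.appTop _ _ h₁ _ _ h₂
    (Scheme.Hom.flat_appTop p) (act D).appTop ?_ (unit D).appTop ?_ ?_ ?_ (m₁ D).appTop
    (m₂ D).appTop ?_ ?_ ?_ ?_ ?_
  · rw [← Scheme.Hom.comp_appTop, act_hom]
  · rw [← Scheme.Hom.comp_appTop]
    congr 1
    exact pullback.lift_fst _ _ _
  · rw [← Scheme.Hom.comp_appTop]
    have : unit D ≫ pullback.snd p (D.obj.hom ≫ p) = 𝟙 _ := pullback.lift_snd _ _ _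
    rw [this]
    rfl
  · rw [← Scheme.Hom.comp_appTop, unit_act]
    rfl
  · rw [← Scheme.Hom.comp_appTop]
    congr 1
    exact pullback.lift_fst _ _ _
  · rw [← Scheme.Hom.comp_appTop, ← Scheme.Hom.comp_appTop]
    congr 1
    exact pullback.lift_snd _ _ _
  · rw [← Scheme.Hom.comp_appTop]
    congr 1
    exact pullback.lift_fst _ _ _
  · rw [← Scheme.Hom.comp_appTop, ← Scheme.Hom.comp_appTop]
    congr 1
    exact pullback.lift_snd _ _ _
  · rw [← Scheme.Hom.comp_appTop, ← Scheme.Hom.comp_appTop, m_assoc]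

end Core

section Final
variable [IsAffine X] [IsAffine S] [Flat p] (D : SchDD p) [IsAffine D.obj.left]

/-- **Affine-affine core of effective descent.**  For `p : X ⟶ S` a flat morphism of affine
schemes, every descent datum with affine total space is effective (by an affine scheme). -/
theorem exists_iso_toDD_of_isAffine :
    ∃ U : Over S, IsAffine U.left ∧ Nonempty ((toDD p).obj U ≅ D) := by
  obtain ⟨B₀, ι, a₀, hι, ha₀, hpo⟩ := exists_ring D
  let V := D.obj.left
  let q : V ⟶ X := D.obj.hom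
  let u : Spec B₀ ⟶ S := Spec.map a₀ ≫ S.isoSpec.inv
  let π : V ⟶ Spec B₀ := V.toSpecΓ ≫ Spec.map ι
  -- the square is a pullback
  have hsq : IsPullback (Spec.map D.obj.hom.appTop) (Spec.map ι) (Spec.map p.appTop)
      (Spec.map a₀) := isPullback_SpecMap_of_isPushout _ _ _ _ hpo
  have hsq' : IsPullback q π p u := by
    refine IsPullback.of_iso hsq V.isoSpec.symm X.isoSpec.symm (Iso.refl _) S.isoSpec.symm
      ?_ ?_ ?_ ?_
    · exact Scheme.isoSpec_inv_naturality q
    · change Spec.map ι ≫ 𝟙 _ = V.isoSpec.inv ≫ V.toSpecΓ ≫ Spec.map ι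
      rw [Category.comp_id, ← Scheme.isoSpec_hom, Iso.inv_hom_id_assoc]
    · exact Scheme.isoSpec_inv_naturality p
    · change Spec.map a₀ ≫ S.isoSpec.inv = 𝟙 _ ≫ u
      rw [Category.id_comp]
  -- the action is trivial on `Spec B₀`
  have hπ : act D ≫ π = pullback.snd p (D.obj.hom ≫ p) ≫ π := by
    change act D ≫ V.toSpecΓ ≫ Spec.map ι = pullback.snd p (D.obj.hom ≫ p) ≫ V.toSpecΓ ≫ Spec.map ι
    rw [Scheme.toSpecΓ_naturality_assoc, Scheme.toSpecΓ_naturality_assoc, ← Spec.map_comp,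
      ← Spec.map_comp, hι]
  let U : Over S := Over.mk u
  have hU : IsAffine U.left := inferInstanceAs (IsAffine (Spec B₀))
  let β : V ⟶ pullback p u := pullback.lift q π hsq'.w
  have hβ : IsIso β := by
    have : β = hsq'.isoPullback.hom := by
      apply pullback.hom_ext
      · rw [pullback.lift_fst, IsPullback.isoPullback_hom_fst]
      · rw [pullback.lift_snd, IsPullback.isoPullback_hom_snd]
    rw [this]
    infer_instance
  have hβ1 : β ≫ pullback.fst p u = q := pullback.lift_fst _ _ _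
  have hβ2 : β ≫ pullback.snd p u = π := pullback.lift_snd _ _ _
  let f : D ⟶ (toDD p).obj U :=
    ⟨Over.homMk β hβ1, fun T x₀ x₁ h v w hw => by
      have hw' : (w.1 : T ⟶ pullback p u) = v.1 ≫ β := hw
      apply pullback.hom_ext
      · refine (pullback.lift_fst _ _ _).trans ?_
        change x₁ = ((D.φ x₀ x₁ h v).1 ≫ β) ≫ pullback.fst p u
        rw [Category.assoc, hβ1]
        exact ((D.φ x₀ x₁ h v).2).symm
      · refine (pullback.lift_snd _ _ _).trans ?_
        have aux : ∀ (w' : T ⟶ pullback p u), w' = v.1 ≫ β →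
            w' ≫ pullback.snd p u = v.1 ≫ π := fun w' e => by rw [e, Category.assoc, hβ2]
        have e1 := aux w.1 hw
        have e2 : ((D.φ x₀ x₁ h v).1 ≫ β) ≫ pullback.snd p u = v.1 ≫ π := by
          rw [Category.assoc, hβ2, φ_eq_act, Category.assoc, hπ, pullback.lift_snd_assoc]
        exact e1.trans e2.symm⟩
  have hf : IsIso f.hom := by
    have : IsIso ((Over.forget X).map f.hom) := hβ
    exact isIso_of_reflects_iso f.hom (Over.forget X)
  have := isIso_of_isIso_hom f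
  exact ⟨U, hU, ⟨(asIso f).symm⟩⟩

end Final

end Groth.Agent.Lib.Helper24.DescAffine
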