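import Groth.Agent.Lib.Helper24.DescSheaf
import Groth.Agent.Lib.Helper24.DescAffine
set_option autoImplicit false
set_option linter.unusedSectionVars false
universe u
open CategoryTheory CategoryTheory.Limits AlgebraicGeometry Opposite

/-! From a cartesian square of fppf sheaves `h_{V'} = E ×_{h_Z} h_{Z'}` to a descent datum on `V'`
relative to `Z' ⟶ Z`, and back: if the datum is effective, `E` is representable. -/

namespace Groth.Agent.Lib.Helper24.DescBridge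
open AlgSp Desc Groth.Agent.Lib.Helper14.AS Groth.Agent.Lib.Helper24.DescSheaf

variable {S : Scheme.{u}} {E : Sp S} {Z Z' V' : Over S} {π : E ⟶ (yon S).obj Z} {c : Z' ⟶ Z}
  {fstV : (yon S).obj V' ⟶ E} {r : V' ⟶ Z'}

section SameIm
variable (fstV)

/-- two `T`-points of `V'` have the same image in `E` -/
def SameIm {T : Scheme.{u}} (v₀ v₁ : T ⟶ V'.left) : Prop :=
  v₀ ≫ V'.hom = v₁ ≫ V'.hom ∧ ∀ (t : T ⟶ S) (h₀ : v₀ ≫ V'.hom = t) (h₁ : v₁ ≫ V'.hom = t),
    (yon S).map (Over.homMk v₀ h₀ : Over.mk t ⟶ V') ≫ fstV =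
      (yon S).map (Over.homMk v₁ h₁ : Over.mk t ⟶ V') ≫ fstV

lemma SameIm.refl {T : Scheme.{u}} (v : T ⟶ V'.left) : SameIm fstV v v :=
  ⟨rfl, fun _ _ _ => rfl⟩

lemma SameIm.symm {T : Scheme.{u}} {v₀ v₁ : T ⟶ V'.left} (h : SameIm fstV v₀ v₁) :
    SameIm fstV v₁ v₀ := ⟨h.1.symm, fun t h₀ h₁ => (h.2 t h₁ h₀).symm⟩

lemma SameIm.trans {T : Scheme.{u}} {v₀ v₁ v₂ : T ⟶ V'.left} (h : SameIm fstV v₀ v₁)
    (h' : SameIm fstV v₁ v₂) : SameIm fstV v₀ v₂ :=
  ⟨h.1.trans h'.1, fun t h₀ h₂ => (h.2 t h₀ (h.1.symm.trans h₀)).trans (h'.2 t _ h₂)⟩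

lemma SameIm.comp {T T' : Scheme.{u}} (g : T' ⟶ T) {v₀ v₁ : T ⟶ V'.left}
    (h : SameIm fstV v₀ v₁) : SameIm fstV (g ≫ v₀) (g ≫ v₁) := by
  refine ⟨by rw [Category.assoc, Category.assoc, h.1], fun t h₀ h₁ => ?_⟩
  subst h₀
  have e0 : (Over.homMk (g ≫ v₀) rfl : Over.mk ((g ≫ v₀) ≫ V'.hom) ⟶ V') =
      (Over.homMk g (by simp) : Over.mk ((g ≫ v₀) ≫ V'.hom) ⟶ Over.mk (v₀ ≫ V'.hom)) ≫
        Over.homMk v₀ rfl := by
    ext; simp
  have e1 : (Over.homMk (g ≫ v₁) h₁ : Over.mk ((g ≫ v₀) ≫ V'.hom) ⟶ V') =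
      (Over.homMk g (by simp) : Over.mk ((g ≫ v₀) ≫ V'.hom) ⟶ Over.mk (v₀ ≫ V'.hom)) ≫
        Over.homMk v₁ h.1.symm := by
    ext; simp
  rw [e0, e1, Functor.map_comp, Functor.map_comp]
  have h2 := h.2 (v₀ ≫ V'.hom) rfl h.1.symm
  exact (Category.assoc _ _ _).trans ((congrArg (_ ≫ ·) h2).trans (Category.assoc _ _ _).symm)

end SameIm

section DD
variable (sq : IsPullback fstV ((yon S).map r) π ((yon S).map c))
include sq

/-- the image in `h_Z` of a point of `V'` -/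
lemma sameIm_base {T : Scheme.{u}} {v₀ v₁ : T ⟶ V'.left} (h : SameIm fstV v₀ v₁) :
    (v₀ ≫ r.left) ≫ c.left = (v₁ ≫ r.left) ≫ c.left := by
  have h2 := h.2 (v₀ ≫ V'.hom) rfl h.1.symm
  have h3 := congrArg (· ≫ π) h2
  simp only [Category.assoc, sq.w] at h3
  rw [← Functor.map_comp_assoc, ← Functor.map_comp_assoc, ← Functor.map_comp,
    ← Functor.map_comp] at h3
  have h4 := congrArg (fun m => m.left) ((yon S).map_injective h3)
  simpa using h4

lemma exists_unique_sameIm {T : Scheme.{u}} (v₀ : T ⟶ V'.left) (x₁ : T ⟶ Z'.left)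
    (h : (v₀ ≫ r.left) ≫ c.left = x₁ ≫ c.left) :
    ∃! v₁ : T ⟶ V'.left, v₁ ≫ r.left = x₁ ∧ SameIm fstV v₀ v₁ := by
  let t : T ⟶ S := v₀ ≫ V'.hom
  have ht : x₁ ≫ Z'.hom = t := by
    rw [← Over.w c, ← Category.assoc, ← h, Category.assoc, Category.assoc, Over.w c, Over.w r]
  let v₀' : Over.mk t ⟶ V' := Over.homMk v₀ rfl
  let x₁' : Over.mk t ⟶ Z' := Over.homMk x₁ ht
  have hc : v₀' ≫ r ≫ c = x₁' ≫ c := by
    ext
    change v₀ ≫ r.left ≫ c.left = x₁ ≫ c.left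
    rw [← Category.assoc]
    exact h
  let l : (yon S).obj (Over.mk t) ⟶ (yon S).obj V' :=
    sq.lift ((yon S).map v₀' ≫ fstV) ((yon S).map x₁') (by
      rw [Category.assoc, sq.w, ← Functor.map_comp_assoc, ← Functor.map_comp, ← Functor.map_comp,
        Category.assoc, hc])
  let v₁' : Over.mk t ⟶ V' := (yon S).preimage l
  have hv₁ : (yon S).map v₁' = l := (yon S).map_preimage l
  have h1 : v₁' ≫ r = x₁' := (yon S).map_injective (by
    rw [Functor.map_comp, hv₁]; exact sq.lift_snd _ _ _)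
  have h2 : (yon S).map v₁' ≫ fstV = (yon S).map v₀' ≫ fstV := by
    rw [hv₁]; exact sq.lift_fst _ _ _
  have hw : v₁'.left ≫ V'.hom = t := Over.w v₁'
  refine ⟨v₁'.left, ⟨congrArg (fun m => m.left) h1, hw.symm, fun t' h₀ h₁ => ?_⟩, ?_⟩
  · subst h₀
    have e : (Over.homMk v₁'.left h₁ : Over.mk t ⟶ V') = v₁' := by ext; rfl
    rw [e]
    exact h2.symm
  · rintro w ⟨hw1, hw2⟩
    have hwt : w ≫ V'.hom = t := hw2.1.symm
    let w' : Over.mk t ⟶ V' := Over.homMk w hwt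
    have e1 : (yon S).map w' = (yon S).map v₁' := by
      apply sq.hom_ext
      · rw [h2]; exact (hw2.2 t rfl hwt).symm
      · rw [← Functor.map_comp, ← Functor.map_comp, h1]
        congr 1
        ext
        exact hw1
    exact congrArg (fun m => m.left) ((yon S).map_injective e1)

/-- transport of a point of `V'` to another base point with the same image in `Z` -/
noncomputable def transp {T : Scheme.{u}} (x₀ x₁ : T ⟶ Z'.left) (h : x₀ ≫ c.left = x₁ ≫ c.left)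
    (v : T ⟶ V'.left) (hv : v ≫ r.left = x₀) : T ⟶ V'.left :=
  (exists_unique_sameIm sq v x₁ (by rw [hv, h])).choose

lemma transp_hom {T : Scheme.{u}} (x₀ x₁ : T ⟶ Z'.left) (h : x₀ ≫ c.left = x₁ ≫ c.left)
    (v : T ⟶ V'.left) (hv : v ≫ r.left = x₀) : transp sq x₀ x₁ h v hv ≫ r.left = x₁ :=
  (exists_unique_sameIm sq v x₁ (by rw [hv, h])).choose_spec.1.1

lemma transp_sameIm {T : Scheme.{u}} (x₀ x₁ : T ⟶ Z'.left) (h : x₀ ≫ c.left = x₁ ≫ c.left)
    (v : T ⟶ V'.left) (hv : v ≫ r.left = x₀) : SameIm fstV v (transp sq x₀ x₁ h v hv) :=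
  (exists_unique_sameIm sq v x₁ (by rw [hv, h])).choose_spec.1.2

lemma transp_eq {T : Scheme.{u}} (x₀ x₁ : T ⟶ Z'.left) (h : x₀ ≫ c.left = x₁ ≫ c.left)
    (v : T ⟶ V'.left) (hv : v ≫ r.left = x₀) (w : T ⟶ V'.left) (hw : w ≫ r.left = x₁)
    (hs : SameIm fstV v w) : transp sq x₀ x₁ h v hv = w :=
  ((exists_unique_sameIm sq v x₁ (by rw [hv, h])).choose_spec.2 w ⟨hw, hs⟩).symm

/-- the transport bijection -/
noncomputable def transpEquiv {T : Scheme.{u}} (x₀ x₁ : T ⟶ Z'.left)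
    (h : x₀ ≫ c.left = x₁ ≫ c.left) :
    Lifts (Over.mk r.left) x₀ ≃ Lifts (Over.mk r.left) x₁ where
  toFun := fun v => ⟨transp sq x₀ x₁ h v.1 v.2, transp_hom sq x₀ x₁ h v.1 v.2⟩
  invFun := fun v => ⟨transp sq x₁ x₀ h.symm v.1 v.2, transp_hom sq x₁ x₀ h.symm v.1 v.2⟩
  left_inv := fun v => Subtype.ext (transp_eq sq x₁ x₀ h.symm _ (transp_hom sq x₀ x₁ h v.1 v.2)
    v.1 v.2 (transp_sameIm sq x₀ x₁ h v.1 v.2).symm)
  right_inv := fun v => Subtype.ext (transp_eq sq x₀ x₁ h _ (transp_hom sq x₁ x₀ h.symm v.1 v.2)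
    v.1 v.2 (transp_sameIm sq x₁ x₀ h.symm v.1 v.2).symm)

lemma transpEquiv_val {T : Scheme.{u}} (x₀ x₁ : T ⟶ Z'.left)
    (h : x₀ ≫ c.left = x₁ ≫ c.left) (v : Lifts (Over.mk r.left) x₀) :
    (transpEquiv sq x₀ x₁ h v).1 = transp sq x₀ x₁ h v.1 v.2 := rfl

/-- the descent datum on `V'` relative to `Z' ⟶ Z` induced by the cartesian square -/
noncomputable def ddOfSq : SchDD c.left where
  obj := Over.mk r.left
  φ T x₀ x₁ h := transpEquiv sq x₀ x₁ h
  φ_natural T T' g x₀ x₁ h h' v v' hv' := by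
    rw [transpEquiv_val, transpEquiv_val]
    refine transp_eq sq (g ≫ x₀) (g ≫ x₁) h' v'.1 v'.2 (g ≫ transp sq x₀ x₁ h v.1 v.2) ?_ ?_
    · rw [Category.assoc]
      congr 1
      exact transp_hom sq x₀ x₁ h v.1 v.2
    · rw [hv']
      exact (transp_sameIm sq x₀ x₁ h v.1 v.2).comp fstV g
  φ_self T x v := Subtype.ext (transp_eq sq x x rfl v.1 v.2 v.1 v.2 (SameIm.refl fstV _))
  φ_comp T x₀ x₁ x₂ h₀₁ h₁₂ v := by
    apply Subtype.ext
    show transp sq x₁ x₂ h₁₂ (transp sq x₀ x₁ h₀₁ v.1 v.2) (transp_hom sq x₀ x₁ h₀₁ v.1 v.2) =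
      transp sq x₀ x₂ (h₀₁.trans h₁₂) v.1 v.2
    refine (transp_eq sq x₀ x₂ (h₀₁.trans h₁₂) v.1 v.2 _ (transp_hom sq x₁ x₂ h₁₂ _ _) ?_).symm
    exact (transp_sameIm sq x₀ x₁ h₀₁ v.1 v.2).trans fstV (transp_sameIm sq x₁ x₂ h₁₂ _ _)

lemma ddOfSq_spec {T : Scheme.{u}} (x₀ x₁ : T ⟶ Z'.left) (h : x₀ ≫ c.left = x₁ ≫ c.left)
    (v : Lifts (ddOfSq sq).obj x₀) :
    SameIm fstV (v.1 : T ⟶ V'.left) (((ddOfSq sq).φ x₀ x₁ h v).1 : T ⟶ V'.left) :=
  transp_sameIm sq x₀ x₁ h v.1 v.2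

lemma ddOfSq_eq {T : Scheme.{u}} (x₀ x₁ : T ⟶ Z'.left) (h : x₀ ≫ c.left = x₁ ≫ c.left)
    (v : Lifts (ddOfSq sq).obj x₀) (w : T ⟶ V'.left) (hw : w ≫ r.left = x₁)
    (hs : SameIm fstV (v.1 : T ⟶ V'.left) w) :
    (((ddOfSq sq).φ x₀ x₁ h v).1 : T ⟶ V'.left) = w :=
  transp_eq sq x₀ x₁ h v.1 v.2 w hw hs

end DD

section ToDD
variable {X B : Scheme.{u}} (p : X ⟶ B) (U : Over B)

/-- second projection of the canonical descent datum -/
noncomputable def ddSnd : ((toDD p).obj U).obj.left ⟶ U.left := pullback.snd p U.hom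

lemma dd_condition : ((toDD p).obj U).obj.hom ≫ p = ddSnd p U ≫ U.hom := pullback.condition

lemma dd_hom_ext {T : Scheme.{u}} (a b : T ⟶ ((toDD p).obj U).obj.left)
    (h1 : a ≫ ((toDD p).obj U).obj.hom = b ≫ ((toDD p).obj U).obj.hom)
    (h2 : a ≫ ddSnd p U = b ≫ ddSnd p U) : a = b := pullback.hom_ext h1 h2

lemma toDD_φ_snd {T : Scheme.{u}} (x₀ x₁ : T ⟶ X) (h : x₀ ≫ p = x₁ ≫ p)
    (v : Lifts ((toDD p).obj U).obj x₀) :
    (((toDD p).obj U).φ x₀ x₁ h v).1 ≫ ddSnd p U = v.1 ≫ ddSnd p U :=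
  pullback.lift_snd _ _ _

lemma isPullback_dd : IsPullback ((toDD p).obj U).obj.hom (ddSnd p U) p U.hom :=
  IsPullback.of_hasPullback p U.hom

end ToDD

section Eff
variable (sq : IsPullback fstV ((yon S).map r) π ((yon S).map c))
  (U₀ : Over Z.left) (i : (toDD c.left).obj U₀ ≅ ddOfSq sq)

/-- the comparison isomorphism `Z' ×_Z U₀ ≅ V'` -/
noncomputable def alpha : ((toDD c.left).obj U₀).obj.left ⟶ V'.left := i.hom.hom.left

lemma alpha_r : alpha sq U₀ i ≫ r.left = ((toDD c.left).obj U₀).obj.hom := Over.w i.hom.hom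

noncomputable def alphaInv : V'.left ⟶ ((toDD c.left).obj U₀).obj.left := i.inv.hom.left

lemma alphaInv_fst : alphaInv sq U₀ i ≫ ((toDD c.left).obj U₀).obj.hom = r.left :=
  Over.w i.inv.hom

lemma alpha_alphaInv : alpha sq U₀ i ≫ alphaInv sq U₀ i = 𝟙 _ := by
  have h := congrArg (fun m => m.hom.left) i.hom_inv_id
  exact h

lemma alphaInv_alpha : alphaInv sq U₀ i ≫ alpha sq U₀ i = 𝟙 _ := by
  have h := congrArg (fun m => m.hom.left) i.inv_hom_id
  exact h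

/-- the descended scheme as an object over `S` -/
abbrev descObj : Over S := Over.mk (U₀.hom ≫ Z.hom)

lemma kk_aux : (alphaInv sq U₀ i ≫ ddSnd c.left U₀) ≫ U₀.hom = r.left ≫ c.left := by
  rw [Category.assoc, ← dd_condition, ← Category.assoc, alphaInv_fst]

/-- the cover `V' ⟶ U` -/
noncomputable def kk : V' ⟶ descObj U₀ :=
  Over.homMk (alphaInv sq U₀ i ≫ ddSnd c.left U₀) (by
    change (alphaInv sq U₀ i ≫ ddSnd c.left U₀) ≫ U₀.hom ≫ Z.hom = V'.hom
    rw [← Category.assoc, kk_aux, Category.assoc, Over.w c, Over.w r])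

lemma kk_left : (kk sq U₀ i).left = alphaInv sq U₀ i ≫ ddSnd c.left U₀ := rfl

lemma kk_base : (kk sq U₀ i).left ≫ U₀.hom = r.left ≫ c.left := kk_aux sq U₀ i

/-- key: two points of `V'` have the same image in `E` iff they have the same image in `U` -/
lemma sameIm_iff {T : Scheme.{u}} (v₁ v₂ : T ⟶ V'.left) :
    SameIm fstV v₁ v₂ ↔ v₁ ≫ (kk sq U₀ i).left = v₂ ≫ (kk sq U₀ i).left := by
  let x₁ : T ⟶ Z'.left := v₁ ≫ r.left
  let x₂ : T ⟶ Z'.left := v₂ ≫ r.left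
  let w₁ : Lifts ((toDD c.left).obj U₀).obj x₁ := ⟨v₁ ≫ alphaInv sq U₀ i, by
    rw [Category.assoc, alphaInv_fst]⟩
  let w : Lifts (ddOfSq sq).obj x₁ := ⟨v₁, rfl⟩
  have hw : w.1 = w₁.1 ≫ i.hom.hom.left := by
    change v₁ = (v₁ ≫ alphaInv sq U₀ i) ≫ alpha sq U₀ i
    rw [Category.assoc, alphaInv_alpha, Category.comp_id]
  constructor
  · intro hs
    have hx : x₁ ≫ c.left = x₂ ≫ c.left := sameIm_base sq hs
    have h1 := ddOfSq_eq sq x₁ x₂ hx w v₂ rfl hs
    have h2 := i.hom.comm x₁ x₂ hx w₁ w hw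
    rw [h1] at h2
    have h3 : v₂ ≫ alphaInv sq U₀ i = (((toDD c.left).obj U₀).φ x₁ x₂ hx w₁).1 := by
      rw [h2]
      change (_ ≫ alpha sq U₀ i) ≫ alphaInv sq U₀ i = _
      rw [Category.assoc, alpha_alphaInv, Category.comp_id]
    rw [kk_left, ← Category.assoc, ← Category.assoc, h3, toDD_φ_snd]
  · intro hk
    have hx : x₁ ≫ c.left = x₂ ≫ c.left := by
      change (v₁ ≫ r.left) ≫ c.left = (v₂ ≫ r.left) ≫ c.left
      rw [Category.assoc, Category.assoc, ← kk_base sq U₀ i, ← Category.assoc, hk, Category.assoc]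
    have h2 := i.hom.comm x₁ x₂ hx w₁ w hw
    have h4 : (((toDD c.left).obj U₀).φ x₁ x₂ hx w₁).1 = v₂ ≫ alphaInv sq U₀ i := by
      apply dd_hom_ext
      · rw [Category.assoc, alphaInv_fst]
        exact (((toDD c.left).obj U₀).φ x₁ x₂ hx w₁).2
      · rw [toDD_φ_snd, Category.assoc, Category.assoc]
        exact hk
    rw [h4] at h2
    change _ = (v₂ ≫ alphaInv sq U₀ i) ≫ alpha sq U₀ i at h2
    rw [Category.assoc, alphaInv_alpha, Category.comp_id] at h2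
    have h5 := ddOfSq_spec sq x₁ x₂ hx w
    rw [h2] at h5
    exact h5

lemma sameIm_over {T : Over S} (v₁ v₂ : T ⟶ V') :
    SameIm fstV v₁.left v₂.left ↔ (yon S).map v₁ ≫ fstV = (yon S).map v₂ ≫ fstV := by
  constructor
  · intro h
    exact h.2 T.hom (Over.w v₁) (Over.w v₂)
  · intro h
    refine ⟨(Over.w v₁).trans (Over.w v₂).symm, fun t h₀ h₁ => ?_⟩
    obtain rfl : t = T.hom := h₀.symm.trans (Over.w v₁)
    exact h

/-- the projection `U ⟶ Z` -/
abbrev descProj : descObj U₀ ⟶ Z := Over.homMk U₀.hom rfl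

lemma kk_descProj : kk sq U₀ i ≫ descProj U₀ = r ≫ c := by
  ext
  exact kk_base sq U₀ i

lemma flat_kk [Flat c.left] : Flat (kk sq U₀ i).left := by
  have h1 : Flat (ddSnd c.left U₀) :=
    MorphismProperty.of_isPullback (P := @Flat) (isPullback_dd c.left U₀) inferInstance
  have h2 : IsIso (alphaInv sq U₀ i) :=
    ⟨alpha sq U₀ i, alphaInv_alpha sq U₀ i, alpha_alphaInv sq U₀ i⟩
  rw [kk_left]
  infer_instance

lemma surjective_kk [Surjective c.left] : Surjective (kk sq U₀ i).left := by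
  have h1 : Surjective (ddSnd c.left U₀) :=
    MorphismProperty.of_isPullback (P := @Surjective) (isPullback_dd c.left U₀) inferInstance
  have h2 : IsIso (alphaInv sq U₀ i) :=
    ⟨alpha sq U₀ i, alphaInv_alpha sq U₀ i, alpha_alphaInv sq U₀ i⟩
  rw [kk_left]
  infer_instance

lemma lfp_kk [LocallyOfFinitePresentation c.left] :
    LocallyOfFinitePresentation (kk sq U₀ i).left := by
  have h1 : LocallyOfFinitePresentation (ddSnd c.left U₀) :=
    MorphismProperty.of_isPullback (P := @LocallyOfFinitePresentation) (isPullback_dd c.left U₀)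
      inferInstance
  have h2 : IsIso (alphaInv sq U₀ i) :=
    ⟨alpha sq U₀ i, alphaInv_alpha sq U₀ i, alpha_alphaInv sq U₀ i⟩
  rw [kk_left]
  infer_instance

lemma epi_yon_map_of_fppf {A B : Over S} (k : A ⟶ B) [Flat k.left] [Surjective k.left]
    [LocallyOfFinitePresentation k.left] : Epi ((yon S).map k) :=
  (Sheaf.isLocallySurjective_iff_epi _).1 (isLocallySurjective_of_repWith _
    ((repWith_yon_map_iff @Flat k).2 inferInstance)
    ((repWith_yon_map_iff @LocallyOfFinitePresentation k).2 inferInstance)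
    ((repWith_yon_map_iff @Surjective k).2 inferInstance))

/-- **Bridge**: if the descent datum induced by the cartesian square is effective, then `E` is
representable. -/
theorem exists_iso_of_effective [Flat c.left] [Surjective c.left]
    [LocallyOfFinitePresentation c.left] :
    ∃ e : (yon S).obj (descObj U₀) ≅ E, (yon S).map (kk sq U₀ i) ≫ e.hom = fstV ∧
      e.hom ≫ π = (yon S).map (descProj U₀) := by
  have := flat_kk sq U₀ i
  have := surjective_kk sq U₀ i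
  have := lfp_kk sq U₀ i
  have hk : Epi ((yon S).map (kk sq U₀ i)) := epi_yon_map_of_fppf _
  have hc : Epi ((yon S).map c) := epi_yon_map_of_fppf _
  have hcl : Sheaf.IsLocallySurjective ((yon S).map c) := (Sheaf.isLocallySurjective_iff_epi _).2 hc
  have hf : Epi fstV :=
    (Sheaf.isLocallySurjective_iff_epi _).1 (isLocallySurjective_of_isPullback sq)
  obtain ⟨e, he⟩ := exists_iso_of_same_rel ((yon S).map (kk sq U₀ i)) fstV (by
    intro T a₁ a₂
    obtain ⟨v₁, rfl⟩ := (yon S).map_surjective a₁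
    obtain ⟨v₂, rfl⟩ := (yon S).map_surjective a₂
    rw [← sameIm_over (fstV := fstV) v₁ v₂, sameIm_iff sq U₀ i, ← Functor.map_comp,
      ← Functor.map_comp]
    constructor
    · intro h
      have := (yon S).map_injective h
      exact congrArg (fun m => m.left) this
    · intro h
      congr 1
      ext
      exact h)
  refine ⟨e, he, ?_⟩
  rw [← cancel_epi ((yon S).map (kk sq U₀ i)), ← Category.assoc, he, sq.w, ← Functor.map_comp,
    ← Functor.map_comp, kk_descProj]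

end Eff

end Groth.Agent.Lib.Helper24.DescBridge
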