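import Groth.Prelude.Def_AlgSpGpd
import Groth.Agent.Lib.Helper14.SheafQuot2
set_option autoImplicit false
set_option linter.unusedSectionVars false
universe u
open CategoryTheory CategoryTheory.Limits AlgebraicGeometry Opposite

/-! The prelude's quotient sheaf `QuotSh.quot` of two maps of schemes (a coequalizer of sheafified
representables) is the coequalizer `AlgSp.quotSp` of the maps of representable sheaves. -/

namespace Groth.Agent.Lib.Helper24.QuotBridge
open AlgSp QuotSh Groth.Agent.Lib.Helper14.AS

variable {S : Scheme.{u}}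

lemma repIso_inv_naturality {V W : Over S} (g : V ⟶ W) :
    (yon S).map g ≫ (repIsoUliftYoneda Scheme.fppfPrecoverage W).inv =
      (repIsoUliftYoneda Scheme.fppfPrecoverage V).inv ≫ repMap Scheme.fppfPrecoverage g :=
  (sheafificationNatIso (AlgSp.J S) (Type (u + 1))).hom.naturality ((yon S).map g)

lemma repIso_hom_naturality {V W : Over S} (g : V ⟶ W) :
    repMap Scheme.fppfPrecoverage g ≫ (repIsoUliftYoneda Scheme.fppfPrecoverage W).hom =
      (repIsoUliftYoneda Scheme.fppfPrecoverage V).hom ≫ (yon S).map g := by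
  rw [← cancel_epi (repIsoUliftYoneda Scheme.fppfPrecoverage V).inv, ← Category.assoc,
    ← repIso_inv_naturality, Category.assoc, Iso.inv_hom_id, Iso.inv_hom_id_assoc, Category.comp_id]

variable {R U : Over S} (s t : R ⟶ U)

/-- the quotient map `h_U ⟶ U/R` on the representable sheaf -/
noncomputable def π' : (yon S).obj U ⟶ QuotSh.quot Scheme.fppfPrecoverage s t :=
  (repIsoUliftYoneda Scheme.fppfPrecoverage U).inv ≫ quotπ Scheme.fppfPrecoverage s t

lemma π'_condition : (yon S).map s ≫ π' s t = (yon S).map t ≫ π' s t := by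
  rw [π', ← Category.assoc, repIso_inv_naturality, Category.assoc, quot_condition,
    ← Category.assoc, ← repIso_inv_naturality, Category.assoc]

/-- the universal map out of `QuotSh.quot` -/
noncomputable def quotShDesc {M : Sp S} (q : rep Scheme.fppfPrecoverage U ⟶ M)
    (w : repMap Scheme.fppfPrecoverage s ≫ q = repMap Scheme.fppfPrecoverage t ≫ q) :
    QuotSh.quot Scheme.fppfPrecoverage s t ⟶ M :=
  coequalizer.desc q w

lemma quotπ_quotShDesc {M : Sp S} (q : rep Scheme.fppfPrecoverage U ⟶ M)
    (w : repMap Scheme.fppfPrecoverage s ≫ q = repMap Scheme.fppfPrecoverage t ≫ q) :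
    quotπ Scheme.fppfPrecoverage s t ≫ quotShDesc s t q w = q :=
  coequalizer.π_desc _ _

lemma quotSh_hom_ext {M : Sp S} (f g : QuotSh.quot Scheme.fppfPrecoverage s t ⟶ M)
    (h : quotπ Scheme.fppfPrecoverage s t ≫ f = quotπ Scheme.fppfPrecoverage s t ≫ g) : f = g :=
  coequalizer.hom_ext h

/-- `QuotSh.quot` is the quotient of the representable sheaves -/
noncomputable def quotIso :
    quotSp ((yon S).map s) ((yon S).map t) ≅ QuotSh.quot Scheme.fppfPrecoverage s t where
  hom := quotSpDesc (π' s t) (π'_condition s t)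
  inv := quotShDesc s t ((repIsoUliftYoneda Scheme.fppfPrecoverage U).hom ≫
      quotSpπ ((yon S).map s) ((yon S).map t)) (by
    rw [← Category.assoc, ← Category.assoc, repIso_hom_naturality, repIso_hom_naturality,
      Category.assoc, Category.assoc, quotSp_condition])
  hom_inv_id := by
    have := epi_quotSpπ ((yon S).map s) ((yon S).map t)
    rw [← cancel_epi (quotSpπ ((yon S).map s) ((yon S).map t)), ← Category.assoc, quotSpπ_desc,
      π', Category.assoc, quotπ_quotShDesc, Iso.inv_hom_id_assoc, Category.comp_id]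
  inv_hom_id := by
    apply quotSh_hom_ext
    rw [← Category.assoc, quotπ_quotShDesc, Category.assoc, quotSpπ_desc, π',
      Iso.hom_inv_id_assoc, Category.comp_id]

lemma quotSpπ_quotIso_hom :
    quotSpπ ((yon S).map s) ((yon S).map t) ≫ (quotIso s t).hom = π' s t :=
  quotSpπ_desc _ _ _ _

end Groth.Agent.Lib.Helper24.QuotBridge
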