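import Groth.Agent.Lib.Helper24.QuotAtlas
import Groth.Agent.Lib.Helper14.AlgSpLocP2
import Groth.Agent.Lib.Helper14.AlgSpFieldPts
import Groth.Agent.Lib.Helper14.FpqcSch
set_option autoImplicit false
set_option linter.unusedSectionVars false
universe u
open CategoryTheory CategoryTheory.Limits AlgebraicGeometry Opposite

/-! Quotient sheaves of equivalence relations of sheaves: the relation is the kernel pair of the
quotient map; properties that are fppf local on the target descend along locally surjective base
change (for `LocP`); epimorphisms of sheaves are surjective on points. -/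

namespace Groth.Agent.Lib.Helper24.QuotFlat
open AlgSp Groth.Agent.Lib.Helper14.AS

variable {S : Scheme.{u}}

/-- the relation is the kernel pair of the quotient map -/
theorem isPullback_quotSpπ {R U : Sp S} {s t : R ⟶ U} (h : IsEqvRelSp s t) :
    IsPullback t s (quotSpπ s t) (quotSpπ s t) := by
  let l : R ⟶ pullback (quotSpπ s t) (quotSpπ s t) :=
    pullback.lift t s (quotSp_condition _ _).symm
  have hm : Mono l := by
    refine mono_of_yon_injective l fun T r r' hrr' => h.injective T r r' ?_ ?_
    · have := congrArg (· ≫ pullback.fst _ _) hrr'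
      simpa only [Category.assoc, l, pullback.lift_fst] using this
    · have := congrArg (· ≫ pullback.snd _ _) hrr'
      simpa only [Category.assoc, l, pullback.lift_snd] using this
  have hls : Sheaf.IsLocallySurjective l := isLocallySurjective_lift_of_preEqv _ _ h.equivalence
  have he : Epi l := (Sheaf.isLocallySurjective_iff_epi _).1 hls
  have hi : IsIso l := isIso_of_mono_of_epi l
  exact IsPullback.of_iso_pullback ⟨(quotSp_condition _ _).symm⟩ (asIso l)
    (pullback.lift_fst _ _ _) (pullback.lift_snd _ _ _)

/-- a locally surjective map of sheaves is surjective on points -/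
theorem isSurjectiveMor_of_isLocallySurjective {X Y : Sp S} (f : X ⟶ Y)
    [Sheaf.IsLocallySurjective f] : IsSurjectiveMor f := by
  intro y
  obtain ⟨K, _, strK, b, rfl⟩ := exists_fpt_eq y
  obtain ⟨R, hR, hl⟩ := exists_cover_lift f b
  obtain ⟨W, w, hw, w₀, -⟩ := Groth.Agent.Lib.Helper24.DescSubsheaf.exists_mem_range_of_mem_KS R hR
    (IsLocalRing.closedPoint K)
  obtain ⟨l, hl'⟩ := hl w hw
  let Ω := W.left.residueField w₀
  let ι : Spec (CommRingCat.of Ω) ⟶ W.left := W.left.fromSpecResidueField w₀
  let i : Over.mk (ι ≫ W.hom) ⟶ W := Over.homMk ι rfl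
  have hiw : (i ≫ w).left ≫ strK = ι ≫ W.hom := by
    have := Over.w (i ≫ w)
    exact this
  let j : Over.mk (ι ≫ W.hom) ⟶ Over.mk strK := i ≫ w
  refine ⟨fpt ((yon S).map i ≫ l), ?_⟩
  rw [map_fpt, Category.assoc, hl', ← Category.assoc, ← Functor.map_comp]
  exact fpt_comp_eq j b

set_option backward.isDefEq.respectTransparency.types false in
/-- `LocP P` descends along a locally surjective base change, for `P` étale local, stable under
base change and fppf local on the target -/
theorem locP_of_isLocallySurjective_base {P : MorphismProperty Scheme.{u}} (hP : EtLocal P)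
    [P.IsStableUnderBaseChange] [P.IsLocalAtTarget Scheme.fppfPrecoverage]
    {X Y Y' X' : Sp S} (hX' : IsAlgSpace X') (hY' : IsAlgSpace Y')
    (f : X ⟶ Y) (g : Y' ⟶ Y) [Sheaf.IsLocallySurjective g] (g' : X' ⟶ X) (f' : X' ⟶ Y')
    (sq : IsPullback g' f' f g) (hf' : LocP P f') : LocP P f := by
  intro U V a b h ha hb comm
  obtain ⟨R, hR, hl⟩ := exists_cover_lift g b
  refine P_of_cover h hR fun W w hw => ?_
  obtain ⟨l, hl⟩ := hl w hw
  let V' : Over S := pullback h w
  let fst : V' ⟶ U := pullback.fst h w
  let snd : V' ⟶ W := pullback.snd h w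
  refine ⟨V', fst, snd, IsPullback.of_hasPullback _ _, ?_⟩
  let XW : Sp S := pullback f' l
  let fW : XW ⟶ (yon S).obj W := pullback.snd f' l
  have hfW : LocP P fW := locP_baseChange hP hX' hY' (IsAlgSpace.yon_obj W) f' l
    (pullback.fst f' l) fW (IsPullback.of_hasPullback _ _) hf'
  have big : IsPullback (pullback.fst f' l ≫ g') fW f ((yon S).map w ≫ b) := by
    rw [← hl]
    exact (IsPullback.of_hasPullback f' l).paste_horiz sq
  let Z : Sp S := pullback f b
  let fstZ : Z ⟶ X := pullback.fst f b
  let sndZ : Z ⟶ (yon S).obj V := pullback.snd f b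
  have sqZ : IsPullback fstZ sndZ f b := IsPullback.of_hasPullback _ _
  have hfstZ : RepWith @Etale fstZ :=
    MorphismProperty.of_isPullback (P := RepWith @Etale) sqZ.flip hb
  let k : (yon S).obj U ⟶ Z := sqZ.lift a ((yon S).map h) comm
  have hk1 : k ≫ fstZ = a := sqZ.lift_fst _ _ _
  have hk2 : k ≫ sndZ = (yon S).map h := sqZ.lift_snd _ _ _
  have hk : RepWith @Etale k := repWith_etale_of_comp k fstZ hfstZ (by rw [hk1]; exact ha)
  let ν : XW ⟶ Z := sqZ.lift (pullback.fst f' l ≫ g') (fW ≫ (yon S).map w) (by
    rw [big.w, Category.assoc])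
  have hν1 : ν ≫ fstZ = pullback.fst f' l ≫ g' := sqZ.lift_fst _ _ _
  have hν2 : ν ≫ sndZ = fW ≫ (yon S).map w := sqZ.lift_snd _ _ _
  have right : IsPullback ν fW sndZ ((yon S).map w) := by
    refine IsPullback.of_right ?_ hν2 sqZ
    rw [hν1]
    exact big
  have hcomm : ((yon S).map fst ≫ a) ≫ f = (yon S).map snd ≫ (yon S).map w ≫ b := by
    rw [Category.assoc, comm, ← Category.assoc, ← Functor.map_comp, pullback.condition,
      Functor.map_comp, Category.assoc]
  let μ : (yon S).obj V' ⟶ XW := big.lift ((yon S).map fst ≫ a) ((yon S).map snd) hcomm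
  have hμ1 : μ ≫ pullback.fst f' l ≫ g' = (yon S).map fst ≫ a := big.lift_fst _ _ _
  have hμ2 : μ ≫ fW = (yon S).map snd := big.lift_snd _ _ _
  have hμν : μ ≫ ν = (yon S).map fst ≫ k := by
    apply sqZ.hom_ext
    · rw [Category.assoc, hν1, hμ1, Category.assoc, hk1]
    · rw [Category.assoc, hν2, ← Category.assoc, hμ2, Category.assoc, hk2, ← Functor.map_comp,
        ← Functor.map_comp, pullback.condition]
  have left : IsPullback μ ((yon S).map fst) ν k := by
    refine IsPullback.of_right ?_ hμν right.flip
    rw [hμ2, hk2]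
    exact ((IsPullback.of_hasPullback h w).flip).map (yon S)
  have hμ : RepWith @Etale μ :=
    MorphismProperty.of_isPullback (P := RepWith @Etale) left.flip hk
  exact hfW μ (𝟙 _) snd hμ (repWith_id _ W) (by rw [Category.comp_id, hμ2])

end Groth.Agent.Lib.Helper24.QuotFlat
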