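import Groth.Agent.Lib.Helper24.Boot1
set_option autoImplicit false
set_option linter.unusedSectionVars false
universe u
open CategoryTheory CategoryTheory.Limits AlgebraicGeometry Opposite

/-! Maps of quotient sheaves induced by restrictions of equivalence relations. -/

namespace Groth.Agent.Lib.Helper24.Boot2
open AlgSp Grpd Groth.Agent.Lib.Helper24.QuotRestrict2 Groth.Agent.Lib.Helper24.QuotAtlas
open Groth.Agent.Lib.Helper14.AS Groth.Agent.Lib.Helper24.QuotRestrict
open Groth.Agent.Lib.Helper24.Boot1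

variable {S : Scheme.{u}}

section QuotMap
variable {R U R' U' : Over S} (s t : R ⟶ U) (g : U' ⟶ U) (s' t' : R' ⟶ U')

/-- `(R', s', t')` on `U'` maps to `(R, s, t)` on `U` along `g`, and contains the full preimage of
the relation -/
structure IsRestr : Prop where
  exists_map : ∃ r : R' ⟶ R, r ≫ s = s' ≫ g ∧ r ≫ t = t' ≫ g
  exists_lift : ∀ (T : Over S) (a b : T ⟶ U') (ρ : T ⟶ R), ρ ≫ t = a ≫ g → ρ ≫ s = b ≫ g →
    ∃ r' : T ⟶ R', r' ≫ t' = a ∧ r' ≫ s' = b

variable {s t g s' t'}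

theorem IsRestr.exists_quot_map (h : IsRestr s t g s' t') (hR : IsEqvRel s t) :
    ∃ φ : Qs s' t' ⟶ Qs s t, ps s' t' ≫ φ = (yon S).map g ≫ ps s t ∧ Mono φ ∧
      (Epi ((yon S).map g) → IsIso φ) := by
  obtain ⟨r, hrs, hrt⟩ := h.exists_map
  have w : (yon S).map s' ≫ ((yon S).map g ≫ ps s t) =
      (yon S).map t' ≫ ((yon S).map g ≫ ps s t) := by
    rw [← Category.assoc, ← Functor.map_comp, ← hrs, ← Category.assoc, ← Functor.map_comp, ← hrt,
      Functor.map_comp, Functor.map_comp, Category.assoc, Category.assoc]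
    congr 1
    exact quotSp_condition _ _
  let φ : Qs s' t' ⟶ Qs s t := quotSpDesc ((yon S).map g ≫ ps s t) w
  have hφ : ps s' t' ≫ φ = (yon S).map g ≫ ps s t := quotSpπ_desc _ _ _ w
  have hm : Mono φ := by
    refine mono_quot_map _ _ (isPreEqvRelSp hR) ((yon S).map g) _ _ ?_ φ hφ
    intro T a b r₀ h1 h2
    obtain ⟨a, rfl⟩ := (yon S).map_surjective a
    obtain ⟨b, rfl⟩ := (yon S).map_surjective b
    obtain ⟨r₀, rfl⟩ := (yon S).map_surjective r₀
    rw [← Functor.map_comp, ← Functor.map_comp] at h1 h2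
    obtain ⟨r', e1, e2⟩ := h.exists_lift T a b r₀ ((yon S).map_injective h1)
      ((yon S).map_injective h2)
    exact ⟨(yon S).map r', by rw [← Functor.map_comp, e1], by rw [← Functor.map_comp, e2]⟩
  refine ⟨φ, hφ, hm, fun hg => ?_⟩
  have := epi_quotSpπ ((yon S).map s) ((yon S).map t)
  have h1 : Epi (ps s' t' ≫ φ) := by rw [hφ]; infer_instance
  have h2 : Epi φ := epi_of_epi (ps s' t') φ
  exact isIso_of_mono_of_epi φ

theorem IsRestr.repWith_isOpenImmersion (h : IsRestr s t g s' t') (hR : IsEqvRel s t)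
    [Flat t.left] [LocallyOfFinitePresentation t.left]
    [Flat g.left] [LocallyOfFinitePresentation g.left]
    (φ : Qs s' t' ⟶ Qs s t) (hφ : ps s' t' ≫ φ = (yon S).map g ≫ ps s t) :
    RepWith @IsOpenImmersion φ := by
  obtain ⟨φ', hφ', hm, -⟩ := h.exists_quot_map hR
  have : φ = φ' := by
    have := epi_quotSpπ ((yon S).map s') ((yon S).map t')
    rw [← cancel_epi (ps s' t'), hφ, hφ']
  subst this
  exact repWith_isOpenImmersion_quot_map hφ (isPreEqvRelSp hR)

/-- restrictions compose -/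
theorem IsRestr.comp {R'' U'' : Over S} {g' : U'' ⟶ U'} {s'' t'' : R'' ⟶ U''}
    (h : IsRestr s t g s' t') (h' : IsRestr s' t' g' s'' t'') :
    IsRestr s t (g' ≫ g) s'' t'' := by
  obtain ⟨r, hrs, hrt⟩ := h.exists_map
  obtain ⟨r', hrs', hrt'⟩ := h'.exists_map
  refine ⟨⟨r' ≫ r, ?_, ?_⟩, ?_⟩
  · rw [Category.assoc, hrs, ← Category.assoc, hrs', Category.assoc]
  · rw [Category.assoc, hrt, ← Category.assoc, hrt', Category.assoc]
  · intro T a b ρ h1 h2
    obtain ⟨ρ', e1, e2⟩ := h.exists_lift T (a ≫ g') (b ≫ g') ρ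
      (by rw [h1, Category.assoc]) (by rw [h2, Category.assoc])
    exact h'.exists_lift T a b ρ' e1 e2

end QuotMap

section Gpd
variable {G' G : GroupoidScheme S} (φ : GroupoidScheme.Hom G' G)
  (hφ : IsPullback φ.fR G'.j G.j (mapUU φ))

include hφ in
theorem isRestr_of_isPullback : IsRestr (sG G) (tG G) (fUo φ) (sG G') (tG G') where
  exists_map := ⟨fRo φ, fRo_s φ, fRo_t φ⟩
  exists_lift T a b ρ h1 h2 := by
    obtain ⟨r', e1, e2, -⟩ := exists_liftO φ hφ a b ρ h1 h2
    exact ⟨r', e1, e2⟩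

end Gpd

section Res
open Groth.Agent.Lib.Helper24.EqvSlice
variable {R U U' : Over S} (s t : R ⟶ U) (g : U' ⟶ U)

theorem isRestr_res : IsRestr s t g (sres s t g) (tres s t g) where
  exists_map := ⟨rres s t g, rres_s s t g, rres_t s t g⟩
  exists_lift T a b ρ h1 h2 := by
    obtain ⟨r', e1, e2, -⟩ := exists_lift_res s t g a b ρ h1 h2
    exact ⟨r', e1, e2⟩

end Res

end Groth.Agent.Lib.Helper24.Boot2
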