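import Mathlib
import Groth.Agent.Lib.Helper24.Boot2
import Groth.Agent.Lib.Helper3.Flat
import Groth.Agent.Lib.Helper14.FppfDesc2
import Groth.Agent.Lib.Helper14.FppfLocalInst2
set_option autoImplicit false
set_option linter.unusedSectionVars false
set_option backward.isDefEq.respectTransparency false
universe u
open CategoryTheory CategoryTheory.Limits AlgebraicGeometry Opposite

/-! The quotient of a quasi-split equivalence relation by its finite part is an étale
equivalence relation. -/

namespace Groth.Agent.Lib.Helper24.Boot3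
open AlgSp Grpd Groth.Agent.Lib.Helper24.QuotRestrict2 Groth.Agent.Lib.Helper24.QuotAtlas
open Groth.Agent.Lib.Helper14.AS Groth.Agent.Lib.Helper24.QuotRestrict
open Groth.Agent.Lib.Helper24.Boot1 Groth.Agent.Lib.Helper24.Boot2
open Groth.Agent.Lib.Helper14.FL Groth.Agent.Lib.Helper24.DescBridge

variable {S : Scheme.{u}}

section Diag
variable (H : GroupoidScheme S)

/-- `(α, β) ↦ α ∘ β⁻¹` -/
noncomputable def δ : pullback H.s H.s ⟶ H.R :=
  pullback.lift (pullback.fst H.s H.s) (pullback.snd H.s H.s ≫ H.i)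
    (by rw [Category.assoc, H.i_t, pullback.condition]) ≫ H.c

lemma δ_s : δ H ≫ H.s = pullback.snd H.s H.s ≫ H.t := by
  unfold δ
  rw [H.comp_s, Category.assoc, H.i_s]

lemma δ_t : δ H ≫ H.t = pullback.fst H.s H.s ≫ H.t := by
  unfold δ
  rw [H.comp_t]

/-- the diagonal of `s` is a base change of the identity section -/
lemma isPullback_diagonal [Mono H.j] :
    IsPullback H.t (pullback.diagonal H.s) H.e (δ H) := by
  have w : H.t ≫ H.e = pullback.diagonal H.s ≫ δ H := by
    apply hom_ext_of_mono H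
    · rw [Category.assoc, H.e_t, Category.comp_id, Category.assoc, δ_t,
        pullback.diagonal_fst_assoc]
    · rw [Category.assoc, H.e_s, Category.comp_id, Category.assoc, δ_s,
        pullback.diagonal_snd_assoc]
  refine IsPullback.of_isLimit' ⟨w⟩ ?_
  refine PullbackCone.IsLimit.mk w (fun c => c.snd ≫ pullback.fst _ _) (fun c => ?_) (fun c => ?_)
    (fun c m h1 h2 => ?_)
  · have := congrArg (fun f => f ≫ H.t) c.condition
    simp only [Category.assoc, H.e_t, Category.comp_id, δ_t] at this
    rw [Category.assoc]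
    exact this.symm
  · have e1 := congrArg (fun f => f ≫ H.t) c.condition
    simp only [Category.assoc, H.e_t, Category.comp_id, δ_t] at e1
    have e2 := congrArg (fun f => f ≫ H.s) c.condition
    simp only [Category.assoc, H.e_s, Category.comp_id, δ_s] at e2
    apply pullback.hom_ext
    · rw [Category.assoc, pullback.diagonal_fst, Category.comp_id]
    · rw [Category.assoc, pullback.diagonal_snd, Category.comp_id]
      apply hom_ext_of_mono H
      · rw [Category.assoc, Category.assoc, ← e1, ← e2]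
      · rw [Category.assoc, Category.assoc, pullback.condition]
  · rw [← h2, Category.assoc, pullback.diagonal_fst, Category.comp_id]

lemma isOpenImmersion_diagonal [Mono H.j] [IsOpenImmersion H.e] :
    IsOpenImmersion (pullback.diagonal H.s) :=
  MorphismProperty.of_isPullback (P := @IsOpenImmersion) (isPullback_diagonal H) inferInstance

end Diag

section Quot
variable {G' H : GroupoidScheme S} (φ : GroupoidScheme.Hom G' H)
  (hφ : IsPullback φ.fR G'.j H.j (mapUU φ))
  {P : Scheme.{u}} (ιP : P ⟶ G'.R)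
  (hP : IsPullback (ιP ≫ G'.t) (ιP ≫ G'.s) φ.fU φ.fU)

include hφ in
lemma mono_jH [Mono G'.j] [Surjective φ.fU] [Flat φ.fU] [LocallyOfFinitePresentation φ.fU] :
    Mono H.j := by
  have hQ : (@Surjective ⊓ @Flat ⊓ @LocallyOfFinitePresentation : MorphismProperty Scheme.{u})
      (mapUU φ) := prop_mapUU φ _ ⟨⟨‹_›, ‹_›⟩, ‹_›⟩
  exact MorphismProperty.of_isPullback_of_descendsAlong
    (P := MorphismProperty.monomorphisms Scheme.{u}) hφ.flip hQ
    (MorphismProperty.monomorphisms.infer_property G'.j)

include hφ hP in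
lemma isPullback_e [Mono G'.j] [Mono H.j] [Mono ιP] :
    IsPullback ιP (ιP ≫ G'.s ≫ φ.fU) φ.fR H.e := by
  have hw : ιP ≫ G'.t ≫ φ.fU = ιP ≫ G'.s ≫ φ.fU := by
    have := hP.w
    simpa only [Category.assoc] using this
  have w : ιP ≫ φ.fR = (ιP ≫ G'.s ≫ φ.fU) ≫ H.e := by
    apply hom_ext_of_mono H
    · rw [Category.assoc, φ.comm_t, Category.assoc, Category.assoc, Category.assoc, H.e_t,
        Category.comp_id, hw]
    · rw [Category.assoc, φ.comm_s, Category.assoc, Category.assoc, Category.assoc, H.e_s,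
        Category.comp_id]
  refine IsPullback.of_isLimit' ⟨w⟩ ?_
  have key : ∀ c : PullbackCone φ.fR H.e,
      (c.fst ≫ G'.t) ≫ φ.fU = c.snd ∧ (c.fst ≫ G'.s) ≫ φ.fU = c.snd := by
    intro c
    constructor
    · rw [Category.assoc, ← φ.comm_t, ← Category.assoc, c.condition, Category.assoc, H.e_t,
        Category.comp_id]
    · rw [Category.assoc, ← φ.comm_s, ← Category.assoc, c.condition, Category.assoc, H.e_s,
        Category.comp_id]
  have hl : ∀ c : PullbackCone φ.fR H.e,
      hP.lift (c.fst ≫ G'.t) (c.fst ≫ G'.s) ((key c).1.trans (key c).2.symm) ≫ ιP = c.fst := by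
    intro c
    apply hom_ext_of_mono G'
    · rw [Category.assoc]; exact hP.lift_fst _ _ _
    · rw [Category.assoc]; exact hP.lift_snd _ _ _
  refine PullbackCone.IsLimit.mk w
    (fun c => hP.lift (c.fst ≫ G'.t) (c.fst ≫ G'.s) ((key c).1.trans (key c).2.symm))
    (fun c => hl c) (fun c => ?_) (fun c m h1 h2 => ?_)
  · rw [← Category.assoc, hl c, ← Category.assoc]
    exact (key c).2
  · rw [← cancel_mono ιP, hl c, h1]

include hφ hP in
lemma isOpenImmersion_e [Mono G'.j] [Surjective φ.fU] [Flat φ.fU]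
    [LocallyOfFinitePresentation φ.fU] [IsOpenImmersion ιP] : IsOpenImmersion H.e := by
  have := mono_jH φ hφ
  have hQ : (@Surjective ⊓ @Flat ⊓ @LocallyOfFinitePresentation : MorphismProperty Scheme.{u})
      φ.fR := prop_fR φ hφ _ ⟨⟨‹_›, ‹_›⟩, ‹_›⟩
  exact MorphismProperty.of_isPullback_of_descendsAlong (P := @IsOpenImmersion)
    (isPullback_e φ hφ ιP hP) hQ ‹_›

include hφ hP in
lemma etale_s [Mono G'.j] [Surjective φ.fU] [Flat φ.fU]
    [LocallyOfFinitePresentation φ.fU] [IsOpenImmersion ιP] [Flat G'.s]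
    [LocallyOfFinitePresentation G'.s] : Etale H.s := by
  have := mono_jH φ hφ
  have := isOpenImmersion_e φ hφ ιP hP
  have := isOpenImmersion_diagonal H
  have hQ : (@Surjective ⊓ @Flat ⊓ @LocallyOfFinitePresentation : MorphismProperty Scheme.{u})
      φ.fR := prop_fR φ hφ _ ⟨⟨‹_›, ‹_›⟩, ‹_›⟩
  have h1 : Surjective φ.fR := hQ.1.1
  have h2 : Flat φ.fR := hQ.1.2
  have h3 : LocallyOfFinitePresentation φ.fR := hQ.2
  have h4 : Flat (φ.fR ≫ H.s) := by rw [φ.comm_s]; infer_instance
  have h5 : LocallyOfFinitePresentation (φ.fR ≫ H.s) := by rw [φ.comm_s]; infer_instance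
  have h6 : Flat H.s := Groth.Agent.Lib.Helper3.flat_of_flat_comp_of_surjective φ.fR H.s
  have h7 : LocallyOfFinitePresentation H.s := lfp_of_fppf_comp φ.fR H.s
  exact Etale.of_formallyUnramified_of_flat H.s

include hφ hP in
theorem isEtaleEqvRel_H [Mono G'.j] [Surjective φ.fU] [Flat φ.fU]
    [LocallyOfFinitePresentation φ.fU] [IsOpenImmersion ιP] [Flat G'.s]
    [LocallyOfFinitePresentation G'.s] : IsEtaleEqvRel (sG H) (tG H) := by
  have := mono_jH φ hφ
  have h1 : Etale H.s := etale_s φ hφ ιP hP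
  exact ⟨isEqvRel H, h1, prop_t H @Etale h1⟩

include hφ hP in
/-- the quotient sheaf of a quasi-split equivalence relation is an algebraic space -/
theorem isAlgSpace_of_quotient [Mono G'.j] [Surjective φ.fU] [Flat φ.fU]
    [LocallyOfFinitePresentation φ.fU] [IsOpenImmersion ιP] [Flat G'.s]
    [LocallyOfFinitePresentation G'.s] : IsAlgSpace (Qs (sG G') (tG G')) := by
  have hH := isEtaleEqvRel_H φ hφ ιP hP
  have := mono_jH φ hφ
  obtain ⟨ψ, -, -, hiso⟩ := (isRestr_of_isPullback φ hφ).exists_quot_map (isEqvRel H)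
  have h1 : Flat (fUo φ).left := ‹Flat φ.fU›
  have h2 : Surjective (fUo φ).left := ‹Surjective φ.fU›
  have h3 : LocallyOfFinitePresentation (fUo φ).left := ‹LocallyOfFinitePresentation φ.fU›
  have := hiso (epi_yon_map_of_fppf (fUo φ))
  exact (isAlgSpace_quotSp hH).of_iso (asIso ψ).symm

end Quot

end Groth.Agent.Lib.Helper24.Boot3
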