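import Groth.Agent.Lib.Helper24.DescAffine
set_option autoImplicit false
set_option linter.unusedSectionVars false
universe u
open CategoryTheory CategoryTheory.Limits AlgebraicGeometry

/-! The groupoid action of a descent datum: the action morphism is a base change of the cover,
and saturations of opens. -/

namespace Groth.Agent.Lib.Helper24.DescSat
open Desc Groth.Agent.Lib.Helper24.DescAffine

variable {X S : Scheme.{u}} {p : X ⟶ S} (D : SchDD p)

lemma sig_cond : (pullback.snd p (D.obj.hom ≫ p) ≫ D.obj.hom) ≫ p = act D ≫ D.obj.hom ≫ p := by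
  rw [← Category.assoc (act D), act_hom, Category.assoc, pullback.condition]

/-- the inversion `(x₁, v) ↦ (q v, x₁ * v)` of the action groupoid -/
noncomputable def sig : TT D ⟶ TT D :=
  pullback.lift (pullback.snd p (D.obj.hom ≫ p) ≫ D.obj.hom) (act D) (sig_cond D)

lemma sig_fst : sig D ≫ pullback.fst p (D.obj.hom ≫ p) =
    pullback.snd p (D.obj.hom ≫ p) ≫ D.obj.hom := pullback.lift_fst _ _ _

lemma sig_snd : sig D ≫ pullback.snd p (D.obj.hom ≫ p) = act D := pullback.lift_snd _ _ _

lemma sig_act : sig D ≫ act D = pullback.snd p (D.obj.hom ≫ p) := by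
  let x₀ : TT D ⟶ X := pullback.snd p (D.obj.hom ≫ p) ≫ D.obj.hom
  let x₁ : TT D ⟶ X := pullback.fst p (D.obj.hom ≫ p)
  let v : Lifts D.obj x₀ := ⟨pullback.snd p (D.obj.hom ≫ p), rfl⟩
  have h1 := φ_eq_act D x₁ x₀ (hx D).symm (D.φ x₀ x₁ (hx D) v)
  rw [D.φ_comp, D.φ_self] at h1
  exact h1.symm

lemma sig_sig : sig D ≫ sig D = 𝟙 _ := by
  apply pullback.hom_ext
  · rw [Category.assoc, sig_fst, ← Category.assoc, sig_snd, act_hom, Category.id_comp]
  · rw [Category.assoc, sig_snd, sig_act, Category.id_comp]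

instance : IsIso (sig D) := ⟨sig D, sig_sig D, sig_sig D⟩

lemma act_eq : act D = sig D ≫ pullback.snd p (D.obj.hom ≫ p) := (sig_snd D).symm

instance [Flat p] : Flat (act D) := by
  rw [act_eq]
  infer_instance

instance [LocallyOfFinitePresentation p] : LocallyOfFinitePresentation (act D) := by
  rw [act_eq]
  infer_instance

instance [Surjective p] : Surjective (act D) := by
  rw [act_eq]
  infer_instance

instance [QuasiCompact p] : QuasiCompact (act D) := by
  rw [act_eq]
  infer_instance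

section Sat
variable [Flat p] [LocallyOfFinitePresentation p]

/-- the saturation of an open subset of the total space under the action -/
noncomputable def sat (A : D.obj.left.Opens) : D.obj.left.Opens :=
  ⟨act D '' (pullback.snd p (D.obj.hom ≫ p) ⁻¹' (A : Set D.obj.left)),
    (act D).isOpenMap _ (A.2.preimage (pullback.snd p (D.obj.hom ≫ p)).continuous)⟩

lemma le_sat (A : D.obj.left.Opens) : A ≤ sat D A := by
  intro v hv
  refine ⟨unit D v, ?_, ?_⟩
  · change (pullback.snd p (D.obj.hom ≫ p)) (unit D v) ∈ (A : Set D.obj.left)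
    rw [← Scheme.Hom.comp_apply]
    have : unit D ≫ pullback.snd p (D.obj.hom ≫ p) = 𝟙 _ := pullback.lift_snd _ _ _
    rw [this]
    exact hv
  · rw [← Scheme.Hom.comp_apply, unit_act]
    rfl

lemma isCompact_sat [QuasiCompact p] (A : D.obj.left.Opens) (hA : IsCompact (A : Set D.obj.left)) :
    IsCompact (sat D A : Set D.obj.left) := by
  have : IsCompact (pullback.snd p (D.obj.hom ≫ p) ⁻¹' (A : Set D.obj.left)) :=
    QuasiCompact.isCompact_preimage (f := pullback.snd p (D.obj.hom ≫ p)) _ A.2 hA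
  exact this.image (act D).continuous

/-- transporting a point of `A` lands in the saturation of `A` -/
lemma range_φ_subset_sat (A : D.obj.left.Opens) {T : Scheme.{u}} (x₀ x₁ : T ⟶ X)
    (h : x₀ ≫ p = x₁ ≫ p) (v : Lifts D.obj x₀) (hv : Set.range v.1 ⊆ (A : Set D.obj.left)) :
    Set.range (D.φ x₀ x₁ h v).1 ⊆ (sat D A : Set D.obj.left) := by
  rintro _ ⟨t, rfl⟩
  rw [φ_eq_act D x₀ x₁ h v, Scheme.Hom.comp_apply]
  refine ⟨_, ?_, rfl⟩
  change (pullback.snd p (D.obj.hom ≫ p)) _ ∈ (A : Set D.obj.left)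
  rw [← Scheme.Hom.comp_apply, pullback.lift_snd]
  exact hv ⟨t, rfl⟩

/-- a point of the saturation of `A` is, fppf locally, a transport of a point of `A` -/
lemma exists_cover_of_range_subset_sat (A : D.obj.left.Opens) {T : Scheme.{u}}
    (v : T ⟶ D.obj.left) (hv : Set.range v ⊆ (sat D A : Set D.obj.left)) :
    ∃ (T' : Scheme.{u}) (c : T' ⟶ T) (a : T' ⟶ D.obj.left), Flat c ∧
      LocallyOfFinitePresentation c ∧ Surjective c ∧ Set.range a ⊆ (A : Set D.obj.left) ∧
      ∃ h : (a ≫ D.obj.hom) ≫ p = (c ≫ v ≫ D.obj.hom) ≫ p,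
        (D.φ (a ≫ D.obj.hom) (c ≫ v ≫ D.obj.hom) h ⟨a, rfl⟩).1 = c ≫ v := by
  let sn := pullback.snd p (D.obj.hom ≫ p)
  let B : (TT D).Opens := sn ⁻¹ᵁ A
  let g : (B : Scheme.{u}) ⟶ D.obj.left := B.ι ≫ act D
  have hgr : Set.range g = (sat D A : Set D.obj.left) := by
    rw [Scheme.Hom.comp_base, TopCat.coe_comp, Set.range_comp, Scheme.Opens.range_ι]
    rfl
  let c := pullback.snd g v
  let w : pullback g v ⟶ TT D := pullback.fst g v ≫ B.ι
  let a : pullback g v ⟶ D.obj.left := w ≫ sn
  have hwc : w ≫ act D = c ≫ v := by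
    simp only [w, c, Category.assoc]
    exact pullback.condition
  have hcs : Surjective c := by
    refine ⟨fun t => ?_⟩
    have : t ∈ Set.range c := by
      rw [Scheme.Pullback.range_snd, hgr]
      exact hv ⟨t, rfl⟩
    exact this
  have ha : Set.range a ⊆ (A : Set D.obj.left) := by
    rintro _ ⟨t, rfl⟩
    have : (pullback.fst g v ≫ B.ι) t ∈ (B : Set (TT D)) := by
      rw [Scheme.Hom.comp_apply]
      exact ((pullback.fst g v) t).2
    exact this
  have hx1 : w ≫ pullback.fst p (D.obj.hom ≫ p) = c ≫ v ≫ D.obj.hom := by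
    rw [← act_hom, ← Category.assoc, hwc, Category.assoc]
  have h : (a ≫ D.obj.hom) ≫ p = (c ≫ v ≫ D.obj.hom) ≫ p := by
    rw [← hx1]
    simp only [a, sn, Category.assoc]
    rw [pullback.condition]
  refine ⟨pullback g v, c, a, inferInstance, inferInstance, hcs, ha, h, ?_⟩
  rw [φ_eq_act, ← hwc]
  congr 1
  apply pullback.hom_ext
  · rw [pullback.lift_fst, hx1]
  · rw [pullback.lift_snd]

end Sat

end Groth.Agent.Lib.Helper24.DescSat
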