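import Groth.Agent.Lib.Helper24.DescBridge
import Groth.Agent.Lib.Helper24.DescSat
import Groth.Agent.Lib.Helper24.ZarGlue
import Groth.Agent.Lib.Helper14.AlgSpSubsheaf
set_option autoImplicit false
set_option linter.unusedSectionVars false
universe u
open CategoryTheory CategoryTheory.Limits AlgebraicGeometry Opposite

/-! The open subsheaf of `E` generated by an open of the chart `V'`, and its base change to the
chart (the saturation of the open). -/

namespace Groth.Agent.Lib.Helper24.DescSubsheaf
open AlgSp Desc Groth.Agent.Lib.Helper14.AS Groth.Agent.Lib.Helper24.DescSheaf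
open Groth.Agent.Lib.Helper24.DescBridge Groth.Agent.Lib.Helper24.DescSat
open Groth.Agent.Lib.Helper24.ZarGlue

variable {S : Scheme.{u}}

/-- an fppf covering family of `T` over `S` is jointly surjective -/
theorem exists_mem_range_of_mem_KS {T : Over S} (R : Presieve T) (hR : R ∈ KS S T) (x : T.left) :
    ∃ (W : Over S) (w : W ⟶ T), R w ∧ x ∈ Set.range w.left := by
  rw [Precoverage.mem_comap_iff] at hR
  obtain ⟨Y, g, hg, hx⟩ := hR.1 x
  obtain ⟨W, w, hw⟩ : ∃ (W : Over S) (w : W ⟶ T), R w ∧ Set.range w.left = Set.range g := by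
    cases hg with
    | of h =>
      cases h with
      | of h' => exact ⟨_, _, h', rfl⟩
  exact ⟨W, w, hw.1, hw.2 ▸ hx⟩

variable {E : Sp S} {V' : Over S} (fstV : (yon S).obj V' ⟶ E) (A : V'.left.Opens)

/-- the sieve of maps to `T` along which `g` lifts to a point of `A` -/
def liftSieve {T : Over S} (g : (yon S).obj T ⟶ E) : Sieve T where
  arrows W w := ∃ a : W ⟶ V', Set.range a.left ⊆ (A : Set V'.left) ∧
    (yon S).map a ≫ fstV = (yon S).map w ≫ g
  downward_closed := by
    rintro W W' w ⟨a, ha, hag⟩ u
    refine ⟨u ≫ a, ?_, ?_⟩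
    · rintro _ ⟨t, rfl⟩
      exact ha ⟨u.left t, rfl⟩
    · rw [Functor.map_comp, Functor.map_comp, Category.assoc, Category.assoc, hag]

lemma liftSieve_pullback {T T' : Over S} (t : T' ⟶ T) (g : (yon S).obj T ⟶ E) :
    liftSieve fstV A ((yon S).map t ≫ g) = (liftSieve fstV A g).pullback t := by
  ext W w
  constructor
  · rintro ⟨a, ha, hag⟩
    exact ⟨a, ha, by rw [hag, Functor.map_comp, Category.assoc]⟩
  · rintro ⟨a, ha, hag⟩
    exact ⟨a, ha, by rw [hag, Functor.map_comp, Category.assoc]⟩

/-- the predicate "lifts fppf locally to a point of `A`" -/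
def locPred : SubPred E where
  P T g := liftSieve fstV A g ∈ AlgSp.J S T
  comp T T' t g hg := by
    rw [liftSieve_pullback]
    exact (AlgSp.J S).pullback_stable t hg
  loc T g R hR h := by
    have hR' : Sieve.generate R ∈ AlgSp.J S T := (mem_J_iff _).2 ⟨R, hR, Sieve.le_generate R⟩
    refine (AlgSp.J S).transitive hR' _ ?_
    rintro W f ⟨W', u, w, hw, rfl⟩
    rw [Sieve.pullback_comp]
    apply (AlgSp.J S).pullback_stable
    rw [← liftSieve_pullback]
    exact h w hw

section Sq
variable {fstV} {Z Z' : Over S} {π : E ⟶ (yon S).obj Z} {c : Z' ⟶ Z} {r : V' ⟶ Z'}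
  (sq : IsPullback fstV ((yon S).map r) π ((yon S).map c))
  [Flat c.left] [LocallyOfFinitePresentation c.left]

/-- the saturation of `A`, as an open of `V'` -/
noncomputable def satOpen : V'.left.Opens := sat (ddOfSq sq) A

include sq in
/-- points of the chart lying in the subsheaf are the points of the saturation -/
theorem locPred_iff {T : Over S} (t : T ⟶ V') :
    (locPred fstV A).P ((yon S).map t ≫ fstV) ↔
      ∃ w : T ⟶ resOpen V' (satOpen A sq), w ≫ resOpenι V' (satOpen A sq) = t := by
  constructor
  · intro h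
    obtain ⟨R, hR, hle⟩ := (mem_J_iff _).1 h
    have hrange : Set.range t.left ⊆ (satOpen A sq : Set V'.left) := by
      rintro _ ⟨x, rfl⟩
      obtain ⟨W, w, hw, y, rfl⟩ := exists_mem_range_of_mem_KS R hR x
      obtain ⟨a, ha, hag⟩ := hle _ _ hw
      rw [← Functor.map_comp_assoc] at hag
      have hs : SameIm fstV a.left (w ≫ t).left := (sameIm_over a (w ≫ t)).2 hag
      have hb := sameIm_base sq hs
      have he := ddOfSq_eq sq (a.left ≫ r.left) ((w ≫ t).left ≫ r.left) hb ⟨a.left, rfl⟩
        (w ≫ t).left rfl hs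
      have hsub := range_φ_subset_sat (ddOfSq sq) A (a.left ≫ r.left) ((w ≫ t).left ≫ r.left) hb
        ⟨a.left, rfl⟩ ha
      rw [he] at hsub
      exact hsub ⟨y, rfl⟩
    have hr : Set.range t.left ⊆ Set.range (satOpen A sq).ι := by
      rw [Scheme.Opens.range_ι]
      exact hrange
    refine ⟨Over.homMk (IsOpenImmersion.lift (satOpen A sq).ι t.left hr) ?_, ?_⟩
    · change IsOpenImmersion.lift (satOpen A sq).ι t.left hr ≫ (satOpen A sq).ι ≫ V'.hom = T.hom
      rw [← Category.assoc, IsOpenImmersion.lift_fac, Over.w]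
    · ext1
      exact IsOpenImmersion.lift_fac _ _ _
  · rintro ⟨w, rfl⟩
    have hrange : Set.range (w ≫ resOpenι V' (satOpen A sq)).left ⊆
        (satOpen A sq : Set V'.left) := by
      rintro _ ⟨x, rfl⟩
      change ((satOpen A sq).ι (w.left x)) ∈ _
      exact (w.left x).2
    obtain ⟨T', c', a₀, hcf, hcl, hcs, ha, hh, hφ⟩ :=
      exists_cover_of_range_subset_sat (ddOfSq sq) A (w ≫ resOpenι V' (satOpen A sq)).left hrange
    let a : T' ⟶ V'.left := a₀
    have hs : SameIm fstV a (c' ≫ (w ≫ resOpenι V' (satOpen A sq)).left) := by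
      have := ddOfSq_spec sq _ _ hh ⟨a₀, rfl⟩
      rw [hφ] at this
      exact this
    let W : Over S := Over.mk (c' ≫ T.hom)
    let w' : W ⟶ T := Over.homMk c' rfl
    let a' : W ⟶ V' := Over.homMk a (by
      change a ≫ V'.hom = c' ≫ T.hom
      refine hs.1.trans ?_
      rw [Category.assoc, Over.w])
    have hmem : (liftSieve fstV A ((yon S).map (w ≫ resOpenι V' (satOpen A sq)) ≫ fstV)) w' := by
      refine ⟨a', ha, ?_⟩
      rw [← Functor.map_comp_assoc]
      exact (sameIm_over a' (w' ≫ w ≫ resOpenι V' (satOpen A sq))).1 hs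
    have : Flat w'.left := hcf
    have : LocallyOfFinitePresentation w'.left := hcl
    have : Surjective w'.left := hcs
    refine (AlgSp.J S).superset_covering ?_ (generate_singleton_mem_J w')
    rintro W₁ f ⟨W₂, u, v, ⟨⟩, rfl⟩
    exact Sieve.downward_closed _ hmem u

/-- the subsheaf of `E` generated by `A` -/
noncomputable abbrev subE : Sp S := (locPred fstV A).sheaf

include sq in
/-- the base change of the subsheaf generated by `A` to the chart is the saturation of `A` -/
theorem exists_isPullback_subE :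
    ∃ k : (yon S).obj (resOpen V' (satOpen A sq)) ⟶ subE (fstV := fstV) A,
      IsPullback k ((yon S).map (resOpenι V' (satOpen A sq))) (locPred fstV A).ι fstV := by
  have : Mono (resOpenι V' (satOpen A sq)) := by
    have : Mono ((Over.forget S).map (resOpenι V' (satOpen A sq))) :=
      inferInstanceAs (Mono (satOpen A sq).ι)
    exact (Over.forget S).mono_of_mono_map this
  exact (locPred fstV A).exists_isPullback fstV (resOpenι V' (satOpen A sq))
    (fun T' t => locPred_iff A sq t)

end Sq

end Groth.Agent.Lib.Helper24.DescSubsheaf
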