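import Mathlib
import Groth.Agent.Lib.Helper24.Boot3
import Groth.Agent.Lib.Helper10.QuotShBr1
import Groth.Agent.Lib.Helper24.DescSubsheaf
import Groth.Agent.S12202
import Groth.Agent.S10140
set_option autoImplicit false
set_option linter.unusedSectionVars false
set_option backward.isDefEq.respectTransparency false
universe u
open CategoryTheory CategoryTheory.Limits AlgebraicGeometry Opposite

/-! Local step of the bootstrap theorem: around each point, a locally quasi-finite flat
equivalence relation has an open piece of its quotient sheaf which is an algebraic space. -/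

namespace Groth.Agent.Lib.Helper24.Boot4
open AlgSp Grpd Groth.Agent.Lib.Helper24.QuotRestrict2 Groth.Agent.Lib.Helper24.QuotAtlas
open Groth.Agent.Lib.Helper14.AS Groth.Agent.Lib.Helper24.QuotRestrict
open Groth.Agent.Lib.Helper24.Boot1 Groth.Agent.Lib.Helper24.Boot2 Groth.Agent.Lib.Helper24.Boot3
open Groth.Agent.Lib.Helper24.DescBridge Groth.Agent.Lib.Helper24.EqvSlice
open Groth.Agent.Lib.Helper24.GrpdEqv

variable {S : Scheme.{u}}

/-- a morphism of schemes exhibiting its target as an fppf quotient sheaf is surjective -/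
theorem surjective_of_isQuotient {R U M : Over S} (s t : R ⟶ U) (q : U ⟶ M)
    (h : QuotSh.IsQuotient Scheme.fppfPrecoverage s t q) : Surjective q.left := by
  obtain ⟨w, hiso⟩ := h
  have h1 : QuotSh.quotπ Scheme.fppfPrecoverage s t ≫ QuotSh.quotDesc Scheme.fppfPrecoverage q w =
      QuotSh.repMap Scheme.fppfPrecoverage q := coequalizer.π_desc _ _
  have h2 : Epi (QuotSh.quotπ Scheme.fppfPrecoverage s t) := by
    unfold QuotSh.quotπ
    exact coequalizer.π_epi
  have h3 : Epi (QuotSh.repMap Scheme.fppfPrecoverage q) := by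
    rw [← h1]
    infer_instance
  have h4 : Epi ((yon S).map q) := (Groth.Agent.Lib.Helper10.QuotShBr.epi_repMap_iff q).1 h3
  obtain ⟨Rc, hRc, hl⟩ := Groth.Agent.Lib.Helper10.QuotShBr.exists_cover_lift_of_epi q h4
  refine ⟨fun x => ?_⟩
  obtain ⟨W, w', hw', ⟨z, rfl⟩⟩ :=
    Groth.Agent.Lib.Helper24.DescSubsheaf.exists_mem_range_of_mem_KS Rc hRc x
  obtain ⟨l, hl'⟩ := hl w' hw'
  refine ⟨l.left z, ?_⟩
  rw [← hl']
  rfl

variable {R U : Over S} (s t : R ⟶ U)

set_option maxHeartbeats 1000000 in
theorem exists_local_algSpace (h : IsEqvRel s t)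
    [Flat s.left] [LocallyOfFinitePresentation s.left] [LocallyQuasiFinite s.left]
    [Flat t.left] [LocallyOfFinitePresentation t.left] [LocallyQuasiFinite t.left] (u : U.left) :
    ∃ (R' U' : Over S) (s' t' : R' ⟶ U') (g : U' ⟶ U), IsAlgSpace (Qs s' t') ∧
      IsRestr s t g s' t' ∧ Flat g.left ∧ LocallyOfFinitePresentation g.left ∧
      u ∈ Set.range g.left := by
  -- an affine open neighbourhood
  obtain ⟨O, hO, huO⟩ : ∃ O : U.left.Opens, IsAffineOpen O ∧ u ∈ O := by
    obtain ⟨_, ⟨O, hO : IsAffineOpen O, rfl⟩, hx, -⟩ :=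
      U.left.isBasis_affineOpens.exists_subset_of_mem_open (Set.mem_univ u) isOpen_univ
    exact ⟨O, hO, hx⟩
  let g₀ := opensι O
  have hg₀ : IsOpenImmersion g₀.left := inferInstance
  have hh1 : Flat (hres s t g₀) := by unfold hres; infer_instance
  have hh2 : LocallyOfFinitePresentation (hres s t g₀) := by unfold hres; infer_instance
  have hh3 : LocallyQuasiFinite (hres s t g₀) := by unfold hres; infer_instance
  have h₀ : IsEqvRel (sres s t g₀) (tres s t g₀) := isEqvRel_res s t g₀ h
  let G := eqvGroupoid (sres s t g₀) (tres s t g₀) h₀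
  have hGs : G.s = (sres s t g₀).left := rfl
  have hGt : G.t = (tres s t g₀).left := rfl
  have hmG : Mono G.j := mono_j_of_isEqvRel G h₀
  have : IsAffine G.U := hO
  have : Flat G.s := prop_sres s t g₀ @Flat hh1
  have : LocallyOfFinitePresentation G.s := prop_sres s t g₀ @LocallyOfFinitePresentation hh2
  have hqs : LocallyQuasiFinite G.s := prop_sres s t g₀ @LocallyQuasiFinite hh3
  have : Flat G.t := prop_tres s t g₀ h @Flat hh1
  have : LocallyOfFinitePresentation G.t := prop_tres s t g₀ h @LocallyOfFinitePresentation hh2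
  have : IsSeparated G.s := by
    rw [← j_snd G]
    infer_instance
  have : IsSeparated G.t := by
    rw [← j_fst G]
    infer_instance
  let u₀ : G.U := ⟨u, huO⟩
  have hu₀ : g₀.left u₀ = u := rfl
  have hqf : Dual3.QuasiFiniteAt G.s (G.e u₀) :=
    (Scheme.Hom.quasiFiniteAt_iff_isOpen_singleton_asFiber).1 (G.s.quasiFiniteAt _)
  obtain ⟨G', φ, u', hAff, hEt, hu', -, hpb, P, ιP, hι, he, hi, hc, hfs, hft⟩ :=
    Groth.Agent.S12202.result S G u₀ hqf
  have hmG' : Mono G'.j := mono_j' φ hpb
  have hEt' : Flat φ.fU := inferInstance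
  have hEt'' : LocallyOfFinitePresentation φ.fU := inferInstance
  have : Flat G'.s := prop_s' φ hpb @Flat hEt' inferInstance
  have : LocallyOfFinitePresentation G'.s :=
    prop_s' φ hpb @LocallyOfFinitePresentation hEt'' inferInstance
  have : Flat G'.t := prop_t G' @Flat inferInstance
  have : LocallyOfFinitePresentation G'.t := prop_t G' @LocallyOfFinitePresentation inferInstance
  have : LocallyOfFiniteType G'.j := by
    have : LocallyOfFiniteType (G'.j ≫ pullback.fst G'.pU G'.pU) := by
      rw [j_fst]; infer_instance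
    exact locallyOfFiniteType_of_comp G'.j (pullback.fst G'.pU G'.pU)
  obtain ⟨H, φ', hAffH, hquot, hfin, hfl, hlfp, hP, hpb'⟩ :=
    Groth.Agent.S10140.result S G' P ιP he hi hc
  have hsurj : Surjective φ'.fU := surjective_of_isQuotient _ _ _ hquot
  have halg : IsAlgSpace (Qs (sG G') (tG G')) := isAlgSpace_of_quotient φ' hpb' ιP hP
  have hr : IsRestr s t (fUo φ ≫ g₀) (sG G') (tG G') :=
    (isRestr_res s t g₀).comp (isRestr_of_isPullback φ hpb)
  refine ⟨Ro G', Uo G', sG G', tG G', fUo φ ≫ g₀, halg, hr, ?_, ?_, ⟨u', ?_⟩⟩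
  · change Flat (φ.fU ≫ g₀.left)
    infer_instance
  · change LocallyOfFinitePresentation (φ.fU ≫ g₀.left)
    infer_instance
  · change g₀.left (φ.fU u') = u
    rw [hu', hu₀]

end Groth.Agent.Lib.Helper24.Boot4
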