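import Groth.Agent.Lib.Helper24.EqvSlice4
import Groth.Agent.S7508
import Groth.Agent.S9341
set_option autoImplicit false
universe u
open CategoryTheory CategoryTheory.Limits AlgebraicGeometry Opposite

/-! Slicing a Cohen–Macaulay equivalence relation to a locally quasi-finite one. -/

namespace Groth.Agent.Lib.Helper24.EqvSlice
open AlgSp QuotSh Groth.Agent.Lib.Helper24.GrpdEqv

variable {S : Scheme.{u}} {R U : Over S} (s t : R ⟶ U) {U' : Over S} (g : U' ⟶ U)

/-- `h` has a source-local property as soon as its restrictions to an open cover of `U'` do -/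
theorem prop_hres_of_cover (P : MorphismProperty Scheme.{u}) [IsZariskiLocalAtSource P]
    (𝒰 : Scheme.OpenCover.{u} U'.left)
    (hP : ∀ i, P (pullback.snd (𝒰.f i ≫ g.left) t.left ≫ s.left)) : P (hres s t g) := by
  rw [IsZariskiLocalAtSource.iff_of_openCover (P := P) (𝒰.pullback₂ (pullback.fst g.left t.left))]
  intro i
  change P (pullback.snd (𝒰.f i) (pullback.fst g.left t.left) ≫ pullback.snd g.left t.left ≫ s.left)
  have e : pullback.snd (𝒰.f i) (pullback.fst g.left t.left) ≫ pullback.snd g.left t.left ≫ s.left =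
      (pullbackRightPullbackFstIso g.left t.left (𝒰.f i)).hom ≫
        pullback.snd (𝒰.f i ≫ g.left) t.left ≫ s.left := by
    rw [← Category.assoc, ← Category.assoc, pullbackRightPullbackFstIso_hom_snd]
  rw [e]
  exact (P.cancel_left_of_respectsIso _ _).2 (hP i)

variable {s t}

theorem surjective_hres_of_ft (h : IsEqvRel s t) [Flat (hres s t g)]
    [LocallyOfFinitePresentation (hres s t g)]
    (hft : ∀ u : U.left, LocallyOfFiniteType (U.left.fromSpecResidueField u) →
      u ∈ Set.range g.left) : Surjective (hres s t g) := by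
  refine ⟨fun u => ?_⟩
  by_contra hu
  have hopen : IsOpen (Set.range (hres s t g)) := (hres s t g).isOpenMap.isOpen_range
  obtain ⟨u₀, hu₀, hu₀ft⟩ := (Groth.Agent.S9341.result U.left).1 (Set.range (hres s t g))ᶜ
    hopen.isClosed_compl.isLocallyClosed ⟨u, hu⟩
  apply hu₀
  obtain ⟨u', hu'⟩ := hft u₀ hu₀ft
  obtain ⟨e, he1, he2⟩ := exists_e h
  have e1 : t.left (e u₀) = u₀ := by
    rw [← Scheme.Hom.comp_apply, he1]; rfl
  have e2 : s.left (e u₀) = u₀ := by
    rw [← Scheme.Hom.comp_apply, he2]; rfl
  obtain ⟨z, -, hz⟩ := Scheme.Pullback.exists_preimage_pullback (f := g.left) (g := t.left)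
    u' (e u₀) (hu'.trans e1.symm)
  refine ⟨z, ?_⟩
  change (pullback.snd g.left t.left ≫ s.left) z = _
  rw [Scheme.Hom.comp_apply, hz, e2]

/-- the stabilizer of the groupoid of an equivalence relation is trivial -/
theorem isIso_stabilizerToU (h : IsEqvRel s t) : IsIso (eqvGroupoid s t h).stabilizerToU := by
  let G := eqvGroupoid s t h
  have hm : Mono G.j := by
    refine ⟨fun {T} x y hxy => ?_⟩
    apply hom_ext h
    · have := congrArg (fun k => k ≫ pullback.fst G.pU G.pU) hxy
      simp only [Category.assoc, Grpd.GroupoidScheme.j, pullback.lift_fst] at this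
      exact this
    · have := congrArg (fun k => k ≫ pullback.snd G.pU G.pU) hxy
      simp only [Category.assoc, Grpd.GroupoidScheme.j, pullback.lift_snd] at this
      exact this
  have hm2 : Mono G.stabilizerToU := by
    unfold Grpd.GroupoidScheme.stabilizerToU
    exact pullback.snd_of_mono
  have hs : IsSplitEpi G.stabilizerToU :=
    IsSplitEpi.mk' ⟨G.eStab, by
      unfold Grpd.GroupoidScheme.stabilizerToU Grpd.GroupoidScheme.eStab
      exact pullback.lift_snd _ _ _⟩
  exact isIso_of_mono_of_isSplitEpi _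

end Groth.Agent.Lib.Helper24.EqvSlice

namespace Groth.Agent.Lib.Helper24.EqvSlice
open AlgSp QuotSh Groth.Agent.Lib.Helper24.GrpdEqv

variable {S : Scheme.{u}} {R U : Over S} {s t : R ⟶ U}

set_option backward.isDefEq.respectTransparency.types false in
theorem exists_lqf_slice_of_cm (h : IsEqvRel s t) [LocallyOfFinitePresentation s.left]
    [LocallyOfFinitePresentation t.left]
    (hs : ∀ r, Grpd.IsCMAt s.left r) (ht : ∀ r, Grpd.IsCMAt t.left r) :
    ∃ (U' : Over S) (g : U' ⟶ U), Flat (hres s t g) ∧ LocallyOfFinitePresentation (hres s t g) ∧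
      LocallyQuasiFinite (hres s t g) ∧ Surjective (hres s t g) := by
  let G := eqvGroupoid s t h
  have : LocallyOfFinitePresentation G.s := ‹LocallyOfFinitePresentation s.left›
  have : LocallyOfFinitePresentation G.t := ‹LocallyOfFinitePresentation t.left›
  have hiso : IsIso G.stabilizerToU := isIso_stabilizerToU h
  have : LocallyOfFiniteType G.stabilizerToU := inferInstance
  have : LocallyQuasiFinite G.stabilizerToU := inferInstance
  let I := {u : U.left // LocallyOfFiniteType (U.left.fromSpecResidueField u)}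
  have key : ∀ i : I, ∃ (V : Scheme.{u}) (gi : V ⟶ U.left) (v : V), gi v = i.1 ∧
      Flat (pullback.snd gi t.left ≫ s.left) ∧
      LocallyOfFinitePresentation (pullback.snd gi t.left ≫ s.left) ∧
      LocallyQuasiFinite (pullback.snd gi t.left ≫ s.left) := by
    intro i
    obtain ⟨V, _, gi, v, -, -, hv, ⟨h1, h2, -, h4⟩, -, -⟩ :=
      Groth.Agent.S7508.result S G hs ht i.1 i.2
    exact ⟨V, gi, v, hv, h1, h2, h4⟩
  choose V gi v hv hfl hlfp hlqf using key
  let U'sch : Scheme.{u} := ∐ V
  let gsch : U'sch ⟶ U.left := Sigma.desc gi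
  let U' : Over S := Over.mk (gsch ≫ U.hom)
  let g : U' ⟶ U := Over.homMk gsch rfl
  have hcov : ∀ (P : MorphismProperty Scheme.{u}) [IsZariskiLocalAtSource P],
      (∀ i, P (pullback.snd (gi i) t.left ≫ s.left)) → P (hres s t g) := by
    intro P _ hP
    refine prop_hres_of_cover s t g P (sigmaOpenCover V) (fun i => ?_)
    have e : (sigmaOpenCover V).f i ≫ g.left = gi i := Sigma.ι_desc _ _
    have aux : ∀ k : V i ⟶ U.left, k = gi i → P (pullback.snd k t.left ≫ s.left) := by
      rintro k rfl; exact hP i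
    exact aux _ e
  have h1 : Flat (hres s t g) := hcov @Flat hfl
  have h2 : LocallyOfFinitePresentation (hres s t g) := hcov @LocallyOfFinitePresentation hlfp
  have h3 : LocallyQuasiFinite (hres s t g) := hcov @LocallyQuasiFinite hlqf
  refine ⟨U', g, h1, h2, h3, surjective_hres_of_ft g h ?_⟩
  intro u hu
  refine ⟨Sigma.ι V ⟨u, hu⟩ (v ⟨u, hu⟩), ?_⟩
  change (Sigma.desc gi) (Sigma.ι V ⟨u, hu⟩ (v ⟨u, hu⟩)) = u
  rw [← Scheme.Hom.comp_apply, Sigma.ι_desc]
  exact hv ⟨u, hu⟩

end Groth.Agent.Lib.Helper24.EqvSlice
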