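import Groth.Agent.Lib.Helper24.CoprodSp2
set_option autoImplicit false
set_option linter.unusedSectionVars false
universe u
open CategoryTheory CategoryTheory.Limits AlgebraicGeometry Opposite

/-! Source-local criterion for representability with a property of a map from a scheme to a
sheaf. -/

namespace Groth.Agent.Lib.Helper24.SrcLocal
open AlgSp Groth.Agent.Lib.Helper14.AS Groth.Agent.Lib.Helper24.ZarGlue
open Groth.Agent.Lib.Helper24.ZarGlueRep

variable {S : Scheme.{u}}

section
variable {F : Sp S} {U : Over S} (Q : (yon S).obj U ⟶ F) {ι : Type u} (T : ι → Over S)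
  (j : ∀ i, T i ⟶ U) (hj : ∀ i, IsOpenImmersion (j i).left)
  (hcov : ∀ x : U.left, ∃ i, x ∈ Set.range (j i).left)

include hj hcov in
/-- **Source-local representability.** If the restrictions of `Q : h_U ⟶ F` to the members of
an open cover of `U` are representable, so is `Q`; the pullback to a test scheme is glued from
the pullbacks of the restrictions. -/
theorem exists_rep_of_source_cover (hrep : ∀ i, Representable ((yon S).map (j i) ≫ Q))
    {Z : Over S} (g : (yon S).obj Z ⟶ F) :
    ∃ (W : Over S) (fst : (yon S).obj W ⟶ (yon S).obj U) (ρ : W ⟶ Z)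
      (k : ∀ i, (hrep i).pullback g ⟶ W),
      IsPullback fst ((yon S).map ρ) Q g ∧ (∀ i, IsOpenImmersion (k i).left) ∧
      (∀ i, k i ≫ ρ = (hrep i).snd g) ∧
      (∀ i, (yon S).map (k i) ≫ fst = (hrep i).fst g ≫ (yon S).map (j i)) ∧
      ∀ w : W.left, ∃ i, w ∈ Set.range (k i).left := by
  let E : Sp S := pullback Q g
  let e : ∀ i, (yon S).obj ((hrep i).pullback g) ⟶ E := fun i =>
    pullback.lift ((hrep i).fst g ≫ (yon S).map (j i)) ((yon S).map ((hrep i).snd g)) (by
      rw [Category.assoc]
      exact ((hrep i).isPullback g).w)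
  have he1 : ∀ i, e i ≫ pullback.fst Q g = (hrep i).fst g ≫ (yon S).map (j i) :=
    fun i => pullback.lift_fst _ _ _
  have he2 : ∀ i, e i ≫ pullback.snd Q g = (yon S).map ((hrep i).snd g) :=
    fun i => pullback.lift_snd _ _ _
  have sqe : ∀ i, IsPullback ((hrep i).fst g) (e i) ((yon S).map (j i)) (pullback.fst Q g) := by
    intro i
    refine IsPullback.of_bot ?_ (he1 i).symm (IsPullback.of_hasPullback Q g)
    rw [he2 i]
    exact (hrep i).isPullback g
  have hoe : ∀ i, RepWith @IsOpenImmersion (e i) := fun i =>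
    MorphismProperty.of_isPullback (P := RepWith @IsOpenImmersion) (sqe i)
      ((repWith_yon_map_iff @IsOpenImmersion (j i)).2 (hj i))
  obtain ⟨W, ε, k, hk, hkε, hkcov⟩ := exists_iso_yon_of_open_cover hoe (by
    intro T' t x
    obtain ⟨u₀, hu₀⟩ := (yon S).map_surjective (t ≫ pullback.fst Q g)
    obtain ⟨i, hi⟩ := hcov (u₀.left x)
    have := hj i
    let O : T'.left.Opens := u₀.left ⁻¹ᵁ (j i).left.opensRange
    have hr : Set.range (O.ι ≫ u₀.left) ⊆ Set.range (j i).left := by
      rintro _ ⟨s, rfl⟩
      exact s.2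
    let b₀ : (O : Scheme.{u}) ⟶ (T i).left := IsOpenImmersion.lift (j i).left (O.ι ≫ u₀.left) hr
    have hb₀ : b₀ ≫ (j i).left = O.ι ≫ u₀.left := IsOpenImmersion.lift_fac _ _ _
    let b : resOpen T' O ⟶ T i := Over.homMk b₀ (by
      change b₀ ≫ (T i).hom = O.ι ≫ T'.hom
      rw [← Over.w (j i), ← Category.assoc, hb₀, Category.assoc, Over.w])
    have hb : b ≫ j i = resOpenι T' O ≫ u₀ := by
      ext1
      exact hb₀
    have hcompat : (yon S).map b ≫ (yon S).map (j i) ≫ Q =
        ((yon S).map (resOpenι T' O) ≫ t ≫ pullback.snd Q g) ≫ g := by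
      rw [← Functor.map_comp_assoc, hb, Functor.map_comp_assoc, hu₀]
      simp only [Category.assoc, pullback.condition]
    let l' := ((hrep i).isPullback g).lift ((yon S).map b)
      ((yon S).map (resOpenι T' O) ≫ t ≫ pullback.snd Q g) hcompat
    have hl1 : l' ≫ (hrep i).fst g = (yon S).map b := ((hrep i).isPullback g).lift_fst _ _ _
    have hl2 : l' ≫ (yon S).map ((hrep i).snd g) =
        (yon S).map (resOpenι T' O) ≫ t ≫ pullback.snd Q g :=
      ((hrep i).isPullback g).lift_snd _ _ _
    refine ⟨i, O, hi, (yon S).preimage l', ?_⟩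
    rw [Functor.map_preimage]
    apply pullback.hom_ext
    · rw [Category.assoc, he1, ← Category.assoc, hl1, ← Functor.map_comp, hb, Functor.map_comp,
        hu₀, Category.assoc]
    · rw [Category.assoc, he2, hl2, Category.assoc])
  obtain ⟨ρ, hρ⟩ := (yon S).map_surjective (ε.hom ≫ pullback.snd Q g)
  refine ⟨W, ε.hom ≫ pullback.fst Q g, ρ, k, isPullback_of_iso_pullback Q g ρ ε hρ.symm, hk,
    fun i => ?_, fun i => ?_, fun w => ?_⟩
  · apply (yon S).map_injective
    rw [Functor.map_comp, hρ, ← Category.assoc, hkε, he2]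
  · rw [← Category.assoc, hkε, he1]
  · obtain ⟨i, hi⟩ := hkcov w
    exact ⟨i, hi⟩

include hj hcov in
/-- **Source-local criterion** for representability with a property local at the source. -/
theorem repWith_of_source_cover (P : MorphismProperty Scheme.{u}) [IsZariskiLocalAtSource P]
    (h : ∀ i, RepWith P ((yon S).map (j i) ≫ Q)) : RepWith P Q := by
  have : P.RespectsIso := inferInstance
  have : (MorphismProperty.inverseImage P (Over.forget S)).RespectsIso :=
    MorphismProperty.RespectsIso.inverseImage _ _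
  refine MorphismProperty.relative.of_exists fun Z g => ?_
  obtain ⟨W, fst, ρ, k, sq, hk, hkρ, -, hkcov⟩ :=
    exists_rep_of_source_cover Q T j hj hcov (fun i => (h i).rep) g
  refine ⟨W, fst, ρ, sq, ?_⟩
  change P ρ.left
  refine IsZariskiLocalAtSource.of_iSup_eq_top (fun i => (k i).left.opensRange) ?_ fun i => ?_
  · rw [eq_top_iff]
    intro w _
    obtain ⟨i, hi⟩ := hkcov w
    exact TopologicalSpace.Opens.mem_iSup.2 ⟨i, hi⟩
  · have := hk i
    rw [← IsOpenImmersion.isoOfRangeEq_hom_fac (Scheme.Opens.ι _) (k i).left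
      (congr_arg TopologicalSpace.Opens.carrier (k i).left.opensRange.opensRange_ι), Category.assoc,
      P.cancel_left_of_respectsIso]
    have hP : P ((h i).rep.snd g).left := (h i).property_snd g
    rw [← hkρ i] at hP
    exact hP

end

end Groth.Agent.Lib.Helper24.SrcLocal
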