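import Groth.Agent.Lib.Helper24.DescSL
import Groth.Agent.Lib.Helper14.AlgSpBasic2
set_option autoImplicit false
set_option linter.unusedSectionVars false
universe u
open CategoryTheory CategoryTheory.Limits AlgebraicGeometry Opposite

/-! An fppf sheaf with a representable, flat, locally finitely presented, surjective atlas from a
scheme has representable diagonal (via effective descent for separated locally quasi-finite
morphisms). -/

namespace Groth.Agent.Lib.Helper24.AtlasDiag
open AlgSp Groth.Agent.Lib.Helper14.AS Groth.Agent.Lib.Helper24.ZarGlueRep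
open Groth.Agent.Lib.Helper24.DescSL

variable {S : Scheme.{u}} {F : Sp S} {U : Over S} (q : (yon S).obj U ⟶ F)

instance mono_diag (F : Sp S) : Mono (Limits.diag F) :=
  mono_of_mono_fac (Limits.prod.lift_fst (𝟙 F) (𝟙 F))

set_option backward.isDefEq.respectTransparency.types false in
/-- the base change of the diagonal along a map whose two components lift to the atlas -/
theorem exists_isPullback_diag_of_lifts (hqT : RepWith @LocallyOfFiniteType q) {T' : Over S}
    (g' : (yon S).obj T' ⟶ F ⨯ F) (α β : T' ⟶ U) (hα : g' ≫ prod.fst = (yon S).map α ≫ q)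
    (hβ : g' ≫ prod.snd = (yon S).map β ≫ q) :
    ∃ (V' : Over S) (r : V' ⟶ T') (fstW : (yon S).obj V' ⟶ F),
      IsPullback fstW ((yon S).map r) (Limits.diag F) g' ∧ LocallyOfFiniteType r.left := by
  let P : Over S := hqT.rep.pullback ((yon S).map β ≫ q)
  let p₁ : P ⟶ T' := hqT.rep.snd _
  let p₂ : P ⟶ U := hqT.rep.fst' _
  have sqP : IsPullback ((yon S).map p₂) ((yon S).map p₁) q ((yon S).map β ≫ q) :=
    hqT.rep.isPullback' _
  have hp₁ : LocallyOfFiniteType p₁.left := hqT.property_snd _
  have hk : RepWith @LocallyOfFiniteType (Limits.diag ((yon S).obj U)) :=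
    (repWith_diag_yon_iff @LocallyOfFiniteType U).2 inferInstance
  let d : (yon S).obj P ⟶ (yon S).obj U ⨯ (yon S).obj U :=
    prod.lift ((yon S).map p₂) ((yon S).map (p₁ ≫ α))
  let V' : Over S := hk.rep.pullback d
  let k : V' ⟶ P := hk.rep.snd d
  let fk : (yon S).obj V' ⟶ (yon S).obj U := hk.rep.fst d
  have sqV : IsPullback fk ((yon S).map k) (Limits.diag ((yon S).obj U)) d := hk.rep.isPullback d
  have hkT : LocallyOfFiniteType k.left := hk.property_snd d
  have e1 : fk = (yon S).map k ≫ (yon S).map p₂ := by
    have := congrArg (· ≫ prod.fst) sqV.w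
    simp only [Category.assoc, Limits.diag, prod.lift_fst, Category.comp_id, d] at this
    exact this
  have e2 : fk = (yon S).map k ≫ (yon S).map (p₁ ≫ α) := by
    have := congrArg (· ≫ prod.snd) sqV.w
    simp only [Category.assoc, Limits.diag, prod.lift_snd, Category.comp_id, d] at this
    exact this
  refine ⟨V', k ≫ p₁, fk ≫ q, ?_, ?_⟩
  · rw [isPullback_iff_yon]
    constructor
    · apply Limits.prod.hom_ext
      · simp only [Category.assoc, Limits.diag, prod.lift_fst, Category.comp_id]
        rw [hα, e2]
        simp only [Functor.map_comp, Category.assoc]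
      · simp only [Category.assoc, Limits.diag, prod.lift_snd, Category.comp_id]
        rw [hβ, e1]
        simp only [Functor.map_comp, Category.assoc]
        rw [sqP.w]
    · intro W x y hxy
      have hx1 : x = y ≫ (yon S).map α ≫ q := by
        have := congrArg (· ≫ prod.fst) hxy
        simp only [Category.assoc, Limits.diag, prod.lift_fst, Category.comp_id, hα] at this
        exact this
      have hx2 : x = y ≫ (yon S).map β ≫ q := by
        have := congrArg (· ≫ prod.snd) hxy
        simp only [Category.assoc, Limits.diag, prod.lift_snd, Category.comp_id, hβ] at this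
        exact this
      let z₁ : (yon S).obj W ⟶ (yon S).obj P := sqP.lift (y ≫ (yon S).map α) y (by
        rw [Category.assoc, ← hx1, hx2])
      have hz₁1 : z₁ ≫ (yon S).map p₂ = y ≫ (yon S).map α := sqP.lift_fst _ _ _
      have hz₁2 : z₁ ≫ (yon S).map p₁ = y := sqP.lift_snd _ _ _
      let z : (yon S).obj W ⟶ (yon S).obj V' := sqV.lift (y ≫ (yon S).map α) z₁ (by
        apply Limits.prod.hom_ext
        · simp only [Category.assoc, Limits.diag, prod.lift_fst, Category.comp_id, d]
          exact hz₁1.symm
        · simp only [Category.assoc, Limits.diag, prod.lift_snd, Category.comp_id, d,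
            Functor.map_comp]
          rw [reassoc_of% hz₁2])
      have hz1 : z ≫ fk = y ≫ (yon S).map α := sqV.lift_fst _ _ _
      have hz2 : z ≫ (yon S).map k = z₁ := sqV.lift_snd _ _ _
      refine ⟨z, ⟨?_, ?_⟩, ?_⟩
      · rw [reassoc_of% hz1, ← hx1]
      · rw [Functor.map_comp, reassoc_of% hz2, hz₁2]
      · rintro z' ⟨h1, h2⟩
        rw [Functor.map_comp] at h2
        have hk' : z' ≫ (yon S).map k = z₁ := by
          apply sqP.hom_ext
          · rw [hz₁1, Category.assoc, ← e1, e2, Functor.map_comp, reassoc_of% h2]
          · rw [hz₁2, Category.assoc, h2]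
        apply sqV.hom_ext
        · rw [hz1, e1, ← Category.assoc, hk', hz₁1]
        · rw [hz2, hk']
  · change LocallyOfFiniteType (k.left ≫ p₁.left)
    infer_instance


set_option backward.isDefEq.respectTransparency.types false in
/-- **A sheaf with an fppf atlas has representable diagonal.** -/
theorem representable_diag_of_atlas (hF : RepWith @Flat q)
    (hL : RepWith @LocallyOfFinitePresentation q) (hS : RepWith @Surjective q) :
    Representable (Limits.diag F) := by
  have hqT : RepWith @LocallyOfFiniteType q :=
    repWith_mono (fun _ _ f (hf : LocallyOfFinitePresentation f) =>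
      (inferInstance : LocallyOfFiniteType f)) hL
  intro T g
  let a : (yon S).obj T ⟶ F := g ≫ prod.fst
  let b : (yon S).obj T ⟶ F := g ≫ prod.snd
  let Ta : Over S := hF.rep.pullback a
  let wa : Ta ⟶ T := hF.rep.snd a
  let a' : Ta ⟶ U := hF.rep.fst' a
  have sqa : IsPullback ((yon S).map a') ((yon S).map wa) q a := hF.rep.isPullback' a
  let Tb : Over S := hF.rep.pullback b
  let wb : Tb ⟶ T := hF.rep.snd b
  let b' : Tb ⟶ U := hF.rep.fst' b
  have sqb : IsPullback ((yon S).map b') ((yon S).map wb) q b := hF.rep.isPullback' b
  have hwa1 : Flat wa.left := hF.property_snd a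
  have hwa2 : LocallyOfFinitePresentation wa.left := hL.property _ _ _ sqa
  have hwa3 : Surjective wa.left := hS.property _ _ _ sqa
  have hwb1 : Flat wb.left := hF.property_snd b
  have hwb2 : LocallyOfFinitePresentation wb.left := hL.property _ _ _ sqb
  have hwb3 : Surjective wb.left := hS.property _ _ _ sqb
  let T' : Over S := pullback wa wb
  let c : T' ⟶ T := pullback.fst wa wb ≫ wa
  have sqT : IsPullback (pullback.snd wa wb).left (pullback.fst wa wb).left wb.left wa.left :=
    ((IsPullback.of_hasPullback wa wb).map (Over.forget S)).flip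
  have hf1 : Flat (pullback.fst wa wb).left := MorphismProperty.of_isPullback sqT hwb1
  have hf2 : LocallyOfFinitePresentation (pullback.fst wa wb).left :=
    MorphismProperty.of_isPullback sqT hwb2
  have hf3 : Surjective (pullback.fst wa wb).left := MorphismProperty.of_isPullback sqT hwb3
  have hc1 : Flat c.left := by
    change Flat ((pullback.fst wa wb).left ≫ wa.left)
    infer_instance
  have hc2 : LocallyOfFinitePresentation c.left := by
    change LocallyOfFinitePresentation ((pullback.fst wa wb).left ≫ wa.left)
    infer_instance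
  have hc3 : Surjective c.left := by
    change Surjective ((pullback.fst wa wb).left ≫ wa.left)
    infer_instance
  let α : T' ⟶ U := pullback.fst wa wb ≫ a'
  let β : T' ⟶ U := pullback.snd wa wb ≫ b'
  have hα : ((yon S).map c ≫ g) ≫ prod.fst = (yon S).map α ≫ q := by
    rw [Category.assoc, Functor.map_comp, Functor.map_comp, Category.assoc, Category.assoc]
    exact congrArg (_ ≫ ·) sqa.w.symm
  have hβ : ((yon S).map c ≫ g) ≫ prod.snd = (yon S).map β ≫ q := by
    have hc' : c = pullback.snd wa wb ≫ wb := pullback.condition
    rw [hc', Category.assoc, Functor.map_comp, Functor.map_comp, Category.assoc, Category.assoc]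
    exact congrArg (_ ≫ ·) sqb.w.symm
  obtain ⟨V', r, fstW, sqW, hrT⟩ :=
    exists_isPullback_diag_of_lifts q hqT ((yon S).map c ≫ g) α β hα hβ
  have hm1 : Mono ((yon S).map r) := sqW.mono_snd_of_mono
  have hm2 : Mono r := (yon S).mono_of_mono_map hm1
  have hm3 : Mono r.left := inferInstance
  have sq₀ := isPullback_lift_of_isPullback (Limits.diag F) g c r fstW sqW
  obtain ⟨U₁, ρ, e, he⟩ := exists_rep_of_chart (pullback.snd (Limits.diag F) g) (fun x =>
    ⟨T', V', c, r, _, sq₀, hc1, hc2, hc3.surj x, inferInstance, inferInstance, hrT⟩)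
  exact ⟨U₁, ρ, e.hom ≫ pullback.fst _ _, isPullback_of_iso_pullback (Limits.diag F) g ρ e he⟩

/-- **A sheaf with a representable étale surjective atlas from a scheme is an algebraic space.** -/
theorem isAlgSpace_of_atlas (he : RepWith @Etale q) (hs : RepWith @Surjective q) :
    IsAlgSpace F where
  diag := representable_diag_of_atlas q
    (repWith_mono (fun _ _ f (_ : Etale f) => (inferInstance : Flat f)) he)
    (repWith_mono (fun _ _ f (_ : Etale f) =>
      (inferInstance : LocallyOfFinitePresentation f)) he) hs
  atlas := ⟨U, q, he, hs⟩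

end Groth.Agent.Lib.Helper24.AtlasDiag
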