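import Groth.Agent.Lib.Helper24.CoprodSp
import Groth.Agent.Lib.Helper24.AtlasDiag
set_option autoImplicit false
set_option linter.unusedSectionVars false
universe u
open CategoryTheory CategoryTheory.Limits AlgebraicGeometry Opposite

/-! Zariski-local (on the test scheme) criterion for representability with a property, and: a
coproduct of algebraic spaces is an algebraic space. -/

namespace Groth.Agent.Lib.Helper24.CoprodSp
open AlgSp Groth.Agent.Lib.Helper14.AS Groth.Agent.Lib.Helper24.ZarGlue
open Groth.Agent.Lib.Helper24.ZarGlueRep Groth.Agent.Lib.Helper24.DescSubsheaf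

variable {S : Scheme.{u}}

/-- **Zariski-local criterion.** For `P` Zariski-local on the target: if every point of every test
scheme has an open neighbourhood over which the base change of `f` is representable with `P`,
then `f` is representable with `P`. -/
theorem repWith_of_zar_local (P : MorphismProperty Scheme.{u}) [IsZariskiLocalAtTarget P]
    {X Y : Sp S} (f : X ⟶ Y)
    (h : ∀ ⦃Z : Over S⦄ (g : (yon S).obj Z ⟶ Y) (z : Z.left), ∃ (O : Z.left.Opens) (_ : z ∈ O)
      (W' : Over S) (r : W' ⟶ resOpen Z O) (fst' : (yon S).obj W' ⟶ X),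
        IsPullback fst' ((yon S).map r) f ((yon S).map (resOpenι Z O) ≫ g) ∧ P r.left) :
    RepWith P f := by
  have : (MorphismProperty.inverseImage P (Over.forget S)).RespectsIso :=
    MorphismProperty.RespectsIso.inverseImage _ _
  refine MorphismProperty.relative.of_exists fun T t => ?_
  obtain ⟨U, ρ, e, he, hloc⟩ := exists_rep_of_locally (pullback.snd f t)
    (fun _ _ r => P r.left) (by
    intro w
    obtain ⟨O, hwO, W', i, fstW, sqW, hW'⟩ := h t w
    exact ⟨O, hwO, W', i, _, isPullback_lift_of_isPullback f t (resOpenι T O) i fstW sqW, hW'⟩)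
  refine ⟨U, e.hom ≫ pullback.fst f t, ρ, isPullback_of_iso_pullback f t ρ e he, ?_⟩
  change P ρ.left
  refine IsZariskiLocalAtTarget.of_forall_exists_morphismRestrict fun x => ?_
  obtain ⟨O, hxO, X', r, fst, j, -, sq', hr⟩ := hloc x
  exact ⟨O, hxO, (morphismRestrict_iff_of_isPullback P sq').2 hr⟩

/-- an open immersion over `S` is isomorphic to the inclusion of its range -/
theorem exists_iso_resOpen {Z Z' : Over S} (j : Z' ⟶ Z) [IsOpenImmersion j.left] :
    ∃ e : resOpen Z j.left.opensRange ≅ Z', e.hom ≫ j = resOpenι Z j.left.opensRange := by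
  have hr : Set.range j.left.opensRange.ι = Set.range j.left := by
    rw [Scheme.Opens.range_ι]; rfl
  let e₀ : (j.left.opensRange : Scheme.{u}) ≅ Z'.left :=
    IsOpenImmersion.isoOfRangeEq j.left.opensRange.ι j.left hr
  have he₀ : e₀.hom ≫ j.left = j.left.opensRange.ι := IsOpenImmersion.isoOfRangeEq_hom_fac _ _ _
  refine ⟨Over.isoMk e₀ ?_, ?_⟩
  · change e₀.hom ≫ Z'.hom = j.left.opensRange.ι ≫ Z.hom
    rw [← Over.w j, ← Category.assoc, he₀]
  · ext1
    exact he₀

/-- **Zariski-local criterion**, with arbitrary open immersions as neighbourhoods. -/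
theorem repWith_of_zar_local' (P : MorphismProperty Scheme.{u}) [IsZariskiLocalAtTarget P]
    {X Y : Sp S} (f : X ⟶ Y)
    (h : ∀ ⦃Z : Over S⦄ (g : (yon S).obj Z ⟶ Y) (z : Z.left), ∃ (Z' : Over S) (j : Z' ⟶ Z)
      (_ : IsOpenImmersion j.left) (_ : z ∈ Set.range j.left)
      (W' : Over S) (r : W' ⟶ Z') (fst' : (yon S).obj W' ⟶ X),
        IsPullback fst' ((yon S).map r) f ((yon S).map j ≫ g) ∧ P r.left) :
    RepWith P f := by
  have : P.RespectsIso := inferInstance
  refine repWith_of_zar_local P f fun Z g z => ?_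
  obtain ⟨Z', j, hj, hz, W', r, fst', sq, hr⟩ := h g z
  obtain ⟨e, he⟩ := exists_iso_resOpen j
  refine ⟨j.left.opensRange, hz, W', r ≫ e.inv, fst', ?_, ?_⟩
  · rw [← he, Functor.map_comp, Functor.map_comp, Category.assoc]
    refine IsPullback.of_iso sq (Iso.refl _) (Iso.refl _) ((yon S).mapIso e.symm) (Iso.refl _)
      ?_ ?_ ?_ ?_
    · simp
    · simp
    · simp
    · simp only [Functor.mapIso_hom, Iso.symm_hom, Iso.refl_hom, Category.comp_id]
      rw [← Functor.map_comp_assoc, Iso.inv_hom_id, CategoryTheory.Functor.map_id, Category.id_comp]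
  · change P (r.left ≫ e.inv.left)
    have : IsIso e.inv.left := inferInstanceAs (IsIso ((Over.forget S).map e.inv))
    exact (MorphismProperty.cancel_right_of_respectsIso P _ _).2 hr

section Sigma
variable {ι : Type u} {F : ι → Sp S} {c : Cofan F} (hc : IsColimit c)
  (T : ι → Over S) (p : ∀ i, (yon S).obj (T i) ⟶ F i)
  (q : (yon S).obj (sigmaOver T) ⟶ c.pt)
  (hq : ∀ i, (yon S).map (sigmaOverι T i) ≫ q = p i ≫ c.inj i)

instance (i : ι) : IsOpenImmersion (sigmaOverι T i).left :=
  inferInstanceAs (IsOpenImmersion (Sigma.ι (fun i => (T i).left) i))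

lemma mono_sigmaOverι (i : ι) : Mono (sigmaOverι T i) := by
  have : Mono ((Over.forget S).map (sigmaOverι T i)) :=
    inferInstanceAs (Mono (sigmaOverι T i).left)
  exact (Over.forget S).mono_of_mono_map this

lemma exists_mem_range_sigmaOverι (x : (sigmaOver T).left) :
    ∃ i, x ∈ Set.range (sigmaOverι T i).left := by
  obtain ⟨⟨i, y⟩, rfl⟩ := (sigmaMk (fun i => (T i).left)).surjective x
  exact ⟨i, y, (sigmaMk_mk (fun i => (T i).left) i y).symm⟩

include hc hq in
/-- a map from a coproduct of schemes to a coproduct of sheaves, given summandwise, is cartesian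
over each summand -/
theorem isPullback_sigma (i : ι) :
    IsPullback (p i) ((yon S).map (sigmaOverι T i)) (c.inj i) q := by
  have hmono := mono_inj hc i
  have hmι := mono_sigmaOverι T i
  refine isPullback_iff_yon.2 ⟨(hq i).symm, fun T' x y hxy => ?_⟩
  obtain ⟨y₀, rfl⟩ := (yon S).map_surjective y
  -- the point lands in the `i`-th summand
  have hrange : Set.range y₀.left ⊆ Set.range (sigmaOverι T i).left := by
    rintro _ ⟨t, rfl⟩
    obtain ⟨j, hj⟩ := exists_mem_range_sigmaOverι T (y₀.left t)
    by_cases hji : i = j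
    · rw [hji]; exact hj
    · exfalso
      let O : T'.left.Opens := y₀.left ⁻¹ᵁ (sigmaOverι T j).left.opensRange
      have hr : Set.range (O.ι ≫ y₀.left) ⊆ Set.range (sigmaOverι T j).left := by
        rintro _ ⟨s, rfl⟩
        exact s.2
      let b₀ : (O : Scheme.{u}) ⟶ (T j).left :=
        IsOpenImmersion.lift (sigmaOverι T j).left (O.ι ≫ y₀.left) hr
      have hb₀ : b₀ ≫ (sigmaOverι T j).left = O.ι ≫ y₀.left := IsOpenImmersion.lift_fac _ _ _
      let b : resOpen T' O ⟶ T j := Over.homMk b₀ (by
        change b₀ ≫ (T j).hom = O.ι ≫ T'.hom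
        rw [← Over.w (sigmaOverι T j), ← Category.assoc, hb₀, Category.assoc, Over.w])
      have hb : b ≫ sigmaOverι T j = resOpenι T' O ≫ y₀ := by
        ext1
        exact hb₀
      have hE : IsEmpty (resOpen T' O).left := isEmpty_of_inj_eq hc hji
        ((yon S).map (resOpenι T' O) ≫ x) ((yon S).map b ≫ p j) (by
          rw [Category.assoc, Category.assoc, hxy, ← hq j, ← Functor.map_comp_assoc,
            ← Functor.map_comp_assoc, hb])
      exact hE.false ⟨t, hj⟩
  let l₀ : T'.left ⟶ (T i).left := IsOpenImmersion.lift (sigmaOverι T i).left y₀.left hrange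
  have hl₀ : l₀ ≫ (sigmaOverι T i).left = y₀.left := IsOpenImmersion.lift_fac _ _ _
  let l : T' ⟶ T i := Over.homMk l₀ (by
    rw [← Over.w (sigmaOverι T i), ← Category.assoc, hl₀, Over.w])
  have hl : l ≫ sigmaOverι T i = y₀ := by
    ext1
    exact hl₀
  refine ⟨(yon S).map l, ⟨?_, ?_⟩, ?_⟩
  · rw [← cancel_mono (c.inj i), Category.assoc, ← hq i, ← Functor.map_comp_assoc, hl, hxy]
  · rw [← Functor.map_comp, hl]
  · rintro z ⟨-, hz⟩
    obtain ⟨z₀, rfl⟩ := (yon S).map_surjective z
    rw [← Functor.map_comp] at hz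
    have := (yon S).map_injective hz
    rw [(cancel_mono (sigmaOverι T i)).1 (this.trans hl.symm)]

end Sigma

section Main
variable {ι : Type u} {F : ι → Sp S} {c : Cofan F} (hc : IsColimit c)

include hc in
/-- a summandwise étale/surjective/... map from a coproduct of schemes to a coproduct of sheaves
is representable with the same property -/
theorem repWith_sigma (P : MorphismProperty Scheme.{u}) [IsZariskiLocalAtTarget P]
    (T : ι → Over S) (p : ∀ i, (yon S).obj (T i) ⟶ F i)
    (q : (yon S).obj (sigmaOver T) ⟶ c.pt)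
    (hq : ∀ i, (yon S).map (sigmaOverι T i) ≫ q = p i ≫ c.inj i)
    (hp : ∀ i, RepWith P (p i)) : RepWith P q := by
  refine repWith_of_zar_local' P q fun Z g z => ?_
  have hrep := fun k => repWith_isOpenImmersion_inj hc k
  obtain ⟨k, hk⟩ := exists_mem_range_snd hc g (fun k => (hrep k).rep.fst g)
    (fun k => (hrep k).rep.snd g) (fun k => (hrep k).rep.isPullback g) z
  have sqk := (hrep k).rep.isPullback g
  let l : (yon S).obj ((hrep k).rep.pullback g) ⟶ F k := (hrep k).rep.fst g
  have sq'' := (hp k).rep.isPullback l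
  refine ⟨(hrep k).rep.pullback g, (hrep k).rep.snd g, (hrep k).property_snd g, hk,
    (hp k).rep.pullback l, (hp k).rep.snd l,
    (hp k).rep.fst l ≫ (yon S).map (sigmaOverι T k), ?_, (hp k).property_snd l⟩
  have := sq''.paste_horiz (isPullback_sigma hc T p q hq k).flip
  rw [sqk.w] at this
  exact this

include hc in
set_option backward.isDefEq.respectTransparency.types false in
/-- **A coproduct of algebraic spaces (indexed by a type in the universe of `S`) is an algebraic
space.** -/
theorem isAlgSpace_cofan (h : ∀ i, IsAlgSpace (F i)) : IsAlgSpace c.pt := by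
  choose T p hpe hps using fun i => (h i).atlas
  obtain ⟨q, hq, -⟩ := existsUnique_desc_yon_sigmaOver T (fun i => p i ≫ c.inj i)
  exact Groth.Agent.Lib.Helper24.AtlasDiag.isAlgSpace_of_atlas q
    (repWith_sigma hc @Etale T p q hq hpe) (repWith_sigma hc @Surjective T p q hq hps)

end Main

end Groth.Agent.Lib.Helper24.CoprodSp
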