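import Mathlib
import Groth.Agent.Lib.Helper24.Boot4
import Groth.Agent.S9877
import Groth.Agent.S9881
import Groth.Agent.S10139
set_option autoImplicit false
set_option linter.unusedSectionVars false
set_option backward.isDefEq.respectTransparency false
universe u
open CategoryTheory CategoryTheory.Limits AlgebraicGeometry Opposite

/-! The bootstrap theorem for equivalence relations on schemes: the fppf quotient sheaf of a
flat, locally finitely presented equivalence relation is an algebraic space. -/

namespace Groth.Agent.Lib.Helper24.Boot5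
open AlgSp Grpd Groth.Agent.Lib.Helper24.QuotRestrict2 Groth.Agent.Lib.Helper24.QuotAtlas
open Groth.Agent.Lib.Helper14.AS Groth.Agent.Lib.Helper24.QuotRestrict
open Groth.Agent.Lib.Helper24.Boot1 Groth.Agent.Lib.Helper24.Boot2 Groth.Agent.Lib.Helper24.Boot3
open Groth.Agent.Lib.Helper24.Boot4
open Groth.Agent.Lib.Helper24.DescBridge Groth.Agent.Lib.Helper24.EqvSlice
open Groth.Agent.Lib.Helper24.GrpdEqv Groth.Agent.Lib.Helper24.QuotBridge

variable {S : Scheme.{u}} {R U : Over S} (s t : R ⟶ U)

set_option maxHeartbeats 1000000 in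
theorem isAlgSpace_Qs_of_lqf (h : IsEqvRel s t)
    [Flat s.left] [LocallyOfFinitePresentation s.left] [LocallyQuasiFinite s.left]
    [Flat t.left] [LocallyOfFinitePresentation t.left] [LocallyQuasiFinite t.left] :
    IsAlgSpace (Qs s t) := by
  choose R' U' s' t' g halg hr hfl hlfp hu using fun u : U.left => exists_local_algSpace s t h u
  choose φ hφ hm _ using fun u : U.left => (hr u).exists_quot_map h
  have hopen : ∀ u, RepWith @IsOpenImmersion (φ u) := fun u => by
    have := hfl u
    have := hlfp u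
    exact (hr u).repWith_isOpenImmersion h (φ u) (hφ u)
  let Fi : U.left → Sp S := fun u => Qs (s' u) (t' u)
  let c : Cofan Fi := Cofan.mk (∐ Fi) (Sigma.ι Fi)
  let hc : IsColimit c := coproductIsCoproduct Fi
  refine Groth.Agent.S9877.result S (Qs s t) Fi φ halg hopen c hc ?_
    (Groth.Agent.S9881.result S Fi halg c hc)
  refine (Sheaf.isLocallySurjective_iff_epi _).2 ⟨fun {Z} x y hxy => ?_⟩
  have h1 : ∀ u, φ u ≫ x = φ u ≫ y := fun u => by
    have hfac : c.inj u ≫ Cofan.IsColimit.desc hc φ = φ u := Cofan.IsColimit.fac hc φ u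
    rw [← hfac, Category.assoc, Category.assoc, hxy]
  have h2 : ∀ u, (yon S).map (g u) ≫ ps s t ≫ x = (yon S).map (g u) ≫ ps s t ≫ y := fun u => by
    rw [← Category.assoc, ← hφ u, Category.assoc, h1 u, ← Category.assoc, hφ u, Category.assoc]
  have hcov : Presieve.ofArrows U' g ∈ KS S U :=
    ofArrows_mem_KS U' g (fun u => ⟨hfl u, hlfp u⟩) (fun u => ⟨u, hu u⟩)
  have hS : Sieve.generate (Presieve.ofArrows U' g) ∈ J S U := by
    rw [J_eq_toGrothendieck]; exact Precoverage.generate_mem_toGrothendieck hcov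
  have h3 : ps s t ≫ x = ps s t ≫ y := by
    refine yon_hom_ext_of_cover _ _ _ hS ?_
    rintro W w ⟨W', v, w', ⟨u⟩, rfl⟩
    rw [Functor.map_comp, Category.assoc, Category.assoc, h2 u]
  have := epi_quotSpπ ((yon S).map s) ((yon S).map t)
  exact (cancel_epi (ps s t)).1 h3

theorem isAlgSpace_quot (h : IsEqvRel s t) [Flat s.left] [LocallyOfFinitePresentation s.left]
    [Flat t.left] [LocallyOfFinitePresentation t.left] :
    IsAlgSpace (QuotSh.quot Scheme.fppfPrecoverage s t) := by
  obtain ⟨R', U', s', t', g, r, ψ, h', -, -, h1, h2, h3, h4, h5, h6, -, hiso⟩ :=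
    Groth.Agent.S10139.result S s t h
  have := isAlgSpace_Qs_of_lqf s' t' h'
  exact (this.of_iso (quotIso s' t')).of_iso (asIso ψ)

end Groth.Agent.Lib.Helper24.Boot5
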