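import Mathlib
import Groth.Agent.Lib.Helper14.SheafQuot2
import Groth.Agent.Lib.Helper14.AlgSpLocP2
import Groth.Agent.Lib.Helper14.AlgSpFibre
import Groth.Agent.Lib.Helper14.FpqcBase4
set_option autoImplicit false
set_option linter.unusedSectionVars false
set_option backward.isDefEq.respectTransparency false
set_option backward.isDefEq.respectTransparency.types false
universe u
open CategoryTheory CategoryTheory.Limits AlgebraicGeometry Opposite

/-! Restriction of a relation on a sheaf along a morphism, at the level of fppf sheaves. -/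

namespace Groth.Agent.Lib.Helper24.Boot6
open AlgSp Groth.Agent.Lib.Helper14.AS

variable {S : Scheme.{u}} {R U U' : Sp S} (s t : R ⟶ U) (p : U' ⟶ U)

/-- `U' ×_U R ⟶ R ⟶ U` -/
noncomputable def hresS : pullback p t ⟶ U := pullback.snd p t ≫ s

/-- the restricted relation -/
noncomputable def RresS : Sp S := pullback (hresS s t p) p

noncomputable def sresS : RresS s t p ⟶ U' := pullback.snd _ _
noncomputable def tresS : RresS s t p ⟶ U' := pullback.fst _ _ ≫ pullback.fst p t
noncomputable def rresS : RresS s t p ⟶ R := pullback.fst _ _ ≫ pullback.snd p t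

lemma rresS_s : rresS s t p ≫ s = sresS s t p ≫ p := by
  unfold rresS sresS
  rw [Category.assoc]
  exact pullback.condition

lemma rresS_t : rresS s t p ≫ t = tresS s t p ≫ p := by
  unfold rresS tresS
  rw [Category.assoc, Category.assoc, pullback.condition]

lemma exists_liftS {T : Sp S} (a b : T ⟶ U') (ρ : T ⟶ R) (h1 : ρ ≫ t = a ≫ p)
    (h2 : ρ ≫ s = b ≫ p) :
    ∃ r' : T ⟶ RresS s t p, r' ≫ tresS s t p = a ∧ r' ≫ sresS s t p = b ∧
      r' ≫ rresS s t p = ρ := by
  have e : pullback.lift a ρ h1.symm ≫ hresS s t p = b ≫ p := by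
    unfold hresS
    rw [pullback.lift_snd_assoc, h2]
  refine ⟨pullback.lift (pullback.lift a ρ h1.symm) b e, ?_, ?_, ?_⟩
  · unfold tresS
    rw [pullback.lift_fst_assoc, pullback.lift_fst]
  · unfold sresS
    rw [pullback.lift_snd]
  · unfold rresS
    rw [pullback.lift_fst_assoc, pullback.lift_snd]

lemma hom_extS {T : Sp S} (x y : T ⟶ RresS s t p) (ht : x ≫ tresS s t p = y ≫ tresS s t p)
    (hs : x ≫ sresS s t p = y ≫ sresS s t p) (hr : x ≫ rresS s t p = y ≫ rresS s t p) :
    x = y := by
  apply pullback.hom_ext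
  · apply pullback.hom_ext
    · simpa only [Category.assoc, tresS] using ht
    · simpa only [Category.assoc, rresS] using hr
  · exact hs

theorem isEqvRelSp_res (h : IsEqvRelSp s t) : IsEqvRelSp (sresS s t p) (tresS s t p) := by
  have key : ∀ (T : Over S) (a b : (yon S).obj T ⟶ U'),
      (∃ r : (yon S).obj T ⟶ RresS s t p, r ≫ tresS s t p = a ∧ r ≫ sresS s t p = b) ↔
      (∃ ρ : (yon S).obj T ⟶ R, ρ ≫ t = a ≫ p ∧ ρ ≫ s = b ≫ p) := by
    intro T a b
    constructor
    · rintro ⟨r, rfl, rfl⟩
      exact ⟨r ≫ rresS s t p, by rw [Category.assoc, rresS_t, Category.assoc],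
        by rw [Category.assoc, rresS_s, Category.assoc]⟩
    · rintro ⟨ρ, h1, h2⟩
      obtain ⟨r', e1, e2, -⟩ := exists_liftS s t p a b ρ h1 h2
      exact ⟨r', e1, e2⟩
  refine ⟨fun T x y ht hs => ?_, fun T => ⟨fun a => ?_, fun {a b} hab => ?_,
    fun {a b c} hab hbc => ?_⟩⟩
  · apply hom_extS s t p x y ht hs
    apply h.injective T
    · rw [Category.assoc, Category.assoc, rresS_t, ← Category.assoc, ht, Category.assoc]
    · rw [Category.assoc, Category.assoc, rresS_s, ← Category.assoc, hs, Category.assoc]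
  · exact (key T a a).2 ((h.equivalence T).refl _)
  · exact (key T b a).2 ((h.equivalence T).symm ((key T a b).1 hab))
  · exact (key T a c).2 ((h.equivalence T).trans ((key T a b).1 hab) ((key T b c).1 hbc))

/-- the induced map of quotient sheaves is injective, and bijective when `p` is surjective -/
theorem exists_quot_map_res (hpre : IsPreEqvRelSp s t) :
    ∃ ψ : quotSp (sresS s t p) (tresS s t p) ⟶ quotSp s t,
      quotSpπ (sresS s t p) (tresS s t p) ≫ ψ = p ≫ quotSpπ s t ∧ Mono ψ ∧ (Epi p → IsIso ψ) := by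
  have w : sresS s t p ≫ (p ≫ quotSpπ s t) = tresS s t p ≫ (p ≫ quotSpπ s t) := by
    rw [← Category.assoc, ← rresS_s, ← Category.assoc, ← rresS_t, Category.assoc, Category.assoc,
      quotSp_condition]
  let ψ := quotSpDesc (p ≫ quotSpπ s t) w
  have hψ : quotSpπ (sresS s t p) (tresS s t p) ≫ ψ = p ≫ quotSpπ s t := quotSpπ_desc _ _ _ w
  have hm : Mono ψ := by
    refine mono_quot_map s t hpre p _ _ ?_ ψ hψ
    intro T a b r₀ h1 h2
    obtain ⟨r', e1, e2, -⟩ := exists_liftS s t p a b r₀ h1 h2
    exact ⟨r', e1, e2⟩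
  refine ⟨ψ, hψ, hm, fun hp => ?_⟩
  have := epi_quotSpπ s t
  have h1 : Epi (quotSpπ (sresS s t p) (tresS s t p) ≫ ψ) := by rw [hψ]; infer_instance
  have h2 : Epi ψ := epi_of_epi (quotSpπ (sresS s t p) (tresS s t p)) ψ
  exact isIso_of_mono_of_epi ψ

section LocP
variable (hR : IsAlgSpace R) (hU : IsAlgSpace U) (hU' : IsAlgSpace U')

include hR hU hU'

theorem isAlgSpace_pb : IsAlgSpace (pullback p t) :=
  isAlgSpace_of_isPullback (repDiag_of_isAlgSpace hU) hU' hR (IsPullback.of_hasPullback p t)

theorem isAlgSpace_RresS : IsAlgSpace (RresS s t p) :=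
  isAlgSpace_of_isPullback (repDiag_of_isAlgSpace hU) (isAlgSpace_pb t p hR hU hU') hU'
    (IsPullback.of_hasPullback (hresS s t p) p)

theorem locP_sresS {P : MorphismProperty Scheme.{u}} (hP : EtLocal P)
    [P.IsStableUnderBaseChange] [P.IsStableUnderComposition]
    (hEt : (@Etale : MorphismProperty Scheme.{u}) ≤ P) (hp : RepWith @Etale p)
    (hs : LocP P s) : LocP P (sresS s t p) := by
  have hA := isAlgSpace_pb t p hR hU hU'
  have h1 : RepWith @Etale (pullback.snd p t) :=
    MorphismProperty.of_isPullback (P := RepWith @Etale) (IsPullback.of_hasPullback p t) hp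
  have h2 : LocP P (pullback.snd p t) := locP_of_repWith hEt (repWith_mono hEt h1)
  have h3 : LocP P (hresS s t p) := locP_comp hP hA hR hU _ _ h2 hs
  exact locP_baseChange hP hA hU hU' (hresS s t p) p (pullback.fst _ _) (pullback.snd _ _)
    (IsPullback.of_hasPullback _ _) h3

theorem locP_tresS {P : MorphismProperty Scheme.{u}} (hP : EtLocal P)
    [P.IsStableUnderBaseChange] [P.IsStableUnderComposition]
    (hEt : (@Etale : MorphismProperty Scheme.{u}) ≤ P) (hp : RepWith @Etale p)
    (ht : LocP P t) : LocP P (tresS s t p) := by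
  have hA := isAlgSpace_pb t p hR hU hU'
  have hR' := isAlgSpace_RresS s t p hR hU hU'
  have h1 : RepWith @Etale (pullback.fst (hresS s t p) p) :=
    MorphismProperty.of_isPullback (P := RepWith @Etale)
      (IsPullback.of_hasPullback (hresS s t p) p).flip hp
  have h2 : LocP P (pullback.fst (hresS s t p) p) := locP_of_repWith hEt (repWith_mono hEt h1)
  have h3 : LocP P (pullback.fst p t) :=
    locP_baseChange hP hR hU hU' t p (pullback.snd _ _) (pullback.fst _ _)
      (IsPullback.of_hasPullback p t).flip ht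
  exact locP_comp hP hR' hA hU' _ _ h2 h3

end LocP

end Groth.Agent.Lib.Helper24.Boot6
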