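import Groth.Agent.Lib.Helper24.SlqfMono
import Groth.Agent.Lib.Helper6.EtLocInsepMain
import Groth.Agent.Lib.Helper14.EtaleLQF
set_option autoImplicit false
set_option linter.unusedSectionVars false
universe u
open CategoryTheory CategoryTheory.Limits AlgebraicGeometry Opposite

/-! Stacks 0418: an algebraic space separated and locally quasi-finite over a scheme is a
scheme. -/

namespace Groth.Agent.Lib.Helper24.Slqf
open AlgSp Groth.Agent.Lib.Helper14.AS Groth.Agent.Lib.Helper24.ZarGlue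
open Groth.Agent.Lib.Helper24.ZarGlueRep Groth.Agent.Lib.Helper24.EtImage

variable {S : Scheme.{u}}

section Restrict
variable {T T' : Over S} (e : T' ⟶ T) {E : Sp S} (π : E ⟶ (yon S).obj T) {V' : Over S}
  (ψ : (yon S).obj V' ⟶ E) (τ : V' ⟶ T') (hτ : ψ ≫ π = (yon S).map τ ≫ (yon S).map e)
  (hj : RepWith @IsOpenImmersion (pullback.lift ψ ((yon S).map τ) hτ)) (O : T'.left.Opens)

include hτ in
lemma restrict_condition :
    ((yon S).map (resOpenι V' (τ.left ⁻¹ᵁ O)) ≫ ψ) ≫ π =
      (yon S).map (resMap τ O) ≫ (yon S).map (resOpenι T' O ≫ e) := by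
  rw [Category.assoc, hτ, ← Functor.map_comp_assoc, ← resMap_comp, ← Functor.map_comp,
    ← Functor.map_comp, Category.assoc]

/-- lifting through the preimage of an open -/
lemma exists_lift_resOpen {Z : Over S} (x : Z ⟶ V') (y : Z ⟶ resOpen T' O)
    (h : x ≫ τ = y ≫ resOpenι T' O) :
    ∃ z : Z ⟶ resOpen V' (τ.left ⁻¹ᵁ O), z ≫ resOpenι V' (τ.left ⁻¹ᵁ O) = x ∧
      z ≫ resMap τ O = y := by
  have hsub : Set.range x.left ⊆ Set.range (τ.left ⁻¹ᵁ O).ι := by
    rintro _ ⟨p, rfl⟩
    rw [Scheme.Opens.range_ι]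
    change τ.left (x.left p) ∈ O
    have : τ.left (x.left p) = O.ι (y.left p) := by
      have := congrArg (fun f => f.left p) h
      exact this
    rw [this]
    exact (y.left p).2
  let z₀ : Z.left ⟶ (τ.left ⁻¹ᵁ O : Scheme.{u}) := IsOpenImmersion.lift _ x.left hsub
  have hz₀ : z₀ ≫ (τ.left ⁻¹ᵁ O).ι = x.left := IsOpenImmersion.lift_fac _ _ _
  let z : Z ⟶ resOpen V' (τ.left ⁻¹ᵁ O) := Over.homMk z₀ (by
    change z₀ ≫ (τ.left ⁻¹ᵁ O).ι ≫ V'.hom = Z.hom
    rw [← Category.assoc, hz₀, Over.w])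
  have hz : z ≫ resOpenι V' (τ.left ⁻¹ᵁ O) = x := by
    ext1
    exact hz₀
  refine ⟨z, hz, ?_⟩
  have hm : Mono (resOpenι T' O) := by
    have : Mono ((Over.forget S).map (resOpenι T' O)) := inferInstanceAs (Mono O.ι)
    exact (Over.forget S).mono_of_mono_map this
  rw [← cancel_mono (resOpenι T' O), Category.assoc, resMap_comp, ← Category.assoc, hz, h]

include hj in
set_option backward.isDefEq.respectTransparency.types false in
/-- restriction of the data of `exists_open_image` to an open of `T'` -/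
theorem restrict_repWith :
    RepWith @IsOpenImmersion (pullback.lift ((yon S).map (resOpenι V' (τ.left ⁻¹ᵁ O)) ≫ ψ)
      ((yon S).map (resMap τ O)) (restrict_condition e π ψ τ hτ O)) := by
  let fE := pullback.fst π ((yon S).map e)
  let π' := pullback.snd π ((yon S).map e)
  let fE₂ := pullback.fst π ((yon S).map (resOpenι T' O ≫ e))
  let π₂ := pullback.snd π ((yon S).map (resOpenι T' O ≫ e))
  have hE₂ : fE₂ ≫ π = π₂ ≫ (yon S).map (resOpenι T' O ≫ e) := pullback.condition
  let k : pullback π ((yon S).map (resOpenι T' O ≫ e)) ⟶ pullback π ((yon S).map e) :=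
    pullback.lift fE₂ (π₂ ≫ (yon S).map (resOpenι T' O)) (by
      rw [hE₂, Category.assoc]
      congr 1)
  have hk1 : k ≫ fE = fE₂ := pullback.lift_fst _ _ _
  have hk2 : k ≫ π' = π₂ ≫ (yon S).map (resOpenι T' O) := pullback.lift_snd _ _ _
  let j := pullback.lift ψ ((yon S).map τ) hτ
  have hj1 : j ≫ fE = ψ := pullback.lift_fst _ _ _
  have hj2 : j ≫ π' = (yon S).map τ := pullback.lift_snd _ _ _
  let j₂ := pullback.lift ((yon S).map (resOpenι V' (τ.left ⁻¹ᵁ O)) ≫ ψ)
      ((yon S).map (resMap τ O)) (restrict_condition e π ψ τ hτ O)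
  have hj₂1 : j₂ ≫ fE₂ = (yon S).map (resOpenι V' (τ.left ⁻¹ᵁ O)) ≫ ψ := pullback.lift_fst _ _ _
  have hj₂2 : j₂ ≫ π₂ = (yon S).map (resMap τ O) := pullback.lift_snd _ _ _
  have hm : Mono (resOpenι V' (τ.left ⁻¹ᵁ O)) := by
    have : Mono ((Over.forget S).map (resOpenι V' (τ.left ⁻¹ᵁ O))) :=
      inferInstanceAs (Mono (τ.left ⁻¹ᵁ O).ι)
    exact (Over.forget S).mono_of_mono_map this
  have sq : IsPullback ((yon S).map (resOpenι V' (τ.left ⁻¹ᵁ O))) j₂ j k := by
    refine isPullback_iff_yon.2 ⟨?_, fun Z x y hxy => ?_⟩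
    · apply pullback.hom_ext
      · change (_ ≫ j) ≫ fE = (j₂ ≫ k) ≫ fE
        rw [Category.assoc, hj1, Category.assoc, hk1, hj₂1]
      · change (_ ≫ j) ≫ π' = (j₂ ≫ k) ≫ π'
        rw [Category.assoc, hj2, Category.assoc, hk2, ← Category.assoc, hj₂2,
          ← Functor.map_comp, ← Functor.map_comp, resMap_comp]
    · obtain ⟨x₀, rfl⟩ := (yon S).map_surjective x
      obtain ⟨y₀, hy₀⟩ := (yon S).map_surjective (y ≫ π₂)
      have h1 : x₀ ≫ τ = y₀ ≫ resOpenι T' O := by
        apply (yon S).map_injective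
        have := congrArg (· ≫ π') hxy
        simp only [Category.assoc] at this
        rw [hj2, hk2, ← Category.assoc, ← hy₀] at this
        rw [Functor.map_comp, Functor.map_comp]
        exact this
      obtain ⟨z, hz1, hz2⟩ := exists_lift_resOpen τ O x₀ y₀ h1
      refine ⟨(yon S).map z, ⟨by rw [← Functor.map_comp, hz1], ?_⟩, ?_⟩
      · apply pullback.hom_ext
        · change (_ ≫ j₂) ≫ fE₂ = y ≫ fE₂
          rw [Category.assoc, hj₂1, ← Functor.map_comp_assoc, hz1, ← hk1, ← Category.assoc,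
            ← hxy, Category.assoc, hj1]
        · change (_ ≫ j₂) ≫ π₂ = y ≫ π₂
          rw [Category.assoc, hj₂2, ← Functor.map_comp, hz2, hy₀]
      · rintro z' ⟨h1', -⟩
        obtain ⟨z'₀, rfl⟩ := (yon S).map_surjective z'
        congr 1
        rw [← cancel_mono (resOpenι V' (τ.left ⁻¹ᵁ O)), hz1]
        apply (yon S).map_injective
        rw [Functor.map_comp, h1']
  exact MorphismProperty.of_isPullback (P := RepWith @IsOpenImmersion) sq hj

end Restrict

section KeyAffine
variable {X : Sp S} {T : Over S} (f : X ⟶ (yon S).obj T) (hG : Good f) {U : Over S}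
  (a : (yon S).obj U ⟶ X) (ha : RepWith @Etale a)

include hG ha in
set_option backward.isDefEq.respectTransparency.types false in
set_option maxHeartbeats 1600000 in
/-- over an affine base, near a point of an affine étale chart, the space contains an open
subscheme -/
theorem key_affine [IsAffine T.left] [IsAffine U.left] (u : U.left) :
    ∃ (W : Over S) (i : (yon S).obj W ⟶ X) (U' : Over S) (w : U' ⟶ U) (l : U' ⟶ W),
      RepWith @IsOpenImmersion i ∧ u ∈ Set.range w.left ∧
        (yon S).map l ≫ i = (yon S).map w ≫ a := by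
  obtain ⟨g, hg⟩ := (yon S).map_surjective (a ≫ f)
  have hlq := hG.lqf a (𝟙 _) g ha (repWith_id _ T) (by rw [hg, Category.comp_id])
  have hlqf : LocallyQuasiFinite g.left := hlq.1
  have hlft : LocallyOfFiniteType g.left := hlq.2
  obtain ⟨T₀, e₀, t', he₀, het', J, hJ, Vf, vf, hV, -, hall, -⟩ :=
    Groth.Agent.Lib.Helper6.EtLoc.exists_etale_nbhd_insep_family g.left (g.left u) (ι := Unit)
      (fun _ => u) (fun _ _ _ => rfl) (fun _ => rfl) (fun _ => g.left.quasiFiniteAt u)
  obtain ⟨z, hz1, hz2⟩ := Scheme.Pullback.exists_preimage_pullback (f := g.left) (g := e₀) u t'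
    het'.symm
  obtain ⟨j₀, hj₀⟩ := hall z () hz2 hz1
  obtain ⟨hvV, hfin, hsnd, huniq, ⟨-, hpi⟩, hfst⟩ := hV () j₀
  -- objects over `S`
  let T' : Over S := Over.mk (e₀ ≫ T.hom)
  let e : T' ⟶ T := Over.homMk e₀ rfl
  have hee : Etale e.left := he₀
  let Y' : Over S := Over.mk (pullback.fst g.left e₀ ≫ U.hom)
  let prU : Y' ⟶ U := Over.homMk (pullback.fst g.left e₀) rfl
  let prT : Y' ⟶ T' := Over.homMk (pullback.snd g.left e₀) (by
    change pullback.snd g.left e₀ ≫ e₀ ≫ T.hom = pullback.fst g.left e₀ ≫ U.hom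
    rw [← Category.assoc, ← pullback.condition, Category.assoc, Over.w g])
  have hpr : prU ≫ g = prT ≫ e := by
    ext1
    exact pullback.condition
  have sqY : IsPullback prU prT g e :=
    IsPullback.of_map (Over.forget S) hpr (IsPullback.of_hasPullback g.left e₀)
  let V₀ : Y'.left.Opens := Vf () j₀
  let V : Over S := resOpen Y' V₀
  let ιV : V ⟶ Y' := resOpenι Y' V₀
  let τ : V ⟶ T' := ιV ≫ prT
  have hτfin : IsFinite τ.left := hfin
  let v : V.left := ⟨vf () j₀, hvV⟩
  -- the base change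
  let fE := pullback.fst f ((yon S).map e)
  let π' := pullback.snd f ((yon S).map e)
  have hE' : fE ≫ f = π' ≫ (yon S).map e := pullback.condition
  have hG' : Good π' := hG.baseChange e (IsPullback.of_hasPullback f ((yon S).map e))
  let bY : (yon S).obj Y' ⟶ pullback f ((yon S).map e) :=
    pullback.lift ((yon S).map prU ≫ a) ((yon S).map prT) (by
      rw [Category.assoc, ← hg, ← Functor.map_comp, ← Functor.map_comp, hpr])
  have hbY1 : bY ≫ fE = (yon S).map prU ≫ a := pullback.lift_fst _ _ _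
  have hbY2 : bY ≫ π' = (yon S).map prT := pullback.lift_snd _ _ _
  have sqbY : IsPullback bY ((yon S).map prU) fE a := by
    refine IsPullback.of_right ?_ hbY1 (IsPullback.of_hasPullback f ((yon S).map e)).flip
    rw [hbY2, ← hg]
    exact (sqY.map (yon S)).flip
  have hbY : RepWith @Etale bY := repWith_of_isPullback _ sqbY.flip ha
  let b : (yon S).obj V ⟶ pullback f ((yon S).map e) := (yon S).map ιV ≫ bY
  have hb : RepWith @Etale b :=
    repWith_comp @Etale ((repWith_yon_map_iff @Etale ιV).2 (inferInstanceAs (Etale V₀.ι))) hbY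
  have hbτ : b ≫ π' = (yon S).map τ := by
    change ((yon S).map ιV ≫ bY) ≫ π' = _
    rw [Category.assoc, hbY2, ← Functor.map_comp]
  have huniq' : ∀ w : V.left, τ.left w = τ.left v → w = v := by
    intro w hw
    apply Subtype.ext
    refine huniq w.1 w.2 ?_
    have : pullback.snd g.left e₀ w.1 = pullback.snd g.left e₀ (vf () j₀) := hw
    rw [this]
    exact hsnd
  have hrad : ∀ (K : Type u) [Field K] (g₁ g₂ : Spec (.of K) ⟶ V.left),
      g₁ (IsLocalRing.closedPoint K) = v → g₂ (IsLocalRing.closedPoint K) = v →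
      g₁ ≫ τ.left = g₂ ≫ τ.left → g₁ = g₂ := by
    intro K _ g₁ g₂ h₁ h₂ h
    have : Mono V₀.ι := inferInstance
    rw [← cancel_mono V₀.ι]
    refine eq_of_isPurelyInseparable (pullback.snd g.left e₀) (vf () j₀) hpi K _ _ ?_ ?_ ?_
    · rw [Scheme.Hom.comp_apply, h₁]
      rfl
    · rw [Scheme.Hom.comp_apply, h₂]
      rfl
    · rw [Category.assoc, Category.assoc]
      exact h
  obtain ⟨V₁, hv₁, hj₁⟩ := exists_open_mono π' hG'.sep b hb τ hbτ v huniq' hrad
  -- shrink `T'` to an affine open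
  obtain ⟨O, hO, ht'O, -⟩ := exists_isAffineOpen_mem_and_subset (X := T'.left) (x := t')
    (U := ⊤) trivial
  have hOaff : IsAffine (resOpen T' O).left := hO
  let e₂ : resOpen T' O ⟶ T := resOpenι T' O ≫ e
  have he₂e : Etale e₂.left := by
    change Etale (O.ι ≫ e₀)
    infer_instance
  have he₂s : IsSeparated e₂.left := inferInstance
  have he₂q : LocallyQuasiFinite e₂.left := etale_locallyQuasiFinite e₂.left
  have hcomp : CompactSpace (resOpen T' O).left := inferInstance
  obtain ⟨n, hbd⟩ := SlqfBd.exists_bd e₂.left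
  let V' : Over S := resOpen V V₁
  let ι₁ : V' ⟶ V := resOpenι V V₁
  let ψ : (yon S).obj V' ⟶ X := ((yon S).map ι₁ ≫ b) ≫ fE
  let τ₁ : V' ⟶ T' := ι₁ ≫ τ
  have hτ₁ : ψ ≫ f = (yon S).map τ₁ ≫ (yon S).map e := by
    change (((yon S).map ι₁ ≫ b) ≫ fE) ≫ f = _
    rw [Category.assoc, hE', Category.assoc, ← Category.assoc b, hbτ, ← Category.assoc,
      ← Functor.map_comp]
  have hlift : pullback.lift ψ ((yon S).map τ₁) hτ₁ = (yon S).map ι₁ ≫ b := by
    apply pullback.hom_ext
    · rw [pullback.lift_fst]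
    · rw [pullback.lift_snd]
      change _ = ((yon S).map ι₁ ≫ b) ≫ π'
      rw [Category.assoc, hbτ, ← Functor.map_comp]
  have hj : RepWith @IsOpenImmersion (pullback.lift ψ ((yon S).map τ₁) hτ₁) := by
    rw [hlift]
    exact hj₁
  have hj₂ := restrict_repWith e f ψ τ₁ hτ₁ hj O
  obtain ⟨W, i, l, hi, hli, -, -⟩ := exists_open_image n e₂ hbd f hG
    ((yon S).map (resOpenι V' (τ₁.left ⁻¹ᵁ O)) ≫ ψ) (resMap τ₁ O)
    (restrict_condition e f ψ τ₁ hτ₁ O) hj₂
  refine ⟨W, i, resOpen V' (τ₁.left ⁻¹ᵁ O), resOpenι V' (τ₁.left ⁻¹ᵁ O) ≫ ι₁ ≫ ιV ≫ prU, l, hi,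
    ?_, ?_⟩
  · have hmem : (⟨v, hv₁⟩ : V'.left) ∈ τ₁.left ⁻¹ᵁ O := by
      change pullback.snd g.left e₀ (vf () j₀) ∈ O
      rw [hsnd]
      exact ht'O
    exact ⟨⟨⟨v, hv₁⟩, hmem⟩, hfst⟩
  · rw [hli]
    change _ ≫ ((yon S).map ι₁ ≫ (yon S).map ιV ≫ bY) ≫ fE = _
    simp only [Category.assoc, Functor.map_comp]
    rw [hbY1]

end KeyAffine

section Key
variable {X : Sp S} {T : Over S} (f : X ⟶ (yon S).obj T) (hG : Good f) {U : Over S}
  (a : (yon S).obj U ⟶ X) (ha : RepWith @Etale a)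

include hG ha in
set_option backward.isDefEq.respectTransparency.types false in
/-- near a point of an étale chart, the space contains an open subscheme -/
theorem key (u : U.left) :
    ∃ (W : Over S) (i : (yon S).obj W ⟶ X) (U' : Over S) (w : U' ⟶ U) (l : U' ⟶ W),
      RepWith @IsOpenImmersion i ∧ u ∈ Set.range w.left ∧
        (yon S).map l ≫ i = (yon S).map w ≫ a := by
  obtain ⟨g, hg⟩ := (yon S).map_surjective (a ≫ f)
  obtain ⟨T₀, hT₀, hgu, -⟩ := exists_isAffineOpen_mem_and_subset (X := T.left) (x := g.left u)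
    (U := ⊤) trivial
  obtain ⟨U₀, hU₀, huU₀, hsub⟩ := exists_isAffineOpen_mem_and_subset (X := U.left) (x := u)
    (U := g.left ⁻¹ᵁ T₀) hgu
  have hT₀aff : IsAffine (resOpen T T₀).left := hT₀
  have hU₀aff : IsAffine (resOpen U U₀).left := hU₀
  let r := resOpenι T T₀
  let ι₀ := pullback.fst f ((yon S).map r)
  let f₀ := pullback.snd f ((yon S).map r)
  have hX₀ : ι₀ ≫ f = f₀ ≫ (yon S).map r := pullback.condition
  have hG₀ : Good f₀ := hG.baseChange r (IsPullback.of_hasPullback f ((yon S).map r))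
  have hι₀ : RepWith @IsOpenImmersion ι₀ :=
    MorphismProperty.of_isPullback (P := RepWith @IsOpenImmersion)
      (IsPullback.of_hasPullback f ((yon S).map r)).flip
      ((repWith_yon_map_iff @IsOpenImmersion r).2 (inferInstanceAs (IsOpenImmersion T₀.ι)))
  have hι₀m : Mono ι₀ := mono_of_repWith_isOpenImmersion ι₀ hι₀
  have hrange : Set.range (U₀.ι ≫ g.left) ⊆ Set.range T₀.ι := by
    rintro _ ⟨p, rfl⟩
    rw [Scheme.Opens.range_ι]
    exact hsub p.2
  let g₀l : (U₀ : Scheme.{u}) ⟶ (T₀ : Scheme.{u}) := IsOpenImmersion.lift T₀.ι (U₀.ι ≫ g.left) hrange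
  have hg₀l : g₀l ≫ T₀.ι = U₀.ι ≫ g.left := IsOpenImmersion.lift_fac _ _ _
  let g₀ : resOpen U U₀ ⟶ resOpen T T₀ := Over.homMk g₀l (by
    change g₀l ≫ T₀.ι ≫ T.hom = U₀.ι ≫ U.hom
    rw [← Category.assoc, hg₀l, Category.assoc, Over.w g])
  have hg₀ : g₀ ≫ r = resOpenι U U₀ ≫ g := by
    ext1
    exact hg₀l
  let a₀ : (yon S).obj (resOpen U U₀) ⟶ pullback f ((yon S).map r) :=
    pullback.lift ((yon S).map (resOpenι U U₀) ≫ a) ((yon S).map g₀) (by
      rw [Category.assoc, ← hg, ← Functor.map_comp, ← Functor.map_comp, hg₀])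
  have ha₀1 : a₀ ≫ ι₀ = (yon S).map (resOpenι U U₀) ≫ a := pullback.lift_fst _ _ _
  have hcomp : RepWith @Etale ((yon S).map (resOpenι U U₀) ≫ a) :=
    repWith_comp @Etale ((repWith_yon_map_iff @Etale (resOpenι U U₀)).2
      (inferInstanceAs (Etale U₀.ι))) ha
  have ha₀ : RepWith @Etale a₀ := repWith_of_isPullback _ (isPullback_id_of_mono ha₀1) hcomp
  obtain ⟨W, i₀, U', w₀, l, hi₀, hu, hl⟩ := key_affine f₀ hG₀ a₀ ha₀ (⟨u, huU₀⟩ : U₀)
  refine ⟨W, i₀ ≫ ι₀, U', w₀ ≫ resOpenι U U₀, l, repWith_comp @IsOpenImmersion hi₀ hι₀, ?_, ?_⟩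
  · obtain ⟨p, hp⟩ := hu
    refine ⟨p, ?_⟩
    change U₀.ι (w₀.left p) = u
    rw [hp]
    rfl
  · rw [← Category.assoc, hl, Category.assoc, ha₀1, Functor.map_comp, Category.assoc]

end Key

section Final

set_option backward.isDefEq.respectTransparency.types false in
/-- **Stacks 0418.** An algebraic space separated and locally quasi-finite over a scheme is a
scheme. -/
theorem exists_iso_yon_of_good {X : Sp S} {T : Over S} (f : X ⟶ (yon S).obj T) (hG : Good f) :
    ∃ W : Over S, Nonempty ((yon S).obj W ≅ X) := by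
  obtain ⟨U, a, hae, has⟩ := hG.alg.atlas
  choose W i U' w l hi hu hl using key f hG a hae
  obtain ⟨W', ε, -, -, -, -⟩ := exists_iso_yon_of_open_cover hi (by
    intro Z t x
    have sq := has.rep.isPullback t
    have hs : Surjective (has.rep.snd t).left := has.property_snd t
    obtain ⟨z', hz'⟩ := (has.rep.snd t).left.surjective x
    let pZ : has.rep.pullback t ⟶ U := (yon S).preimage (has.rep.fst t)
    have hpZ : (yon S).map pZ = has.rep.fst t := Functor.map_preimage _ _
    let u := pZ.left z'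
    obtain ⟨u', hu'⟩ := hu u
    obtain ⟨z'', hz''1, hz''2⟩ := Scheme.Pullback.exists_preimage_pullback (f := pZ.left)
      (g := (w u).left) z' u' hu'.symm
    let Z'' : Over S := Over.mk (pullback.fst pZ.left (w u).left ≫ (has.rep.pullback t).hom)
    let q₁ : Z'' ⟶ has.rep.pullback t := Over.homMk (pullback.fst pZ.left (w u).left) rfl
    let q₂ : Z'' ⟶ U' u := Over.homMk (pullback.snd pZ.left (w u).left) (by
      change pullback.snd pZ.left (w u).left ≫ (U' u).hom = pullback.fst pZ.left (w u).left ≫ _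
      rw [← Over.w (w u), ← Category.assoc, ← pullback.condition, Category.assoc, Over.w pZ])
    have hq : q₁ ≫ pZ = q₂ ≫ w u := by
      ext1
      exact pullback.condition
    refine ⟨u, ?_⟩
    refine exists_open_lift (i u) (hi u) t x (q₁ ≫ has.rep.snd t) (q₂ ≫ l u) ⟨z'', ?_⟩ ?_
    · change (has.rep.snd t).left (pullback.fst pZ.left (w u).left z'') = x
      rw [hz''1, hz']
    · rw [Functor.map_comp, Category.assoc, hl u, ← Functor.map_comp_assoc, ← hq,
        Functor.map_comp, Category.assoc, hpZ, sq.w, Functor.map_comp, Category.assoc])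
  exact ⟨W', ⟨ε⟩⟩

end Final

end Groth.Agent.Lib.Helper24.Slqf
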