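import Mathlib
import Groth.Prelude.Def_AlgSpInf
import Groth.Agent.Lib.Helper14.AlgSpBase
import Groth.Agent.Lib.Helper14.AlgSpLocP2

/-!
# Formally unramified morphisms of algebraic spaces and charts (helper24)
-/

set_option autoImplicit false
universe u

open CategoryTheory CategoryTheory.Limits AlgebraicGeometry Opposite AlgSp
open Groth.Agent.Lib.Helper14.AS

namespace Groth.Agent.Lib.Helper24.FUnr

variable {S : Scheme.{u}}

set_option backward.isDefEq.respectTransparency.types false in
/-- Maps into an etale chart are determined by their composite with the chart and their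
restriction along a surjection. -/
theorem eq_of_etale_chart {F : Sp S} {U : Over S} (a : (yon S).obj U ⟶ F) (ha : RepWith @Etale a)
    {Z Z' : Over S} (i : Z' ⟶ Z) (hi : Function.Surjective i.left) (n₁ n₂ : Z ⟶ U)
    (h1 : i ≫ n₁ = i ≫ n₂) (h2 : (yon S).map n₁ ≫ a = (yon S).map n₂ ≫ a) : n₁ = n₂ := by
  have rep : Representable a := ha.rep
  have sq := rep.isPullback' a
  have hfst : Etale (rep.fst' a).left := ha.property a _ _ sq.flip
  -- the diagonal
  obtain ⟨Δ, hΔ⟩ := (yon S).map_surjective (sq.lift (𝟙 _) (𝟙 _) rfl)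
  have hΔ1 : Δ ≫ rep.fst' a = 𝟙 U := by
    apply (yon S).map_injective
    rw [Functor.map_comp, hΔ, sq.lift_fst, CategoryTheory.Functor.map_id]
  have hΔ2 : Δ ≫ rep.snd a = 𝟙 U := by
    apply (yon S).map_injective
    rw [Functor.map_comp, hΔ, sq.lift_snd, CategoryTheory.Functor.map_id]
  have hΔ1' : Δ.left ≫ (rep.fst' a).left = 𝟙 U.left := by
    rw [← Over.comp_left, hΔ1]; rfl
  haveI : Etale (Δ.left ≫ (rep.fst' a).left) := by rw [hΔ1']; infer_instance
  haveI : Etale Δ.left := Etale.of_comp Δ.left (rep.fst' a).left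
  haveI : Mono Δ.left := mono_of_mono_fac hΔ1'
  haveI : IsOpenImmersion Δ.left := IsOpenImmersion.of_flat_of_mono Δ.left
  -- the pair
  obtain ⟨m, hm⟩ := (yon S).map_surjective (sq.lift ((yon S).map n₁) ((yon S).map n₂) h2)
  have hm1 : m ≫ rep.fst' a = n₁ := by
    apply (yon S).map_injective
    rw [Functor.map_comp, hm, sq.lift_fst]
  have hm2 : m ≫ rep.snd a = n₂ := by
    apply (yon S).map_injective
    rw [Functor.map_comp, hm, sq.lift_snd]
  have him : i ≫ m = (i ≫ n₁) ≫ Δ := by
    apply (yon S).map_injective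
    apply sq.hom_ext
    · rw [← Functor.map_comp, ← Functor.map_comp, Category.assoc, hm1, Category.assoc, hΔ1,
        Category.comp_id]
    · rw [← Functor.map_comp, ← Functor.map_comp, Category.assoc, hm2, Category.assoc, hΔ2,
        Category.comp_id, h1]
  have hrange : Set.range m.left ⊆ Set.range Δ.left := by
    rintro _ ⟨z, rfl⟩
    obtain ⟨z', rfl⟩ := hi z
    have := congrArg (fun k => k.left z') him
    simp only [Over.comp_left, Scheme.Hom.comp_apply] at this
    exact ⟨_, this.symm⟩
  let l : Z.left ⟶ U.left := IsOpenImmersion.lift Δ.left m.left hrange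
  have hl : l ≫ Δ.left = m.left := IsOpenImmersion.lift_fac _ _ _
  have e1 : n₁.left = l := by
    rw [← hm1, Over.comp_left, ← hl, Category.assoc, hΔ1', Category.comp_id]
  have hΔ2' : Δ.left ≫ (rep.snd a).left = 𝟙 U.left := by
    rw [← Over.comp_left, hΔ2]; rfl
  have e2 : n₂.left = l := by
    rw [← hm2, Over.comp_left, ← hl, Category.assoc, hΔ2', Category.comp_id]
  ext1
  rw [e1, e2]

theorem surjective_spec_map_mk_of_sq_zero {A : Type u} [CommRing A] (I : Ideal A)
    (hI : I ^ 2 = ⊥) :
    Function.Surjective (Spec.map (CommRingCat.ofHom (Ideal.Quotient.mk I))) := by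
  have hle : I ≤ nilradical A := by
    intro x hx
    have : x ^ 2 ∈ I ^ 2 := Ideal.pow_mem_pow hx 2
    rw [hI] at this
    exact ⟨2, this⟩
  exact (PrimeSpectrum.comap_quotientMk_bijective_of_le_nilradical hle).2

set_option backward.isDefEq.respectTransparency.types false in
/-- A formally unramified morphism (lifting sense) is formally unramified on every chart with an
etale chart of the source. -/
theorem formallyUnramified_chart {X Y : Sp S} (f : X ⟶ Y) (hf : IsFormallyUnramifiedMor f)
    {U V : Over S} (a : (yon S).obj U ⟶ X) (b : (yon S).obj V ⟶ Y) (h : U ⟶ V)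
    (ha : RepWith @Etale a) (comm : a ≫ f = (yon S).map h ≫ b) : FormallyUnramified h.left := by
  refine FormallyUnramified.of_hom_ext h.left ?_
  intro R S' φ hφ hker g₁ g₂ hg hgh
  let I : Ideal R := RingHom.ker φ.hom
  have hg12 : g₂ ≫ U.hom = g₁ ≫ U.hom := by
    rw [← Over.w h, ← Category.assoc, ← Category.assoc, hgh]
  let G₁ : Over.mk (g₁ ≫ U.hom) ⟶ U := Over.homMk g₁ rfl
  let G₂ : Over.mk (g₁ ≫ U.hom) ⟶ U := Over.homMk g₂ hg12
  let j : Over.mk (Spec.map (CommRingCat.ofHom (Ideal.Quotient.mk I)) ≫ g₁ ≫ U.hom) ⟶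
      Over.mk (g₁ ≫ U.hom) :=
    Over.homMk (Spec.map (CommRingCat.ofHom (Ideal.Quotient.mk I))) rfl
  -- restriction to the quotient
  have hj12 : j ≫ G₁ = j ≫ G₂ := by
    ext1
    change Spec.map (CommRingCat.ofHom (Ideal.Quotient.mk I)) ≫ g₁ =
      Spec.map (CommRingCat.ofHom (Ideal.Quotient.mk I)) ≫ g₂
    let e : (R ⧸ I) ≃+* S' := RingHom.quotientKerEquivOfSurjective hφ
    have he : φ = CommRingCat.ofHom (Ideal.Quotient.mk I) ≫ CommRingCat.ofHom e.toRingHom := by
      ext x
      rfl
    have hiso : IsIso (CommRingCat.ofHom e.toRingHom) :=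
      (e.toCommRingCatIso).isIso_hom
    rw [he, Spec.map_comp, Category.assoc, Category.assoc] at hg
    exact (cancel_epi _).1 hg
  have hGh : G₁ ≫ h = G₂ ≫ h := by
    ext1
    exact hgh
  let sq : InfSq f :=
    { A := R
      I := I
      sq_zero := hker
      str := g₁ ≫ U.hom
      top := (yon S).map (j ≫ G₁) ≫ a
      bot := (yon S).map G₁ ≫ (yon S).map h ≫ b
      comm := by
        rw [Category.assoc, comm, Functor.map_comp, Category.assoc] }
  have huniq := hf sq ((yon S).map G₁ ≫ a) ((yon S).map G₂ ≫ a)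
    (by rw [← Category.assoc, ← Functor.map_comp])
    (by rw [Category.assoc, comm])
    (by
      rw [← Category.assoc, ← Functor.map_comp]
      change (yon S).map (j ≫ G₂) ≫ a = (yon S).map (j ≫ G₁) ≫ a
      rw [hj12])
    (by
      rw [Category.assoc, comm, ← Category.assoc, ← Functor.map_comp, ← hGh, Functor.map_comp,
        Category.assoc])
  have := eq_of_etale_chart a ha j (surjective_spec_map_mk_of_sq_zero I hker) G₁ G₂ hj12 huniq
  exact congrArg (fun k => k.left) this

end Groth.Agent.Lib.Helper24.FUnr
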