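import Mathlib
import Groth.Prelude.Def_AlgSpInf
import Groth.Agent.Lib.Helper14.AlgSpBase
import Groth.Agent.Lib.Helper14.AlgSpLocP2
import Groth.Agent.Lib.Helper14.FpqcBase4
import Groth.Agent.Lib.Helper1.Thickening
import Groth.Agent.S1489
import Groth.Agent.S1516
import Groth.Agent.Lib.Helper24.FUnr1

/-!
# Formally unramified morphisms of algebraic spaces and charts, converse (helper24)
-/

set_option autoImplicit false
universe u

open CategoryTheory CategoryTheory.Limits AlgebraicGeometry Opposite AlgSp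
open Groth.Agent.Lib.Helper14.AS

namespace Groth.Agent.Lib.Helper24.FUnr

variable {S : Scheme.{u}}

/-- Extension of a section of an etale morphism along a first order thickening. -/
theorem exists_section_extension {W W₂ WT : Scheme.{u}} (q : W₂ ⟶ W) [Etale q] (i : WT ⟶ W)
    (hi : MoreMor.IsFirstOrderThickening i) (σ₀ : WT ⟶ W₂) (h : σ₀ ≫ q = i) :
    ∃ σ : W ⟶ W₂, i ≫ σ = σ₀ ∧ σ ≫ q = 𝟙 W := by
  have hq : MoreMor.IsFormallyEtaleHom q := ((Groth.Agent.S1489.result q).1 inferInstance).2
  obtain ⟨σ, ⟨h1, h2⟩, -⟩ := Groth.Agent.S1516.result q hq i hi σ₀ (𝟙 W)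
    (by rw [Category.comp_id, h])
  exact ⟨σ, h1, h2⟩

set_option backward.isDefEq.respectTransparency.types false in
/-- If `f` is formally unramified on one chart with surjective etale chart of the source, then
`f` is formally unramified (lifting sense). -/
theorem isFormallyUnramifiedMor_of_chart {X Y : Sp S} (f : X ⟶ Y)
    {U V : Over S} (a : (yon S).obj U ⟶ X) (b : (yon S).obj V ⟶ Y) (h : U ⟶ V)
    (ha : RepWith @Etale a) (has : RepWith @Surjective a) (hb : RepWith @Etale b)
    (comm : a ≫ f = (yon S).map h ≫ b) (hh : FormallyUnramified h.left) :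
    IsFormallyUnramifiedMor f := by
  intro sq l l' h1 h2 h1' h2'
  have rep : Representable a := ha.rep
  -- chart of T' through l'
  let W : Over S := rep.pullback l'
  let w : W ⟶ sq.ptT' := rep.snd l'
  let n' : W ⟶ U := rep.fst' l'
  have sqW : IsPullback ((yon S).map n') ((yon S).map w) a l' := rep.isPullback' l'
  have hwe : Etale w.left := ha.property l' _ _ sqW
  have hws : Surjective w.left := has.property l' _ _ sqW
  -- chart through l
  let W₂ : Over S := rep.pullback ((yon S).map w ≫ l)
  let q : W₂ ⟶ W := rep.snd ((yon S).map w ≫ l)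
  let m₂ : W₂ ⟶ U := rep.fst' ((yon S).map w ≫ l)
  have sqW₂ : IsPullback ((yon S).map m₂) ((yon S).map q) a ((yon S).map w ≫ l) :=
    rep.isPullback' _
  have hqe : Etale q.left := ha.property _ _ _ sqW₂
  -- the thickening of W
  let WT : Over S := Over.mk (pullback.fst w.left sq.j.left ≫ W.hom)
  let iW : WT ⟶ W := Over.homMk (pullback.fst w.left sq.j.left) rfl
  let pT : WT ⟶ sq.ptT := Over.homMk (pullback.snd w.left sq.j.left) (by
    change pullback.snd w.left sq.j.left ≫ sq.ptT.hom = pullback.fst w.left sq.j.left ≫ W.hom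
    rw [← Over.w w, ← Over.w sq.j, ← Category.assoc, ← Category.assoc, pullback.condition])
  have hiWw : iW ≫ w = pT ≫ sq.j := by
    ext1
    exact pullback.condition
  have hfot : MoreMor.IsFirstOrderThickening iW.left :=
    Groth.Agent.Lib.Helper1.Thickening.isFirstOrderThickening_of_isPullback
      (IsPullback.of_hasPullback w.left sq.j.left)
      (Groth.Agent.Lib.Helper1.Thickening.isFirstOrderThickening_SpecMap _
        Ideal.Quotient.mk_surjective (by
          change RingHom.ker (Ideal.Quotient.mk sq.I) ^ 2 = ⊥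
          rw [Ideal.mk_ker]; exact sq.sq_zero))
  have hiWsurj : Function.Surjective iW.left := hfot.1.2.surj
  -- the section over the thickening
  have hσ₀ : (yon S).map (iW ≫ n') ≫ a = (yon S).map iW ≫ (yon S).map w ≫ l := by
    rw [Functor.map_comp, Category.assoc, sqW.w, ← Category.assoc, ← Functor.map_comp, hiWw,
      Functor.map_comp, Category.assoc, h1', ← h1, ← Category.assoc, ← Category.assoc,
      ← Functor.map_comp, ← Functor.map_comp, hiWw]
  obtain ⟨σ₀, hσ₀e⟩ := (yon S).map_surjective
    (sqW₂.lift ((yon S).map (iW ≫ n')) ((yon S).map iW) hσ₀)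
  have hσ₀1 : σ₀ ≫ m₂ = iW ≫ n' := by
    apply (yon S).map_injective
    rw [Functor.map_comp, hσ₀e, sqW₂.lift_fst]
  have hσ₀2 : σ₀ ≫ q = iW := by
    apply (yon S).map_injective
    rw [Functor.map_comp, hσ₀e, sqW₂.lift_snd]
  obtain ⟨σl, hσl1, hσl2⟩ := exists_section_extension q.left iW.left hfot σ₀.left
    (by rw [← Over.comp_left, hσ₀2])
  let σ : W ⟶ W₂ := Over.homMk σl (by
    rw [← Over.w q, ← Category.assoc, hσl2, Category.id_comp])
  have hσ1 : iW ≫ σ = σ₀ := by ext1; exact hσl1
  have hσ2 : σ ≫ q = 𝟙 W := by ext1; exact hσl2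
  let n : W ⟶ U := σ ≫ m₂
  have hn1 : (yon S).map n ≫ a = (yon S).map w ≫ l := by
    rw [Functor.map_comp, Category.assoc, sqW₂.w, ← Category.assoc, ← Functor.map_comp, hσ2,
      CategoryTheory.Functor.map_id, Category.id_comp]
  have hn2 : iW ≫ n = iW ≫ n' := by
    rw [← Category.assoc, hσ1, hσ₀1]
  -- equality after composing with `h`
  have hnh : n ≫ h = n' ≫ h := by
    refine eq_of_etale_chart b hb iW hiWsurj _ _ ?_ ?_
    · rw [← Category.assoc, hn2, Category.assoc]
    · have e1 : (yon S).map (n ≫ h) ≫ b = (yon S).map w ≫ sq.bot := by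
        rw [Functor.map_comp, Category.assoc, ← comm, ← Category.assoc, hn1, Category.assoc, h2]
      have e2 : (yon S).map (n' ≫ h) ≫ b = (yon S).map w ≫ sq.bot := by
        rw [Functor.map_comp, Category.assoc, ← comm, ← Category.assoc, sqW.w, Category.assoc, h2']
      rw [e1, e2]
  -- formally unramified
  have hnn' : n = n' := by
    ext1
    haveI : IsClosedImmersion iW.left := hfot.1.1
    refine FormallyUnramified.hom_ext iW.left ⟨2, by rw [pow_two]; exact hfot.2⟩ h.left ?_ ?_
    · rw [← Over.comp_left, ← Over.comp_left, hn2]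
    · rw [← Over.comp_left, ← Over.comp_left, hnh]
  have hepi : Epi ((yon S).map w) :=
    epi_of_etale_surjective _ ((repWith_yon_map_iff _ _).2 hwe) ((repWith_yon_map_iff _ _).2 hws)
  rw [← cancel_epi ((yon S).map w), ← hn1, hnn', sqW.w]

end Groth.Agent.Lib.Helper24.FUnr
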