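import Mathlib
import Groth.Agent.Lib.Helper24.FUnr2
import Groth.Agent.Lib.Helper14.AlgSpUnram
import Groth.Agent.Lib.Helper14.AlgSpInj2
import Groth.Agent.Lib.Helper14.AlgSpRedFactor
import Groth.Agent.Lib.Helper14.AlgSpImm
import Groth.Agent.Lib.Helper14.AlgSpDiag2
import Groth.Agent.Lib.Helper14.AlgSpPoints2

/-!
# Unramified monomorphisms of algebraic spaces (helper24)
-/

set_option autoImplicit false
universe u

open CategoryTheory CategoryTheory.Limits AlgebraicGeometry Opposite AlgSp
open Groth.Agent.Lib.Helper14.AS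

namespace Groth.Agent.Lib.Helper24.UnrMono

variable {S : Scheme.{u}}

theorem locallyQuasiFinite_of_unramified {X Y : Scheme.{u}} (f : X ⟶ Y) [LocallyOfFiniteType f]
    [FormallyUnramified f] : LocallyQuasiFinite f := by
  rw [HasRingHomProperty.iff_appLE (P := @LocallyQuasiFinite)]
  intro U V e
  have h1 : (f.appLE U V e).hom.FiniteType :=
    HasRingHomProperty.appLE (P := @LocallyOfFiniteType) f inferInstance U V e
  have h2 : (f.appLE U V e).hom.FormallyUnramified :=
    HasRingHomProperty.appLE (P := @FormallyUnramified) f inferInstance U V e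
  algebraize [(f.appLE U V e).hom]
  rw [RingHom.QuasiFinite]
  infer_instance

theorem oi_inf_surj_le_iso :
    (@IsOpenImmersion ⊓ @Surjective : MorphismProperty Scheme.{u}) ≤
      MorphismProperty.isomorphisms Scheme.{u} :=
  fun _ _ f hf => (isIso_iff_isOpenImmersion_and_surjective f).2 hf

/-- A monomorphism locally of finite type is unramified. -/
theorem locP_unramified_of_mono {X Y : Sp S} (hX : IsAlgSpace X) (f : X ⟶ Y) [Mono f]
    (hft : LocP @LocallyOfFiniteType f) :
    LocP (@LocallyOfFiniteType ⊓ @FormallyUnramified) f := by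
  haveI : IsIso (pullback.diagonal f) := (pullback.isIso_diagonal_iff f).2 inferInstance
  exact locP_unramified_of_diagonal hX f hft (repWith_of_isIso _ _)

/-- A monomorphism is universally injective. -/
theorem isUnivInjectiveMor_of_mono {X Y : Sp S} (f : X ⟶ Y) [Mono f] : IsUnivInjectiveMor f :=
  isUnivInjectiveMor_of_fieldInj (fun _ _ _ _ _ h => (cancel_mono f).1 h)

/-- An unramified universally injective morphism is a monomorphism. -/
theorem mono_of_unramified_of_isUnivInjectiveMor {X Y : Sp S} (hX : IsAlgSpace X)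
    (hY : IsAlgSpace Y) (f : X ⟶ Y)
    (hf : LocP (@LocallyOfFiniteType ⊓ @FormallyUnramified) f) (hi : IsUnivInjectiveMor f) :
    Mono f := by
  have h1 := repWith_isOpenImmersion_diagonal_of_unramified hX hY f hf
  have h2 : RepWith @Surjective (pullback.diagonal f) :=
    repWith_surjective_of_isSurjectiveMor h1.rep (isSurjectiveMor_diagonal_of_isUnivInjectiveMor hX hi)
  have h3 : IsIso (pullback.diagonal f) :=
    isIso_of_repWith_isomorphisms (repWith_mono oi_inf_surj_le_iso (repWith_inf h1 h2))
  exact (pullback.isIso_diagonal_iff f).1 h3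

/-- A monomorphism is separated. -/
theorem isSeparatedMor_of_mono {X Y : Sp S} (f : X ⟶ Y) [Mono f] : IsSeparatedMor f := by
  haveI : IsIso (pullback.diagonal f) := (pullback.isIso_diagonal_iff f).2 inferInstance
  have h : RepWith (MorphismProperty.isomorphisms Scheme.{u}) (pullback.diagonal f) :=
    repWith_of_isIso _ _
  refine repWith_mono (fun _ _ g hg => ?_) h
  have : IsIso g := hg
  infer_instance

theorem locP_lqf_of_unramified {X Y : Sp S} (f : X ⟶ Y)
    (hf : LocP (@LocallyOfFiniteType ⊓ @FormallyUnramified) f) :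
    LocP (@LocallyQuasiFinite ⊓ @LocallyOfFiniteType) f := by
  intro U V a b h ha hb comm
  obtain ⟨h1, h2⟩ := hf a b h ha hb comm
  haveI := h1
  haveI := h2
  exact ⟨locallyQuasiFinite_of_unramified h.left, h1⟩

end Groth.Agent.Lib.Helper24.UnrMono
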