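import Mathlib
import Groth.Agent.Lib.Helper24.Boot5
import Groth.Agent.Lib.Helper24.Boot6
import Groth.Agent.Lib.Helper24.SlqfMain
import Groth.Agent.Lib.Helper24.UnrMono
import Groth.Agent.Lib.Helper14.FppfDescSp
set_option autoImplicit false
set_option linter.unusedSectionVars false
set_option backward.isDefEq.respectTransparency false
set_option backward.isDefEq.respectTransparency.types false
universe u
open CategoryTheory CategoryTheory.Limits AlgebraicGeometry Opposite

/-! The bootstrap theorem for equivalence relations on algebraic spaces. -/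

namespace Groth.Agent.Lib.Helper24.Boot7
open AlgSp Groth.Agent.Lib.Helper14.AS Groth.Agent.Lib.Helper24.Boot6
open Groth.Agent.Lib.Helper24.QuotAtlas Groth.Agent.Lib.Helper24.QuotBridge
open Groth.Agent.Lib.Helper24.UnrMono Groth.Agent.Lib.Helper24.Slqf

variable {S : Scheme.{u}}

lemma locP_iso_comp {P : MorphismProperty Scheme.{u}} {X' X Y : Sp S} (e : X' ≅ X) (f : X ⟶ Y)
    (h : LocP P f) : LocP P (e.hom ≫ f) := by
  intro U V a b k ha hb comm
  exact h (a ≫ e.hom) b k
    ((MorphismProperty.cancel_right_of_respectsIso (RepWith @Etale) a e.hom).2 ha) hb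
    (by rw [Category.assoc]; exact comm)

/-- a relation on a representable sheaf with representable source comes from schemes -/
theorem isEqvRel_of_isEqvRelSp {R' : Sp S} {R₀ U₀ : Over S} (s' t' : R' ⟶ (yon S).obj U₀)
    (h : IsEqvRelSp s' t') (e : (yon S).obj R₀ ≅ R') (s₀ t₀ : R₀ ⟶ U₀)
    (hs₀ : (yon S).map s₀ = e.hom ≫ s') (ht₀ : (yon S).map t₀ = e.hom ≫ t') :
    IsEqvRel s₀ t₀ := by
  have key : ∀ (T : Over S) (a b : T ⟶ U₀),
      (∃ r : T ⟶ R₀, r ≫ t₀ = a ∧ r ≫ s₀ = b) ↔
      (∃ ρ : (yon S).obj T ⟶ R', ρ ≫ t' = (yon S).map a ∧ ρ ≫ s' = (yon S).map b) := by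
    intro T a b
    constructor
    · rintro ⟨r, rfl, rfl⟩
      exact ⟨(yon S).map r ≫ e.hom, by rw [Category.assoc, ← ht₀, ← Functor.map_comp],
        by rw [Category.assoc, ← hs₀, ← Functor.map_comp]⟩
    · rintro ⟨ρ, h1, h2⟩
      refine ⟨(yon S).preimage (ρ ≫ e.inv), (yon S).map_injective ?_, (yon S).map_injective ?_⟩
      · rw [Functor.map_comp, Functor.map_preimage, ht₀, Category.assoc, Iso.inv_hom_id_assoc, h1]
      · rw [Functor.map_comp, Functor.map_preimage, hs₀, Category.assoc, Iso.inv_hom_id_assoc, h2]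
  refine ⟨fun T r r' ht hs => ?_, fun T => ⟨fun a => ?_, fun {a b} hab => ?_,
    fun {a b c} hab hbc => ?_⟩⟩
  · apply (yon S).map_injective
    rw [← cancel_mono e.hom]
    apply h.injective T
    · rw [Category.assoc, Category.assoc, ← ht₀, ← Functor.map_comp, ← Functor.map_comp, ht]
    · rw [Category.assoc, Category.assoc, ← hs₀, ← Functor.map_comp, ← Functor.map_comp, hs]
  · exact (key T a a).2 ((h.equivalence T).refl _)
  · exact (key T b a).2 ((h.equivalence T).symm ((key T a b).1 hab))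
  · exact (key T a c).2 ((h.equivalence T).trans ((key T a b).1 hab) ((key T b c).1 hbc))

/-- the quotient does not change when the source of the relation is replaced by an isomorphic
sheaf -/
theorem isAlgSpace_quotSp_of_iso {R' R'' U' : Sp S} (s' t' : R' ⟶ U') (e : R'' ≅ R')
    (h : IsAlgSpace (quotSp (e.hom ≫ s') (e.hom ≫ t'))) : IsAlgSpace (quotSp s' t') := by
  have w1 : (e.hom ≫ s') ≫ quotSpπ s' t' = (e.hom ≫ t') ≫ quotSpπ s' t' := by
    rw [Category.assoc, Category.assoc, quotSp_condition]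
  have w2 : s' ≫ quotSpπ (e.hom ≫ s') (e.hom ≫ t') = t' ≫ quotSpπ (e.hom ≫ s') (e.hom ≫ t') := by
    rw [← cancel_epi e.hom, ← Category.assoc, ← Category.assoc, quotSp_condition]
  let φ₁ := quotSpDesc (quotSpπ s' t') w1
  let φ₂ := quotSpDesc (quotSpπ (e.hom ≫ s') (e.hom ≫ t')) w2
  have h1 : quotSpπ (e.hom ≫ s') (e.hom ≫ t') ≫ φ₁ = quotSpπ s' t' := quotSpπ_desc _ _ _ w1
  have h2 : quotSpπ s' t' ≫ φ₂ = quotSpπ (e.hom ≫ s') (e.hom ≫ t') := quotSpπ_desc _ _ _ w2
  have := epi_quotSpπ s' t'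
  have := epi_quotSpπ (e.hom ≫ s') (e.hom ≫ t')
  refine h.of_iso ⟨φ₁, φ₂, ?_, ?_⟩
  · rw [← cancel_epi (quotSpπ (e.hom ≫ s') (e.hom ≫ t')), ← Category.assoc, h1, h2,
      Category.comp_id]
  · rw [← cancel_epi (quotSpπ s' t'), ← Category.assoc, h2, h1, Category.comp_id]

set_option maxHeartbeats 1000000 in
theorem isAlgSpace_quotSp (R U : Sp S) (hR : IsAlgSpace R) (hU : IsAlgSpace U) (s t : R ⟶ U)
    (hj : IsEqvRelSp s t)
    (hs : LocP @Flat s ∧ LocP @LocallyOfFinitePresentation s)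
    (ht : LocP @Flat t ∧ LocP @LocallyOfFinitePresentation t) :
    IsAlgSpace (quotSp s t) := by
  obtain ⟨U₀, p, hpe, hps⟩ := hU.atlas
  have hU' := IsAlgSpace.yon_obj U₀
  have hR' : IsAlgSpace (RresS s t p) := isAlgSpace_RresS s t p hR hU hU'
  have hj' : IsEqvRelSp (sresS s t p) (tresS s t p) := isEqvRelSp_res s t p hj
  have hs'F : LocP @Flat (sresS s t p) :=
    locP_sresS s t p hR hU hU' etLocal_flat etale_le_flat hpe hs.1
  have hs'P : LocP @LocallyOfFinitePresentation (sresS s t p) :=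
    locP_sresS s t p hR hU hU' etLocal_lfp etale_le_lfp hpe hs.2
  have ht'F : LocP @Flat (tresS s t p) :=
    locP_tresS s t p hR hU hU' etLocal_flat etale_le_flat hpe ht.1
  have ht'P : LocP @LocallyOfFinitePresentation (tresS s t p) :=
    locP_tresS s t p hR hU hU' etLocal_lfp etale_le_lfp hpe ht.2
  -- `R'` is a scheme
  let j' : RresS s t p ⟶ (yon S).obj (U₀ ⨯ U₀) :=
    prod.lift (tresS s t p) (sresS s t p) ≫ (PreservesLimitPair.iso (yon S) U₀ U₀).inv
  have hj1 : j' ≫ (yon S).map prod.fst = tresS s t p := by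
    simp only [j', Category.assoc, PreservesLimitPair.iso_inv_fst, prod.lift_fst]
  have hj2 : j' ≫ (yon S).map prod.snd = sresS s t p := by
    simp only [j', Category.assoc, PreservesLimitPair.iso_inv_snd, prod.lift_snd]
  have hmono : Mono j' := mono_of_yon_injective j' (fun T x y hxy => hj'.injective T x y
    (by rw [← hj1, ← Category.assoc, hxy, Category.assoc])
    (by rw [← hj2, ← Category.assoc, hxy, Category.assoc]))
  have hlft : LocP @LocallyOfFiniteType j' :=
    locP_lft_of_comp hU' j' ((yon S).map prod.snd) (by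
      rw [hj2]; exact locP_lft_of_locP_lfp _ hs'P)
  have hqf := locP_lqf_of_unramified j' (locP_unramified_of_mono hR' j' hlft)
  obtain ⟨R₀, ⟨e⟩⟩ := exists_iso_yon_of_good j' ⟨hR', UnrMono.isSeparatedMor_of_mono j', hqf⟩
  -- the relation on schemes
  let s₀ : R₀ ⟶ U₀ := (yon S).preimage (e.hom ≫ sresS s t p)
  let t₀ : R₀ ⟶ U₀ := (yon S).preimage (e.hom ≫ tresS s t p)
  have hs₀ : (yon S).map s₀ = e.hom ≫ sresS s t p := Functor.map_preimage _ _
  have ht₀ : (yon S).map t₀ = e.hom ≫ tresS s t p := Functor.map_preimage _ _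
  have hrel : IsEqvRel s₀ t₀ := isEqvRel_of_isEqvRelSp _ _ hj' e s₀ t₀ hs₀ ht₀
  have : Flat s₀.left := locP_yon_map (by rw [hs₀]; exact locP_iso_comp e _ hs'F)
  have : LocallyOfFinitePresentation s₀.left :=
    locP_yon_map (by rw [hs₀]; exact locP_iso_comp e _ hs'P)
  have : Flat t₀.left := locP_yon_map (by rw [ht₀]; exact locP_iso_comp e _ ht'F)
  have : LocallyOfFinitePresentation t₀.left :=
    locP_yon_map (by rw [ht₀]; exact locP_iso_comp e _ ht'P)
  have halg : IsAlgSpace (Qs s₀ t₀) :=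
    (Groth.Agent.Lib.Helper24.Boot5.isAlgSpace_quot s₀ t₀ hrel).of_iso (quotIso s₀ t₀).symm
  have halg' : IsAlgSpace (quotSp (sresS s t p) (tresS s t p)) := by
    apply isAlgSpace_quotSp_of_iso _ _ e
    rw [← hs₀, ← ht₀]
    exact halg
  obtain ⟨ψ, -, -, hiso⟩ := exists_quot_map_res s t p hj.equivalence
  have := hiso (epi_of_etale_surjective p hpe hps)
  exact halg'.of_iso (asIso ψ)

end Groth.Agent.Lib.Helper24.Boot7
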