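import Groth.Agent.Lib.Helper24.PshBridge2
import Groth.Prelude.Def_AlgSpRep
set_option autoImplicit false
open CategoryTheory CategoryTheory.Limits AlgebraicGeometry Opposite
universe u
set_option backward.isDefEq.respectTransparency false
set_option backward.isDefEq.respectTransparency.types false

namespace Groth.Agent.Lib.Helper24.RepBySp
open AlgSp Groth.Agent.Lib.Helper24.PshBridge

variable {S : Scheme.{u}}

theorem isSheaf_of_repBySp {F G : PSp S} (a : F ⟶ G) (ha : RepBySp a)
    (hG : Presheaf.IsSheaf (J S) G) : Presheaf.IsSheaf (J S) F := by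
  rw [isSheaf_iff_isSheaf_of_type] at hG ⊢
  intro T R hR x hx
  rw [Presieve.compatible_iff_sieveCompatible] at hx
  let gx : Presieve.FamilyOfElements G R.arrows := fun Y f hf => a.app (op Y) (x f hf)
  have hgx : gx.Compatible := by
    rw [Presieve.compatible_iff_sieveCompatible]
    intro Y Z f g hf
    change a.app _ (x (g ≫ f) _) = G.map g.op (a.app _ (x f hf))
    rw [hx f g hf]
    exact NatTrans.naturality_apply a g.op _
  obtain ⟨ξ, hξ, hξu⟩ := hG R hR gx hgx
  let ξ' : (pyon S).obj T ⟶ G := uliftYonedaEquiv.symm ξ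
  have sq := IsPullback.of_hasPullback a ξ'
  obtain ⟨hP, -⟩ := ha ξ' _ _ sq
  rw [isSheaf_iff_isSheaf_of_type] at hP
  have pt := isPtPullback_of_isPullback _ _ _ _ sq
  have hex : ∀ ⦃Y : Over S⦄ (f : Y ⟶ T) (hf : R f), ∃ z : (pullback a ξ').obj (op Y),
      (pullback.fst a ξ').app _ z = x f hf ∧ (pullback.snd a ξ').app _ z = ⟨f⟩ :=
    fun Y f hf => pt.surj (op Y) (x f hf) ⟨f⟩ (hξ f hf).symm
  choose z hz1 hz2 using hex
  let px : Presieve.FamilyOfElements (pullback a ξ') R.arrows := fun Y f hf => z f hf
  have hpx : px.Compatible := by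
    rw [Presieve.compatible_iff_sieveCompatible]
    intro Y Z f g hf
    apply pt.inj
    · change (pullback.fst a ξ').app _ (z (g ≫ f) _) =
        (pullback.fst a ξ').app _ ((pullback a ξ').map g.op (z f hf))
      rw [hz1, NatTrans.naturality_apply, hz1, hx f g hf]
    · change (pullback.snd a ξ').app _ (z (g ≫ f) _) =
        (pullback.snd a ξ').app _ ((pullback a ξ').map g.op (z f hf))
      rw [hz2, NatTrans.naturality_apply, hz2]
      rfl
  obtain ⟨p, hp, hpu⟩ := hP R hR px hpx
  refine ⟨(pullback.fst a ξ').app _ p, ?_, ?_⟩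
  · intro Y f hf
    change F.map f.op ((pullback.fst a ξ').app _ p) = x f hf
    rw [← NatTrans.naturality_apply, hp f hf]
    exact hz1 f hf
  · intro t ht
    have hat : a.app _ t = ξ := hξu _ (fun Y f hf => by
      change G.map f.op (a.app _ t) = a.app _ (x f hf)
      rw [← NatTrans.naturality_apply]
      exact congrArg _ (ht f hf))
    obtain ⟨p', hp'1, hp'2⟩ := pt.surj (op T) t ⟨𝟙 T⟩ (by
      rw [hat]
      change ξ = G.map (𝟙 T).op ξ
      simp)
    have : p' = p := hpu p' (fun Y f hf => by
      apply pt.inj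
      · change (pullback.fst a ξ').app _ ((pullback a ξ').map f.op p') = _
        rw [NatTrans.naturality_apply, hp'1]
        exact (ht f hf).trans (hz1 f hf).symm
      · change (pullback.snd a ξ').app _ ((pullback a ξ').map f.op p') = _
        rw [NatTrans.naturality_apply, hp'2]
        refine Eq.trans ?_ (hz2 f hf).symm
        apply ULift.ext
        change f ≫ 𝟙 T = f
        simp)
    rw [← this, hp'1]

end Groth.Agent.Lib.Helper24.RepBySp
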