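import Groth.Agent.Lib.Helper24.RepBySpCore
import Groth.Agent.Lib.Helper24.RepBySpSheaf
import Mathlib.CategoryTheory.Limits.Shapes.Diagonal
set_option autoImplicit false
open CategoryTheory CategoryTheory.Limits AlgebraicGeometry Opposite
universe u
set_option backward.isDefEq.respectTransparency false
set_option backward.isDefEq.respectTransparency.types false

namespace Groth.Agent.Lib.Helper24.RepBySp
open AlgSp Groth.Agent.Lib.Helper14.AS

variable {S : Scheme.{u}}

/-- S10091: bootstrap at the presheaf level -/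
theorem isAlgSpaceP_of_repBySp {F G : PSp S} (a : F ⟶ G) (ha : RepBySp a) (hG : IsAlgSpaceP G) :
    IsAlgSpaceP F := by
  obtain ⟨hGs, hGa⟩ := hG
  have hFs := isSheaf_of_repBySp a ha hGs
  let a' : (⟨F, hFs⟩ : Sp S) ⟶ (⟨G, hGs⟩ : Sp S) := ObjectProperty.homMk a
  exact ⟨hFs, isAlgSpace_of_repBySp a' ha hGa⟩

/-- base change of `RepBySp` -/
theorem repBySp_of_isPullback {F G H F' : PSp S} {a : F ⟶ G} {ξ : H ⟶ G} {fst : F' ⟶ F}
    {snd : F' ⟶ H} (sq : IsPullback fst snd a ξ) (ha : RepBySp a) : RepBySp snd := by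
  intro U η F'' f₁ f₂ sq'
  exact ha (η ≫ ξ) (f₁ ≫ fst) f₂ (sq'.paste_horiz sq)

/-- S10092 (general form): fibre product over a map representable by algebraic spaces with an
algebraic space is an algebraic space -/
theorem isAlgSpaceP_of_isPullback {F G H F' : PSp S} {a : F ⟶ G} {ξ : H ⟶ G} {fst : F' ⟶ F}
    {snd : F' ⟶ H} (sq : IsPullback fst snd a ξ) (ha : RepBySp a) (hH : IsAlgSpaceP H) :
    IsAlgSpaceP F' :=
  isAlgSpaceP_of_repBySp snd (repBySp_of_isPullback sq ha) hH

/-- S10093: composition -/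
theorem repBySp_comp {F G H : PSp S} (a : F ⟶ G) (b : G ⟶ H) (ha : RepBySp a) (hb : RepBySp b) :
    RepBySp (a ≫ b) := by
  intro U ζ F'' f₁ f₂ sq
  have sqG := IsPullback.of_hasPullback b ζ
  have hG'' : IsAlgSpaceP (pullback b ζ) := hb ζ _ _ sqG
  let k : F'' ⟶ pullback b ζ := sqG.lift (f₁ ≫ a) f₂ (by rw [Category.assoc]; exact sq.w)
  have hk1 : k ≫ pullback.fst b ζ = f₁ ≫ a := sqG.lift_fst _ _ _
  have hk2 : k ≫ pullback.snd b ζ = f₂ := sqG.lift_snd _ _ _
  have top : IsPullback f₁ k a (pullback.fst b ζ) := by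
    refine IsPullback.of_bot ?_ hk1.symm sqG
    rw [hk2]
    exact sq
  exact isAlgSpaceP_of_isPullback top ha hG''

/-- the pullback of the diagonal along `(x, y)` is the equaliser of the two induced sections -/
theorem isPullback_sections_of_isPullback_diagonal {C : Type*} [Category C] [HasPullbacks C]
    {F G U E : C} (a : F ⟶ G) (ξ : U ⟶ pullback a a) {e₁ : E ⟶ F} {e₂ : E ⟶ U}
    (sq : IsPullback e₁ e₂ (pullback.diagonal a) ξ) {T : C} {t₁ : T ⟶ F} {t₂ : T ⟶ U}
    (sqT : IsPullback t₁ t₂ a (ξ ≫ pullback.fst a a ≫ a)) :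
    IsPullback e₂ e₂
      (sqT.lift (ξ ≫ pullback.fst a a) (𝟙 U) (by simp))
      (sqT.lift (ξ ≫ pullback.snd a a) (𝟙 U) (by simp [pullback.condition])) := by
  have h1 : e₁ = e₂ ≫ ξ ≫ pullback.fst a a := by
    have := congrArg (· ≫ pullback.fst a a) sq.w
    simpa using this
  have h2 : e₁ = e₂ ≫ ξ ≫ pullback.snd a a := by
    have := congrArg (· ≫ pullback.snd a a) sq.w
    simpa using this
  refine isPullback_of_exists_unique ?_ ?_ ?_
  · apply sqT.hom_ext
    · simp only [Category.assoc, IsPullback.lift_fst]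
      rw [← h1, ← h2]
    · simp only [Category.assoc, IsPullback.lift_snd]
  · intro A α β hαβ
    have e : α = β := by
      have := congrArg (· ≫ t₂) hαβ
      simpa using this
    subst e
    have hxy : α ≫ ξ ≫ pullback.fst a a = α ≫ ξ ≫ pullback.snd a a := by
      have := congrArg (· ≫ t₁) hαβ
      simpa using this
    refine ⟨sq.lift (α ≫ ξ ≫ pullback.fst a a) α ?_, sq.lift_snd _ _ _, sq.lift_snd _ _ _⟩
    apply pullback.hom_ext
    · simp
    · simp [hxy]
  · intro A δ δ' h _
    apply sq.hom_ext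
    · rw [h1, ← Category.assoc, h, Category.assoc]
    · exact h

/-- S10090: the relative diagonal of a map representable by algebraic spaces is representable by
algebraic spaces (indeed by schemes) -/
theorem repBySp_diagonal {F G : PSp S} (a : F ⟶ G) (ha : RepBySp a) :
    RepBySp (pullback.diagonal a) := by
  intro U ξ E e₁ e₂ sq
  let g : (pyon S).obj U ⟶ G := ξ ≫ pullback.fst a a ≫ a
  have sqT := IsPullback.of_hasPullback a g
  obtain ⟨hTs, hT⟩ := ha g _ _ sqT
  have key := isPullback_sections_of_isPullback_diagonal a ξ sq sqT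
  -- move to sheaves
  let T' : Sp S := ⟨pullback a g, hTs⟩
  let sx : (yon S).obj U ⟶ T' := ObjectProperty.homMk
    (sqT.lift (ξ ≫ pullback.fst a a) (𝟙 _) (by simp [g]))
  let sy : (yon S).obj U ⟶ T' := ObjectProperty.homMk
    (sqT.lift (ξ ≫ pullback.snd a a) (𝟙 _) (by simp [g, pullback.condition]))
  have hsx : Representable sx := repDiag_of_isAlgSpace hT sx
  have sqZ := (hsx.isPullback sy).map (sheafToPresheaf (J S) (Type (u + 1)))
  have e : E ≅ ((yon S).obj (hsx.pullback sy)).obj := key.isoIsPullback _ _ sqZ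
  exact ((isAlgSpaceP_obj_iff _).2 (IsAlgSpace.yon_obj _)).of_iso e.symm

end Groth.Agent.Lib.Helper24.RepBySp
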