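import Mathlib
import Groth.Agent.Lib.Helper24.Boot7
import Groth.Agent.Lib.Helper24.RepBySpBoot
import Groth.Agent.Lib.Helper24.QuotFlat
import Groth.Agent.Lib.Helper14.SheafQuot
import Groth.Agent.Lib.Helper14.FppfLocalInst
import Groth.Agent.S10096
set_option autoImplicit false
set_option linter.unusedSectionVars false
set_option backward.isDefEq.respectTransparency false
set_option backward.isDefEq.respectTransparency.types false
universe u
open CategoryTheory CategoryTheory.Limits AlgebraicGeometry Opposite

/-! A sheaf receiving a flat, surjective, locally finitely presented map, representable by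
algebraic spaces, from an algebraic space is an algebraic space. -/

namespace Groth.Agent.Lib.Helper24.Boot8
open AlgSp Groth.Agent.Lib.Helper14.AS Groth.Agent.Lib.Helper24.Boot6
open Groth.Agent.Lib.Helper24.QuotFlat Groth.Agent.Lib.Helper24.RepBySp

variable {S : Scheme.{u}}

/-- the kernel pair of a morphism of sheaves is an equivalence relation -/
theorem isEqvRelSp_kernelPair {X F : Sp S} (p : X ⟶ F) :
    IsEqvRelSp (pullback.snd p p) (pullback.fst p p) := by
  have key : ∀ (T : Over S) (a b : (yon S).obj T ⟶ X),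
      (∃ r : (yon S).obj T ⟶ pullback p p, r ≫ pullback.fst p p = a ∧ r ≫ pullback.snd p p = b) ↔
      a ≫ p = b ≫ p := by
    intro T a b
    constructor
    · rintro ⟨r, rfl, rfl⟩
      rw [Category.assoc, Category.assoc, pullback.condition]
    · intro h
      exact ⟨pullback.lift a b h, pullback.lift_fst _ _ _, pullback.lift_snd _ _ _⟩
  refine ⟨fun T x y ht hs => pullback.hom_ext ht hs, fun T => ⟨fun a => (key T a a).2 rfl,
    fun {a b} hab => (key T b a).2 ((key T a b).1 hab).symm,
    fun {a b c} hab hbc => (key T a c).2 (((key T a b).1 hab).trans ((key T b c).1 hbc))⟩⟩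

variable {F X : Sp S} (p : X ⟶ F)
  (hp : ∀ ⦃U : Over S⦄ (ξ : (yon S).obj U ⟶ F) ⦃F' : Sp S⦄ (fst : F' ⟶ X)
      (snd : F' ⟶ (yon S).obj U), IsPullback fst snd p ξ →
      IsAlgSpace F' ∧ (IsSurjectiveMor ⊓ LocP @Flat ⊓ LocP @LocallyOfFinitePresentation) snd)

include hp in
theorem locP_kernelPair (hX : IsAlgSpace X) {P : MorphismProperty Scheme.{u}} (hP : EtLocal P)
    [P.IsStableUnderBaseChange] [P.IsLocalAtTarget Scheme.fppfPrecoverage]
    (hQ : ∀ ⦃U : Over S⦄ (ξ : (yon S).obj U ⟶ F), LocP P (pullback.snd p ξ)) :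
    LocP P (pullback.snd p p) ∧ LocP P (pullback.fst p p) := by
  obtain ⟨X₀, a, hae, has⟩ := hX.atlas
  have hls : Sheaf.IsLocallySurjective a := isLocallySurjective_of_etale_surjective a hae has
  have hX' : IsAlgSpace (pullback p (a ≫ p)) :=
    (hp (a ≫ p) _ _ (IsPullback.of_hasPullback p (a ≫ p))).1
  have hY' := IsAlgSpace.yon_obj X₀
  constructor
  · let g' : pullback p (a ≫ p) ⟶ pullback p p :=
      pullback.lift (pullback.fst p (a ≫ p)) (pullback.snd p (a ≫ p) ≫ a)
        (by rw [pullback.condition, Category.assoc])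
    have h1 : g' ≫ pullback.fst p p = pullback.fst p (a ≫ p) := pullback.lift_fst _ _ _
    have h2 : g' ≫ pullback.snd p p = pullback.snd p (a ≫ p) ≫ a := pullback.lift_snd _ _ _
    have sq : IsPullback g' (pullback.snd p (a ≫ p)) (pullback.snd p p) a := by
      refine IsPullback.of_right ?_ h2 (IsPullback.of_hasPullback p p)
      rw [h1]
      exact IsPullback.of_hasPullback p (a ≫ p)
    exact locP_of_isLocallySurjective_base hP hX' hY' _ a g' _ sq (hQ (a ≫ p))
  · let g' : pullback p (a ≫ p) ⟶ pullback p p :=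
      pullback.lift (pullback.snd p (a ≫ p) ≫ a) (pullback.fst p (a ≫ p))
        (by rw [pullback.condition, Category.assoc])
    have h1 : g' ≫ pullback.snd p p = pullback.fst p (a ≫ p) := pullback.lift_snd _ _ _
    have h2 : g' ≫ pullback.fst p p = pullback.snd p (a ≫ p) ≫ a := pullback.lift_fst _ _ _
    have sq : IsPullback g' (pullback.snd p (a ≫ p)) (pullback.fst p p) a := by
      refine IsPullback.of_right ?_ h2 (IsPullback.of_hasPullback p p).flip
      rw [h1]
      exact IsPullback.of_hasPullback p (a ≫ p)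
    exact locP_of_isLocallySurjective_base hP hX' hY' _ a g' _ sq (hQ (a ≫ p))

include hp in
theorem isAlgSpace_of_fppf_cover (hX : IsAlgSpace X) : IsAlgSpace F := by
  have hp' : RepBySpWith
      (IsSurjectiveMor ⊓ LocP @Flat ⊓ LocP @LocallyOfFinitePresentation) p.hom :=
    (repBySpWith_hom_iff _ p).2 hp
  have hepi : Epi p := Groth.Agent.S10096.result S X F p hp'
  have hrep : RepBySp p.hom := hp'.repBySp
  have hsnd : RepBySp (pullback.snd p p).hom :=
    repBySp_of_isPullback ((IsPullback.of_hasPullback p p).map (sheafToPresheaf _ _)) hrep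
  have hR : IsAlgSpace (pullback p p) := isAlgSpace_of_repBySp (pullback.snd p p) hsnd hX
  have hflat : MorphismProperty.IsLocalAtTarget (@Flat.{u}) Scheme.fppfPrecoverage :=
    Groth.Agent.Lib.Helper14.FL.isLocalAtTarget_fppf @Flat
  have hF := locP_kernelPair p hp hX etLocal_flat
    (fun U ξ => (hp ξ _ _ (IsPullback.of_hasPullback p ξ)).2.1.2)
  have hL := locP_kernelPair p hp hX etLocal_lfp
    (fun U ξ => (hp ξ _ _ (IsPullback.of_hasPullback p ξ)).2.2)
  have halg := Groth.Agent.Lib.Helper24.Boot7.isAlgSpace_quotSp (pullback p p) X hR hX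
    (pullback.snd p p) (pullback.fst p p) (isEqvRelSp_kernelPair p) ⟨hF.1, hL.1⟩ ⟨hF.2, hL.2⟩
  have w : pullback.snd p p ≫ p = pullback.fst p p ≫ p := pullback.condition.symm
  have hl : pullback.lift (pullback.fst p p) (pullback.snd p p) w.symm = 𝟙 (pullback p p) := by
    apply pullback.hom_ext <;> simp
  have : Epi (pullback.lift (pullback.fst p p) (pullback.snd p p) w.symm) := by
    rw [hl]; infer_instance
  have := isIso_quotSpDesc (pullback.snd p p) (pullback.fst p p) p w
  exact halg.of_iso (asIso (quotSpDesc p w))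

end Groth.Agent.Lib.Helper24.Boot8
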