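import Groth.Agent.Lib.Helper24.DescSL
import Groth.Agent.Lib.Helper24.AtlasDiag
import Groth.Agent.Lib.Helper14.SheafQuot2
import Groth.Agent.Lib.Helper14.GActionPts
import Groth.Agent.Lib.Helper24.FppfLocal
set_option autoImplicit false
set_option linter.unusedSectionVars false
universe u
open CategoryTheory CategoryTheory.Limits AlgebraicGeometry Opposite

/-! The quotient sheaf of a scheme by an étale equivalence relation: the quotient map is
representable, étale and surjective, and the relation is its kernel pair. -/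

namespace Groth.Agent.Lib.Helper24.QuotAtlas
open AlgSp Groth.Agent.Lib.Helper14.AS Groth.Agent.Lib.Helper24.ZarGlue
open Groth.Agent.Lib.Helper24.ZarGlueRep Groth.Agent.Lib.Helper24.DescSL

variable {S : Scheme.{u}} {R U : Over S} (s t : R ⟶ U)

/-- the quotient sheaf -/
noncomputable abbrev Qs : Sp S := quotSp ((yon S).map s) ((yon S).map t)

/-- the quotient map -/
noncomputable abbrev ps : (yon S).obj U ⟶ Qs s t := quotSpπ ((yon S).map s) ((yon S).map t)

variable {s t}

lemma isPreEqvRelSp (h : IsEqvRel s t) : IsPreEqvRelSp ((yon S).map s) ((yon S).map t) := by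
  intro T
  have key : ∀ a b : (yon S).obj T ⟶ (yon S).obj U,
      (∃ r : (yon S).obj T ⟶ (yon S).obj R, r ≫ (yon S).map t = a ∧ r ≫ (yon S).map s = b) ↔
        ∃ r₀ : T ⟶ R, r₀ ≫ t = (yon S).preimage a ∧ r₀ ≫ s = (yon S).preimage b := by
    intro a b
    constructor
    · rintro ⟨r, rfl, rfl⟩
      refine ⟨(yon S).preimage r, (yon S).map_injective ?_, (yon S).map_injective ?_⟩ <;> simp
    · rintro ⟨r₀, h1, h2⟩
      refine ⟨(yon S).map r₀, ?_, ?_⟩
      · rw [← Functor.map_comp, h1, Functor.map_preimage]
      · rw [← Functor.map_comp, h2, Functor.map_preimage]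
  have he := h.equivalence T
  refine ⟨fun a => (key a a).2 (he.refl _), fun {a b} hab => (key b a).2 (he.symm ((key a b).1 hab)),
    fun {a b c} hab hbc => (key a c).2 (he.trans ((key a b).1 hab) ((key b c).1 hbc))⟩

lemma isRelSp (h : IsEqvRel s t) : IsRelSp ((yon S).map s) ((yon S).map t) := by
  intro T r r' h1 h2
  obtain ⟨r₀, rfl⟩ := (yon S).map_surjective r
  obtain ⟨r₀', rfl⟩ := (yon S).map_surjective r'
  rw [← Functor.map_comp, ← Functor.map_comp] at h1 h2
  rw [h.injective T r₀ r₀' ((yon S).map_injective h1) ((yon S).map_injective h2)]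

/-- the relation is the kernel pair of the quotient map -/
theorem isPullback_ps (h : IsEqvRel s t) :
    IsPullback ((yon S).map t) ((yon S).map s) (ps s t) (ps s t) := by
  let l : (yon S).obj R ⟶ pullback (ps s t) (ps s t) :=
    pullback.lift ((yon S).map t) ((yon S).map s) (quotSp_condition _ _).symm
  have hm : Mono l := by
    refine mono_of_yon_injective l fun T r r' hrr' => isRelSp h T r r' ?_ ?_
    · have := congrArg (· ≫ pullback.fst _ _) hrr'
      simpa only [Category.assoc, l, pullback.lift_fst] using this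
    · have := congrArg (· ≫ pullback.snd _ _) hrr'
      simpa only [Category.assoc, l, pullback.lift_snd] using this
  have hls : Sheaf.IsLocallySurjective l := isLocallySurjective_lift_of_preEqv _ _ (isPreEqvRelSp h)
  have he : Epi l := (Sheaf.isLocallySurjective_iff_epi _).1 hls
  have hi : IsIso l := isIso_of_mono_of_epi l
  exact IsPullback.of_iso_pullback ⟨(quotSp_condition _ _).symm⟩ (asIso l)
    (pullback.lift_fst _ _ _) (pullback.lift_snd _ _ _)


theorem prop_of_mem_KS {T : Over S} (Rv : Presieve T) (hR : Rv ∈ KS S T) {W : Over S} (w : W ⟶ T)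
    (hw : Rv w) : Flat w.left ∧ LocallyOfFinitePresentation w.left := by
  rw [Precoverage.mem_comap_iff] at hR
  have := hR.2 (Presieve.map.of (F := Over.forget S) hw)
  exact this

section Open
variable (O : U.left.Opens)

/-- the part of the relation with target in the open `O` -/
lemma isPullback_RO (h : IsEqvRel s t) :
    IsPullback ((yon S).map (resMap t O)) ((yon S).map (resOpenι R (t.left ⁻¹ᵁ O) ≫ s))
      ((yon S).map (resOpenι U O) ≫ ps s t) (ps s t) := by
  rw [Functor.map_comp]
  exact ((isPullback_resMap t O).flip.map (yon S)).paste_vert (isPullback_ps h)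

lemma isSeparated_sO (h : IsEqvRel s t) (hO : IsAffineOpen O) :
    IsSeparated (resOpenι R (t.left ⁻¹ᵁ O) ≫ s).left := by
  have : IsAffine (resOpen U O).left := hO
  let RO : Over S := resOpen R (t.left ⁻¹ᵁ O)
  let sO : RO ⟶ U := resOpenι R (t.left ⁻¹ᵁ O) ≫ s
  let tO : RO ⟶ resOpen U O := resMap t O
  let j : RO.left ⟶ pullback (resOpen U O).hom U.hom :=
    pullback.lift tO.left sO.left (by rw [Over.w, Over.w])
  have hj : sO.left = j ≫ pullback.snd _ _ := (pullback.lift_snd _ _ _).symm
  have hm : Mono j := by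
    constructor
    intro W a b hab
    have h1 : a ≫ tO.left = b ≫ tO.left := by
      have := congrArg (· ≫ pullback.fst _ _) hab
      simpa only [Category.assoc, j, pullback.lift_fst] using this
    have h2 : a ≫ sO.left = b ≫ sO.left := by
      have := congrArg (· ≫ pullback.snd _ _) hab
      simpa only [Category.assoc, j, pullback.lift_snd] using this
    let T : Over S := Over.mk (a ≫ RO.hom)
    have hb : b ≫ RO.hom = a ≫ RO.hom := by
      rw [← Over.w sO, ← Category.assoc, ← h2, Category.assoc]
    let r : T ⟶ R := Over.homMk (a ≫ (resOpenι R (t.left ⁻¹ᵁ O)).left) (by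
      change (a ≫ (resOpenι R (t.left ⁻¹ᵁ O)).left) ≫ R.hom = a ≫ RO.hom
      rw [Category.assoc, Over.w])
    let r' : T ⟶ R := Over.homMk (b ≫ (resOpenι R (t.left ⁻¹ᵁ O)).left) (by
      change (b ≫ (resOpenι R (t.left ⁻¹ᵁ O)).left) ≫ R.hom = a ≫ RO.hom
      rw [Category.assoc, Over.w, hb])
    have e1 : r ≫ t = r' ≫ t := by
      ext1
      change (a ≫ (resOpenι R (t.left ⁻¹ᵁ O)).left) ≫ t.left =
        (b ≫ (resOpenι R (t.left ⁻¹ᵁ O)).left) ≫ t.left
      have hc : (resOpenι R (t.left ⁻¹ᵁ O)).left ≫ t.left = tO.left ≫ (resOpenι U O).left := by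
        have := congrArg (fun f => f.left) (resMap_comp t O)
        exact this.symm
      rw [Category.assoc, Category.assoc, hc, ← Category.assoc, ← Category.assoc, h1]
    have e2 : r ≫ s = r' ≫ s := by
      ext1
      change (a ≫ (resOpenι R (t.left ⁻¹ᵁ O)).left) ≫ s.left =
        (b ≫ (resOpenι R (t.left ⁻¹ᵁ O)).left) ≫ s.left
      rw [Category.assoc, Category.assoc]
      exact h2
    have e3 := congrArg (fun f => f.left) (h.injective T r r' e1 e2)
    have e4 : a ≫ (t.left ⁻¹ᵁ O).ι = b ≫ (t.left ⁻¹ᵁ O).ι := e3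
    exact (cancel_mono _).1 e4
  have hs : IsSeparated (pullback.snd (resOpen U O).hom U.hom) := inferInstance
  change IsSeparated sO.left
  rw [hj]
  infer_instance

end Open


lemma locallyQuasiFinite_of_etale {X Y : Scheme.{u}} (f : X ⟶ Y) [Etale f] :
    LocallyQuasiFinite f := by
  rw [HasRingHomProperty.iff_appLE (P := @LocallyQuasiFinite)]
  intro U V e
  have h := HasRingHomProperty.appLE (P := @Etale) f ‹_› U V e
  algebraize [(f.appLE U.1 V.1 e).hom]
  rw [RingHom.QuasiFinite]
  have : Algebra.Etale Γ(Y, U.1) Γ(X, V.1) := h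
  infer_instance

set_option backward.isDefEq.respectTransparency.types false in
/-- the part of the base change of the quotient map lying over an affine open of `U` is
representable -/
theorem exists_rep_EO (h : IsEqvRel s t) [Etale s.left] (O : U.left.Opens) (hO : IsAffineOpen O)
    {T : Over S} (g : (yon S).obj T ⟶ Qs s t) :
    ∃ (X : Over S) (ρ : X ⟶ T)
      (e : (yon S).obj X ≅ pullback ((yon S).map (resOpenι U O) ≫ ps s t) g),
      e.hom ≫ pullback.snd _ _ = (yon S).map ρ := by
  have hp : Epi (ps s t) := epi_quotSpπ _ _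
  have hls : Sheaf.IsLocallySurjective (ps s t) := (Sheaf.isLocallySurjective_iff_epi _).2 hp
  refine exists_rep_of_chart (pullback.snd _ g) fun x => ?_
  obtain ⟨Rv, hRv, hl⟩ := exists_cover_lift (ps s t) g
  obtain ⟨W, w, hw, hxw⟩ := DescSubsheaf.exists_mem_range_of_mem_KS Rv hRv x
  obtain ⟨hwF, hwL⟩ := prop_of_mem_KS Rv hRv w hw
  obtain ⟨l, hl'⟩ := hl w hw
  obtain ⟨u, rfl⟩ := (yon S).map_surjective l
  let sO : resOpen R (t.left ⁻¹ᵁ O) ⟶ U := resOpenι R (t.left ⁻¹ᵁ O) ≫ s
  let V' : Over S := pullback u sO
  let r : V' ⟶ W := pullback.fst u sO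
  let b : V' ⟶ resOpen R (t.left ⁻¹ᵁ O) := pullback.snd u sO
  have sqV : IsPullback ((yon S).map b) ((yon S).map r) ((yon S).map sO) ((yon S).map u) :=
    ((IsPullback.of_hasPullback u sO).flip).map (yon S)
  have sqW := sqV.paste_horiz (isPullback_RO O h)
  rw [hl'] at sqW
  have sq₀ := isPullback_lift_of_isPullback ((yon S).map (resOpenι U O) ≫ ps s t) g w r _ sqW
  have hsep := isSeparated_sO O h hO
  have sqL : IsPullback b.left r.left sO.left u.left :=
    ((IsPullback.of_hasPullback u sO).flip).map (Over.forget S)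
  have h1 : IsSeparated r.left := MorphismProperty.of_isPullback sqL hsep
  have hsOe : Etale sO.left := by
    change Etale ((t.left ⁻¹ᵁ O).ι ≫ s.left)
    infer_instance
  have h2 : Etale r.left := MorphismProperty.of_isPullback sqL hsOe
  have h3 : LocallyQuasiFinite r.left := locallyQuasiFinite_of_etale _
  exact ⟨W, V', w, r, _, sq₀, hwF, hwL, hxw, h1, h3, inferInstance⟩


set_option backward.isDefEq.respectTransparency.types false in
/-- **The quotient map of an étale equivalence relation is representable.** -/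
theorem representable_ps (h : IsEqvRel s t) [Etale s.left] : Representable (ps s t) := by
  intro T g
  choose X ρ e he using fun O : U.left.affineOpens => exists_rep_EO h O.1 O.2 g
  let fO : ∀ O : U.left.affineOpens,
      pullback ((yon S).map (resOpenι U O.1) ≫ ps s t) g ⟶ pullback (ps s t) g := fun O =>
    pullback.lift (pullback.fst _ _ ≫ (yon S).map (resOpenι U O.1)) (pullback.snd _ _)
      (by rw [Category.assoc, pullback.condition])
  have sqO : ∀ O : U.left.affineOpens, IsPullback (pullback.fst _ _) (fO O)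
      ((yon S).map (resOpenι U O.1)) (pullback.fst (ps s t) g) := by
    intro O
    refine (IsPullback.of_right ?_ (pullback.lift_fst _ _ _)
      (IsPullback.of_hasPullback (ps s t) g).flip).flip
    rw [pullback.lift_snd]
    exact (IsPullback.of_hasPullback _ g).flip
  have hfO : ∀ O : U.left.affineOpens, RepWith @IsOpenImmersion ((e O).hom ≫ fO O) := by
    intro O
    refine (MorphismProperty.cancel_left_of_respectsIso (RepWith @IsOpenImmersion) _ _).2 ?_
    exact MorphismProperty.of_isPullback (P := RepWith @IsOpenImmersion) (sqO O)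
      ((repWith_yon_map_iff @IsOpenImmersion (resOpenι U O.1)).2
        (inferInstanceAs (IsOpenImmersion O.1.ι)))
  obtain ⟨Ux, e', -, -, -, -⟩ := exists_iso_yon_of_open_cover hfO (by
    intro W z x
    obtain ⟨v₀, hv₀⟩ := (yon S).map_surjective (z ≫ pullback.fst (ps s t) g)
    obtain ⟨O, hO, hxO, -⟩ :=
      exists_isAffineOpen_mem_and_subset (x := v₀.left x) (U := ⊤) trivial
    let N : W.left.Opens := v₀.left ⁻¹ᵁ O
    let l' : (yon S).obj (resOpen W N) ⟶ pullback ((yon S).map (resOpenι U O) ≫ ps s t) g :=
      pullback.lift ((yon S).map (resMap v₀ O)) ((yon S).map (resOpenι W N) ≫ z ≫ pullback.snd _ _)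
        (by
          rw [← Category.assoc, ← Functor.map_comp, resMap_comp, Functor.map_comp, hv₀]
          simp only [Category.assoc, pullback.condition]
          rfl)
    refine ⟨⟨O, hO⟩, N, hxO, (yon S).preimage (l' ≫ (e ⟨O, hO⟩).inv), ?_⟩
    rw [Functor.map_preimage, Category.assoc, Iso.inv_hom_id_assoc]
    apply pullback.hom_ext
    · rw [Category.assoc, pullback.lift_fst, ← Category.assoc, pullback.lift_fst,
        ← Functor.map_comp, resMap_comp, Functor.map_comp, hv₀]
      rfl
    · rw [Category.assoc, pullback.lift_snd, pullback.lift_snd, Category.assoc])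
  exact ⟨Ux, (yon S).preimage (e'.hom ≫ pullback.snd _ _), e'.hom ≫ pullback.fst _ _,
    isPullback_of_iso_pullback (ps s t) g _ e' ((yon S).map_preimage _).symm⟩

set_option backward.isDefEq.respectTransparency.types false in
/-- properties of `s` which are fppf local on the target pass to the quotient map -/
theorem prop_ps (P : MorphismProperty Scheme.{u}) [IsZariskiLocalAtTarget P]
    [P.IsStableUnderBaseChange]
    [P.DescendsAlong (@Surjective ⊓ @Flat ⊓ @LocallyOfFinitePresentation)] (h : IsEqvRel s t)
    (hP : P s.left) {T X : Over S} (g : (yon S).obj T ⟶ Qs s t) (fst : (yon S).obj X ⟶ (yon S).obj U)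
    (ρ : X ⟶ T) (sq : IsPullback fst ((yon S).map ρ) (ps s t) g) : P ρ.left := by
  have hp : Epi (ps s t) := epi_quotSpπ _ _
  have hls : Sheaf.IsLocallySurjective (ps s t) := (Sheaf.isLocallySurjective_iff_epi _).2 hp
  refine FppfLocal.of_fppf_local P ρ.left fun x => ?_
  obtain ⟨Rv, hRv, hl⟩ := exists_cover_lift (ps s t) g
  obtain ⟨W, w, hw, hxw⟩ := DescSubsheaf.exists_mem_range_of_mem_KS Rv hRv x
  obtain ⟨hwF, hwL⟩ := prop_of_mem_KS Rv hRv w hw
  obtain ⟨l, hl'⟩ := hl w hw
  obtain ⟨u, rfl⟩ := (yon S).map_surjective l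
  -- the two pullbacks
  let XW : Over S := pullback ρ w
  have sq1 : IsPullback ((yon S).map (pullback.fst ρ w) ≫ fst) ((yon S).map (pullback.snd ρ w))
      (ps s t) ((yon S).map w ≫ g) :=
    ((IsPullback.of_hasPullback ρ w).map (yon S)).paste_horiz sq
  let V : Over S := pullback u s
  have sq2 : IsPullback ((yon S).map (pullback.snd u s) ≫ (yon S).map t)
      ((yon S).map (pullback.fst u s)) (ps s t) ((yon S).map u ≫ ps s t) :=
    ((IsPullback.of_hasPullback u s).flip.map (yon S)).paste_horiz (isPullback_ps h)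
  rw [hl'] at sq2
  let i : (yon S).obj XW ≅ (yon S).obj V := sq1.isoIsPullback _ _ sq2
  have hi : i.hom ≫ (yon S).map (pullback.fst u s) = (yon S).map (pullback.snd ρ w) :=
    sq1.isoIsPullback_hom_snd _ _ sq2
  let i₀ : XW ≅ V := (yon S).preimageIso i
  have hi₀ : i₀.hom ≫ pullback.fst u s = pullback.snd ρ w := by
    apply (yon S).map_injective
    rw [Functor.map_comp]
    exact (congrArg (· ≫ _) ((yon S).map_preimage i.hom)).trans hi
  have hVs : P (pullback.fst u s).left :=
    MorphismProperty.of_isPullback ((IsPullback.of_hasPullback u s).flip.map (Over.forget S)) hP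
  have hXW : P (pullback.snd ρ w).left := by
    rw [← hi₀]
    change P (i₀.hom.left ≫ (pullback.fst u s).left)
    have : IsIso i₀.hom.left := inferInstanceAs (IsIso ((Over.forget S).map i₀.hom))
    exact (MorphismProperty.cancel_left_of_respectsIso P _ _).2 hVs
  exact ⟨W.left, XW.left, w.left, (pullback.fst ρ w).left, (pullback.snd ρ w).left,
    (IsPullback.of_hasPullback ρ w).map (Over.forget S), hwF, hwL, hxw, hXW⟩


theorem repWith_ps (P : MorphismProperty Scheme.{u}) [IsZariskiLocalAtTarget P]
    [P.IsStableUnderBaseChange]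
    [P.DescendsAlong (@Surjective ⊓ @Flat ⊓ @LocallyOfFinitePresentation)] (h : IsEqvRel s t)
    [Etale s.left] (hP : P s.left) : RepWith P (ps s t) :=
  ⟨representable_ps h, fun _ _ g fst ρ sq => prop_ps P h hP g fst ρ sq⟩

lemma surjective_s (h : IsEqvRel s t) : Surjective s.left := by
  obtain ⟨r, -, h2⟩ := (h.equivalence U).refl (𝟙 U)
  refine ⟨fun x => ⟨r.left x, ?_⟩⟩
  have := congrArg (fun f => f.left) h2
  have h3 : r.left ≫ s.left = 𝟙 _ := this
  rw [← Scheme.Hom.comp_apply, h3]
  rfl

instance surjective_descendsAlong :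
    MorphismProperty.DescendsAlong (@Surjective : MorphismProperty Scheme.{u})
      (@Surjective ⊓ @Flat ⊓ @LocallyOfFinitePresentation) where
  of_isPullback {A X Y Z fst snd f g} h hf hfst := by
    have h1 : Surjective (fst ≫ f) := by
      have := hf.1.1
      have := hfst
      infer_instance
    rw [h.w] at h1
    exact Surjective.of_comp snd g

set_option backward.isDefEq.respectTransparency.types false in
/-- **The quotient of a scheme by an étale equivalence relation is an algebraic space**, with the
quotient map as an atlas. -/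
theorem isAlgSpace_quotSp (h : IsEtaleEqvRel s t) : IsAlgSpace (Qs s t) := by
  have := h.etale_left
  exact AtlasDiag.isAlgSpace_of_atlas (ps s t) (repWith_ps @Etale h.toIsEqvRel h.etale_left)
    (repWith_ps @Surjective h.toIsEqvRel (surjective_s h.toIsEqvRel))

set_option backward.isDefEq.respectTransparency.types false in
theorem isPresentation_ps (h : IsEtaleEqvRel s t) : IsPresentation s t (ps s t) := by
  have := h.etale_left
  exact ⟨h, repWith_ps @Etale h.toIsEqvRel h.etale_left,
    repWith_ps @Surjective h.toIsEqvRel (surjective_s h.toIsEqvRel), isPullback_ps h.toIsEqvRel⟩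

end Groth.Agent.Lib.Helper24.QuotAtlas
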