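import Groth.Agent.Lib.Helper24.RepLocal
import Groth.Agent.Lib.Helper24.DescSubsheaf
import Groth.Agent.Lib.Helper24.QuotAtlas
import Groth.Agent.Lib.Helper14.AlgSpYonSigma
set_option autoImplicit false
set_option linter.unusedSectionVars false
universe w u
open CategoryTheory CategoryTheory.Limits AlgebraicGeometry Opposite

/-! Coproducts of fppf sheaves over `S`: injections are monomorphisms, distinct injections are
disjoint, and every point of the coproduct lifts fppf-locally to a summand.  Consequently the
injections are representable by open and closed immersions. -/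

namespace Groth.Agent.Lib.Helper24.CoprodSp
open AlgSp Groth.Agent.Lib.Helper14.AS Groth.Agent.Lib.Helper24.ZarGlue
open Groth.Agent.Lib.Helper24.ZarGlueRep Groth.Agent.Lib.Helper24.DescSubsheaf

variable {S : Scheme.{u}}

/-- the empty scheme over `S` -/
noncomputable def emptyOver (S : Scheme.{u}) : Over S := Over.mk (initial.to S)

instance : IsEmpty (emptyOver S).left := inferInstanceAs (IsEmpty (⊥_ Scheme.{u}))

/-- a scheme over `S` with a point in the initial sheaf is empty -/
theorem isEmpty_of_hom_initial {W : Over S} (l : (yon S).obj W ⟶ ⊥_ (Sp S)) : IsEmpty W.left := by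
  let m : (yon S).obj W ⟶ (yon S).obj (emptyOver S) := l ≫ initial.to _
  exact Function.isEmpty ((yon S).preimage m).left

/-- sections of a sheaf over an empty scheme exist -/
theorem nonempty_sections_of_isEmpty (G : Sp S) (W : Over S) [IsEmpty W.left] :
    Nonempty (G.obj.obj (op W)) := by
  have hR : Presieve.ofArrows (fun i : PEmpty.{u + 1} => (PEmpty.elim i : Over S))
      (fun i => PEmpty.elim i) ∈ KS S W :=
    ofArrows_mem_KS _ _ (fun i => PEmpty.elim i) (fun x => (IsEmpty.false x).elim)
  have hsh := isSheafFor_of_mem_KS G _ hR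
  rw [Presieve.isSheafFor_arrows_iff] at hsh
  obtain ⟨t, -, -⟩ := hsh (fun i => PEmpty.elim i) (fun i => PEmpty.elim i)
  exact ⟨t⟩

instance subsingleton_hom_of_isEmpty (G : Sp S) (W : Over S) [IsEmpty W.left] :
    Subsingleton ((yon S).obj W ⟶ G) := by
  have := subsingleton_sections_of_isEmpty G W
  exact yEquiv.injective.subsingleton

instance nonempty_hom_of_isEmpty (G : Sp S) (W : Over S) [IsEmpty W.left] :
    Nonempty ((yon S).obj W ⟶ G) := by
  obtain ⟨t⟩ := nonempty_sections_of_isEmpty G W
  exact ⟨yEquiv.symm t⟩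

/-- the map from the empty scheme over `S` -/
noncomputable def emptyTo (W : Over S) : emptyOver S ⟶ W :=
  Over.homMk (initial.to W.left) (initial.hom_ext _ _)

instance (W : Over S) : IsOpenImmersion (emptyTo W).left :=
  inferInstanceAs (IsOpenImmersion (initial.to W.left))

section Cofan
variable {ι : Type w} {F : ι → Sp S} {c : Cofan F} (hc : IsColimit c)

/-- auxiliary map collapsing the other summands -/
noncomputable def collapse [DecidableEq ι] (i : ι) : c.pt ⟶ F i ⨿ c.pt :=
  Cofan.IsColimit.desc hc (fun j =>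
    if h : j = i then eqToHom (by rw [h]) ≫ coprod.inl else c.inj j ≫ coprod.inr)

lemma inj_collapse_self [DecidableEq ι] (i : ι) : c.inj i ≫ collapse hc i = coprod.inl := by
  rw [collapse, Cofan.IsColimit.fac]
  simp

lemma inj_collapse_of_ne [DecidableEq ι] {i j : ι} (h : j ≠ i) :
    c.inj j ≫ collapse hc i = c.inj j ≫ coprod.inr := by
  rw [collapse, Cofan.IsColimit.fac]
  simp [h]

include hc in
/-- coproduct injections of sheaves are monomorphisms -/
theorem mono_inj (i : ι) : Mono (c.inj i) := by
  classical
  constructor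
  intro Z x x' h
  have : x ≫ (coprod.inl : F i ⟶ F i ⨿ c.pt) = x' ≫ coprod.inl := by
    rw [← inj_collapse_self hc i, ← Category.assoc, h, Category.assoc]
  exact (cancel_mono _).1 this

include hc in
/-- distinct coproduct injections of sheaves are disjoint -/
theorem isEmpty_of_inj_eq {i j : ι} (hij : i ≠ j) {W : Over S} (a : (yon S).obj W ⟶ F i)
    (b : (yon S).obj W ⟶ F j) (h : a ≫ c.inj i = b ≫ c.inj j) : IsEmpty W.left := by
  classical
  have h1 : a ≫ (coprod.inl : F i ⟶ F i ⨿ c.pt) = (b ≫ c.inj j) ≫ coprod.inr := by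
    rw [← inj_collapse_self hc i, ← Category.assoc, h, Category.assoc,
      inj_collapse_of_ne hc (Ne.symm hij), Category.assoc]
  have sq := FinitaryExtensive.isPullback_initial_to_binaryCofan
    (coprodIsCoprod (F i) c.pt)
  exact isEmpty_of_hom_initial (sq.lift a (b ≫ c.inj j) h1)

/-- the sieve of maps to `T` along which `g` factors through some summand -/
def facSieve (c : Cofan F) {T : Over S} (g : (yon S).obj T ⟶ c.pt) : Sieve T where
  arrows W w := ∃ (i : ι) (a : (yon S).obj W ⟶ F i), a ≫ c.inj i = (yon S).map w ≫ g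
  downward_closed := by
    rintro W W' w ⟨i, a, ha⟩ v
    exact ⟨i, (yon S).map v ≫ a, by rw [Category.assoc, ha, Functor.map_comp, Category.assoc]⟩

lemma facSieve_pullback (c : Cofan F) {T T' : Over S} (t : T' ⟶ T) (g : (yon S).obj T ⟶ c.pt) :
    facSieve c ((yon S).map t ≫ g) = (facSieve c g).pullback t := by
  ext W w
  constructor
  · rintro ⟨i, a, ha⟩
    exact ⟨i, a, by rw [ha, Functor.map_comp, Category.assoc]⟩
  · rintro ⟨i, a, ha⟩
    exact ⟨i, a, by rw [ha, Functor.map_comp, Category.assoc]⟩

/-- the predicate "factors fppf locally through a summand" -/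
def locFac (c : Cofan F) : SubPred c.pt where
  P T g := facSieve c g ∈ AlgSp.J S T
  comp T T' t g hg := by
    rw [facSieve_pullback]
    exact (AlgSp.J S).pullback_stable t hg
  loc T g R hR h := by
    have hR' : Sieve.generate R ∈ AlgSp.J S T := (mem_J_iff _).2 ⟨R, hR, Sieve.le_generate R⟩
    refine (AlgSp.J S).transitive hR' _ ?_
    rintro W f ⟨W', u, w, hw, rfl⟩
    rw [Sieve.pullback_comp]
    apply (AlgSp.J S).pullback_stable
    rw [← facSieve_pullback]
    exact h w hw

include hc in
/-- every point of a coproduct of sheaves factors fppf locally through a summand -/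
theorem facSieve_mem {T : Over S} (g : (yon S).obj T ⟶ c.pt) : facSieve c g ∈ AlgSp.J S T := by
  have hfac : ∀ i, ∃ k : F i ⟶ (locFac c).sheaf, k ≫ (locFac c).ι = c.inj i := fun i => by
    rw [(locFac c).factors_iff]
    intro T x
    refine (AlgSp.J S).superset_covering ?_ ((AlgSp.J S).top_mem T)
    intro W w _
    exact ⟨i, (yon S).map w ≫ x, by rw [Category.assoc]⟩
  choose k hk using hfac
  have hid : Cofan.IsColimit.desc hc k ≫ (locFac c).ι = 𝟙 c.pt := by
    refine Cofan.IsColimit.hom_ext hc _ _ fun i => ?_
    rw [← Category.assoc, Cofan.IsColimit.fac, hk, Category.comp_id]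
  exact ((locFac c).P_iff g).2 ⟨g ≫ Cofan.IsColimit.desc hc k, by
    rw [Category.assoc, hid, Category.comp_id]⟩

include hc in
/-- every point of a coproduct of sheaves lifts to a summand on an fppf neighbourhood of any
point of the test scheme -/
theorem exists_lift_locally {T : Over S} (g : (yon S).obj T ⟶ c.pt) (x : T.left) :
    ∃ (W : Over S) (w : W ⟶ T) (i : ι) (a : (yon S).obj W ⟶ F i), Flat w.left ∧
      LocallyOfFinitePresentation w.left ∧ x ∈ Set.range w.left ∧
      a ≫ c.inj i = (yon S).map w ≫ g := by
  obtain ⟨R, hR, hle⟩ := (mem_J_iff _).1 (facSieve_mem hc g)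
  obtain ⟨W, w, hw, hx⟩ := exists_mem_range_of_mem_KS R hR x
  obtain ⟨hF, hL⟩ := Groth.Agent.Lib.Helper24.QuotAtlas.prop_of_mem_KS R hR w hw
  obtain ⟨i, a, ha⟩ := hle _ _ hw
  exact ⟨W, w, i, a, hF, hL, hx, ha⟩

include hc in
/-- the pullback of a summand along a point lifting to a different summand is empty -/
theorem isPullback_empty_of_ne {i k : ι} (hik : i ≠ k) {W : Over S} (a : (yon S).obj W ⟶ F k)
    (fstV : (yon S).obj (emptyOver S) ⟶ F i) :
    IsPullback fstV ((yon S).map (emptyTo W)) (c.inj i) (a ≫ c.inj k) := by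
  refine isPullback_iff_yon.2 ⟨Subsingleton.elim _ _, fun T' x y hxy => ?_⟩
  have hT' : IsEmpty T'.left := isEmpty_of_inj_eq hc hik x (y ≫ a) (by rw [hxy, Category.assoc])
  obtain ⟨z⟩ := nonempty_hom_of_isEmpty ((yon S).obj (emptyOver S)) T'
  exact ⟨z, ⟨Subsingleton.elim _ _, Subsingleton.elim _ _⟩, fun _ _ => Subsingleton.elim _ _⟩

include hc in
/-- the pullback of a summand along a point lifting to it is everything -/
theorem isPullback_self (i : ι) {W : Over S} (a : (yon S).obj W ⟶ F i) :
    IsPullback a ((yon S).map (𝟙 W)) (c.inj i) (a ≫ c.inj i) := by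
  have := mono_inj hc i
  rw [(yon S).map_id]
  exact IsPullback.of_vert_isIso_mono ⟨by rw [Category.id_comp]⟩

include hc in
set_option backward.isDefEq.respectTransparency.types false in
/-- **Coproduct injections of fppf sheaves are representable by open immersions.** -/
theorem repWith_isOpenImmersion_inj (i : ι) : RepWith @IsOpenImmersion (c.inj i) := by
  classical
  refine RepLocal.repWith_of_locally @IsOpenImmersion
    (fun X Y f hf => ⟨inferInstance, inferInstance, inferInstance⟩) (c.inj i) ?_
  intro T g₀ x
  obtain ⟨W, w, k, a, hF, hL, hx, ha⟩ := exists_lift_locally hc g₀ x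
  by_cases hk : i = k
  · subst hk
    refine ⟨W, W, w, 𝟙 W, a, ?_, hF, hL, hx, ?_⟩
    · rw [← ha]
      exact isPullback_self hc i a
    · exact inferInstanceAs (IsOpenImmersion (𝟙 W.left))
  · obtain ⟨fstV⟩ := nonempty_hom_of_isEmpty (F i) (emptyOver S)
    refine ⟨W, emptyOver S, w, emptyTo W, fstV, ?_, hF, hL, hx, inferInstance⟩
    rw [← ha]
    exact isPullback_empty_of_ne hc hk a fstV

section Decomp
variable {T : Over S} (g : (yon S).obj T ⟶ c.pt)

include hc in
/-- the pullbacks of the summands along a point cover the test scheme -/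
theorem exists_mem_range_snd {V : ι → Over S} (fst : ∀ i, (yon S).obj (V i) ⟶ F i)
    (snd : ∀ i, V i ⟶ T) (sq : ∀ i, IsPullback (fst i) ((yon S).map (snd i)) (c.inj i) g)
    (x : T.left) : ∃ i, x ∈ Set.range (snd i).left := by
  obtain ⟨W, w, k, a, -, -, ⟨y, rfl⟩, ha⟩ := exists_lift_locally hc g x
  refine ⟨k, ?_⟩
  let l : W ⟶ V k := (yon S).preimage ((sq k).lift a ((yon S).map w) ha)
  have hl : l ≫ snd k = w := by
    apply (yon S).map_injective
    rw [Functor.map_comp, Functor.map_preimage]
    exact (sq k).lift_snd _ _ _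
  exact ⟨l.left y, by rw [← hl]; rfl⟩

include hc in
/-- the pullbacks of distinct summands along a point are disjoint -/
theorem ne_of_snd {i j : ι} (hij : i ≠ j) {Vi Vj : Over S} {fi : (yon S).obj Vi ⟶ F i}
    {si : Vi ⟶ T} (sqi : IsPullback fi ((yon S).map si) (c.inj i) g)
    {fj : (yon S).obj Vj ⟶ F j} {sj : Vj ⟶ T}
    (sqj : IsPullback fj ((yon S).map sj) (c.inj j) g) (v : Vi.left) (v' : Vj.left) :
    si.left v ≠ sj.left v' := by
  intro h
  obtain ⟨z, -, -⟩ := Scheme.Pullback.exists_preimage_pullback (f := si.left) (g := sj.left) v v' h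
  let W : Over S := Over.mk (pullback.fst si.left sj.left ≫ Vi.hom)
  let p1 : W ⟶ Vi := Over.homMk (pullback.fst si.left sj.left) rfl
  let p2 : W ⟶ Vj := Over.homMk (pullback.snd si.left sj.left) (by
    change pullback.snd si.left sj.left ≫ Vj.hom = pullback.fst si.left sj.left ≫ Vi.hom
    rw [← Over.w sj, ← Over.w si, ← Category.assoc, ← Category.assoc, pullback.condition])
  have hp : p1 ≫ si = p2 ≫ sj := by
    ext1
    exact pullback.condition
  have : IsEmpty W.left := isEmpty_of_inj_eq hc hij ((yon S).map p1 ≫ fi) ((yon S).map p2 ≫ fj) (by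
    rw [Category.assoc, Category.assoc, sqi.w, sqj.w, ← Functor.map_comp_assoc,
      ← Functor.map_comp_assoc, hp])
  exact this.false z

include hc in
/-- the pullback of a summand along a point has closed image -/
theorem isClosed_range_snd (i : ι) {V : Over S} {fst : (yon S).obj V ⟶ F i} {snd : V ⟶ T}
    (sq : IsPullback fst ((yon S).map snd) (c.inj i) g) : IsClosed (Set.range snd.left) := by
  have hrep := fun j => repWith_isOpenImmersion_inj hc j
  have hcompl : (Set.range snd.left)ᶜ =
      ⋃ j : {j : ι // j ≠ i}, Set.range ((hrep j.1).rep.snd g).left := by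
    ext x
    simp only [Set.mem_compl_iff, Set.mem_iUnion]
    constructor
    · intro hx
      obtain ⟨W, w, k, a, -, -, ⟨y, rfl⟩, ha⟩ := exists_lift_locally hc g x
      have hki : k ≠ i := by
        rintro rfl
        apply hx
        let l : W ⟶ V := (yon S).preimage (sq.lift a ((yon S).map w) ha)
        have hl : l ≫ snd = w := by
          apply (yon S).map_injective
          rw [Functor.map_comp, Functor.map_preimage]
          exact sq.lift_snd _ _ _
        exact ⟨l.left y, by rw [← hl]; rfl⟩
      refine ⟨⟨k, hki⟩, ?_⟩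
      let l : W ⟶ (hrep k).rep.pullback g :=
        (yon S).preimage (((hrep k).rep.isPullback g).lift a ((yon S).map w) ha)
      have hl : l ≫ (hrep k).rep.snd g = w := by
        apply (yon S).map_injective
        rw [Functor.map_comp, Functor.map_preimage]
        exact ((hrep k).rep.isPullback g).lift_snd _ _ _
      exact ⟨l.left y, by rw [← hl]; rfl⟩
    · rintro ⟨⟨j, hj⟩, v', rfl⟩ ⟨v, hv⟩
      exact ne_of_snd hc g (Ne.symm hj) sq ((hrep j).rep.isPullback g) v v' hv
  rw [← isOpen_compl_iff, hcompl]
  refine isOpen_iUnion fun j => ?_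
  have : IsOpenImmersion ((hrep j.1).rep.snd g).left := (hrep j.1).property_snd g
  exact ((hrep j.1).rep.snd g).left.isOpenEmbedding.isOpen_range

end Decomp

include hc in
/-- **Coproduct injections of fppf sheaves are representable by open and closed immersions.** -/
theorem repWith_clopen_inj (i : ι) :
    RepWith (@IsOpenImmersion ⊓ @IsClosedImmersion) (c.inj i) := by
  have hrep := repWith_isOpenImmersion_inj hc i
  refine ⟨hrep.rep, fun {U V} g fst snd sq => ?_⟩
  have ho : IsOpenImmersion snd.left := hrep.property g fst snd sq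
  exact ⟨ho, IsClosedImmersion.of_isPreimmersion snd.left (isClosed_range_snd hc g i sq)⟩

end Cofan

end Groth.Agent.Lib.Helper24.CoprodSp
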