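import Mathlib
import Groth.Agent.Lib.Helper24.Boot8
import Groth.Agent.Lib.Helper24.CoprodSp
import Groth.Agent.Lib.Helper14.AlgSpPoints
set_option autoImplicit false
set_option linter.unusedSectionVars false
set_option backward.isDefEq.respectTransparency false
set_option backward.isDefEq.respectTransparency.types false
universe u
open CategoryTheory CategoryTheory.Limits AlgebraicGeometry Opposite

/-! Bootstrap for families: a sheaf covered by a jointly surjective family of flat, locally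
finitely presented maps, representable by algebraic spaces, from algebraic spaces is an algebraic
space. -/

namespace Groth.Agent.Lib.Helper24.Boot9
open AlgSp Groth.Agent.Lib.Helper14.AS Groth.Agent.Lib.Helper24.CoprodSp

variable {S : Scheme.{u}}

/-- a sheaf with an open cover by algebraic spaces is an algebraic space -/
theorem isAlgSpace_of_open_cover {P : Sp S} {ι : Type u} (Pi : ι → Sp S) (f : ∀ i, Pi i ⟶ P)
    (halg : ∀ i, IsAlgSpace (Pi i)) (hopen : ∀ i, RepWith @IsOpenImmersion (f i))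
    (hcov : ∀ ⦃T : Over S⦄ (y : (yon S).obj T ⟶ P), ∃ Sv ∈ J S T, ∀ ⦃W : Over S⦄ (w : W ⟶ T),
      Sv w → ∃ (i : ι) (x : (yon S).obj W ⟶ Pi i), x ≫ f i = (yon S).map w ≫ y) :
    IsAlgSpace P := by
  let c : Cofan Pi := Cofan.mk (∐ Pi) (Sigma.ι Pi)
  let hc : IsColimit c := coproductIsCoproduct Pi
  refine Groth.Agent.S9877.result S P Pi f halg hopen c hc ?_
    (Groth.Agent.S9881.result S Pi halg c hc)
  apply isLocallySurjective_of_cover_lifts
  intro T y
  obtain ⟨Sv, hSv, hl⟩ := hcov y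
  refine ⟨Sv, hSv, fun W w hw => ?_⟩
  obtain ⟨i, x, hx⟩ := hl w hw
  refine ⟨x ≫ c.inj i, ?_⟩
  have hfac : c.inj i ≫ Cofan.IsColimit.desc hc f = f i := Cofan.IsColimit.fac hc f i
  rw [Category.assoc, hfac, hx]

variable {F : Sp S} {ι : Type u} (X : ι → Sp S) (p : ∀ i, X i ⟶ F)
  (hX : ∀ i, IsAlgSpace (X i))
  (hp : ∀ (i : ι) ⦃U : Over S⦄ (ξ : (yon S).obj U ⟶ F) ⦃F' : Sp S⦄ (fst : F' ⟶ X i)
    (snd : F' ⟶ (yon S).obj U), IsPullback fst snd (p i) ξ →
    IsAlgSpace F' ∧ LocP @Flat snd ∧ LocP @LocallyOfFinitePresentation snd)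
  (hsurj : ∀ ⦃U : Over S⦄ (ξ : (yon S).obj U ⟶ F) (x : Points ((yon S).obj U)),
    ∃ i, x ∈ Set.range (Points.map (pullback.snd (p i) ξ)))

include hX hp hsurj in
set_option maxHeartbeats 1000000 in
theorem isAlgSpace_of_fppf_family : IsAlgSpace F := by
  let c : Cofan X := Cofan.mk (∐ X) (Sigma.ι X)
  let hc : IsColimit c := coproductIsCoproduct X
  have hcop : IsAlgSpace c.pt := Groth.Agent.S9881.result S X hX c hc
  let q : c.pt ⟶ F := Cofan.IsColimit.desc hc p
  have hfac : ∀ i, c.inj i ≫ q = p i := fun i => Cofan.IsColimit.fac hc p i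
  refine Groth.Agent.Lib.Helper24.Boot8.isAlgSpace_of_fppf_cover q ?_ hcop
  intro U ξ F' fst snd sq
  have hw : ∀ i, (pullback.fst (p i) ξ ≫ c.inj i) ≫ q = pullback.snd (p i) ξ ≫ ξ := fun i => by
    rw [Category.assoc, hfac, pullback.condition]
  let f : ∀ i, pullback (p i) ξ ⟶ F' := fun i =>
    sq.lift (pullback.fst (p i) ξ ≫ c.inj i) (pullback.snd (p i) ξ) (hw i)
  have hf1 : ∀ i, f i ≫ fst = pullback.fst (p i) ξ ≫ c.inj i := fun i => sq.lift_fst _ _ _
  have hf2 : ∀ i, f i ≫ snd = pullback.snd (p i) ξ := fun i => sq.lift_snd _ _ _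
  have halg : ∀ i, IsAlgSpace (pullback (p i) ξ) := fun i =>
    (hp i ξ _ _ (IsPullback.of_hasPullback (p i) ξ)).1
  have sqi : ∀ i, IsPullback (f i) (pullback.fst (p i) ξ) fst (c.inj i) := fun i => by
    refine IsPullback.of_right ?_ (hf1 i) sq.flip
    rw [hf2, hfac]
    exact (IsPullback.of_hasPullback (p i) ξ).flip
  have hopen : ∀ i, RepWith @IsOpenImmersion (f i) := fun i =>
    repWith_of_isPullback _ (sqi i).flip (repWith_isOpenImmersion_inj hc i)
  -- lifting points of `F'` to the pieces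
  have hlift : ∀ ⦃T W : Over S⦄ (y : (yon S).obj T ⟶ F') (w : W ⟶ T) (i : ι)
      (m : (yon S).obj W ⟶ X i), m ≫ c.inj i = (yon S).map w ≫ y ≫ fst →
      ∃ x : (yon S).obj W ⟶ pullback (p i) ξ, x ≫ f i = (yon S).map w ≫ y := by
    intro T W y w i m hm
    have e : m ≫ p i = ((yon S).map w ≫ y ≫ snd) ≫ ξ := by
      rw [← hfac, ← Category.assoc, hm, Category.assoc, Category.assoc, Category.assoc,
        Category.assoc, sq.w]
    refine ⟨pullback.lift m ((yon S).map w ≫ y ≫ snd) e, ?_⟩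
    apply sq.hom_ext
    · rw [Category.assoc, hf1, pullback.lift_fst_assoc, hm, Category.assoc]
    · rw [Category.assoc, hf2, pullback.lift_snd, Category.assoc]
  have hF' : IsAlgSpace F' := by
    refine isAlgSpace_of_open_cover _ f halg hopen ?_
    intro T y
    refine ⟨facSieve c (y ≫ fst), facSieve_mem hc _, ?_⟩
    rintro W w ⟨i, m, hm⟩
    obtain ⟨x, hx⟩ := hlift y w i m hm
    exact ⟨i, x, hx⟩
  have hsurjP : ∀ x : Points F', ∃ i, x ∈ Set.range (Points.map (f i)) := by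
    intro x
    obtain ⟨T, g, t, rfl⟩ := exists_ofPt_eq x
    obtain ⟨W, w, i, m, -, -, ⟨w₀, rfl⟩, hm⟩ := exists_lift_locally hc (g ≫ fst) t
    obtain ⟨x', hx'⟩ := hlift g w i m hm
    exact ⟨i, Points.ofPt x' w₀, by rw [Points.map_ofPt, hx', ofPt_yon_map_comp]⟩
  have het : ∀ i, IsEtaleMor (f i) := fun i U φ hφ =>
    repWith_comp _ hφ (repWith_mono
      (fun _ _ g (_ : IsOpenImmersion g) => (inferInstance : Etale g)) (hopen i))
  refine ⟨hF', ⟨?_, ?_⟩, ?_⟩
  · intro y
    obtain ⟨i, z, hz⟩ := hsurj ξ y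
    exact ⟨Points.map (f i) z, by rw [← Points.map_comp, hf2, hz]⟩
  · refine locP_of_etCover etLocal_flat _ f halg het hsurjP snd (fun i => ?_)
    rw [hf2]
    exact (hp i ξ _ _ (IsPullback.of_hasPullback (p i) ξ)).2.1
  · refine locP_of_etCover etLocal_lfp _ f halg het hsurjP snd (fun i => ?_)
    rw [hf2]
    exact (hp i ξ _ _ (IsPullback.of_hasPullback (p i) ξ)).2.2

end Groth.Agent.Lib.Helper24.Boot9
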