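import Groth.Agent.S0320
import Mathlib.RingTheory.Regular.Flat
import Mathlib.RingTheory.Regular.LinearMap
import Mathlib.RingTheory.QuotSMulTop
import Mathlib.RingTheory.Flat.FaithfullyFlat.Algebra
import Mathlib.RingTheory.Flat.FaithfullyFlat.Basic

/-!
# Depth and (faithfully) flat base change
-/

set_option autoImplicit false
universe u
open LocCoh
open TensorProduct
open Groth.Agent.Lib.Helper16.Depth RingTheory.Sequence

namespace Groth.Agent.Lib.Helper24.DepthFlat

/-- `I`-depth is invariant under linear equivalence -/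
lemma idealDepth_congr {R : Type u} [CommRing R] (I : Ideal R) {M N : Type u} [AddCommGroup M]
    [Module R M] [AddCommGroup N] [Module R N] (e : M ≃ₗ[R] N) :
    LocCoh.idealDepth I M = LocCoh.idealDepth I N := by
  have htop : I • (⊤ : Submodule R M) = ⊤ ↔ I • (⊤ : Submodule R N) = ⊤ := by
    have h1 : (I • (⊤ : Submodule R M)).map e.toLinearMap = I • (⊤ : Submodule R N) := by
      rw [Submodule.map_smul'', Submodule.map_top, LinearEquiv.range]
    constructor
    · intro h
      rw [← h1, h, Submodule.map_top, LinearEquiv.range]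
    · intro h
      have h2 : (I • (⊤ : Submodule R M)).map e.toLinearMap = (⊤ : Submodule R M).map e.toLinearMap := by
        rw [h1, h, Submodule.map_top, LinearEquiv.range]
      exact Submodule.map_injective_of_injective e.injective h2
  apply le_antisymm
  · rw [← ENat.forall_natCast_le_iff_le]
    intro n hn
    rw [le_idealDepth_iff] at hn ⊢
    rcases hn with h | ⟨rs, hl, hr, hm⟩
    · exact Or.inl (htop.mp h)
    · exact Or.inr ⟨rs, hl, (e.isWeaklyRegular_congr rs).mp hr, hm⟩
  · rw [← ENat.forall_natCast_le_iff_le]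
    intro n hn
    rw [le_idealDepth_iff] at hn ⊢
    rcases hn with h | ⟨rs, hl, hr, hm⟩
    · exact Or.inl (htop.mpr h)
    · exact Or.inr ⟨rs, hl, (e.isWeaklyRegular_congr rs).mpr hr, hm⟩

section
variable (A B : Type u) [CommRing A] [CommRing B] [Algebra A B] (I : Ideal A)
  (M : Type u) [AddCommGroup M] [Module A M]

lemma map_smul_top_eq_top (h : I • (⊤ : Submodule A M) = ⊤) :
    I.map (algebraMap A B) • (⊤ : Submodule B (B ⊗[A] M)) = ⊤ := by
  rw [eq_top_iff]
  intro z hz
  clear hz
  induction z with
  | zero => exact Submodule.zero_mem _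
  | add x y hx hy => exact Submodule.add_mem _ hx hy
  | tmul b m =>
    have hm : m ∈ I • (⊤ : Submodule A M) := by rw [h]; trivial
    induction hm using Submodule.smul_induction_on' with
    | smul a ha m' _ =>
      have : b ⊗ₜ[A] (a • m') = algebraMap A B a • (b ⊗ₜ[A] m') := by
        rw [TensorProduct.tmul_smul, TensorProduct.smul_tmul', TensorProduct.smul_tmul',
          Algebra.smul_def, smul_eq_mul]
      rw [this]
      exact Submodule.smul_mem_smul (Ideal.mem_map_of_mem _ ha) trivial
    | add x _ y _ hx hy =>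
      rw [TensorProduct.tmul_add]
      exact Submodule.add_mem _ hx hy

/-- the flat direction -/
lemma depth_le_of_flat [Module.Flat A B] :
    LocCoh.idealDepth I M ≤ LocCoh.idealDepth (I.map (algebraMap A B)) (B ⊗[A] M) := by
  rw [← ENat.forall_natCast_le_iff_le]
  intro n hn
  rw [le_idealDepth_iff] at hn ⊢
  rcases hn with h | ⟨rs, hl, hr, hm⟩
  · exact Or.inl (map_smul_top_eq_top A B I M h)
  · refine Or.inr ⟨rs.map (algebraMap A B), by rw [List.length_map, hl],
      hr.of_flat_of_isBaseChange (TensorProduct.isBaseChange A M B), ?_⟩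
    intro r hr'
    obtain ⟨a, ha, rfl⟩ := List.mem_map.mp hr'
    exact Ideal.mem_map_of_mem _ (hm a ha)

end

/-- the faithfully flat direction, by induction -/
lemma depth_ge_of_faithfullyFlat (A B : Type u) [CommRing A] [CommRing B] [Algebra A B]
    [IsNoetherianRing A] [IsNoetherianRing B] [Module.FaithfullyFlat A B] (I : Ideal A) (n : ℕ) :
    ∀ (M : Type u) [AddCommGroup M] [Module A M] [Module.Finite A M],
      (n : ℕ∞) ≤ LocCoh.idealDepth (I.map (algebraMap A B)) (B ⊗[A] M) →
      (n : ℕ∞) ≤ LocCoh.idealDepth I M := by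
  induction n with
  | zero => intro M _ _ _ _; simp
  | succ n ih =>
    intro M _ _ _ hn
    by_cases hIM : I • (⊤ : Submodule A M) = ⊤
    · rw [idealDepth_eq_top_of_smul_top_eq_top I M hIM]; exact le_top
    set J := I.map (algebraMap A B) with hJ
    have hJM : J • (⊤ : Submodule B (B ⊗[A] M)) ≠ ⊤ :=
      ((TensorProduct.isBaseChange A M B).map_smul_top_ne_top_iff_of_faithfullyFlat A M I).mpr hIM
    -- a regular element of `J` on `B ⊗ M`
    have hn' := hn
    rw [le_idealDepth_iff] at hn'
    rcases hn' with h | ⟨rs, hl, hr, hm⟩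
    · exact absurd h hJM
    obtain ⟨y, rs', rfl⟩ : ∃ y rs', rs = y :: rs' := by
      cases rs with
      | nil => simp at hl
      | cons y rs' => exact ⟨y, rs', rfl⟩
    have hyreg : IsSMulRegular (B ⊗[A] M) y := ((isWeaklyRegular_cons_iff _ y rs').mp hr).1
    have hyJ : y ∈ J := hm y (List.mem_cons_self)
    -- a regular element of `I` on `M`
    have hex : ∃ x ∈ I, IsSMulRegular M x := by
      by_contra hcon
      have hns : ¬ Subsingleton ((A ⧸ I) →ₗ[A] M) := by
        rw [IsSMulRegular.subsingleton_linearMap_iff]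
        rintro ⟨r, hr1, hr2⟩
        rw [Ideal.annihilator_quotient] at hr1
        exact hcon ⟨r, hr1, hr2⟩
      rw [not_subsingleton_iff_nontrivial] at hns
      obtain ⟨f, hf⟩ := exists_ne (0 : (A ⧸ I) →ₗ[A] M)
      set m := f 1 with hm'
      have hm0 : m ≠ 0 := by
        intro h0
        apply hf
        ext
        simpa using h0
      have hIm : ∀ a ∈ I, a • m = 0 := by
        intro a ha
        have h0 : (a • (1 : A ⧸ I)) = 0 := by
          rw [Algebra.smul_def, mul_one, Ideal.Quotient.algebraMap_eq, Ideal.Quotient.eq_zero_iff_mem]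
          exact ha
        rw [hm', ← map_smul, h0, map_zero]
      have h1m : (1 : B) ⊗ₜ[A] m ≠ 0 := by
        intro h0
        apply hm0
        apply Module.FaithfullyFlat.tensorProduct_mk_injective (A := A) (B := B) M
        simpa using h0
      have hJm : ∀ z ∈ J, z • ((1 : B) ⊗ₜ[A] m) = 0 := by
        have : I ≤ ((Submodule.span B {(1 : B) ⊗ₜ[A] m}).annihilator).comap
            (algebraMap A B) := by
          intro a ha
          rw [Ideal.mem_comap, Submodule.mem_annihilator_span_singleton, TensorProduct.smul_tmul',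
            Algebra.algebraMap_eq_smul_one, smul_assoc, one_smul,
            TensorProduct.smul_tmul, hIm a ha, TensorProduct.tmul_zero]
        intro z hz
        have := Ideal.map_le_iff_le_comap.mpr this hz
        rwa [Submodule.mem_annihilator_span_singleton] at this
      have := hJm y hyJ
      exact h1m (hyreg (by simp only [this, smul_zero]))
    obtain ⟨x, hxI, hxreg⟩ := hex
    set x' := algebraMap A B x with hx'
    have hx'J : x' ∈ J := Ideal.mem_map_of_mem _ hxI
    have hx'reg : IsSMulRegular (B ⊗[A] M) x' :=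
      hxreg.of_flat_of_isBaseChange (TensorProduct.isBaseChange A M B)
    have h1 := Groth.Agent.S0320.result B J (B ⊗[A] M) hJM x' hx'J hx'reg
    have h2 := Groth.Agent.S0320.result A I M hIM x hxI hxreg
    have e := QuotSMulTop.algebraMapTensorEquivTensorQuotSMulTop x M B
    have h3 : (n : ℕ∞) ≤ LocCoh.idealDepth J (B ⊗[A] QuotSMulTop x M) := by
      rw [← idealDepth_congr J e]
      rw [← h1] at hn
      have : ((n + 1 : ℕ) : ℕ∞) = (n : ℕ∞) + 1 := by push_cast; rfl
      rw [this] at hn
      exact (ENat.add_le_add_iff_right ENat.one_ne_top).mp hn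
    have h4 := ih (QuotSMulTop x M) h3
    rw [← h2]
    have : ((n + 1 : ℕ) : ℕ∞) = (n : ℕ∞) + 1 := by push_cast; rfl
    rw [this]
    gcongr


end Groth.Agent.Lib.Helper24.DepthFlat
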