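import Mathlib
import Groth.Agent.Lib.Helper14.FpqcSch
set_option autoImplicit false
universe w u
open CategoryTheory CategoryTheory.Limits AlgebraicGeometry MorphismProperty

/-! Checking a property fpqc-locally on the target, for general quasi-compact flat covers. -/

namespace Groth.Agent.Lib.Helper24.FpqcLocal

set_option backward.isDefEq.respectTransparency.types false in
/-- a property which is Zariski local at the target, stable under base change and descends along
fpqc morphisms can be checked on a quasi-compact flat cover -/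
theorem of_qc_flat_cover {P : MorphismProperty Scheme.{u}} [IsZariskiLocalAtTarget P]
    [P.IsStableUnderBaseChange] [P.DescendsAlong (@Surjective ⊓ @Flat ⊓ @QuasiCompact)]
    {X T : Scheme.{u}} (f : X ⟶ T) (𝒰 : Scheme.Cover.{w} (Scheme.precoverage @Flat) T)
    [QuasiCompactCover 𝒰.toPreZeroHypercover]
    (H : ∀ i, P (pullback.snd f (𝒰.f i))) : P f := by
  refine IsZariskiLocalAtTarget.of_forall_exists_morphismRestrict fun x => ?_
  obtain ⟨_, ⟨U', hU' : IsAffineOpen U', rfl⟩, hxU', -⟩ :=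
    T.isBasis_affineOpens.exists_subset_of_mem_open (Set.mem_univ x) isOpen_univ
  obtain ⟨U, hU, hxU⟩ : ∃ U : T.Opens, IsAffineOpen U ∧ x ∈ U := ⟨U', hU', hxU'⟩
  refine ⟨U, hxU, ?_⟩
  obtain ⟨n, a, V, hV, heq⟩ :=
    QuasiCompactCover.exists_isAffineOpen_of_isCompact 𝒰.toPreZeroHypercover hU.isCompact
  have hle : ∀ j, Set.range ((V j).ι ≫ 𝒰.f (a j)) ⊆ Set.range U.ι := by
    intro j
    rintro _ ⟨v, rfl⟩
    have : (𝒰.f (a j)) ((V j).ι v) ∈ (U : Set T) := by
      rw [← heq]
      exact Set.mem_iUnion.2 ⟨j, (V j).ι v, by simp, rfl⟩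
    simpa using this
  let c : ∀ j, (V j).toScheme ⟶ U.toScheme := fun j =>
    IsOpenImmersion.lift U.ι ((V j).ι ≫ 𝒰.f (a j)) (hle j)
  have hc : ∀ j, c j ≫ U.ι = (V j).ι ≫ 𝒰.f (a j) := fun j => IsOpenImmersion.lift_fac _ _ _
  haveI : IsAffine U.toScheme := hU
  haveI : ∀ j, IsAffine (V j).toScheme := hV
  have hfl0 : ∀ j, Flat ((V j).ι ≫ 𝒰.f (a j)) := fun j => by
    have : Flat (𝒰.f (a j)) := 𝒰.map_prop (a j)
    infer_instance
  refine Groth.Agent.Lib.Helper14.Fpqc.of_fpqc_family (fun j => (V j).toScheme) c (f ∣_ U)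
    (fun j => ?_) (fun z => ?_) (fun j => ?_)
  · have h : Flat (c j ≫ U.ι) := by rw [hc]; exact hfl0 j
    exact MorphismProperty.of_postcomp (W := @Flat) (W' := @IsOpenImmersion) (c j) U.ι
      inferInstance h
  · have hz : (U.ι z) ∈ (U : Set T) := z.2
    rw [← heq] at hz
    obtain ⟨j, v, hv, hvz⟩ := Set.mem_iUnion.1 hz
    refine ⟨j, ⟨v, hv⟩, ?_⟩
    apply U.ι.isOpenEmbedding.injective
    rw [← Scheme.Hom.comp_apply, hc]
    simpa using hvz
  · have sq1 := IsPullback.of_hasPullback (f ∣_ U) (c j)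
    have sq2 : IsPullback (f ⁻¹ᵁ U).ι (f ∣_ U) f U.ι := (isPullback_morphismRestrict f U).flip
    have sq3 := sq1.paste_horiz sq2
    rw [hc] at sq3
    have sq4 := IsPullback.of_hasPullback f (𝒰.f (a j))
    have sq5 : IsPullback (sq4.lift (pullback.fst (f ∣_ U) (c j) ≫ (f ⁻¹ᵁ U).ι)
        (pullback.snd (f ∣_ U) (c j) ≫ (V j).ι) (by rw [Category.assoc]; exact sq3.w))
        (pullback.snd (f ∣_ U) (c j)) (pullback.snd f (𝒰.f (a j))) (V j).ι := by
      refine IsPullback.of_right ?_ (sq4.lift_snd _ _ _) sq4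
      rw [sq4.lift_fst]
      exact sq3
    exact P.of_isPullback sq5 (H (a j))

/-- a property which is Zariski local at the target, stable under base change and descends along
fpqc morphisms can be checked on the members of an fpqc covering family -/
theorem of_fpqc_presieve {P : MorphismProperty Scheme.{u}} [IsZariskiLocalAtTarget P]
    [P.IsStableUnderBaseChange] [P.DescendsAlong (@Surjective ⊓ @Flat ⊓ @QuasiCompact)]
    {X T : Scheme.{u}} (f : X ⟶ T) (R : Presieve T) (hR : R ∈ Scheme.fpqcPrecoverage T)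
    (H : ∀ ⦃Y : Scheme.{u}⦄ (g : Y ⟶ T), R g → P (pullback.snd f g)) : P f := by
  have hR' : R ∈ Scheme.propQCPrecoverage @Flat T := hR
  obtain ⟨𝒰, h𝒰, rfl⟩ := Scheme.mem_propQCPrecoverage_iff_exists_quasiCompactCover.1 hR'
  exact of_qc_flat_cover f 𝒰 fun i => H _ ⟨i⟩

end Groth.Agent.Lib.Helper24.FpqcLocal
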