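import Mathlib
set_option autoImplicit false
universe u
open CategoryTheory CategoryTheory.Limits AlgebraicGeometry Opposite

namespace Groth.Agent.Lib.Helper24.FinSigma

variable {ι : Type u} {Y : ι → Scheme.{u}} {X : Scheme.{u}} (f : ∀ i, Y i ⟶ X)

lemma desc_sigmaMk (i : ι) (y : Y i) : (Sigma.desc f) ((sigmaMk Y) ⟨i, y⟩) = (f i) y := by
  rw [sigmaMk_mk, ← Scheme.Hom.comp_apply, Sigma.ι_desc]

lemma preimage_sigmaDesc (V : Set X) :
    (Sigma.desc f) ⁻¹' V = ⋃ i, (Sigma.ι Y i) '' ((f i) ⁻¹' V) := by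
  ext z
  obtain ⟨⟨i, y⟩, rfl⟩ := (sigmaMk Y).surjective z
  simp only [Set.mem_preimage, Set.mem_iUnion, Set.mem_image]
  constructor
  · intro h
    refine ⟨i, y, ?_, (sigmaMk_mk Y i y).symm⟩
    rwa [desc_sigmaMk] at h
  · rintro ⟨k, y', hy', e⟩
    rw [← e, ← Scheme.Hom.comp_apply, Sigma.ι_desc]
    exact hy'

lemma image_sigmaDesc (C : Set ↥(∐ Y)) :
    (Sigma.desc f) '' C = ⋃ i, (f i) '' ((Sigma.ι Y i) ⁻¹' C) := by
  ext x
  simp only [Set.mem_image, Set.mem_iUnion, Set.mem_preimage]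
  constructor
  · rintro ⟨z, hz, rfl⟩
    obtain ⟨⟨i, y⟩, rfl⟩ := (sigmaMk Y).surjective z
    refine ⟨i, y, ?_, ?_⟩
    · rwa [sigmaMk_mk] at hz
    · rw [desc_sigmaMk]
  · rintro ⟨i, y, hy, rfl⟩
    exact ⟨_, hy, by rw [← Scheme.Hom.comp_apply, Sigma.ι_desc]⟩

theorem quasiCompact_sigmaDesc [Finite ι] (hf : ∀ i, QuasiCompact (f i)) :
    QuasiCompact (Sigma.desc f) := by
  constructor
  intro V hV hVc
  rw [preimage_sigmaDesc]
  exact isCompact_iUnion fun i =>
    ((hf i).isCompact_preimage V hV hVc).image (Sigma.ι Y i).continuous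

theorem isClosedImmersion_sigmaDesc [Finite ι] (hf : ∀ i, IsClosedImmersion (f i))
    (hinj : Function.Injective (Sigma.desc f)) : IsClosedImmersion (Sigma.desc f) := by
  have h1 : SurjectiveOnStalks (Sigma.desc f) :=
    IsZariskiLocalAtSource.sigmaDesc (fun i => inferInstance)
  refine { h1 with isClosedEmbedding := ?_ }
  refine Topology.IsClosedEmbedding.of_continuous_injective_isClosedMap
    (Sigma.desc f).continuous hinj ?_
  intro C hC
  rw [image_sigmaDesc]
  exact isClosed_iUnion_of_finite fun i =>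
    (hf i).isClosedEmbedding.isClosedMap _ (hC.preimage (Sigma.ι Y i).continuous)

end Groth.Agent.Lib.Helper24.FinSigma
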