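import Groth.Agent.Lib.Helper24.DescE9
import Groth.Agent.Lib.Helper24.DescAffine
set_option autoImplicit false
set_option linter.unusedSectionVars false
universe u
open CategoryTheory CategoryTheory.Limits AlgebraicGeometry Opposite

/-! # Finite disjoint unions of morphisms; one-member families -/

namespace Groth.Agent.Lib.Helper24.DescSigma
open Desc

/-- the squares of a finite coproduct of morphisms are cartesian -/
lemma isPullback_sigmaMap {n : ℕ} (Y V : Fin n → Scheme.{u}) (q : ∀ j, Y j ⟶ V j) (j : Fin n) :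
    IsPullback (Sigma.ι Y j) (q j) (Limits.Sigma.map q) (Sigma.ι V j) := by
  have hvk := FinitaryExtensive.isVanKampen_finiteCoproducts (coproductIsCoproduct V)
  have := (hvk (Cofan.mk (∐ Y) (Sigma.ι Y)) (Discrete.natTrans fun j => q j.as)
    (Limits.Sigma.map q) (by ext ⟨j⟩; simp) (.of_discrete _)).mp ⟨coproductIsCoproduct Y⟩ ⟨j⟩
  simpa using this

/-- a property local on the target is stable under finite disjoint unions -/
theorem sigmaMap_of_isZariskiLocalAtTarget (P : MorphismProperty Scheme.{u})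
    [IsZariskiLocalAtTarget P] {n : ℕ} (Y V : Fin n → Scheme.{u}) (q : ∀ j, Y j ⟶ V j)
    (h : ∀ j, P (q j)) : P (Limits.Sigma.map q) := by
  rw [IsZariskiLocalAtTarget.iff_of_openCover (P := P) (sigmaOpenCover V)]
  intro j
  have sq := isPullback_sigmaMap Y V q j
  change P (pullback.snd (Limits.Sigma.map q) (Sigma.ι V j))
  have e : sq.isoPullback.hom ≫ pullback.snd (Limits.Sigma.map q) (Sigma.ι V j) = q j :=
    sq.isoPullback_hom_snd
  have : P (sq.isoPullback.hom ≫ pullback.snd (Limits.Sigma.map q) (Sigma.ι V j)) := by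
    rw [e]; exact h j
  exact (P.cancel_left_of_respectsIso _ _).1 this

/-- effectiveness for one morphism from effectiveness for the one-member family -/
theorem exists_iso_toDD_of_isEffective {X S : Scheme.{u}} (p : X ⟶ S) (D : SchDD p)
    (h : ((SchDDFam.ofSchDD.{u} p).obj D).IsEffective) :
    ∃ U : Over S, Nonempty ((toDD p).obj U ≅ D) := by
  obtain ⟨W, ⟨e⟩⟩ := h
  exact ⟨W, ⟨(SchDDFam.toSchDD.{u} p).mapIso e⟩⟩

lemma ofArrows_pUnit_mem_fpqc {X S : Scheme.{u}} (p : X ⟶ S) [Surjective p] [Flat p]
    [QuasiCompact p] :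
    Presieve.ofArrows (fun _ : PUnit.{u + 1} => X) (fun _ => p) ∈ Scheme.fpqcPrecoverage S := by
  rw [Presieve.ofArrows_pUnit]
  exact p.singleton_mem_fpqcPrecoverage

end Groth.Agent.Lib.Helper24.DescSigma
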