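import Groth.Agent.Lib.Helper8.Affine
import Mathlib
set_option autoImplicit false
universe u
open CategoryTheory CategoryTheory.Limits AlgebraicGeometry Opposite

/-! Finite sets of points of a scheme étale and separated over an affine scheme lie in affine opens. -/

namespace Groth.Agent.Lib.Helper24.Filt5a

lemma isQuasiAffine_of_sep_lqf {Y T' : Scheme.{u}} (r : Y ⟶ T') [IsAffine T'] [IsSeparated r]
    [LocallyQuasiFinite r] [LocallyOfFiniteType r] [QuasiCompact r] : Y.IsQuasiAffine := by
  have : IsAffineHom r.fromNormalization := inferInstance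
  have : IsAffine r.normalization := isAffine_of_isAffineHom r.fromNormalization
  have : CompactSpace Y := QuasiCompact.compactSpace_of_compactSpace r
  exact Scheme.IsQuasiAffine.of_isImmersion r.toNormalization

/-- Étale morphisms are locally quasi-finite. -/
theorem locallyQuasiFinite_of_etale {X Y : Scheme.{u}} (f : X ⟶ Y) [Etale f] :
    LocallyQuasiFinite f := by
  refine ⟨fun {U} hU {V} hV e => ?_⟩
  have h : (f.appLE U V e).hom.Etale :=
    HasRingHomProperty.appLE @Etale f inferInstance ⟨U, hU⟩ ⟨V, hV⟩ e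
  algebraize [(f.appLE U V e).hom]
  haveI : Algebra.Etale Γ(Y, U) Γ(X, V) := h
  show Algebra.QuasiFinite Γ(Y, U) Γ(X, V)
  infer_instance

theorem exists_affineOpen_of_finite_of_etale_sep {W U : Scheme.{u}} (r : W ⟶ U) [Etale r]
    [IsSeparated r] [IsAffine U] (E : Set W) (hE : E.Finite) :
    ∃ O : W.Opens, IsAffineOpen O ∧ E ⊆ O := by
  have hch : ∀ e : W, ∃ N : W.Opens, IsAffineOpen N ∧ e ∈ N := fun e => by
    obtain ⟨N, hN, heN, -⟩ := exists_isAffineOpen_mem_and_subset (x := e) (U := ⊤) trivial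
    exact ⟨N, hN, heN⟩
  choose N hN heN using hch
  let W' : W.Opens := ⨆ e : E, N e.1
  have hW'c : IsCompact (W' : Set W) := by
    have : Finite E := hE
    have e1 : (W' : Set W) = ⋃ e : E, (N e.1 : Set W) := by
      simp [W']
    rw [e1]
    exact isCompact_iUnion fun e => (hN e.1).isCompact
  have hEW' : E ⊆ W' := by
    intro e he
    exact TopologicalSpace.Opens.mem_iSup.2 ⟨⟨e, he⟩, heN e⟩
  have : CompactSpace W'.toScheme := isCompact_iff_compactSpace.mp hW'c
  have : QuasiCompact (W'.ι ≫ r) := inferInstance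
  have : LocallyQuasiFinite (W'.ι ≫ r) := locallyQuasiFinite_of_etale _
  have hqa : W'.toScheme.IsQuasiAffine := isQuasiAffine_of_sep_lqf (W'.ι ≫ r)
  obtain ⟨O', hO', hEO'⟩ := Groth.Agent.Lib.Helper8.exists_affineOpen_of_finite_of_isImmersion_affine
    (W'.toScheme.toSpecΓ) (W'.ι ⁻¹' E) (hE.preimage W'.ι.injective.injOn)
  refine ⟨W'.ι ''ᵁ O', hO'.image_of_isOpenImmersion W'.ι, ?_⟩
  intro e he
  exact ⟨⟨e, hEW' he⟩, hEO' he, rfl⟩

end Groth.Agent.Lib.Helper24.Filt5a
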