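import Groth.Agent.S0063
import Groth.Prelude.Def_FEt
import Mathlib.AlgebraicGeometry.Morphisms.UniversallyOpen
import Mathlib.AlgebraicGeometry.PullbackCarrier
import Mathlib.AlgebraicGeometry.Morphisms.Etale
import Mathlib.AlgebraicGeometry.Morphisms.Finite
import Mathlib.AlgebraicGeometry.Morphisms.UniversallyClosed

set_option autoImplicit false

namespace Groth.Agent.Lib.Helper24

universe u
open CategoryTheory CategoryTheory.Limits AlgebraicGeometry

namespace FEtFaith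

variable {X Y : Scheme.{u}} (f : X ⟶ Y) {Y₁ Y₂ : FEt.Cat Y}

/-- the underlying morphisms in `Over Y` -/
noncomputable abbrev ov (φ : Y₁ ⟶ Y₂) : Over.mk Y₁.hom ⟶ Over.mk Y₂.hom :=
  Over.homMk φ.left (Over.w φ.hom)

instance instFU : FormallyUnramified (Over.mk Y₂.hom).hom := by
  have : AlgebraicGeometry.Etale Y₂.hom := Y₂.prop.2
  show FormallyUnramified Y₂.hom
  infer_instance

instance instLFT : LocallyOfFiniteType (Over.mk Y₂.hom).hom := by
  have : AlgebraicGeometry.Etale Y₂.hom := Y₂.prop.2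
  show LocallyOfFiniteType Y₂.hom
  infer_instance

instance instSep : IsSeparated (Over.mk Y₂.hom).hom := by
  have : IsFinite Y₂.hom := Y₂.prop.1
  show IsSeparated Y₂.hom
  infer_instance

set_option backward.isDefEq.respectTransparency.types false in
lemma fst_comp_eq (φ ψ : Y₁ ⟶ Y₂) (h : (FEt.restrict f).map φ = (FEt.restrict f).map ψ) :
    pullback.fst Y₁.hom f ≫ φ.left = pullback.fst Y₁.hom f ≫ ψ.left := by
  have e1 : ((FEt.restrict f).map φ).left ≫ pullback.fst Y₂.hom f = pullback.fst Y₁.hom f ≫ φ.left := by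
    dsimp [FEt.restrict]
    exact pullback.lift_fst _ _ _
  have e2 : ((FEt.restrict f).map ψ).left ≫ pullback.fst Y₂.hom f = pullback.fst Y₁.hom f ≫ ψ.left := by
    dsimp [FEt.restrict]
    exact pullback.lift_fst _ _ _
  rw [← e1, ← e2, h]

lemma preimage_subset_range_equalizer (φ ψ : Y₁ ⟶ Y₂)
    (h : (FEt.restrict f).map φ = (FEt.restrict f).map ψ) :
    Y₁.hom ⁻¹' (Set.range f) ⊆ Set.range (equalizer.ι (ov φ) (ov ψ)).left := by
  rw [← Scheme.Pullback.range_fst]
  rintro _ ⟨z, rfl⟩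
  let P : Over Y := Over.mk (pullback.fst Y₁.hom f ≫ Y₁.hom)
  let ι' : P ⟶ Over.mk Y₁.hom := Over.homMk (pullback.fst Y₁.hom f) rfl
  have hι : ι' ≫ ov φ = ι' ≫ ov ψ := by
    ext1
    exact fst_comp_eq f φ ψ h
  refine ⟨(equalizer.lift ι' hι).left z, ?_⟩
  rw [← Scheme.Hom.comp_apply, ← Over.comp_left, equalizer.lift_ι]
  rfl

lemma eq_of_range_eq_univ (φ ψ : Y₁ ⟶ Y₂)
    (huniv : Set.range (equalizer.ι (ov φ) (ov ψ)).left = Set.univ) : φ = ψ := by
  have := Groth.Agent.S0063.eq_of_range_equalizer_eq_univ (ov φ) (ov ψ) huniv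
  apply MorphismProperty.Over.Hom.ext
  exact this

end FEtFaith

namespace FEtFaith
variable {X Y : Scheme.{u}} (f : X ⟶ Y) {Y₁ Y₂ : FEt.Cat Y}

lemma isOpenMap_hom (Y₁ : FEt.Cat Y) : IsOpenMap Y₁.hom := by
  have : AlgebraicGeometry.Etale Y₁.hom := Y₁.prop.2
  exact Y₁.hom.isOpenMap

lemma isClosedMap_hom (Y₁ : FEt.Cat Y) : IsClosedMap Y₁.hom := by
  have : IsFinite Y₁.hom := Y₁.prop.1
  exact Y₁.hom.isClosedMap

end FEtFaith


end Groth.Agent.Lib.Helper24
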