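import Groth.Agent.Lib.Helper24.DescBridge
set_option autoImplicit false
set_option linter.unusedSectionVars false
universe u
open CategoryTheory CategoryTheory.Limits AlgebraicGeometry Opposite

/-! Representability of a base change `h_T ×_F G` from a chart, via effective descent. -/

namespace Groth.Agent.Lib.Helper24.DescRep
open AlgSp Desc Groth.Agent.Lib.Helper14.AS Groth.Agent.Lib.Helper24.DescSheaf
open Groth.Agent.Lib.Helper24.DescBridge

variable {S : Scheme.{u}}

/-- From a chart `q : h_U ⟶ F` over which `f : G ⟶ F` is represented by `g : V ⟶ U`, and a point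
`t : h_T ⟶ F`: the cover `T' = T ×_F U ⟶ T`, the scheme `V' = T' ×_U V` and the cartesian square
exhibiting `h_{V'}` as the base change of `h_T ×_F G` to `T'`. -/
theorem exists_chart_sq {F G : Sp S} (f : G ⟶ F) {U V : Over S} (q : (yon S).obj U ⟶ F)
    (hq : Representable q) (fst : (yon S).obj V ⟶ G) (g : V ⟶ U)
    (sq : IsPullback fst ((yon S).map g) f q) {T : Over S} (t : (yon S).obj T ⟶ F) :
    ∃ (T' V' : Over S) (c : T' ⟶ T) (a' : T' ⟶ U) (r : V' ⟶ T') (b : V' ⟶ V)
      (fstV : (yon S).obj V' ⟶ pullback f t),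
      IsPullback ((yon S).map a') ((yon S).map c) q t ∧ IsPullback b r g a' ∧
      IsPullback fstV ((yon S).map r) (pullback.snd f t) ((yon S).map c) := by
  obtain ⟨T', a, c, sqT⟩ : ∃ (T' : Over S) (a : (yon S).obj T' ⟶ (yon S).obj U) (c : T' ⟶ T),
      IsPullback a ((yon S).map c) q t := ⟨_, _, hq.snd t, hq.isPullback t⟩
  obtain ⟨a', rfl⟩ := (yon S).map_surjective a
  let V' : Over S := pullback g a'
  let r : V' ⟶ T' := pullback.snd g a'
  let b : V' ⟶ V := pullback.fst g a'
  have sqV : IsPullback b r g a' := IsPullback.of_hasPullback g a'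
  have sqV' : IsPullback ((yon S).map b) ((yon S).map r) ((yon S).map g) ((yon S).map a') :=
    sqV.map (yon S)
  have houter : IsPullback ((yon S).map b ≫ fst) ((yon S).map r) f ((yon S).map c ≫ t) := by
    have := sqV'.paste_horiz sq
    rw [sqT.w] at this
    exact this
  let fstV : (yon S).obj V' ⟶ pullback f t :=
    pullback.lift ((yon S).map b ≫ fst) ((yon S).map r ≫ (yon S).map c)
      (by rw [Category.assoc, Category.assoc]; exact houter.w)
  refine ⟨T', V', c, a', r, b, fstV, sqT, sqV, ?_⟩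
  refine IsPullback.of_right ?_ (pullback.lift_snd _ _ _) (IsPullback.of_hasPullback f t)
  rw [pullback.lift_fst]
  exact houter

/-- If the descent datum induced by the chart square is effective, the base change is
representable. -/
theorem exists_isPullback_of_effective {F G : Sp S} (f : G ⟶ F) {T T' V' : Over S}
    (t : (yon S).obj T ⟶ F) (c : T' ⟶ T) [Flat c.left] [Surjective c.left]
    [LocallyOfFinitePresentation c.left] (r : V' ⟶ T') (fstV : (yon S).obj V' ⟶ pullback f t)
    (sqE : IsPullback fstV ((yon S).map r) (pullback.snd f t) ((yon S).map c))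
    (U₀ : Over T.left) (i : (toDD c.left).obj U₀ ≅ ddOfSq sqE) :
    ∃ fstW : (yon S).obj (descObj U₀) ⟶ G, IsPullback fstW ((yon S).map (descProj U₀)) f t := by
  obtain ⟨e, -, he2⟩ := exists_iso_of_effective sqE U₀ i
  refine ⟨e.hom ≫ pullback.fst f t, ?_⟩
  refine IsPullback.of_iso (IsPullback.of_hasPullback f t) e.symm (Iso.refl _) (Iso.refl _)
    (Iso.refl _) ?_ ?_ ?_ ?_
  · simp
  · simp only [Iso.symm_hom, Iso.refl_hom, Category.comp_id]
    rw [← he2, Iso.inv_hom_id_assoc]
  · simp
  · simp

/-- The base change of the descended scheme is the scheme of the descent datum. -/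
theorem exists_iso_pullback {E : Sp S} {Z Z' V' : Over S} {π : E ⟶ (yon S).obj Z} {c : Z' ⟶ Z}
    {fstV : (yon S).obj V' ⟶ E} {r : V' ⟶ Z'}
    (sq : IsPullback fstV ((yon S).map r) π ((yon S).map c))
    (U₀ : Over Z.left) (i : (toDD c.left).obj U₀ ≅ ddOfSq sq) :
    ∃ e : pullback U₀.hom c.left ≅ V'.left, pullback.snd U₀.hom c.left = e.hom ≫ r.left := by
  let e₁ : pullback c.left U₀.hom ≅ V'.left :=
    ⟨alpha sq U₀ i, alphaInv sq U₀ i, alpha_alphaInv sq U₀ i, alphaInv_alpha sq U₀ i⟩
  refine ⟨pullbackSymmetry _ _ ≪≫ e₁, ?_⟩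
  have h1 : e₁.hom ≫ r.left = pullback.fst c.left U₀.hom := alpha_r sq U₀ i
  rw [Iso.trans_hom, Category.assoc, h1, pullbackSymmetry_hom_comp_fst]

end Groth.Agent.Lib.Helper24.DescRep
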