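import Groth.Agent.Lib.Helper24.DescSL
import Groth.Agent.Lib.Helper24.DescAffine
import Groth.Agent.Lib.Helper24.DescRep
set_option autoImplicit false
set_option linter.unusedSectionVars false
universe u
open CategoryTheory CategoryTheory.Limits AlgebraicGeometry Opposite

/-! Effective descent of affine morphisms, in sheaf form: a sheaf over a scheme which is fppf
locally representable by a scheme affine over the cover is representable by a scheme affine over
the base. -/

namespace Groth.Agent.Lib.Helper24.DescAffSh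
open AlgSp Desc Groth.Agent.Lib.Helper14.AS Groth.Agent.Lib.Helper24.DescSheaf
open Groth.Agent.Lib.Helper24.DescBridge Groth.Agent.Lib.Helper24.DescSat
open Groth.Agent.Lib.Helper24.ZarGlue Groth.Agent.Lib.Helper24.DescSubsheaf
open Groth.Agent.Lib.Helper24.DescChart Groth.Agent.Lib.Helper24.DescOpen
open Groth.Agent.Lib.Helper24.DescQAff Groth.Agent.Lib.Helper24.ZarGlueRep
open Groth.Agent.Lib.Helper24.DescSL Groth.Agent.Lib.Helper24.DescAffine

variable {S : Scheme.{u}}

section Chart
variable {E : Sp S} {Z Z' V' : Over S} {π : E ⟶ (yon S).obj Z} {c : Z' ⟶ Z}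
  {fstV : (yon S).obj V' ⟶ E} {r : V' ⟶ Z'}
  (sq : IsPullback fstV ((yon S).map r) π ((yon S).map c))
  [IsAffine Z.left] [IsAffine Z'.left] [Flat c.left] [Surjective c.left]
  [LocallyOfFinitePresentation c.left] [IsAffine V'.left]

include sq in
/-- **Effective descent for affine morphisms, affine case.** -/
theorem exists_rep_of_affine_chart_aff :
    ∃ (U : Over S) (ρ : U ⟶ Z) (e : (yon S).obj U ≅ E), e.hom ≫ π = (yon S).map ρ ∧
      IsAffine U.left := by
  have : IsAffine (ddOfSq sq).obj.left := ‹IsAffine V'.left›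
  obtain ⟨U₀, hU₀, ⟨i⟩⟩ := exists_iso_toDD_of_isAffine (p := c.left) (ddOfSq sq)
  obtain ⟨e, -, he⟩ := exists_iso_of_effective sq U₀ i
  exact ⟨descObj U₀, descProj U₀, e, he, hU₀⟩

end Chart

set_option backward.isDefEq.respectTransparency.types false in
/-- **Effective descent for affine morphisms, sheaf form.** A sheaf over a scheme `T` which fppf
locally on `T` is representable by schemes affine over the cover is representable by a scheme
affine over `T`. -/
theorem exists_rep_of_chart_aff {E : Sp S} {T : Over S} (π : E ⟶ (yon S).obj T)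
    (h : ∀ x : T.left, ∃ (T' V' : Over S) (c : T' ⟶ T) (r : V' ⟶ T')
      (fstV : (yon S).obj V' ⟶ E), IsPullback fstV ((yon S).map r) π ((yon S).map c) ∧
        Flat c.left ∧ LocallyOfFinitePresentation c.left ∧ x ∈ Set.range c.left ∧
        IsAffineHom r.left) :
    ∃ (U : Over S) (ρ : U ⟶ T) (e : (yon S).obj U ≅ E), e.hom ≫ π = (yon S).map ρ ∧
      IsAffineHom ρ.left := by
  obtain ⟨U, ρ, e, he, hloc⟩ := exists_rep_of_locally π
    (fun O X r => IsAffine (resOpen T O).left ∧ IsAffine X.left) (by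
    intro x
    obtain ⟨T', V', c, r, fstV, sq, hcF, hcL, ⟨x', hx'⟩, hrA⟩ := h x
    obtain ⟨O₁, hO₁, hxO₁, -⟩ := exists_isAffineOpen_mem_and_subset (x := x) (U := ⊤) trivial
    have hx'O₁ : x' ∈ c.left ⁻¹ᵁ O₁ := by
      change c.left x' ∈ O₁
      rw [hx']
      exact hxO₁
    obtain ⟨T'', hT'', hx'T'', hT''le⟩ := exists_isAffineOpen_mem_and_subset hx'O₁
    have hopen : IsOpenMap c.left := c.left.isOpenMap
    let O₂ : T.left.Opens := ⟨c.left '' (T'' : Set T'.left), hopen _ T''.2⟩
    have hxO₂ : x ∈ O₂ := ⟨x', hx'T'', hx'⟩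
    obtain ⟨O, hO, hxO, hOle⟩ := exists_isAffineOpen_mem_and_subset hxO₂
    have hOO₁ : O ≤ O₁ := by
      intro y hy
      obtain ⟨z, hz, rfl⟩ := hOle hy
      exact hT''le hz
    let T₃ : T'.left.Opens := T'' ⊓ c.left ⁻¹ᵁ O
    have hT₃ : IsAffineOpen T₃ := isAffineOpen_inf_preimage c.left hT'' hO₁ hO hOO₁ hT''le
    let c₀ : resOpen T' T₃ ⟶ resOpen T O := Over.homMk (c.left.resLE O T₃ inf_le_right) (by
      change c.left.resLE O T₃ inf_le_right ≫ O.ι ≫ T.hom = T₃.ι ≫ T'.hom
      rw [← Category.assoc, Scheme.Hom.resLE_comp_ι, Category.assoc, Over.w c])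
    have hc₀ : c₀ ≫ resOpenι T O = resOpenι T' T₃ ≫ c := by
      ext1
      exact Scheme.Hom.resLE_comp_ι _ _
    have h1 : Flat c₀.left := IsZariskiLocalAtSource.resLE _ hcF
    have h2 : LocallyOfFinitePresentation c₀.left := IsZariskiLocalAtSource.resLE _ hcL
    have h3 : Surjective c₀.left := by
      refine ⟨fun y => ?_⟩
      obtain ⟨z, hz, hzy⟩ := hOle y.2
      have hz₃ : z ∈ T₃ := ⟨hz, by change c.left z ∈ O; rw [hzy]; exact y.2⟩
      refine ⟨⟨z, hz₃⟩, ?_⟩
      apply O.ι.injective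
      have : (c.left.resLE O T₃ inf_le_right ≫ O.ι) ⟨z, hz₃⟩ = (T₃.ι ≫ c.left) ⟨z, hz₃⟩ := by
        rw [Scheme.Hom.resLE_comp_ι]
      simp only [Scheme.Hom.comp_apply] at this
      exact this.trans hzy
    have h4 : IsAffineHom (resMap r T₃).left := IsZariskiLocalAtTarget.restrict hrA T₃
    have h7 : IsAffine (resOpen T O).left := hO
    have h8 : IsAffine (resOpen T' T₃).left := hT₃
    have h9 : IsAffine (resOpen V' (r.left ⁻¹ᵁ T₃)).left :=
      isAffine_of_isAffineHom (resMap r T₃).left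
    have sqW : IsPullback ((yon S).map (resOpenι V' (r.left ⁻¹ᵁ T₃)) ≫ fstV)
        ((yon S).map (resMap r T₃)) π ((yon S).map c₀ ≫ (yon S).map (resOpenι T O)) := by
      rw [← Functor.map_comp, hc₀, Functor.map_comp]
      exact ((isPullback_resMap r T₃).map (yon S)).paste_horiz sq
    have sq₀ := isPullback_lift_of_isPullback π ((yon S).map (resOpenι T O)) c₀ (resMap r T₃) _ sqW
    obtain ⟨U₀, ρ₀, e₀, he₀, hU₀⟩ := exists_rep_of_affine_chart_aff sq₀
    exact ⟨O, hxO, U₀, ρ₀, _, isPullback_of_iso_pullback π _ ρ₀ e₀ he₀, h7, hU₀⟩)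
  refine ⟨U, ρ, e, he, ?_⟩
  refine IsZariskiLocalAtTarget.of_forall_exists_morphismRestrict (P := @IsAffineHom) fun w => ?_
  obtain ⟨O, hwO, X, r, fst, j, -, sqj, hO, hX⟩ := hloc w
  refine ⟨O, hwO, ?_⟩
  have hr : IsAffineHom r.left := by
    have : IsAffine (resOpen T O).left := hO
    have : IsAffine X.left := hX
    exact isAffineHom_of_isAffine r.left
  have sqR := isPullback_morphismRestrict ρ.left O
  exact (MorphismProperty.arrow_mk_iso_iff @IsAffineHom
    (Arrow.isoMk (sqj.isoIsPullback _ _ sqR.flip) (Iso.refl _) (by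
      simp [IsPullback.isoIsPullback_hom_snd]))).1 hr

end Groth.Agent.Lib.Helper24.DescAffSh
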