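import Groth.Agent.Lib.Helper24.DescLoc2
import Groth.Agent.Lib.Helper24.ZarGlue
set_option autoImplicit false
set_option linter.unusedSectionVars false
set_option backward.isDefEq.respectTransparency false
universe u
open CategoryTheory CategoryTheory.Limits AlgebraicGeometry Opposite

/-! # Effectiveness of descent data is local on the total space (for stable opens) -/

namespace Groth.Agent.Lib.Helper24.DescLoc
open Desc AlgSp Groth.Agent.Lib.Helper24.DescE Groth.Agent.Lib.Helper20.DescFamFF
  Groth.Agent.Lib.Helper14.AS Groth.Agent.Lib.Helper24.ZarGlue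

variable {X S : Scheme.{u}} {p : X ⟶ S} {D D' : SchDD p} (j : D' ⟶ D) [IsOpenImmersion j.hom.left]
  (U' : Over S) (θ : (toDD p).obj U' ≅ D')

/-- the section of the descended functor attached to a point of the descended scheme of the
sub-datum -/
noncomputable def ψ {T : Over S} (w : T ⟶ U') : Sec (fam D) T :=
  secOfHom ((toDD p).map w ≫ θ.hom ≫ j)

lemma ψ_map {T T' : Over S} (t : T' ⟶ T) (w : T ⟶ U') :
    ψ j U' θ (t ≫ w) = Sec.map t (ψ j U' θ w) := by
  unfold ψ
  rw [Functor.map_comp, Category.assoc, secOfHom_map]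

lemma inSub_ψ {T : Over S} (w : T ⟶ U') : InSub j (ψ j U' θ w) := by
  unfold InSub ψ
  rw [univ_secOfHom]
  change Set.range ((((toDD p).map w ≫ θ.hom).hom.left) ≫ j.hom.left) ⊆ _
  exact range_comp_subset _ _

lemma ψ_injective [(toDD p).Faithful] {T : Over S} :
    Function.Injective (ψ j U' θ (T := T)) := by
  intro w w' h
  have h1 := secOfHom_injective h
  have := mono_of_isOpenImmersion j
  have h2 : (toDD p).map w = (toDD p).map w' := (cancel_mono (θ.hom ≫ j)).1 h1
  exact (toDD p).map_injective h2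

lemma exists_ψ_eq [(toDD p).Full] {T : Over S} (a : Sec (fam D) T) (ha : InSub j a) :
    ∃ w : T ⟶ U', ψ j U' θ w = a := by
  have hfac : IsOpenImmersion.lift j.hom.left (univ a) ha ≫ j.hom.left = univ a :=
    IsOpenImmersion.lift_fac _ _ _
  let m' : (toDD p).obj T ⟶ D' :=
    ⟨Over.homMk (IsOpenImmersion.lift j.hom.left (univ a) ha) (by
      rw [← Over.w j.hom, ← Category.assoc, hfac]
      exact univ_hom a), fun T' x₀ x₁ h v w hw => by
      rw [← cancel_mono j.hom.left]
      have c1 := j.comm x₀ x₁ h w (j.push w) rfl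
      have c2 := (homOfSec a).comm x₀ x₁ h v (j.push w) (by
        change w.1 ≫ j.hom.left = v.1 ≫ univ a
        rw [hw]
        change (v.1 ≫ IsOpenImmersion.lift j.hom.left (univ a) ha) ≫ j.hom.left = _
        rw [Category.assoc, hfac])
      rw [← c1, c2]
      change _ = (_ ≫ IsOpenImmersion.lift j.hom.left (univ a) ha) ≫ j.hom.left
      rw [Category.assoc, hfac]
      rfl⟩
  have hm' : m' ≫ j = homOfSec a := by
    apply SchDD.hom_ext
    apply Over.OverMorphism.ext
    exact hfac
  obtain ⟨w, hw⟩ := (toDD p).map_surjective (m' ≫ θ.inv)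
  refine ⟨w, ?_⟩
  unfold ψ
  rw [hw, Category.assoc, Iso.inv_hom_id_assoc, hm', secOfHom_homOfSec]

/-- the morphism from the descended scheme of the sub-datum to the descended functor -/
noncomputable def fOf : (yon S).obj U' ⟶ E (fam D) := yEquiv.symm (ψ j U' θ (𝟙 U'))

lemma map_fOf {T : Over S} (w : T ⟶ U') :
    (yon S).map w ≫ fOf j U' θ = yEquiv.symm (ψ j U' θ w) := by
  apply yEquiv.injective
  rw [yEquiv_map_comp, Equiv.apply_symm_apply]
  unfold fOf
  rw [Equiv.apply_symm_apply]
  change Sec.map w (ψ j U' θ (𝟙 U')) = _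
  rw [← ψ_map, Category.comp_id]

lemma exists_lift_iff {T T' : Over S} (t : T' ⟶ T) (O : T.left.Opens) :
    (∃ w : T' ⟶ resOpen T O, w ≫ resOpenι T O = t) ↔ Set.range t.left ⊆ (O : Set T.left) := by
  constructor
  · rintro ⟨w, rfl⟩ _ ⟨y, rfl⟩
    change (w.left ≫ O.ι) y ∈ O
    rw [Scheme.Hom.comp_apply]
    exact (w.left y).2
  · intro hr
    have hr' : Set.range t.left ⊆ Set.range O.ι := by
      rw [Scheme.Opens.range_ι]; exact hr
    refine ⟨Over.homMk (IsOpenImmersion.lift O.ι t.left hr') ?_, ?_⟩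
    · change IsOpenImmersion.lift O.ι t.left hr' ≫ O.ι ≫ T.hom = T'.hom
      rw [← Category.assoc, IsOpenImmersion.lift_fac, Over.w t]
    · ext1
      exact IsOpenImmersion.lift_fac _ _ _

section Main
variable [Surjective p] [Flat p] [QuasiCompact p] [(toDD p).Full] [(toDD p).Faithful]

/-- over the open `Tv`, the section comes from a point of the descended scheme of the sub-datum -/
lemma exists_local_lift {T : Over S} (g : (yon S).obj T ⟶ E (fam D)) :
    ∃ l : resOpen T (Tv j (yEquiv g)) ⟶ U',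
      (yon S).map l ≫ fOf j U' θ = (yon S).map (resOpenι T (Tv j (yEquiv g))) ≫ g := by
  have hin : InSub j (Sec.map (resOpenι T (Tv j (yEquiv g))) (yEquiv g)) := by
    rw [inSub_map_iff]
    rintro _ ⟨y, rfl⟩
    exact y.2
  obtain ⟨l, hl⟩ := exists_ψ_eq j U' θ _ hin
  refine ⟨l, ?_⟩
  rw [map_fOf, hl]
  apply yEquiv.injective
  rw [Equiv.apply_symm_apply, yEquiv_map_comp]
  rfl

theorem repWith_fOf : RepWith @IsOpenImmersion (fOf j U' θ) := by
  refine MorphismProperty.relative.of_exists fun T g => ?_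
  obtain ⟨l, hl⟩ := exists_local_lift j U' θ g
  refine ⟨resOpen T (Tv j (yEquiv g)), (yon S).map l, resOpenι T (Tv j (yEquiv g)),
    isPullback_iff_yon.2 ⟨hl, fun T' x y hxy => ?_⟩, inferInstanceAs (IsOpenImmersion (Scheme.Opens.ι _))⟩
  obtain ⟨x₀, rfl⟩ := (yon S).map_surjective x
  obtain ⟨t, rfl⟩ := (yon S).map_surjective y
  have h1 : ψ j U' θ x₀ = Sec.map t (yEquiv g) := by
    have := congrArg yEquiv hxy
    rw [map_fOf, Equiv.apply_symm_apply, yEquiv_map_comp] at this
    exact this
  have h2 : InSub j (Sec.map t (yEquiv g)) := h1 ▸ inSub_ψ j U' θ x₀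
  obtain ⟨w, hw⟩ := (exists_lift_iff t _).2 ((inSub_map_iff j t _).1 h2)
  have hmono : Mono (resOpenι T (Tv j (yEquiv g))) := by
    have : Mono ((Over.forget S).map (resOpenι T (Tv j (yEquiv g)))) :=
      inferInstanceAs (Mono (Scheme.Opens.ι _))
    exact (Over.forget S).mono_of_mono_map this
  refine ⟨(yon S).map w, ⟨?_, ?_⟩, ?_⟩
  · rw [← Functor.map_comp]
    congr 1
    apply ψ_injective j U' θ
    rw [ψ_map, h1, ← hw]
    have e2 : ψ j U' θ l = Sec.map (resOpenι T (Tv j (yEquiv g))) (yEquiv g) := by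
      have := congrArg yEquiv hl
      rw [map_fOf, Equiv.apply_symm_apply, yEquiv_map_comp] at this
      exact this
    rw [e2]
    apply Sec.ext'
    intro T'' k i x hx
    exact (yEquiv g).s_congr (Category.assoc _ _ _) rfl _ _
  · rw [← Functor.map_comp, hw]
  · rintro z ⟨-, hz⟩
    obtain ⟨w', rfl⟩ := (yon S).map_surjective z
    rw [← Functor.map_comp] at hz
    have := (yon S).map_injective hz
    rw [(cancel_mono _).1 (this.trans hw.symm)]

end Main

/-- **Effectiveness is local on the total space**: a descent datum relative to an fpqc morphism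
which is covered by open sub-data that are effective is effective. -/
theorem exists_iso_toDD_of_locally {X S : Scheme.{u}} (p : X ⟶ S) [Surjective p] [Flat p]
    [QuasiCompact p] [(toDD p).Full] [(toDD p).Faithful] (D : SchDD p)
    (h : ∀ v : D.obj.left, ∃ (D' : SchDD p) (j : D' ⟶ D), IsOpenImmersion j.hom.left ∧
      v ∈ Set.range j.hom.left.base ∧ ∃ U' : Over S, Nonempty ((toDD p).obj U' ≅ D')) :
    ∃ U : Over S, Nonempty ((toDD p).obj U ≅ D) := by
  choose D' j hj hv U' hθ using h
  have θ : ∀ v, (toDD p).obj (U' v) ≅ D' v := fun v => (hθ v).some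
  obtain ⟨U, e, -⟩ := exists_iso_yon_of_open_cover (E := E (fam D)) (X := U')
    (f := fun v => fOf (j v) (U' v) (θ v))
    (fun v => haveI := hj v; repWith_fOf (j v) (U' v) (θ v))
    (fun T t x => by
      obtain ⟨z, hz⟩ := (pullback.snd p T.hom).surjective x
      have := hj (univ (yEquiv t) z)
      obtain ⟨l, hl⟩ := exists_local_lift (j (univ (yEquiv t) z)) (U' _) (θ _) t
      exact ⟨univ (yEquiv t) z, Tv (j (univ (yEquiv t) z)) (yEquiv t),
        ⟨z, hv (univ (yEquiv t) z), hz⟩, l, hl⟩)
  let R := representableByOfIso e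
  have hψ : ∀ ⦃T T' : Over S⦄ (t : T' ⟶ T) (w : T ⟶ U),
      R.homEquiv (t ≫ w) = Sec.map t (R.homEquiv w) := fun T T' t w => R.homEquiv_comp t w
  obtain ⟨i⟩ := nonempty_iso_toDDFam (D := fam D) U (fun T => R.homEquiv) hψ
  exact Groth.Agent.Lib.Helper24.DescSigma.exists_iso_toDD_of_isEffective p D ⟨U, ⟨i⟩⟩

end Groth.Agent.Lib.Helper24.DescLoc
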