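import Groth.Agent.Lib.Helper24.DescSL
import Groth.Agent.Lib.Helper24.DescLoc3
set_option autoImplicit false
set_option linter.unusedSectionVars false
set_option backward.isDefEq.respectTransparency false
universe u
open CategoryTheory CategoryTheory.Limits AlgebraicGeometry Opposite

/-! # Effectiveness of separated locally quasi-finite descent data along fppf morphisms -/

namespace Groth.Agent.Lib.Helper24.DescSlqf
open Desc AlgSp Groth.Agent.Lib.Helper24.DescE Groth.Agent.Lib.Helper20.DescFamFF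
  Groth.Agent.Lib.Helper14.AS Groth.Agent.Lib.Helper24.ZarGlue Groth.Agent.Lib.Helper24.DescLoc

variable {S : Scheme.{u}}

/-- `h_S` is terminal -/
noncomputable def isTerminalYonBase (S : Scheme.{u}) :
    IsTerminal ((yon S).obj (Over.mk (𝟙 S))) :=
  IsTerminal.isTerminalObj (yon S) _ Over.mkIdTerminal

/-- a chart of a sheaf over `v : V ⟶ S` gives a pullback square over `h_S` -/
theorem isPullback_of_chart_base (E : Sp S) {V : Scheme.{u}} (v : V ⟶ S) (N : Over V)
    (ch : Chart E.obj v N) (π : E ⟶ (yon S).obj (Over.mk (𝟙 S))) :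
    IsPullback (yEquiv.symm ch.ξ)
      ((yon S).map (Over.homMk N.hom rfl : Over.mk (N.hom ≫ v) ⟶ Over.mk v)) π
      ((yon S).map (Over.homMk v (Category.comp_id v) : Over.mk v ⟶ Over.mk (𝟙 S))) := by
  refine isPullback_iff_yon.2 ⟨(isTerminalYonBase S).hom_ext _ _, fun T x y _ => ?_⟩
  obtain ⟨y₀, rfl⟩ := (yon S).map_surjective y
  have hm : y₀.left ≫ v = T.hom := Over.w y₀
  obtain ⟨n, hn⟩ := (ch.bij T.hom y₀.left hm).2 (yEquiv x)
  let z₀ : T ⟶ Over.mk (N.hom ≫ v) := liftHom v N T.hom y₀.left hm n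
  have hz₀ : z₀ ≫ (Over.homMk N.hom rfl : Over.mk (N.hom ≫ v) ⟶ Over.mk v) = y₀ := by
    ext1
    exact n.2
  refine ⟨(yon S).map z₀, ⟨?_, ?_⟩, ?_⟩
  · apply yEquiv.injective
    rw [yEquiv_map_comp, Equiv.apply_symm_apply]
    exact hn
  · rw [← Functor.map_comp, hz₀]
  · rintro z' ⟨h1, h2⟩
    obtain ⟨z₁, rfl⟩ := (yon S).map_surjective z'
    have h2' : z₁ ≫ (Over.homMk N.hom rfl : Over.mk (N.hom ≫ v) ⟶ Over.mk v) = y₀ :=
      (yon S).map_injective (by rw [Functor.map_comp]; exact h2)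
    let n' : Lifts N y₀.left := ⟨z₁.left, congrArg (fun m => m.left) h2'⟩
    have hn' : E.obj.map (liftHom v N T.hom y₀.left hm n').op ch.ξ = yEquiv x := by
      rw [← h1, yEquiv_map_comp, Equiv.apply_symm_apply]
      rfl
    have : n' = n := (ch.bij T.hom y₀.left hm).1 (hn'.trans hn.symm)
    congr 1
    ext1
    exact congrArg Subtype.val this

/-- effectiveness from representability of the descended functor -/
theorem exists_iso_toDD_of_iso {X : Scheme.{u}} (p : X ⟶ S) (D : SchDD p) (U : Over S)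
    (e : (yon S).obj U ≅ E (fam D)) : ∃ U : Over S, Nonempty ((toDD p).obj U ≅ D) := by
  let R := representableByOfIso e
  have hψ : ∀ ⦃T T' : Over S⦄ (t : T' ⟶ T) (w : T ⟶ U),
      R.homEquiv (t ≫ w) = Sec.map t (R.homEquiv w) := fun T T' t w => R.homEquiv_comp t w
  obtain ⟨i⟩ := nonempty_iso_toDDFam (D := fam D) U (fun T => R.homEquiv) hψ
  exact Groth.Agent.Lib.Helper24.DescSigma.exists_iso_toDD_of_isEffective p D ⟨U, ⟨i⟩⟩

/-- **Effective descent for separated, locally quasi-finite schemes along fppf morphisms.** -/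
theorem exists_iso_toDD_of_slqf {X : Scheme.{u}} (p : X ⟶ S) [Flat p] [Surjective p]
    [LocallyOfFinitePresentation p] (D : SchDD p) [IsSeparated D.obj.hom]
    [LocallyQuasiFinite D.obj.hom] [LocallyOfFiniteType D.obj.hom] :
    ∃ U : Over S, Nonempty ((toDD p).obj U ≅ D) := by
  let π : E (fam D) ⟶ (yon S).obj (Over.mk (𝟙 S)) := (isTerminalYonBase S).from _
  obtain ⟨U, ρ, e, -⟩ := Groth.Agent.Lib.Helper24.DescSL.exists_rep_of_chart π (fun x => by
    refine ⟨Over.mk p, Over.mk (D.obj.hom ≫ p), Over.homMk p (Category.comp_id p),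
      Over.homMk D.obj.hom rfl, yEquiv.symm (chartOfDD (fam D) PUnit.unit).ξ,
      isPullback_of_chart_base (E (fam D)) p D.obj (chartOfDD (fam D) PUnit.unit) π,
      ‹Flat p›, ‹LocallyOfFinitePresentation p›, ?_, ‹IsSeparated D.obj.hom›,
      ‹LocallyQuasiFinite D.obj.hom›, ‹LocallyOfFiniteType D.obj.hom›⟩
    exact p.surjective x)
  exact exists_iso_toDD_of_iso p D U e

end Groth.Agent.Lib.Helper24.DescSlqf
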