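import Groth.Agent.Lib.Helper24.DescAffine
import Groth.Agent.Lib.Helper24.ZarGlueAff
set_option autoImplicit false
set_option linter.unusedSectionVars false
universe u
open CategoryTheory CategoryTheory.Limits AlgebraicGeometry

/-! Effective descent for quasi-affine schemes: the (affine base, affine cover) core. -/

namespace Groth.Agent.Lib.Helper24.DescQAff
open Desc Groth.Agent.Lib.Helper24.DescAffine Groth.Agent.Lib.Helper24.ZarGlueAff

variable {X S : Scheme.{u}} {p : X ⟶ S}

lemma isPushout_appTop_of_isPullback_of_flat {P X Y Z : Scheme.{u}} {fst : P ⟶ X} {snd : P ⟶ Y}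
    {f : X ⟶ Z} {g : Y ⟶ Z} [IsAffine X] [IsAffine Z] [Flat f] [CompactSpace Y]
    [QuasiSeparatedSpace Y] (h : IsPullback fst snd f g) :
    IsPushout f.appTop g.appTop fst.appTop snd.appTop := by
  have key := isIso_pushoutSection_of_isQuasiSeparated_of_flat_right h.flip (US := ⊤) (UT := ⊤)
    (UX := ⊤) le_top le_top (UY := ⊤) (by simp) (isAffineOpen_top Z) (isAffineOpen_top X)
    isCompact_univ isQuasiSeparated_univ
  have := ((isIso_pushoutSection_iff h.flip (US := ⊤) (UT := ⊤)
    (UX := ⊤) le_top le_top (UY := ⊤) (by simp)).1 key).flip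
  convert this using 1
  · exact (Scheme.Hom.appLE_eq_app f).symm
  · exact (Scheme.Hom.appLE_eq_app g).symm
  · exact (Scheme.Hom.appLE_eq_app fst).symm
  · exact (Scheme.Hom.appLE_eq_app snd).symm


section Sat
variable (D : SchDD p) {Ubar : Scheme.{u}} (u : Ubar ⟶ S) (π : D.obj.left ⟶ Ubar)
  (hsq : D.obj.hom ≫ p = π ≫ u)
  (hπ : act D ≫ π = pullback.snd p (D.obj.hom ≫ p) ≫ π)

/-- the comparison map `V ⟶ X ×_S Ū` -/
noncomputable abbrev bet : D.obj.left ⟶ pullback p u := pullback.lift D.obj.hom π hsq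

include hπ in
/-- the image of `V` in `X ×_S Ū` is saturated for the projection to `Ū` -/
theorem mem_range_bet (y : ↥(pullback p u)) (v : ↥D.obj.left)
    (h : (pullback.snd p u) y = π v) : y ∈ Set.range (bet D u π hsq) := by
  obtain ⟨z, hz1, hz2⟩ := Scheme.Pullback.exists_preimage_pullback (f := pullback.snd p u) (g := π) y v h
  let Z := pullback (pullback.snd p u) π
  let s : Spec (Z.residueField z) ⟶ Z := Z.fromSpecResidueField z
  let yt : Spec (Z.residueField z) ⟶ pullback p u := s ≫ pullback.fst _ _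
  let vt : Spec (Z.residueField z) ⟶ D.obj.left := s ≫ pullback.snd _ _
  have hyv : yt ≫ pullback.snd p u = vt ≫ π := by
    simp only [yt, vt, Category.assoc, pullback.condition]
  let x₁ : Spec (Z.residueField z) ⟶ X := yt ≫ pullback.fst p u
  let x₀ : Spec (Z.residueField z) ⟶ X := vt ≫ D.obj.hom
  have h01 : x₀ ≫ p = x₁ ≫ p := by
    calc x₀ ≫ p = vt ≫ D.obj.hom ≫ p := Category.assoc _ _ _
      _ = (vt ≫ π) ≫ u := by rw [hsq]; exact (Category.assoc _ _ _).symm
      _ = (yt ≫ pullback.snd p u) ≫ u := by rw [hyv]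
      _ = yt ≫ pullback.fst p u ≫ p := by rw [pullback.condition]; exact Category.assoc _ _ _
      _ = x₁ ≫ p := (Category.assoc _ _ _).symm
  let w := D.φ x₀ x₁ h01 ⟨vt, rfl⟩
  have hw : w.1 ≫ bet D u π hsq = yt := by
    apply pullback.hom_ext
    · rw [Category.assoc, pullback.lift_fst]
      exact w.2
    · rw [Category.assoc, pullback.lift_snd, hyv]
      have := φ_eq_act D x₀ x₁ h01 ⟨vt, rfl⟩
      change w.1 = _ at this
      rw [this, Category.assoc, hπ, pullback.lift_snd_assoc]
  obtain ⟨pt⟩ : Nonempty ↥(Spec (Z.residueField z)) := inferInstance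
  refine ⟨w.1 pt, ?_⟩
  rw [← Scheme.Hom.comp_apply, hw, ← hz1]
  simp only [yt, s, Scheme.Hom.comp_apply]
  congr 1
  exact Scheme.fromSpecResidueField_apply _ _

end Sat

section Open
variable [Flat p] [Surjective p] [QuasiCompact p] (D : SchDD p) {Ubar : Scheme.{u}} (u : Ubar ⟶ S)
  (π : D.obj.left ⟶ Ubar) (hsq : D.obj.hom ≫ p = π ≫ u)
  (hπ : act D ≫ π = pullback.snd p (D.obj.hom ≫ p) ≫ π)
  [IsOpenImmersion (bet D u π hsq)]

include hπ in
omit [Flat p] [Surjective p] [QuasiCompact p] [IsOpenImmersion (bet D u π hsq)] in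
theorem preimage_range_π :
    (pullback.snd p u) ⁻¹' (Set.range π) = Set.range (bet D u π hsq) := by
  ext y
  constructor
  · rintro ⟨v, hv⟩
    exact mem_range_bet D u π hsq hπ y v hv.symm
  · rintro ⟨v, rfl⟩
    exact ⟨v, by rw [← Scheme.Hom.comp_apply, pullback.lift_snd]⟩

include hπ u hsq in
theorem isOpen_range_π : IsOpen (Set.range π) := by
  have hq : Topology.IsQuotientMap (pullback.snd p u) := Flat.isQuotientMap_of_surjective _
  rw [← hq.isOpen_preimage, preimage_range_π D u π hsq hπ]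
  exact (bet D u π hsq).isOpenEmbedding.isOpen_range

include hπ hsq in
theorem exists_iso_toDD_of_isOpenImmersion :
    ∃ U : Ubar.Opens, (U : Set Ubar) = Set.range π ∧
      Nonempty ((toDD p).obj (Over.mk (U.ι ≫ u)) ≅ D) := by
  let V := D.obj.left
  let q : V ⟶ X := D.obj.hom
  let U : Ubar.Opens := ⟨Set.range π, isOpen_range_π D u π hsq hπ⟩
  have hr : Set.range π ⊆ Set.range U.ι := by
    rw [Scheme.Opens.range_ι]
    exact subset_rfl
  let π' : V ⟶ U := IsOpenImmersion.lift U.ι π hr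
  have hπ' : π' ≫ U.ι = π := IsOpenImmersion.lift_fac _ _ _
  have hsq' : q ≫ p = π' ≫ U.ι ≫ u := by rw [← Category.assoc, hπ', hsq]
  let β' : V ⟶ pullback p (U.ι ≫ u) := pullback.lift q π' hsq'
  let j : pullback p (U.ι ≫ u) ⟶ pullback p u :=
    pullback.map p (U.ι ≫ u) p u (𝟙 X) U.ι (𝟙 S) (by simp) (by simp)
  have hj1 : j ≫ pullback.fst p u = pullback.fst p (U.ι ≫ u) :=
    (pullback.lift_fst _ _ _).trans (Category.comp_id _)
  have hj2 : j ≫ pullback.snd p u = pullback.snd p (U.ι ≫ u) ≫ U.ι :=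
    pullback.lift_snd _ _ _
  have hj : IsPullback j (pullback.snd p (U.ι ≫ u)) (pullback.snd p u) U.ι := by
    refine IsPullback.of_right ?_ hj2 (IsPullback.of_hasPullback p u)
    rw [hj1]
    exact IsPullback.of_hasPullback p (U.ι ≫ u)
  have hjo : IsOpenImmersion j :=
    MorphismProperty.of_isPullback (P := @IsOpenImmersion) hj.flip inferInstance
  have hrange : Set.range j = (pullback.snd p u) ⁻¹' (U : Set Ubar) := range_fst_of_isPullback hj
  have hβj : β' ≫ j = bet D u π hsq := by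
    apply pullback.hom_ext
    · rw [Category.assoc, hj1, pullback.lift_fst, pullback.lift_fst]
    · rw [Category.assoc, hj2, pullback.lift_snd_assoc, pullback.lift_snd, hπ']
  have hβjo : IsOpenImmersion (β' ≫ j) := by rw [hβj]; infer_instance
  have hβo : IsOpenImmersion β' := IsOpenImmersion.of_comp β' j
  have hβs : Surjective β' := by
    refine ⟨fun z => ?_⟩
    have hz : j z ∈ Set.range (bet D u π hsq) := by
      rw [← preimage_range_π D u π hsq hπ]
      have : j z ∈ Set.range j := ⟨z, rfl⟩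
      rw [hrange] at this
      exact this
    obtain ⟨v, hv⟩ := hz
    refine ⟨v, ?_⟩
    apply j.isOpenEmbedding.injective
    rw [← Scheme.Hom.comp_apply, hβj, hv]
  have hβ : IsIso β' := (isIso_iff_isOpenImmersion_and_surjective _).2 ⟨hβo, hβs⟩
  have hβ1 : β' ≫ pullback.fst p (U.ι ≫ u) = q := pullback.lift_fst _ _ _
  have hβ2 : β' ≫ pullback.snd p (U.ι ≫ u) = π' := pullback.lift_snd _ _ _
  have hπ'' : act D ≫ π' = pullback.snd p (D.obj.hom ≫ p) ≫ π' := by
    rw [← cancel_mono U.ι, Category.assoc, Category.assoc, hπ', hπ]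
  let Uo : Over S := Over.mk (U.ι ≫ u)
  let f : D ⟶ (toDD p).obj Uo :=
    ⟨Over.homMk β' hβ1, fun T x₀ x₁ h v w hw => by
      have hw' : (w.1 : T ⟶ pullback p (U.ι ≫ u)) = v.1 ≫ β' := hw
      apply pullback.hom_ext
      · refine (pullback.lift_fst _ _ _).trans ?_
        change x₁ = ((D.φ x₀ x₁ h v).1 ≫ β') ≫ pullback.fst p (U.ι ≫ u)
        rw [Category.assoc, hβ1]
        exact ((D.φ x₀ x₁ h v).2).symm
      · refine (pullback.lift_snd _ _ _).trans ?_
        have aux : ∀ (w' : T ⟶ pullback p (U.ι ≫ u)), w' = v.1 ≫ β' →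
            w' ≫ pullback.snd p (U.ι ≫ u) = v.1 ≫ π' := fun w' e => by
          rw [e, Category.assoc, hβ2]
        have e1 := aux w.1 hw
        have e2 : ((D.φ x₀ x₁ h v).1 ≫ β') ≫ pullback.snd p (U.ι ≫ u) = v.1 ≫ π' := by
          rw [Category.assoc, hβ2, φ_eq_act, Category.assoc, hπ'', pullback.lift_snd_assoc]
        exact e1.trans e2.symm⟩
  have hf : IsIso f.hom := by
    have : IsIso ((Over.forget X).map f.hom) := hβ
    exact isIso_of_reflects_iso f.hom (Over.forget X)
  have := isIso_of_isIso_hom f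
  exact ⟨U, rfl, ⟨(asIso f).symm⟩⟩

end Open

section Core
variable [IsAffine X] [IsAffine S] [Flat p] (D : SchDD p) [CompactSpace D.obj.left]
  [QuasiSeparatedSpace D.obj.left]

set_option backward.isDefEq.respectTransparency.types false in
instance : IsAffineHom (pullback.snd p (D.obj.hom ≫ p)) :=
  MorphismProperty.pullback_snd (P := @IsAffineHom) _ _ inferInstance

instance : CompactSpace (TT D) :=
  QuasiCompact.compactSpace_of_compactSpace (pullback.snd p (D.obj.hom ≫ p))

instance : QuasiSeparatedSpace (TT D) :=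
  quasiSeparatedSpace_of_quasiSeparated (pullback.snd p (D.obj.hom ≫ p))

include p in
/-- the ring-level output for a quasi-compact quasi-separated total space -/
theorem exists_ring_qcqs :
    ∃ (B₀ : CommRingCat.{u}) (ι : B₀ ⟶ Γ(D.obj.left, ⊤)) (a₀ : Γ(S, ⊤) ⟶ B₀),
      ι ≫ (act D).appTop = ι ≫ (pullback.snd p (D.obj.hom ≫ p)).appTop ∧
      a₀ ≫ ι = p.appTop ≫ D.obj.hom.appTop ∧ IsPushout p.appTop a₀ D.obj.hom.appTop ι := by
  have h₁ := isPushout_appTop_of_isPullback_of_flat (IsPullback.of_hasPullback p (D.obj.hom ≫ p))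
  have h₂ := isPushout_appTop_of_isPullback_of_flat
    (IsPullback.of_hasPullback p (pullback.fst p (D.obj.hom ≫ p) ≫ p))
  rw [Scheme.Hom.comp_appTop] at h₁ h₂
  refine DescRing.exists_isPushout_of_coaction p.appTop D.obj.hom.appTop _ _ h₁ _ _ h₂
    (Scheme.Hom.flat_appTop p) (act D).appTop ?_ (unit D).appTop ?_ ?_ ?_ (m₁ D).appTop
    (m₂ D).appTop ?_ ?_ ?_ ?_ ?_
  · rw [← Scheme.Hom.comp_appTop, act_hom]
  · rw [← Scheme.Hom.comp_appTop]
    congr 1
    exact pullback.lift_fst _ _ _
  · rw [← Scheme.Hom.comp_appTop]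
    have : unit D ≫ pullback.snd p (D.obj.hom ≫ p) = 𝟙 _ := pullback.lift_snd _ _ _
    rw [this]
    rfl
  · rw [← Scheme.Hom.comp_appTop, unit_act]
    rfl
  · rw [← Scheme.Hom.comp_appTop]
    congr 1
    exact pullback.lift_fst _ _ _
  · rw [← Scheme.Hom.comp_appTop, ← Scheme.Hom.comp_appTop]
    congr 1
    exact pullback.lift_snd _ _ _
  · rw [← Scheme.Hom.comp_appTop]
    congr 1
    exact pullback.lift_fst _ _ _
  · rw [← Scheme.Hom.comp_appTop, ← Scheme.Hom.comp_appTop]
    congr 1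
    exact pullback.lift_snd _ _ _
  · rw [← Scheme.Hom.comp_appTop, ← Scheme.Hom.comp_appTop, m_assoc]

end Core

section Final
variable [IsAffine X] [IsAffine S] [Flat p] [Surjective p] (D : SchDD p)
  [D.obj.left.IsQuasiAffine]

/-- **Quasi-affine core of effective descent.** For `p : X ⟶ S` a flat surjective morphism of
affine schemes, every descent datum with quasi-affine total space is effective (by a
quasi-affine scheme). -/
theorem exists_iso_toDD_of_isQuasiAffine :
    ∃ U : Over S, U.left.IsQuasiAffine ∧ Nonempty ((toDD p).obj U ≅ D) := by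
  have : QuasiSeparatedSpace D.obj.left := inferInstance
  obtain ⟨B₀, ι, a₀, hι, ha₀, hpo⟩ := exists_ring_qcqs D
  let V := D.obj.left
  let q : V ⟶ X := D.obj.hom
  let u : Spec B₀ ⟶ S := Spec.map a₀ ≫ S.isoSpec.inv
  let π : V ⟶ Spec B₀ := V.toSpecΓ ≫ Spec.map ι
  have hsq0 : IsPullback (Spec.map D.obj.hom.appTop) (Spec.map ι) (Spec.map p.appTop)
      (Spec.map a₀) := isPullback_SpecMap_of_isPushout _ _ _ _ hpo
  have hsq1 : IsPullback (Spec.map D.obj.hom.appTop ≫ X.isoSpec.inv) (Spec.map ι) p u := by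
    refine IsPullback.of_iso hsq0 (Iso.refl _) X.isoSpec.symm (Iso.refl _) S.isoSpec.symm
      ?_ ?_ ?_ ?_
    · simp
    · simp
    · exact Scheme.isoSpec_inv_naturality p
    · simp [u]
  have e : V.toSpecΓ ≫ Spec.map D.obj.hom.appTop ≫ X.isoSpec.inv = q := by
    rw [← Scheme.toSpecΓ_naturality_assoc, ← Scheme.isoSpec_hom, Iso.hom_inv_id, Category.comp_id]
  have hsq : D.obj.hom ≫ p = π ≫ u := by
    change q ≫ p = _
    rw [← e]
    have hw := hsq1.w
    simp only [Category.assoc] at hw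
    simp only [Category.assoc, π]
    rw [hw]
  have hπ : act D ≫ π = pullback.snd p (D.obj.hom ≫ p) ≫ π := by
    change act D ≫ V.toSpecΓ ≫ Spec.map ι = pullback.snd p (D.obj.hom ≫ p) ≫ V.toSpecΓ ≫ Spec.map ι
    rw [Scheme.toSpecΓ_naturality_assoc, Scheme.toSpecΓ_naturality_assoc, ← Spec.map_comp,
      ← Spec.map_comp, hι]
  have hβ : bet D u π hsq = V.toSpecΓ ≫ hsq1.isoPullback.hom := by
    apply pullback.hom_ext
    · rw [pullback.lift_fst, Category.assoc, IsPullback.isoPullback_hom_fst]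
      exact e.symm
    · rw [pullback.lift_snd, Category.assoc, IsPullback.isoPullback_hom_snd]
  have : IsOpenImmersion (bet D u π hsq) := by
    rw [hβ]
    infer_instance
  obtain ⟨U, hU, ⟨e⟩⟩ := exists_iso_toDD_of_isOpenImmersion D u π hsq hπ
  refine ⟨Over.mk (U.ι ≫ u), ?_, ⟨e⟩⟩
  have : CompactSpace (U : Scheme.{u}) := isCompact_iff_compactSpace.1 (by
    rw [hU]
    exact isCompact_range π.continuous)
  exact Scheme.IsQuasiAffine.of_isImmersion (X := (U : Scheme.{u})) U.ι

end Final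

end Groth.Agent.Lib.Helper24.DescQAff
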