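import Groth.Agent.Lib.Helper24.DescSat
set_option autoImplicit false
set_option linter.unusedSectionVars false
universe u
open CategoryTheory CategoryTheory.Limits AlgebraicGeometry

/-! # Restriction of a descent datum to a stable open of its total space -/

namespace Groth.Agent.Lib.Helper24.DescFin
open Desc Groth.Agent.Lib.Helper24.DescAffine Groth.Agent.Lib.Helper24.DescSat

variable {X S : Scheme.{u}} {p : X ⟶ S} (D : SchDD p)

/-- an open of the total space stable under the gluing bijections -/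
def IsStable (W : D.obj.left.Opens) : Prop :=
  ∀ ⦃T : Scheme.{u}⦄ (x₀ x₁ : T ⟶ X) (h : x₀ ≫ p = x₁ ≫ p) (n : Lifts D.obj x₀),
    Set.range n.1 ⊆ (W : Set D.obj.left) → Set.range (D.φ x₀ x₁ h n).1 ⊆ (W : Set D.obj.left)

variable {D} (W : D.obj.left.Opens)

/-- the restricted total space -/
abbrev resObj : Over X := Over.mk (W.ι ≫ D.obj.hom)

/-- a point of the open as a point of the total space -/
def res {T : Scheme.{u}} {x : T ⟶ X} (n : Lifts (resObj W) x) : Lifts D.obj x :=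
  ⟨n.1 ≫ W.ι, by rw [Category.assoc]; exact n.2⟩

lemma range_res {T : Scheme.{u}} {x : T ⟶ X} (n : Lifts (resObj W) x) :
    Set.range (res W n).1 ⊆ (W : Set D.obj.left) := by
  rintro _ ⟨t, rfl⟩
  change (n.1 ≫ W.ι) t ∈ W
  rw [Scheme.Hom.comp_apply]
  exact (n.1 t).2

/-- a point of the total space with values in the open as a point of the open -/
noncomputable def lft {T : Scheme.{u}} {x : T ⟶ X} (m : Lifts D.obj x)
    (hm : Set.range m.1 ⊆ (W : Set D.obj.left)) : Lifts (resObj W) x :=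
  ⟨IsOpenImmersion.lift W.ι m.1 (by rw [Scheme.Opens.range_ι]; exact hm), by
    change IsOpenImmersion.lift W.ι m.1 _ ≫ W.ι ≫ D.obj.hom = x
    rw [← Category.assoc, IsOpenImmersion.lift_fac]
    exact m.2⟩

lemma lft_ι {T : Scheme.{u}} {x : T ⟶ X} (m : Lifts D.obj x)
    (hm : Set.range m.1 ⊆ (W : Set D.obj.left)) : (lft W m hm).1 ≫ W.ι = m.1 :=
  IsOpenImmersion.lift_fac _ _ _

lemma res_lft {T : Scheme.{u}} {x : T ⟶ X} (m : Lifts D.obj x)
    (hm : Set.range m.1 ⊆ (W : Set D.obj.left)) : res W (lft W m hm) = m :=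
  Subtype.ext (lft_ι W m hm)

lemma lft_res {T : Scheme.{u}} {x : T ⟶ X} (n : Lifts (resObj W) x) :
    lft W (res W n) (range_res W n) = n := by
  apply Subtype.ext
  rw [← cancel_mono W.ι, lft_ι]
  rfl

lemma res_injective {T : Scheme.{u}} {x : T ⟶ X} {n n' : Lifts (resObj W) x}
    (h : res W n = res W n') : n = n' := by
  rw [← lft_res W n, ← lft_res W n']
  congr 1

variable (hW : IsStable D W)

/-- the restricted gluing bijections -/
noncomputable def rφ {T : Scheme.{u}} (x₀ x₁ : T ⟶ X) (h : x₀ ≫ p = x₁ ≫ p) :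
    Lifts (resObj W) x₀ ≃ Lifts (resObj W) x₁ where
  toFun := fun n => lft W (D.φ x₀ x₁ h (res W n)) (hW x₀ x₁ h _ (range_res W n))
  invFun := fun n => lft W (D.φ x₁ x₀ h.symm (res W n)) (hW x₁ x₀ h.symm _ (range_res W n))
  left_inv := fun n => by
    apply res_injective W
    rw [res_lft, res_lft, D.φ_comp, D.φ_self]
  right_inv := fun n => by
    apply res_injective W
    rw [res_lft, res_lft, D.φ_comp, D.φ_self]

lemma res_rφ {T : Scheme.{u}} (x₀ x₁ : T ⟶ X) (h : x₀ ≫ p = x₁ ≫ p)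
    (n : Lifts (resObj W) x₀) : res W (rφ W hW x₀ x₁ h n) = D.φ x₀ x₁ h (res W n) :=
  res_lft W (D.φ x₀ x₁ h (res W n)) (hW x₀ x₁ h _ (range_res W n))

/-- the restricted descent datum -/
noncomputable def restrictDD : SchDD p where
  obj := resObj W
  φ T x₀ x₁ h := rφ W hW x₀ x₁ h
  φ_natural T T' g x₀ x₁ h h' v v' hv := by
    have e1 := congrArg Subtype.val (res_rφ W hW (g ≫ x₀) (g ≫ x₁) h' v')
    have e2 := congrArg Subtype.val (res_rφ W hW x₀ x₁ h v)
    rw [← cancel_mono W.ι]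
    refine e1.trans ?_
    rw [Category.assoc]
    refine Eq.trans ?_ (congrArg (g ≫ ·) e2.symm)
    refine D.φ_natural g x₀ x₁ h h' (res W v) (res W v') ?_
    change v'.1 ≫ W.ι = g ≫ v.1 ≫ W.ι
    rw [hv, Category.assoc]
  φ_self T x v := by
    apply res_injective W
    rw [res_rφ, D.φ_self]
  φ_comp T x₀ x₁ x₂ h₀₁ h₁₂ v := by
    apply res_injective W
    rw [res_rφ, res_rφ, res_rφ, D.φ_comp]

lemma restrictDD_φ {T : Scheme.{u}} (x₀ x₁ : T ⟶ X) (h : x₀ ≫ p = x₁ ≫ p)
    (n : Lifts (resObj W) x₀) :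
    res W ((restrictDD W hW).φ x₀ x₁ h n) = D.φ x₀ x₁ h (res W n) := res_rφ W hW x₀ x₁ h n

/-- the inclusion of the restricted descent datum -/
noncomputable def restrictHom : restrictDD W hW ⟶ D :=
  ⟨Over.homMk W.ι rfl, fun T x₀ x₁ h v w hw => by
    have e : w = res W v := Subtype.ext hw
    rw [e]
    exact (congrArg Subtype.val (restrictDD_φ W hW x₀ x₁ h v)).symm⟩

lemma restrictHom_left : (restrictHom W hW).hom.left = W.ι := rfl

instance : IsOpenImmersion (restrictHom W hW).hom.left :=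
  inferInstanceAs (IsOpenImmersion W.ι)

section Sat
variable [Flat p] [LocallyOfFinitePresentation p] (D)

/-- saturations are stable -/
theorem isStable_sat (A : D.obj.left.Opens) : IsStable D (sat D A) := by
  intro T x₀ x₁ h n hn
  obtain ⟨T', c, a, hcF, hcL, hcS, ha, h', e⟩ := exists_cover_of_range_subset_sat D A n.1 hn
  have hn2 : n.1 ≫ D.obj.hom = x₀ := n.2
  have hx : c ≫ n.1 ≫ D.obj.hom = c ≫ x₀ := by rw [hn2]
  -- pull everything back to the cover
  have h1 : ((c ≫ x₀) ≫ p) = (c ≫ x₁) ≫ p := by rw [Category.assoc, h, Category.assoc]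
  have key : c ≫ (D.φ x₀ x₁ h n).1 =
      (D.φ (a ≫ D.obj.hom) (c ≫ x₁) (by rw [h', hx, h1])
        ⟨a, rfl⟩).1 := by
    have e1 := D.φ_natural c x₀ x₁ h h1 n ⟨c ≫ n.1, by rw [Category.assoc, hn2]⟩ rfl
    rw [← e1]
    have e2 : (⟨c ≫ n.1, by rw [Category.assoc, hn2]⟩ : Lifts D.obj (c ≫ x₀)) =
        D.φ (a ≫ D.obj.hom) (c ≫ x₀) (by rw [h', hx]) ⟨a, rfl⟩ := by
      apply Subtype.ext
      refine e.symm.trans ?_
      exact φ_congr D rfl hx _ _ _ _ rfl
    rw [e2, D.φ_comp]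
  rintro _ ⟨t, rfl⟩
  obtain ⟨t', rfl⟩ := hcS.surj t
  rw [← Scheme.Hom.comp_apply, key]
  exact range_φ_subset_sat D A _ _ _ ⟨a, rfl⟩ ha ⟨t', rfl⟩

end Sat

end Groth.Agent.Lib.Helper24.DescFin
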