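import Groth.Agent.Lib.Helper24.QuotAtlas
import Groth.Prelude.Def_AlgSpRep
import Mathlib.CategoryTheory.Sites.RegularEpi
set_option autoImplicit false
set_option linter.unusedSectionVars false
universe u
open CategoryTheory CategoryTheory.Limits AlgebraicGeometry Opposite

/-! Étale sheaves over a scheme: a presheaf which is an étale sheaf with a representable étale
surjective chart from a scheme whose kernel pair is a scheme is the fppf quotient, hence an
algebraic space. -/

namespace Groth.Agent.Lib.Helper24.EtSheaf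
open AlgSp Groth.Agent.Lib.Helper14.AS Groth.Agent.Lib.Helper24.QuotAtlas

variable {S : Scheme.{u}}

/-- the big étale topology on schemes over `S` -/
abbrev Jet (S : Scheme.{u}) : GrothendieckTopology (Over S) := QuotSh.J Scheme.etalePrecoverage S

/-- the étale precoverage on `Over S` -/
abbrev KSet (S : Scheme.{u}) : Precoverage (Over S) :=
  (Scheme.etalePrecoverage.{u}).comap (Over.forget S)

set_option backward.isDefEq.respectTransparency.types false in
instance : Precoverage.IsStableUnderBaseChange (Scheme.etalePrecoverage.{u}) := by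
  unfold Scheme.etalePrecoverage
  infer_instance

set_option backward.isDefEq.respectTransparency.types false in
instance : Precoverage.HasPullbacks (Scheme.etalePrecoverage.{u}) := by
  unfold Scheme.etalePrecoverage
  infer_instance

theorem Jet_eq (S : Scheme.{u}) : Jet S = (KSet S).toGrothendieck :=
  over_toGrothendieck_eq_toGrothendieck_comap_forget _ S

lemma etalePrecoverage_le : Scheme.etalePrecoverage.{u} ≤ Scheme.fppfPrecoverage.{u} :=
  Scheme.precoverage_mono fun _ _ f (_ : Etale f) => ⟨inferInstance, inferInstance⟩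

theorem Jet_le (S : Scheme.{u}) : Jet S ≤ AlgSp.J S := by
  rw [Jet_eq, J_eq_toGrothendieck]
  refine Precoverage.toGrothendieck_mono ?_
  intro T R hR
  rw [Precoverage.mem_comap_iff] at hR ⊢
  exact etalePrecoverage_le _ hR

theorem generate_singleton_mem_Jet {V U : Over S} (g : V ⟶ U) [Etale g.left] [Surjective g.left] :
    Sieve.generate (Presieve.singleton g) ∈ Jet S U := by
  rw [Jet_eq]
  refine Precoverage.generate_mem_toGrothendieck ?_
  rw [Precoverage.mem_comap_iff, Presieve.map_singleton, ← Presieve.ofArrows_pUnit.{0}]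
  exact (g.left.cover (P := @Etale) ‹_›).mem₀


/-- étale sheaves of sets over `S` -/
abbrev ShEt (S : Scheme.{u}) : Type (u + 2) := Sheaf (Jet S) (Type (u + 1))

/-- an fppf sheaf as an étale sheaf -/
def toEt (F : Sp S) : ShEt S := ⟨F.obj, Presheaf.IsSheaf.of_le (Jet_le S) F.property⟩

/-- a map of fppf sheaves as a map of étale sheaves -/
def toEtMap {F G : Sp S} (f : F ⟶ G) : toEt F ⟶ toEt G := ⟨f.hom⟩

lemma epi_of_etale_lifts {A B : ShEt S} (f : A ⟶ B)
    (h : ∀ (T : Over S) (x : B.obj.obj (op T)), ∃ (T' : Over S) (c : T' ⟶ T), Etale c.left ∧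
      Surjective c.left ∧ ∃ y : A.obj.obj (op T'), f.hom.app _ y = B.obj.map c.op x) : Epi f := by
  rw [← Sheaf.isLocallySurjective_iff_epi]
  constructor
  intro T x
  obtain ⟨T', c, hc1, hc2, y, hy⟩ := h T x
  refine (Jet S).superset_covering ?_ (generate_singleton_mem_Jet c)
  rw [Sieve.generate_le_iff]
  rintro _ _ ⟨⟩
  exact ⟨y, hy⟩

/-- an étale sheaf with a chart from a scheme which is étale locally surjective and whose kernel
pair is an étale equivalence relation of schemes is an algebraic space -/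
theorem isAlgSpaceP_of_etale_sheaf {F : PSp S} (h1 : Presheaf.IsSheaf (Jet S) F) {R U : Over S}
    (s t : R ⟶ U) (p : (pyon S).obj U ⟶ F) (hR : IsEtaleEqvRel s t)
    (sq : IsPullback ((pyon S).map t) ((pyon S).map s) p p)
    (hp : ∀ (T : Over S) (x : F.obj (op T)), ∃ (T' : Over S) (c : T' ⟶ T), Etale c.left ∧
      Surjective c.left ∧ ∃ a : T' ⟶ U, p.app _ ⟨a⟩ = F.map c.op x) : IsAlgSpaceP F := by
  have hG : IsAlgSpace (Qs s t) := isAlgSpace_quotSp hR
  have hpres := isPresentation_ps hR
  have sqπ := hpres.isPullback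
  let Fe : ShEt S := ⟨F, h1⟩
  let pe : toEt ((yon S).obj U) ⟶ Fe := ⟨p⟩
  let πe : toEt ((yon S).obj U) ⟶ toEt (Qs s t) := toEtMap (ps s t)
  let se : toEt ((yon S).obj R) ⟶ toEt ((yon S).obj U) := toEtMap ((yon S).map s)
  let te : toEt ((yon S).obj R) ⟶ toEt ((yon S).obj U) := toEtMap ((yon S).map t)
  have sq1 : IsPullback te se pe pe :=
    IsPullback.of_map_of_faithful (sheafToPresheaf (Jet S) (Type (u + 1))) sq
  have sq2 : IsPullback te se πe πe :=
    IsPullback.of_map_of_faithful (sheafToPresheaf (Jet S) (Type (u + 1)))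
      (sqπ.map (sheafToPresheaf (AlgSp.J S) (Type (u + 1))))
  have hpe : Epi pe := by
    refine epi_of_etale_lifts pe fun T x => ?_
    obtain ⟨T', c, hc1, hc2, a, ha⟩ := hp T x
    exact ⟨T', c, hc1, hc2, ⟨a⟩, ha⟩
  have hπe : Epi πe := by
    refine epi_of_etale_lifts πe fun T x => ?_
    let g : (yon S).obj T ⟶ Qs s t := yEquiv.symm x
    have hr := hpres.etale.rep
    have i1 : Etale (hr.snd g).left := hpres.etale.property_snd g
    have i3 : Surjective (hr.snd g).left := hpres.surjective.property g _ _ (hr.isPullback g)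
    refine ⟨_, hr.snd g, i1, i3, yEquiv (hr.fst g), ?_⟩
    have h1 := (AlgSp.J S).uliftYonedaEquiv_comp (hr.fst g) (ps s t)
    have h2 := (AlgSp.J S).uliftYonedaEquiv_naturality g (hr.snd g)
    rw [hr.w g] at h1
    rw [← h2] at h1
    have h3 : yEquiv g = x := Equiv.apply_symm_apply _ _
    rw [h3] at h1
    exact h1.symm
  have hc1 : IsColimit (Cofork.ofπ pe sq1.w) := by
    have hreg : IsRegularEpi pe := IsRegularEpiCategory.regularEpiOfEpi pe
    have : EffectiveEpi pe := (isRegularEpi_iff_effectiveEpi pe).1 hreg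
    exact isColimitCoforkOfEffectiveEpi pe (PullbackCone.mk _ _ sq1.w) sq1.isLimit
  have hc2 : IsColimit (Cofork.ofπ πe sq2.w) := by
    have hreg : IsRegularEpi πe := IsRegularEpiCategory.regularEpiOfEpi πe
    have : EffectiveEpi πe := (isRegularEpi_iff_effectiveEpi πe).1 hreg
    exact isColimitCoforkOfEffectiveEpi πe (PullbackCone.mk _ _ sq2.w) sq2.isLimit
  let i : Fe ≅ toEt (Qs s t) := hc1.coconePointUniqueUpToIso hc2
  let e : F ≅ (Qs s t).obj := (sheafToPresheaf (Jet S) (Type (u + 1))).mapIso i
  exact IsAlgSpaceP.of_iso ((isAlgSpaceP_obj_iff (Qs s t)).2 hG) e.symm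

end Groth.Agent.Lib.Helper24.EtSheaf
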