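import Groth.Agent.Lib.Helper24.DecentSpec
import Groth.Agent.Lib.Helper14.AlgSpDecent2
set_option autoImplicit false
set_option linter.unusedSectionVars false
set_option linter.unusedVariables false
set_option linter.style.haveILetI false
universe u
open CategoryTheory CategoryTheory.Limits AlgebraicGeometry Opposite

/-! Dimension theory of decent spaces via charts. -/

namespace Groth.Agent.Lib.Helper24.DecentDim
open AlgSp Groth.Agent.Lib.Helper14.AS Groth.Agent.Lib.Helper24.ZarGlue
open Groth.Agent.Lib.Helper24.DecentSpec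

section Top

variable {α : Type*} [TopologicalSpace α] [QuasiSober α] [T0Space α]

attribute [local instance] specializationOrder

theorem generic_component_iff_isMax (x : α) :
    (∃ T ∈ irreducibleComponents α, IsGenericPoint x T) ↔ IsMax x := by
  constructor
  · rintro ⟨T, hT, hx⟩ y hxy
    have h1 : y ⤳ x := hxy
    have h2 : closure {x} ⊆ closure {y} := specializes_iff_closure_subset.1 h1
    have h3 : closure {y} ⊆ T := hT.2 isIrreducible_singleton.closure (by rw [← hx.def]; exact h2)
    rw [← hx.def] at h3
    exact specializes_iff_closure_subset.2 h3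
  · intro hmax
    refine ⟨closure {x}, ⟨isIrreducible_singleton.closure, fun Z hZ hTZ => ?_⟩, rfl⟩
    obtain ⟨y, hy⟩ := QuasiSober.sober hZ.closure isClosed_closure
    have hxy : x ∈ closure {y} := by
      rw [hy.def]; exact subset_closure (hTZ (subset_closure rfl))
    have h1 : y ⤳ x := specializes_iff_mem_closure.2 hxy
    have h2 : x ⤳ y := hmax h1
    have h3 : closure {y} ⊆ closure {x} := specializes_iff_closure_subset.1 h2
    exact subset_closure.trans (hy.def ▸ h3)

theorem generic_component_iff_coheight (x : α) :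
    (∃ T ∈ irreducibleComponents α, IsGenericPoint x T) ↔ Order.coheight x = 0 := by
  rw [generic_component_iff_isMax, Order.coheight_eq_zero]

theorem topologicalKrullDim_eq_iSup_coheight :
    topologicalKrullDim α = ⨆ z : α, (Order.coheight z : WithBot ℕ∞) := by
  rw [topologicalKrullDim, Order.krullDim_eq_of_orderIso (irreducibleSetEquivPoints (α := α)),
    Order.krullDim_eq_iSup_coheight]

theorem topologicalKrullDim_open (O : TopologicalSpace.Opens α) :
    topologicalKrullDim (O : Set α) = ⨆ z : O, (Order.coheight (z : α) : WithBot ℕ∞) := by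
  haveI : QuasiSober (O : Set α) := O.isOpenEmbedding'.quasiSober
  rw [topologicalKrullDim_eq_iSup_coheight]
  congr 1
  ext z
  rw [← O.isOpenEmbedding'.coheight_eq]

end Top

variable {S : Scheme.{u}}

attribute [local instance] specializationOrder in
theorem ringKrullDim_stalk_eq (X : Space S) (hX : IsDecent X.obj) {U : Over S}
    (a : (yon S).obj U ⟶ X.obj) (hae : RepWith @Etale a) (u : ↥U.left) :
    haveI : T0Space (Points X.obj) := Groth.Agent.S10338.result X hX
    ringKrullDim ↥(U.left.presheaf.stalk u) = (Order.coheight (Points.ofPt a u) : WithBot ℕ∞) := by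
  haveI : T0Space (Points X.obj) := Groth.Agent.S10338.result X hX
  rw [AlgebraicGeometry.ringKrullDim_stalk_eq_coheight, coheight_ofPt X hX a hae u]

theorem exists_chart (X : Space S) (x : Points X.obj) :
    ∃ (U : Over S) (a : (yon S).obj U ⟶ X.obj) (u : ↥U.left), RepWith @Etale a ∧
      Points.ofPt a u = x := by
  obtain ⟨U, a, hae, has⟩ := X.property.atlas
  obtain ⟨u, hu⟩ := ofPt_surjective_of_repWith has x
  exact ⟨U, a, u, hae, hu⟩

attribute [local instance] specializationOrder in
/-- S10394 -/
theorem generic_iff_dim_zero (X : Space S) (hX : IsDecent X.obj) (x : Points X.obj) :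
    (∃ T ∈ irreducibleComponents (Points X.obj), IsGenericPoint x T) ↔
      HasAt (fun U u => ringKrullDim ↥(U.presheaf.stalk u) = 0) X.obj x := by
  haveI : T0Space (Points X.obj) := Groth.Agent.S10338.result X hX
  haveI : QuasiSober (Points X.obj) := Groth.Agent.S10339.result X hX
  rw [generic_component_iff_coheight]
  constructor
  · intro h
    obtain ⟨U, a, u, hae, hu⟩ := exists_chart X x
    refine ⟨U, a, u, hae, hu, ?_⟩
    change ringKrullDim ↥(U.left.presheaf.stalk u) = 0
    rw [ringKrullDim_stalk_eq X hX a hae u, hu, h]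
    rfl
  · rintro ⟨U, a, u, hae, hu, h⟩
    change ringKrullDim ↥(U.left.presheaf.stalk u) = 0 at h
    rw [ringKrullDim_stalk_eq X hX a hae u, hu] at h
    exact_mod_cast h

attribute [local instance] specializationOrder in
/-- S10395 -/
theorem generic_iff_of_etale {X Y : Space S} (hX : IsDecent X.obj) (f : Y ⟶ X)
    (hf : IsEtaleMor f.hom) (y : Points Y.obj) :
    (∃ T ∈ irreducibleComponents (Points Y.obj), IsGenericPoint y T) ↔
      (∃ T ∈ irreducibleComponents (Points X.obj), IsGenericPoint (Points.map f.hom y) T) := by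
  have hY : IsDecent Y.obj := isDecent_of_isEtaleMor Y.property X.property f.hom hf hX
  haveI : T0Space (Points X.obj) := Groth.Agent.S10338.result X hX
  haveI : QuasiSober (Points X.obj) := Groth.Agent.S10339.result X hX
  haveI : T0Space (Points Y.obj) := Groth.Agent.S10338.result Y hY
  haveI : QuasiSober (Points Y.obj) := Groth.Agent.S10339.result Y hY
  rw [generic_component_iff_coheight, generic_component_iff_coheight]
  obtain ⟨V, b, v, hbe, hv⟩ := exists_chart Y y
  have h1 := coheight_ofPt Y hY b hbe v
  have h2 := coheight_ofPt X hX (b ≫ f.hom) (hf b hbe) v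
  rw [← Points.map_ofPt, hv] at h2
  rw [hv] at h1
  rw [← h1, ← h2]

/-- explicit-instance form of `coheight_ofPt` -/
theorem coheight_ofPt' (X : Space S) (hX : IsDecent X.obj) {U : Over S}
    (a : (yon S).obj U ⟶ X.obj) (hae : RepWith @Etale a) (u : ↥U.left) :
    haveI : T0Space (Points X.obj) := Groth.Agent.S10338.result X hX
    @Order.coheight ↥U.left (specializationOrder ↥U.left).toPreorder u =
      @Order.coheight (Points X.obj) (specializationOrder (Points X.obj)).toPreorder
        (Points.ofPt a u) :=
  coheight_ofPt X hX a hae u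

/-- S10345 -/
theorem krullDim_eq_dim (X : Space S) (hX : IsDecent X.obj) :
    topologicalKrullDim (Points X.obj) = AlgSp.dim X.obj := by
  haveI : T0Space (Points X.obj) := Groth.Agent.S10338.result X hX
  haveI : QuasiSober (Points X.obj) := Groth.Agent.S10339.result X hX
  have e1 := topologicalKrullDim_eq_iSup_coheight (α := Points X.obj)
  have e2 := fun U : Over S => topologicalKrullDim_eq_iSup_coheight (α := ↥U.left)
  rw [e1, AlgSp.dim]
  apply le_antisymm
  · refine iSup_le fun x => ?_
    obtain ⟨U, a, u, hae, hu⟩ := exists_chart X x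
    refine le_iSup_of_le U (le_iSup_of_le a (le_iSup_of_le hae ?_))
    rw [e2 U, ← hu, ← coheight_ofPt' X hX a hae u]
    exact le_iSup (fun z : ↥U.left => ((@Order.coheight ↥U.left
      (specializationOrder ↥U.left).toPreorder z : ℕ∞) : WithBot ℕ∞)) u
  · refine iSup_le fun U => iSup_le fun a => iSup_le fun hae => ?_
    rw [e2 U]
    refine iSup_le fun u => ?_
    rw [coheight_ofPt' X hX a hae u]
    exact le_iSup (fun z : Points X.obj => ((@Order.coheight (Points X.obj)
      (specializationOrder (Points X.obj)).toPreorder z : ℕ∞) : WithBot ℕ∞)) _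

/-- S10346 -/
theorem localDim_eq (X : Space S) (hX : IsDecent X.obj) {U : Over S}
    (a : (yon S).obj U ⟶ X.obj) (ha : RepWith @Etale a) (u : ↥U.left) :
    FlatMor.localDim ↥U.left u = FlatMor.localDim (Points X.obj) (Points.ofPt a u) := by
  haveI : T0Space (Points X.obj) := Groth.Agent.S10338.result X hX
  haveI : QuasiSober (Points X.obj) := Groth.Agent.S10339.result X hX
  have hcont := Points.continuous_ofPt a
  have hopen := isOpenMap_ofPt a ha
  have e1 := fun O : TopologicalSpace.Opens (Points X.obj) => topologicalKrullDim_open O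
  have e2 := fun W : TopologicalSpace.Opens ↥U.left => topologicalKrullDim_open W
  unfold FlatMor.localDim
  apply le_antisymm
  · refine le_iInf fun O => ?_
    refine iInf_le_of_le ⟨⟨Points.ofPt a ⁻¹' (O.1 : Set (Points X.obj)), O.1.2.preimage hcont⟩, O.2⟩ ?_
    rw [e1, e2]
    refine iSup_le fun w => ?_
    rw [coheight_ofPt' X hX a ha (w : ↥U.left)]
    exact le_iSup (fun z : O.1 => ((@Order.coheight (Points X.obj)
      (specializationOrder (Points X.obj)).toPreorder (z : Points X.obj) : ℕ∞) : WithBot ℕ∞))
      ⟨Points.ofPt a (w : ↥U.left), w.2⟩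
  · refine le_iInf fun W => ?_
    refine iInf_le_of_le ⟨⟨Points.ofPt a '' (W.1 : Set ↥U.left), hopen _ W.1.2⟩, ⟨u, W.2, rfl⟩⟩ ?_
    rw [e1, e2]
    refine iSup_le fun z => ?_
    obtain ⟨w, hw, hz⟩ := z.2
    change ((@Order.coheight (Points X.obj)
      (specializationOrder (Points X.obj)).toPreorder (z : Points X.obj) : ℕ∞) : WithBot ℕ∞) ≤ _
    rw [← hz, ← coheight_ofPt' X hX a ha w]
    exact le_iSup (fun z : W.1 => ((@Order.coheight ↥U.left
      (specializationOrder ↥U.left).toPreorder (z : ↥U.left) : ℕ∞) : WithBot ℕ∞)) ⟨w, hw⟩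

end Groth.Agent.Lib.Helper24.DecentDim
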