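import Mathlib
import Groth.Prelude.Def_AlgSpInf
import Groth.Agent.Lib.Helper14.AlgSpSubsheaf
import Groth.Agent.Lib.Helper14.AlgSpPoints
import Groth.Agent.Lib.Helper14.AlgSpRepTo
import Groth.Agent.Lib.Helper14.AlgSpLargestOpen
import Groth.Agent.Lib.Helper24.DescSubsheaf

/-!
# Open subspaces of sheaves from open sets of points (helper24)
-/

set_option autoImplicit false
universe u
open CategoryTheory CategoryTheory.Limits AlgebraicGeometry Opposite AlgSp Topology
open Groth.Agent.Lib.Helper14.AS Groth.Agent.Lib.Helper24.ZarGlue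
open Groth.Agent.Lib.Helper24.DescSubsheaf

namespace Groth.Agent.Lib.Helper24.OpenSubSp

variable {S : Scheme.{u}}

/-- A point of `X` factors through an open immersion `u` as soon as it lands in the image. -/
theorem exists_lift_yon_of_range_subset {U X : Sp S} {u : U ⟶ X}
    (hu : RepWith @IsOpenImmersion u) {T : Over S} (a : (yon S).obj T ⟶ X)
    (h : ∀ t, Points.ofPt a t ∈ Set.range (Points.map u)) :
    ∃ c : (yon S).obj T ⟶ U, c ≫ u = a := by
  have sq := hu.rep.isPullback a
  have ho : IsOpenImmersion (hu.rep.snd a).left := hu.property_snd a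
  have hs : Function.Surjective (hu.rep.snd a).left := by
    intro t
    obtain ⟨y, hy⟩ := h t
    rw [Points.ofPt_eq_map_ofScheme a] at hy
    obtain ⟨z, -, hz2⟩ := points_exists_of_isPullback sq y _ hy
    obtain ⟨v, rfl⟩ := (Points.schemeHomeo _).surjective z
    refine ⟨v, ?_⟩
    exact (Points.schemeHomeo T).injective
      ((Points.map_yon_map_apply (hu.rep.snd a) v).symm.trans hz2)
  have : Surjective (hu.rep.snd a).left := ⟨hs⟩
  have hiso : IsIso (hu.rep.snd a).left := by
    refine isIso_of_isOpenImmersion_of_opensRange_eq_top _ ?_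
    apply TopologicalSpace.Opens.ext
    exact Set.range_eq_univ.2 hs
  have hiso' : IsIso (hu.rep.snd a) := by
    have : IsIso ((Over.forget S).map (hu.rep.snd a)) := hiso
    exact isIso_of_reflects_iso _ (Over.forget S)
  refine ⟨(yon S).map (inv (hu.rep.snd a)) ≫ hu.rep.fst a, ?_⟩
  rw [Category.assoc, sq.w, ← Category.assoc, ← Functor.map_comp, IsIso.inv_hom_id,
    CategoryTheory.Functor.map_id, Category.id_comp]

/-- A morphism factors through an open immersion as soon as its points land in the image. -/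
theorem exists_lift_of_range_subset {U X F : Sp S} {u : U ⟶ X}
    (hu : RepWith @IsOpenImmersion u) (a : F ⟶ X)
    (h : Set.range (Points.map a) ⊆ Set.range (Points.map u)) : ∃ c : F ⟶ U, c ≫ u = a := by
  haveI := mono_of_openImmersion hu
  refine exists_lift_of_points u a fun T x => ?_
  refine exists_lift_yon_of_range_subset hu (x ≫ a) fun t => ?_
  rw [← Points.map_ofPt]
  exact h ⟨_, rfl⟩

/-- The predicate "all points land in `W`". -/
def openPred {Y : Sp S} (W : Set (Points Y)) : SubPred Y where
  P T g := ∀ t, Points.ofPt g t ∈ W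
  comp T T' t g hg t' := by
    rw [ofPt_yon_map_comp]
    exact hg _
  loc T g R hR H t := by
    obtain ⟨W', w, hw, ⟨y, rfl⟩⟩ := exists_mem_range_of_mem_KS R hR t
    rw [← ofPt_yon_map_comp]
    exact H w hw y

theorem repWith_openPred {Y : Sp S} {W : Set (Points Y)} (hW : IsOpen W) :
    RepWith @IsOpenImmersion (openPred W).ι := by
  refine SubPred.repWith (Q := @IsOpenImmersion) (openPred W) fun T g => ?_
  let O : T.left.Opens := ⟨Points.ofPt g ⁻¹' W, hW.preimage (Points.continuous_ofPt g)⟩
  have hm : Mono (resOpenι T O) := by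
    have : Mono ((Over.forget S).map (resOpenι T O)) := inferInstanceAs (Mono O.ι)
    exact (Over.forget S).mono_of_mono_map this
  refine ⟨resOpen T O, resOpenι T O, hm, inferInstanceAs (IsOpenImmersion O.ι), fun T' t => ?_⟩
  constructor
  · intro ht
    have hr : Set.range t.left ⊆ Set.range O.ι := by
      rw [Scheme.Opens.range_ι]
      rintro _ ⟨x, rfl⟩
      have := ht x
      rw [ofPt_yon_map_comp] at this
      exact this
    refine ⟨Over.homMk (IsOpenImmersion.lift O.ι t.left hr) ?_, ?_⟩
    · change IsOpenImmersion.lift O.ι t.left hr ≫ O.ι ≫ T.hom = T'.hom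
      rw [← Category.assoc, IsOpenImmersion.lift_fac, Over.w]
    · ext1
      exact IsOpenImmersion.lift_fac _ _ _
  · rintro ⟨w, rfl⟩ x
    rw [ofPt_yon_map_comp]
    change (O.ι (w.left x)) ∈ (O : Set T.left)
    rw [← O.range_ι]
    exact ⟨_, rfl⟩

theorem range_openPred {Y : Sp S} {W : Set (Points Y)} (hW : IsOpen W) :
    Set.range (Points.map (openPred W).ι) = W := by
  ext x
  constructor
  · rintro ⟨z, rfl⟩
    obtain ⟨T, g, t, rfl⟩ := exists_ofPt_eq z
    rw [Points.map_ofPt]
    exact ((openPred W).P_iff _).2 ⟨g, rfl⟩ t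
  · intro hx
    obtain ⟨T, g, t, rfl⟩ := exists_ofPt_eq x
    let O : T.left.Opens := ⟨Points.ofPt g ⁻¹' W, hW.preimage (Points.continuous_ofPt g)⟩
    have hP : (openPred W).P ((yon S).map (resOpenι T O) ≫ g) := by
      intro y
      rw [ofPt_yon_map_comp]
      exact y.2
    obtain ⟨g', hg'⟩ := ((openPred W).P_iff _).1 hP
    refine ⟨Points.ofPt g' (show ↥(resOpen T O).left from (⟨t, hx⟩ : ↥O)), ?_⟩
    rw [Points.map_ofPt, hg', ofPt_yon_map_comp]
    rfl

theorem isAlgSpace_openPred {Y : Sp S} (hY : IsAlgSpace Y) {W : Set (Points Y)} (hW : IsOpen W) :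
    IsAlgSpace (openPred W).sheaf :=
  isAlgSpace_of_representable_to hY _ (repWith_openPred hW).rep

end Groth.Agent.Lib.Helper24.OpenSubSp
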