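import Mathlib.AlgebraicGeometry.AffineScheme
import Mathlib.RingTheory.Spectrum.Prime.Topology
set_option autoImplicit false
universe u
open CategoryTheory AlgebraicGeometry

/-! A Baire-type property of prime spectra: a countable intersection of dense opens is nonempty. -/

namespace Groth.Agent.Lib.Helper24.BaireSpec

open PrimeSpectrum

theorem exists_basicOpen_step {R : Type u} [CommRing R] (O : Set (PrimeSpectrum R)) (hO : IsOpen O)
    (hd : Dense O) (g : R) (hg : ¬ IsNilpotent g) :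
    ∃ g' : R, ¬ IsNilpotent g' ∧ g ∣ g' ∧ (basicOpen g' : Set (PrimeSpectrum R)) ⊆ O := by
  have hne : (basicOpen g : Set (PrimeSpectrum R)).Nonempty := by
    by_contra h
    rw [Set.not_nonempty_iff_eq_empty] at h
    exact hg ((basicOpen_eq_bot_iff g).1 (TopologicalSpace.Opens.ext h))
  obtain ⟨p, hpg, hpO⟩ := hd.inter_open_nonempty _ (basicOpen g).2 hne
  obtain ⟨_, ⟨h, rfl⟩, hph, hsub⟩ :=
    (isTopologicalBasis_basic_opens (R := R)).exists_subset_of_mem_open hpO hO
  refine ⟨g * h, ?_, dvd_mul_right g h, ?_⟩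
  · intro hnil
    have h0 : basicOpen (g * h) = ⊥ := (basicOpen_eq_bot_iff _).2 hnil
    have hp : p ∈ basicOpen (g * h) := by
      rw [basicOpen_mul]
      exact ⟨hpg, hph⟩
    rw [h0] at hp
    exact hp
  · intro q hq
    have hq' : q ∈ basicOpen (g * h) := hq
    rw [basicOpen_mul] at hq'
    exact hsub hq'.2

theorem nonempty_iInter_of_dense_open {R : Type u} [CommRing R] [Nontrivial R]
    (O : ℕ → Set (PrimeSpectrum R)) (hO : ∀ n, IsOpen (O n)) (hd : ∀ n, Dense (O n)) :
    (⋂ n, O n).Nonempty := by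
  choose step hstep1 hstep2 hstep3 using fun (n : ℕ) (g : {g : R // ¬ IsNilpotent g}) =>
    exists_basicOpen_step (O n) (hO n) (hd n) g.1 g.2
  let G : ℕ → {g : R // ¬ IsNilpotent g} := fun n =>
    Nat.rec ⟨1, not_isNilpotent_one⟩ (fun n g => ⟨step n g, hstep1 n g⟩) n
  have hG : ∀ n, G (n + 1) = ⟨step n (G n), hstep1 n (G n)⟩ := fun n => rfl
  have hdvd : ∀ n, (G n).1 ∣ (G (n + 1)).1 := fun n => by rw [hG]; exact hstep2 n (G n)
  have hdvd' : ∀ n k, n ≤ k → (G n).1 ∣ (G k).1 := by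
    intro n k hnk
    induction k, hnk using Nat.le_induction with
    | base => exact dvd_rfl
    | succ k _ ih => exact ih.trans (hdvd k)
  have hsub : ∀ n, (basicOpen (G (n + 1)).1 : Set (PrimeSpectrum R)) ⊆ O n := fun n => by
    rw [hG]; exact hstep3 n (G n)
  -- the multiplicative set of divisors of powers of the `G n`
  let Msub : Submonoid R :=
    { carrier := {x | ∃ n k : ℕ, x ∣ (G n).1 ^ k}
      one_mem' := ⟨0, 0, one_dvd _⟩
      mul_mem' := by
        rintro x y ⟨n, k, hx⟩ ⟨n', k', hy⟩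
        refine ⟨max n n', k + k', ?_⟩
        rw [pow_add]
        exact mul_dvd_mul (hx.trans (pow_dvd_pow_of_dvd (hdvd' n _ (le_max_left _ _)) k))
          (hy.trans (pow_dvd_pow_of_dvd (hdvd' n' _ (le_max_right _ _)) k')) }
  have hdisj : Disjoint ((⊥ : Ideal R) : Set R) (Msub : Set R) := by
    rw [Set.disjoint_left]
    rintro x hx ⟨n, k, hxn⟩
    have hx0 : x = 0 := hx
    rw [hx0, zero_dvd_iff] at hxn
    exact (G n).2 ⟨k, hxn⟩
  obtain ⟨P, hP, -, hPd⟩ := Ideal.exists_le_prime_disjoint (⊥ : Ideal R) Msub hdisj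
  refine ⟨⟨P, hP⟩, Set.mem_iInter.2 fun n => hsub n ?_⟩
  change (G (n + 1)).1 ∉ P
  intro hmem
  exact Set.disjoint_left.1 hPd hmem ⟨n + 1, 1, by rw [pow_one]⟩

/-- the same for affine schemes -/
theorem nonempty_iInter_of_dense_open_affine (U : Scheme.{u}) [IsAffine U] [Nonempty U]
    (O : ℕ → Set U) (hO : ∀ n, IsOpen (O n)) (hd : ∀ n, Dense (O n)) :
    (⋂ n, O n).Nonempty := by
  let e : U ≃ₜ PrimeSpectrum Γ(U, ⊤) := U.isoSpec.hom.homeomorph
  have hnt : Nontrivial Γ(U, ⊤) := by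
    obtain ⟨x⟩ := ‹Nonempty U›
    exact (e x).nontrivial
  obtain ⟨p, hp⟩ := nonempty_iInter_of_dense_open (fun n => e.symm ⁻¹' O n)
    (fun n => (hO n).preimage e.symm.continuous)
    (fun n => by
      have : e.symm ⁻¹' O n = e '' O n := (e.image_eq_preimage_symm (O n)).symm
      rw [this]
      exact e.surjective.denseRange.dense_image e.continuous (hd n))
  exact ⟨e.symm p, Set.mem_iInter.2 fun n => Set.mem_iInter.1 hp n⟩

end Groth.Agent.Lib.Helper24.BaireSpec
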