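import Groth.Agent.Lib.Helper24.Filt8
import Groth.Agent.Lib.Helper24.BaireSpec
set_option autoImplicit false
set_option linter.unusedSectionVars false
set_option linter.unusedVariables false
universe u
open CategoryTheory CategoryTheory.Limits AlgebraicGeometry Opposite

/-! Generic points of irreducible closed subsets of a decent space with an affine chart. -/

namespace Groth.Agent.Lib.Helper24.Sober1
open AlgSp Groth.Agent.Lib.Helper14.AS Groth.Agent.Lib.Helper24.Filt1 Groth.Agent.Lib.Helper24.ZarGlue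
open Groth.Agent.Lib.Helper24.Filt2 Groth.Agent.Lib.Helper24.Filt3 Groth.Agent.Lib.Helper24.Filt7
open Groth.Agent.Lib.Helper24.Filt8 Groth.Agent.Lib.Helper24.BaireSpec

variable {S : Scheme.{u}} {U : Over S}

theorem closure_inter_open_of_irreducible {α : Type*} [TopologicalSpace α] {T W : Set α}
    (hT : IsIrreducible T) (hTc : IsClosed T) (hW : IsOpen W) (hne : (T ∩ W).Nonempty) :
    closure (T ∩ W) = T := by
  apply Set.Subset.antisymm
  · exact closure_minimal Set.inter_subset_left hTc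
  · intro y hy
    rw [mem_closure_iff]
    intro O hO hyO
    have h1 : (T ∩ O).Nonempty := ⟨y, hy, hyO⟩
    obtain ⟨z, hzT, hzO, hzW⟩ := hT.2 O W hO hW h1 hne
    exact ⟨z, hzO, hzT, hzW⟩

set_option backward.isDefEq.respectTransparency.types false in
set_option maxHeartbeats 1600000 in
theorem exists_generic_of_affine_chart (X : Space S) (hX : IsDecent X.obj) [IsAffine U.left]
    (a : (yon S).obj U ⟶ X.obj) (hae : RepWith @Etale a) (has : RepWith @Surjective a)
    (T : Set (Points X.obj)) (hT : IsIrreducible T) (hTc : IsClosed T) :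
    ∃ η, IsGenericPoint η T := by
  obtain ⟨Uo, j, k, Tt, i, h1, h2, -, h4, h5, h6, -⟩ := main X a hae has
  have hUc : CompactSpace ↥U.left := inferInstance
  obtain ⟨Ω, hΩ⟩ : ∃ Ω : ℕ → Set (Points X.obj), ∀ p, Ω p = Set.range (Points.map (j p).hom) :=
    ⟨_, fun p => rfl⟩
  have hΩo : ∀ p, IsOpen (Ω p) := fun p => by
    rw [hΩ p]
    exact (isOpenMap_points_of_repWith_universallyOpen X.property
      (repWith_mono openImm_le_univOpen (h1 p))).isOpen_range
  have hΩs : ∀ n, Ω (n + 1) = Om a (Idx n) := fun n => by rw [hΩ, h6]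
  have hΩ1 : Ω 1 = Set.univ := by rw [hΩs 0]; exact om_idx_zero has
  have hkj : ∀ p, (k p).hom ≫ (j p).hom = (j (p + 1)).hom := fun p =>
    congrArg (fun φ => φ.hom) (h2 p)
  have hjinj : ∀ p, Function.Injective (Points.map (j p).hom) := fun p =>
    injective_of_openImmersion (h1 p)
  have hbound : ∀ x : Points X.obj, ∃ N, x ∉ Ω (N + 1) := by
    intro x
    obtain ⟨p, hp, -, hq⟩ := hX x
    obtain ⟨N, hN⟩ := exists_not_mem_om hae p hq
    exact ⟨N, by rw [hΩs N, ← hp]; exact hN⟩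
  obtain ⟨x₀, hx₀⟩ := hT.1
  -- the last stratum met by `T`
  have hlast : ∃ p, 1 ≤ p ∧ (T ∩ Ω p).Nonempty ∧ T ∩ Ω (p + 1) = ∅ := by
    by_contra hcon
    simp only [not_exists, not_and] at hcon
    have hall : ∀ q, (T ∩ Ω (q + 1)).Nonempty := by
      intro q
      induction q with
      | zero => exact ⟨x₀, hx₀, by rw [hΩ1]; trivial⟩
      | succ q ih => exact Set.nonempty_iff_ne_empty.2 (hcon (q + 1) (by omega) ih)
    -- Baire on the preimage of `T` in `U`
    let Zc : TopologicalSpace.Closeds U.left :=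
      ⟨Points.ofPt a ⁻¹' T, hTc.preimage (Points.continuous_ofPt a)⟩
    let I := Scheme.IdealSheafData.vanishingIdeal Zc
    have hrange : Set.range I.subschemeι = Points.ofPt a ⁻¹' T := by
      rw [Scheme.IdealSheafData.range_subschemeι]
      exact Scheme.IdealSheafData.coe_support_vanishingIdeal _
    have hZaff : IsAffine I.subscheme := isAffine_of_isAffineHom I.subschemeι
    obtain ⟨u₀, hu₀⟩ := ofPt_surjective_of_repWith has x₀
    have hZne : Nonempty I.subscheme := by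
      have : u₀ ∈ Set.range I.subschemeι := by rw [hrange]; change Points.ofPt a u₀ ∈ T; rw [hu₀]; exact hx₀
      obtain ⟨z, -⟩ := this
      exact ⟨z⟩
    have hGc : Continuous (fun z : I.subscheme => Points.ofPt a (I.subschemeι z)) :=
      (Points.continuous_ofPt a).comp I.subschemeι.continuous
    have hOo : ∀ q, IsOpen ((fun z : I.subscheme => Points.ofPt a (I.subschemeι z)) ⁻¹' Ω (q + 1)) :=
      fun q => (hΩo (q + 1)).preimage hGc
    have hOd : ∀ q, Dense ((fun z : I.subscheme => Points.ofPt a (I.subschemeι z)) ⁻¹' Ω (q + 1)) := by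
      intro q
      rw [dense_iff_inter_open]
      rintro W hW ⟨w, hw⟩
      obtain ⟨W', hW', rfl⟩ := I.subschemeι.isEmbedding.isInducing.isOpen_iff.1 hW
      have hAo : IsOpen (Points.ofPt a '' W') := isOpenMap_ofPt a hae W' hW'
      have hw' : I.subschemeι w ∈ Points.ofPt a ⁻¹' T := by rw [← hrange]; exact ⟨w, rfl⟩
      have hTA : (T ∩ (Points.ofPt a '' W')).Nonempty := ⟨_, hw', ⟨_, hw, rfl⟩⟩
      obtain ⟨y, hyT, ⟨w', hw'W, rfl⟩, hyΩ⟩ := hT.2 _ _ hAo (hΩo (q + 1)) hTA (hall q)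
      have hw'Z : w' ∈ Set.range I.subschemeι := by rw [hrange]; exact hyT
      obtain ⟨z, rfl⟩ := hw'Z
      exact ⟨z, hw'W, hyΩ⟩
    obtain ⟨z, hz⟩ := nonempty_iInter_of_dense_open_affine I.subscheme _ hOo hOd
    obtain ⟨N, hN⟩ := hbound (Points.ofPt a (I.subschemeι z))
    exact hN (Set.mem_iInter.1 hz N)
  obtain ⟨p, hp, hDne, hDemp⟩ := hlast
  obtain ⟨V, f, -, -, hfe, hfs, hiso⟩ := h5 p hp
  have hjet : RepWith @Etale (j p).hom :=
    repWith_mono isOpenImmersion_le_etale (h1 p)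
  have hge : RepWith @Etale (f ≫ (j p).hom) := repWith_comp _ hfe hjet
  have hGo : IsOpenMap (Points.ofPt (f ≫ (j p).hom)) := isOpenMap_ofPt _ hge
  have hGc : Continuous (Points.ofPt (f ≫ (j p).hom)) := Points.continuous_ofPt _
  have hGr : Set.range (Points.ofPt (f ≫ (j p).hom)) = Ω p := by
    rw [hΩ p]
    apply Set.Subset.antisymm
    · rintro _ ⟨v, rfl⟩
      exact ⟨Points.ofPt f v, Points.map_ofPt _ _ _⟩
    · rintro _ ⟨y, rfl⟩
      obtain ⟨v, rfl⟩ := ofPt_surjective_of_repWith hfs y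
      exact ⟨v, (Points.map_ofPt _ _ _).symm⟩
  -- injectivity over the stratum
  have hinj : ∀ v₁ v₂ : V.left, Points.ofPt (f ≫ (j p).hom) v₁ ∈ T →
      Points.ofPt (f ≫ (j p).hom) v₁ = Points.ofPt (f ≫ (j p).hom) v₂ → v₁ = v₂ := by
    intro v₁ v₂ hv₁T he
    rw [← Points.map_ofPt, ← Points.map_ofPt] at he
    have he' : Points.ofPt f v₁ = Points.ofPt f v₂ := hjinj p he
    have hnk : Points.ofPt f v₁ ∈ (Set.range (Points.map (k p).hom))ᶜ := by
      rintro ⟨y', hy'⟩
      have : Points.ofPt (f ≫ (j p).hom) v₁ ∈ T ∩ Ω (p + 1) := by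
        refine ⟨hv₁T, ?_⟩
        rw [hΩ (p + 1), ← hkj p, ← Points.map_ofPt, ← hy']
        exact ⟨y', Points.map_comp _ _ _⟩
      rw [hDemp] at this
      exact this
    rw [← (h4 p).2.1] at hnk
    obtain ⟨z, hz⟩ := hnk
    have sq : IsPullback (pullback.fst (i p).hom f) (pullback.snd (i p).hom f) (i p).hom f :=
      IsPullback.of_hasPullback _ _
    have hfi : IsIso (pullback.fst (i p).hom f) := hiso _ _ _ sq
    have hfinj : Function.Injective (Points.map (pullback.fst (i p).hom f)) := by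
      intro w w' hww'
      have h := congrArg (Points.map (inv (pullback.fst (i p).hom f))) hww'
      rwa [← Points.map_comp, ← Points.map_comp, IsIso.hom_inv_id, Points.map_id, Points.map_id] at h
    obtain ⟨w₁, hw₁a, hw₁b⟩ := points_exists_of_isPullback sq z (Points.ofScheme V v₁)
      (by rw [hz, Points.ofPt_eq_map_ofScheme])
    obtain ⟨w₂, hw₂a, hw₂b⟩ := points_exists_of_isPullback sq z (Points.ofScheme V v₂)
      (by rw [hz, he', Points.ofPt_eq_map_ofScheme])
    have hww : w₁ = w₂ := hfinj (hw₁a.trans hw₂a.symm)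
    have h3 : Points.ofScheme V v₁ = Points.ofScheme V v₂ := by rw [← hw₁b, ← hw₂b, hww]
    have h4' := congrArg (Points.toScheme V) h3
    rwa [Points.toScheme_ofScheme, Points.toScheme_ofScheme] at h4'
  -- the preimage of `T` in the chart is irreducible
  have hEc : IsClosed (Points.ofPt (f ≫ (j p).hom) ⁻¹' T) := hTc.preimage hGc
  have hEirr : IsIrreducible (Points.ofPt (f ≫ (j p).hom) ⁻¹' T) := by
    constructor
    · obtain ⟨y, hyT, hyΩ⟩ := hDne
      rw [← hGr] at hyΩ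
      obtain ⟨v, rfl⟩ := hyΩ
      exact ⟨v, hyT⟩
    · rintro W₁ W₂ hW₁ hW₂ ⟨w₁, hw₁E, hw₁W⟩ ⟨w₂, hw₂E, hw₂W⟩
      have hA₁ : (T ∩ (Points.ofPt (f ≫ (j p).hom) '' W₁)).Nonempty := ⟨_, hw₁E, ⟨w₁, hw₁W, rfl⟩⟩
      have hA₂ : (T ∩ (Points.ofPt (f ≫ (j p).hom) '' W₂)).Nonempty := ⟨_, hw₂E, ⟨w₂, hw₂W, rfl⟩⟩
      obtain ⟨y, hyT, ⟨v₁, hv₁W, rfl⟩, ⟨v₂, hv₂W, hv₂⟩⟩ :=
        hT.2 _ _ (hGo W₁ hW₁) (hGo W₂ hW₂) hA₁ hA₂
      have hvv : v₁ = v₂ := hinj v₁ v₂ hyT hv₂.symm
      exact ⟨v₁, hyT, hv₁W, hvv ▸ hv₂W⟩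
  obtain ⟨ξ, hξ⟩ := QuasiSober.sober hEirr hEc
  refine ⟨Points.ofPt (f ≫ (j p).hom) ξ, ?_⟩
  have hξE : ξ ∈ Points.ofPt (f ≫ (j p).hom) ⁻¹' T := by
    rw [← hξ.def]
    exact subset_closure rfl
  change closure {Points.ofPt (f ≫ (j p).hom) ξ} = T
  apply Set.Subset.antisymm
  · exact closure_minimal (Set.singleton_subset_iff.2 hξE) hTc
  · rw [← closure_inter_open_of_irreducible hT hTc (hΩo p) hDne]
    apply closure_minimal _ isClosed_closure
    rintro y ⟨hyT, hyΩ⟩
    rw [← hGr] at hyΩ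
    obtain ⟨v, rfl⟩ := hyΩ
    have hvE : v ∈ closure ({ξ} : Set V.left) := by rw [hξ.def]; exact hyT
    have := image_closure_subset_closure_image hGc ⟨v, hvE, rfl⟩
    rwa [Set.image_singleton] at this

end Groth.Agent.Lib.Helper24.Sober1
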