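import Groth.Agent.Lib.Helper24.AlgStProps2
import Groth.Agent.Lib.Helper14.AlgSpQCMor2
import Groth.Agent.Lib.Helper14.AlgSpSepDescent
set_option autoImplicit false
open CategoryTheory AlgebraicGeometry Opposite
universe u
set_option backward.isDefEq.respectTransparency false
set_option backward.isDefEq.respectTransparency.types false

/-! Stability under composition of the standard properties of morphisms of algebraic spaces. -/

namespace Groth.Agent.Lib.Helper24.AlgStProps
open Groth.Agent.Lib.Helper24.AlgStRepS Groth.Agent.Lib.Helper14.AS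
open CategoryTheory.Limits AlgSp

variable {S : Scheme.{u}}

lemma stableComp_and {P P' : MorphismProperty (Sp S)} (h : StableComp P) (h' : StableComp P') :
    StableComp (fun _ _ f => P f ∧ P' f) :=
  fun _ _ _ hX hY hZ a b ha hb => ⟨h hX hY hZ a b ha.1 hb.1, h' hX hY hZ a b ha.2 hb.2⟩

lemma stableComp_inf {P P' : MorphismProperty (Sp S)} (h : StableComp P) (h' : StableComp P') :
    StableComp (P ⊓ P') := stableComp_and h h'

theorem stableComp_locP {Q : MorphismProperty Scheme.{u}} (hQ : EtLocal Q)
    [Q.IsStableUnderComposition] : StableComp (LocP Q (S := S)) :=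
  fun _ _ _ hX hY hZ a b ha hb => locP_comp hQ hX hY hZ a b ha hb

theorem stableComp_unramified :
    StableComp (LocP (@LocallyOfFiniteType ⊓ @FormallyUnramified) (S := S)) :=
  stableComp_locP etLocal_lft_fu

theorem stableComp_lqf :
    StableComp (LocP (@LocallyQuasiFinite ⊓ @LocallyOfFiniteType) (S := S)) :=
  stableComp_locP etLocal_lqf_lft

theorem stableComp_lft : StableComp (LocP @LocallyOfFiniteType (S := S)) :=
  stableComp_locP etLocal_lft

theorem stableComp_isQuasiCompactMor : StableComp (IsQuasiCompactMor (S := S)) :=
  fun _ _ _ _ hY hZ _ _ ha hb => isQuasiCompactMor_comp hY (repDiag_of_isAlgSpace hZ) ha hb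

theorem stableComp_isUnivClosedMor : StableComp (IsUnivClosedMor (S := S)) :=
  fun _ _ _ _ hY hZ _ _ ha hb => isUnivClosedMor_comp hY (repDiag_of_isAlgSpace hZ) ha hb

theorem stableComp_diagonal (Q : MorphismProperty Scheme.{u}) [Q.IsStableUnderComposition]
    [Q.IsStableUnderBaseChange] [Q.RespectsIso] :
    StableComp (fun _ _ f => RepWith Q (pullback.diagonal f) : MorphismProperty (Sp S)) := by
  intro X Y Z _ _ _ a b ha hb
  have : (RepWith Q (S := S)).IsStableUnderComposition :=
    ⟨fun f g hf hg => repWith_comp Q hf hg⟩
  have : (RepWith Q (S := S)).IsStableUnderBaseChange := AlgSp.repWith_isStableUnderBaseChange Q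
  exact (MorphismProperty.diagonal_isStableUnderComposition (P := RepWith Q (S := S))).comp_mem
    a b ha hb

theorem stableComp_isSeparatedMor : StableComp (IsSeparatedMor (S := S)) :=
  stableComp_diagonal _

theorem stableComp_isQuasiSeparatedMor : StableComp (IsQuasiSeparatedMor (S := S)) :=
  stableComp_diagonal _

theorem stableComp_isFiniteTypeMor : StableComp (IsFiniteTypeMor (S := S)) :=
  stableComp_and stableComp_lft stableComp_isQuasiCompactMor

theorem stableComp_isProperMor : StableComp (IsProperMor (S := S)) :=
  stableComp_and stableComp_isSeparatedMor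
    (stableComp_and stableComp_isFiniteTypeMor stableComp_isUnivClosedMor)

theorem stableComp_qcqs :
    StableComp (IsQuasiCompactMor ⊓ IsQuasiSeparatedMor : MorphismProperty (Sp S)) :=
  stableComp_inf stableComp_isQuasiCompactMor stableComp_isQuasiSeparatedMor

end Groth.Agent.Lib.Helper24.AlgStProps
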