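import Groth.Agent.Lib.Helper24.FinDense2
import Groth.Agent.Lib.Helper14.LqfLocus
import Groth.Agent.Lib.Helper14.LqfDim0
set_option autoImplicit false
universe u
open CategoryTheory CategoryTheory.Limits AlgebraicGeometry Opposite

namespace Groth.Agent.Lib.Helper24.FinFib1

open AlgSp Groth.Agent.Lib.Helper14.AS

/-- a morphism locally of finite type has fibre dimension zero at a point having a neighbourhood
meeting the fibre in a finite set -/
theorem fibreDimAt_eq_zero_of_finite_inter {U V : Scheme.{u}} (g : U ⟶ V) [LocallyOfFiniteType g]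
    (u : ↥U) (N : U.Opens) (huN : u ∈ N) (hfin : (g ⁻¹' {g u} ∩ (N : Set ↥U)).Finite) :
    FlatMor.fibreDimAt g u = 0 := by
  have e := fibreDimAt_opens_ι_comp g N ⟨u, huN⟩
  change FlatMor.fibreDimAt (N.ι ≫ g) ⟨u, huN⟩ = FlatMor.fibreDimAt g u at e
  rw [← e]
  set g' := N.ι ≫ g with hg'
  let u' : ↥(N : Scheme.{u}) := ⟨u, huN⟩
  have hfin' : (g' ⁻¹' {g' u'}).Finite := by
    refine Set.Finite.of_finite_image (f := N.ι) ?_ N.ι.isOpenEmbedding.injective.injOn
    refine hfin.subset ?_
    rintro _ ⟨w, hw, rfl⟩
    exact ⟨hw, w.2⟩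
  have hF : Finite ↥(g'.fiber (g' u')) :=
    (g'.fiberHomeo (g' u')).toEquiv.finite_iff.2 hfin'.to_subtype
  have hg'lft : LocallyOfFiniteType g' := by rw [hg']; infer_instance
  have hq : LocallyOfFiniteType (g'.fiberToSpecResidueField (g' u')) := by
    have : LocallyOfFiniteType (pullback.snd g' (V.fromSpecResidueField (g' u'))) := inferInstance
    exact this
  have hlqf : LocallyQuasiFinite (g'.fiberToSpecResidueField (g' u')) :=
    .of_finite_preimage_singleton _ fun _ => Set.toFinite _
  have hdisc : DiscreteTopology ↥(g'.fiber (g' u')) := by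
    have h1 := (g'.fiberToSpecResidueField (g' u')).isDiscrete_preimage_singleton
      ((g'.fiberToSpecResidueField (g' u')) (g'.asFiber u'))
    have h2 : (g'.fiberToSpecResidueField (g' u')) ⁻¹'
        {(g'.fiberToSpecResidueField (g' u')) (g'.asFiber u')} = Set.univ := by
      ext w
      simp only [Set.mem_preimage, Set.mem_singleton_iff, Set.mem_univ, iff_true]
      exact Subsingleton.elim _ _
    rw [h2] at h1
    exact isDiscrete_univ_iff.1 h1
  exact localDim_eq_zero_of_discrete _ _

variable {S : Scheme.{u}}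

/-- a finite morphism has finite fibres on points -/
theorem finite_fibre_of_repWith_isFinite {X Y : Sp S} {f : X ⟶ Y} (hf : RepWith @IsFinite f)
    (y : Points Y) : (Points.map f ⁻¹' {y}).Finite := by
  induction y using Points.ind with
  | h q =>
  have sq := hf.rep.isPullback q.toHom
  have hfin : IsFinite (hf.rep.snd q.toHom).left := hf.property_snd _
  let pt₀ : ↥q.pt.left := (IsLocalRing.closedPoint q.K : ↥(Spec (CommRingCat.of q.K)))
  have hsub : Subsingleton ↥q.pt.left := subsingleton_spec_field q.K
  have hF : Finite ↥(hf.rep.pullback q.toHom).left := by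
    have h1 := (hf.rep.snd q.toHom).left.finite_preimage_singleton pt₀
    have h2 : (hf.rep.snd q.toHom).left ⁻¹' {pt₀} = Set.univ := by
      ext w
      simp only [Set.mem_preimage, Set.mem_singleton_iff, Set.mem_univ, iff_true]
      exact Subsingleton.elim _ _
    rw [h2] at h1
    exact Set.finite_univ_iff.1 h1
  refine (Set.finite_range (fun w => Points.ofPt (hf.rep.fst q.toHom) w)).subset ?_
  intro x hx
  have hx' : Points.map f x = Points.map q.toHom (Points.ofScheme q.pt pt₀) := by
    rw [← Points.ofPt_eq_map_ofScheme, Points.ofPt_toHom]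
    exact hx
  obtain ⟨z, hz1, -⟩ := points_exists_of_isPullback sq x _ hx'
  obtain ⟨w, rfl⟩ := (Points.schemeHomeo _).surjective z
  refine ⟨w, ?_⟩
  rw [← hz1]
  exact Points.ofPt_eq_map_ofScheme _ w

end Groth.Agent.Lib.Helper24.FinFib1
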