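import Mathlib
import Groth.Agent.Lib.Helper14.FpqcBase4
import Groth.Agent.Lib.Helper14.FppfLocalInst2
import Groth.Agent.Lib.Helper14.AlgSpSep
import Groth.Agent.S10260

/-!
# fpqc locality on the base for representable properties contained in "lqf + separated" (helper24)

If `P` is a property of morphisms of schemes contained in (locally quasi-finite, locally of finite
type) and in separated, stable under base change, Zariski local on the target and descending along
fpqc morphisms, then `RepWith P` is fpqc local on the base for morphisms of algebraic spaces: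
representability comes from "separated + locally quasi-finite ⟹ representable" (S10260).
-/

universe u
open CategoryTheory CategoryTheory.Limits AlgebraicGeometry Opposite Topology

namespace Groth.Agent.Lib.Helper24.FpqcRep

open AlgSp Groth.Agent.Lib.Helper14.AS

variable {S : Scheme.{u}}

theorem etale_le_lqf_lft :
    (@Etale : MorphismProperty Scheme.{u}) ≤
      (@LocallyQuasiFinite ⊓ @LocallyOfFiniteType : MorphismProperty Scheme.{u}) :=
  fun _ _ f h => ⟨by have : Etale f := h; exact etale_locallyQuasiFinite f, etale_le_lft _ _ _ h⟩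

set_option backward.isDefEq.respectTransparency.types false in
/-- Representability descends along fpqc coverings for morphisms whose base changes are
`RepWith P` with `P ≤ lqf ⊓ lft` and `P ≤ separated`. -/
theorem representable_of_fpqcCover {P : MorphismProperty Scheme.{u}}
    (h1 : P ≤ (@LocallyQuasiFinite ⊓ @LocallyOfFiniteType : MorphismProperty Scheme.{u}))
    (h2 : P ≤ @IsSeparated)
    {ι : Type u} {Y : Sp S} (Yi : ι → Sp S) (g : ∀ i, Yi i ⟶ Y)
    (hY : IsAlgSpace Y) (hYi : ∀ i, IsAlgSpace (Yi i)) (hcov : IsFpqcCover Yi g)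
    {X : Sp S} (f : X ⟶ Y) (hX : IsAlgSpace X)
    (Xi : ι → Sp S) (p : ∀ i, Xi i ⟶ Yi i) (q : ∀ i, Xi i ⟶ X)
    (hXi : ∀ i, IsAlgSpace (Xi i)) (hsq : ∀ i, IsPullback (q i) (p i) f (g i))
    (H : ∀ i, RepWith P (p i)) : Representable f := by
  have hlqf_i : ∀ i, LocP (@LocallyQuasiFinite ⊓ @LocallyOfFiniteType) (p i) := fun i =>
    locP_of_repWith etale_le_lqf_lft (repWith_mono h1 (H i))
  have hsep_i : ∀ i, IsSeparatedMor (p i) := fun i =>
    ((isSeparatedMor_iff_of_representable (hXi i) (H i).rep).1).2 (repWith_mono h2 (H i))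
  have hlqf : LocP (@LocallyQuasiFinite ⊓ @LocallyOfFiniteType) f :=
    (isLocalOnBase_fpqc_locP_lqf Yi g hY hYi hcov f hX Xi p q hXi hsq).2 hlqf_i
  have hsep : IsSeparatedMor f :=
    (isLocalOnBase_fpqc_isSeparatedMor Yi g hY hYi hcov f hX Xi p q hXi hsq).2 hsep_i
  exact Groth.Agent.S10260.core hX hY f hlqf hsep

set_option backward.isDefEq.respectTransparency.types false in
theorem isLocalOnBase_fpqc_repWith {P : MorphismProperty Scheme.{u}}
    [IsZariskiLocalAtTarget P] [P.DescendsAlong (@Surjective ⊓ @Flat ⊓ @QuasiCompact)]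
    (h1 : P ≤ (@LocallyQuasiFinite ⊓ @LocallyOfFiniteType : MorphismProperty Scheme.{u}))
    (h2 : P ≤ @IsSeparated) :
    IsLocalOnBase (IsFpqcCover (S := S)) (RepWith P) := by
  intro ι Y Yi g hY hYi hcov X f hX Xi p q hXi hsq
  constructor
  · intro hf i
    exact repWith_of_isPullback P (hsq i) hf
  · intro H
    have hrep : Representable f :=
      representable_of_fpqcCover h1 h2 Yi g hY hYi hcov f hX Xi p q hXi hsq H
    refine repWith_of_fpqcCover Yi g hcov f (𝟙 Y) hrep Yi g (fun i => 𝟙 _) (fun i => ?_)
      Xi q p hsq H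
    exact IsPullback.of_vert_isIso ⟨by simp⟩

end Groth.Agent.Lib.Helper24.FpqcRep
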