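import Mathlib
import Groth.Prelude.Def_AlgSpInf
import Groth.Agent.Lib.Helper14.AlgSpUnivTop
import Groth.Agent.Lib.Helper14.AlgSpQC
import Groth.Agent.Lib.Helper14.AlgSpFibre
import Groth.Agent.Lib.Helper14.AlgSpBasic2
import Groth.Agent.Lib.Helper14.AlgSpImm

/-!
# Morphisms of thickenings of algebraic spaces: topological properties (helper24)
-/

set_option autoImplicit false
universe u
open CategoryTheory CategoryTheory.Limits AlgebraicGeometry Opposite AlgSp Topology
open Groth.Agent.Lib.Helper14.AS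

namespace Groth.Agent.Lib.Helper24.ThickSq

variable {S : Scheme.{u}}

theorem thick_le_univHomeo : (thick : MorphismProperty Scheme.{u}) ≤ FlatMor.IsUnivHomeo := by
  intro A B k hk A' B' i₁ i₂ k' sq
  have h1 : IsClosedImmersion k' :=
    MorphismProperty.of_isPullback (P := @IsClosedImmersion) sq.flip hk.1
  have h2 : Surjective k' := MorphismProperty.of_isPullback (P := @Surjective) sq.flip hk.2
  change IsHomeomorph k'
  rw [isHomeomorph_iff_isEmbedding_surjective]
  exact ⟨k'.isClosedEmbedding.isEmbedding, k'.surjective⟩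

theorem thick_le_mono :
    (thick : MorphismProperty Scheme.{u}) ≤ MorphismProperty.monomorphisms Scheme.{u} :=
  fun _ _ _ hk => (isClosedImmersion_le_isImmersion.trans immersion_le_mono) _ _ _ hk.1

theorem isHomeomorph_of_isThickMor {F G : Sp S} (hG : IsAlgSpace G) {i : F ⟶ G}
    (hi : IsThickMor i) : IsHomeomorph (Points.map i) :=
  isHomeomorph_points_of_repWith_univHomeo hG (repWith_mono thick_le_univHomeo hi)

theorem mono_of_isThickMor {F G : Sp S} {i : F ⟶ G} (hi : IsThickMor i) : Mono i :=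
  mono_of_repWith_mono (repWith_mono thick_le_mono hi)

/-- The comparison of fibre products over a morphism of thickenings is a thickening. -/
theorem exists_thick_comparison {X X' Y Y' Z Z₀ P P' : Sp S} {i : X ⟶ X'} {j : Y ⟶ Y'}
    {f : X ⟶ Y} {f' : X' ⟶ Y'} (hi : IsThickMor i) (w : i ≫ f' = f ≫ j)
    {g' : Z ⟶ Y'} {g₀ : Z₀ ⟶ Y} {j₀ : Z₀ ⟶ Z} (sqZ : IsPullback g₀ j₀ j g')
    {fst : P ⟶ X} {snd : P ⟶ Z₀} (sqP : IsPullback fst snd f g₀)
    {fst' : P' ⟶ X'} {snd' : P' ⟶ Z} (sqP' : IsPullback fst' snd' f' g') :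
    ∃ k : P ⟶ P', k ≫ snd' = snd ≫ j₀ ∧ k ≫ fst' = fst ≫ i ∧ IsThickMor k := by
  have hc : (fst ≫ i) ≫ f' = (snd ≫ j₀) ≫ g' := by
    rw [Category.assoc, w, ← Category.assoc, sqP.w, Category.assoc, sqZ.w, Category.assoc]
  refine ⟨sqP'.lift _ _ hc, sqP'.lift_snd _ _ hc, sqP'.lift_fst _ _ hc, ?_⟩
  have big : IsPullback (snd ≫ j₀) fst g' (f ≫ j) := sqP.flip.paste_horiz sqZ.flip
  have key : IsPullback (sqP'.lift _ _ hc) fst fst' i :=
    IsPullback.of_right (by rw [sqP'.lift_snd, w]; exact big) (sqP'.lift_fst _ _ hc) sqP'.flip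
  exact repWith_of_isPullback thick key.flip hi

/-- Transfer of properties of maps on points along a square with homeomorphic sides. -/
def HomeoInv (Q : MorphismProperty (Sp S)) : Prop :=
  ∀ ⦃A B C D : Sp S⦄ (p : A ⟶ B) (p' : C ⟶ D) (k : A ⟶ C) (l : B ⟶ D), k ≫ p' = p ≫ l →
    IsHomeomorph (Points.map k) → IsHomeomorph (Points.map l) → (Q p ↔ Q p')

theorem comm_points {A B C D : Sp S} {p : A ⟶ B} {p' : C ⟶ D} {k : A ⟶ C} {l : B ⟶ D}
    (h : k ≫ p' = p ≫ l) : Points.map p' ∘ Points.map k = Points.map l ∘ Points.map p := by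
  funext x
  simp only [Function.comp_apply, ← Points.map_comp, h]

theorem homeoInv_of {T : ∀ {α β : Type (u + 1)} [TopologicalSpace α] [TopologicalSpace β], (α → β) → Prop}
    (h1 : ∀ {α β γ : Type (u + 1)} [TopologicalSpace α] [TopologicalSpace β] [TopologicalSpace γ]
      (a : α → β) (b : β → γ), IsHomeomorph a → (T b ↔ T (b ∘ a)))
    (h2 : ∀ {α β γ : Type (u + 1)} [TopologicalSpace α] [TopologicalSpace β] [TopologicalSpace γ]
      (a : α → β) (b : β → γ), IsHomeomorph b → (T a ↔ T (b ∘ a))) :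
    HomeoInv (fun _ _ f => T (Points.map f) : MorphismProperty (Sp S)) := by
  intro A B C D p p' k l h hk hl
  change T (Points.map p) ↔ T (Points.map p')
  rw [h1 (Points.map k) (Points.map p') hk, comm_points h, ← h2 (Points.map p) (Points.map l) hl]

theorem homeoInv_isClosedMor : HomeoInv (IsClosedMor (S := S)) :=
  homeoInv_of (T := fun f => IsClosedMap f)
    (fun a b ha => ⟨fun hb => hb.comp ha.isClosedMap, fun hba => by
      obtain ⟨e, rfl⟩ : ∃ e : _ ≃ₜ _, ⇑e = a := ⟨ha.homeomorph a, rfl⟩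
      have : b = (b ∘ e) ∘ e.symm := by
        funext x; simp
      rw [this]
      exact hba.comp e.symm.isClosedMap⟩)
    (fun a b hb => ⟨fun ha => hb.isClosedMap.comp ha, fun hba => by
      obtain ⟨e, rfl⟩ : ∃ e : _ ≃ₜ _, ⇑e = b := ⟨hb.homeomorph b, rfl⟩
      have : a = e.symm ∘ (e ∘ a) := by
        funext x; simp
      rw [this]
      exact e.symm.isClosedMap.comp hba⟩)

theorem homeoInv_isOpenMor : HomeoInv (IsOpenMor (S := S)) :=
  homeoInv_of (T := fun f => IsOpenMap f)
    (fun a b ha => ⟨fun hb => hb.comp ha.isOpenMap, fun hba => by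
      obtain ⟨e, rfl⟩ : ∃ e : _ ≃ₜ _, ⇑e = a := ⟨ha.homeomorph a, rfl⟩
      have : b = (b ∘ e) ∘ e.symm := by
        funext x; simp
      rw [this]
      exact hba.comp e.symm.isOpenMap⟩)
    (fun a b hb => ⟨fun ha => hb.isOpenMap.comp ha, fun hba => by
      obtain ⟨e, rfl⟩ : ∃ e : _ ≃ₜ _, ⇑e = b := ⟨hb.homeomorph b, rfl⟩
      have : a = e.symm ∘ (e ∘ a) := by
        funext x; simp
      rw [this]
      exact e.symm.isOpenMap.comp hba⟩)

theorem homeoInv_injective :
    HomeoInv (fun _ _ f => Function.Injective (Points.map f) : MorphismProperty (Sp S)) :=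
  homeoInv_of (T := fun f => Function.Injective f)
    (fun a b ha => ⟨fun hb => hb.comp ha.injective, fun hba => by
      obtain ⟨e, rfl⟩ : ∃ e : _ ≃ₜ _, ⇑e = a := ⟨ha.homeomorph a, rfl⟩
      have : b = (b ∘ e) ∘ e.symm := by
        funext x; simp
      rw [this]
      exact hba.comp e.symm.injective⟩)
    (fun a b hb => ⟨fun ha => hb.injective.comp ha, fun hba => Function.Injective.of_comp hba⟩)

theorem homeoInv_surjective : HomeoInv (IsSurjectiveMor (S := S)) :=
  homeoInv_of (T := fun f => Function.Surjective f)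
    (fun a b ha => ⟨fun hb => hb.comp ha.surjective, fun hba => Function.Surjective.of_comp hba⟩)
    (fun a b hb => ⟨fun ha => hb.surjective.comp ha, fun hba => by
      obtain ⟨e, rfl⟩ : ∃ e : _ ≃ₜ _, ⇑e = b := ⟨hb.homeomorph b, rfl⟩
      have : a = e.symm ∘ (e ∘ a) := by
        funext x; simp
      rw [this]
      exact e.symm.surjective.comp hba⟩)

/-- Universal topological properties are insensitive to thickenings. -/
theorem univSp_iff_of_thick {Q : MorphismProperty (Sp S)} (hQ : HomeoInv Q)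
    {X X' Y Y' : Sp S} (hX' : IsAlgSpace X') (hY : IsAlgSpace Y) (hY' : IsAlgSpace Y')
    {i : X ⟶ X'} {j : Y ⟶ Y'} {f : X ⟶ Y} {f' : X' ⟶ Y'} (hi : IsThickMor i) (hj : IsThickMor j)
    (w : i ≫ f' = f ≫ j) : UnivSp Q f ↔ UnivSp Q f' := by
  constructor
  · intro H Z P' hZ g' fst' snd' sqP'
    have sqZ := IsPullback.of_hasPullback j g'
    have hZ₀ : IsAlgSpace (pullback j g') :=
      isAlgSpace_of_isPullback (repDiag_of_isAlgSpace hY') hY hZ sqZ
    have hj₀ : IsThickMor (pullback.snd j g') := repWith_of_isPullback thick sqZ hj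
    have sqP := IsPullback.of_hasPullback f (pullback.fst j g')
    obtain ⟨k, hk1, -, hkt⟩ := exists_thick_comparison hi w sqZ sqP sqP'
    have hP' : IsAlgSpace P' := isAlgSpace_of_isPullback (repDiag_of_isAlgSpace hY') hX' hZ sqP'
    exact (hQ _ _ k _ hk1 (isHomeomorph_of_isThickMor hP' hkt)
      (isHomeomorph_of_isThickMor hZ hj₀)).1 (H hZ₀ _ _ _ sqP)
  · intro H Z P hZ g fst snd sqP
    haveI := mono_of_isThickMor hj
    have sqZ : IsPullback g (𝟙 Z) j (g ≫ j) := (isPullback_id_of_mono rfl).flip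
    have sqP' := IsPullback.of_hasPullback f' (g ≫ j)
    obtain ⟨k, hk1, -, hkt⟩ := exists_thick_comparison hi w sqZ sqP sqP'
    have hP' : IsAlgSpace (pullback f' (g ≫ j)) :=
      isAlgSpace_of_isPullback (repDiag_of_isAlgSpace hY') hX' hZ sqP'
    have hid : IsHomeomorph (Points.map (𝟙 Z)) := by
      have : Points.map (𝟙 Z) = id := funext Points.map_id
      rw [this]
      exact IsHomeomorph.id
    exact (hQ _ _ k _ hk1 (isHomeomorph_of_isThickMor hP' hkt) hid).2 (H hZ _ _ _ sqP')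

theorem isQuasiCompactSp_iff_of_homeo {A B : Sp S} (hA : IsAlgSpace A) (hB : IsAlgSpace B)
    (k : A ⟶ B) (hk : IsHomeomorph (Points.map k)) : IsQuasiCompactSp A ↔ IsQuasiCompactSp B := by
  rw [isQuasiCompactSp_iff_compactSpace hA, isQuasiCompactSp_iff_compactSpace hB]
  exact ⟨fun _ => (hk.homeomorph _).compactSpace, fun _ => (hk.homeomorph _).symm.compactSpace⟩

/-- Quasi-compactness is insensitive to thickenings. -/
theorem isQuasiCompactMor_iff_of_thick
    {X X' Y Y' : Sp S} (hX : IsAlgSpace X) (hX' : IsAlgSpace X') (hY : IsAlgSpace Y)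
    (hY' : IsAlgSpace Y')
    {i : X ⟶ X'} {j : Y ⟶ Y'} {f : X ⟶ Y} {f' : X' ⟶ Y'} (hi : IsThickMor i) (hj : IsThickMor j)
    (w : i ≫ f' = f ≫ j) : IsQuasiCompactMor f ↔ IsQuasiCompactMor f' := by
  constructor
  · intro H Z P' hZ hZqc g' fst' snd' sqP'
    have sqZ := IsPullback.of_hasPullback j g'
    have hZ₀ : IsAlgSpace (pullback j g') :=
      isAlgSpace_of_isPullback (repDiag_of_isAlgSpace hY') hY hZ sqZ
    have hj₀ : IsThickMor (pullback.snd j g') := repWith_of_isPullback thick sqZ hj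
    have sqP := IsPullback.of_hasPullback f (pullback.fst j g')
    obtain ⟨k, -, -, hkt⟩ := exists_thick_comparison hi w sqZ sqP sqP'
    have hP' : IsAlgSpace P' := isAlgSpace_of_isPullback (repDiag_of_isAlgSpace hY') hX' hZ sqP'
    have hP : IsAlgSpace (pullback f (pullback.fst j g')) :=
      isAlgSpace_of_isPullback (repDiag_of_isAlgSpace hY) hX hZ₀ sqP
    have hZ₀qc : IsQuasiCompactSp (pullback j g') :=
      (isQuasiCompactSp_iff_of_homeo hZ₀ hZ _ (isHomeomorph_of_isThickMor hZ hj₀)).2 hZqc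
    exact (isQuasiCompactSp_iff_of_homeo hP hP' k (isHomeomorph_of_isThickMor hP' hkt)).1
      (H hZ₀ hZ₀qc _ _ _ sqP)
  · intro H Z P hZ hZqc g fst snd sqP
    haveI := mono_of_isThickMor hj
    have sqZ : IsPullback g (𝟙 Z) j (g ≫ j) := (isPullback_id_of_mono rfl).flip
    have sqP' := IsPullback.of_hasPullback f' (g ≫ j)
    obtain ⟨k, -, -, hkt⟩ := exists_thick_comparison hi w sqZ sqP sqP'
    have hP' : IsAlgSpace (pullback f' (g ≫ j)) :=
      isAlgSpace_of_isPullback (repDiag_of_isAlgSpace hY') hX' hZ sqP'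
    have hP : IsAlgSpace P := isAlgSpace_of_isPullback (repDiag_of_isAlgSpace hY) hX hZ sqP
    exact (isQuasiCompactSp_iff_of_homeo hP hP' k (isHomeomorph_of_isThickMor hP' hkt)).2
      (H hZ hZqc _ _ _ sqP')

end Groth.Agent.Lib.Helper24.ThickSq
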