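import Mathlib
import Groth.Prelude.Def_AlgSpInf
import Groth.Agent.Lib.Helper24.ThickSq
import Groth.Agent.Lib.Helper14.AlgSpLocP2

/-!
# Chart diagrams for cartesian squares of thickenings of algebraic spaces (helper24)
-/

set_option autoImplicit false
universe u
open CategoryTheory CategoryTheory.Limits AlgebraicGeometry Opposite AlgSp Topology
open Groth.Agent.Lib.Helper14.AS

namespace Groth.Agent.Lib.Helper24.ThickSq

variable {S : Scheme.{u}}

/-- `LocP P f` can be read off a single chart diagram with surjective etale charts. -/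
theorem locP_iff_chart {P : MorphismProperty Scheme.{u}} (hP : EtLocal P) {X Y : Sp S} (f : X ⟶ Y)
    {U V : Over S} (a : (yon S).obj U ⟶ X) (b : (yon S).obj V ⟶ Y) (h : U ⟶ V)
    (ha : RepWith @Etale a) (has : RepWith @Surjective a) (hb : RepWith @Etale b)
    (comm : a ≫ f = (yon S).map h ≫ b) : LocP P f ↔ P h.left :=
  ⟨fun H => H a b h ha hb comm, fun hh => locP_of_chart hP f a b h ha has hb comm hh⟩

/-- Chart data for a cartesian square of thickenings of algebraic spaces. -/
theorem exists_cartesian_chart {X X' Y Y' : Sp S} (hX' : IsAlgSpace X') (hY' : IsAlgSpace Y')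
    {i : X ⟶ X'} {j : Y ⟶ Y'} {f : X ⟶ Y} {f' : X' ⟶ Y'} (hi : IsThickMor i) (hj : IsThickMor j)
    (hcart : IsPullback i f f' j) :
    ∃ (U U' V V' : Over S) (a : (yon S).obj U ⟶ X) (a' : (yon S).obj U' ⟶ X')
      (b : (yon S).obj V ⟶ Y) (b' : (yon S).obj V' ⟶ Y')
      (h : U ⟶ V) (h' : U' ⟶ V') (iU : U ⟶ U') (iV : V ⟶ V'),
      RepWith @Etale a ∧ RepWith @Surjective a ∧ RepWith @Etale a' ∧ RepWith @Surjective a' ∧
      RepWith @Etale b ∧ RepWith @Surjective b ∧ RepWith @Etale b' ∧ RepWith @Surjective b' ∧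
      a ≫ f = (yon S).map h ≫ b ∧ a' ≫ f' = (yon S).map h' ≫ b' ∧
      IsPullback iU.left h.left h'.left iV.left ∧ thick iV.left ∧ thick iU.left ∧
      IsPullback a ((yon S).map iU) i a' ∧ IsPullback b ((yon S).map iV) j b' := by
  obtain ⟨V', b', hb'e, hb's⟩ := hY'.atlas
  obtain ⟨U', a', h', ha'e, ha's, comm'⟩ := exists_chart_diagram hX' f' b' hb'e hb's
  have sqV := hj.rep.isPullback b'
  have sqU := hi.rep.isPullback a'
  have hiV : thick (hj.rep.snd b').left := hj.property_snd b'
  have hiU : thick (hi.rep.snd a').left := hi.property_snd a'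
  have hbe : RepWith @Etale (hj.rep.fst b') :=
    repWith_of_isPullback _ sqV.flip hb'e
  have hbs : RepWith @Surjective (hj.rep.fst b') :=
    repWith_of_isPullback _ sqV.flip hb's
  have hae : RepWith @Etale (hi.rep.fst a') :=
    repWith_of_isPullback _ sqU.flip ha'e
  have has : RepWith @Surjective (hi.rep.fst a') :=
    repWith_of_isPullback _ sqU.flip ha's
  generalize hi.rep.fst a' = a at *
  generalize hi.rep.snd a' = iU at *
  generalize hj.rep.fst b' = b at *
  generalize hj.rep.snd b' = iV at *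
  have hc : (a ≫ f) ≫ j = (yon S).map (iU ≫ h') ≫ b' := by
    rw [Category.assoc, ← hcart.w, ← Category.assoc, sqU.w, Category.assoc, comm',
      Functor.map_comp, Category.assoc]
  obtain ⟨h, hh⟩ := (yon S).map_surjective (sqV.lift _ _ hc)
  have comm : a ≫ f = (yon S).map h ≫ b := by rw [hh, sqV.lift_fst]
  have hcomm2 : (yon S).map h ≫ (yon S).map iV = (yon S).map iU ≫ (yon S).map h' := by
    rw [hh, sqV.lift_snd, Functor.map_comp]
  have big : IsPullback ((yon S).map iU) (a ≫ f) (a' ≫ f') j := sqU.flip.paste_vert hcart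
  rw [comm, comm'] at big
  have sqUV : IsPullback ((yon S).map iU) ((yon S).map h) ((yon S).map h') ((yon S).map iV) :=
    IsPullback.of_bot big hcomm2.symm sqV.flip
  refine ⟨_, U', _, V', a, a', b, b', h, h', iU, iV, hae, has, ha'e, ha's, hbe, hbs, hb'e, hb's,
    comm, comm', (IsPullback.of_map_of_faithful (yon S) sqUV).map (Over.forget S), hiV, hiU,
    sqU, sqV⟩

end Groth.Agent.Lib.Helper24.ThickSq
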