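import Mathlib
import Groth.Prelude.Def_AlgSpInf
import Groth.Agent.Lib.Helper24.ThickSq
import Groth.Agent.Lib.Helper14.AlgSpDiag3
import Groth.Agent.Lib.Helper14.AlgSpClosed
import Groth.Agent.Lib.Helper14.AlgSpQCMor

/-!
# Morphisms of thickenings of algebraic spaces: the diagonal (helper24)
-/

set_option autoImplicit false
universe u
open CategoryTheory CategoryTheory.Limits AlgebraicGeometry Opposite AlgSp Topology
open Groth.Agent.Lib.Helper14.AS

namespace Groth.Agent.Lib.Helper24.ThickSq

variable {S : Scheme.{u}}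

instance thick_isStableUnderComposition : (thick.{u}).IsStableUnderComposition :=
  ⟨fun f g hf hg => by
    have h1 : IsClosedImmersion f := hf.1
    have h2 : IsClosedImmersion g := hg.1
    have h3 : Surjective f := hf.2
    have h4 : Surjective g := hg.2
    exact ⟨(inferInstance : IsClosedImmersion (f ≫ g)), (inferInstance : Surjective (f ≫ g))⟩⟩

theorem isThickMor_comp {F G H : Sp S} {a : F ⟶ G} {b : G ⟶ H} (ha : IsThickMor a)
    (hb : IsThickMor b) : IsThickMor (a ≫ b) :=
  repWith_comp thick ha hb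

/-- The map of fibre squares induced by a morphism of thickenings is a thickening. -/
theorem exists_thick_fibreSquare {X X' Y Y' : Sp S} {i : X ⟶ X'} {j : Y ⟶ Y'}
    {f : X ⟶ Y} {f' : X' ⟶ Y'} (hi : IsThickMor i) (hj : IsThickMor j) (w : i ≫ f' = f ≫ j) :
    ∃ ii : pullback f f ⟶ pullback f' f', IsThickMor ii ∧
      ii ≫ pullback.fst f' f' = pullback.fst f f ≫ i ∧
      ii ≫ pullback.snd f' f' = pullback.snd f f ≫ i := by
  haveI := mono_of_isThickMor hj
  -- first factor
  have sqZ₁ : IsPullback f (𝟙 X) j (f ≫ j) := (isPullback_id_of_mono rfl).flip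
  obtain ⟨k₁, hk₁s, hk₁f, hk₁t⟩ := exists_thick_comparison hi w sqZ₁
    (IsPullback.of_hasPullback f f) (IsPullback.of_hasPullback f' (f ≫ j))
  -- second factor
  have w₂ : i ≫ f' = (i ≫ f') ≫ 𝟙 Y' := (Category.comp_id _).symm
  have sqZ₂ : IsPullback f' (𝟙 X') (𝟙 Y') f' := IsPullback.of_vert_isIso ⟨by simp⟩
  have sqM : IsPullback (pullback.snd f' (f ≫ j)) (pullback.fst f' (f ≫ j)) (i ≫ f') f' := by
    rw [w]
    exact (IsPullback.of_hasPullback f' (f ≫ j)).flip
  obtain ⟨k₂, hk₂s, hk₂f, hk₂t⟩ := exists_thick_comparison hi w₂ sqZ₂ sqM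
    (IsPullback.of_hasPullback f' f').flip
  refine ⟨k₁ ≫ k₂, isThickMor_comp hk₁t hk₂t, ?_, ?_⟩
  · rw [Category.assoc, hk₂s, Category.comp_id, hk₁f]
  · rw [Category.assoc, hk₂f, ← Category.assoc, hk₁s, Category.comp_id]

theorem closedImmersion_of_univClosed :
    (@UniversallyClosed ⊓ @LocallyOfFiniteType ⊓ MorphismProperty.monomorphisms Scheme.{u} ⊓
      @IsSeparated : MorphismProperty Scheme.{u}) ≤ @IsClosedImmersion := by
  rintro A B d ⟨⟨⟨h1, h2⟩, h3⟩, h4⟩
  have : UniversallyClosed d := h1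
  have : LocallyOfFiniteType d := h2
  have : Mono d := h3
  have : IsSeparated d := h4
  have : IsProper d := {}
  exact (IsClosedImmersion.iff_isProper_and_mono d).2 ⟨inferInstance, inferInstance⟩

theorem isSeparatedMor_iff_isUnivClosedMor_diagonal {X Y : Sp S} (hX : IsAlgSpace X) (f : X ⟶ Y) :
    IsSeparatedMor f ↔ IsUnivClosedMor (pullback.diagonal f) := by
  obtain ⟨hrep, hlft, hmono, hsep, -⟩ := diagonal_hom_properties hX f
  rw [← repWith_universallyClosed_iff_isUnivClosedMor hrep]
  constructor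
  · intro h
    exact repWith_mono (fun _ _ d (hd : IsClosedImmersion d) => (inferInstance : UniversallyClosed d)) h
  · intro h
    exact repWith_mono closedImmersion_of_univClosed
      (repWith_inf (repWith_inf (repWith_inf h hlft) hmono) hsep)

theorem isQuasiSeparatedMor_iff_isQuasiCompactMor_diagonal {X Y : Sp S} (hX : IsAlgSpace X)
    (f : X ⟶ Y) : IsQuasiSeparatedMor f ↔ IsQuasiCompactMor (pullback.diagonal f) :=
  repWith_quasiCompact_iff_isQuasiCompactMor (representable_diagonal f hX.diag)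

end Groth.Agent.Lib.Helper24.ThickSq
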