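import Mathlib
import Groth.Prelude.Def_AlgSpInf
import Groth.Agent.Lib.Helper24.ThickChart
import Groth.Agent.Lib.Helper24.ThickDiag
import Groth.Agent.Lib.Helper24.FpqcRep
import Groth.Agent.Lib.Helper14.IntFinRep
import Groth.Agent.Lib.Helper14.AlgSpLocP3
import Groth.Agent.Lib.Helper14.AlgSpSep
import Groth.Agent.S10260

/-!
# Finite = proper + locally quasi-finite for algebraic spaces; base charts for cartesian squares
of thickenings (helper24)
-/

set_option autoImplicit false
universe u
open CategoryTheory CategoryTheory.Limits AlgebraicGeometry Opposite AlgSp Topology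
open Groth.Agent.Lib.Helper14.AS Groth.Agent.Lib.Helper24.FpqcRep

namespace Groth.Agent.Lib.Helper24.ThickSq

variable {S : Scheme.{u}}

theorem finite_le_lqf_lft :
    (@IsFinite : MorphismProperty Scheme.{u}) ≤
      (@LocallyQuasiFinite ⊓ @LocallyOfFiniteType : MorphismProperty Scheme.{u}) :=
  fun _ _ f (h : IsFinite f) => ⟨inferInstance, inferInstance⟩

theorem finite_le_isSeparated : (@IsFinite : MorphismProperty Scheme.{u}) ≤ @IsSeparated :=
  fun _ _ f (h : IsFinite f) => inferInstance

theorem finite_le_quasiCompact : (@IsFinite : MorphismProperty Scheme.{u}) ≤ @QuasiCompact :=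
  fun _ _ f (h : IsFinite f) => inferInstance

theorem finite_le_universallyClosed :
    (@IsFinite : MorphismProperty Scheme.{u}) ≤ @UniversallyClosed :=
  fun _ _ f (h : IsFinite f) => inferInstance

set_option backward.isDefEq.respectTransparency.types false in
/-- A morphism of algebraic spaces is finite iff it is proper and locally quasi-finite. -/
theorem isFiniteMor_iff_isProperMor_and_lqf {X Y : Space S} (f : X ⟶ Y) :
    IsFiniteMor f.hom ↔ IsProperMor f.hom ∧
      LocP (@LocallyQuasiFinite ⊓ @LocallyOfFiniteType) f.hom := by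
  rw [(integral_finite_iff_repWith f).2]
  constructor
  · intro h
    have hlqf : LocP (@LocallyQuasiFinite ⊓ @LocallyOfFiniteType) f.hom :=
      locP_of_repWith etale_le_lqf_lft (repWith_mono finite_le_lqf_lft h)
    refine ⟨⟨?_, ⟨fun U V a b k ha hb comm => (hlqf a b k ha hb comm).2, ?_⟩, ?_⟩, hlqf⟩
    · exact (isSeparatedMor_iff_of_representable X.property h.rep).1.2
        (repWith_mono finite_le_isSeparated h)
    · exact isQuasiCompactMor_of_repWith (repWith_mono finite_le_quasiCompact h)
    · exact (repWith_universallyClosed_iff_isUnivClosedMor h.rep).1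
        (repWith_mono finite_le_universallyClosed h)
  · rintro ⟨⟨hsep, ⟨hlft, hqc⟩, huc⟩, hlqf⟩
    have hrep : Representable f.hom :=
      Groth.Agent.S10260.core X.property Y.property f.hom hlqf hsep
    have h1 : RepWith @IsSeparated f.hom :=
      (isSeparatedMor_iff_of_representable X.property hrep).1.1 hsep
    have h2 : RepWith (@LocallyQuasiFinite ⊓ @LocallyOfFiniteType) f.hom :=
      repWith_of_locP_of_representable etLocal_lqf_lft Y.property hrep hlqf
    have h3 : RepWith @QuasiCompact f.hom :=
      (repWith_quasiCompact_iff_isQuasiCompactMor hrep).2 hqc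
    have h4 : RepWith @UniversallyClosed f.hom :=
      (repWith_universallyClosed_iff_isUnivClosedMor hrep).2 huc
    refine ⟨hrep, fun T W g fst snd sq => ?_⟩
    have : IsSeparated snd.left := h1.property g fst snd sq
    have : LocallyQuasiFinite snd.left := (h2.property g fst snd sq).1
    have : LocallyOfFiniteType snd.left := (h2.property g fst snd sq).2
    have : QuasiCompact snd.left := h3.property g fst snd sq
    have : UniversallyClosed snd.left := h4.property g fst snd sq
    have : IsProper snd.left := {}
    exact IsFinite.of_isProper_of_locallyQuasiFinite snd.left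

/-- Base chart data for a cartesian square of thickenings with representable `f'`: the base
changes of `f` and `f'` to an atlas of `Y'` form a cartesian square of schemes. -/
theorem exists_cartesian_base_chart {X X' Y Y' : Sp S} (hY' : IsAlgSpace Y')
    {i : X ⟶ X'} {j : Y ⟶ Y'} {f : X ⟶ Y} {f' : X' ⟶ Y'} (hj : IsThickMor j)
    (hcart : IsPullback i f f' j) (hf' : Representable f') :
    ∃ (W W' V V' : Over S) (c : (yon S).obj W ⟶ X) (c' : (yon S).obj W' ⟶ X')
      (b : (yon S).obj V ⟶ Y) (b' : (yon S).obj V' ⟶ Y')
      (g : W ⟶ V) (g' : W' ⟶ V') (iW : W ⟶ W') (iV : V ⟶ V'),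
      RepWith @Etale b ∧ RepWith @Surjective b ∧ RepWith @Etale b' ∧ RepWith @Surjective b' ∧
      IsPullback c ((yon S).map g) f b ∧ IsPullback c' ((yon S).map g') f' b' ∧
      IsPullback iW.left g.left g'.left iV.left ∧ thick iV.left := by
  obtain ⟨V', b', hb'e, hb's⟩ := hY'.atlas
  have hf : Representable f := MorphismProperty.of_isPullback (P := Representable) hcart hf'
  have sqV := hj.rep.isPullback b'
  have hiV : thick (hj.rep.snd b').left := hj.property_snd b'
  have hbe : RepWith @Etale (hj.rep.fst b') := repWith_of_isPullback _ sqV.flip hb'e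
  have hbs : RepWith @Surjective (hj.rep.fst b') := repWith_of_isPullback _ sqV.flip hb's
  generalize hj.rep.fst b' = b at *
  generalize hj.rep.snd b' = iV at *
  have sq := hf.isPullback b
  have sq' := hf'.isPullback b'
  have hc : (hf.fst b ≫ i) ≫ f' = (yon S).map (hf.snd b ≫ iV) ≫ b' := by
    rw [Category.assoc, hcart.w, ← Category.assoc, sq.w, Category.assoc, sqV.w,
      Functor.map_comp, Category.assoc]
  obtain ⟨iW, hiW⟩ := (yon S).map_surjective (sq'.lift _ _ hc)
  have big : IsPullback (hf.fst b ≫ i) ((yon S).map (hf.snd b)) f' (b ≫ j) :=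
    sq.paste_horiz hcart
  rw [sqV.w] at big
  have e1 : (yon S).map iW ≫ hf'.fst b' = hf.fst b ≫ i := by rw [hiW, sq'.lift_fst]
  have e2 : (yon S).map iW ≫ (yon S).map (hf'.snd b') =
      (yon S).map (hf.snd b) ≫ (yon S).map iV := by
    rw [hiW, sq'.lift_snd, Functor.map_comp]
  have sqWV : IsPullback ((yon S).map iW) ((yon S).map (hf.snd b)) ((yon S).map (hf'.snd b'))
      ((yon S).map iV) :=
    IsPullback.of_right (by rw [e1]; exact big) e2 sq'
  exact ⟨_, _, _, V', hf.fst b, hf'.fst b', b, b', hf.snd b, hf'.snd b', iW, iV, hbe, hbs, hb'e,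
    hb's, sq, sq', (IsPullback.of_map_of_faithful (yon S) sqWV).map (Over.forget S), hiV⟩

end Groth.Agent.Lib.Helper24.ThickSq
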