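import Mathlib
import Groth.Agent.Lib.Helper6.UC1

/-!
# Universal closedness via affine spaces for algebraic spaces: ring-theoretic core (helper24)
-/

set_option autoImplicit false
universe u

open TensorProduct

namespace Groth.Agent.Lib.Helper24.UCSp

open Groth.Agent.Lib.Helper6.UC

/-- Ring form of the approximation lemma: a closed subset `T` of `Spec (R ⊗[A] B)` whose image in
`Spec R` misses `p` already misses (after closure of the image) the image of `p` at a polynomial
ring level. -/
theorem exists_mvPolynomial_not_mem_image_closure {A R B : Type u} [CommRing A] [CommRing R]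
    [CommRing B] [Algebra A R] [Algebra A B] (T : Set (PrimeSpectrum (R ⊗[A] B))) (hT : IsClosed T)
    (p : PrimeSpectrum R)
    (hp : p ∉ PrimeSpectrum.comap
      (Algebra.TensorProduct.includeLeftRingHom : R →+* R ⊗[A] B) '' T) :
    ∃ (n : ℕ) (ψ : MvPolynomial (ULift.{u} (Fin n)) A →ₐ[A] R),
      PrimeSpectrum.comap ψ.toRingHom p ∉
        PrimeSpectrum.comap (Algebra.TensorProduct.includeLeftRingHom :
          MvPolynomial (ULift.{u} (Fin n)) A →+* MvPolynomial (ULift.{u} (Fin n)) A ⊗[A] B) ''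
          closure (PrimeSpectrum.comap
            (Algebra.TensorProduct.map ψ (AlgHom.id A B)).toRingHom '' T) := by
  set Q : Ideal (R ⊗[A] B) := PrimeSpectrum.vanishingIdeal T with hQdef
  have hQT : PrimeSpectrum.zeroLocus (Q : Set (R ⊗[A] B)) = T := by
    rw [hQdef, PrimeSpectrum.zeroLocus_vanishingIdeal_eq_closure, hT.closure_eq]
  have hQ : ∀ (j : PUnit.{1}) (P : Ideal (R ⊗[A] B)), P.IsPrime → Q ≤ P →
      P.comap (Algebra.TensorProduct.includeLeftRingHom : R →+* R ⊗[A] B) ≠ p.asIdeal := by
    intro _ P hP hQP hcomap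
    apply hp
    refine ⟨⟨P, hP⟩, ?_, ?_⟩
    · rw [← hQT, PrimeSpectrum.mem_zeroLocus]
      exact hQP
    · ext1
      exact hcomap
  obtain ⟨n, ψ, hψ⟩ := exists_mvPolynomial_forall_not_liesOver (ι := PUnit.{1})
    (fun _ => B) (fun _ => Q) p.asIdeal hQ
  refine ⟨n, ψ, ?_⟩
  rintro ⟨P, hPmem, hPeq⟩
  have hcl : closure (PrimeSpectrum.comap
      (Algebra.TensorProduct.map ψ (AlgHom.id A B)).toRingHom '' T) =
      PrimeSpectrum.zeroLocus ((Q.comap
        (Algebra.TensorProduct.map ψ (AlgHom.id A B)).toRingHom : Ideal _) : Set _) := by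
    rw [← hQT]
    exact PrimeSpectrum.closure_image_comap_zeroLocus _ _
  rw [hcl, PrimeSpectrum.mem_zeroLocus] at hPmem
  refine hψ PUnit.unit P.asIdeal P.2 hPmem ?_
  have := congrArg PrimeSpectrum.asIdeal hPeq
  exact this

end Groth.Agent.Lib.Helper24.UCSp
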