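import Mathlib
import Groth.Agent.Lib.Helper24.UCSp1
import Groth.Agent.Lib.Helper14.AlgSpClosed
import Groth.Agent.Lib.Helper14.FinDimFun

/-!
# Universal closedness via affine spaces for algebraic spaces: the core argument (helper24)
-/

set_option autoImplicit false
universe u

open CategoryTheory CategoryTheory.Limits AlgebraicGeometry Opposite AlgSp TensorProduct
open Groth.Agent.Lib.Helper14.AS

namespace Groth.Agent.Lib.Helper24.UCSp

variable {S : Scheme.{u}} {A : Type u} [CommRing A] (sA : Spec (CommRingCat.of A) ⟶ S)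

/-- `Spec R` over `S` for an `A`-algebra `R`. -/
noncomputable abbrev ovr (R : Type u) [CommRing R] [Algebra A R] : Over S :=
  Over.mk (Spec.map (CommRingCat.ofHom (algebraMap A R)) ≫ sA)

/-- The structure morphism `Spec R ⟶ Spec A` over `S`. -/
noncomputable abbrev ovrHom (R : Type u) [CommRing R] [Algebra A R] : ovr sA R ⟶ Over.mk sA :=
  Over.homMk (Spec.map (CommRingCat.ofHom (algebraMap A R))) rfl

/-- The morphism `Spec R ⟶ Spec R'` over `S` of an `A`-algebra homomorphism `R' → R`. -/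
noncomputable def ovrMap {R R' : Type u} [CommRing R] [CommRing R'] [Algebra A R] [Algebra A R']
    (ψ : R' →ₐ[A] R) : ovr sA R ⟶ ovr sA R' :=
  Over.homMk (Spec.map (CommRingCat.ofHom ψ.toRingHom)) (by
    change Spec.map _ ≫ Spec.map _ ≫ sA = Spec.map _ ≫ sA
    rw [← Category.assoc, ← Spec.map_comp, ← CommRingCat.ofHom_comp, AlgHom.toRingHom_eq_coe,
      ψ.comp_algebraMap])

theorem ovrMap_ovrHom {R R' : Type u} [CommRing R] [CommRing R'] [Algebra A R] [Algebra A R']
    (ψ : R' →ₐ[A] R) : ovrMap sA ψ ≫ ovrHom sA R' = ovrHom sA R := by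
  ext
  change Spec.map _ ≫ Spec.map _ = Spec.map _
  rw [← Spec.map_comp, ← CommRingCat.ofHom_comp, AlgHom.toRingHom_eq_coe, ψ.comp_algebraMap]

theorem ovrMap_comp {R R' R'' : Type u} [CommRing R] [CommRing R'] [CommRing R''] [Algebra A R]
    [Algebra A R'] [Algebra A R''] (ψ : R' →ₐ[A] R) (φ : R'' →ₐ[A] R') :
    ovrMap sA ψ ≫ ovrMap sA φ = ovrMap sA (ψ.comp φ) := by
  ext
  change Spec.map _ ≫ Spec.map _ = Spec.map _
  rw [← Spec.map_comp, ← CommRingCat.ofHom_comp]
  rfl

/-- The fibre product square `Spec (R ⊗ B) = Spec B ×_{Spec A} Spec R` over `S`. -/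
theorem isPullback_ovr (R B : Type u) [CommRing R] [CommRing B] [Algebra A R] [Algebra A B] :
    IsPullback (ovrMap sA (Algebra.TensorProduct.includeRight : B →ₐ[A] R ⊗[A] B))
      (ovrMap sA (Algebra.TensorProduct.includeLeft : R →ₐ[A] R ⊗[A] B))
      (ovrHom sA B) (ovrHom sA R) := by
  refine IsPullback.of_map (Over.forget S) ?_ ?_
  · rw [ovrMap_ovrHom, ovrMap_ovrHom]
  · have h := isPullback_SpecMap_of_isPushout _ _ _ _ (CommRingCat.isPushout_tensorProduct A R B)
    exact h.flip

set_option backward.isDefEq.respectTransparency.types false in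
/-- The chart `Spec (R ⊗ B)` of the base change of `X₀` to `Spec R`. -/
theorem exists_chart {X₀ : Sp S} (q : X₀ ⟶ (yon S).obj (Over.mk sA)) (B : Type u) [CommRing B]
    [Algebra A B] (c : (yon S).obj (ovr sA B) ⟶ X₀) (hce : RepWith @Etale c)
    (hcs : RepWith @Surjective c) (hcq : c ≫ q = (yon S).map (ovrHom sA B))
    (R : Type u) [CommRing R] [Algebra A R] {P : Sp S} (fst : P ⟶ X₀)
    (snd : P ⟶ (yon S).obj (ovr sA R)) (sq : IsPullback fst snd q ((yon S).map (ovrHom sA R))) :
    ∃ cP : (yon S).obj (ovr sA (R ⊗[A] B)) ⟶ P,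
      cP ≫ fst = (yon S).map (ovrMap sA (Algebra.TensorProduct.includeRight : B →ₐ[A] R ⊗[A] B)) ≫ c ∧
      cP ≫ snd = (yon S).map (ovrMap sA (Algebra.TensorProduct.includeLeft : R →ₐ[A] R ⊗[A] B)) ∧
      RepWith @Etale cP ∧ RepWith @Surjective cP ∧
      IsPullback cP ((yon S).map (ovrMap sA (Algebra.TensorProduct.includeRight : B →ₐ[A] R ⊗[A] B)))
        fst c := by
  have sqW := (isPullback_ovr sA R B).map (yon S)
  have hcomm : ((yon S).map (ovrMap sA (Algebra.TensorProduct.includeRight : B →ₐ[A] R ⊗[A] B)) ≫ c) ≫ q =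
      (yon S).map (ovrMap sA (Algebra.TensorProduct.includeLeft : R →ₐ[A] R ⊗[A] B)) ≫
        (yon S).map (ovrHom sA R) := by
    rw [Category.assoc, hcq]
    exact sqW.w
  refine ⟨sq.lift _ _ hcomm, sq.lift_fst _ _ _, sq.lift_snd _ _ _, ?_⟩
  have sqc : IsPullback (sq.lift _ _ hcomm)
      ((yon S).map (ovrMap sA (Algebra.TensorProduct.includeRight : B →ₐ[A] R ⊗[A] B))) fst c := by
    refine IsPullback.of_right ?_ (sq.lift_fst _ _ _) sq.flip
    rw [sq.lift_snd, hcq]
    exact sqW.flip
  exact ⟨repWith_of_isPullback _ sqc.flip hce, repWith_of_isPullback _ sqc.flip hcs, sqc⟩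

theorem ofPt_yon_map_eq {T T' : Over S} (φ : T ⟶ T') (t : ↥T.left) :
    Points.ofPt ((yon S).map φ) t = Points.ofScheme T' (φ.left t) := by
  have := ofPt_yon_map_comp φ (𝟙 ((yon S).obj T')) t
  rwa [Category.comp_id] at this

set_option backward.isDefEq.respectTransparency.types false in
set_option maxHeartbeats 800000 in
/-- **Core**: if the base changes of `q : X₀ ⟶ Spec A` to all `Spec A[T₁,…,Tₙ]` are closed, then so
is the base change to every `Spec R`. Here `X₀` has the affine etale chart `Spec B`. -/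
theorem isClosedMap_of_affineSpace {X₀ : Sp S} (q : X₀ ⟶ (yon S).obj (Over.mk sA)) (B : Type u)
    [CommRing B] [Algebra A B] (c : (yon S).obj (ovr sA B) ⟶ X₀) (hce : RepWith @Etale c)
    (hcs : RepWith @Surjective c) (hcq : c ≫ q = (yon S).map (ovrHom sA B))
    (Hc : ∀ (n : ℕ) (P' : Sp S) (fst' : P' ⟶ X₀)
      (snd' : P' ⟶ (yon S).obj (ovr sA (MvPolynomial (ULift.{u} (Fin n)) A))),
      IsPullback fst' snd' q ((yon S).map (ovrHom sA (MvPolynomial (ULift.{u} (Fin n)) A))) →
        IsClosedMap (Points.map snd'))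
    (R : Type u) [CommRing R] [Algebra A R] {P : Sp S} (fst : P ⟶ X₀)
    (snd : P ⟶ (yon S).obj (ovr sA R)) (sq : IsPullback fst snd q ((yon S).map (ovrHom sA R))) :
    IsClosedMap (Points.map snd) := by
  intro T hT
  obtain ⟨cP, hcP1, hcP2, hcPe, hcPs, sqc⟩ := exists_chart sA q B c hce hcs hcq R fst snd sq
  rw [← (Points.schemeHomeo (ovr sA R)).isClosed_preimage, ← isOpen_compl_iff,
    isOpen_iff_forall_mem_open]
  intro z hz
  have hz' : Points.ofScheme (ovr sA R) z ∉ Points.map snd '' T := hz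
  -- the closed subset of the chart
  let TW : Set (PrimeSpectrum (R ⊗[A] B)) := Points.ofPt cP ⁻¹' T
  have hTW : IsClosed TW := hT.preimage (Points.continuous_ofPt cP)
  have F1 : ∀ w : PrimeSpectrum (R ⊗[A] B), Points.map snd (Points.ofPt cP w) =
      Points.ofScheme (ovr sA R) (PrimeSpectrum.comap
        (Algebra.TensorProduct.includeLeftRingHom : R →+* R ⊗[A] B) w) := by
    intro w
    rw [Points.map_ofPt, hcP2, ofPt_yon_map_eq]
    rfl
  have hp : (z : PrimeSpectrum R) ∉ PrimeSpectrum.comap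
      (Algebra.TensorProduct.includeLeftRingHom : R →+* R ⊗[A] B) '' TW := by
    rintro ⟨w, hw, hwz⟩
    apply hz'
    refine ⟨Points.ofPt cP w, hw, ?_⟩
    rw [F1, hwz]
  obtain ⟨n, ψ, hψ⟩ := exists_mvPolynomial_not_mem_image_closure TW hTW z hp
  -- level n
  have sq' := IsPullback.of_hasPullback q
    ((yon S).map (ovrHom sA (MvPolynomial (ULift.{u} (Fin n)) A)))
  set P' := Limits.pullback q ((yon S).map (ovrHom sA (MvPolynomial (ULift.{u} (Fin n)) A)))
    with hP'
  set fst' := pullback.fst q ((yon S).map (ovrHom sA (MvPolynomial (ULift.{u} (Fin n)) A)))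
    with hfst'
  set snd' := pullback.snd q ((yon S).map (ovrHom sA (MvPolynomial (ULift.{u} (Fin n)) A)))
    with hsnd'
  obtain ⟨cP', hcP'1, hcP'2, hcP'e, hcP's, sqc'⟩ :=
    exists_chart sA q B c hce hcs hcq (MvPolynomial (ULift.{u} (Fin n)) A) fst' snd' sq'
  have hτcomm : fst ≫ q = (snd ≫ (yon S).map (ovrMap sA ψ)) ≫
      (yon S).map (ovrHom sA (MvPolynomial (ULift.{u} (Fin n)) A)) := by
    rw [Category.assoc, ← Functor.map_comp, ovrMap_ovrHom]
    exact sq.w
  let τP : P ⟶ P' := sq'.lift fst (snd ≫ (yon S).map (ovrMap sA ψ)) hτcomm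
  have hτP1 : τP ≫ fst' = fst := sq'.lift_fst _ _ _
  have hτP2 : τP ≫ snd' = snd ≫ (yon S).map (ovrMap sA ψ) := sq'.lift_snd _ _ _
  let τ := ovrMap sA (Algebra.TensorProduct.map ψ (AlgHom.id A B))
  have hτ1 : τ ≫ ovrMap sA (Algebra.TensorProduct.includeRight :
      B →ₐ[A] MvPolynomial (ULift.{u} (Fin n)) A ⊗[A] B) =
      ovrMap sA (Algebra.TensorProduct.includeRight : B →ₐ[A] R ⊗[A] B) := by
    rw [ovrMap_comp]
    congr 1
    ext b
    simp
  have hτ2 : τ ≫ ovrMap sA (Algebra.TensorProduct.includeLeft :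
      MvPolynomial (ULift.{u} (Fin n)) A →ₐ[A] MvPolynomial (ULift.{u} (Fin n)) A ⊗[A] B) =
      ovrMap sA (Algebra.TensorProduct.includeLeft : R →ₐ[A] R ⊗[A] B) ≫ ovrMap sA ψ := by
    rw [ovrMap_comp, ovrMap_comp]
    congr 1
  have hcomp : cP ≫ τP = (yon S).map τ ≫ cP' := by
    apply sq'.hom_ext
    · rw [Category.assoc, hτP1, hcP1, Category.assoc, hcP'1, ← Category.assoc, ← Functor.map_comp,
        hτ1]
    · rw [Category.assoc, hτP2, ← Category.assoc, hcP2, Category.assoc, hcP'2, ← Functor.map_comp,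
        ← Functor.map_comp, hτ2]
  have sqτ : IsPullback cP ((yon S).map τ) τP cP' := by
    have : IsPullback ((yon S).map τ) cP cP' τP := by
      refine IsPullback.of_right ?_ hcomp.symm sqc'.flip
      rw [← Functor.map_comp, hτ1, hτP1]
      exact sqc.flip
    exact this.flip
  -- the closed set at level n
  let T' : Set (Points P') := closure (Points.map τP '' T)
  have hcl : IsClosed (Points.map snd' '' T') := Hc n P' fst' snd' sq' T' isClosed_closure
  let O : Set ↥(ovr sA R).left := {z' | Points.ofScheme _ ((ovrMap sA ψ).left z') ∉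
    Points.map snd' '' T'}
  have hO : IsOpen O := by
    have hcont : Continuous fun z' : ↥(ovr sA R).left =>
        Points.ofScheme (ovr sA (MvPolynomial (ULift.{u} (Fin n)) A)) ((ovrMap sA ψ).left z') :=
      (Points.schemeHomeo _).continuous.comp (ovrMap sA ψ).left.continuous
    exact hcl.isOpen_compl.preimage hcont
  refine ⟨O, ?_, hO, ?_⟩
  · -- O misses the image
    intro o ho hoC
    apply ho
    obtain ⟨t, ht, hto⟩ : Points.ofScheme (ovr sA R) o ∈ Points.map snd '' T := hoC
    refine ⟨Points.map τP t, subset_closure ⟨t, ht, rfl⟩, ?_⟩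
    rw [← Points.map_comp, hτP2, Points.map_comp, hto, Points.ofScheme,
      Points.map_ofPt, Category.id_comp, ofPt_yon_map_eq]
  · -- z ∈ O
    change Points.ofScheme _ ((ovrMap sA ψ).left z) ∉ Points.map snd' '' T'
    rintro ⟨t', ht', htz⟩
    obtain ⟨w', rfl⟩ := ofPt_surjective_of_repWith hcP's t'
    apply hψ
    refine ⟨w', ?_, ?_⟩
    · -- w' in the closure
      have hpre : Points.ofPt cP' ⁻¹' T' =
          closure (Points.ofPt cP' ⁻¹' (Points.map τP '' T)) :=
        (isOpenMap_ofPt cP' hcP'e).preimage_closure_eq_closure_preimage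
          (Points.continuous_ofPt cP') _
      have hw' : w' ∈ Points.ofPt cP' ⁻¹' T' := ht'
      rw [hpre] at hw'
      have himg : Points.ofPt cP' ⁻¹' (Points.map τP '' T) =
          (PrimeSpectrum.comap (Algebra.TensorProduct.map ψ (AlgHom.id A B)).toRingHom) '' TW := by
        ext v
        constructor
        · rintro ⟨t, ht, htv⟩
          obtain ⟨w, hw1, hw2⟩ := exists_point_of_isPullback_yon_right sqτ t v htv
          refine ⟨w, ?_, hw2⟩
          change Points.ofPt cP w ∈ T
          rw [hw1]; exact ht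
        · rintro ⟨w, hw, rfl⟩
          refine ⟨Points.ofPt cP w, hw, ?_⟩
          rw [Points.map_ofPt, hcomp, ofPt_yon_map_comp]
          rfl
      rw [himg] at hw'
      exact hw'
    · -- lies over
      have h1 : Points.map snd' (Points.ofPt cP' w') =
          Points.ofScheme _ (PrimeSpectrum.comap
            (Algebra.TensorProduct.includeLeftRingHom : MvPolynomial (ULift.{u} (Fin n)) A →+*
              MvPolynomial (ULift.{u} (Fin n)) A ⊗[A] B) w') := by
        rw [Points.map_ofPt, hcP'2, ofPt_yon_map_eq]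
        rfl
      rw [h1] at htz
      exact (Points.schemeHomeo _).injective htz

end Groth.Agent.Lib.Helper24.UCSp
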