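import Mathlib
import Groth.Agent.Lib.Helper24.UCSp2
import Groth.Agent.Lib.Helper14.AlgSpImmTop
import Groth.Agent.Lib.Helper14.AlgSpPoints2
import Groth.Agent.Lib.Helper14.AlgSpFibre
import Groth.Agent.Lib.Helper14.AlgSpQC
import Groth.Agent.Lib.Helper14.AlgSpQCMor
import Groth.Agent.Lib.Helper6.BddFibBasic

/-!
# Universal closedness via affine spaces for algebraic spaces: restriction and gluing (helper24)
-/

set_option autoImplicit false
universe u

open CategoryTheory CategoryTheory.Limits AlgebraicGeometry Opposite AlgSp TensorProduct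
open Groth.Agent.Lib.Helper14.AS

namespace Groth.Agent.Lib.Helper24.UCSp

variable {S : Scheme.{u}}

/-- The base change of `f` along `g` is closed on points. -/
def CL {X Y : Sp S} (f : X ⟶ Y) {Z : Sp S} (g : Z ⟶ Y) : Prop :=
  ∀ (P : Sp S) (fst : P ⟶ X) (snd : P ⟶ Z), IsPullback fst snd f g →
    IsClosedMap (Points.map snd)

set_option backward.isDefEq.respectTransparency.types false in
/-- Closedness of the base change restricts to opens. -/
theorem CL.restrict {X Y : Sp S} (hX : IsAlgSpace X) (hY : IsAlgSpace Y) {f : X ⟶ Y}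
    {Z Z' : Over S} {g : (yon S).obj Z ⟶ Y} (h : CL f g) (j : Z' ⟶ Z) [IsOpenImmersion j.left] :
    CL f ((yon S).map j ≫ g) := by
  intro P' fst' snd' sq'
  have sq := IsPullback.of_hasPullback f g
  set P := Limits.pullback f g
  set fst := pullback.fst f g
  set snd := pullback.snd f g
  have hP : IsAlgSpace P :=
    isAlgSpace_of_isPullback (repDiag_of_isAlgSpace hY) hX (IsAlgSpace.yon_obj Z) sq
  have hcomm : fst' ≫ f = (snd' ≫ (yon S).map j) ≫ g := by
    rw [Category.assoc]; exact sq'.w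
  let m : P' ⟶ P := sq.lift fst' (snd' ≫ (yon S).map j) hcomm
  have hm1 : m ≫ fst = fst' := sq.lift_fst _ _ _
  have hm2 : m ≫ snd = snd' ≫ (yon S).map j := sq.lift_snd _ _ _
  have sqm : IsPullback m snd' snd ((yon S).map j) :=
    IsPullback.of_right (by rw [hm1]; exact sq') hm2 sq
  have hj : RepWith @IsImmersion ((yon S).map j) :=
    repWith_mono (fun _ _ f (hf : IsOpenImmersion f) => (inferInstance : IsImmersion f))
      ((repWith_yon_map_iff @IsOpenImmersion j).2 inferInstance)
  have hmI : RepWith @IsImmersion m := repWith_of_isPullback _ sqm.flip hj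
  have hemb := (isEmbedding_points_of_repWith_isImmersion hP hmI).1
  intro T hT
  have hcl : IsClosed (Points.map snd '' closure (Points.map m '' T)) :=
    h P fst snd sq _ isClosed_closure
  have := points_preimage_image_eq sqm (closure (Points.map m '' T))
  rw [← hemb.isInducing.closure_eq_preimage_closure_image, hT.closure_eq] at this
  rw [← this]
  exact hcl.preimage (Points.continuous_map _)

set_option backward.isDefEq.respectTransparency.types false in
/-- Closedness of the base change is local on the target. -/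
theorem CL.of_local {X Y : Sp S} {f : X ⟶ Y} {Z : Over S} (g : (yon S).obj Z ⟶ Y)
    (h : ∀ z : ↥Z.left, ∃ (Z' : Over S) (j : Z' ⟶ Z), IsOpenImmersion j.left ∧
      z ∈ Set.range j.left ∧ CL f ((yon S).map j ≫ g)) : CL f g := by
  intro P fst snd sq T hT
  rw [← (Points.schemeHomeo Z).isClosed_preimage, ← isOpen_compl_iff, isOpen_iff_forall_mem_open]
  intro z hz
  obtain ⟨Z', j, hj, ⟨z', rfl⟩, hCL⟩ := h z
  have sq' := IsPullback.of_hasPullback snd ((yon S).map j)
  set P' := Limits.pullback snd ((yon S).map j)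
  set fst' := pullback.fst snd ((yon S).map j)
  set snd' := pullback.snd snd ((yon S).map j)
  have big : IsPullback (fst' ≫ fst) snd' f ((yon S).map j ≫ g) := sq'.paste_horiz sq
  have hcl : IsClosed (Points.map snd' '' (Points.map fst' ⁻¹' T)) :=
    hCL P' _ snd' big _ (hT.preimage (Points.continuous_map _))
  rw [← points_preimage_image_eq sq' T] at hcl
  have hcl' : IsClosed (j.left ⁻¹' (Points.schemeHomeo Z ⁻¹' (Points.map snd '' T))) := by
    have := hcl.preimage (Points.schemeHomeo Z').continuous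
    convert this using 1
    ext w
    simp only [Set.mem_preimage]
    rw [Points.map_yon_map_apply]
  refine ⟨j.left '' (j.left ⁻¹' (Points.schemeHomeo Z ⁻¹' (Points.map snd '' T)))ᶜ, ?_,
    j.left.isOpenEmbedding.isOpenMap _ hcl'.isOpen_compl, ⟨z', hz, rfl⟩⟩
  rintro _ ⟨w, hw, rfl⟩
  exact hw

set_option backward.isDefEq.respectTransparency.types false in
/-- A quasi-compact sheaf over `Spec A` has an affine etale chart of the form `Spec B`. -/
theorem exists_ovr_chart {A : Type u} [CommRing A] (sA : Spec (CommRingCat.of A) ⟶ S) {X₀ : Sp S}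
    (q : X₀ ⟶ (yon S).obj (Over.mk sA)) (hX₀ : IsQuasiCompactSp X₀) :
    ∃ (B : Type u) (_ : CommRing B) (_ : Algebra A B) (c : (yon S).obj (ovr sA B) ⟶ X₀),
      RepWith @Etale c ∧ RepWith @Surjective c ∧ c ≫ q = (yon S).map (ovrHom sA B) := by
  obtain ⟨U, p, hU, hpe, hps⟩ := isQuasiCompactSp_iff_exists_affine_chart.1 hX₀
  obtain ⟨b, hb⟩ := (yon S).map_surjective (p ≫ q)
  let φ : CommRingCat.of A ⟶ Γ(U.left, ⊤) :=
    (Scheme.ΓSpecIso (CommRingCat.of A)).inv ≫ b.left.appTop
  letI : Algebra A Γ(U.left, ⊤) := φ.hom.toAlgebra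
  have hbl : b.left = U.left.isoSpec.hom ≫ Spec.map φ :=
    Groth.Agent.Lib.Helper6.BddFibLib.eq_isoSpec_hom_comp b.left
  have hw : U.left.isoSpec.inv ≫ U.hom =
      Spec.map (CommRingCat.ofHom (algebraMap A Γ(U.left, ⊤))) ≫ sA := by
    have h1 : b.left ≫ sA = U.hom := Over.w b
    rw [← h1, hbl, Category.assoc, Iso.inv_hom_id_assoc]
    rfl
  let e : ovr sA Γ(U.left, ⊤) ≅ U := Over.isoMk U.left.isoSpec.symm hw
  have he1 : RepWith @Etale ((yon S).map e.hom) :=
    (repWith_yon_map_iff @Etale e.hom).2 (by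
      change Etale U.left.isoSpec.inv
      infer_instance)
  have he2 : RepWith @Surjective ((yon S).map e.hom) :=
    (repWith_yon_map_iff @Surjective e.hom).2 (by
      change Surjective U.left.isoSpec.inv
      infer_instance)
  refine ⟨Γ(U.left, ⊤), inferInstance, inferInstance, (yon S).map e.hom ≫ p,
    repWith_comp _ he1 hpe, repWith_comp _ he2 hps, ?_⟩
  rw [Category.assoc, ← hb, ← Functor.map_comp]
  congr 1
  ext
  change U.left.isoSpec.inv ≫ b.left = Spec.map _
  rw [hbl, Iso.inv_hom_id_assoc]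
  rfl

set_option backward.isDefEq.respectTransparency.types false in
/-- **Core, packaged**: for a quasi-compact `f`, closedness of the base changes to the affine
spaces over `Spec A` gives closedness of the base changes to all affine `Spec R` over `Spec A`. -/
theorem CL_of_affineSpace {X Y : Sp S} {f : X ⟶ Y} (hqc : IsQuasiCompactMor f)
    {A : Type u} [CommRing A] (sA : Spec (CommRingCat.of A) ⟶ S)
    (g₀ : (yon S).obj (Over.mk sA) ⟶ Y)
    (Hc : ∀ n : ℕ, CL f ((yon S).map (ovrHom sA (MvPolynomial (ULift.{u} (Fin n)) A)) ≫ g₀))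
    (R : Type u) [CommRing R] [Algebra A R] : CL f ((yon S).map (ovrHom sA R) ≫ g₀) := by
  have sq₀ := IsPullback.of_hasPullback f g₀
  set X₀ := Limits.pullback f g₀
  set p₀ := pullback.fst f g₀
  set q := pullback.snd f g₀
  have hX₀ : IsQuasiCompactSp X₀ :=
    hqc (IsAlgSpace.yon_obj _) ((isQuasiCompactSp_yon_iff (Over.mk sA)).2 (by
      change CompactSpace ↥(Spec (CommRingCat.of A))
      infer_instance)) g₀ p₀ q sq₀
  obtain ⟨B, _, _, c, hce, hcs, hcq⟩ := exists_ovr_chart sA q hX₀
  -- the general transfer between `CL` and base changes of `q`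
  have key : ∀ (R' : Type u) [CommRing R'] [Algebra A R'] (P : Sp S) (fst : P ⟶ X)
      (snd : P ⟶ (yon S).obj (ovr sA R')),
      IsPullback fst snd f ((yon S).map (ovrHom sA R') ≫ g₀) →
      ∃ m : P ⟶ X₀, IsPullback m snd q ((yon S).map (ovrHom sA R')) := by
    intro R' _ _ P fst snd sq
    have hcomm : fst ≫ f = (snd ≫ (yon S).map (ovrHom sA R')) ≫ g₀ := by
      rw [Category.assoc]; exact sq.w
    refine ⟨sq₀.lift fst (snd ≫ (yon S).map (ovrHom sA R')) hcomm, ?_⟩
    exact IsPullback.of_right (by rw [sq₀.lift_fst]; exact sq) (sq₀.lift_snd _ _ _) sq₀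
  intro P fst snd sq
  obtain ⟨m, sqm⟩ := key R P fst snd sq
  refine isClosedMap_of_affineSpace sA q B c hce hcs hcq ?_ R m snd sqm
  intro n P' fst' snd' sq'
  exact Hc n P' (fst' ≫ p₀) snd' (sq'.paste_horiz sq₀)

set_option backward.isDefEq.respectTransparency.types false in
/-- Closedness of the base changes to `𝔸ⁿ_V` restricts to the affine spaces over an affine open
`Spec A` of `V`. -/
theorem CL_mvPolynomial_of_affineSpace {X Y : Sp S} (hX : IsAlgSpace X) (hY : IsAlgSpace Y)
    {f : X ⟶ Y} (V : Over S) (p : (yon S).obj V ⟶ Y) (n : ℕ)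
    (H : CL f ((yon S).map (Over.homMk (𝔸(ULift.{u} (Fin n); V.left) ↘ V.left) :
      Over.mk ((𝔸(ULift.{u} (Fin n); V.left) ↘ V.left) ≫ V.hom) ⟶ V) ≫ p))
    {A : Type u} [CommRing A] (a : Spec (CommRingCat.of A) ⟶ V.left) [IsOpenImmersion a] :
    CL f ((yon S).map (ovrHom (a ≫ V.hom) (MvPolynomial (ULift.{u} (Fin n)) A)) ≫
      (yon S).map (Over.homMk a : Over.mk (a ≫ V.hom) ⟶ V) ≫ p) := by
  have hmap : IsOpenImmersion (AffineSpace.map (ULift.{u} (Fin n)) a) :=
    MorphismProperty.of_isPullback (P := @IsOpenImmersion)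
      (AffineSpace.isPullback_map (n := ULift.{u} (Fin n)) a).flip inferInstance
  have hw : ((AffineSpace.SpecIso (ULift.{u} (Fin n)) (CommRingCat.of A)).inv ≫
      AffineSpace.map (ULift.{u} (Fin n)) a) ≫ (𝔸(ULift.{u} (Fin n); V.left) ↘ V.left) =
      Spec.map (CommRingCat.ofHom (algebraMap A (MvPolynomial (ULift.{u} (Fin n)) A))) ≫ a := by
    rw [Category.assoc, AffineSpace.map_over, AffineSpace.SpecIso_inv_over_assoc]
    rfl
  let jn : ovr (a ≫ V.hom) (MvPolynomial (ULift.{u} (Fin n)) A) ⟶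
      Over.mk ((𝔸(ULift.{u} (Fin n); V.left) ↘ V.left) ≫ V.hom) :=
    Over.homMk ((AffineSpace.SpecIso (ULift.{u} (Fin n)) (CommRingCat.of A)).inv ≫
      AffineSpace.map (ULift.{u} (Fin n)) a) (by
        change _ ≫ _ ≫ V.hom = _ ≫ a ≫ V.hom
        rw [← Category.assoc, hw, Category.assoc])
  haveI : IsOpenImmersion jn.left := by
    change IsOpenImmersion ((AffineSpace.SpecIso (ULift.{u} (Fin n)) (CommRingCat.of A)).inv ≫
      AffineSpace.map (ULift.{u} (Fin n)) a)
    infer_instance
  have := H.restrict hX hY jn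
  have e : jn ≫ (Over.homMk (𝔸(ULift.{u} (Fin n); V.left) ↘ V.left) :
      Over.mk ((𝔸(ULift.{u} (Fin n); V.left) ↘ V.left) ≫ V.hom) ⟶ V) =
      ovrHom (a ≫ V.hom) (MvPolynomial (ULift.{u} (Fin n)) A) ≫
        (Over.homMk a : Over.mk (a ≫ V.hom) ⟶ V) := by
    ext
    exact hw
  rwa [← Category.assoc, ← Functor.map_comp, e, Functor.map_comp, Category.assoc] at this

set_option backward.isDefEq.respectTransparency.types false in
set_option maxHeartbeats 800000 in
/-- **(3) ⟹ (1)**: a quasi-compact morphism whose base changes to the affine spaces over an etale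
atlas of the target are closed is universally closed. -/
theorem isUnivClosedMor_of_affineSpaces {X Y : Sp S} (hX : IsAlgSpace X) (hY : IsAlgSpace Y)
    {f : X ⟶ Y} (hqc : IsQuasiCompactMor f) (V : Over S) (p : (yon S).obj V ⟶ Y)
    (hpe : RepWith @Etale p) (hps : RepWith @Surjective p)
    (H : ∀ n : ℕ, CL f ((yon S).map (Over.homMk (𝔸(ULift.{u} (Fin n); V.left) ↘ V.left) :
      Over.mk ((𝔸(ULift.{u} (Fin n); V.left) ↘ V.left) ≫ V.hom) ⟶ V) ≫ p)) :
    IsUnivClosedMor f := by
  have sqV := IsPullback.of_hasPullback f p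
  refine isUnivClosedMor_of_etale_cover hY (IsAlgSpace.yon_obj V) p hpe hps sqV ?_
  rw [isUnivClosedMor_iff_affine]
  intro Z hZ g P fst snd sq
  obtain ⟨γ, rfl⟩ := (yon S).map_surjective g
  suffices h : CL f ((yon S).map γ ≫ p) from h P _ snd (sq.paste_horiz sqV)
  apply CL.of_local
  intro z
  -- affine open neighbourhoods
  obtain ⟨A, a, ha, hva, -⟩ := Scheme.exists_affine_mem_range_and_range_subset
    (x := γ.left z) (U := ⊤) trivial
  obtain ⟨R, r, hr, hzr, hrU⟩ := Scheme.exists_affine_mem_range_and_range_subset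
    (x := z) (U := γ.left ⁻¹ᵁ a.opensRange) hva
  have hrange : Set.range (r ≫ γ.left) ⊆ Set.range a := by
    rintro _ ⟨w, rfl⟩
    exact hrU ⟨w, rfl⟩
  let δ₀ : Spec R ⟶ Spec A := IsOpenImmersion.lift a (r ≫ γ.left) hrange
  have hδ₀ : δ₀ ≫ a = r ≫ γ.left := IsOpenImmersion.lift_fac _ _ _
  let ψ : A ⟶ R := Spec.preimage δ₀
  have hψ : Spec.map ψ = δ₀ := Spec.map_preimage δ₀
  letI : Algebra A R := ψ.hom.toAlgebra
  have hψ' : Spec.map (CommRingCat.ofHom (algebraMap A R)) = δ₀ := hψ
  have hw : r ≫ Z.hom = (ovr (A := A) (a ≫ V.hom) R).hom := by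
    change _ = Spec.map (CommRingCat.ofHom (algebraMap A R)) ≫ a ≫ V.hom
    rw [hψ', ← Category.assoc, hδ₀, Category.assoc, Over.w γ]
  let j : ovr (A := A) (a ≫ V.hom) R ⟶ Z := Over.homMk r hw
  refine ⟨_, j, ?_, ?_, ?_⟩
  · change IsOpenImmersion r
    infer_instance
  · exact hzr
  · have e : j ≫ γ = ovrHom (A := A) (a ≫ V.hom) R ≫
        (Over.homMk a : Over.mk (a ≫ V.hom) ⟶ V) := by
      ext
      change r ≫ γ.left = Spec.map (CommRingCat.ofHom (algebraMap A R)) ≫ a
      rw [hψ', hδ₀]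
    rw [← Category.assoc, ← Functor.map_comp, e, Functor.map_comp, Category.assoc]
    refine CL_of_affineSpace (A := A) hqc (a ≫ V.hom) _ ?_ R
    intro n
    exact CL_mvPolynomial_of_affineSpace (A := A) hX hY V p n (H n) a

end Groth.Agent.Lib.Helper24.UCSp
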