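import Mathlib
set_option autoImplicit false
universe u
open CategoryTheory CategoryTheory.Limits AlgebraicGeometry Opposite

namespace Groth.Agent.Lib.Helper24.DescRefine

/-- An fppf cover of a quasi-compact scheme can be refined by an affine scheme (a finite disjoint
union of affine opens of the source). -/
theorem exists_affine_refinement {Z'' Z : Scheme.{u}} (c : Z'' ⟶ Z) [Flat c]
    [LocallyOfFinitePresentation c] [Surjective c] [CompactSpace Z] :
    ∃ (Z' : Scheme.{u}) (j : Z' ⟶ Z''), IsAffine Z' ∧ Etale j ∧ Surjective (j ≫ c) := by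
  let 𝒰 := Z''.affineCover
  have hopen : ∀ i, IsOpen (Set.range (𝒰.f i ≫ c)) := fun i =>
    (𝒰.f i ≫ c).isOpenMap.isOpen_range
  have hcov : (Set.univ : Set Z) ⊆ ⋃ i, Set.range (𝒰.f i ≫ c) := by
    intro z _
    obtain ⟨y, rfl⟩ := c.surjective z
    obtain ⟨i, x, rfl⟩ := 𝒰.exists_eq y
    exact Set.mem_iUnion.2 ⟨i, x, by simp⟩
  obtain ⟨t, ht⟩ := isCompact_univ.elim_finite_subcover _ hopen hcov
  let X' : t → Scheme.{u} := fun i => 𝒰.X i.1
  have : ∀ i, IsAffine (X' i) := fun i => by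
    dsimp [X', 𝒰]
    infer_instance
  have hloc : IsZariskiLocalAtSource @Etale.{u} := HasRingHomProperty.instIsZariskiLocalAtSource
  refine ⟨∐ X', Sigma.desc (fun i => 𝒰.f i.1), inferInstance, ?_, ?_⟩
  · exact IsZariskiLocalAtSource.sigmaDesc (P := @Etale) (fun i => inferInstance)
  · constructor
    intro z
    obtain ⟨i, hi, x, hx⟩ := Set.mem_iUnion₂.1 (ht (Set.mem_univ z))
    refine ⟨Sigma.ι X' ⟨i, hi⟩ x, ?_⟩
    rw [← Scheme.Hom.comp_apply, ← Category.assoc, Sigma.ι_desc]
    exact hx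

end Groth.Agent.Lib.Helper24.DescRefine
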