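import Groth.Agent.Lib.Helper24.DescRep
import Groth.Agent.Lib.Helper24.DescRefine
set_option autoImplicit false
set_option linter.unusedSectionVars false
universe u
open CategoryTheory CategoryTheory.Limits AlgebraicGeometry Opposite

/-! Descent of affine-type morphism properties of algebraic spaces along an etale chart. -/

namespace Groth.Agent.Lib.Helper24.DescAffMor
open AlgSp Desc Groth.Agent.Lib.Helper14.AS Groth.Agent.Lib.Helper24.DescSheaf
open Groth.Agent.Lib.Helper24.DescBridge Groth.Agent.Lib.Helper24.DescRep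
open Groth.Agent.Lib.Helper24.DescAffine Groth.Agent.Lib.Helper24.DescRefine

variable {S : Scheme.{u}}

/-- **Affine descent along an etale chart.** Let `p : h_V ⟶ G` be representable etale
surjective and suppose the base change `snd : F ×_G h_V ⟶ h_V` of `f : F ⟶ G` is, over every
affine scheme, represented by an affine scheme whose structure map has `Qr`. Then for every affine
`Z ⟶ G` the base change of `f` is represented by an affine scheme `U₀` over `Z`, and `U₀ ⟶ Z`
becomes, after a faithfully flat base change of affine schemes, a morphism with `Qr`. -/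
theorem exists_affine_descent (Qr : MorphismProperty Scheme.{u}) {F G : Sp S} (f : F ⟶ G)
    {V : Over S} (p : (yon S).obj V ⟶ G) (hp : RepWith @Etale p) (hps : RepWith @Surjective p)
    {P : Sp S} (fst : P ⟶ F) (snd : P ⟶ (yon S).obj V) (sq : IsPullback fst snd f p)
    (h : ∀ ⦃Z' : Over S⦄, IsAffine Z'.left → ∀ (g' : (yon S).obj Z' ⟶ (yon S).obj V),
      ∃ (W' : Over S) (r : W' ⟶ Z') (fst' : (yon S).obj W' ⟶ P),
        IsPullback fst' ((yon S).map r) snd g' ∧ IsAffine W'.left ∧ Qr r.left)
    ⦃Z : Over S⦄ (hZ : IsAffine Z.left) (g : (yon S).obj Z ⟶ G) :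
    ∃ (U₀ : Over Z.left) (fstW : (yon S).obj (descObj U₀) ⟶ F),
      IsPullback fstW ((yon S).map (descProj U₀)) f g ∧ IsAffine U₀.left ∧
      ∃ (Z'l W'l : Scheme.{u}) (c : Z'l ⟶ Z.left) (r : W'l ⟶ Z'l) (a : W'l ⟶ U₀.left),
        IsAffine Z'l ∧ IsAffine W'l ∧ Flat c ∧ Surjective c ∧ IsPullback a r U₀.hom c ∧ Qr r := by
  have hr := hp.rep
  obtain ⟨Z'', fst'', snd'', sq''⟩ : ∃ (Z'' : Over S) (fst'' : (yon S).obj Z'' ⟶ (yon S).obj V)
      (snd'' : Z'' ⟶ Z), IsPullback fst'' ((yon S).map snd'') p g :=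
    ⟨_, _, hr.snd g, hr.isPullback g⟩
  have he : Etale snd''.left := hp.property g _ _ sq''
  have hs : Surjective snd''.left := hps.property g _ _ sq''
  have : CompactSpace Z.left := inferInstance
  obtain ⟨Z'l, j, hZ', hj, hjs⟩ := exists_affine_refinement snd''.left
  let Z' : Over S := Over.mk (j ≫ Z''.hom)
  let j' : Z' ⟶ Z'' := Over.homMk j rfl
  let c : Z' ⟶ Z := j' ≫ snd''
  have hcl : c.left = j ≫ snd''.left := rfl
  have hcf : Flat c.left := by rw [hcl]; infer_instance
  have hcs : Surjective c.left := by rw [hcl]; exact hjs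
  have : LocallyOfFinitePresentation c.left := by rw [hcl]; infer_instance
  obtain ⟨W', r, fst', sq', hW', hQr⟩ := h hZ' ((yon S).map j' ≫ fst'')
  let E : Sp S := pullback f g
  let π : E ⟶ (yon S).obj Z := pullback.snd f g
  have hcomm : ((yon S).map j' ≫ fst'') ≫ p = (yon S).map c ≫ g := by
    rw [Category.assoc, sq''.w, ← Category.assoc, ← Functor.map_comp]
  have houter : IsPullback (fst' ≫ fst) ((yon S).map r) f ((yon S).map c ≫ g) := by
    have := sq'.paste_horiz sq
    rw [hcomm] at this
    exact this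
  let fstV : (yon S).obj W' ⟶ E := pullback.lift (fst' ≫ fst) ((yon S).map r ≫ (yon S).map c)
    (by rw [Category.assoc]; exact houter.w)
  have sqE : IsPullback fstV ((yon S).map r) π ((yon S).map c) := by
    refine IsPullback.of_right ?_ (pullback.lift_snd _ _ _) (IsPullback.of_hasPullback f g)
    rw [pullback.lift_fst]
    exact houter
  have : IsAffine (ddOfSq sqE).obj.left := hW'
  have : IsAffine Z'.left := hZ'
  obtain ⟨U₀, hU₀, ⟨i⟩⟩ := exists_iso_toDD_of_isAffine (p := c.left) (ddOfSq sqE)
  obtain ⟨fstW, hW⟩ := exists_isPullback_of_effective f g c r fstV sqE U₀ i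
  obtain ⟨e, he'⟩ := exists_iso_pullback sqE U₀ i
  refine ⟨U₀, fstW, hW, hU₀, Z'.left, W'.left, c.left, r.left, e.inv ≫ pullback.fst U₀.hom c.left,
    hZ', hW', hcf, hcs, ?_, hQr⟩
  refine IsPullback.of_iso (IsPullback.of_hasPullback U₀.hom c.left) e (Iso.refl _) (Iso.refl _)
    (Iso.refl _) ?_ ?_ ?_ ?_
  · simp
  · simp only [Iso.refl_hom, Category.comp_id]
    exact he'
  · simp
  · simp

end Groth.Agent.Lib.Helper24.DescAffMor
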