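import Mathlib.AlgebraicGeometry.AffineTransitionLimit
import Mathlib.Topology.Category.TopCat.Limits.Basic

set_option autoImplicit false

namespace Groth.Agent.Lib.Helper24

open CategoryTheory Limits AlgebraicGeometry

universe u

variable {I : Type u} [Category.{u} I] [IsCofiltered I] (D : I ⥤ Scheme.{u})
  [∀ {i j : I} (f : i ⟶ j), IsAffineHom (D.map f)] (c : Cone D) (hc : IsLimit c)

include hc in
/-- Points of the limit are determined by their images in the stages. -/
lemma affLim_point_ext (x y : c.pt) (h : ∀ i, c.π.app i x = c.π.app i y) : x = y := by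
  by_contra hne
  have hB := isBasis_preimage_isAffineOpen D c hc
  rw [TopologicalSpace.Opens.isBasis_iff_nbhd] at hB
  obtain ⟨U, hU, hxy⟩ := exists_isOpen_xor_mem hne
  rcases hxy with ⟨hx, hy⟩ | ⟨hy, hx⟩
  · obtain ⟨_, ⟨i, V, -, rfl⟩, hxV, hVU⟩ := hB (U := ⟨U, hU⟩) hx
    apply hy
    apply hVU
    change c.π.app i y ∈ V
    rw [← h i]
    exact hxV
  · obtain ⟨_, ⟨i, V, -, rfl⟩, hyV, hVU⟩ := hB (U := ⟨U, hU⟩) hy
    apply hx
    apply hVU
    change c.π.app i x ∈ V
    rw [h i]
    exact hyV


section residue

variable (x : ∀ i, D.obj i) (hx : ∀ (i j : I) (f : i ⟶ j), D.map f (x i) = x j)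

/-- The diagram of spectra of residue fields at a compatible family of points. -/
noncomputable def residueDiagram : I ⥤ Scheme.{u} where
  obj i := Spec ((D.obj i).residueField (x i))
  map {i j} f := Spec.map (((D.obj j).residueFieldCongr (hx i j f)).inv ≫
    (D.map f).residueFieldMap (x i))
  map_id i := by
    rw [← cancel_mono ((D.obj i).fromSpecResidueField (x i))]
    simp
  map_comp {i j k} f g := by
    rw [← cancel_mono ((D.obj k).fromSpecResidueField (x k))]
    simp

/-- The natural map from the residue diagram to the original diagram. -/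
noncomputable def residueDiagramι : residueDiagram D x hx ⟶ D where
  app i := (D.obj i).fromSpecResidueField (x i)
  naturality {i j} f := by
    simp [residueDiagram]

omit [∀ {i j : I} (f : i ⟶ j), IsAffineHom (D.map f)] in
include hc hx in
/-- Every compatible family of points comes from a point of the limit. -/
lemma affLim_exists_point : ∃ s : c.pt, ∀ i, c.π.app i s = x i := by
  let F := residueDiagram D x hx
  have hFaff (i : I) : IsAffine (F.obj i) := inferInstanceAs (IsAffine (Spec _))
  have hFne (i : I) : Nonempty (F.obj i) :=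
    inferInstanceAs (Nonempty (Spec ((D.obj i).residueField (x i))))
  have hFmap {i j : I} (f : i ⟶ j) : IsAffineHom (F.map f) := isAffineHom_of_isAffine _
  let e : F ⟶ (F ⋙ Scheme.Γ.rightOp) ⋙ Scheme.Spec := Functor.whiskerLeft F ΓSpec.adjunction.unit
  have (i : _) : IsIso (e.app i) := IsAffine.affine
  have : IsIso e := NatIso.isIso_of_isIso_app e
  let c' : LimitCone F := ⟨_, (IsLimit.postcomposeInvEquiv (asIso e) _).symm
    (isLimitOfPreserves Scheme.Spec (limit.isLimit (F ⋙ Scheme.Γ.rightOp)))⟩
  have hne : Nonempty c'.cone.pt := Scheme.nonempty_of_isLimit F c'.cone c'.isLimit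
  obtain ⟨s'⟩ := hne
  let ι := residueDiagramι D x hx
  let l : c'.cone.pt ⟶ c.pt := hc.lift ((Cone.postcompose ι).obj c'.cone)
  have h1 (i : I) : l ≫ c.π.app i = c'.cone.π.app i ≫ (D.obj i).fromSpecResidueField (x i) :=
    hc.fac _ i
  refine ⟨l s', fun i => ?_⟩
  have h2 : c.π.app i (l s') = (l ≫ c.π.app i) s' := (Scheme.Hom.comp_apply _ _ _).symm
  rw [h2, h1 i, Scheme.Hom.comp_apply]
  exact Scheme.fromSpecResidueField_apply (x i) _

end residue

end Groth.Agent.Lib.Helper24
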