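import Mathlib
set_option autoImplicit false
set_option linter.style.haveILetI false
universe u
open TensorProduct

namespace Groth.Agent.Lib.Helper24.IntegralDescent

variable {R S : Type*} [CommRing R] [CommRing S] [Algebra R S]
  (T : Type*) [CommRing T] [Algebra R T]

/-- integrality descends along faithfully flat base change -/
theorem isIntegral_of_tensorProduct_faithfullyFlat [Module.FaithfullyFlat R T]
    [Algebra.IsIntegral T (T ⊗[R] S)] : Algebra.IsIntegral R S := by
  refine ⟨fun s => ?_⟩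
  let M : Submodule R S := Subalgebra.toSubmodule (Algebra.adjoin R {s})
  have hM : M = Submodule.span R (Submonoid.powers s : Set S) := by
    simp only [M, Algebra.adjoin_eq_span, Submonoid.closure_singleton_eq]
    rfl
  -- the base change of `M` is the `T`-submodule generated by the powers of `1 ⊗ s`
  have hbc : M.baseChange T =
      Subalgebra.toSubmodule (Algebra.adjoin T {(1 : T) ⊗ₜ[R] s}) := by
    rw [hM, Submodule.baseChange_span, Algebra.adjoin_eq_span, Submonoid.closure_singleton_eq]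
    congr 1
    ext x
    constructor
    · rintro ⟨y, hy, rfl⟩
      obtain ⟨n, rfl⟩ := (Submonoid.mem_powers_iff y s).1 hy
      exact (Submonoid.mem_powers_iff _ _).2 ⟨n, by simp [Algebra.TensorProduct.tmul_pow]⟩
    · intro hx
      obtain ⟨n, rfl⟩ := (Submonoid.mem_powers_iff x _).1 hx
      exact ⟨s ^ n, (Submonoid.mem_powers_iff _ _).2 ⟨n, rfl⟩,
        by simp [Algebra.TensorProduct.tmul_pow]⟩
  have hfg : (M.baseChange T).FG := by
    rw [hbc]
    exact (Algebra.IsIntegral.isIntegral (R := T) ((1 : T) ⊗ₜ[R] s)).fg_adjoin_singleton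
  have hinj : Function.Injective (M.toBaseChange T) := by
    have h1 : Function.Injective (M.subtype.baseChange T) :=
      Module.Flat.lTensor_preserves_injective_linearMap (M := T) M.subtype M.injective_subtype
    intro x y hxy
    apply h1
    have := congrArg Subtype.val hxy
    exact this
  have hfin : Module.Finite T (T ⊗[R] M) := by
    have : Module.Finite T (M.baseChange T) := Module.Finite.of_fg hfg
    exact Module.Finite.equiv
      (LinearEquiv.ofBijective (M.toBaseChange T) ⟨hinj, M.toBaseChange_surjective T⟩).symm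
  have hMfin : Module.Finite R M := Module.Finite.of_finite_tensorProduct_of_faithfullyFlat T
  have hfgM : M.FG := Module.Finite.iff_fg.1 hMfin
  exact IsIntegral.of_mem_of_fg (Algebra.adjoin R {s}) hfgM s (Algebra.subset_adjoin rfl)

theorem isIntegral_codescendsAlong_faithfullyFlat :
    RingHom.CodescendsAlong (fun f => f.IsIntegral) RingHom.FaithfullyFlat := by
  refine .mk _ RingHom.isIntegral_respectsIso fun R S T _ _ _ _ _ h h' ↦ ?_
  rw [RingHom.faithfullyFlat_algebraMap_iff] at h
  have : Algebra.IsIntegral S (S ⊗[R] T) := Algebra.isIntegral_def.2 h'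
  exact Algebra.isIntegral_def.1 (isIntegral_of_tensorProduct_faithfullyFlat S)

open CategoryTheory CategoryTheory.Limits AlgebraicGeometry in
/-- descent of a ring-hom property along a faithfully flat base change of affine schemes -/
theorem descends_affine {Q : ∀ {R S : Type u} [CommRing R] [CommRing S], (R →+* S) → Prop}
    (hQQ' : RingHom.CodescendsAlong Q RingHom.FaithfullyFlat)
    {X' X Z' Z : Scheme.{u}} [IsAffine X'] [IsAffine X] [IsAffine Z'] [IsAffine Z]
    {a : X' ⟶ X} {r : X' ⟶ Z'} {v : X ⟶ Z} {c : Z' ⟶ Z} (sq : IsPullback a r v c)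
    [Flat c] [Surjective c] (hr : Q r.appTop.hom) : Q v.appTop.hom := by
  have po := isPushout_appTop_of_isPullback sq
  have hc : c.appTop.hom.FaithfullyFlat :=
    (Flat.flat_and_surjective_iff_faithfullyFlat_of_isAffine (f := c)).1 ⟨inferInstance, inferInstance⟩
  letI : Algebra Γ(Z, ⊤) Γ(X, ⊤) := v.appTop.hom.toAlgebra
  letI : Algebra Γ(Z, ⊤) Γ(Z', ⊤) := c.appTop.hom.toAlgebra
  letI : Algebra Γ(X, ⊤) Γ(X', ⊤) := a.appTop.hom.toAlgebra
  letI : Algebra Γ(Z', ⊤) Γ(X', ⊤) := r.appTop.hom.toAlgebra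
  letI : Algebra Γ(Z, ⊤) Γ(X', ⊤) := (v.appTop ≫ a.appTop).hom.toAlgebra
  haveI : IsScalarTower Γ(Z, ⊤) Γ(X, ⊤) Γ(X', ⊤) := .of_algebraMap_eq (fun x => rfl)
  haveI : IsScalarTower Γ(Z, ⊤) Γ(Z', ⊤) Γ(X', ⊤) := .of_algebraMap_eq (fun x => by
    exact congr($(po.w) x))
  have hP : Algebra.IsPushout Γ(Z, ⊤) Γ(X, ⊤) Γ(Z', ⊤) Γ(X', ⊤) :=
    CommRingCat.isPushout_iff_isPushout.1 po
  exact hQQ' (R := Γ(Z, ⊤)) (S := Γ(X, ⊤)) (R' := Γ(Z', ⊤)) (S' := Γ(X', ⊤)) hc hr

end Groth.Agent.Lib.Helper24.IntegralDescent
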