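import Groth.Agent.Lib.Helper24.Filt8
set_option autoImplicit false
set_option linter.unusedSectionVars false
set_option linter.unusedVariables false
universe u
open CategoryTheory CategoryTheory.Limits AlgebraicGeometry Opposite

/-! The last nonempty stratum of a chart with bounded tuples is an open subscheme. -/

namespace Groth.Agent.Lib.Helper24.Filt9
open AlgSp Groth.Agent.Lib.Helper14.AS Groth.Agent.Lib.Helper24.Filt1 Groth.Agent.Lib.Helper24.ZarGlue
open Groth.Agent.Lib.Helper24.Filt2 Groth.Agent.Lib.Helper24.Filt3 Groth.Agent.Lib.Helper24.Filt4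
open Groth.Agent.Lib.Helper24.Filt5 Groth.Agent.Lib.Helper24.Filt6 Groth.Agent.Lib.Helper24.Filt7
open Groth.Agent.Lib.Helper24.Filt8 Groth.Agent.Lib.Helper24.OpenSubSp

variable {S : Scheme.{u}} {U : Over S}

theorem diag_props (X : Space S) [IsAffine U.left] (a : (yon S).obj U ⟶ X.obj)
    (hae : RepWith @Etale a) :
    RepWith @IsOpenImmersion (pullback.diagonal a) ∧
      RepWith @IsClosedImmersion (pullback.diagonal a) := by
  have hX := X.property
  have hUU : IsAlgSpace (pullback a a) :=
    isAlgSpace_of_isPullback (repDiag_of_isAlgSpace hX) (IsAlgSpace.yon_obj U)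
      (IsAlgSpace.yon_obj U) (IsPullback.of_hasPullback a a)
  exact ⟨repWith_isOpenImmersion_of_mono_etale (IsAlgSpace.yon_obj U) hUU _
      (isEtaleMor_of_repWith_etale (repWith_etale_diagonal hae)),
    repWith_isClosedImmersion_diagonal_of_isAffine⟩

theorem om_subset_range {X : Sp S} (a : (yon S).obj U ⟶ X) (ι : Type) [Inhabited ι] :
    Om a ι ⊆ Set.range (Points.ofPt a) := by
  rintro _ ⟨T, t, τ, rfl⟩
  exact ⟨(τ.u default).left t, by rw [← ofPt_yon_map_comp]; rfl⟩

theorem om_comp_subset {X : Sp S} (a : (yon S).obj U ⟶ X) {V : Over S} (incl : V ⟶ U)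
    [Mono incl.left] (ι : Type) [Inhabited ι] :
    Om ((yon S).map incl ≫ a) ι ⊆ Om a ι := by
  rintro _ ⟨T, t, τ, rfl⟩
  let τ' : Tup a ι T :=
    { u := fun i => τ.u i ≫ incl
      compat := fun i j => by
        rw [Functor.map_comp, Functor.map_comp, Category.assoc, Category.assoc]
        exact τ.compat i j
      apart := fun i j hij t' h => by
        apply τ.apart i j hij t'
        have h' : T.left.fromSpecResidueField t' ≫ (τ.u i).left ≫ incl.left =
            T.left.fromSpecResidueField t' ≫ (τ.u j).left ≫ incl.left := h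
        rw [← Category.assoc, ← Category.assoc, cancel_mono] at h'
        exact h' }
  refine ⟨T, t, τ', ?_⟩
  change Points.ofPt ((yon S).map (τ.u default ≫ incl) ≫ a) t = Points.ofPt ((yon S).map (τ.u default) ≫ (yon S).map incl ≫ a) t
  rw [Functor.map_comp, Category.assoc]

set_option backward.isDefEq.respectTransparency.types false in
theorem isOpen_om (X : Space S) [IsAffine U.left] (a : (yon S).obj U ⟶ X.obj)
    (hae : RepWith @Etale a) (n : ℕ) : IsOpen (Om a (Idx n)) := by
  obtain ⟨hΔo, hΔc⟩ := diag_props X a hae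
  obtain ⟨W, υ, hrep, ⟨i₀, hie, his⟩, -⟩ := exists_rep hΔo hΔc hae n
  have hbase_et : RepWith @Etale υ.base := by
    rw [υ.base_eq i₀]
    exact repWith_comp _ ((repWith_yon_map_iff _ _).2 hie) hae
  rw [← range_ofPt_base hrep]
  exact (isOpenMap_ofPt _ hbase_et).isOpen_range

set_option backward.isDefEq.respectTransparency.types false in
set_option maxHeartbeats 800000 in
theorem exists_open_subscheme_of_om_empty (X : Space S) [IsAffine U.left]
    (a : (yon S).obj U ⟶ X.obj) (hae : RepWith @Etale a) (n : ℕ)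
    (hemp : Om a (Idx (n + 1)) = ∅) :
    ∃ (M : Over S) (f : (yon S).obj M ⟶ X.obj), RepWith @IsOpenImmersion f ∧
      Set.range (Points.ofPt f) = Om a (Idx n) := by
  have hX := X.property
  obtain ⟨hΔo, hΔc⟩ := diag_props X a hae
  obtain ⟨W, υ, hrep, ⟨i₀, hie, his⟩, -⟩ := exists_rep hΔo hΔc hae n
  have hWsep : W.left.IsSeparated := (HasAffineProperty.iff_of_isAffine (P := @IsSeparated)).1 his
  have hfin : ∀ (E : Set W.left), E.Finite → ∃ O : W.left.Opens, IsAffineOpen O ∧ E ⊆ O :=
    fun E hE => Filt5a.exists_affineOpen_of_finite_of_etale_sep (υ.u i₀).left E hE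
  obtain ⟨M, m, f, hmflf, hme, hms, hmf, hminv, -, -⟩ := exists_quotient hrep hae hfin
  have hbase_et : RepWith @Etale υ.base := by
    rw [υ.base_eq i₀]
    exact repWith_comp _ ((repWith_yon_map_iff _ _).2 hie) hae
  have hO : IsOpen (Om a (Idx n)) := isOpen_om X a hae n
  have hfr : Set.range (Points.map f) = Om a (Idx n) := by
    rw [Groth.Agent.Lib.Helper8.AlgSpPres.range_points_map_yon, ← range_ofPt_base hrep]
    apply Set.Subset.antisymm
    · rintro _ ⟨y, rfl⟩
      obtain ⟨w, rfl⟩ := hms.surj y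
      exact ⟨w, by rw [← hmf, ofPt_yon_map_comp]⟩
    · rintro _ ⟨w, rfl⟩
      exact ⟨m.left w, by rw [← hmf, ofPt_yon_map_comp]⟩
  obtain ⟨Y, jY, hYalg, hjo, hjr⟩ : ∃ (Y : Sp S) (jY : Y ⟶ X.obj), IsAlgSpace Y ∧
      RepWith @IsOpenImmersion jY ∧ Set.range (Points.map jY) = Om a (Idx n) :=
    ⟨(openPred (Om a (Idx n))).sheaf, (openPred (Om a (Idx n))).ι, isAlgSpace_openPred hX hO,
      repWith_openPred hO, range_openPred hO⟩
  have hjm : Mono jY := mono_of_openImmersion hjo
  have hjinj := injective_of_openImmersion hjo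
  obtain ⟨f', hf'⟩ := Groth.Agent.Lib.Helper8.AlgSpOpen.exists_factor_of_range_subset
    jY hjo f (by rw [hfr, hjr])
  have hfe : RepWith @Etale f :=
    repWith_etale_of_precomp_etale_surjective hX m hme hms f (by rw [hmf]; exact hbase_et)
  have sqf : IsPullback (𝟙 _) f' f jY := by
    have sq := isPullback_of_factor_mono f' jY
    rw [hf'] at sq
    exact sq
  have hfe' : RepWith @Etale f' := repWith_of_isPullback _ sqf hfe
  have hfsurj : Function.Surjective (Points.map f') := by
    intro y
    have hy : Points.map jY y ∈ Set.range (Points.map f) := by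
      rw [hfr, ← hjr]
      exact ⟨y, rfl⟩
    obtain ⟨z, hz⟩ := hy
    refine ⟨z, hjinj ?_⟩
    rw [← Points.map_comp, hf', hz]
  have hfs' : RepWith @Surjective f' := repWith_surjective_of_isSurjectiveMor hfe'.rep hfsurj
  have hflat : Flat m.left := inferInstance
  have hiso : IsIso f' := by
    refine isIso_fst hrep hΔo hΔc m jY hYalg f' (by rw [hf', hmf]) hminv
      hfe' hfs' hYalg (𝟙 _) ?_ f' (𝟙 _) ?_
    · intro z hz
      have : Points.map (𝟙 _ ≫ jY) z ∈ Om a (Idx (n + 1)) := hz
      rw [hemp] at this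
      exact this
    · exact IsPullback.of_vert_isIso ⟨by rw [Category.comp_id, Category.id_comp]⟩
  refine ⟨M, f, ?_, ?_⟩
  · rw [← hf']
    exact repWith_comp _ (repWith_of_isIso _ f') hjo
  · rw [← Groth.Agent.Lib.Helper8.AlgSpPres.range_points_map_yon, hfr]

end Groth.Agent.Lib.Helper24.Filt9
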