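import Groth.Agent.Lib.Helper24.IndIso
import Groth.Agent.Lib.Helper24.Filt9
set_option autoImplicit false
set_option linter.unusedSectionVars false
set_option linter.unusedVariables false
universe u
open CategoryTheory CategoryTheory.Limits AlgebraicGeometry Opposite

/-! Elementary distinguished squares from pointwise data. -/

namespace Groth.Agent.Lib.Helper24.IndSq
open AlgSp Groth.Agent.Lib.Helper14.AS Groth.Agent.Lib.Helper24.Filt1 Groth.Agent.Lib.Helper24.ZarGlue
open Groth.Agent.Lib.Helper24.IndPt Groth.Agent.Lib.Helper24.IndIso Groth.Agent.Lib.Helper24.Filt8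
open Groth.Agent.Lib.Helper24.Filt9

variable {S : Scheme.{u}}

theorem isOpen_range_of_openImmersion {W₁ W₂ : Sp S} (hW₂ : IsAlgSpace W₂) (k : W₁ ⟶ W₂)
    (hk : RepWith @IsOpenImmersion k) : IsOpen (Set.range (Points.map k)) :=
  (isOpenMap_points_of_repWith_universallyOpen hW₂
    (repWith_mono openImm_le_univOpen hk)).isOpen_range

set_option backward.isDefEq.respectTransparency.types false in
theorem isElemDistSq_of_ptIso {W₁ W₂ : Sp S} (hW₁ : IsAlgSpace W₁) (hW₂ : IsAlgSpace W₂)
    (k : W₁ ⟶ W₂) (hk : RepWith @IsOpenImmersion k) {V : Over S} [IsAffine V.left]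
    (f : (yon S).obj V ⟶ W₂) (hfe : RepWith @Etale f)
    (hpt : ∀ x ∈ (Set.range (Points.map k))ᶜ, PtIso f x) : IsElemDistSq k f := by
  have hC : IsClosed (Set.range (Points.map k))ᶜ :=
    (isOpen_range_of_openImmersion hW₂ k hk).isClosed_compl
  obtain ⟨hT, hred⟩ := isRedInduced_redFam hW₂ _ hC
  obtain ⟨hΔo, hΔc⟩ := diag_props ⟨W₂, hW₂⟩ f hfe
  refine ⟨hk, isEtaleMor_of_repWith_etale hfe, _, _, (redFam _ hC).pred.ι,
    pullback.fst _ f, pullback.snd _ f, hred, IsPullback.of_hasPullback _ _, ?_⟩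
  refine isIso_of_ptIso hW₂ hT f hΔo hΔc hfe _ _ _ (IsPullback.of_hasPullback _ _) fun z => ?_
  apply hpt
  have h := hred.2.1
  have hz : Points.map (redFam _ hC).pred.ι z ∈ Set.range (Points.map (redFam _ hC).pred.ι) :=
    ⟨z, rfl⟩
  exact h.subset hz

end Groth.Agent.Lib.Helper24.IndSq
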