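import Mathlib
import Groth.Prelude.Def_AlgSpInf
import Groth.Agent.Lib.Helper10.Thick2

/-!
# Finite order thickenings are stable under base change (helper24)
-/

set_option autoImplicit false
universe u
open AlgebraicGeometry CategoryTheory CategoryTheory.Limits TopologicalSpace Opposite

namespace Groth.Agent.Lib.Helper24.FinThickBC

section Scheme

open Groth.Agent.Lib.Helper10.Thick

/-- `ker ^ (n+1) = 0` is stable under base change for closed immersions. -/
theorem powZero_of_isPullback {Z T Z' T' : Scheme.{u}} {i : Z ⟶ T} {i' : Z' ⟶ T'} {q : Z' ⟶ Z}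
    {p : T' ⟶ T} (hc : IsPullback i' q p i) [IsClosedImmersion i] (n : ℕ)
    (hn : AlgSp.powZero n i) : AlgSp.powZero n i' := by
  haveI : IsClosedImmersion i' :=
    MorphismProperty.of_isPullback (P := @IsClosedImmersion) hc.flip inferInstance
  change i'.ker ^ (n + 1) = ⊥
  change i.ker ^ (n + 1) = ⊥ at hn
  rw [eq_bot_iff]
  let ι := {P : T'.affineOpens × T.affineOpens // P.1.1 ≤ p ⁻¹ᵁ P.2.1}
  apply Scheme.IdealSheafData.le_of_iSup_eq_top (fun P : ι => P.1.1)
  · rw [eq_top_iff]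
    intro x _
    obtain ⟨U, hU, hxU, -⟩ := exists_isAffineOpen_mem_and_subset (X := T) (x := p x) (U := ⊤) trivial
    obtain ⟨U', hU', hxU', hle⟩ := exists_isAffineOpen_mem_and_subset (X := T') (x := x)
      (U := p ⁻¹ᵁ U) hxU
    exact Opens.mem_iSup.2 ⟨⟨⟨⟨U', hU'⟩, ⟨U, hU⟩⟩, hle⟩, hxU'⟩
  · rintro ⟨⟨U', U⟩, e⟩
    have hpo := isPushout_sections hc U.2 U'.2 e
    have hφ := appLE_surjective (iY := i) U.2
    have hle := ker_le_map_of_isPushout (i.appLE U (i ⁻¹ᵁ U) le_rfl).hom (p.appLE U U' e).hom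
      (q.appLE (i ⁻¹ᵁ U) (i' ⁻¹ᵁ U') (preimage_le hc e)).hom
      (i'.appLE U' (i' ⁻¹ᵁ U') le_rfl).hom hpo hφ
    have h1 : (i.ker ^ (n + 1)).ideal U = (⊥ : T.IdealSheafData).ideal U := by rw [hn]
    rw [Scheme.IdealSheafData.ideal_pow] at h1
    have h2 : (i.ker.ideal ^ (n + 1)) U = (i.ker.ideal U) ^ (n + 1) := rfl
    rw [h2, Scheme.Hom.ker_apply] at h1
    rw [Scheme.IdealSheafData.ideal_pow]
    have h3 : (i'.ker.ideal ^ (n + 1)) U' = (i'.ker.ideal U') ^ (n + 1) := rfl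
    change (i'.ker.ideal ^ (n + 1)) U' ≤ _
    rw [h3, Scheme.Hom.ker_apply]
    rw [Scheme.Hom.appLE_eq_app, Scheme.Hom.appLE_eq_app] at hle
    refine (Ideal.pow_right_mono hle (n + 1)).trans ?_
    rw [← Ideal.map_pow, h1]
    simp

/-- On an affine target, `powZero` is a statement about the kernel on global sections. -/
theorem powZero_iff_of_isAffine {X Y : Scheme.{u}} [IsAffine Y] (g : X ⟶ Y) (n : ℕ) :
    AlgSp.powZero n g ↔ (RingHom.ker g.appTop.hom) ^ (n + 1) = ⊥ := by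
  change g.ker ^ (n + 1) = ⊥ ↔ _
  have key : ∀ I : Y.IdealSheafData, I = ⊥ ↔ I.ideal ⟨⊤, isAffineOpen_top Y⟩ = ⊥ := fun I =>
    ⟨fun h => by rw [h]; rfl, fun h => Scheme.IdealSheafData.ext_of_isAffine (by rw [h]; rfl)⟩
  rw [key, Scheme.IdealSheafData.ideal_pow, Scheme.ker_of_isAffine]
  have h2 : ((Scheme.IdealSheafData.ofIdealTop (RingHom.ker g.appTop.hom)).ideal ^ (n + 1))
      ⟨⊤, isAffineOpen_top Y⟩ = ((Scheme.IdealSheafData.ofIdealTop
        (RingHom.ker g.appTop.hom)).ideal ⟨⊤, isAffineOpen_top Y⟩) ^ (n + 1) := rfl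
  have h3 : (Scheme.IdealSheafData.ofIdealTop (RingHom.ker g.appTop.hom)).ideal
      ⟨⊤, isAffineOpen_top Y⟩ = RingHom.ker g.appTop.hom := by simp
  rw [h2, h3]

/-- A global section vanishing on a jointly surjective flat family vanishes. -/
theorem eq_zero_of_flat_cover {V : Scheme.{u}} {ι : Type*} (Vk : ι → Scheme.{u})
    (e : ∀ k, Vk k ⟶ V) [∀ k, Flat (e k)] (hsurj : ∀ v : V, ∃ k, v ∈ Set.range (e k))
    (x : Γ(V, ⊤)) (hx : ∀ k, (e k).appTop x = 0) : x = 0 := by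
  apply TopCat.Presheaf.section_ext V.sheaf ⊤
  intro v hv
  obtain ⟨k, v', rfl⟩ := hsurj v
  have hinj : Function.Injective ((e k).stalkMap v').hom := by
    algebraize [((e k).stalkMap v').hom]
    have : Module.FaithfullyFlat (V.presheaf.stalk ((e k) v')) ((Vk k).presheaf.stalk v') :=
      @Module.FaithfullyFlat.of_flat_of_isLocalHom _ _ _ _ _ _ _
        (Flat.stalkMap (e k) v') ((e k).toLRSHom.prop v')
    exact ‹RingHom.FaithfullyFlat _›.injective
  apply hinj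
  have h1 : (e k).stalkMap v' (V.presheaf.germ ⊤ ((e k) v') hv x) =
      (Vk k).presheaf.germ ((e k) ⁻¹ᵁ ⊤) v' hv ((e k).app ⊤ x) :=
    Scheme.Hom.germ_stalkMap_apply (e k) ⊤ v' hv x
  have h2 : (e k).stalkMap v' (V.presheaf.germ ⊤ ((e k) v') hv 0) =
      (Vk k).presheaf.germ ((e k) ⁻¹ᵁ ⊤) v' hv ((e k).app ⊤ 0) :=
    Scheme.Hom.germ_stalkMap_apply (e k) ⊤ v' hv 0
  have h0 : (e k).app ⊤ x = (e k).app ⊤ 0 := (hx k).trans (map_zero _).symm
  exact h1.trans ((congrArg _ h0).trans h2.symm)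

/-- `powZero n` descends along a jointly surjective flat family of affine schemes over an affine
scheme (only commutativity of the squares is needed). -/
theorem powZero_of_flat_cover {V W : Scheme.{u}} [IsAffine V] (g : W ⟶ V) {ι : Type*}
    (Vk Wk : ι → Scheme.{u}) (e : ∀ k, Vk k ⟶ V) (gk : ∀ k, Wk k ⟶ Vk k) (m : ∀ k, Wk k ⟶ W)
    [∀ k, Flat (e k)] [∀ k, IsAffine (Vk k)]
    (hsurj : ∀ v : V, ∃ k, v ∈ Set.range (e k)) (hcomm : ∀ k, gk k ≫ e k = m k ≫ g) (n : ℕ)
    (hn : ∀ k, AlgSp.powZero n (gk k)) : AlgSp.powZero n g := by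
  rw [powZero_iff_of_isAffine]
  rw [eq_bot_iff]
  intro y hy
  rw [Ideal.mem_bot]
  apply eq_zero_of_flat_cover Vk e hsurj
  intro k
  have hk := (powZero_iff_of_isAffine (gk k) n).1 (hn k)
  have hmap : (RingHom.ker g.appTop.hom).map (e k).appTop.hom ≤ RingHom.ker (gk k).appTop.hom := by
    rw [Ideal.map_le_iff_le_comap]
    intro z hz
    rw [Ideal.mem_comap, RingHom.mem_ker]
    have h1 : (e k).appTop ≫ (gk k).appTop = g.appTop ≫ (m k).appTop := by
      rw [← Scheme.Hom.comp_appTop, ← Scheme.Hom.comp_appTop, hcomm k]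
    have h2 := congrArg (fun φ => φ.hom z) h1
    simp only [CommRingCat.hom_comp, RingHom.comp_apply] at h2
    rw [h2, (RingHom.mem_ker).1 hz, map_zero]
  have : (e k).appTop.hom y ∈ (RingHom.ker (gk k).appTop.hom) ^ (n + 1) := by
    apply Ideal.pow_right_mono hmap (n + 1)
    rw [← Ideal.map_pow]
    exact Ideal.mem_map_of_mem _ hy
  rw [hk, Ideal.mem_bot] at this
  exact this

end Scheme

end Groth.Agent.Lib.Helper24.FinThickBC
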