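import Mathlib
import Groth.Prelude.Def_AlgSpInf
import Groth.Agent.Lib.Helper24.ThickChart
import Groth.Agent.Lib.Helper24.FinThickBC

/-!
# Finite order thickenings of algebraic spaces are stable under base change (helper24)
-/

set_option autoImplicit false
universe u
open CategoryTheory CategoryTheory.Limits AlgebraicGeometry Opposite AlgSp Topology
open Groth.Agent.Lib.Helper14.AS

namespace Groth.Agent.Lib.Helper24.FinThickBC

variable {S : Scheme.{u}}

set_option backward.isDefEq.respectTransparency.types false in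
/-- Every scheme chart of an algebraic space factors, etale locally on the source by affines,
through affine etale charts of the space. -/
theorem exists_affine_chart_factor {B' : Sp S} (hB' : IsAlgSpace B') {V : Over S}
    (c : (yon S).obj V ⟶ B') (v : ↥V.left) :
    ∃ (Vk Tl : Over S) (ek : Vk ⟶ V) (tl : (yon S).obj Tl ⟶ B') (rk : Vk ⟶ Tl),
      IsAffine Vk.left ∧ IsAffine Tl.left ∧ Etale ek.left ∧ v ∈ Set.range ek.left ∧
      RepWith @Etale tl ∧ (yon S).map ek ≫ c = (yon S).map rk ≫ tl := by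
  obtain ⟨T, t, hte, hts⟩ := hB'.atlas
  have sq := hte.rep.isPullback' c
  have he : Etale (hte.rep.snd c).left := hte.property_snd c
  have hs : Surjective (hte.rep.snd c).left := hts.property_snd c
  generalize hte.rep.fst' c = r at *
  generalize hte.rep.snd c = e at *
  generalize hte.rep.pullback c = V₁ at *
  obtain ⟨v₁, hv₁⟩ := e.left.surjective v
  let 𝒰 := T.left.affineCover
  let j := 𝒰.idx (r.left v₁)
  obtain ⟨y, hy⟩ := 𝒰.covers (r.left v₁)
  obtain ⟨z, hz1, hz2⟩ := Scheme.Pullback.exists_preimage_pullback v₁ y hy.symm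
  let P := pullback r.left (𝒰.f j)
  let 𝒱 := P.affineCover
  let j' := 𝒱.idx z
  obtain ⟨z', hz'⟩ := 𝒱.covers z
  let Tl : Over S := Over.mk (𝒰.f j ≫ T.hom)
  let ιT : Tl ⟶ T := Over.homMk (𝒰.f j) rfl
  let Vk : Over S := Over.mk (𝒱.f j' ≫ pullback.fst r.left (𝒰.f j) ≫ V₁.hom)
  let ιV : Vk ⟶ V₁ := Over.homMk (𝒱.f j' ≫ pullback.fst r.left (𝒰.f j)) (by simp [Vk])
  let rk : Vk ⟶ Tl := Over.homMk (𝒱.f j' ≫ pullback.snd r.left (𝒰.f j)) (by
    change (𝒱.f j' ≫ pullback.snd r.left (𝒰.f j)) ≫ 𝒰.f j ≫ T.hom =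
      𝒱.f j' ≫ pullback.fst r.left (𝒰.f j) ≫ V₁.hom
    rw [Category.assoc, ← pullback.condition_assoc, Over.w r])
  have hιT : Etale ιT.left := inferInstanceAs (Etale (𝒰.f j))
  have hιV : Etale ιV.left := inferInstanceAs (Etale (𝒱.f j' ≫ pullback.fst r.left (𝒰.f j)))
  refine ⟨Vk, Tl, ιV ≫ e, (yon S).map ιT ≫ t, rk, inferInstanceAs (IsAffine (𝒱.X j')),
    inferInstanceAs (IsAffine (𝒰.X j)), ?_, ?_, ?_, ?_⟩
  · rw [Over.comp_left]; infer_instance
  · refine ⟨z', ?_⟩
    rw [Over.comp_left, Scheme.Hom.comp_apply]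
    change e.left ((𝒱.f j' ≫ pullback.fst r.left (𝒰.f j)) z') = v
    rw [Scheme.Hom.comp_apply, hz', hz1, hv₁]
  · exact repWith_comp _ ((repWith_yon_map_iff _ _).2 hιT) hte
  · have hrk : rk ≫ ιT = ιV ≫ r := by
      ext
      change (𝒱.f j' ≫ pullback.snd r.left (𝒰.f j)) ≫ 𝒰.f j =
        (𝒱.f j' ≫ pullback.fst r.left (𝒰.f j)) ≫ r.left
      rw [Category.assoc, Category.assoc, pullback.condition]
    rw [Functor.map_comp, Category.assoc, ← sq.w, ← Category.assoc, ← Category.assoc,
      ← Functor.map_comp, ← Functor.map_comp, hrk]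


set_option backward.isDefEq.respectTransparency.types false in
/-- `n`-th order thickenings of algebraic spaces are stable under base change. -/
theorem isNThickMor_of_isPullback {B B' X X' : Sp S} {i : B ⟶ B'} {p : X' ⟶ B'} {iX : X ⟶ X'}
    {q : X ⟶ B} (hB' : IsAlgSpace B') (sq : IsPullback iX q p i) {n : ℕ}
    (hi : IsNThickMor n i) : IsNThickMor n iX := by
  obtain ⟨hit, hn⟩ := hi
  have hiX : IsThickMor iX := repWith_of_isPullback _ sq.flip hit
  refine ⟨hiX, ?_⟩
  intro V W b fst snd hV hb sqW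
  haveI : IsAffine V.left := hV
  have key := fun v : ↥V.left => exists_affine_chart_factor hB' (b ≫ p) v
  choose Vk Tl ek tl rk hVk hTl hek hv htl hcomm using key
  -- the thickening over `Tl`
  have sqZ := fun v => hit.rep.isPullback (tl v)
  have hZn : ∀ v, powZero n (hit.rep.snd (tl v)).left := fun v =>
    hn (tl v) (hit.rep.fst (tl v)) (hit.rep.snd (tl v)) (hTl v) (htl v) (sqZ v)
  have hZt : ∀ v, thick (hit.rep.snd (tl v)).left := fun v => hit.property_snd (tl v)
  -- the pullback of `W` to `Vk`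
  have sqK := fun v => hiX.rep.isPullback ((yon S).map (ek v) ≫ b)
  have big : ∀ v, IsPullback (hiX.rep.fst ((yon S).map (ek v) ≫ b) ≫ q)
      ((yon S).map (hiX.rep.snd ((yon S).map (ek v) ≫ b))) i ((yon S).map (rk v) ≫ tl v) := by
    intro v
    have := (sqK v).paste_horiz sq.flip
    rw [Category.assoc, hcomm v] at this
    exact this
  have hlift : ∀ v, ∃ mZ : hiX.rep.pullback ((yon S).map (ek v) ≫ b) ⟶ hit.rep.pullback (tl v),
      IsPullback (hiX.rep.snd ((yon S).map (ek v) ≫ b)).left mZ.left (rk v).left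
        (hit.rep.snd (tl v)).left := by
    intro v
    have hc : (hiX.rep.fst ((yon S).map (ek v) ≫ b) ≫ q) ≫ i =
        (yon S).map (hiX.rep.snd ((yon S).map (ek v) ≫ b) ≫ rk v) ≫ tl v := by
      rw [(big v).w, Functor.map_comp, Category.assoc]
    obtain ⟨mZ, hmZ⟩ := (yon S).map_surjective ((sqZ v).lift _ _ hc)
    have h1 : (yon S).map mZ ≫ hit.rep.fst (tl v) =
        hiX.rep.fst ((yon S).map (ek v) ≫ b) ≫ q := by rw [hmZ, (sqZ v).lift_fst]
    have h2 : (yon S).map mZ ≫ (yon S).map (hit.rep.snd (tl v)) =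
        (yon S).map (hiX.rep.snd ((yon S).map (ek v) ≫ b)) ≫ (yon S).map (rk v) := by
      rw [hmZ, (sqZ v).lift_snd, Functor.map_comp]
    have big' : IsPullback ((yon S).map (hiX.rep.snd ((yon S).map (ek v) ≫ b)))
        ((yon S).map mZ ≫ hit.rep.fst (tl v)) ((yon S).map (rk v) ≫ tl v) i := by
      rw [h1]; exact (big v).flip
    have sqUV := IsPullback.of_bot big' h2.symm (sqZ v).flip
    exact ⟨mZ, (IsPullback.of_map_of_faithful (yon S) sqUV).map (Over.forget S)⟩
  choose mZ hmZ using hlift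
  have hKn : ∀ v, powZero n (hiX.rep.snd ((yon S).map (ek v) ≫ b)).left := by
    intro v
    haveI : IsClosedImmersion (hit.rep.snd (tl v)).left := (hZt v).1
    exact powZero_of_isPullback (hmZ v) n (hZn v)
  have hW : ∀ v, ∃ mW : hiX.rep.pullback ((yon S).map (ek v) ≫ b) ⟶ W,
      (hiX.rep.snd ((yon S).map (ek v) ≫ b)).left ≫ (ek v).left = mW.left ≫ snd.left := by
    intro v
    have hc : hiX.rep.fst ((yon S).map (ek v) ≫ b) ≫ iX =
        (yon S).map (hiX.rep.snd ((yon S).map (ek v) ≫ b) ≫ ek v) ≫ b := by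
      rw [(sqK v).w, Functor.map_comp, Category.assoc]
    obtain ⟨mW, hmW⟩ := (yon S).map_surjective (sqW.lift _ _ hc)
    refine ⟨mW, ?_⟩
    have h2 : (yon S).map (mW ≫ snd) =
        (yon S).map (hiX.rep.snd ((yon S).map (ek v) ≫ b) ≫ ek v) := by
      rw [Functor.map_comp, hmW, sqW.lift_snd]
    have h3 := (yon S).map_injective h2
    rw [← Over.comp_left, ← Over.comp_left, h3]
  choose mW hmW using hW
  haveI : ∀ v, Flat (ek v).left := fun v => by haveI := hek v; infer_instance
  haveI : ∀ v, IsAffine (Vk v).left := hVk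
  exact powZero_of_flat_cover snd.left (fun v => (Vk v).left)
    (fun v => (hiX.rep.pullback ((yon S).map (ek v) ≫ b)).left) (fun v => (ek v).left)
    (fun v => (hiX.rep.snd ((yon S).map (ek v) ≫ b)).left) (fun v => (mW v).left)
    (fun v => ⟨v, hv v⟩) hmW n hKn

/-- Finite order thickenings of algebraic spaces are stable under base change. -/
theorem isFinThickMor_of_isPullback {B B' X X' : Sp S} {i : B ⟶ B'} {p : X' ⟶ B'} {iX : X ⟶ X'}
    {q : X ⟶ B} (hB' : IsAlgSpace B') (sq : IsPullback iX q p i)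
    (hi : IsFinThickMor i) : IsFinThickMor iX := by
  obtain ⟨n, hn⟩ := hi
  exact ⟨n, isNThickMor_of_isPullback hB' sq hn⟩

end Groth.Agent.Lib.Helper24.FinThickBC
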