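import Mathlib
import Groth.Prelude.Def_AlgSpInf
import Groth.Agent.Lib.Helper10.Thick2

/-!
# Finite type lifts along a cartesian square whose upper thickening has finite order (helper24)
-/

set_option autoImplicit false
universe u
open AlgebraicGeometry CategoryTheory CategoryTheory.Limits TopologicalSpace Opposite

namespace Groth.Agent.Lib.Helper24.ThickFinOrd

section Ring

/-- Nakayama for ideals acting nilpotently: `N ⊔ I • ⊤ = ⊤` and `I ^ n • ⊤ = ⊥` imply `N = ⊤`. -/
theorem eq_top_of_sup_smul_top' {A M : Type*} [CommRing A] [AddCommGroup M] [Module A M]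
    (I : Ideal A) (N : Submodule A M) (h : ⊤ ≤ N ⊔ I • (⊤ : Submodule A M)) (n : ℕ)
    (hn : (I ^ n) • (⊤ : Submodule A M) = ⊥) : N = ⊤ := by
  have key : ∀ k : ℕ, ⊤ ≤ N ⊔ (I ^ k) • (⊤ : Submodule A M) := by
    intro k
    induction k with
    | zero => simp
    | succ k ih =>
      calc (⊤ : Submodule A M) ≤ N ⊔ I • (⊤ : Submodule A M) := h
        _ ≤ N ⊔ I • (N ⊔ (I ^ k) • (⊤ : Submodule A M)) :=
            sup_le_sup_left (Submodule.smul_mono le_rfl ih) N
        _ = N ⊔ (I • N ⊔ I • ((I ^ k) • (⊤ : Submodule A M))) := by rw [Submodule.smul_sup]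
        _ ≤ N ⊔ (I ^ (k + 1)) • (⊤ : Submodule A M) := by
            refine sup_le le_sup_left (sup_le ?_ ?_)
            · exact le_trans Submodule.smul_le_right le_sup_left
            · rw [← Submodule.mul_smul, ← pow_succ']
              exact le_sup_right
  have := key n
  rw [hn, sup_bot_eq] at this
  exact top_le_iff.mp this

variable {A' A B' B : Type u} [CommRing A'] [CommRing A] [CommRing B'] [CommRing B]
  (φ : A' →+* A) (ψ : A' →+* B') (α : A →+* B) (β : B' →+* B)

/-- Finite type lifts along a pushout square when the kernel of the upper map is nilpotent. -/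
theorem finiteType_of_isPushout_nilpotent'
    (hpo : IsPushout (CommRingCat.ofHom φ) (CommRingCat.ofHom ψ) (CommRingCat.ofHom α)
      (CommRingCat.ofHom β)) (hφ : Function.Surjective φ) (hnil : IsNilpotent (RingHom.ker β))
    (hα : α.FiniteType) : ψ.FiniteType := by
  classical
  have hw : ∀ x, α (φ x) = β (ψ x) := fun x => congrArg (fun m => m.hom x) hpo.w
  have hβ := Groth.Agent.Lib.Helper10.Thick.surjective_of_isPushout φ ψ α β hpo hφ
  letI : Algebra A' B' := ψ.toAlgebra
  letI : Algebra A B := α.toAlgebra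
  haveI : Algebra.FiniteType A B := hα
  obtain ⟨S, hS⟩ := (Algebra.FiniteType.out : (⊤ : Subalgebra A B).FG)
  choose lift hlift using hβ
  let T : Finset B' := S.image lift
  let C : Subalgebra A' B' := Algebra.adjoin A' (T : Set B')
  have hsurjC : ∀ b : B, ∃ c ∈ C, β c = b := by
    intro b
    have hb : b ∈ Algebra.adjoin A (S : Set B) := by rw [hS]; trivial
    induction hb using Algebra.adjoin_induction with
    | mem x hx =>
      refine ⟨lift x, Algebra.subset_adjoin ?_, hlift x⟩
      exact Finset.mem_coe.mpr (Finset.mem_image_of_mem lift hx)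
    | algebraMap a =>
      obtain ⟨a', rfl⟩ := hφ a
      exact ⟨algebraMap A' B' a', Subalgebra.algebraMap_mem _ _, (hw a').symm⟩
    | add x y _ _ hx hy =>
      obtain ⟨c1, h1, e1⟩ := hx
      obtain ⟨c2, h2, e2⟩ := hy
      exact ⟨c1 + c2, Subalgebra.add_mem _ h1 h2, by rw [map_add, e1, e2]⟩
    | mul x y _ _ hx hy =>
      obtain ⟨c1, h1, e1⟩ := hx
      obtain ⟨c2, h2, e2⟩ := hy
      exact ⟨c1 * c2, Subalgebra.mul_mem _ h1 h2, by rw [map_mul, e1, e2]⟩
  obtain ⟨n, hn⟩ := hnil
  have hle : (RingHom.ker φ).map ψ ≤ RingHom.ker β := by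
    rw [Ideal.map_le_iff_le_comap]
    intro a ha
    rw [Ideal.mem_comap, RingHom.mem_ker, ← hw, (RingHom.mem_ker).1 ha, map_zero]
  have hpow : ((RingHom.ker φ) ^ n) • (⊤ : Submodule A' B') = ⊥ := by
    rw [Ideal.smul_top_eq_map, Ideal.map_pow]
    have : ((RingHom.ker φ).map (algebraMap A' B')) ^ n = ⊥ := by
      rw [eq_bot_iff, ← Ideal.zero_eq_bot, ← hn]
      exact Ideal.pow_right_mono hle n
    rw [this]
    rfl
  have hC : Subalgebra.toSubmodule C = ⊤ := by
    apply eq_top_of_sup_smul_top' (RingHom.ker φ) _ _ n hpow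
    intro b _
    obtain ⟨c, hc, hcb⟩ := hsurjC (β b)
    have hdiff : b - c ∈ (RingHom.ker φ).map ψ := by
      apply Groth.Agent.Lib.Helper10.Thick.ker_le_map_of_isPushout φ ψ α β hpo hφ
      rw [RingHom.mem_ker, map_sub, hcb, sub_self]
    have hJ : b - c ∈ (RingHom.ker φ) • (⊤ : Submodule A' B') :=
      Groth.Agent.Lib.Helper10.Thick.mem_smul_top_of_mem_map ψ _ _ hdiff
    have : b = c + (b - c) := by ring
    rw [this]
    exact Submodule.add_mem_sup hc hJ
  change Algebra.FiniteType A' B'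
  refine ⟨⟨T, ?_⟩⟩
  apply Subalgebra.toSubmodule_injective
  rw [hC]
  rfl

end Ring

section Scheme

open Groth.Agent.Lib.Helper10.Thick

/-- Locally of finite type lifts along a cartesian square over a thickening when the upper
thickening has finite order. -/
theorem lft_of_cartesian_powZero {X X' S S' : Scheme.{u}} (iX : X ⟶ X') (iS : S ⟶ S') (f : X ⟶ S)
    (f' : X' ⟶ S') (hS : AlgSp.thick iS) (hc : IsPullback iX f f' iS) (n : ℕ)
    (hn : iX.ker ^ (n + 1) = ⊥) (hf : LocallyOfFiniteType f) : LocallyOfFiniteType f' := by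
  obtain ⟨hcl, hsurj⟩ := hS
  haveI : IsClosedImmersion iS := hcl
  haveI : IsClosedImmersion iX :=
    MorphismProperty.of_isPullback (P := @IsClosedImmersion) hc.flip hcl
  rw [HasRingHomProperty.iff_appLE (P := @LocallyOfFiniteType)]
  intro U' V' e
  have hpo := isPushout_sections hc U'.2 V'.2 e
  have hφ := appLE_surjective (iY := iS) U'.2
  have hnil : IsNilpotent (RingHom.ker (iX.appLE V'.1 (iX ⁻¹ᵁ V'.1) le_rfl).hom) := by
    refine ⟨n + 1, ?_⟩
    have h1 : (iX.ker ^ (n + 1)).ideal V' = (⊥ : X'.IdealSheafData).ideal V' := by rw [hn]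
    rw [Scheme.IdealSheafData.ideal_pow] at h1
    have h2 : (iX.ker.ideal ^ (n + 1)) V' = (iX.ker.ideal V') ^ (n + 1) := rfl
    rw [h2, Scheme.Hom.ker_apply] at h1
    rw [Scheme.Hom.appLE_eq_app, h1]
    rfl
  have hα : (f.appLE (iS ⁻¹ᵁ U'.1) (iX ⁻¹ᵁ V'.1) (preimage_le hc e)).hom.FiniteType :=
    HasRingHomProperty.appLE (P := @LocallyOfFiniteType) f hf
      ⟨_, U'.2.preimage iS⟩ ⟨_, V'.2.preimage iX⟩ _
  exact finiteType_of_isPushout_nilpotent' _ _ _ _ hpo hφ hnil hα

end Scheme

end Groth.Agent.Lib.Helper24.ThickFinOrd
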