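import Mathlib
import Groth.Prelude.Def_AlgSpInf
import Groth.Agent.Lib.Helper24.ThickChart
import Groth.Agent.Lib.Helper24.ThickFinOrd

/-!
# Pulling back arbitrary chart diagrams along cartesian squares of thickenings; locally of finite
type lifts along finite order thickenings (helper24)
-/

set_option autoImplicit false
universe u
open CategoryTheory CategoryTheory.Limits AlgebraicGeometry Opposite AlgSp Topology
open Groth.Agent.Lib.Helper14.AS

namespace Groth.Agent.Lib.Helper24.ThickSq

variable {S : Scheme.{u}}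

/-- Pull back a commutative chart diagram of `f'` along a cartesian square of thickenings. -/
theorem exists_cartesian_chart_of {X X' Y Y' : Sp S}
    {i : X ⟶ X'} {j : Y ⟶ Y'} {f : X ⟶ Y} {f' : X' ⟶ Y'} (hi : IsThickMor i) (hj : IsThickMor j)
    (hcart : IsPullback i f f' j) {U' V' : Over S} (a' : (yon S).obj U' ⟶ X')
    (b' : (yon S).obj V' ⟶ Y') (h' : U' ⟶ V') (comm' : a' ≫ f' = (yon S).map h' ≫ b') :
    ∃ (U V : Over S) (a : (yon S).obj U ⟶ X) (b : (yon S).obj V ⟶ Y)
      (h : U ⟶ V) (iU : U ⟶ U') (iV : V ⟶ V'),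
      a ≫ f = (yon S).map h ≫ b ∧
      IsPullback iU.left h.left h'.left iV.left ∧ thick iV.left ∧ thick iU.left ∧
      IsPullback a ((yon S).map iU) i a' ∧ IsPullback b ((yon S).map iV) j b' := by
  have sqV := hj.rep.isPullback b'
  have sqU := hi.rep.isPullback a'
  have hiV : thick (hj.rep.snd b').left := hj.property_snd b'
  have hiU : thick (hi.rep.snd a').left := hi.property_snd a'
  generalize hi.rep.fst a' = a at *
  generalize hi.rep.snd a' = iU at *
  generalize hj.rep.fst b' = b at *
  generalize hj.rep.snd b' = iV at *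
  have hc : (a ≫ f) ≫ j = (yon S).map (iU ≫ h') ≫ b' := by
    rw [Category.assoc, ← hcart.w, ← Category.assoc, sqU.w, Category.assoc, comm',
      Functor.map_comp, Category.assoc]
  obtain ⟨h, hh⟩ := (yon S).map_surjective (sqV.lift _ _ hc)
  have comm : a ≫ f = (yon S).map h ≫ b := by rw [hh, sqV.lift_fst]
  have hcomm2 : (yon S).map h ≫ (yon S).map iV = (yon S).map iU ≫ (yon S).map h' := by
    rw [hh, sqV.lift_snd, Functor.map_comp]
  have big : IsPullback ((yon S).map iU) (a ≫ f) (a' ≫ f') j := sqU.flip.paste_vert hcart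
  rw [comm, comm'] at big
  have sqUV : IsPullback ((yon S).map iU) ((yon S).map h) ((yon S).map h') ((yon S).map iV) :=
    IsPullback.of_bot big hcomm2.symm sqV.flip
  exact ⟨_, _, a, b, h, iU, iV, comm,
    (IsPullback.of_map_of_faithful (yon S) sqUV).map (Over.forget S), hiV, hiU, sqU, sqV⟩

set_option backward.isDefEq.respectTransparency.types false in
/-- Locally of finite type lifts along a cartesian square of thickenings whose upper thickening
has finite order. -/
theorem locP_lft_of_cartesian_finThick {X X' Y Y' : Sp S}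
    {i : X ⟶ X'} {j : Y ⟶ Y'} {f : X ⟶ Y} {f' : X' ⟶ Y'} (hi : IsFinThickMor i)
    (hj : IsThickMor j) (hcart : IsPullback i f f' j) (hft : LocP @LocallyOfFiniteType f) :
    LocP @LocallyOfFiniteType f' := by
  obtain ⟨n, hit, hn⟩ := hi
  intro U' V' a' b' h' ha' hb' comm'
  rw [IsZariskiLocalAtSource.iff_of_openCover (P := @LocallyOfFiniteType) U'.left.affineCover]
  intro k
  -- the affine chart
  let O : Over S := Over.mk (U'.left.affineCover.f k ≫ U'.hom)
  let o : O ⟶ U' := Over.homMk (U'.left.affineCover.f k) rfl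
  have ho : RepWith @Etale ((yon S).map o) :=
    (repWith_yon_map_iff _ _).2 (inferInstanceAs (Etale (U'.left.affineCover.f k)))
  have hOaff : IsAffine O.left := inferInstanceAs (IsAffine (U'.left.affineCover.X k))
  have commO : ((yon S).map o ≫ a') ≫ f' = (yon S).map (o ≫ h') ≫ b' := by
    rw [Category.assoc, comm', Functor.map_comp, Category.assoc]
  obtain ⟨U, V, a, b, h, iU, iV, comm, sq, hiV, hiU, sqU, sqV⟩ :=
    exists_cartesian_chart_of hit hj hcart ((yon S).map o ≫ a') b' (o ≫ h') commO
  have hae : RepWith @Etale a := repWith_of_isPullback _ sqU.flip (repWith_comp _ ho ha')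
  have hbe : RepWith @Etale b := repWith_of_isPullback _ sqV.flip hb'
  have hh : LocallyOfFiniteType h.left := hft a b h hae hbe comm
  have hpow : powZero n iU.left := hn ((yon S).map o ≫ a') a iU hOaff (repWith_comp _ ho ha') sqU
  exact Groth.Agent.Lib.Helper24.ThickFinOrd.lft_of_cartesian_powZero iU.left iV.left h.left
    (o ≫ h').left hiV sq n hpow hh

end Groth.Agent.Lib.Helper24.ThickSq
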