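import Mathlib
import Groth.Prelude.Def_AlgSpInf
import Groth.Agent.Lib.Helper24.ThickChart2
import Groth.Agent.Lib.Helper24.FinThickBC2

/-!
# Chart towers for deformation situations of algebraic spaces (helper24)
-/

set_option autoImplicit false
universe u
open CategoryTheory CategoryTheory.Limits AlgebraicGeometry Opposite AlgSp Topology
open Groth.Agent.Lib.Helper14.AS Groth.Agent.Lib.Helper24.ThickSq Groth.Agent.Lib.Helper24.FinThickBC

namespace Groth.Agent.Lib.Helper24.DeformTower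

/-- `powZero n` can be checked on the restrictions to all affine opens of the target. -/
theorem powZero_of_forall_morphismRestrict {W V : Scheme.{u}} (g : W ⟶ V) [QuasiCompact g] (n : ℕ)
    (H : ∀ O : V.affineOpens, AlgSp.powZero n (g ∣_ O.1)) : AlgSp.powZero n g := by
  change g.ker ^ (n + 1) = ⊥
  rw [eq_bot_iff]
  intro O
  have h : (g ∣_ O.1).ker ^ (n + 1) = ⊥ := H O
  haveI : IsAffine O.1.toScheme := O.2
  have h1 := congrArg (fun I => I.ideal ⟨⊤, isAffineOpen_top _⟩) h
  simp only [Scheme.IdealSheafData.ideal_pow] at h1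
  have h2 : ((g ∣_ O.1).ker.ideal ^ (n + 1)) ⟨⊤, isAffineOpen_top _⟩ =
      ((g ∣_ O.1).ker.ideal ⟨⊤, isAffineOpen_top _⟩) ^ (n + 1) := rfl
  rw [h2, Scheme.ker_morphismRestrict_ideal] at h1
  have h3 : (⟨O.1.ι ''ᵁ ⊤, (isAffineOpen_top _).image_of_isOpenImmersion _⟩ : V.affineOpens) = O :=
    Subtype.ext O.1.ι_image_top
  have h1' : (g.ker.ideal ⟨O.1.ι ''ᵁ ⊤, (isAffineOpen_top _).image_of_isOpenImmersion _⟩) ^ (n + 1) =
      (⊥ : Ideal Γ(V, O.1.ι ''ᵁ ⊤)) := h1
  have key : ∀ O' : V.affineOpens, O' = O → (g.ker.ideal O') ^ (n + 1) = ⊥ →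
      (g.ker.ideal O) ^ (n + 1) = ⊥ := by
    rintro O' rfl h; exact h
  rw [Scheme.IdealSheafData.ideal_pow]
  have h4 : (g.ker.ideal ^ (n + 1)) O = (g.ker.ideal O) ^ (n + 1) := rfl
  rw [h4, key _ h3 h1']
  exact le_of_eq rfl

variable {S : Scheme.{u}}

set_option backward.isDefEq.respectTransparency.types false in
/-- The pullback of an `n`-th order thickening of algebraic spaces to any etale scheme chart
has `ker ^ (n+1) = 0`. -/
theorem powZero_of_isNThickMor {B B' : Sp S} {iB : B ⟶ B'} {n : ℕ} (hB : IsNThickMor n iB)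
    {T T' : Over S} (c' : (yon S).obj T' ⟶ B') (hc' : RepWith @Etale c') (c : (yon S).obj T ⟶ B)
    (iT : T ⟶ T') (sqT : IsPullback c ((yon S).map iT) iB c') : powZero n iT.left := by
  obtain ⟨hit, hn⟩ := hB
  have hiT : thick iT.left := hit.property c' c iT sqT
  haveI : IsClosedImmersion iT.left := hiT.1
  apply powZero_of_forall_morphismRestrict
  intro O
  let V : Over S := Over.mk (O.1.ι ≫ T'.hom)
  let oι : V ⟶ T' := Over.homMk O.1.ι rfl
  let W : Over S := Over.mk ((iT.left ⁻¹ᵁ O.1).ι ≫ T.hom)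
  let wι : W ⟶ T := Over.homMk (iT.left ⁻¹ᵁ O.1).ι rfl
  let snd : W ⟶ V := Over.homMk (iT.left ∣_ O.1) (by
    change (iT.left ∣_ O.1) ≫ O.1.ι ≫ T'.hom = (iT.left ⁻¹ᵁ O.1).ι ≫ T.hom
    rw [morphismRestrict_ι_assoc, Over.w iT])
  have sqO : IsPullback wι snd iT oι :=
    IsPullback.of_map (Over.forget S)
      (by apply Over.OverMorphism.ext; exact (morphismRestrict_ι _ _).symm)
      (isPullback_morphismRestrict iT.left O.1).flip
  have sqY := sqO.map (yon S)
  have big := sqY.paste_horiz sqT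
  exact hn ((yon S).map oι ≫ c') ((yon S).map wι ≫ c) snd O.2
    (repWith_comp _ ((repWith_yon_map_iff _ _).2 (inferInstanceAs (Etale O.1.ι))) hc') big

/-- The pullback of a finite order thickening of algebraic spaces to an etale scheme chart is a
finite order thickening of schemes. -/
theorem isFiniteOrderThickening_of_isFinThickMor {B B' : Sp S} {iB : B ⟶ B'}
    (hB : IsFinThickMor iB) {T T' : Over S} (c' : (yon S).obj T' ⟶ B') (hc' : RepWith @Etale c')
    (c : (yon S).obj T ⟶ B) (iT : T ⟶ T') (sqT : IsPullback c ((yon S).map iT) iB c') :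
    MoreMor.IsFiniteOrderThickening iT.left := by
  obtain ⟨n, hn⟩ := hB
  refine ⟨hn.1.property c' c iT sqT, n + 1, ?_⟩
  exact powZero_of_isNThickMor hn c' hc' c iT sqT

/-- Pull back a chart diagram of `f'` along a cartesian square over a thickening, the pullback of
the target chart being given. -/
theorem exists_cartesian_chart_over {X X' Y Y' : Sp S}
    {i : X ⟶ X'} {j : Y ⟶ Y'} {f : X ⟶ Y} {f' : X' ⟶ Y'} (hi : IsThickMor i)
    (hcart : IsPullback i f f' j) {U' V' V : Over S} (a' : (yon S).obj U' ⟶ X')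
    (b' : (yon S).obj V' ⟶ Y') (h' : U' ⟶ V') (comm' : a' ≫ f' = (yon S).map h' ≫ b')
    (b : (yon S).obj V ⟶ Y) (iV : V ⟶ V') (sqV : IsPullback b ((yon S).map iV) j b') :
    ∃ (U : Over S) (a : (yon S).obj U ⟶ X) (h : U ⟶ V) (iU : U ⟶ U'),
      a ≫ f = (yon S).map h ≫ b ∧
      IsPullback iU.left h.left h'.left iV.left ∧ thick iU.left ∧
      IsPullback a ((yon S).map iU) i a' := by
  have sqU := hi.rep.isPullback a'
  have hiU : thick (hi.rep.snd a').left := hi.property_snd a'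
  generalize hi.rep.fst a' = a at *
  generalize hi.rep.snd a' = iU at *
  have hc : (a ≫ f) ≫ j = (yon S).map (iU ≫ h') ≫ b' := by
    rw [Category.assoc, ← hcart.w, ← Category.assoc, sqU.w, Category.assoc, comm',
      Functor.map_comp, Category.assoc]
  obtain ⟨h, hh⟩ := (yon S).map_surjective (sqV.lift _ _ hc)
  have comm : a ≫ f = (yon S).map h ≫ b := by rw [hh, sqV.lift_fst]
  have hcomm2 : (yon S).map h ≫ (yon S).map iV = (yon S).map iU ≫ (yon S).map h' := by
    rw [hh, sqV.lift_snd, Functor.map_comp]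
  have big : IsPullback ((yon S).map iU) (a ≫ f) (a' ≫ f') j := sqU.flip.paste_vert hcart
  rw [comm, comm'] at big
  have sqUV : IsPullback ((yon S).map iU) ((yon S).map h) ((yon S).map h') ((yon S).map iV) :=
    IsPullback.of_bot big hcomm2.symm sqV.flip
  exact ⟨_, a, h, iU, comm,
    (IsPullback.of_map_of_faithful (yon S) sqUV).map (Over.forget S), hiU, sqU⟩

set_option backward.isDefEq.respectTransparency.types false in
/-- The tower of charts over a deformation situation, for given charts of the thickened spaces. -/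
theorem exists_deform_tower_of {X X' Y Y' B B' : Sp S}
    {iX : X ⟶ X'} {iY : Y ⟶ Y'} {iB : B ⟶ B'} {f : X ⟶ Y} {f' : X' ⟶ Y'} {g : Y ⟶ B}
    {g' : Y' ⟶ B'} (hcX : IsPullback iX (f ≫ g) (f' ≫ g') iB) (hcY : IsPullback iY g g' iB)
    (w : iX ≫ f' = f ≫ iY) (hB : IsFinThickMor iB) (hflat : LocP @Flat (f' ≫ g'))
    {U' V' T' : Over S} (a' : (yon S).obj U' ⟶ X') (b' : (yon S).obj V' ⟶ Y')
    (c' : (yon S).obj T' ⟶ B') (h' : U' ⟶ V') (k' : V' ⟶ T')
    (ha' : RepWith @Etale a') (hc' : RepWith @Etale c')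
    (comm' : a' ≫ f' = (yon S).map h' ≫ b') (commk' : b' ≫ g' = (yon S).map k' ≫ c') :
    ∃ (U V T : Over S) (a : (yon S).obj U ⟶ X) (b : (yon S).obj V ⟶ Y) (c : (yon S).obj T ⟶ B)
      (h : U ⟶ V) (k : V ⟶ T) (iU : U ⟶ U') (iV : V ⟶ V') (iT : T ⟶ T'),
      a ≫ f = (yon S).map h ≫ b ∧ b ≫ g = (yon S).map k ≫ c ∧
      IsPullback a ((yon S).map iU) iX a' ∧ IsPullback b ((yon S).map iV) iY b' ∧
      IsPullback c ((yon S).map iT) iB c' ∧
      MoreMor.IsFiniteOrderThickening iT.left ∧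
      IsPullback iU.left (h.left ≫ k.left) (h'.left ≫ k'.left) iT.left ∧
      IsPullback iV.left k.left k'.left iT.left ∧
      IsPullback iU.left h.left h'.left iV.left ∧
      iU.left ≫ h'.left = h.left ≫ iV.left ∧ Flat (h'.left ≫ k'.left) ∧
      thick iU.left ∧ thick iV.left := by
  have hBt : IsThickMor iB := by obtain ⟨n, h, -⟩ := hB; exact h
  have hYt : IsThickMor iY := repWith_of_isPullback _ hcY.flip hBt
  have hXt : IsThickMor iX := repWith_of_isPullback _ hcX.flip hBt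
  have hcart : IsPullback iX f f' iY := IsPullback.of_bot hcX w hcY
  obtain ⟨V, T, b, c, k, iV, iT, commk, sqVT, hiT, hiV, sqV, sqT⟩ :=
    exists_cartesian_chart_of hYt hBt hcY b' c' k' commk'
  obtain ⟨U, a, h, iU, comm, sqUV, hiU, sqU⟩ :=
    exists_cartesian_chart_over hXt hcart a' b' h' comm' b iV sqV
  have hfl : Flat (h'.left ≫ k'.left) := by
    have := hflat a' c' (h' ≫ k') ha' hc' (by
      rw [← Category.assoc, comm', Category.assoc, commk', Functor.map_comp, Category.assoc])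
    rwa [Over.comp_left] at this
  exact ⟨U, V, T, a, b, c, h, k, iU, iV, iT, comm, commk, sqU, sqV, sqT,
    isFiniteOrderThickening_of_isFinThickMor hB c' hc' c iT sqT, sqUV.paste_vert sqVT, sqVT, sqUV,
    sqUV.w, hfl, hiU, hiV⟩

/-- A tower of etale surjective charts for `X' ⟶ Y' ⟶ B'`. -/
theorem exists_atlas_tower {X' Y' B' : Sp S} (hX' : IsAlgSpace X') (hY' : IsAlgSpace Y')
    (hB' : IsAlgSpace B') (f' : X' ⟶ Y') (g' : Y' ⟶ B') :
    ∃ (U' V' T' : Over S) (a' : (yon S).obj U' ⟶ X') (b' : (yon S).obj V' ⟶ Y')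
      (c' : (yon S).obj T' ⟶ B') (h' : U' ⟶ V') (k' : V' ⟶ T'),
      RepWith @Etale a' ∧ RepWith @Surjective a' ∧ RepWith @Etale b' ∧ RepWith @Surjective b' ∧
      RepWith @Etale c' ∧ RepWith @Surjective c' ∧
      a' ≫ f' = (yon S).map h' ≫ b' ∧ b' ≫ g' = (yon S).map k' ≫ c' := by
  obtain ⟨T', c', hce, hcs⟩ := hB'.atlas
  obtain ⟨V', b', k', hbe, hbs, commk'⟩ := exists_chart_diagram hY' g' c' hce hcs
  obtain ⟨U', a', h', hae, has, comm'⟩ := exists_chart_diagram hX' f' b' hbe hbs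
  exact ⟨U', V', T', a', b', c', h', k', hae, has, hbe, hbs, hce, hcs, comm', commk'⟩

/-- Scheme-level deformation invariance of a property of morphisms. -/
def DeformInv (P : MorphismProperty Scheme.{u}) : Prop :=
  ∀ {X X' Y Y' S S' : Scheme.{u}} (iX : X ⟶ X') (iY : Y ⟶ Y') (iS : S ⟶ S') (f : X ⟶ Y)
    (f' : X' ⟶ Y') (g : Y ⟶ S) (g' : Y' ⟶ S'), MoreMor.IsFiniteOrderThickening iS →
    IsPullback iX (f ≫ g) (f' ≫ g') iS → IsPullback iY g g' iS → iX ≫ f' = f ≫ iY →
    Flat (f' ≫ g') → (P f ↔ P f')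

set_option backward.isDefEq.respectTransparency.types false in
/-- Etale local properties which are deformation invariant for schemes are deformation invariant
for algebraic spaces. -/
theorem deform_locP_iff {X X' Y Y' B B' : Sp S} (hX' : IsAlgSpace X') (hY' : IsAlgSpace Y')
    (hB' : IsAlgSpace B')
    {iX : X ⟶ X'} {iY : Y ⟶ Y'} {iB : B ⟶ B'} {f : X ⟶ Y} {f' : X' ⟶ Y'} {g : Y ⟶ B}
    {g' : Y' ⟶ B'} (hcX : IsPullback iX (f ≫ g) (f' ≫ g') iB) (hcY : IsPullback iY g g' iB)
    (w : iX ≫ f' = f ≫ iY) (hB : IsFinThickMor iB) (hflat : LocP @Flat (f' ≫ g'))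
    {P : MorphismProperty Scheme.{u}} (hP : EtLocal P) (hdef : DeformInv P) :
    LocP P f ↔ LocP P f' := by
  obtain ⟨U', V', T', a', b', c', h', k', hae', has', hbe', hbs', hce', hcs', comm', commk'⟩ :=
    exists_atlas_tower hX' hY' hB' f' g'
  obtain ⟨U, V, T, a, b, c, h, k, iU, iV, iT, comm, commk, sqU, sqV, sqT, hfo, sX, sY, sUV, ws,
    hfl, hiU, hiV⟩ := exists_deform_tower_of hcX hcY w hB hflat a' b' c' h' k' hae' hce' comm' commk'
  have hae : RepWith @Etale a := repWith_of_isPullback _ sqU.flip hae'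
  have has : RepWith @Surjective a := repWith_of_isPullback _ sqU.flip has'
  have hbe : RepWith @Etale b := repWith_of_isPullback _ sqV.flip hbe'
  rw [locP_iff_chart hP f a b h hae has hbe comm, locP_iff_chart hP f' a' b' h' hae' has' hbe' comm']
  exact hdef iU.left iV.left iT.left h.left h'.left k.left k'.left hfo sX sY ws hfl

end Groth.Agent.Lib.Helper24.DeformTower
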