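import Mathlib
import Groth.Prelude.Def_AlgSpInf
import Groth.Agent.Lib.Helper24.DeformTower
import Groth.Agent.Lib.Helper14.AlgSpMisc2
import Groth.Agent.Lib.Helper14.AlgSpRedFactor
import Groth.Agent.Lib.Helper14.AlgSpGpd5
import Groth.Agent.Lib.Helper14.AlgSpImm
import Groth.Agent.S1322

/-!
# Deformation situations of algebraic spaces: open immersions, isomorphisms and monomorphisms
lift (helper24)
-/

set_option autoImplicit false
universe u
open CategoryTheory CategoryTheory.Limits AlgebraicGeometry Opposite AlgSp Topology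
open Groth.Agent.Lib.Helper14.AS Groth.Agent.Lib.Helper24.ThickSq Groth.Agent.Lib.Helper24.FinThickBC
open Groth.Agent.Lib.Helper24.DeformTower

namespace Groth.Agent.Lib.Helper24.DeformIso

variable {S : Scheme.{u}} {X X' Y Y' B B' : Sp S}
  {iX : X ⟶ X'} {iY : Y ⟶ Y'} {iB : B ⟶ B'} {f : X ⟶ Y} {f' : X' ⟶ Y'} {g : Y ⟶ B} {g' : Y' ⟶ B'}

theorem deformInv_etale : DeformInv @Etale.{u} :=
  fun iX iY iS f f' g g' hS hcX hcY w hfl => by
    haveI := hfl; exact Groth.Agent.S1322.result iX iY iS f f' g g' hS hcX hcY w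

theorem isOpenImmersion_le_etale :
    (@IsOpenImmersion : MorphismProperty Scheme.{u}) ≤ @Etale :=
  fun _ _ k hk => by have : IsOpenImmersion k := hk; infer_instance

theorem isOpenImmersion_le_mono :
    (@IsOpenImmersion : MorphismProperty Scheme.{u}) ≤ MorphismProperty.monomorphisms Scheme.{u} :=
  fun _ _ k hk => by
    have : IsOpenImmersion k := hk
    exact (inferInstance : Mono k)

set_option backward.isDefEq.respectTransparency.types false in
/-- In a deformation situation, open immersions lift. -/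
theorem openImm_lift (hX' : IsAlgSpace X') (hY : IsAlgSpace Y) (hY' : IsAlgSpace Y')
    (hB' : IsAlgSpace B')
    (hcX : IsPullback iX (f ≫ g) (f' ≫ g') iB) (hcY : IsPullback iY g g' iB)
    (w : iX ≫ f' = f ≫ iY) (hB : IsFinThickMor iB) (hflat : LocP @Flat (f' ≫ g'))
    (h : RepWith @IsOpenImmersion f) : RepWith @IsOpenImmersion f' := by
  have hBt : IsThickMor iB := by obtain ⟨n, h, -⟩ := hB; exact h
  have hYt : IsThickMor iY := repWith_of_isPullback _ hcY.flip hBt
  have hXt : IsThickMor iX := repWith_of_isPullback _ hcX.flip hBt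
  have h1 : LocP @Etale f := locP_of_repWith le_rfl (repWith_mono isOpenImmersion_le_etale h)
  have h2 : LocP @Etale f' :=
    (deform_locP_iff hX' hY' hB' hcX hcY w hB hflat etLocal_etale deformInv_etale).1 h1
  have h3 : IsEtaleMor f' := isEtaleMor_of_locP_etale hY' h2
  haveI : Mono f := mono_of_repWith_mono (repWith_mono isOpenImmersion_le_mono h)
  have h4 : FieldInj f := fun K _ str a a' haa => (cancel_mono f).1 haa
  have h5 : IsUnivInjectiveMor f := isUnivInjectiveMor_of_fieldInj h4
  have h6 : IsUnivInjectiveMor f' :=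
    (univSp_iff_of_thick homeoInv_injective hX' hY hY' hXt hYt w).1 h5
  exact repWith_isOpenImmersion_of_etale_univInjective hX' hY' f' h3 h6

set_option backward.isDefEq.respectTransparency.types false in
/-- In a deformation situation, isomorphisms lift. -/
theorem iso_lift (hX' : IsAlgSpace X') (hY : IsAlgSpace Y) (hY' : IsAlgSpace Y')
    (hB' : IsAlgSpace B')
    (hcX : IsPullback iX (f ≫ g) (f' ≫ g') iB) (hcY : IsPullback iY g g' iB)
    (w : iX ≫ f' = f ≫ iY) (hB : IsFinThickMor iB) (hflat : LocP @Flat (f' ≫ g'))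
    [IsIso f] : IsIso f' := by
  have hBt : IsThickMor iB := by obtain ⟨n, h, -⟩ := hB; exact h
  have hYt : IsThickMor iY := repWith_of_isPullback _ hcY.flip hBt
  have hXt : IsThickMor iX := repWith_of_isPullback _ hcX.flip hBt
  have h1 : RepWith @IsOpenImmersion f := repWith_of_isIso _ f
  have h2 := openImm_lift hX' hY hY' hB' hcX hcY w hB hflat h1
  have h3 : IsSurjectiveMor f := isSurjectiveMor_of_section f (inv f) (by simp)
  have hiH := isHomeomorph_of_isThickMor hX' hXt
  have hjH := isHomeomorph_of_isThickMor hY' hYt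
  have h4 : IsSurjectiveMor f' := (homeoInv_surjective f f' iX iY w hiH hjH).1 h3
  have h5 : RepWith @Surjective f' := repWith_surjective_of_isSurjectiveMor h2.rep h4
  have h6 : RepWith (MorphismProperty.isomorphisms Scheme.{u}) f' := by
    refine MorphismProperty.relative_of_snd h2.rep fun T t => ?_
    have a1 : IsOpenImmersion (h2.rep.snd t).left := h2.property_snd t
    have a2 : Surjective (h2.rep.snd t).left := h5.property_snd t
    exact (isIso_iff_isOpenImmersion_and_surjective _).2 ⟨a1, a2⟩
  exact isIso_of_repWith_isomorphisms h6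

set_option backward.isDefEq.respectTransparency.types false in
/-- In a deformation situation, monomorphisms lift (apply `iso_lift` to the diagonal). -/
theorem mono_lift (hX' : IsAlgSpace X') (hY' : IsAlgSpace Y')
    (hB : IsAlgSpace B) (hB' : IsAlgSpace B')
    (hcX : IsPullback iX (f ≫ g) (f' ≫ g') iB) (hcY : IsPullback iY g g' iB)
    (w : iX ≫ f' = f ≫ iY) (hBf : IsFinThickMor iB) (hflat : LocP @Flat (f' ≫ g'))
    [Mono f] : Mono f' := by
  have hP' : IsAlgSpace (pullback f' f') :=
    isAlgSpace_of_isPullback (repDiag_of_isAlgSpace hY') hX' hX' (IsPullback.of_hasPullback f' f')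
  let gP' : pullback f' f' ⟶ B' := pullback.fst f' f' ≫ f' ≫ g'
  have sqP := IsPullback.of_hasPullback gP' iB
  have hP : IsAlgSpace (pullback gP' iB) :=
    isAlgSpace_of_isPullback (repDiag_of_isAlgSpace hB') hP' hB sqP
  have e2 : pullback.diagonal f' ≫ gP' = f' ≫ g' := by simp [gP']
  have hδ : (iX ≫ pullback.diagonal f') ≫ gP' = (f ≫ g) ≫ iB := by
    rw [Category.assoc, e2, hcX.w]
  let δ : X ⟶ pullback gP' iB := sqP.lift (iX ≫ pullback.diagonal f') (f ≫ g) hδ
  have e1 : δ ≫ pullback.snd gP' iB = f ≫ g := sqP.lift_snd _ _ _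
  have e3 : δ ≫ pullback.fst gP' iB = iX ≫ pullback.diagonal f' := sqP.lift_fst _ _ _
  have hcX' : IsPullback iX (δ ≫ pullback.snd gP' iB) (pullback.diagonal f' ≫ gP') iB := by
    rw [e1, e2]; exact hcX
  have hflat' : LocP @Flat (pullback.diagonal f' ≫ gP') := by rw [e2]; exact hflat
  -- `δ` is an isomorphism
  have c1 : (pullback.fst gP' iB ≫ pullback.fst f' f') ≫ f' ≫ g' = pullback.snd gP' iB ≫ iB := by
    rw [Category.assoc]; exact sqP.w
  have c2 : (pullback.fst gP' iB ≫ pullback.snd f' f') ≫ f' ≫ g' = pullback.snd gP' iB ≫ iB := by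
    rw [← c1, Category.assoc, Category.assoc, ← Category.assoc (pullback.snd f' f'),
      ← pullback.condition, Category.assoc]
  let ξ₁ : pullback gP' iB ⟶ X := hcX.lift _ _ c1
  let ξ₂ : pullback gP' iB ⟶ X := hcX.lift _ _ c2
  have a1 : ξ₁ ≫ iX = pullback.fst gP' iB ≫ pullback.fst f' f' := hcX.lift_fst _ _ _
  have a2 : ξ₂ ≫ iX = pullback.fst gP' iB ≫ pullback.snd f' f' := hcX.lift_fst _ _ _
  have b1 : ξ₁ ≫ f ≫ g = pullback.snd gP' iB := hcX.lift_snd _ _ _
  have b2 : ξ₂ ≫ f ≫ g = pullback.snd gP' iB := hcX.lift_snd _ _ _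
  have hξ : ξ₁ = ξ₂ := by
    rw [← cancel_mono f]
    apply hcY.hom_ext
    · rw [Category.assoc, Category.assoc, ← w, ← Category.assoc, ← Category.assoc, a1, a2,
        Category.assoc, Category.assoc, pullback.condition]
    · rw [Category.assoc, Category.assoc, b1, b2]
  have hinv1 : δ ≫ ξ₁ = 𝟙 X := by
    apply hcX.hom_ext
    · rw [Category.assoc, a1, ← Category.assoc, e3, Category.assoc, pullback.diagonal_fst,
        Category.comp_id, Category.id_comp]
    · rw [Category.assoc, b1, e1, Category.id_comp]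
  have hinv2 : ξ₁ ≫ δ = 𝟙 _ := by
    apply sqP.hom_ext
    · rw [Category.assoc, e3, Category.id_comp]
      apply pullback.hom_ext
      · rw [Category.assoc, Category.assoc, pullback.diagonal_fst, Category.comp_id, a1]
      · rw [Category.assoc, Category.assoc, pullback.diagonal_snd, Category.comp_id, hξ, a2]
    · rw [Category.assoc, e1, b1, Category.id_comp]
  haveI : IsIso δ := ⟨ξ₁, hinv1, hinv2⟩
  have := iso_lift hX' hP hP' hB' hcX' sqP e3.symm hBf hflat'
  exact (pullback.isIso_diagonal_iff f').1 this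

end Groth.Agent.Lib.Helper24.DeformIso
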