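import Mathlib
import Groth.Prelude.Def_AlgSt5
set_option autoImplicit false
set_option linter.unusedSimpArgs false
universe u
set_option backward.isDefEq.respectTransparency false
set_option backward.isDefEq.respectTransparency.types false

/-! Morphisms between trivial torsors in the quotient stack `[X/G]` (S12838). -/

namespace Groth.Agent.Lib.Helper24.QuotSt1
open CategoryTheory CategoryTheory.Limits MonoidalCategory CartesianMonoidalCategory MonObj GrpObj
open AlgebraicGeometry

variable {S : Scheme.{u}} (G : Over S) [GrpObj G] {X : Over S} (aX : AlgGrp.Action G X)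

/-- the unit section of the trivial torsor -/
noncomputable def unitSec (T : Over S) : T ⟶ G ⊗ T := lift (toUnit T ≫ η[G]) (𝟙 T)

@[reassoc (attr := simp)] lemma unitSec_snd (T : Over S) : unitSec G T ≫ snd G T = 𝟙 T := lift_snd _ _

lemma unitSec_fst (T : Over S) : unitSec G T ≫ fst G T = 1 := by
  rw [unitSec, lift_fst, Hom.one_def]

/-- right translation by `g` over `f`: `(γ, t) ↦ (γ g(t), f t)` -/
noncomputable def transl {T T' : Over S} (g : T ⟶ G) (f : T ⟶ T') : G ⊗ T ⟶ G ⊗ T' :=
  lift (fst G T * (snd G T ≫ g)) (snd G T ≫ f)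

@[simp] lemma transl_snd {T T' : Over S} (g : T ⟶ G) (f : T ⟶ T') :
    transl G g f ≫ snd G T' = snd G T ≫ f := lift_snd _ _

@[simp] lemma transl_fst {T T' : Over S} (g : T ⟶ G) (f : T ⟶ T') :
    transl G g f ≫ fst G T' = fst G T * (snd G T ≫ g) := lift_fst _ _

/-- every point of the trivial torsor is the translate of the unit section -/
lemma id_eq_act (T : Over S) :
    lift (fst G T) (snd G T ≫ unitSec G T) ≫ (AlgSt.leftMul G T).act = 𝟙 (G ⊗ T) := by
  apply CartesianMonoidalCategory.hom_ext
  · simp only [AlgSt.leftMul, Category.assoc, lift_fst, lift_snd, comp_lift, comp_mul,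
      lift_fst_assoc, lift_snd_assoc, Category.id_comp, unitSec_fst, comp_one, _root_.mul_one]
  · simp only [AlgSt.leftMul, Category.assoc, lift_fst, lift_snd, comp_lift,
      lift_snd_assoc, Category.id_comp, unitSec_snd, Category.comp_id]

/-- an equivariant map of trivial torsors over `f` is a right translation -/
lemma top_eq_transl {T T' : Over S} (f : T ⟶ T') (top : G ⊗ T ⟶ G ⊗ T')
    (heqv : (AlgSt.leftMul G T).act ≫ top = (G ◁ top) ≫ (AlgSt.leftMul G T').act)
    (hsnd : top ≫ snd G T' = snd G T ≫ f) :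
    top = transl G (unitSec G T ≫ top ≫ fst G T') f := by
  have h1 : top = lift (fst G T) (snd G T ≫ unitSec G T) ≫ (G ◁ top) ≫ (AlgSt.leftMul G T').act := by
    rw [← heqv, ← Category.assoc, id_eq_act, Category.id_comp]
  apply CartesianMonoidalCategory.hom_ext
  · rw [transl_fst]
    conv_lhs => rw [h1]
    simp only [AlgSt.leftMul, Category.assoc, lift_fst, lift_snd, comp_lift, comp_mul,
      lift_fst_assoc, lift_snd_assoc, whiskerLeft_fst, whiskerLeft_snd, whiskerLeft_fst_assoc,
      whiskerLeft_snd_assoc]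
  · rw [transl_snd, hsnd]

lemma transl_eqv {T T' : Over S} (g : T ⟶ G) (f : T ⟶ T') :
    (AlgSt.leftMul G T).act ≫ transl G g f = (G ◁ transl G g f) ≫ (AlgSt.leftMul G T').act := by
  apply CartesianMonoidalCategory.hom_ext
  · simp only [AlgSt.leftMul, transl, Category.assoc, lift_fst, lift_snd, comp_lift, comp_mul,
      lift_fst_assoc, lift_snd_assoc, whiskerLeft_fst, whiskerLeft_snd, whiskerLeft_fst_assoc,
      whiskerLeft_snd_assoc, _root_.mul_assoc]
  · simp only [AlgSt.leftMul, transl, Category.assoc, lift_fst, lift_snd, comp_lift, comp_mul,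
      lift_fst_assoc, lift_snd_assoc, whiskerLeft_fst, whiskerLeft_snd, whiskerLeft_fst_assoc,
      whiskerLeft_snd_assoc]

lemma transl_comp {T T' T'' : Over S} (g : T ⟶ G) (f : T ⟶ T') (g' : T' ⟶ G) (f' : T' ⟶ T'') :
    transl G g f ≫ transl G g' f' = transl G (g * (f ≫ g')) (f ≫ f') := by
  apply CartesianMonoidalCategory.hom_ext
  · simp only [transl, Category.assoc, lift_fst, lift_snd, comp_lift, comp_mul,
      lift_fst_assoc, lift_snd_assoc, _root_.mul_assoc]
  · simp only [transl, Category.assoc, lift_fst, lift_snd, comp_lift, comp_mul,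
      lift_fst_assoc, lift_snd_assoc]

lemma transl_one_id (T : Over S) : transl G (1 : T ⟶ G) (𝟙 T) = 𝟙 (G ⊗ T) := by
  apply CartesianMonoidalCategory.hom_ext
  · simp only [transl, lift_fst, comp_one, _root_.mul_one, Category.id_comp]
  · simp only [transl, lift_snd, Category.comp_id, Category.id_comp]

instance isIso_transl_id {T : Over S} (g : T ⟶ G) : IsIso (transl G g (𝟙 T)) :=
  ⟨⟨transl G g⁻¹ (𝟙 T), by
    rw [transl_comp, Category.id_comp, mul_inv_cancel, Category.comp_id, transl_one_id], by
    rw [transl_comp, Category.id_comp, inv_mul_cancel, Category.comp_id, transl_one_id]⟩⟩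

lemma transl_eq_comp {T T' : Over S} (g : T ⟶ G) (f : T ⟶ T') :
    transl G g f = transl G g (𝟙 T) ≫ (G ◁ f) := by
  apply CartesianMonoidalCategory.hom_ext
  · simp only [transl, Category.assoc, lift_fst, whiskerLeft_fst, Category.comp_id]
  · simp only [transl, Category.assoc, lift_snd, whiskerLeft_snd, lift_snd_assoc, Category.comp_id]

lemma transl_cart {T T' : Over S} (g : T ⟶ G) (f : T ⟶ T') :
    IsPullback (transl G g f) (snd G T) (snd G T') f := by
  have h1 : IsPullback (transl G g (𝟙 T)) (snd G T) (snd G T) (𝟙 T) :=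
    IsPullback.of_horiz_isIso ⟨by rw [transl_snd]⟩
  have h2 := h1.paste_horiz (AlgSt.isPullback_whiskerLeft (G := G) f)
  rwa [← transl_eq_comp, Category.id_comp] at h2

include aX in
/-- `(a b) · c = a · (b · c)` on generalized points -/
lemma act_mul {W : Over S} (a b : W ⟶ G) (c : W ⟶ X) :
    lift (a * b) c ≫ aX.act = lift a (lift b c ≫ aX.act) ≫ aX.act := by
  have h1 : lift (a * b) c = lift (lift a b) c ≫ (μ[G] ▷ X) := by
    apply CartesianMonoidalCategory.hom_ext
    · simp only [Category.assoc, lift_fst, whiskerRight_fst, lift_fst_assoc, Hom.mul_def]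
    · simp only [Category.assoc, lift_snd, whiskerRight_snd]
  have h2 : lift (lift a b) c ≫ (α_ G G X).hom ≫ (G ◁ aX.act) =
      lift a (lift b c ≫ aX.act) := by
    apply CartesianMonoidalCategory.hom_ext
    · simp only [Category.assoc, lift_fst, whiskerLeft_fst, associator_hom_fst, lift_fst_assoc]
    · simp only [Category.assoc, lift_snd, whiskerLeft_snd]
      rw [← Category.assoc, ← Category.assoc]
      congr 1
      apply CartesianMonoidalCategory.hom_ext
      · simp only [Category.assoc, lift_fst, associator_hom_snd_fst, lift_fst_assoc, lift_snd]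
      · simp only [Category.assoc, lift_snd, associator_hom_snd_snd]
  rw [h1, Category.assoc, aX.mul_act, ← h2]
  simp only [Category.assoc]

include aX in
lemma one_act' {W : Over S} (c : W ⟶ X) : lift (1 : W ⟶ G) c ≫ aX.act = c := by
  have h1 : lift (1 : W ⟶ G) c = c ≫ (λ_ X).inv ≫ (η[G] ▷ X) := by
    apply CartesianMonoidalCategory.hom_ext
    · simp only [Category.assoc, lift_fst, whiskerRight_fst, Hom.one_def]
      rw [← Category.assoc, ← Category.assoc]
      congr 1
      exact toUnit_unique _ _
    · simp only [Category.assoc, lift_snd, whiskerRight_snd, leftUnitor_inv_snd, Category.comp_id]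
  rw [h1, Category.assoc, Category.assoc, aX.one_act, Iso.inv_hom_id, Category.comp_id]

include aX in
lemma transl_wφ {T T' : Over S} (g : T ⟶ G) (f : T ⟶ T') (x : T ⟶ X) (x' : T' ⟶ X)
    (h : lift g (f ≫ x') ≫ aX.act = x) :
    transl G g f ≫ (G ◁ x') ≫ aX.act = (G ◁ x) ≫ aX.act := by
  have h1 : transl G g f ≫ (G ◁ x') = lift (fst G T * (snd G T ≫ g)) (snd G T ≫ f ≫ x') := by
    apply CartesianMonoidalCategory.hom_ext
    · simp only [transl, Category.assoc, lift_fst, whiskerLeft_fst]
    · simp only [transl, Category.assoc, lift_snd, whiskerLeft_snd, lift_snd_assoc]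
  have h2 : lift (snd G T ≫ g) (snd G T ≫ f ≫ x') = snd G T ≫ lift g (f ≫ x') := by
    rw [comp_lift]
  have h3 : (G ◁ x) = lift (fst G T) (snd G T ≫ x) := by
    apply CartesianMonoidalCategory.hom_ext
    · simp only [lift_fst, whiskerLeft_fst]
    · simp only [lift_snd, whiskerLeft_snd]
  rw [← Category.assoc, h1, act_mul G aX, h2, Category.assoc, h, h3]

/-- the unit section composed with an equivariant map -/
lemma unitSec_comp_eq {T T' : Over S} (f : T ⟶ T') (top : G ⊗ T ⟶ G ⊗ T')
    (hsnd : top ≫ snd G T' = snd G T ≫ f) :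
    unitSec G T ≫ top = lift (unitSec G T ≫ top ≫ fst G T') f := by
  apply CartesianMonoidalCategory.hom_ext
  · simp only [Category.assoc, lift_fst]
  · simp only [Category.assoc, lift_snd, hsnd, unitSec_snd, unitSec_snd_assoc]

include aX in
/-- the condition on `g` read off from compatibility with the maps to `X` -/
lemma act_of_wφ {T T' : Over S} (f : T ⟶ T') (x : T ⟶ X) (x' : T' ⟶ X)
    (top : G ⊗ T ⟶ G ⊗ T') (hsnd : top ≫ snd G T' = snd G T ≫ f)
    (hφ : top ≫ (G ◁ x') ≫ aX.act = (G ◁ x) ≫ aX.act) :
    lift (unitSec G T ≫ top ≫ fst G T') (f ≫ x') ≫ aX.act = x := by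
  have h1 : (unitSec G T ≫ top) ≫ (G ◁ x') ≫ aX.act = (unitSec G T ≫ (G ◁ x)) ≫ aX.act := by
    rw [Category.assoc, hφ, Category.assoc]
  have h2 : lift (unitSec G T ≫ top ≫ fst G T') f ≫ (G ◁ x') =
      lift (unitSec G T ≫ top ≫ fst G T') (f ≫ x') := by
    apply CartesianMonoidalCategory.hom_ext
    · simp only [Category.assoc, lift_fst, whiskerLeft_fst]
    · simp only [Category.assoc, lift_snd, whiskerLeft_snd, lift_snd_assoc]
  have h3 : unitSec G T ≫ (G ◁ x) = lift (1 : T ⟶ G) x := by
    apply CartesianMonoidalCategory.hom_ext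
    · simp only [Category.assoc, lift_fst, whiskerLeft_fst, unitSec_fst]
    · simp only [Category.assoc, lift_snd, whiskerLeft_snd, unitSec_snd_assoc]
  rw [unitSec_comp_eq G f top hsnd, h3, one_act' G aX, ← Category.assoc, h2] at h1
  exact h1

end Groth.Agent.Lib.Helper24.QuotSt1
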