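import Groth.Agent.Lib.Helper14.AlgSpSep2
import Mathlib.CategoryTheory.Sites.RegularEpi
set_option autoImplicit false
set_option linter.unusedSectionVars false
universe u
open CategoryTheory CategoryTheory.Limits AlgebraicGeometry Opposite

/-! Quotients of fppf sheaves: an epimorphism of sheaves of sets is the quotient by its kernel
relation on `T`-points. -/

namespace Groth.Agent.Lib.Helper24.DescSheaf
open AlgSp Groth.Agent.Lib.Helper14.AS

variable {S : Scheme.{u}}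

/-- maps out of a sheaf are determined on points with values in schemes -/
theorem hom_ext_yon {Z E : Sp S} (g₁ g₂ : Z ⟶ E)
    (h : ∀ (T : Over S) (t : (yon S).obj T ⟶ Z), t ≫ g₁ = t ≫ g₂) : g₁ = g₂ := by
  apply Sheaf.hom_ext
  ext T z
  have h1 := h T.unop (yEquiv.symm z)
  have h2 := congrArg yEquiv h1
  have e1 := (AlgSp.J S).uliftYonedaEquiv_comp (yEquiv.symm z) g₁
  have e2 := (AlgSp.J S).uliftYonedaEquiv_comp (yEquiv.symm z) g₂
  rw [Equiv.apply_symm_apply] at e1 e2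
  exact e1.symm.trans (h2.trans e2)

/-- descent of a map along an epimorphism of sheaves, tested on scheme-valued points -/
theorem exists_desc {A B E : Sp S} (ρ : A ⟶ B) [Epi ρ] (f : A ⟶ E)
    (h : ∀ (T : Over S) (a₁ a₂ : (yon S).obj T ⟶ A), a₁ ≫ ρ = a₂ ≫ ρ → a₁ ≫ f = a₂ ≫ f) :
    ∃ g : B ⟶ E, ρ ≫ g = f := by
  have hreg : IsRegularEpi ρ := IsRegularEpiCategory.regularEpiOfEpi ρ
  have : EffectiveEpi ρ := inferInstance
  have hc : ∀ {Z : Sp S} (g₁ g₂ : Z ⟶ A), g₁ ≫ ρ = g₂ ≫ ρ → g₁ ≫ f = g₂ ≫ f := by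
    intro Z g₁ g₂ hg
    apply hom_ext_yon
    intro T t
    have := h T (t ≫ g₁) (t ≫ g₂) (by rw [Category.assoc, Category.assoc, hg])
    rw [Category.assoc, Category.assoc] at this
    exact this
  exact ⟨EffectiveEpi.desc ρ f hc, EffectiveEpi.fac ρ f hc⟩

/-- two quotients of a sheaf with the same kernel relation are isomorphic -/
theorem exists_iso_of_same_rel {A B B' : Sp S} (ρ : A ⟶ B) [Epi ρ] (ρ' : A ⟶ B') [Epi ρ']
    (h : ∀ (T : Over S) (a₁ a₂ : (yon S).obj T ⟶ A), a₁ ≫ ρ = a₂ ≫ ρ ↔ a₁ ≫ ρ' = a₂ ≫ ρ') :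
    ∃ e : B ≅ B', ρ ≫ e.hom = ρ' := by
  obtain ⟨g, hg⟩ := exists_desc ρ ρ' (fun T a₁ a₂ => (h T a₁ a₂).1)
  obtain ⟨g', hg'⟩ := exists_desc ρ' ρ (fun T a₁ a₂ => (h T a₁ a₂).2)
  refine ⟨⟨g, g', ?_, ?_⟩, hg⟩
  · rw [← cancel_epi ρ, ← Category.assoc, hg, hg', Category.comp_id]
  · rw [← cancel_epi ρ', ← Category.assoc, hg', hg, Category.comp_id]

end Groth.Agent.Lib.Helper24.DescSheaf
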