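import Mathlib
import Groth.Prelude.Def_AlgSpInf
import Groth.Agent.Lib.Helper14.AlgSpBase
import Groth.Agent.Lib.Helper14.AlgSpLocP2
import Groth.Agent.Lib.Helper14.FpqcBase4
import Groth.Agent.Lib.Helper14.AlgSpQC
import Groth.Agent.Lib.Helper14.SheafQuot2
import Groth.Agent.Lib.Helper14.AlgSpRedFactor2

/-!
# Infinitesimal lifting against arbitrary affine first order thickenings, and against
first order thickenings of algebraic spaces (helper24)
-/

set_option autoImplicit false
universe u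

open CategoryTheory CategoryTheory.Limits AlgebraicGeometry Opposite AlgSp
open Groth.Agent.Lib.Helper14.AS

namespace Groth.Agent.Lib.Helper24.FUnr

variable {S : Scheme.{u}}

/-- Uniqueness of lifts along `t`. -/
def LiftUniq {F G : Sp S} (f : F ⟶ G) {T T' : Over S} (t : T ⟶ T') : Prop :=
  ∀ l l' : (yon S).obj T' ⟶ F, (yon S).map t ≫ l = (yon S).map t ≫ l' → l ≫ f = l' ≫ f → l = l'

/-- Existence of lifts along `t`. -/
def LiftEx {F G : Sp S} (f : F ⟶ G) {T T' : Over S} (t : T ⟶ T') : Prop :=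
  ∀ (top : (yon S).obj T ⟶ F) (bot : (yon S).obj T' ⟶ G), top ≫ f = (yon S).map t ≫ bot →
    ∃ l : (yon S).obj T' ⟶ F, (yon S).map t ≫ l = top ∧ l ≫ f = bot

theorem LiftUniq.of_iso {F G : Sp S} {f : F ⟶ G} {T T' T₀ T₀' : Over S} {t : T ⟶ T'}
    {t₀ : T₀ ⟶ T₀'} (e : T₀ ≅ T) (e' : T₀' ≅ T') (w : e.hom ≫ t = t₀ ≫ e'.hom)
    (h : LiftUniq f t₀) : LiftUniq f t := by
  intro l l' h1 h2
  have := h ((yon S).map e'.hom ≫ l) ((yon S).map e'.hom ≫ l')
    (by rw [← Category.assoc, ← Category.assoc, ← Functor.map_comp, ← w, Functor.map_comp,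
      Category.assoc, Category.assoc, h1])
    (by rw [Category.assoc, Category.assoc, h2])
  exact (cancel_epi ((yon S).map e'.hom)).1 this

theorem LiftEx.of_iso {F G : Sp S} {f : F ⟶ G} {T T' T₀ T₀' : Over S} {t : T ⟶ T'}
    {t₀ : T₀ ⟶ T₀'} (e : T₀ ≅ T) (e' : T₀' ≅ T') (w : e.hom ≫ t = t₀ ≫ e'.hom)
    (h : LiftEx f t₀) : LiftEx f t := by
  intro top bot comm
  obtain ⟨l, hl1, hl2⟩ := h ((yon S).map e.hom ≫ top) ((yon S).map e'.hom ≫ bot)
    (by rw [Category.assoc, comm, ← Category.assoc, ← Functor.map_comp, w, Functor.map_comp,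
      Category.assoc])
  refine ⟨(yon S).map e'.inv ≫ l, ?_, ?_⟩
  · have hw' : t ≫ e'.inv = e.inv ≫ t₀ := by
      rw [Iso.comp_inv_eq, Category.assoc, ← w, Iso.inv_hom_id_assoc]
    rw [← Category.assoc, ← Functor.map_comp, hw', Functor.map_comp, Category.assoc, hl1,
      ← Category.assoc, ← Functor.map_comp, Iso.inv_hom_id, CategoryTheory.Functor.map_id,
      Category.id_comp]
  · rw [Category.assoc, hl2, ← Category.assoc, ← Functor.map_comp, Iso.inv_hom_id,
      CategoryTheory.Functor.map_id, Category.id_comp]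

theorem liftUniq_of_infSq {F G : Sp S} {f : F ⟶ G} (hf : IsFormallyUnramifiedMor f)
    {A : Type u} [CommRing A] (I : Ideal A) (hI : I ^ 2 = ⊥) (str : Spec (.of A) ⟶ S) :
    LiftUniq f (Over.homMk (Spec.map (CommRingCat.ofHom (Ideal.Quotient.mk I))) rfl :
      Over.mk (Spec.map (CommRingCat.ofHom (Ideal.Quotient.mk I)) ≫ str) ⟶ Over.mk str) := by
  intro l l' h1 h2
  let sq : InfSq f :=
    { A := A, I := I, sq_zero := hI, str := str
      top := (yon S).map (Over.homMk (Spec.map (CommRingCat.ofHom (Ideal.Quotient.mk I))) rfl :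
        Over.mk (Spec.map (CommRingCat.ofHom (Ideal.Quotient.mk I)) ≫ str) ⟶ Over.mk str) ≫ l
      bot := l ≫ f
      comm := by rw [Category.assoc] }
  exact hf sq l l' rfl rfl h1.symm h2.symm

theorem liftEx_of_infSq {F G : Sp S} {f : F ⟶ G} (hf : IsFormallySmoothMor f)
    {A : Type u} [CommRing A] (I : Ideal A) (hI : I ^ 2 = ⊥) (str : Spec (.of A) ⟶ S) :
    LiftEx f (Over.homMk (Spec.map (CommRingCat.ofHom (Ideal.Quotient.mk I))) rfl :
      Over.mk (Spec.map (CommRingCat.ofHom (Ideal.Quotient.mk I)) ≫ str) ⟶ Over.mk str) := by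
  intro top bot comm
  let sq : InfSq f :=
    { A := A, I := I, sq_zero := hI, str := str, top := top, bot := bot, comm := comm }
  exact hf sq

set_option backward.isDefEq.respectTransparency.types false in
/-- Every first order thickening with affine target is isomorphic, over `S`, to a standard one. -/
theorem exists_std_of_affine {T T' : Over S} (t : T ⟶ T') (hT' : IsAffine T'.left)
    (ht : MoreMor.IsFirstOrderThickening t.left) :
    ∃ (A : Type u) (_ : CommRing A) (I : Ideal A) (_ : I ^ 2 = ⊥) (str : Spec (.of A) ⟶ S)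
      (e : Over.mk (Spec.map (CommRingCat.ofHom (Ideal.Quotient.mk I)) ≫ str) ≅ T)
      (e' : Over.mk str ≅ T'),
      e.hom ≫ t = (Over.homMk (Spec.map (CommRingCat.ofHom (Ideal.Quotient.mk I))) rfl :
        Over.mk (Spec.map (CommRingCat.ofHom (Ideal.Quotient.mk I)) ≫ str) ⟶ Over.mk str) ≫
          e'.hom := by
  obtain ⟨⟨hci, -⟩, hker⟩ := ht
  haveI := hci
  haveI := hT'
  obtain ⟨hT, hφ⟩ := IsClosedImmersion.isAffine_surjective_of_isAffine t.left
  set φ : Γ(T'.left, ⊤) →+* Γ(T.left, ⊤) := t.left.appTop.hom with hφdef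
  set I : Ideal Γ(T'.left, ⊤) := RingHom.ker φ with hIdef
  have hI : I ^ 2 = ⊥ := by
    have h1 := congrArg (fun J => J.ideal ⟨⊤, isAffineOpen_top T'.left⟩) hker
    simp only [Scheme.IdealSheafData.ideal_mul, Pi.mul_apply, Scheme.Hom.ker_apply,
      Scheme.IdealSheafData.ideal_bot, Pi.bot_apply] at h1
    rw [pow_two]
    exact h1
  let e : (Γ(T'.left, ⊤) ⧸ I) ≃+* Γ(T.left, ⊤) := RingHom.quotientKerEquivOfSurjective hφ
  have he' : e.symm.toRingHom.comp φ = Ideal.Quotient.mk I := by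
    have he : e.toRingHom.comp (Ideal.Quotient.mk I) = φ := by
      ext x
      rfl
    rw [← he]
    ext x
    simp
  let str : Spec (.of Γ(T'.left, ⊤)) ⟶ S := T'.left.isoSpec.inv ≫ T'.hom
  let eS : Spec (CommRingCat.of (Γ(T'.left, ⊤) ⧸ I)) ≅ T.left :=
    Scheme.Spec.mapIso (e.symm.toCommRingCatIso).op ≪≫ T.left.isoSpec.symm
  have heS : eS.hom = Spec.map (CommRingCat.ofHom e.symm.toRingHom) ≫ T.left.isoSpec.inv := rfl
  have hcompat : eS.hom ≫ t.left =
      Spec.map (CommRingCat.ofHom (Ideal.Quotient.mk I)) ≫ T'.left.isoSpec.inv := by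
    rw [heS, Category.assoc, ← Scheme.isoSpec_inv_naturality, ← Spec.map_comp_assoc]
    congr 2
    ext x
    exact congrArg (fun g => g x) he'
  refine ⟨Γ(T'.left, ⊤), inferInstance, I, hI, str,
    Over.isoMk eS ?_, Over.isoMk T'.left.isoSpec.symm rfl, ?_⟩
  · change eS.hom ≫ T.hom = Spec.map (CommRingCat.ofHom (Ideal.Quotient.mk I)) ≫ str
    rw [← Over.w t, ← Category.assoc, hcompat, Category.assoc]
  · ext1
    exact hcompat

theorem liftUniq_of_affine {F G : Sp S} {f : F ⟶ G} (hf : IsFormallyUnramifiedMor f)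
    {T T' : Over S} (t : T ⟶ T') (hT' : IsAffine T'.left)
    (ht : MoreMor.IsFirstOrderThickening t.left) : LiftUniq f t := by
  obtain ⟨A, _, I, hI, str, e, e', w⟩ := exists_std_of_affine t hT' ht
  exact LiftUniq.of_iso e e' w (liftUniq_of_infSq hf I hI str)

theorem liftEx_of_affine {F G : Sp S} {f : F ⟶ G} (hf : IsFormallySmoothMor f)
    {T T' : Over S} (t : T ⟶ T') (hT' : IsAffine T'.left)
    (ht : MoreMor.IsFirstOrderThickening t.left) : LiftEx f t := by
  obtain ⟨A, _, I, hI, str, e, e', w⟩ := exists_std_of_affine t hT' ht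
  exact LiftEx.of_iso e e' w (liftEx_of_infSq hf I hI str)

/-- Maps out of an algebraic space are determined on affine etale charts. -/
theorem hom_ext_of_affine_charts {T' X : Sp S} (hT' : IsAlgSpace T') (l l' : T' ⟶ X)
    (h : ∀ (V : Over S) (b : (yon S).obj V ⟶ T'), IsAffine V.left → RepWith @Etale b →
      b ≫ l = b ≫ l') : l = l' := by
  obtain ⟨V, p, hpe, hps⟩ := hT'.atlas
  haveI : Epi p := epi_of_etale_surjective p hpe hps
  rw [← cancel_epi p]
  let ι := V.left.affineOpens
  have hK : Presieve.ofArrows (fun i : ι => openSub V i.1) (fun i => openSubι V i.1) ∈ KS S V := by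
    refine ofArrows_mem_KS _ _ (fun i => ⟨inferInstance, inferInstance⟩) (fun x => ?_)
    obtain ⟨_, ⟨W, hW, rfl⟩, hxW, -⟩ :=
      V.left.isBasis_affineOpens.exists_subset_of_mem_open (Set.mem_univ x) isOpen_univ
    refine ⟨⟨W, hW⟩, ?_⟩
    rw [range_openSubι]
    exact hxW
  have hJ : Sieve.generate (Presieve.ofArrows (fun i : ι => openSub V i.1)
      (fun i => openSubι V i.1)) ∈ AlgSp.J S V := by
    rw [J_eq_toGrothendieck]; exact Precoverage.generate_mem_toGrothendieck hK
  refine yon_hom_ext_of_cover _ _ _ hJ ?_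
  rintro W w ⟨W₁, v, w₁, ⟨i⟩, rfl⟩
  have hi : IsAffine (openSub V i.1).left := i.2
  have := h _ ((yon S).map (openSubι V i.1) ≫ p) hi (repWith_etale_restrict hpe i.1)
  rw [Functor.map_comp, Category.assoc, Category.assoc]
  rw [Category.assoc, Category.assoc] at this
  rw [this]

/-- Uniqueness of lifts for a formally unramified morphism along a first order thickening of
algebraic spaces. -/
theorem eq_of_foThick {X Y : Sp S} (f : X ⟶ Y) (hf : IsFormallyUnramifiedMor f) {T T' : Sp S}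
    (hT' : IsAlgSpace T') (j : T ⟶ T') (hj : IsFOThickMor j) (l l' : T' ⟶ X)
    (h1 : j ≫ l = j ≫ l') (h2 : l ≫ f = l' ≫ f) : l = l' := by
  refine hom_ext_of_affine_charts hT' l l' fun V b hV hb => ?_
  have rep : Representable j := hj.1.rep
  have sqp := rep.isPullback b
  have hthick := hj.1.property b _ _ sqp
  have hsq := hj.2 b (rep.fst b) (rep.snd b) hV hb sqp
  have hfot : MoreMor.IsFirstOrderThickening (rep.snd b).left := ⟨hthick, hsq⟩
  refine liftUniq_of_affine hf (rep.snd b) hV hfot (b ≫ l) (b ≫ l') ?_ ?_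
  · rw [← Category.assoc, ← sqp.w, Category.assoc, h1, ← Category.assoc, sqp.w, Category.assoc]
  · rw [Category.assoc, Category.assoc, h2]

end Groth.Agent.Lib.Helper24.FUnr
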