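import Mathlib
import Groth.Agent.Lib.Helper24.FUnr3
import Groth.Agent.Lib.Helper14.AlgSpYonSigma
import Groth.Agent.Lib.Helper10.UnivThick
import Groth.Agent.Lib.Helper10.AlgSpInf

/-!
# Infinitesimal lifting against first order thickenings of arbitrary schemes (helper24)
-/

set_option autoImplicit false
universe u

open CategoryTheory CategoryTheory.Limits AlgebraicGeometry Opposite AlgSp
open Groth.Agent.Lib.Helper14.AS

namespace Groth.Agent.Lib.Helper24.FUnr

variable {S : Scheme.{u}}

theorem affineOpens_mem_KS (V : Over S) :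
    Presieve.ofArrows (fun i : V.left.affineOpens => openSub V i.1)
      (fun i => openSubι V i.1) ∈ KS S V := by
  refine ofArrows_mem_KS _ _ (fun i => ⟨inferInstance, inferInstance⟩) (fun x => ?_)
  obtain ⟨_, ⟨W, hW, rfl⟩, hxW, -⟩ :=
    V.left.isBasis_affineOpens.exists_subset_of_mem_open (Set.mem_univ x) isOpen_univ
  refine ⟨⟨W, hW⟩, ?_⟩
  rw [range_openSubι]
  exact hxW

/-- Sections of a sheaf over a scheme are determined on the affine opens. -/
theorem yon_hom_ext_of_affineOpens {F : Sp S} {V : Over S} (x y : (yon S).obj V ⟶ F)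
    (h : ∀ O : V.left.affineOpens,
      (yon S).map (openSubι V O.1) ≫ x = (yon S).map (openSubι V O.1) ≫ y) : x = y := by
  have hJ : Sieve.generate (Presieve.ofArrows (fun i : V.left.affineOpens => openSub V i.1)
      (fun i => openSubι V i.1)) ∈ AlgSp.J S V := by
    rw [J_eq_toGrothendieck]; exact Precoverage.generate_mem_toGrothendieck (affineOpens_mem_KS V)
  refine yon_hom_ext_of_cover _ _ _ hJ ?_
  rintro W w ⟨W₁, v, w₁, ⟨i⟩, rfl⟩
  rw [Functor.map_comp, Category.assoc, Category.assoc, h i]

/-- Gluing of sections of a sheaf along an fppf covering family. -/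
theorem existsUnique_glue_yon {F : Sp S} {V : Over S} {ι : Type u} (W : ι → Over S)
    (w : ∀ i, W i ⟶ V) (hK : Presieve.ofArrows W w ∈ KS S V)
    (c : ∀ i, (yon S).obj (W i) ⟶ F)
    (hc : ∀ i j (Z : Over S) (g₁ : Z ⟶ W i) (g₂ : Z ⟶ W j), g₁ ≫ w i = g₂ ≫ w j →
      (yon S).map g₁ ≫ c i = (yon S).map g₂ ≫ c j) :
    ∃! d : (yon S).obj V ⟶ F, ∀ i, (yon S).map (w i) ≫ d = c i := by
  have hsh := isSheafFor_of_mem_KS F _ hK
  rw [Presieve.isSheafFor_arrows_iff] at hsh
  have hcompat : Presieve.Arrows.Compatible F.obj w (fun i => yEquiv (c i)) := by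
    intro i j Z gi gj hij
    have h1 := (AlgSp.J S).uliftYonedaEquiv_naturality (c i) gi
    have h2 := (AlgSp.J S).uliftYonedaEquiv_naturality (c j) gj
    have := congrArg yEquiv (hc i j Z gi gj hij)
    exact h1.trans (this.trans h2.symm)
  obtain ⟨t, ht, htu⟩ := hsh _ hcompat
  refine ⟨yEquiv.symm t, fun i => ?_, fun d hd => ?_⟩
  · apply yEquiv.injective
    rw [← ht i]
    have h1 := (AlgSp.J S).uliftYonedaEquiv_naturality (yEquiv.symm t) (w i)
    have h2 : yEquiv (yEquiv.symm t) = t := Equiv.apply_symm_apply _ _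
    rw [h2] at h1
    exact h1.symm
  · apply yEquiv.injective
    rw [Equiv.apply_symm_apply]
    apply htu
    intro i
    rw [← hd i]
    exact ((AlgSp.J S).uliftYonedaEquiv_naturality d (w i))

/-- The restriction of a morphism over `S` to an open of the target. -/
noncomputable def restrictOver {T T' : Over S} (t : T ⟶ T') (O : T'.left.Opens) :
    openSub T (t.left ⁻¹ᵁ O) ⟶ openSub T' O :=
  Over.homMk (t.left ∣_ O) (by
    change (t.left ∣_ O) ≫ O.ι ≫ T'.hom = (t.left ⁻¹ᵁ O).ι ≫ T.hom
    rw [← Category.assoc, morphismRestrict_ι, Category.assoc, Over.w t])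

theorem restrictOver_ι {T T' : Over S} (t : T ⟶ T') (O : T'.left.Opens) :
    restrictOver t O ≫ openSubι T' O = openSubι T (t.left ⁻¹ᵁ O) ≫ t := by
  ext1
  exact morphismRestrict_ι t.left O

/-- The base change of a first order thickening over `S`, as a morphism over `S`. -/
noncomputable def pbOver {T T' Z : Over S} (t : T ⟶ T') (z : Z ⟶ T') : Over S :=
  Over.mk (pullback.fst z.left t.left ≫ Z.hom)

noncomputable def pbOverFst {T T' Z : Over S} (t : T ⟶ T') (z : Z ⟶ T') : pbOver t z ⟶ Z :=
  Over.homMk (pullback.fst z.left t.left) rfl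

noncomputable def pbOverSnd {T T' Z : Over S} (t : T ⟶ T') (z : Z ⟶ T') : pbOver t z ⟶ T :=
  Over.homMk (pullback.snd z.left t.left) (by
    change pullback.snd z.left t.left ≫ T.hom = pullback.fst z.left t.left ≫ Z.hom
    rw [← Over.w z, ← Over.w t, ← Category.assoc, ← Category.assoc, pullback.condition])

theorem pbOver_condition {T T' Z : Over S} (t : T ⟶ T') (z : Z ⟶ T') :
    pbOverFst t z ≫ z = pbOverSnd t z ≫ t := by
  ext1
  exact pullback.condition

theorem fot_pbOverFst {T T' Z : Over S} (t : T ⟶ T') (z : Z ⟶ T')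
    (ht : MoreMor.IsFirstOrderThickening t.left) :
    MoreMor.IsFirstOrderThickening (pbOverFst t z).left :=
  Groth.Agent.Lib.Helper1.Thickening.isFirstOrderThickening_of_isPullback
    (IsPullback.of_hasPullback z.left t.left) ht

/-- Lifting a pair of compatible maps to the base change. -/
noncomputable def pbOverLift {T T' Z Q : Over S} (t : T ⟶ T') (z : Z ⟶ T') (a : Q ⟶ Z)
    (b : Q ⟶ T) (h : a ≫ z = b ≫ t) : Q ⟶ pbOver t z :=
  Over.homMk (pullback.lift a.left b.left (by rw [← Over.comp_left, h]; rfl)) (by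
    change pullback.lift a.left b.left _ ≫ pullback.fst z.left t.left ≫ Z.hom = Q.hom
    rw [← Category.assoc, pullback.lift_fst, Over.w a])

theorem pbOverLift_fst {T T' Z Q : Over S} (t : T ⟶ T') (z : Z ⟶ T') (a : Q ⟶ Z)
    (b : Q ⟶ T) (h : a ≫ z = b ≫ t) : pbOverLift t z a b h ≫ pbOverFst t z = a := by
  ext1
  exact pullback.lift_fst _ _ _

theorem pbOverLift_snd {T T' Z Q : Over S} (t : T ⟶ T') (z : Z ⟶ T') (a : Q ⟶ Z)
    (b : Q ⟶ T) (h : a ≫ z = b ≫ t) : pbOverLift t z a b h ≫ pbOverSnd t z = b := by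
  ext1
  exact pullback.lift_snd _ _ _

/-- Uniqueness of lifts for a formally unramified morphism along a first order thickening of
arbitrary schemes. -/
theorem liftUniq_of_fot {F G : Sp S} {f : F ⟶ G} (hf : IsFormallyUnramifiedMor f)
    {T T' : Over S} (t : T ⟶ T') (ht : MoreMor.IsFirstOrderThickening t.left) :
    LiftUniq f t := by
  intro l l' h1 h2
  refine yon_hom_ext_of_affineOpens l l' fun O => ?_
  have hO : IsAffine (openSub T' O.1).left := O.2
  refine liftUniq_of_affine hf (restrictOver t O.1) hO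
    (Groth.Agent.Lib.Helper10.UnivThick.fot_restrict ht O.1) _ _ ?_ ?_
  · rw [← Category.assoc, ← Category.assoc, ← Functor.map_comp, restrictOver_ι, Functor.map_comp,
      Category.assoc, Category.assoc, h1]
  · rw [Category.assoc, Category.assoc, h2]

/-- Existence of lifts for a formally etale morphism along a first order thickening of
arbitrary schemes. -/
theorem liftEx_of_fot {F G : Sp S} {f : F ⟶ G} (hf : IsFormallyEtaleMor f)
    {T T' : Over S} (t : T ⟶ T') (ht : MoreMor.IsFirstOrderThickening t.left) :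
    LiftEx f t := by
  obtain ⟨hfs, hfu⟩ := (Groth.Agent.Lib.Helper10.AlgSpInf.isFormallyEtaleMor_iff f).1 hf
  intro top bot comm
  -- local lifts
  have hloc : ∀ O : T'.left.affineOpens, ∃ l : (yon S).obj (openSub T' O.1) ⟶ F,
      (yon S).map (restrictOver t O.1) ≫ l = (yon S).map (openSubι T (t.left ⁻¹ᵁ O.1)) ≫ top ∧
        l ≫ f = (yon S).map (openSubι T' O.1) ≫ bot := by
    intro O
    have hO : IsAffine (openSub T' O.1).left := O.2
    refine liftEx_of_affine hfs (restrictOver t O.1) hO
      (Groth.Agent.Lib.Helper10.UnivThick.fot_restrict ht O.1) _ _ ?_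
    rw [Category.assoc, comm, ← Category.assoc, ← Functor.map_comp, ← restrictOver_ι,
      Functor.map_comp, Category.assoc]
  choose c hc1 hc2 using hloc
  -- compatibility
  have hcompat : ∀ (i j : T'.left.affineOpens) (Z : Over S) (g₁ : Z ⟶ openSub T' i.1)
      (g₂ : Z ⟶ openSub T' j.1), g₁ ≫ openSubι T' i.1 = g₂ ≫ openSubι T' j.1 →
      (yon S).map g₁ ≫ c i = (yon S).map g₂ ≫ c j := by
    intro i j Z g₁ g₂ hg
    obtain ⟨z, hz⟩ : ∃ z : Z ⟶ T', g₁ ≫ openSubι T' i.1 = z := ⟨_, rfl⟩
    refine liftUniq_of_fot hfu (pbOverFst t z) (fot_pbOverFst t z ht) _ _ ?_ ?_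
    · -- restriction to the thickening
      have key : ∀ (k : T'.left.affineOpens) (g : Z ⟶ openSub T' k.1)
          (hgz : g ≫ openSubι T' k.1 = z),
          (yon S).map (pbOverFst t z) ≫ (yon S).map g ≫ c k =
            (yon S).map (pbOverSnd t z) ≫ top := by
        intro k g hgz
        -- the map from the base change to the preimage of the open
        have hrange : Set.range (pbOverSnd t z).left ⊆ Set.range (t.left ⁻¹ᵁ k.1).ι := by
          rintro _ ⟨x, rfl⟩
          rw [Scheme.Opens.range_ι]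
          have e : (pbOverSnd t z ≫ t).left x =
              ((pbOverFst t z ≫ g) ≫ openSubι T' k.1).left x := by
            rw [Category.assoc, hgz, pbOver_condition]
          change (pbOverSnd t z ≫ t).left x ∈ k.1
          rw [e]
          exact ((pbOverFst t z ≫ g).left x).2
        let m₀ : (pbOver t z).left ⟶ (openSub T (t.left ⁻¹ᵁ k.1)).left :=
          IsOpenImmersion.lift (openSubι T (t.left ⁻¹ᵁ k.1)).left (pbOverSnd t z).left hrange
        have hm₀ : m₀ ≫ (openSubι T (t.left ⁻¹ᵁ k.1)).left = (pbOverSnd t z).left :=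
          IsOpenImmersion.lift_fac _ _ _
        let m : pbOver t z ⟶ openSub T (t.left ⁻¹ᵁ k.1) := Over.homMk m₀ (by
          change m₀ ≫ (openSubι T (t.left ⁻¹ᵁ k.1)).left ≫ T.hom = (pbOver t z).hom
          rw [← Category.assoc, hm₀, Over.w])
        have hm1 : m ≫ openSubι T (t.left ⁻¹ᵁ k.1) = pbOverSnd t z := by
          ext1; exact hm₀
        have hm2 : m ≫ restrictOver t k.1 = pbOverFst t z ≫ g := by
          haveI : Mono (openSubι T' k.1) := by
            have : Mono (openSubι T' k.1).left := inferInstanceAs (Mono k.1.ι)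
            exact (Over.forget S).mono_of_mono_map this
          rw [← cancel_mono (openSubι T' k.1), Category.assoc, restrictOver_ι, ← Category.assoc,
            hm1, Category.assoc, hgz, pbOver_condition]
        rw [← Category.assoc, ← Functor.map_comp, ← hm2, Functor.map_comp, Category.assoc, hc1,
          ← Category.assoc, ← Functor.map_comp, hm1]
      rw [key i g₁ hz, key j g₂ (hg.symm.trans hz)]
    · rw [Category.assoc, Category.assoc, hc2, hc2, ← Category.assoc, ← Category.assoc,
        ← Functor.map_comp, ← Functor.map_comp, hg]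
  obtain ⟨l, hl, -⟩ := existsUnique_glue_yon _ _ (affineOpens_mem_KS T') c hcompat
  refine ⟨l, ?_, ?_⟩
  · -- check on the cover of `T` by preimages
    have hK : Presieve.ofArrows (fun i : T'.left.affineOpens => openSub T (t.left ⁻¹ᵁ i.1))
        (fun i => openSubι T (t.left ⁻¹ᵁ i.1)) ∈ KS S T := by
      refine ofArrows_mem_KS _ _ (fun i => ⟨inferInstance, inferInstance⟩) (fun x => ?_)
      obtain ⟨_, ⟨W, hW, rfl⟩, hxW, -⟩ :=
        T'.left.isBasis_affineOpens.exists_subset_of_mem_open (Set.mem_univ (t.left x)) isOpen_univ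
      refine ⟨⟨W, hW⟩, ?_⟩
      rw [range_openSubι]
      exact hxW
    have hJ : Sieve.generate (Presieve.ofArrows
        (fun i : T'.left.affineOpens => openSub T (t.left ⁻¹ᵁ i.1))
        (fun i => openSubι T (t.left ⁻¹ᵁ i.1))) ∈ AlgSp.J S T := by
      rw [J_eq_toGrothendieck]; exact Precoverage.generate_mem_toGrothendieck hK
    refine yon_hom_ext_of_cover _ _ _ hJ ?_
    rintro W w ⟨W₁, v, w₁, ⟨i⟩, rfl⟩
    rw [Functor.map_comp, Category.assoc, Category.assoc]
    congr 1
    rw [← Category.assoc, ← Functor.map_comp, ← restrictOver_ι, Functor.map_comp, Category.assoc,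
      hl i, hc1 i]
  · refine yon_hom_ext_of_affineOpens _ _ fun O => ?_
    rw [← Category.assoc, hl O, hc2 O]

end Groth.Agent.Lib.Helper24.FUnr
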