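import Mathlib
import Groth.Agent.Lib.Helper24.FUnr2
import Groth.Agent.Lib.Helper24.FUnr4
import Groth.Agent.Lib.Helper24.DescSheaf
import Groth.Agent.Lib.Helper10.EtThick4

/-!
# Formally etale morphisms of sheaves: representable etale maps, descent of lifts along etale
covers, and precomposition with a representable etale surjection (helper24)
-/

set_option autoImplicit false
universe u

open CategoryTheory CategoryTheory.Limits AlgebraicGeometry Opposite AlgSp
open Groth.Agent.Lib.Helper14.AS

namespace Groth.Agent.Lib.Helper24.FUnr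

variable {S : Scheme.{u}}

theorem fot_infSq_j {F G : Sp S} {f : F ⟶ G} (sq : InfSq f) :
    MoreMor.IsFirstOrderThickening sq.j.left :=
  Groth.Agent.Lib.Helper1.Thickening.isFirstOrderThickening_SpecMap _
    Ideal.Quotient.mk_surjective (by
      change RingHom.ker (Ideal.Quotient.mk sq.I) ^ 2 = ⊥
      rw [Ideal.mk_ker]; exact sq.sq_zero)

set_option backward.isDefEq.respectTransparency.types false in
/-- A representable etale morphism of sheaves is formally etale. -/
theorem isFormallyEtaleMor_of_repWith_etale {F G : Sp S} (a : F ⟶ G) (ha : RepWith @Etale a) :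
    IsFormallyEtaleMor a := by
  intro sq
  have rep : Representable a := ha.rep
  let W : Over S := rep.pullback sq.bot
  let w : W ⟶ sq.ptT' := rep.snd sq.bot
  let n : (yon S).obj W ⟶ F := rep.fst sq.bot
  have psq : IsPullback n ((yon S).map w) a sq.bot := rep.isPullback sq.bot
  have hwe : Etale w.left := ha.property _ _ _ psq
  have hw : MoreMor.IsFormallyEtaleHom w.left := ((Groth.Agent.S1489.result w.left).1 hwe).2
  obtain ⟨s₀, hs₀⟩ := (yon S).map_surjective (psq.lift sq.top ((yon S).map sq.j) sq.comm)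
  have hs₀1 : (yon S).map s₀ ≫ n = sq.top := by rw [hs₀, psq.lift_fst]
  have hs₀2 : s₀ ≫ w = sq.j := by
    apply (yon S).map_injective
    rw [Functor.map_comp, hs₀, psq.lift_snd]
  obtain ⟨σl, ⟨hσl1, hσl2⟩, hσu⟩ := hw sq.A sq.I sq.sq_zero s₀.left (𝟙 _) (by
    rw [Category.comp_id]
    exact (congrArg (fun k => k.left) hs₀2).symm)
  let σ : sq.ptT' ⟶ W := Over.homMk σl (by
    rw [← Over.w w, ← Category.assoc, hσl2]
    exact Category.id_comp _)
  have hσ1 : sq.j ≫ σ = s₀ := by ext1; exact hσl1
  have hσ2 : σ ≫ w = 𝟙 _ := by ext1; exact hσl2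
  refine ⟨(yon S).map σ ≫ n, ⟨?_, ?_⟩, ?_⟩
  · rw [← Category.assoc, ← Functor.map_comp, hσ1, hs₀1]
  · rw [Category.assoc, psq.w, ← Category.assoc, ← Functor.map_comp, hσ2,
      CategoryTheory.Functor.map_id, Category.id_comp]
  · rintro l' ⟨hl'1, hl'2⟩
    obtain ⟨σ', hσ'⟩ := (yon S).map_surjective (psq.lift l' (𝟙 _) (by rw [hl'2, Category.id_comp]))
    have hσ'1 : (yon S).map σ' ≫ n = l' := by rw [hσ', psq.lift_fst]
    have hσ'2 : σ' ≫ w = 𝟙 _ := by
      apply (yon S).map_injective
      rw [Functor.map_comp, hσ', psq.lift_snd, CategoryTheory.Functor.map_id]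
    have hjσ' : sq.j ≫ σ' = s₀ := by
      apply (yon S).map_injective
      apply psq.hom_ext
      · rw [Functor.map_comp, Category.assoc, hσ'1, hl'1, hs₀1]
      · rw [← Functor.map_comp, Category.assoc, hσ'2, Category.comp_id, ← Functor.map_comp, hs₀2]
    have : σ'.left = σl := hσu σ'.left ⟨congrArg (fun k => k.left) hjσ',
      congrArg (fun k => k.left) hσ'2⟩
    have hσσ' : σ' = σ := by ext1; exact this
    rw [← hσ'1, hσσ']

set_option backward.isDefEq.respectTransparency.types false in
/-- Descent of a lift along an etale covering of the thickened scheme. -/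
theorem liftEx_descent {F G : Sp S} {f : F ⟶ G} (hf : IsFormallyUnramifiedMor f)
    {T T' : Over S} (t : T ⟶ T') (ht : MoreMor.IsFirstOrderThickening t.left)
    (top : (yon S).obj T ⟶ F) (bot : (yon S).obj T' ⟶ G)
    {W WT : Over S} (w : W ⟶ T') (hwe : Etale w.left) (hws : Surjective w.left)
    (iW : WT ⟶ W) (pT : WT ⟶ T) (hpb : IsPullback iW.left pT.left w.left t.left)
    (lW : (yon S).obj W ⟶ F) (h1 : (yon S).map iW ≫ lW = (yon S).map pT ≫ top)
    (h2 : lW ≫ f = (yon S).map w ≫ bot) :
    ∃ l : (yon S).obj T' ⟶ F, (yon S).map t ≫ l = top ∧ l ≫ f = bot := by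
  have hcomm : iW ≫ w = pT ≫ t := by ext1; exact hpb.w
  haveI : Epi ((yon S).map w) :=
    epi_of_etale_surjective _ ((repWith_yon_map_iff _ _).2 hwe) ((repWith_yon_map_iff _ _).2 hws)
  have hpe : Etale pT.left := MorphismProperty.of_isPullback (P := @Etale) hpb hwe
  have hps : Surjective pT.left := MorphismProperty.of_isPullback (P := @Surjective) hpb hws
  haveI : Epi ((yon S).map pT) :=
    epi_of_etale_surjective _ ((repWith_yon_map_iff _ _).2 hpe) ((repWith_yon_map_iff _ _).2 hps)
  obtain ⟨l, hl⟩ := Groth.Agent.Lib.Helper24.DescSheaf.exists_desc ((yon S).map w) lW (by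
    intro Z a₁ a₂ ha
    obtain ⟨z₁, rfl⟩ := (yon S).map_surjective a₁
    obtain ⟨z₂, rfl⟩ := (yon S).map_surjective a₂
    have hz : z₁ ≫ w = z₂ ≫ w := by
      apply (yon S).map_injective
      rw [Functor.map_comp, Functor.map_comp, ha]
    obtain ⟨z, hz1⟩ : ∃ z : Z ⟶ T', z₁ ≫ w = z := ⟨_, rfl⟩
    have hz2 : z₂ ≫ w = z := hz.symm.trans hz1
    have key : ∀ (zk : Z ⟶ W) (hzk : zk ≫ w = z),
        (yon S).map (pbOverFst t z) ≫ (yon S).map zk ≫ lW =
          (yon S).map (pbOverSnd t z) ≫ top := by
      intro zk hzk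
      let m₀ : (pbOver t z).left ⟶ WT.left :=
        hpb.lift (pbOverFst t z ≫ zk).left (pbOverSnd t z).left (by
          rw [← Over.comp_left, ← Over.comp_left, Category.assoc, hzk, pbOver_condition])
      let m : pbOver t z ⟶ WT := Over.homMk m₀ (by
        rw [← Over.w iW, ← Category.assoc, hpb.lift_fst, Over.w])
      have hm1 : m ≫ iW = pbOverFst t z ≫ zk := by ext1; exact hpb.lift_fst _ _ _
      have hm2 : m ≫ pT = pbOverSnd t z := by ext1; exact hpb.lift_snd _ _ _
      rw [← Category.assoc, ← Functor.map_comp, ← hm1, Functor.map_comp, Category.assoc, h1,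
        ← Category.assoc, ← Functor.map_comp, hm2]
    refine liftUniq_of_fot hf (pbOverFst t z) (fot_pbOverFst t z ht) _ _ ?_ ?_
    · rw [key z₁ hz1, key z₂ hz2]
    · rw [Category.assoc, Category.assoc, h2, ← Category.assoc, ← Category.assoc,
        ← Functor.map_comp, ← Functor.map_comp, hz])
  refine ⟨l, ?_, ?_⟩
  · rw [← cancel_epi ((yon S).map pT), ← Category.assoc, ← Functor.map_comp, ← hcomm,
      Functor.map_comp, Category.assoc, hl, h1]
  · rw [← cancel_epi ((yon S).map w), ← Category.assoc, hl, h2]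

set_option backward.isDefEq.respectTransparency.types false in
/-- If `a` is representable, etale and surjective and `a ≫ b` is formally unramified, so is
`b`. -/
theorem isFormallyUnramifiedMor_of_comp_etale {F G H : Sp S} (a : F ⟶ G) (b : G ⟶ H)
    (ha : RepWith @Etale a) (has : RepWith @Surjective a)
    (hab : IsFormallyUnramifiedMor (a ≫ b)) : IsFormallyUnramifiedMor b := by
  intro sq l l' h1 h2 h1' h2'
  have rep : Representable a := ha.rep
  let W : Over S := rep.pullback l
  let w : W ⟶ sq.ptT' := rep.snd l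
  let n : (yon S).obj W ⟶ F := rep.fst l
  have psq : IsPullback n ((yon S).map w) a l := rep.isPullback l
  have hwe : Etale w.left := ha.property _ _ _ psq
  have hws : Surjective w.left := has.property _ _ _ psq
  let W' : Over S := rep.pullback ((yon S).map w ≫ l')
  let q : W' ⟶ W := rep.snd ((yon S).map w ≫ l')
  let m : (yon S).obj W' ⟶ F := rep.fst ((yon S).map w ≫ l')
  have psq' : IsPullback m ((yon S).map q) a ((yon S).map w ≫ l') := rep.isPullback _
  have hqe : Etale q.left := ha.property _ _ _ psq'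
  let iW := pbOverFst sq.j w
  let pT := pbOverSnd sq.j w
  have hiWw : iW ≫ w = pT ≫ sq.j := pbOver_condition sq.j w
  have hfot : MoreMor.IsFirstOrderThickening iW.left := fot_pbOverFst sq.j w (fot_infSq_j sq)
  have hσ₀ : ((yon S).map iW ≫ n) ≫ a = (yon S).map iW ≫ (yon S).map w ≫ l' := by
    rw [Category.assoc, psq.w, ← Category.assoc, ← Functor.map_comp, hiWw, Functor.map_comp,
      Category.assoc, h1, ← h1', ← Category.assoc, ← Category.assoc, ← Functor.map_comp,
      ← Functor.map_comp, hiWw]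
  obtain ⟨σ₀, hσ₀e⟩ := (yon S).map_surjective
    (psq'.lift ((yon S).map iW ≫ n) ((yon S).map iW) hσ₀)
  have hσ₀1 : (yon S).map σ₀ ≫ m = (yon S).map iW ≫ n := by rw [hσ₀e, psq'.lift_fst]
  have hσ₀2 : σ₀ ≫ q = iW := by
    apply (yon S).map_injective
    rw [Functor.map_comp, hσ₀e, psq'.lift_snd]
  obtain ⟨σl, hσl1, hσl2⟩ := exists_section_extension q.left iW.left hfot σ₀.left
    (by rw [← Over.comp_left, hσ₀2])
  let σ : W ⟶ W' := Over.homMk σl (by
    rw [← Over.w q, ← Category.assoc, hσl2, Category.id_comp])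
  have hσ1 : iW ≫ σ = σ₀ := by ext1; exact hσl1
  have hσ2 : σ ≫ q = 𝟙 W := by ext1; exact hσl2
  have hn'a : ((yon S).map σ ≫ m) ≫ a = (yon S).map w ≫ l' := by
    rw [Category.assoc, psq'.w, ← Category.assoc, ← Functor.map_comp, hσ2,
      CategoryTheory.Functor.map_id, Category.id_comp]
  have hnn' : n = (yon S).map σ ≫ m := by
    refine liftUniq_of_fot hab iW hfot _ _ ?_ ?_
    · rw [← Category.assoc, ← Functor.map_comp, hσ1, hσ₀1]
    · rw [← Category.assoc, ← Category.assoc, hn'a, psq.w, Category.assoc, Category.assoc, h2, h2']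
  haveI : Epi ((yon S).map w) :=
    epi_of_etale_surjective _ ((repWith_yon_map_iff _ _).2 hwe) ((repWith_yon_map_iff _ _).2 hws)
  rw [← cancel_epi ((yon S).map w), ← psq.w, hnn', hn'a]

set_option backward.isDefEq.respectTransparency.types false in
/-- If `a` is representable, etale and surjective and `a ≫ b` is formally etale, then `b` is
formally smooth. -/
theorem isFormallySmoothMor_of_comp_etale {F G H : Sp S} (a : F ⟶ G) (b : G ⟶ H)
    (ha : RepWith @Etale a) (has : RepWith @Surjective a)
    (hab : IsFormallyEtaleMor (a ≫ b)) : IsFormallySmoothMor b := by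
  have habu : IsFormallyUnramifiedMor (a ≫ b) :=
    ((Groth.Agent.Lib.Helper10.AlgSpInf.isFormallyEtaleMor_iff _).1 hab).2
  have hbu : IsFormallyUnramifiedMor b := isFormallyUnramifiedMor_of_comp_etale a b ha has habu
  intro sq
  have rep : Representable a := ha.rep
  let WT : Over S := rep.pullback sq.top
  let y : WT ⟶ sq.ptT := rep.snd sq.top
  let nT : (yon S).obj WT ⟶ F := rep.fst sq.top
  have psq : IsPullback nT ((yon S).map y) a sq.top := rep.isPullback sq.top
  have hye : Etale y.left := ha.property _ _ _ psq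
  have hys : Surjective y.left := has.property _ _ _ psq
  have hfotj := fot_infSq_j sq
  haveI : IsClosedImmersion sq.j.left := hfotj.1.1
  haveI : Surjective sq.j.left := hfotj.1.2
  obtain ⟨Z, z, i, hz, hpb⟩ := Groth.Agent.Lib.Helper10.EtThick.exists_lift sq.j.left y.left
  let Z' : Over S := Over.mk (z ≫ sq.ptT'.hom)
  let zO : Z' ⟶ sq.ptT' := Over.homMk z rfl
  let iO : WT ⟶ Z' := Over.homMk i (by
    change i ≫ z ≫ sq.ptT'.hom = WT.hom
    rw [← Category.assoc, hpb.w, Category.assoc, Over.w sq.j, Over.w y])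
  have hiz : iO ≫ zO = y ≫ sq.j := by ext1; exact hpb.w
  have hfot : MoreMor.IsFirstOrderThickening iO.left :=
    Groth.Agent.Lib.Helper1.Thickening.isFirstOrderThickening_of_isPullback hpb hfotj
  have hzs : Surjective zO.left := by
    refine ⟨fun x' => ?_⟩
    obtain ⟨t, rfl⟩ := sq.j.left.surjective x'
    obtain ⟨p, rfl⟩ := y.left.surjective t
    refine ⟨i p, ?_⟩
    change z (i p) = sq.j.left (y.left p)
    rw [← Scheme.Hom.comp_apply, hpb.w, Scheme.Hom.comp_apply]
  obtain ⟨lZ, hlZ1, hlZ2⟩ := liftEx_of_fot hab iO hfot nT ((yon S).map zO ≫ sq.bot) (by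
    rw [← Category.assoc, psq.w, Category.assoc, sq.comm, ← Category.assoc, ← Functor.map_comp,
      ← hiz, Functor.map_comp, Category.assoc])
  exact liftEx_descent hbu sq.j hfotj sq.top sq.bot zO hz hzs iO y hpb (lZ ≫ a)
    (by rw [← Category.assoc, hlZ1, psq.w]) (by rw [Category.assoc, hlZ2])

end Groth.Agent.Lib.Helper24.FUnr
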