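import Mathlib
import Groth.Agent.Lib.Helper24.FUnr5
import Groth.Agent.Lib.Helper24.DeformTower

/-!
# Lifting along first order thickenings of algebraic spaces for formally etale morphisms
(helper24)
-/

set_option autoImplicit false
universe u

open CategoryTheory CategoryTheory.Limits AlgebraicGeometry Opposite AlgSp
open Groth.Agent.Lib.Helper14.AS Groth.Agent.Lib.Helper10.AlgSpInf

namespace Groth.Agent.Lib.Helper24.FUnr

variable {S : Scheme.{u}}

/-- The pullback of a first order thickening of sheaves to an etale scheme chart is a first order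
thickening of schemes. -/
theorem fot_of_isFOThickMor {T T' : Sp S} {j : T ⟶ T'} (hj : IsFOThickMor j) {V W : Over S}
    (b : (yon S).obj V ⟶ T') (hb : RepWith @Etale b) (fst : (yon S).obj W ⟶ T) (snd : W ⟶ V)
    (sq : IsPullback fst ((yon S).map snd) j b) : MoreMor.IsFirstOrderThickening snd.left :=
  ⟨hj.1.property b fst snd sq, (powZero_one_iff _).1
    (Groth.Agent.Lib.Helper24.DeformTower.powZero_of_isNThickMor
      ((isNThickMor_one_iff j).2 hj) b hb fst snd sq)⟩

set_option backward.isDefEq.respectTransparency.types false in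
/-- Existence of lifts for a formally etale morphism along a first order thickening of algebraic
spaces. -/
theorem exists_lift_of_foThick {X Y : Sp S} (f : X ⟶ Y) (hf : IsFormallyEtaleMor f) {T T' : Sp S}
    (hT' : IsAlgSpace T') (j : T ⟶ T') (hj : IsFOThickMor j) (a : T ⟶ X) (b : T' ⟶ Y)
    (w : a ≫ f = j ≫ b) : ∃ l : T' ⟶ X, j ≫ l = a ∧ l ≫ f = b := by
  have hfu : IsFormallyUnramifiedMor f := ((isFormallyEtaleMor_iff f).1 hf).2
  obtain ⟨V, p, hpe, hps⟩ := hT'.atlas
  have rep : Representable j := hj.1.rep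
  let VT : Over S := rep.pullback p
  let tV : VT ⟶ V := rep.snd p
  let fstV : (yon S).obj VT ⟶ T := rep.fst p
  have sqV : IsPullback fstV ((yon S).map tV) j p := rep.isPullback p
  have hfotV : MoreMor.IsFirstOrderThickening tV.left := fot_of_isFOThickMor hj p hpe fstV tV sqV
  obtain ⟨lV, hlV1, hlV2⟩ := liftEx_of_fot hf tV hfotV (fstV ≫ a) (p ≫ b) (by
    rw [Category.assoc, w, ← Category.assoc, sqV.w, Category.assoc])
  haveI : Epi p := epi_of_etale_surjective p hpe hps
  haveI : Epi fstV := epi_of_etale_surjective fstV (repWith_of_isPullback _ sqV.flip hpe)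
    (repWith_of_isPullback _ sqV.flip hps)
  -- the relation
  have rp : Representable p := hpe.rep
  let R : Over S := rp.pullback p
  let r₁ : R ⟶ V := rp.fst' p
  let r₂ : R ⟶ V := rp.snd p
  have sqR : IsPullback ((yon S).map r₁) ((yon S).map r₂) p p := rp.isPullback' p
  have hr₁ : Etale r₁.left := hpe.property p _ _ sqR.flip
  let pR : (yon S).obj R ⟶ T' := (yon S).map r₁ ≫ p
  have hpR : RepWith @Etale pR := repWith_comp _ ((repWith_yon_map_iff _ _).2 hr₁) hpe
  let RT : Over S := rep.pullback pR
  let tR : RT ⟶ R := rep.snd pR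
  let fstR : (yon S).obj RT ⟶ T := rep.fst pR
  have sqRT : IsPullback fstR ((yon S).map tR) j pR := rep.isPullback pR
  have hfotR : MoreMor.IsFirstOrderThickening tR.left :=
    fot_of_isFOThickMor hj pR hpR fstR tR sqRT
  have hpR2 : pR = (yon S).map r₂ ≫ p := sqR.w
  have key : (yon S).map r₁ ≫ lV = (yon S).map r₂ ≫ lV := by
    have aux : ∀ (r : R ⟶ V), pR = (yon S).map r ≫ p →
        (yon S).map tR ≫ (yon S).map r ≫ lV = fstR ≫ a := by
      intro r hr
      have hk : fstR ≫ j = ((yon S).map tR ≫ (yon S).map r) ≫ p := by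
        rw [sqRT.w, hr, Category.assoc]
      rw [← Category.assoc, ← sqV.lift_snd fstR ((yon S).map tR ≫ (yon S).map r) hk,
        Category.assoc, hlV1, ← Category.assoc, sqV.lift_fst]
    refine liftUniq_of_fot hfu tR hfotR _ _ ?_ ?_
    · rw [aux r₁ rfl, aux r₂ hpR2]
    · rw [Category.assoc, Category.assoc, hlV2, ← Category.assoc, ← Category.assoc, sqR.w]
  obtain ⟨l, hl⟩ := Groth.Agent.Lib.Helper24.DescSheaf.exists_desc p lV (by
    intro Z a₁ a₂ ha
    rw [← sqR.lift_fst a₁ a₂ ha, Category.assoc, key, ← Category.assoc, sqR.lift_snd])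
  refine ⟨l, ?_, ?_⟩
  · rw [← cancel_epi fstV, ← Category.assoc, sqV.w, Category.assoc, hl, hlV1]
  · rw [← cancel_epi p, ← Category.assoc, hl, hlV2]

end Groth.Agent.Lib.Helper24.FUnr
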