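import Mathlib
import Groth.Agent.Lib.Helper24.FUnr7

/-!
# Lifting problems whose top arrow factors through a fixed morphism: from affine first order
thickenings to first order thickenings of algebraic spaces (helper24)
-/

set_option autoImplicit false
universe u

open CategoryTheory CategoryTheory.Limits AlgebraicGeometry Opposite AlgSp
open Groth.Agent.Lib.Helper14.AS Groth.Agent.Lib.Helper10.AlgSpInf

namespace Groth.Agent.Lib.Helper24.FUnr

variable {S : Scheme.{u}}

/-- Uniqueness of lifts along `t` for squares whose top arrow factors through `i`. -/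
def LiftUniqT {F G Z : Sp S} (f : F ⟶ G) (i : Z ⟶ F) {T T' : Over S} (t : T ⟶ T') : Prop :=
  ∀ (a : (yon S).obj T ⟶ Z) (l l' : (yon S).obj T' ⟶ F), (yon S).map t ≫ l = a ≫ i →
    (yon S).map t ≫ l' = a ≫ i → l ≫ f = l' ≫ f → l = l'

/-- Existence of lifts along `t` for squares whose top arrow factors through `i`. -/
def LiftExT {F G Z : Sp S} (f : F ⟶ G) (i : Z ⟶ F) {T T' : Over S} (t : T ⟶ T') : Prop :=
  ∀ (a : (yon S).obj T ⟶ Z) (bot : (yon S).obj T' ⟶ G), (a ≫ i) ≫ f = (yon S).map t ≫ bot →
    ∃ l : (yon S).obj T' ⟶ F, (yon S).map t ≫ l = a ≫ i ∧ l ≫ f = bot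

variable {F G Z : Sp S} {f : F ⟶ G} {i : Z ⟶ F}

/-- Uniqueness for affine first order thickenings implies uniqueness for all first order
thickenings of schemes. -/
theorem liftUniqT_of_fot
    (HU : ∀ (T T' : Over S) (t : T ⟶ T'), IsAffine T'.left →
      MoreMor.IsFirstOrderThickening t.left → LiftUniqT f i t)
    {T T' : Over S} (t : T ⟶ T') (ht : MoreMor.IsFirstOrderThickening t.left) :
    LiftUniqT f i t := by
  intro a l l' h1 h1' h2
  refine yon_hom_ext_of_affineOpens l l' fun O => ?_
  have hO : IsAffine (openSub T' O.1).left := O.2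
  refine HU _ _ (restrictOver t O.1) hO
    (Groth.Agent.Lib.Helper10.UnivThick.fot_restrict ht O.1)
    ((yon S).map (openSubι T (t.left ⁻¹ᵁ O.1)) ≫ a) _ _ ?_ ?_ ?_
  · rw [← Category.assoc, ← Functor.map_comp, restrictOver_ι, Functor.map_comp,
      Category.assoc, h1, Category.assoc]
  · rw [← Category.assoc, ← Functor.map_comp, restrictOver_ι, Functor.map_comp,
      Category.assoc, h1', Category.assoc]
  · rw [Category.assoc, Category.assoc, h2]

/-- Existence and uniqueness for affine first order thickenings imply existence for all first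
order thickenings of schemes. -/
theorem liftExT_of_fot
    (HU : ∀ (T T' : Over S) (t : T ⟶ T'), IsAffine T'.left →
      MoreMor.IsFirstOrderThickening t.left → LiftUniqT f i t)
    (HE : ∀ (T T' : Over S) (t : T ⟶ T'), IsAffine T'.left →
      MoreMor.IsFirstOrderThickening t.left → LiftExT f i t)
    {T T' : Over S} (t : T ⟶ T') (ht : MoreMor.IsFirstOrderThickening t.left) :
    LiftExT f i t := by
  intro a bot comm
  have hloc : ∀ O : T'.left.affineOpens, ∃ l : (yon S).obj (openSub T' O.1) ⟶ F,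
      (yon S).map (restrictOver t O.1) ≫ l =
        ((yon S).map (openSubι T (t.left ⁻¹ᵁ O.1)) ≫ a) ≫ i ∧
        l ≫ f = (yon S).map (openSubι T' O.1) ≫ bot := by
    intro O
    have hO : IsAffine (openSub T' O.1).left := O.2
    refine HE _ _ (restrictOver t O.1) hO
      (Groth.Agent.Lib.Helper10.UnivThick.fot_restrict ht O.1) _ _ ?_
    rw [Category.assoc, Category.assoc, ← Category.assoc a, comm, ← Category.assoc,
      ← Functor.map_comp, ← restrictOver_ι, Functor.map_comp, Category.assoc]
  choose c hc1 hc2 using hloc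
  have hcompat : ∀ (k j : T'.left.affineOpens) (Z' : Over S) (g₁ : Z' ⟶ openSub T' k.1)
      (g₂ : Z' ⟶ openSub T' j.1), g₁ ≫ openSubι T' k.1 = g₂ ≫ openSubι T' j.1 →
      (yon S).map g₁ ≫ c k = (yon S).map g₂ ≫ c j := by
    intro k j Z' g₁ g₂ hg
    obtain ⟨z, hz⟩ : ∃ z : Z' ⟶ T', g₁ ≫ openSubι T' k.1 = z := ⟨_, rfl⟩
    have key : ∀ (k : T'.left.affineOpens) (g : Z' ⟶ openSub T' k.1)
        (hgz : g ≫ openSubι T' k.1 = z),
        (yon S).map (pbOverFst t z) ≫ (yon S).map g ≫ c k =
          ((yon S).map (pbOverSnd t z) ≫ a) ≫ i := by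
      intro k g hgz
      have hrange : Set.range (pbOverSnd t z).left ⊆
          Set.range (openSubι T (t.left ⁻¹ᵁ k.1)).left := by
        rintro _ ⟨x, rfl⟩
        rw [range_openSubι]
        have e : (pbOverSnd t z ≫ t).left x =
            ((pbOverFst t z ≫ g) ≫ openSubι T' k.1).left x := by
          rw [Category.assoc, hgz, pbOver_condition]
        change (pbOverSnd t z ≫ t).left x ∈ k.1
        rw [e]
        exact ((pbOverFst t z ≫ g).left x).2
      let m₀ : (pbOver t z).left ⟶ (openSub T (t.left ⁻¹ᵁ k.1)).left :=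
        IsOpenImmersion.lift (openSubι T (t.left ⁻¹ᵁ k.1)).left (pbOverSnd t z).left hrange
      have hm₀ : m₀ ≫ (openSubι T (t.left ⁻¹ᵁ k.1)).left = (pbOverSnd t z).left :=
        IsOpenImmersion.lift_fac _ _ _
      let m : pbOver t z ⟶ openSub T (t.left ⁻¹ᵁ k.1) := Over.homMk m₀ (by
        change m₀ ≫ (openSubι T (t.left ⁻¹ᵁ k.1)).left ≫ T.hom = (pbOver t z).hom
        rw [← Category.assoc, hm₀, Over.w])
      have hm1 : m ≫ openSubι T (t.left ⁻¹ᵁ k.1) = pbOverSnd t z := by
        ext1; exact hm₀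
      have hm2 : m ≫ restrictOver t k.1 = pbOverFst t z ≫ g := by
        haveI : Mono (openSubι T' k.1) := by
          have : Mono (openSubι T' k.1).left := inferInstanceAs (Mono k.1.ι)
          exact (Over.forget S).mono_of_mono_map this
        rw [← cancel_mono (openSubι T' k.1), Category.assoc, restrictOver_ι, ← Category.assoc,
          hm1, Category.assoc, hgz, pbOver_condition]
      rw [← Category.assoc, ← Functor.map_comp, ← hm2, Functor.map_comp, Category.assoc, hc1,
        ← Category.assoc, ← Category.assoc, ← Functor.map_comp, hm1]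
    refine liftUniqT_of_fot HU (pbOverFst t z) (fot_pbOverFst t z ht)
      ((yon S).map (pbOverSnd t z) ≫ a) _ _ (key k g₁ hz) (key j g₂ (hg.symm.trans hz)) ?_
    rw [Category.assoc, Category.assoc, hc2, hc2, ← Category.assoc, ← Category.assoc,
      ← Functor.map_comp, ← Functor.map_comp, hg]
  obtain ⟨l, hl, -⟩ := existsUnique_glue_yon _ _ (affineOpens_mem_KS T') c hcompat
  refine ⟨l, ?_, ?_⟩
  · have hK : Presieve.ofArrows (fun k : T'.left.affineOpens => openSub T (t.left ⁻¹ᵁ k.1))
        (fun k => openSubι T (t.left ⁻¹ᵁ k.1)) ∈ KS S T := by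
      refine ofArrows_mem_KS _ _ (fun k => ⟨inferInstance, inferInstance⟩) (fun x => ?_)
      obtain ⟨_, ⟨W, hW, rfl⟩, hxW, -⟩ :=
        T'.left.isBasis_affineOpens.exists_subset_of_mem_open (Set.mem_univ (t.left x)) isOpen_univ
      refine ⟨⟨W, hW⟩, ?_⟩
      rw [range_openSubι]
      exact hxW
    have hJ : Sieve.generate (Presieve.ofArrows
        (fun k : T'.left.affineOpens => openSub T (t.left ⁻¹ᵁ k.1))
        (fun k => openSubι T (t.left ⁻¹ᵁ k.1))) ∈ AlgSp.J S T := by
      rw [J_eq_toGrothendieck]; exact Precoverage.generate_mem_toGrothendieck hK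
    refine yon_hom_ext_of_cover _ _ _ hJ ?_
    rintro W w ⟨W₁, v, w₁, ⟨k⟩, rfl⟩
    rw [Functor.map_comp, Category.assoc, Category.assoc]
    congr 1
    rw [← Category.assoc, ← Functor.map_comp, ← restrictOver_ι, Functor.map_comp, Category.assoc,
      hl k, hc1 k, Category.assoc]
  · refine yon_hom_ext_of_affineOpens _ _ fun O => ?_
    rw [← Category.assoc, hl O, hc2 O]

/-- Uniqueness for first order thickenings of algebraic spaces. -/
theorem eq_of_foThickT
    (HU : ∀ (T T' : Over S) (t : T ⟶ T'), IsAffine T'.left →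
      MoreMor.IsFirstOrderThickening t.left → LiftUniqT f i t)
    {T T' : Sp S} (hT' : IsAlgSpace T') (j : T ⟶ T') (hj : IsFOThickMor j) (a : T ⟶ Z)
    (l l' : T' ⟶ F) (h1 : j ≫ l = a ≫ i) (h1' : j ≫ l' = a ≫ i) (h2 : l ≫ f = l' ≫ f) :
    l = l' := by
  refine hom_ext_of_affine_charts hT' l l' fun V b hV hb => ?_
  have rep : Representable j := hj.1.rep
  have sqp := rep.isPullback b
  have hfot : MoreMor.IsFirstOrderThickening (rep.snd b).left :=
    fot_of_isFOThickMor hj b hb _ _ sqp
  refine HU _ _ (rep.snd b) hV hfot (rep.fst b ≫ a) (b ≫ l) (b ≫ l') ?_ ?_ ?_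
  · rw [← Category.assoc, ← sqp.w, Category.assoc, h1, Category.assoc]
  · rw [← Category.assoc, ← sqp.w, Category.assoc, h1', Category.assoc]
  · rw [Category.assoc, Category.assoc, h2]

set_option backward.isDefEq.respectTransparency.types false in
/-- Existence for first order thickenings of algebraic spaces. -/
theorem exists_lift_of_foThickT
    (HU : ∀ (T T' : Over S) (t : T ⟶ T'), IsAffine T'.left →
      MoreMor.IsFirstOrderThickening t.left → LiftUniqT f i t)
    (HE : ∀ (T T' : Over S) (t : T ⟶ T'), IsAffine T'.left →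
      MoreMor.IsFirstOrderThickening t.left → LiftExT f i t)
    {T T' : Sp S} (hT' : IsAlgSpace T') (j : T ⟶ T') (hj : IsFOThickMor j) (a : T ⟶ Z)
    (b : T' ⟶ G) (w : (a ≫ i) ≫ f = j ≫ b) : ∃ l : T' ⟶ F, j ≫ l = a ≫ i ∧ l ≫ f = b := by
  obtain ⟨V, p, hpe, hps⟩ := hT'.atlas
  have rep : Representable j := hj.1.rep
  let VT : Over S := rep.pullback p
  let tV : VT ⟶ V := rep.snd p
  let fstV : (yon S).obj VT ⟶ T := rep.fst p
  have sqV : IsPullback fstV ((yon S).map tV) j p := rep.isPullback p
  have hfotV : MoreMor.IsFirstOrderThickening tV.left := fot_of_isFOThickMor hj p hpe fstV tV sqV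
  obtain ⟨lV, hlV1, hlV2⟩ := liftExT_of_fot HU HE tV hfotV (fstV ≫ a) (p ≫ b) (by
    rw [Category.assoc, Category.assoc, ← Category.assoc a, w, ← Category.assoc, sqV.w,
      Category.assoc])
  haveI : Epi p := epi_of_etale_surjective p hpe hps
  haveI : Epi fstV := epi_of_etale_surjective fstV (repWith_of_isPullback _ sqV.flip hpe)
    (repWith_of_isPullback _ sqV.flip hps)
  have rp : Representable p := hpe.rep
  let R : Over S := rp.pullback p
  let r₁ : R ⟶ V := rp.fst' p
  let r₂ : R ⟶ V := rp.snd p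
  have sqR : IsPullback ((yon S).map r₁) ((yon S).map r₂) p p := rp.isPullback' p
  have hr₁ : Etale r₁.left := hpe.property p _ _ sqR.flip
  let pR : (yon S).obj R ⟶ T' := (yon S).map r₁ ≫ p
  have hpR : RepWith @Etale pR := repWith_comp _ ((repWith_yon_map_iff _ _).2 hr₁) hpe
  let RT : Over S := rep.pullback pR
  let tR : RT ⟶ R := rep.snd pR
  let fstR : (yon S).obj RT ⟶ T := rep.fst pR
  have sqRT : IsPullback fstR ((yon S).map tR) j pR := rep.isPullback pR
  have hfotR : MoreMor.IsFirstOrderThickening tR.left :=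
    fot_of_isFOThickMor hj pR hpR fstR tR sqRT
  have hpR2 : pR = (yon S).map r₂ ≫ p := sqR.w
  have key : (yon S).map r₁ ≫ lV = (yon S).map r₂ ≫ lV := by
    have aux : ∀ (r : R ⟶ V), pR = (yon S).map r ≫ p →
        (yon S).map tR ≫ (yon S).map r ≫ lV = (fstR ≫ a) ≫ i := by
      intro r hr
      have hk : fstR ≫ j = ((yon S).map tR ≫ (yon S).map r) ≫ p := by
        rw [sqRT.w, hr, Category.assoc]
      rw [← Category.assoc, ← sqV.lift_snd fstR ((yon S).map tR ≫ (yon S).map r) hk,
        Category.assoc, hlV1, ← Category.assoc, ← Category.assoc, sqV.lift_fst]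
    refine liftUniqT_of_fot HU tR hfotR (fstR ≫ a) _ _ (aux r₁ rfl) (aux r₂ hpR2) ?_
    rw [Category.assoc, Category.assoc, hlV2, ← Category.assoc, ← Category.assoc, sqR.w]
  obtain ⟨l, hl⟩ := Groth.Agent.Lib.Helper24.DescSheaf.exists_desc p lV (by
    intro Z' a₁ a₂ ha
    rw [← sqR.lift_fst a₁ a₂ ha, Category.assoc, key, ← Category.assoc, sqR.lift_snd])
  refine ⟨l, ?_, ?_⟩
  · rw [← cancel_epi fstV, ← Category.assoc, sqV.w, Category.assoc, hl, hlV1, Category.assoc]
  · rw [← cancel_epi p, ← Category.assoc, hl, hlV2]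

end Groth.Agent.Lib.Helper24.FUnr

namespace Groth.Agent.Lib.Helper24.FUnr

variable {S : Scheme.{u}}

set_option backward.isDefEq.respectTransparency.types false in
/-- A first order thickening of schemes over `S` gives a first order thickening of sheaves. -/
theorem isFOThickMor_yon_map_of_fot {T T' : Over S} (t : T ⟶ T')
    (ht : MoreMor.IsFirstOrderThickening t.left) : IsFOThickMor ((yon S).map t) := by
  refine ⟨(isThickMor_yon_map_iff t).2 ht.1, ?_⟩
  intro V W b fst snd _ _ sq
  obtain ⟨b₀, rfl⟩ := (yon S).map_surjective b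
  obtain ⟨fst₀, rfl⟩ := (yon S).map_surjective fst
  have sq₀ : IsPullback fst₀ snd t b₀ := IsPullback.of_map (yon S) (by
    apply (yon S).map_injective
    rw [Functor.map_comp, Functor.map_comp]
    exact sq.w) sq
  have sq₁ := sq₀.map (Over.forget S)
  exact (Groth.Agent.Lib.Helper1.Thickening.isFirstOrderThickening_of_isPullback sq₁.flip ht).2

end Groth.Agent.Lib.Helper24.FUnr
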