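import Mathlib
import Groth.Agent.Lib.Helper24.FThru
import Groth.Agent.Lib.Helper24.FinThickBC

/-!
# Closed subschemes of an affine scheme over `S`, in terms of ideals (helper24)
-/

set_option autoImplicit false
universe u

open CategoryTheory CategoryTheory.Limits AlgebraicGeometry Opposite AlgSp
open Groth.Agent.Lib.Helper14.AS

namespace Groth.Agent.Lib.Helper24.AffClosed

variable {S : Scheme.{u}} {A : Type u} [CommRing A] (str : Spec (.of A) ⟶ S)

/-- `Spec A` over `S`. -/
noncomputable abbrev TT : Over S := Over.mk str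

/-- `Spec (A ⧸ J)` over `S`. -/
noncomputable abbrev TJ (J : Ideal A) : Over S :=
  Over.mk (Spec.map (CommRingCat.ofHom (Ideal.Quotient.mk J)) ≫ str)

/-- The closed immersion `Spec (A ⧸ J) ⟶ Spec A`. -/
noncomputable abbrev cJ (J : Ideal A) : TJ str J ⟶ TT str :=
  Over.homMk (Spec.map (CommRingCat.ofHom (Ideal.Quotient.mk J))) rfl

/-- The closed immersion `Spec (A ⧸ J₂) ⟶ Spec (A ⧸ J₁)` for `J₁ ≤ J₂`. -/
noncomputable def ιJ {J₁ J₂ : Ideal A} (h : J₁ ≤ J₂) : TJ str J₂ ⟶ TJ str J₁ :=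
  Over.homMk (Spec.map (CommRingCat.ofHom (Ideal.Quotient.factor h))) (by
    change Spec.map (CommRingCat.ofHom (Ideal.Quotient.factor h)) ≫
      Spec.map (CommRingCat.ofHom (Ideal.Quotient.mk J₁)) ≫ str =
      Spec.map (CommRingCat.ofHom (Ideal.Quotient.mk J₂)) ≫ str
    rw [← Category.assoc, ← Spec.map_comp, ← CommRingCat.ofHom_comp, Ideal.Quotient.factor_comp_mk])

theorem ιJ_cJ {J₁ J₂ : Ideal A} (h : J₁ ≤ J₂) : ιJ str h ≫ cJ str J₁ = cJ str J₂ := by
  ext1
  change Spec.map (CommRingCat.ofHom (Ideal.Quotient.factor h)) ≫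
      Spec.map (CommRingCat.ofHom (Ideal.Quotient.mk J₁)) =
      Spec.map (CommRingCat.ofHom (Ideal.Quotient.mk J₂))
  rw [← Spec.map_comp, ← CommRingCat.ofHom_comp, Ideal.Quotient.factor_comp_mk]

theorem ιJ_comp {J₁ J₂ J₃ : Ideal A} (h : J₁ ≤ J₂) (h' : J₂ ≤ J₃) :
    ιJ str h' ≫ ιJ str h = ιJ str (h.trans h') := by
  ext1
  change Spec.map (CommRingCat.ofHom (Ideal.Quotient.factor h')) ≫
      Spec.map (CommRingCat.ofHom (Ideal.Quotient.factor h)) =
      Spec.map (CommRingCat.ofHom (Ideal.Quotient.factor (h.trans h')))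
  rw [← Spec.map_comp, ← CommRingCat.ofHom_comp, Ideal.Quotient.factor_comp]

instance mono_cJ (J : Ideal A) : Mono (cJ str J) := by
  have : Mono (cJ str J).left := by
    have : IsClosedImmersion (Spec.map (CommRingCat.ofHom (Ideal.Quotient.mk J))) :=
      IsClosedImmersion.spec_of_surjective _ Ideal.Quotient.mk_surjective
    change Mono (Spec.map (CommRingCat.ofHom (Ideal.Quotient.mk J)))
    infer_instance
  exact (Over.forget S).mono_of_mono_map this

theorem fot_ιJ {J₁ J₂ : Ideal A} (h : J₁ ≤ J₂) (h2 : J₂ ^ 2 ≤ J₁) :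
    MoreMor.IsFirstOrderThickening (ιJ str h).left := by
  refine Groth.Agent.Lib.Helper1.Thickening.isFirstOrderThickening_SpecMap _
    (Ideal.Quotient.factor_surjective h) ?_
  change RingHom.ker (Ideal.Quotient.factor h) ^ 2 = ⊥
  rw [Ideal.Quotient.factor_ker, ← Ideal.map_pow, eq_bot_iff]
  refine (Ideal.map_mono h2).trans ?_
  rw [Ideal.map_quotient_self]

theorem fot_cJ {J : Ideal A} (h2 : J ^ 2 = ⊥) :
    MoreMor.IsFirstOrderThickening (cJ str J).left :=
  Groth.Agent.Lib.Helper1.Thickening.isFirstOrderThickening_SpecMap _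
    Ideal.Quotient.mk_surjective (by
      change RingHom.ker (Ideal.Quotient.mk J) ^ 2 = ⊥
      rw [Ideal.mk_ker]; exact h2)

/-- A closed subscheme of `Spec A` over `S` is of the form `Spec (A ⧸ J)`. -/
theorem exists_ideal_of_closedImmersion {W : Over S} (w : W ⟶ TT str)
    (hw : IsClosedImmersion w.left) :
    ∃ (J : Ideal A) (e : TJ str J ≅ W), e.hom ≫ w = cJ str J := by
  obtain ⟨J, e, he⟩ := (IsClosedImmersion.Spec_iff (R := CommRingCat.of A) (f := w.left)).1 hw
  have hw' : e.inv ≫ w.left = Spec.map (CommRingCat.ofHom (Ideal.Quotient.mk J)) := by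
    rw [he, Iso.inv_hom_id_assoc]
  refine ⟨J, Over.isoMk e.symm ?_, ?_⟩
  · change e.inv ≫ W.hom = Spec.map (CommRingCat.ofHom (Ideal.Quotient.mk J)) ≫ str
    rw [← Over.w w, ← Category.assoc, hw']
    rfl
  · ext1
    exact hw'

/-- A morphism between standard closed subschemes over `Spec A` forces an inclusion of ideals. -/
theorem le_of_factor {J J' : Ideal A} (m : TJ str J ⟶ TJ str J')
    (hm : m ≫ cJ str J' = cJ str J) : J' ≤ J := by
  have h1 : m.left ≫ Spec.map (CommRingCat.ofHom (Ideal.Quotient.mk J')) =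
      Spec.map (CommRingCat.ofHom (Ideal.Quotient.mk J)) := congrArg (fun k => k.left) hm
  obtain ⟨ψ, hψ⟩ := Spec.map_surjective m.left
  rw [← hψ, ← Spec.map_comp] at h1
  have h2 := Spec.map_injective h1
  intro x hx
  have h3 := congrArg (fun k => k.hom x) h2
  simp only [CommRingCat.hom_comp, CommRingCat.hom_ofHom, RingHom.coe_comp,
    Function.comp_apply] at h3
  rw [Ideal.Quotient.eq_zero_iff_mem.mpr hx, map_zero] at h3
  exact Ideal.Quotient.eq_zero_iff_mem.mp h3.symm

/-- If `Spec (A ⧸ J) ⟶ Spec A` is a first order thickening then `J ^ 2 = ⊥`. -/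
theorem sq_eq_bot_of_fot {J : Ideal A} (h : MoreMor.IsFirstOrderThickening (cJ str J).left) :
    J ^ 2 = ⊥ := by
  have h1 : AlgSp.powZero 1 (Spec.map (CommRingCat.ofHom (Ideal.Quotient.mk J))) :=
    (powZero_one_iff _).2 h.2
  rw [Groth.Agent.Lib.Helper24.FinThickBC.powZero_iff_of_isAffine] at h1
  -- transport along `ΓSpecIso`
  rw [eq_bot_iff]
  intro x hx
  have hnat := Scheme.ΓSpecIso_naturality (CommRingCat.ofHom (Ideal.Quotient.mk J))
  set g := Spec.map (CommRingCat.ofHom (Ideal.Quotient.mk J)) with hg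
  have hker : ∀ y : A, y ∈ J → (Scheme.ΓSpecIso (CommRingCat.of A)).inv y ∈
      RingHom.ker g.appTop.hom := by
    intro y hy
    rw [RingHom.mem_ker]
    have h2 := congrArg (fun k => k.hom ((Scheme.ΓSpecIso (CommRingCat.of A)).inv y)) hnat
    simp only [CommRingCat.hom_comp, RingHom.coe_comp, Function.comp_apply] at h2
    have h3 : (Scheme.ΓSpecIso (CommRingCat.of A)).hom
        ((Scheme.ΓSpecIso (CommRingCat.of A)).inv y) = y := by
      rw [← CategoryTheory.comp_apply, Iso.inv_hom_id]; rfl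
    rw [h3] at h2
    have h4 : (CommRingCat.ofHom (Ideal.Quotient.mk J)).hom y = 0 :=
      Ideal.Quotient.eq_zero_iff_mem.mpr hy
    rw [h4] at h2
    have hinj : Function.Injective (Scheme.ΓSpecIso (CommRingCat.of (A ⧸ J))).hom :=
      (ConcreteCategory.bijective_of_isIso _).1
    apply hinj
    rw [map_zero]
    exact h2
  have hmap : J.map (Scheme.ΓSpecIso (CommRingCat.of A)).inv.hom ≤ RingHom.ker g.appTop.hom := by
    rw [Ideal.map_le_iff_le_comap]
    intro y hy
    exact hker y hy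
  have h5 : (J.map (Scheme.ΓSpecIso (CommRingCat.of A)).inv.hom) ^ 2 = ⊥ := by
    rw [eq_bot_iff, ← h1]
    exact Ideal.pow_right_mono hmap 2
  rw [← Ideal.map_pow] at h5
  have h6 : (Scheme.ΓSpecIso (CommRingCat.of A)).inv x = 0 := by
    have : (Scheme.ΓSpecIso (CommRingCat.of A)).inv.hom x ∈
        (J ^ 2).map (Scheme.ΓSpecIso (CommRingCat.of A)).inv.hom := Ideal.mem_map_of_mem _ hx
    rw [h5] at this
    exact this
  have hinj : Function.Injective (Scheme.ΓSpecIso (CommRingCat.of A)).inv :=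
    (ConcreteCategory.bijective_of_isIso _).1
  exact hinj (h6.trans (map_zero _).symm)

end Groth.Agent.Lib.Helper24.AffClosed
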