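import Groth.Agent.Lib.Helper24.AlgStDiag
set_option autoImplicit false
open CategoryTheory AlgebraicGeometry Opposite
universe w₁ v₁ w₂ v₂ w₃ v₃ u
set_option backward.isDefEq.respectTransparency false
set_option backward.isDefEq.respectTransparency.types false

/-! The relative diagonal of a morphism of algebraic stacks is representable by algebraic spaces. -/

namespace Groth.Agent.Lib.Helper24.AlgStRelDiag
open Groth.Agent.Lib.Helper24.PshFun Groth.Agent.Lib.Helper24.FibCatFpMap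
open Groth.Agent.Lib.Helper24.FibCatEquiv Groth.Agent.Lib.Helper24.FibCatFpGen
open Groth.Agent.Lib.Helper24.PshBridge Groth.Agent.Lib.Helper24.AlgStRep
open Groth.Agent.Lib.Helper24.AlgStBridge Groth.Agent.Lib.Helper24.AlgStBoot
open Groth.Agent.Lib.Helper24.AlgStRepS Groth.Agent.Lib.Helper24.AlgStCalc
open Groth.Agent.Lib.Helper24.FibCatMagic Groth.Agent.Lib.Helper24.FibCatRepDiag
open Groth.Agent.Lib.Helper24.AlgStDiag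
open CategoryTheory.Limits

variable {S : Scheme.{u}}

open Groth.Agent.Lib.Helper24.FibCatInertia in
/-- base change of the relative diagonal of `j : 𝒳 ⟶ 𝒴` to a category representable by an algebraic
space, when fibre products of such categories over `𝒳` and over `𝒴` are representable -/
theorem repByAlgSp_fp_relDiag {𝒳 𝒴 : AlgSt.Cat S} (h𝒳 : FibCat.IsFibGrpd 𝒳.p)
    (h𝒴 : FibCat.IsFibGrpd 𝒴.p) (j : 𝒳 ⥤ᵇ 𝒴)
    (hX : ∀ {𝒜 ℬ : AlgSt.Cat S}, FibCat.IsFibGrpd 𝒜.p → FibCat.IsFibGrpd ℬ.p →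
      AlgSt.RepByAlgSp 𝒜 → AlgSt.RepByAlgSp ℬ → ∀ (a : 𝒜 ⥤ᵇ 𝒳) (b : ℬ ⥤ᵇ 𝒳),
        AlgSt.RepByAlgSp (FibCat.fp a b))
    (hY : ∀ {𝒜 ℬ : AlgSt.Cat S}, FibCat.IsFibGrpd 𝒜.p → FibCat.IsFibGrpd ℬ.p →
      AlgSt.RepByAlgSp 𝒜 → AlgSt.RepByAlgSp ℬ → ∀ (a : 𝒜 ⥤ᵇ 𝒴) (b : ℬ ⥤ᵇ 𝒴),
        AlgSt.RepByAlgSp (FibCat.fp a b))
    {𝒵 : AlgSt.Cat S} (h𝒵 : FibCat.IsFibGrpd 𝒵.p) (hZ : AlgSt.RepByAlgSp 𝒵)
    (z : 𝒵 ⥤ᵇ FibCat.fp j j) :
    AlgSt.RepByAlgSp (FibCat.fp z (FibCat.diag j)) := by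
  let z₁ : 𝒵 ⥤ᵇ 𝒳 := BasedFunctor.comp z (FibCat.fpFst j j)
  let z₂ : 𝒵 ⥤ᵇ 𝒳 := BasedFunctor.comp z (FibCat.fpSnd j j)
  have hT : AlgSt.RepByAlgSp (FibCat.fp (M z₁ z₂ j) (FibCat.diag j)) :=
    (repByAlgSp_iff_of_isEquivOver _ (isEquivOver_Ψ z₁ z₂ j)).1 (hX h𝒵 h𝒵 hZ hZ z₁ z₂)
  have hU : AlgSt.RepByAlgSp (FibCat.fp (BasedFunctor.comp z₁ j) (BasedFunctor.comp z₂ j)) :=
    hY h𝒵 h𝒵 hZ hZ _ _
  have hPfib : FibCat.IsFibGrpd (FibCat.fp j j).p := isFibGrpd_fp j j h𝒳 h𝒳 h𝒴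
  have hUfib : FibCat.IsFibGrpd (FibCat.fp (BasedFunctor.comp z₁ j) (BasedFunctor.comp z₂ j)).p :=
    isFibGrpd_fp _ _ h𝒵 h𝒵 h𝒴
  have hTfib : FibCat.IsFibGrpd (FibCat.fp (M z₁ z₂ j) (FibCat.diag j)).p :=
    isFibGrpd_fp _ _ hUfib h𝒳 hPfib
  let ez : BasedFunctor.comp (BasedFunctor.id 𝒵) (BasedFunctor.comp z₁ j) ≅
      BasedFunctor.comp (BasedFunctor.id 𝒵) (BasedFunctor.comp z₂ j) :=
    whiskerLeftIso z (FibCat.fpIso j j)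
  let δ : 𝒵 ⥤ᵇ FibCat.fp (BasedFunctor.comp z₁ j) (BasedFunctor.comp z₂ j) :=
    FibCat.fpLift (BasedFunctor.id 𝒵) (BasedFunctor.id 𝒵) ez
  have step1 : AlgSt.RepByAlgSp (FibCat.fp δ (FibCat.fpFst (M z₁ z₂ j) (FibCat.diag j))) :=
    repByAlgSp_fp hTfib hUfib h𝒵 _ δ (repByAlgSp1_of_repByAlgSp hT hU _) hZ
  have step2 : AlgSt.RepByAlgSp (FibCat.fp (BasedFunctor.comp δ (M z₁ z₂ j)) (FibCat.diag j)) :=
    repByAlgSp_of_isEquivOver _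
      (Groth.Agent.Lib.Helper24.FibCatFpPaste.isEquivOver_P (f := FibCat.diag j) (g := M z₁ z₂ j)
        (G := δ)) step1
  let eF : BasedFunctor.comp (BasedFunctor.comp δ (M z₁ z₂ j)) (BasedFunctor.id _) ≅
      BasedFunctor.comp (BasedFunctor.id 𝒵) z := Iso.refl _
  let eG : BasedFunctor.comp (FibCat.diag j) (BasedFunctor.id _) ≅
      BasedFunctor.comp (BasedFunctor.id 𝒳) (FibCat.diag j) := Iso.refl _
  have : (BasedFunctor.id (FibCat.fp j j)).toFunctor.Full := id_full _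
  have : (BasedFunctor.id (FibCat.fp j j)).toFunctor.Faithful := id_faithful _
  exact repByAlgSp_of_isEquivOver _
    (isEquivOver_fpMap (BasedFunctor.id 𝒵) (BasedFunctor.id 𝒳) (BasedFunctor.id (FibCat.fp j j))
      eF eG (isEquivOver_id _) (isEquivOver_id _)) step2

/-- the relative diagonal of a morphism between categories fibred in groupoids with diagonals
representable by algebraic spaces is representable by algebraic spaces -/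
theorem repByAlgSp1_relDiag {𝒳 𝒴 : AlgSt.Cat S} (h𝒳 : FibCat.IsFibGrpd 𝒳.p)
    (h𝒴 : FibCat.IsFibGrpd 𝒴.p)
    (hΔ𝒳 : AlgSt.RepByAlgSp1 (FibCat.diag (FibCat.toSelf 𝒳)))
    (hΔ𝒴 : AlgSt.RepByAlgSp1 (FibCat.diag (FibCat.toSelf 𝒴))) (f : 𝒳 ⥤ᵇ 𝒴) :
    AlgSt.RepByAlgSp1 (FibCat.diag f) := by
  intro T z
  exact repByAlgSp_fp_relDiag h𝒳 h𝒴 f
    (fun h𝒜 hℬ hA hB a b => repByAlgSp1_of_diag h𝒳 hΔ𝒳 h𝒜 hℬ hA hB a b)
    (fun h𝒜 hℬ hA hB a b => repByAlgSp1_of_diag h𝒴 hΔ𝒴 h𝒜 hℬ hA hB a b)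
    (StkFpCrit.isFibGrpd_overForget T) (repByAlgSp_overCat T) z

end Groth.Agent.Lib.Helper24.AlgStRelDiag
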