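import Groth.Agent.Lib.Helper24.FibCatDiagBC
set_option autoImplicit false
set_option linter.unusedSectionVars false
open CategoryTheory CategoryTheory.Limits
universe u v u₂ v₂ u₃ v₃ u₄ v₄ u₅ v₅

/-! `p × p : 𝒳' ×_𝒵 𝒳' ⟶ 𝒳 ×_𝒴 𝒳` is a base change of `z : 𝒵 ⟶ 𝒴`. -/

namespace Groth.Agent.Lib.Helper24.FibCatDiagBC
open Groth.Agent.Lib.Helper24.FibCatFpGen Groth.Agent.Lib.Helper24.FibCatEquiv
open Groth.Agent.Lib.Helper24.FibCatDiag (mkIso)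
open Groth.Agent.Lib.Helper24.FibCatFpMap Groth.Agent.Lib.Helper24.FibCatTwoCart

variable {C : Type u} [Category.{v} C]
variable {𝒳 : BasedCategory.{v₂, u₂} C} {𝒴 : BasedCategory.{v₃, u₃} C}
  {𝒵 : BasedCategory.{v₄, u₄} C} (f : 𝒳 ⥤ᵇ 𝒴) (z : 𝒵 ⥤ᵇ 𝒴)

/-- the structure map `𝒳 ×_𝒴 𝒳 ⟶ 𝒴` -/
def ρ : FibCat.fp f f ⥤ᵇ 𝒴 := BasedFunctor.comp (FibCat.fpFst f f) f

/-- the structure map `𝒳' ×_𝒵 𝒳' ⟶ 𝒵` -/
def σ : FibCat.fp (FibCat.fpFst z f) (FibCat.fpFst z f) ⥤ᵇ 𝒵 :=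
  BasedFunctor.comp (FibCat.fpFst (FibCat.fpFst z f) (FibCat.fpFst z f)) (FibCat.fpFst z f)

lemma σ_obj (η : (FibCat.fp (FibCat.fpFst z f) (FibCat.fpFst z f)).obj) :
    (σ f z).toFunctor.obj η = η.obj.fst.obj.fst := rfl
lemma σ_map {η η' : (FibCat.fp (FibCat.fpFst z f) (FibCat.fpFst z f)).obj} (m : η ⟶ η') :
    (σ f z).toFunctor.map m = m.hom.fst.hom.fst := rfl
lemma ρ_obj (η : (FibCat.fp f f).obj) : (ρ f).toFunctor.obj η = f.toFunctor.obj η.obj.fst := rfl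
lemma ρ_map {η η' : (FibCat.fp f f).obj} (m : η ⟶ η') :
    (ρ f).toFunctor.map m = f.toFunctor.map m.hom.fst := rfl

/-- the 2-isomorphism filling the square -/
def e₂ : BasedFunctor.comp (k f z) (ρ f) ≅ BasedFunctor.comp (σ f z) z :=
  BasedNatIso.mkNatIso (NatIso.ofComponents (fun η => η.obj.fst.obj.iso.symm) (by
    intro η η' m
    change f.toFunctor.map m.hom.fst.hom.snd ≫ η'.obj.fst.obj.iso.inv =
      η.obj.fst.obj.iso.inv ≫ z.toFunctor.map m.hom.fst.hom.fst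
    rw [Iso.comp_inv_eq, Category.assoc, Iso.eq_inv_comp]
    exact (hom_w m.hom.fst).symm)) (by
    intro η
    change 𝒴.p.IsHomLift (𝟙 _) η.obj.fst.obj.iso.inv
    have h1 := iso_inv_isHomLift z f η.obj.fst
    have h2 : (FibCat.fp (FibCat.fpFst z f) (FibCat.fpFst z f)).p.obj η =
      𝒵.p.obj η.obj.fst.obj.fst := rfl
    rw [h2]
    exact h1)

lemma e₂_hom_app (η : (FibCat.fp (FibCat.fpFst z f) (FibCat.fpFst z f)).obj) :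
    (e₂ f z).hom.toNatTrans.app η = η.obj.fst.obj.iso.inv := rfl

lemma aux_c1 {D : Type*} [Category D] {A₁ B₁ A₁' B₁' : D} (ι₁ : A₁ ≅ B₁) (ι₁' : A₁' ≅ B₁')
    (zv : A₁ ⟶ A₁') (fu₁ : B₁ ⟶ B₁') (huv : fu₁ ≫ ι₁'.inv = ι₁.inv ≫ zv) :
    zv ≫ ι₁'.hom = ι₁.hom ≫ fu₁ := by
  rw [← Iso.inv_comp_eq, ← Category.assoc, ← huv, Category.assoc, Iso.inv_hom_id, Category.comp_id]

lemma aux_c2 {D : Type*} [Category D] {A₁ B₁ A₁' B₁' A₂ B₂ A₂' B₂' : D} (ι₁ : A₁ ≅ B₁)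
    (ι₁' : A₁' ≅ B₁') (ι₂ : A₂ ≅ B₂) (ι₂' : A₂' ≅ B₂') (zγ : A₁ ≅ A₂) (zγ' : A₁' ≅ A₂')
    (zv : A₁ ⟶ A₁') (fu₁ : B₁ ⟶ B₁') (fu₂ : B₂ ⟶ B₂') (huv : fu₁ ≫ ι₁'.inv = ι₁.inv ≫ zv)
    (hu : fu₁ ≫ (ι₁'.inv ≫ zγ'.hom ≫ ι₂'.hom) = (ι₁.inv ≫ zγ.hom ≫ ι₂.hom) ≫ fu₂) :
    (zγ.inv ≫ zv ≫ zγ'.hom) ≫ ι₂'.hom = ι₂.hom ≫ fu₂ := by
  have : ι₂.hom ≫ fu₂ = zγ.inv ≫ ι₁.hom ≫ (ι₁.inv ≫ zγ.hom ≫ ι₂.hom) ≫ fu₂ := by simp
  rw [this, ← hu, ← Category.assoc fu₁, huv]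
  simp

lemma k_obj_fst (η : (FibCat.fp (FibCat.fpFst z f) (FibCat.fpFst z f)).obj) :
    ((k f z).toFunctor.obj η).obj.fst = η.obj.fst.obj.snd := rfl
lemma k_obj_snd (η : (FibCat.fp (FibCat.fpFst z f) (FibCat.fpFst z f)).obj) :
    ((k f z).toFunctor.obj η).obj.snd = η.obj.snd.obj.snd := rfl

/-- `p × p` is the base change of `z` along `𝒳 ×_𝒴 𝒳 ⟶ 𝒴` -/
theorem isEquivOver_k_baseChange :
    FibCat.IsEquivOver (FibCat.fpLift (k f z) (σ f z) (e₂ f z)) := by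
  apply isEquivOver_fpLift_of
  · intro η η' m m' hk hσ
    have h1 : m.hom.fst.hom.snd = m'.hom.fst.hom.snd := congrArg (fun t => t.hom.fst) hk
    have h2 : m.hom.snd.hom.snd = m'.hom.snd.hom.snd := congrArg (fun t => t.hom.snd) hk
    have h3 : m.hom.fst.hom.fst = m'.hom.fst.hom.fst := hσ
    have h4 : m.hom.snd.hom.fst = m'.hom.snd.hom.fst := by
      have e1 := hom_w m
      have e2 := hom_w m'
      change m.hom.fst.hom.fst ≫ η'.obj.iso.hom = η.obj.iso.hom ≫ m.hom.snd.hom.fst at e1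
      change m'.hom.fst.hom.fst ≫ η'.obj.iso.hom = η.obj.iso.hom ≫ m'.hom.snd.hom.fst at e2
      rw [h3, e2] at e1
      exact ((cancel_epi _).1 e1).symm
    exact hom_ext' (hom_ext' h3 h1) (hom_ext' h4 h2)
  · intro η η' u v huv
    obtain ⟨v', hv'⟩ : ∃ v' : η.obj.fst.obj.fst ⟶ η'.obj.fst.obj.fst, v' = v := ⟨_, rfl⟩
    obtain ⟨u₁, hu₁⟩ : ∃ u₁ : η.obj.fst.obj.snd ⟶ η'.obj.fst.obj.snd, u₁ = u.hom.fst := ⟨_, rfl⟩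
    obtain ⟨u₂, hu₂⟩ : ∃ u₂ : η.obj.snd.obj.snd ⟶ η'.obj.snd.obj.snd, u₂ = u.hom.snd := ⟨_, rfl⟩
    obtain ⟨γ, hγ⟩ : ∃ γ : η.obj.fst.obj.fst ≅ η.obj.snd.obj.fst, γ = η.obj.iso := ⟨_, rfl⟩
    obtain ⟨γ', hγ'⟩ : ∃ γ' : η'.obj.fst.obj.fst ≅ η'.obj.snd.obj.fst, γ' = η'.obj.iso := ⟨_, rfl⟩
    have huv' : f.toFunctor.map u₁ ≫ η'.obj.fst.obj.iso.inv =
        η.obj.fst.obj.iso.inv ≫ z.toFunctor.map v' := by
      rw [hu₁, hv']; exact huv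
    have hu : f.toFunctor.map u₁ ≫ (η'.obj.fst.obj.iso.inv ≫ (z.toFunctor.mapIso γ').hom ≫
        η'.obj.snd.obj.iso.hom) = (η.obj.fst.obj.iso.inv ≫ (z.toFunctor.mapIso γ).hom ≫
        η.obj.snd.obj.iso.hom) ≫ f.toFunctor.map u₂ := by
      rw [hu₁, hu₂, hγ, hγ']; exact hom_w u
    have c1 := aux_c1 _ _ _ _ huv'
    have c2 := aux_c2 _ _ _ _ _ _ _ _ _ huv' hu
    have c2' : z.toFunctor.map (γ.inv ≫ v' ≫ γ'.hom) ≫ η'.obj.snd.obj.iso.hom =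
        η.obj.snd.obj.iso.hom ≫ f.toFunctor.map u₂ := by
      rw [z.toFunctor.map_comp, z.toFunctor.map_comp]; exact c2
    obtain ⟨m₁, hm₁⟩ : ∃ m₁ : η.obj.fst ⟶ η'.obj.fst, m₁ = mkHom v' u₁ c1 := ⟨_, rfl⟩
    obtain ⟨m₂, hm₂⟩ : ∃ m₂ : η.obj.snd ⟶ η'.obj.snd, m₂ = mkHom (γ.inv ≫ v' ≫ γ'.hom) u₂ c2' :=
      ⟨_, rfl⟩
    have c3 : (FibCat.fpFst z f).toFunctor.map m₁ ≫ η'.obj.iso.hom =
        η.obj.iso.hom ≫ (FibCat.fpFst z f).toFunctor.map m₂ := by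
      rw [hm₁, hm₂, ← hγ, ← hγ']
      change v' ≫ γ'.hom = γ.hom ≫ γ.inv ≫ v' ≫ γ'.hom
      rw [Iso.hom_inv_id_assoc]
    refine ⟨mkHom m₁ m₂ c3, ?_, ?_⟩
    · apply hom_ext'
      · change m₁.hom.snd = u.hom.fst
        rw [hm₁, ← hu₁]; rfl
      · change m₂.hom.snd = u.hom.snd
        rw [hm₂, ← hu₂]; rfl
    · change m₁.hom.fst = v
      rw [hm₁, ← hv']; rfl
  · intro η
    obtain ⟨ι, hι⟩ : ∃ ι : f.toFunctor.obj η.obj.fst.obj.fst ≅ z.toFunctor.obj η.obj.snd,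
      ι = η.obj.iso := ⟨_, rfl⟩
    obtain ⟨φ, hφ⟩ : ∃ φ : f.toFunctor.obj η.obj.fst.obj.fst ≅ f.toFunctor.obj η.obj.fst.obj.snd,
      φ = η.obj.fst.obj.iso := ⟨_, rfl⟩
    have hp : 𝒳.p.obj η.obj.fst.obj.fst = 𝒵.p.obj η.obj.snd := p_eq (ρ f) z η
    have l1 : 𝒴.p.IsHomLift (𝟙 (𝒵.p.obj η.obj.snd)) ι.inv := by
      rw [hι, ← hp]; exact iso_inv_isHomLift (ρ f) z η
    have l2 : 𝒴.p.IsHomLift (𝟙 (𝒵.p.obj η.obj.snd)) φ.hom := by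
      rw [hφ, ← hp]; exact iso_isHomLift f f η.obj.fst
    have l3 : 𝒴.p.IsHomLift (𝟙 (𝒵.p.obj η.obj.snd)) (ι.symm ≪≫ φ).hom := by
      rw [Iso.trans_hom, Iso.symm_hom]
      infer_instance
    have l4 : 𝒵.p.IsHomLift (𝟙 ((FibCat.fp z f).p.obj
        (mkObj η.obj.snd η.obj.fst.obj.fst ι.symm l1))) (Iso.refl η.obj.snd).hom :=
      IsHomLift.id rfl
    let ξ : (FibCat.fp (FibCat.fpFst z f) (FibCat.fpFst z f)).obj :=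
      mkObj (F := FibCat.fpFst z f) (G := FibCat.fpFst z f)
        (mkObj η.obj.snd η.obj.fst.obj.fst ι.symm l1)
        (mkObj η.obj.snd η.obj.fst.obj.snd (ι.symm ≪≫ φ) l3) (Iso.refl η.obj.snd) l4
    have hα : f.toFunctor.map (Iso.refl η.obj.fst.obj.fst).hom ≫ η.obj.fst.obj.iso.hom =
        ((k f z).toFunctor.obj ξ).obj.iso.hom ≫
          f.toFunctor.map (Iso.refl η.obj.fst.obj.snd).hom := by
      rw [k_obj_iso_hom]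
      change f.toFunctor.map (𝟙 _) ≫ η.obj.fst.obj.iso.hom =
        (ι.hom ≫ z.toFunctor.map (𝟙 _) ≫ ι.inv ≫ φ.hom) ≫ f.toFunctor.map (𝟙 _)
      rw [hφ]
      simp
    refine ⟨ξ, mkIso (x := (k f z).toFunctor.obj ξ) (y := η.obj.fst)
      (Iso.refl _) (Iso.refl _) hα, Iso.refl _, ?_, ?_⟩
    · rw [isHomLift_iff_fst]
      exact IsHomLift.id rfl
    · change f.toFunctor.map (𝟙 _) ≫ η.obj.iso.hom = ι.hom ≫ z.toFunctor.map (𝟙 _)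
      rw [hι, f.toFunctor.map_id, z.toFunctor.map_id, Category.comp_id]
      exact Category.id_comp _

end Groth.Agent.Lib.Helper24.FibCatDiagBC
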