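import Groth.Agent.Lib.Helper24.AlgStDiagBC
import Groth.Agent.Lib.Helper24.FibCatDiagBC2
import Groth.Agent.Lib.Helper24.AlgStRelDiag
set_option autoImplicit false
open CategoryTheory AlgebraicGeometry Opposite
universe w₁ v₁ w₂ v₂ w₃ v₃ w₄ v₄ w₅ v₅ u
set_option backward.isDefEq.respectTransparency false
set_option backward.isDefEq.respectTransparency.types false

/-! Descent of properties of the diagonal along flat, locally finitely presented, surjective base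
change. -/

namespace Groth.Agent.Lib.Helper24.AlgStDiagDesc
open Groth.Agent.Lib.Helper24.FibCatFpMap
open Groth.Agent.Lib.Helper24.FibCatEquiv Groth.Agent.Lib.Helper24.FibCatFpGen
open Groth.Agent.Lib.Helper24.AlgStRep
open Groth.Agent.Lib.Helper24.AlgStBridge Groth.Agent.Lib.Helper24.AlgStBoot
open Groth.Agent.Lib.Helper24.AlgStRepS
open Groth.Agent.Lib.Helper24.AlgStEqv Groth.Agent.Lib.Helper24.FibCatDiagBC
open Groth.Agent.Lib.Helper24.AlgStDiagBC Groth.Agent.Lib.Helper24.AlgStDescent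
open Groth.Agent.Lib.Helper24.AlgStRelDiag
open CategoryTheory.Limits

section General
variable {C : Type*} [Category C]

/-- `p × p` is equivalent over `𝒳 ×_𝒴 𝒳` to the base change of `z` -/
lemma eqvOver_k {𝒳 : BasedCategory.{v₁, w₁} C} {𝒴 : BasedCategory.{v₂, w₂} C}
    {𝒵 : BasedCategory.{v₃, w₃} C} (f : 𝒳 ⥤ᵇ 𝒴) (z : 𝒵 ⥤ᵇ 𝒴) :
    EqvOver (k f z) (FibCat.fpFst (ρ f) z) :=
  ⟨FibCat.fpLift (k f z) (σ f z) (e₂ f z), isEquivOver_k_baseChange f z, ⟨Iso.refl _⟩⟩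

end General

variable {S : Scheme.{u}}

/-- `p × p` inherits the properties of `z` -/
theorem repByAlgSpWith_k {𝒳 : BasedCategory.{v₁, w₁} (Over S)}
    {𝒴 : BasedCategory.{v₂, w₂} (Over S)} {𝒵 : BasedCategory.{v₃, w₃} (Over S)}
    (Q : MorphismProperty (AlgSp.Sp S)) (f : 𝒳 ⥤ᵇ 𝒴) (z : 𝒵 ⥤ᵇ 𝒴)
    (hz : AlgSt.RepByAlgSpWith Q z) : AlgSt.RepByAlgSpWith Q (k f z) :=
  repByAlgSpWith_of_eqvOver Q (eqvOver_k f z) (repByAlgSpWith_fpFst Q z (ρ f) hz)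

/-- descent of a property of the diagonal along a flat, locally finitely presented, surjective
base change -/
theorem repByAlgSpWith_diag_of_cover {𝒳 𝒴 𝒵 : AlgSt.Cat S} (h𝒳 : FibCat.IsFibGrpd 𝒳.p)
    (h𝒴 : FibCat.IsFibGrpd 𝒴.p) (h𝒵 : FibCat.IsFibGrpd 𝒵.p)
    (hΔ𝒳 : AlgSt.RepByAlgSp1 (FibCat.diag (FibCat.toSelf 𝒳)))
    (hΔ𝒴 : AlgSt.RepByAlgSp1 (FibCat.diag (FibCat.toSelf 𝒴)))
    (P : MorphismProperty (AlgSp.Sp S)) (hPb : StableBC P)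
    (hP : AlgSp.IsLocalOnBase AlgSp.IsFppfCover P) (f : 𝒳 ⥤ᵇ 𝒴)
    (z : 𝒵 ⥤ᵇ 𝒴) (hz₁ : AlgSt.RepByAlgSpWith (AlgSp.LocP @Flat) z)
    (hz₂ : AlgSt.RepByAlgSpWith (AlgSp.LocP @LocallyOfFinitePresentation) z)
    (hz₃ : AlgSt.RepByAlgSpWith AlgSp.IsSurjectiveMor z)
    (h : AlgSt.RepByAlgSpWith P (FibCat.diag (FibCat.fpFst z f))) :
    AlgSt.RepByAlgSpWith P (FibCat.diag f) := by
  have h1 : AlgSt.RepByAlgSpWith P (FibCat.fpFst (k f z) (FibCat.diag f)) :=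
    repByAlgSpWith_of_eqvOver P (eqvOver_diag_baseChange f z).symm h
  have hfib' : FibCat.IsFibGrpd (FibCat.fp z f).p := isFibGrpd_fp z f h𝒵 h𝒳 h𝒴
  exact repByAlgSpWith_of_fpFst_cover h𝒳 (isFibGrpd_fp f f h𝒳 h𝒳 h𝒴)
    (isFibGrpd_fp _ _ hfib' hfib' h𝒵) P hPb hP (FibCat.diag f)
    (repByAlgSp1_relDiag h𝒳 h𝒴 hΔ𝒳 hΔ𝒴 f) (k f z) (repByAlgSpWith_k _ f z hz₁)
    (repByAlgSpWith_k _ f z hz₂) (repByAlgSpWith_k _ f z hz₃) h1

end Groth.Agent.Lib.Helper24.AlgStDiagDesc
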