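import Groth.Agent.Lib.Helper24.AlgStDiagAtlas
import Groth.Agent.Lib.Helper24.AlgStRelDiag
set_option autoImplicit false
open CategoryTheory AlgebraicGeometry Opposite
universe w₁ v₁ w₂ v₂ w₃ v₃ w₄ v₄ w₅ v₅ u
set_option backward.isDefEq.respectTransparency false
set_option backward.isDefEq.respectTransparency.types false

/-! The diagonal of a morphism of algebraic stacks is locally of finite type. -/

namespace Groth.Agent.Lib.Helper24.AlgStDiagLft
open Groth.Agent.Lib.Helper24.FibCatFpMap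
open Groth.Agent.Lib.Helper24.FibCatEquiv Groth.Agent.Lib.Helper24.FibCatFpGen
open Groth.Agent.Lib.Helper24.AlgStRep
open Groth.Agent.Lib.Helper24.AlgStBridge Groth.Agent.Lib.Helper24.AlgStBoot
open Groth.Agent.Lib.Helper24.AlgStRepS
open Groth.Agent.Lib.Helper24.AlgStEqv Groth.Agent.Lib.Helper24.FibCatMagic
open Groth.Agent.Lib.Helper24.AlgStDiagBC Groth.Agent.Lib.Helper24.AlgStDiagComp
open Groth.Agent.Lib.Helper24.AlgStSchLocal
open Groth.Agent.Lib.Helper24.AlgStGC Groth.Agent.Lib.Helper24.AlgStLC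
open Groth.Agent.Lib.Helper24.AlgStProd Groth.Agent.Lib.Helper24.AlgStDiagLC
open Groth.Agent.Lib.Helper24.AlgStProps Groth.Agent.Lib.Helper24.AlgStDescent
open Groth.Agent.Lib.Helper24.AlgStDiagAtlas Groth.Agent.Lib.Helper24.AlgStRelDiag
open Groth.Agent.Lib.Helper24.FibCatInertia
open CategoryTheory.Limits

variable {S : Scheme.{u}}

theorem locP_mono {Q Q' : MorphismProperty Scheme.{u}} (h : Q ≤ Q')
    ⦃X Y : AlgSp.Sp S⦄ (a : X ⟶ Y) (ha : AlgSp.LocP Q a) : AlgSp.LocP Q' a :=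
  fun _ _ a' b' k ha' hb' comm => h _ (ha a' b' k ha' hb' comm)

theorem repByAlgSpWith_locP_mono {Q Q' : MorphismProperty Scheme.{u}} (h : Q ≤ Q')
    {𝒳 : BasedCategory.{v₁, w₁} (Over S)} {𝒴 : BasedCategory.{v₂, w₂} (Over S)} (f : 𝒳 ⥤ᵇ 𝒴)
    (hf : AlgSt.RepByAlgSpWith (AlgSp.LocP Q) f) : AlgSt.RepByAlgSpWith (AlgSp.LocP Q') f :=
  repByAlgSpWith_mono (locP_mono h) f hf

theorem smooth_le_flat : (@Smooth : MorphismProperty Scheme.{u}) ≤ @Flat :=
  fun _ _ f hf => by have : Smooth f := hf; infer_instance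
theorem smooth_le_lfp : (@Smooth : MorphismProperty Scheme.{u}) ≤ @LocallyOfFinitePresentation :=
  fun _ _ f hf => by have : Smooth f := hf; infer_instance
theorem smooth_le_lft : (@Smooth : MorphismProperty Scheme.{u}) ≤ @LocallyOfFiniteType :=
  fun _ _ f hf => by have : Smooth f := hf; infer_instance

theorem nice_top' : Nice (⊤ : MorphismProperty (AlgSp.Sp S)) := nice_top

theorem stableComp_top : StableComp (⊤ : MorphismProperty (AlgSp.Sp S)) :=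
  fun _ _ _ _ _ _ _ _ _ _ => trivial

/-- a property with left cancellation which holds for a smooth surjective chart of `𝒳` holds for
the diagonal of any `f : 𝒳 ⟶ 𝒴` -/
theorem repByAlgSpWith_relDiag_of_chart {𝒳 𝒴 : AlgSt.Cat S}
    (h𝒳 : AlgSt.IsAlgStack Scheme.fppfPrecoverage 𝒳)
    (h𝒴 : AlgSt.IsAlgStack Scheme.fppfPrecoverage 𝒴)
    (P : MorphismProperty (AlgSp.Sp S)) (hP : Good P) (hc : LeftCancel P ⊤)
    (hsm : ∀ ⦃X Y : AlgSp.Sp S⦄ (a : X ⟶ Y), AlgSp.LocP @Smooth a → P a)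
    (f : 𝒳 ⥤ᵇ 𝒴) : AlgSt.RepByAlgSpWith P (FibCat.diag f) := by
  obtain ⟨U, x, hxs, hxsurj⟩ := h𝒳.atlas
  have hfl := repByAlgSpWith_locP_mono smooth_le_flat x hxs
  have hlfp := repByAlgSpWith_locP_mono smooth_le_lfp x hxs
  have hxP : AlgSt.RepByAlgSpWith P x := repByAlgSpWith_mono hsm x hxs
  have h𝒳f := h𝒳.isStack.1
  have h𝒴f := h𝒴.isStack.1
  have hfib : FibCat.IsFibGrpd (FibCat.selfOver (Over S)).p := isFibGrpd_selfOver
  have hU := Groth.Agent.Lib.Helper24.AlgStCalc.repByAlgSp_overCat U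
  have hΔf : AlgSt.RepByAlgSpWith ⊤ (FibCat.diag f) :=
    (repByAlgSp1_iff_with_top _).1 (repByAlgSp1_relDiag h𝒳f h𝒴f h𝒳.diag h𝒴.diag f)
  have hΔj : AlgSt.RepByAlgSpWith ⊤ (FibCat.diag (FibCat.toSelf 𝒴)) :=
    (repByAlgSp1_iff_with_top _).1 h𝒴.diag
  have hΔ : AlgSt.RepByAlgSp1 (FibCat.diag (BasedFunctor.comp f (FibCat.toSelf 𝒴))) :=
    (repByAlgSp1_iff_with_top _).2
      (repByAlgSpWith_diag_comp h𝒳f h𝒴f hfib ⊤ nice_top stableComp_top f _ hΔf hΔj)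
  have key : AlgSt.RepByAlgSpWith P (FibCat.diag (BasedFunctor.comp f (FibCat.toSelf 𝒴))) :=
    repByAlgSpWith_diag_of_chart (Groth.Agent.Lib.Helper24.StkFpCrit.isFibGrpd_overForget U) h𝒳f
      hfib P hP hc (BasedFunctor.comp f (FibCat.toSelf 𝒴)) hΔ x hU
      (Groth.Agent.Lib.Helper24.AlgStDiag.repByAlgSp_fp_comp_toSelf hU hU
        (BasedFunctor.comp x f) (BasedFunctor.comp x f)) hfl hlfp hxsurj hxP
  exact repByAlgSpWith_diag_of_comp h𝒳f h𝒴f hfib P ⊤ hP.nice nice_top hc f _ hΔj key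

/-- the diagonal of a morphism of algebraic stacks is locally of finite type -/
theorem repByAlgSpWith_lft_relDiag {𝒳 𝒴 : AlgSt.Cat S}
    (h𝒳 : AlgSt.IsAlgStack Scheme.fppfPrecoverage 𝒳)
    (h𝒴 : AlgSt.IsAlgStack Scheme.fppfPrecoverage 𝒴) (f : 𝒳 ⥤ᵇ 𝒴) :
    AlgSt.RepByAlgSpWith (AlgSp.LocP @LocallyOfFiniteType) (FibCat.diag f) :=
  repByAlgSpWith_relDiag_of_chart h𝒳 h𝒴 _ good_lft leftCancel_lft (locP_mono smooth_le_lft) f

end Groth.Agent.Lib.Helper24.AlgStDiagLft
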