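import Groth.Agent.Lib.Helper24.FibCatEquiv
set_option autoImplicit false
open CategoryTheory
universe u v u₂ v₂ u₃ v₃

namespace Groth.Agent.Lib.Helper24.FibCatEquiv

variable {C : Type u} [Category.{v} C]
variable {𝒳 : BasedCategory.{v₂, u₂} C} {𝒴 : BasedCategory.{v₃, u₃} C}

section scart
variable {F : 𝒳 ⥤ᵇ 𝒴} (D : LiftData F) [F.toFunctor.Full] [F.toFunctor.Faithful]

include D in
theorem isStronglyCartesian_map_iff {R S : C} {a b : 𝒳.obj} (f : R ⟶ S) (φ : a ⟶ b) :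
    𝒴.p.IsStronglyCartesian f (F.toFunctor.map φ) ↔ 𝒳.p.IsStronglyCartesian f φ := by
  constructor
  · intro hc
    have hlift : 𝒳.p.IsHomLift f φ := (BasedFunctor.isHomLift_iff F f φ).mp inferInstance
    refine { toIsHomLift := hlift, universal_property' := ?_ }
    intro a' g φ' hφ'
    have : 𝒴.p.IsHomLift (g ≫ f) (F.toFunctor.map φ') := inferInstance
    obtain ⟨χ', ⟨hχ'1, hχ'2⟩, huniq⟩ :=
      Functor.IsStronglyCartesian.universal_property 𝒴.p f (F.toFunctor.map φ) g (g ≫ f) rfl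
        (F.toFunctor.map φ')
    refine ⟨F.toFunctor.preimage χ', ⟨?_, ?_⟩, ?_⟩
    · rw [← BasedFunctor.isHomLift_iff F, Functor.map_preimage]; exact hχ'1
    · apply F.toFunctor.map_injective
      rw [Functor.map_comp, Functor.map_preimage, hχ'2]
    · rintro χ ⟨hχ1, hχ2⟩
      apply F.toFunctor.map_injective
      rw [Functor.map_preimage]
      apply huniq
      refine ⟨inferInstance, ?_⟩
      rw [← Functor.map_comp, hχ2]
  · intro hc
    have hlift : 𝒴.p.IsHomLift f (F.toFunctor.map φ) := inferInstance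
    refine { toIsHomLift := hlift, universal_property' := ?_ }
    intro η' g ψ' hψ'
    have he := D.he η'
    have h1 : 𝒴.p.IsHomLift (g ≫ f) ((D.e η').hom ≫ ψ') :=
      IsHomLift.comp_lift_id_left' (p := 𝒴.p) (𝒴.p.obj η') (D.e η').hom (g ≫ f) ψ'
    set φ'' := F.toFunctor.preimage ((D.e η').hom ≫ ψ') with hφ''
    have h2 : 𝒳.p.IsHomLift (g ≫ f) φ'' := by
      rw [← BasedFunctor.isHomLift_iff F, hφ'', Functor.map_preimage]; exact h1
    obtain ⟨χ, ⟨hχ1, hχ2⟩, huniq⟩ :=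
      Functor.IsStronglyCartesian.universal_property 𝒳.p f φ g (g ≫ f) rfl φ''
    have hinv : 𝒴.p.IsHomLift (𝟙 (𝒴.p.obj η')) (D.e η').inv := inferInstance
    have hFχ : 𝒴.p.IsHomLift g (F.toFunctor.map χ) := inferInstance
    have hcomp : 𝒴.p.IsHomLift g ((D.e η').inv ≫ F.toFunctor.map χ) :=
      IsHomLift.comp_lift_id_left' (p := 𝒴.p) (𝒴.p.obj η') (D.e η').inv g (F.toFunctor.map χ)
    refine ⟨(D.e η').inv ≫ F.toFunctor.map χ, ⟨hcomp, ?_⟩, ?_⟩
    · rw [Category.assoc, ← Functor.map_comp, hχ2, hφ'', Functor.map_preimage, Iso.inv_hom_id_assoc]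
    · rintro χ'' ⟨hχ''1, hχ''2⟩
      have h3 : 𝒴.p.IsHomLift g ((D.e η').hom ≫ χ'') :=
        IsHomLift.comp_lift_id_left' (p := 𝒴.p) (𝒴.p.obj η') (D.e η').hom g χ''
      have h4 : F.toFunctor.preimage ((D.e η').hom ≫ χ'') = χ := by
        apply huniq
        refine ⟨?_, ?_⟩
        · rw [← BasedFunctor.isHomLift_iff F, Functor.map_preimage]; exact h3
        · apply F.toFunctor.map_injective
          rw [Functor.map_comp, Functor.map_preimage, hφ'', Functor.map_preimage, Category.assoc,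
            hχ''2]
      rw [← h4, Functor.map_preimage, Iso.inv_hom_id_assoc]

end scart

/-- the quasi-inverse of an equivalence over `C` is an equivalence over `C` -/
theorem exists_inverse_isEquivOver (F : 𝒳 ⥤ᵇ 𝒴) (h : FibCat.IsEquivOver F) :
    ∃ G : 𝒴 ⥤ᵇ 𝒳, FibCat.IsEquivOver G := by
  obtain ⟨G, ⟨α⟩, ⟨β⟩⟩ := h
  exact ⟨G, F, ⟨β⟩, ⟨α⟩⟩

/-- fibredness is reflected by equivalences over `C` -/
theorem isFibered_of_isEquivOver (F : 𝒳 ⥤ᵇ 𝒴) (h : FibCat.IsEquivOver F) (h𝒴 : 𝒴.p.IsFibered) :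
    𝒳.p.IsFibered := by
  obtain ⟨⟨hfull, hfaith⟩, _⟩ := props_of_isEquivOver F h
  let D := liftDataOfIsEquivOver F h
  have hpre : 𝒳.p.IsPreFibered := by
    constructor
    intro x R f
    have hx : 𝒴.p.obj (F.toFunctor.obj x) = 𝒳.p.obj x := F.w_obj x
    obtain ⟨η, ψ, hψ⟩ := CategoryTheory.IsPreFibered.exists_isCartesian 𝒴.p hx f
    have hR : 𝒴.p.obj η = R := IsHomLift.domain_eq 𝒴.p f ψ
    have he : 𝒴.p.IsHomLift (𝟙 R) (D.e η).hom := by
      have := D.he η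
      rw [hR] at this
      exact this
    have hc : 𝒴.p.IsCartesian f ((D.e η).hom ≫ ψ) := inferInstance
    refine ⟨D.ξ η, F.toFunctor.preimage ((D.e η).hom ≫ ψ), ?_⟩
    rw [← isCartesian_map_iff D, Functor.map_preimage]
    exact hc
  refine { toIsPreFibered := hpre, comp := ?_ }
  intro R S T f g a b c φ ψ hφ hψ
  rw [← isCartesian_map_iff D] at hφ hψ ⊢
  rw [Functor.map_comp]
  exact Functor.IsFibered.comp f g _ _

/-- prefibredness is reflected by equivalences over `C` -/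
theorem isPreFibered_of_isEquivOver (F : 𝒳 ⥤ᵇ 𝒴) (h : FibCat.IsEquivOver F)
    (h𝒴 : 𝒴.p.IsPreFibered) : 𝒳.p.IsPreFibered := by
  obtain ⟨⟨hfull, hfaith⟩, _⟩ := props_of_isEquivOver F h
  let D := liftDataOfIsEquivOver F h
  constructor
  intro x R f
  have hx : 𝒴.p.obj (F.toFunctor.obj x) = 𝒳.p.obj x := F.w_obj x
  obtain ⟨η, ψ, hψ⟩ := CategoryTheory.IsPreFibered.exists_isCartesian 𝒴.p hx f
  have hR : 𝒴.p.obj η = R := IsHomLift.domain_eq 𝒴.p f ψ
  have he : 𝒴.p.IsHomLift (𝟙 R) (D.e η).hom := by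
    have := D.he η
    rw [hR] at this
    exact this
  have hc : 𝒴.p.IsCartesian f ((D.e η).hom ≫ ψ) := inferInstance
  refine ⟨D.ξ η, F.toFunctor.preimage ((D.e η).hom ≫ ψ), ?_⟩
  rw [← isCartesian_map_iff D, Functor.map_preimage]
  exact hc

theorem isFibered_iff_of_isEquivOver (F : 𝒳 ⥤ᵇ 𝒴) (h : FibCat.IsEquivOver F) :
    𝒳.p.IsFibered ↔ 𝒴.p.IsFibered := by
  obtain ⟨G, hG⟩ := exists_inverse_isEquivOver F h
  exact ⟨isFibered_of_isEquivOver G hG, isFibered_of_isEquivOver F h⟩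

theorem isPreFibered_iff_of_isEquivOver (F : 𝒳 ⥤ᵇ 𝒴) (h : FibCat.IsEquivOver F) :
    𝒳.p.IsPreFibered ↔ 𝒴.p.IsPreFibered := by
  obtain ⟨G, hG⟩ := exists_inverse_isEquivOver F h
  exact ⟨isPreFibered_of_isEquivOver G hG, isPreFibered_of_isEquivOver F h⟩

theorem isStronglyCartesian_map_of_isEquivOver (F : 𝒳 ⥤ᵇ 𝒴) (h : FibCat.IsEquivOver F)
    {R S : C} (f : R ⟶ S) {a b : 𝒳.obj} (φ : a ⟶ b) :
    𝒴.p.IsStronglyCartesian f (F.toFunctor.map φ) ↔ 𝒳.p.IsStronglyCartesian f φ := by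
  obtain ⟨⟨hfull, hfaith⟩, _⟩ := props_of_isEquivOver F h
  exact isStronglyCartesian_map_iff (liftDataOfIsEquivOver F h) f φ

theorem isCartesian_map_of_isEquivOver (F : 𝒳 ⥤ᵇ 𝒴) (h : FibCat.IsEquivOver F)
    {R S : C} (f : R ⟶ S) {a b : 𝒳.obj} (φ : a ⟶ b) :
    𝒴.p.IsCartesian f (F.toFunctor.map φ) ↔ 𝒳.p.IsCartesian f φ := by
  obtain ⟨⟨hfull, hfaith⟩, _⟩ := props_of_isEquivOver F h
  exact isCartesian_map_iff (liftDataOfIsEquivOver F h) f φ

end Groth.Agent.Lib.Helper24.FibCatEquiv
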