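import Groth.Agent.Lib.Helper24.FibCatFpGen
import Groth.Agent.Lib.Helper24.FibCatEquiv2
set_option autoImplicit false
open CategoryTheory
universe u v u₂ v₂ u₃ v₃ u₄ v₄
open Groth.Agent.Lib.Helper24.FibCatFpGen Groth.Agent.Lib.Helper24.FibCatEquiv
open Groth.Agent.Lib.Helper24.FibGrpd

namespace Groth.Agent.Lib.Helper24.FibCatDiag

section
variable {C : Type u} [Category.{v} C] {𝒳 : BasedCategory.{v₂, u₂} C} {𝒴 : BasedCategory.{v₃, u₃} C}
  (G : 𝒳 ⥤ᵇ 𝒴)

lemma diag_obj_fst (x : 𝒳.obj) : ((FibCat.diag G).toFunctor.obj x).obj.fst = x := rfl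
lemma diag_obj_snd (x : 𝒳.obj) : ((FibCat.diag G).toFunctor.obj x).obj.snd = x := rfl
lemma diag_obj_iso_hom (x : 𝒳.obj) :
    ((FibCat.diag G).toFunctor.obj x).obj.iso.hom = 𝟙 (G.toFunctor.obj x) := rfl
lemma diag_map_fst {x y : 𝒳.obj} (f : x ⟶ y) : ((FibCat.diag G).toFunctor.map f).hom.fst = f := rfl
lemma diag_map_snd {x y : 𝒳.obj} (f : x ⟶ y) : ((FibCat.diag G).toFunctor.map f).hom.snd = f := rfl

lemma diag_faithful : (FibCat.diag G).toFunctor.Faithful := by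
  constructor
  intro x y a b h
  have := congrArg (fun t => t.hom.fst) h
  exact this

lemma diag_full [G.toFunctor.Faithful] : (FibCat.diag G).toFunctor.Full := by
  constructor
  intro x y φ
  obtain ⟨a, ha⟩ : ∃ a : x ⟶ y, a = φ.hom.fst := ⟨_, rfl⟩
  obtain ⟨b, hb⟩ : ∃ b : x ⟶ y, b = φ.hom.snd := ⟨_, rfl⟩
  have hab : a = b := by
    apply G.toFunctor.map_injective
    have hw : G.toFunctor.map a ≫ 𝟙 (G.toFunctor.obj y) =
        𝟙 (G.toFunctor.obj x) ≫ G.toFunctor.map b := by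
      subst ha hb; exact hom_w φ
    rw [Category.comp_id, Category.id_comp] at hw
    exact hw
  refine ⟨a, ?_⟩
  apply hom_ext'
  · exact ha
  · rw [← hb, ← hab]; rfl
end

section
variable {C : Type u} [Category.{v} C] {𝒳 : BasedCategory.{v₂, u₂} C} {𝒴 : BasedCategory.{v₃, u₃} C}
  {𝒮 : BasedCategory.{v₄, u₄} C}

/-- isomorphisms of the fibre product from componentwise isomorphisms -/
def mkIso {F : 𝒳 ⥤ᵇ 𝒮} {G : 𝒴 ⥤ᵇ 𝒮} {x y : (FibCat.fp F G).obj} (a : x.obj.fst ≅ y.obj.fst)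
    (b : x.obj.snd ≅ y.obj.snd)
    (w : F.toFunctor.map a.hom ≫ y.obj.iso.hom = x.obj.iso.hom ≫ G.toFunctor.map b.hom) : x ≅ y where
  hom := mkHom a.hom b.hom w
  inv := mkHom a.inv b.inv (by
    have h1 : F.toFunctor.map a.inv ≫ F.toFunctor.map a.hom = 𝟙 _ := by
      rw [← Functor.map_comp, Iso.inv_hom_id, Functor.map_id]
    have h2 : G.toFunctor.map b.hom ≫ G.toFunctor.map b.inv = 𝟙 _ := by
      rw [← Functor.map_comp, Iso.hom_inv_id, Functor.map_id]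
    calc F.toFunctor.map a.inv ≫ x.obj.iso.hom
        = F.toFunctor.map a.inv ≫ x.obj.iso.hom ≫ G.toFunctor.map b.hom ≫ G.toFunctor.map b.inv := by
          rw [h2, Category.comp_id]
      _ = F.toFunctor.map a.inv ≫ (F.toFunctor.map a.hom ≫ y.obj.iso.hom) ≫ G.toFunctor.map b.inv := by
          rw [w, Category.assoc]
      _ = y.obj.iso.hom ≫ G.toFunctor.map b.inv := by
          rw [Category.assoc, ← Category.assoc, h1, Category.id_comp])
  hom_inv_id := by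
    apply hom_ext'
    · exact a.hom_inv_id
    · exact b.hom_inv_id
  inv_hom_id := by
    apply hom_ext'
    · exact a.inv_hom_id
    · exact b.inv_hom_id
end

theorem fullyFaithful_iff_isEquivOver_diag {C : Type u} [Category.{v} C] {𝒳 : BasedCategory.{v₂, u₂} C}
    {𝒴 : BasedCategory.{v₃, u₃} C} (G : 𝒳 ⥤ᵇ 𝒴) (h𝒳 : FibCat.IsFibGrpd 𝒳.p) (h𝒴 : FibCat.IsFibGrpd 𝒴.p) :
    (G.toFunctor.Full ∧ G.toFunctor.Faithful) ↔ FibCat.IsEquivOver (FibCat.diag G) := by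
  constructor
  · rintro ⟨hfull, hfaith⟩
    have := diag_faithful G
    have := diag_full G
    have key : ∀ η : (FibCat.fp G G).obj, ∃ e : (FibCat.diag G).toFunctor.obj η.obj.fst ≅ η,
        (FibCat.fp G G).p.IsHomLift (𝟙 ((FibCat.fp G G).p.obj η)) e.hom := by
      intro η
      obtain ⟨b, hb⟩ : ∃ b : η.obj.fst ≅ η.obj.snd, G.toFunctor.map b.hom = η.obj.iso.hom :=
        ⟨G.toFunctor.preimageIso η.obj.iso, by simp⟩
      have w : G.toFunctor.map (Iso.refl η.obj.fst).hom ≫ η.obj.iso.hom =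
          ((FibCat.diag G).toFunctor.obj η.obj.fst).obj.iso.hom ≫ G.toFunctor.map b.hom := by
        change G.toFunctor.map (𝟙 η.obj.fst) ≫ η.obj.iso.hom =
          𝟙 (G.toFunctor.obj η.obj.fst) ≫ G.toFunctor.map b.hom
        rw [Functor.map_id, Category.id_comp, Category.id_comp, hb]
      refine ⟨mkIso (x := (FibCat.diag G).toFunctor.obj η.obj.fst) (y := η) (Iso.refl η.obj.fst) b w,
        ?_⟩
      rw [isHomLift_iff_fst]
      change 𝒳.p.IsHomLift (𝟙 (𝒳.p.obj η.obj.fst)) (𝟙 η.obj.fst)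
      infer_instance
    choose e he using key
    exact isEquivOver_of_liftData (F := FibCat.diag G) ⟨fun η => η.obj.fst, e, he⟩
  · intro h
    obtain ⟨⟨hfull, hfaith⟩, hess⟩ := props_of_isEquivOver _ h
    have hGfaith : G.toFunctor.Faithful := by
      constructor
      intro x y a b hab
      have w : G.toFunctor.map a ≫ ((FibCat.diag G).toFunctor.obj y).obj.iso.hom =
          ((FibCat.diag G).toFunctor.obj x).obj.iso.hom ≫ G.toFunctor.map b := by
        change G.toFunctor.map a ≫ 𝟙 _ = 𝟙 _ ≫ G.toFunctor.map b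
        rw [Category.comp_id, Category.id_comp, hab]
      obtain ⟨c, hc⟩ := (FibCat.diag G).toFunctor.map_surjective
        (mkHom (x := (FibCat.diag G).toFunctor.obj x) (y := (FibCat.diag G).toFunctor.obj y) a b w)
      have h1 : c = a := congrArg (fun t => t.hom.fst) hc
      have h2 : c = b := congrArg (fun t => t.hom.snd) hc
      rw [← h1, h2]
    refine ⟨?_, hGfaith⟩
    constructor
    intro x y ψ
    have hx : 𝒴.p.obj (G.toFunctor.obj x) = 𝒳.p.obj x := G.w_obj x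
    have hy : 𝒴.p.obj (G.toFunctor.obj y) = 𝒳.p.obj y := G.w_obj y
    set f : 𝒳.p.obj x ⟶ 𝒳.p.obj y := eqToHom hx.symm ≫ 𝒴.p.map ψ ≫ eqToHom hy with hf
    have hψl : 𝒴.p.IsHomLift f ψ := IsHomLift.of_fac 𝒴.p f ψ hx hy hf
    obtain ⟨x', φ₀, hφ₀⟩ := h𝒳.exists_lift f
    have hGφ₀ : 𝒴.p.IsStronglyCartesian f (G.toFunctor.map φ₀) := scart_of_isFibGrpd 𝒴.p h𝒴 _ _
    obtain ⟨χ, ⟨hχ1, hχ2⟩, _⟩ :=
      Functor.IsStronglyCartesian.universal_property 𝒴.p f (G.toFunctor.map φ₀) (𝟙 (𝒳.p.obj x)) f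
        (Category.id_comp _).symm ψ
    have hχiso : IsIso χ := isIso_of_isFibGrpd 𝒴.p h𝒴 (𝟙 (𝒳.p.obj x)) χ
    -- the object (x, x', χ)
    obtain ⟨ξ, e, he⟩ := hess (mkObj (F := G) (G := G) x x' (asIso χ) hχ1)
    obtain ⟨e₁, he₁⟩ : ∃ e₁ : ξ ≅ x, e₁.hom = e.hom.hom.fst :=
      ⟨(FibCat.fpFst G G).toFunctor.mapIso e, rfl⟩
    obtain ⟨e₂, he₂⟩ : ∃ e₂ : ξ ≅ x', e₂.hom = e.hom.hom.snd :=
      ⟨(FibCat.fpSnd G G).toFunctor.mapIso e, rfl⟩
    have hw : G.toFunctor.map e₁.hom ≫ χ = 𝟙 _ ≫ G.toFunctor.map e₂.hom := by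
      rw [he₁, he₂]
      exact hom_w e.hom
    refine ⟨e₁.inv ≫ e₂.hom ≫ φ₀, ?_⟩
    rw [Functor.map_comp, Functor.map_comp, ← hχ2, ← Category.assoc]
    congr 1
    rw [Category.id_comp] at hw
    rw [← hw, ← Category.assoc, ← Functor.map_comp, Iso.inv_hom_id, Functor.map_id, Category.id_comp]

end Groth.Agent.Lib.Helper24.FibCatDiag
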