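import Groth.Agent.Lib.Helper24.FibCatEquiv2
set_option autoImplicit false
set_option linter.unusedSectionVars false
open CategoryTheory
universe u v u₂ v₂ u₃ v₃ u₄ v₄

/-! Composition of equivalences over `C`; invariance of representability. -/

namespace Groth.Agent.Lib.Helper24.FibCatEquiv
variable {C : Type u} [Category.{v} C]
variable {𝒳 : BasedCategory.{v₂, u₂} C} {𝒴 : BasedCategory.{v₃, u₃} C} {𝒵 : BasedCategory.{v₄, u₄} C}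

theorem isEquivOver_comp (F : 𝒳 ⥤ᵇ 𝒴) (G : 𝒴 ⥤ᵇ 𝒵) (hF : FibCat.IsEquivOver F)
    (hG : FibCat.IsEquivOver G) : FibCat.IsEquivOver (BasedFunctor.comp F G) := by
  obtain ⟨⟨_, _⟩, hessF⟩ := props_of_isEquivOver F hF
  obtain ⟨⟨_, _⟩, hessG⟩ := props_of_isEquivOver G hG
  have key : ∀ ζ : 𝒵.obj, ∃ (ξ : 𝒳.obj) (e : (BasedFunctor.comp F G).toFunctor.obj ξ ≅ ζ),
      𝒵.p.IsHomLift (𝟙 (𝒵.p.obj ζ)) e.hom := by
    intro ζ
    obtain ⟨η, e₂, h₂⟩ := hessG ζ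
    obtain ⟨ξ, e₁, h₁⟩ := hessF η
    have hη : 𝒴.p.obj η = 𝒵.p.obj ζ := by
      rw [← G.w_obj]
      exact IsHomLift.domain_eq 𝒵.p (𝟙 (𝒵.p.obj ζ)) e₂.hom
    have h₁' : 𝒴.p.IsHomLift (𝟙 (𝒵.p.obj ζ)) e₁.hom := by rw [← hη]; exact h₁
    have h₃ : 𝒵.p.IsHomLift (𝟙 (𝒵.p.obj ζ)) (G.toFunctor.map e₁.hom) := inferInstance
    refine ⟨ξ, G.toFunctor.mapIso e₁ ≪≫ e₂, ?_⟩
    change 𝒵.p.IsHomLift (𝟙 (𝒵.p.obj ζ)) (G.toFunctor.map e₁.hom ≫ e₂.hom)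
    infer_instance
  choose ξ e he using key
  have i1 : (BasedFunctor.comp F G).toFunctor.Full :=
    inferInstanceAs (F.toFunctor ⋙ G.toFunctor).Full
  have i2 : (BasedFunctor.comp F G).toFunctor.Faithful :=
    inferInstanceAs (F.toFunctor ⋙ G.toFunctor).Faithful
  exact isEquivOver_of_liftData ⟨ξ, e, he⟩

theorem isRepresentable_of_isEquivOver {𝒳 𝒴 : BasedCategory.{v₂, u₂} C} (F : 𝒳 ⥤ᵇ 𝒴)
    (hF : FibCat.IsEquivOver F) (h : FibCat.IsRepresentable 𝒴) : FibCat.IsRepresentable 𝒳 := by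
  obtain ⟨U, E, hE⟩ := h
  exact ⟨U, BasedFunctor.comp F E, isEquivOver_comp F E hF hE⟩

theorem isRepresentable_iff_of_isEquivOver {𝒳 𝒴 : BasedCategory.{v₂, u₂} C} (F : 𝒳 ⥤ᵇ 𝒴)
    (hF : FibCat.IsEquivOver F) : FibCat.IsRepresentable 𝒳 ↔ FibCat.IsRepresentable 𝒴 := by
  constructor
  · intro h
    obtain ⟨G, hG⟩ := exists_inverse_isEquivOver F hF
    exact isRepresentable_of_isEquivOver G hG h
  · exact isRepresentable_of_isEquivOver F hF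

end Groth.Agent.Lib.Helper24.FibCatEquiv
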