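import Groth.Agent.Lib.Helper24.FibCatFpGen
import Groth.Agent.Lib.Helper24.FibCatDiag
import Groth.Agent.Lib.Helper24.FibCatEquiv3
set_option autoImplicit false
set_option linter.unusedSectionVars false
open CategoryTheory
universe u v u₂ v₂ u₃ v₃ u₄ v₄ u₅ v₅
set_option backward.isDefEq.respectTransparency false
set_option backward.isDefEq.respectTransparency.types false

/-! The relative magic square: `𝒜 ×_𝒳 ℬ ≃ (𝒜 ×_𝒴 ℬ) ×_{𝒳 ×_𝒴 𝒳} 𝒳`. -/

namespace Groth.Agent.Lib.Helper24.FibCatMagic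
open Groth.Agent.Lib.Helper24.FibCatFpGen Groth.Agent.Lib.Helper24.FibCatEquiv
open Groth.Agent.Lib.Helper24.FibCatDiag

variable {C : Type u} [Category.{v} C]
variable {𝒜 : BasedCategory.{v₂, u₂} C} {ℬ : BasedCategory.{v₃, u₃} C}
  {𝒳 : BasedCategory.{v₄, u₄} C} {𝒴 : BasedCategory.{v₅, u₅} C}
  (a : 𝒜 ⥤ᵇ 𝒳) (b : ℬ ⥤ᵇ 𝒳) (j : 𝒳 ⥤ᵇ 𝒴)

/-- `𝒜 ×_𝒴 ℬ ⟶ 𝒳 ×_𝒴 𝒳` -/
def M : FibCat.fp (BasedFunctor.comp a j) (BasedFunctor.comp b j) ⥤ᵇ FibCat.fp j j where
  toFunctor :=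
    { obj := fun m => mkObj (F := j) (G := j) (a.toFunctor.obj m.obj.fst) (b.toFunctor.obj m.obj.snd)
        m.obj.iso (by
          have h := iso_isHomLift _ _ m
          rw [a.w_obj]
          exact h)
      map := fun {m m'} φ => mkHom (F := j) (G := j) (a.toFunctor.map φ.hom.fst)
        (b.toFunctor.map φ.hom.snd) (hom_w φ)
      map_id := fun m => by
        apply hom_ext'
        · exact a.toFunctor.map_id _
        · exact b.toFunctor.map_id _
      map_comp := fun φ ψ => by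
        apply hom_ext'
        · exact a.toFunctor.map_comp _ _
        · exact b.toFunctor.map_comp _ _ }
  w := by
    refine CategoryTheory.Functor.ext (fun m => a.w_obj m.obj.fst) (fun m m' φ => ?_)
    exact Functor.congr_hom a.w φ.hom.fst

/-- `𝒜 ×_𝒳 ℬ ⟶ 𝒜 ×_𝒴 ℬ` -/
def N : FibCat.fp a b ⥤ᵇ FibCat.fp (BasedFunctor.comp a j) (BasedFunctor.comp b j) where
  toFunctor :=
    { obj := fun z => mkObj (F := BasedFunctor.comp a j) (G := BasedFunctor.comp b j) z.obj.fst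
        z.obj.snd (j.toFunctor.mapIso z.obj.iso) (by
          have h := iso_isHomLift _ _ z
          rw [← a.w_obj] at h ⊢
          change 𝒴.p.IsHomLift (𝟙 _) (j.toFunctor.map z.obj.iso.hom)
          infer_instance)
      map := fun {z z'} φ => mkHom (F := BasedFunctor.comp a j) (G := BasedFunctor.comp b j)
        φ.hom.fst φ.hom.snd (by
          change j.toFunctor.map (a.toFunctor.map φ.hom.fst) ≫ j.toFunctor.map z'.obj.iso.hom =
            j.toFunctor.map z.obj.iso.hom ≫ j.toFunctor.map (b.toFunctor.map φ.hom.snd)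
          rw [← Functor.map_comp, ← Functor.map_comp, hom_w φ])
      map_id := fun z => by apply hom_ext' <;> rfl
      map_comp := fun φ ψ => by apply hom_ext' <;> rfl }
  w := rfl


lemma M_obj_iso (m : (FibCat.fp (BasedFunctor.comp a j) (BasedFunctor.comp b j)).obj) :
    ((M a b j).toFunctor.obj m).obj.iso = m.obj.iso := rfl
lemma N_obj_iso (z : (FibCat.fp a b).obj) :
    ((N a b j).toFunctor.obj z).obj.iso = j.toFunctor.mapIso z.obj.iso := rfl

/-- component of the 2-isomorphism filling the magic square -/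
def eApp (z : (FibCat.fp a b).obj) :
    (M a b j).toFunctor.obj ((N a b j).toFunctor.obj z) ≅
      (FibCat.diag j).toFunctor.obj (b.toFunctor.obj z.obj.snd) :=
  mkIso (F := j) (G := j) (x := (M a b j).toFunctor.obj ((N a b j).toFunctor.obj z))
    (y := (FibCat.diag j).toFunctor.obj (b.toFunctor.obj z.obj.snd)) z.obj.iso (Iso.refl _) (by
      change j.toFunctor.map z.obj.iso.hom ≫ 𝟙 _ = j.toFunctor.map z.obj.iso.hom ≫ j.toFunctor.map (𝟙 _)
      rw [j.toFunctor.map_id])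

/-- the 2-isomorphism filling the magic square -/
def e : BasedFunctor.comp (N a b j) (M a b j) ≅
    BasedFunctor.comp (BasedFunctor.comp (FibCat.fpSnd a b) b) (FibCat.diag j) :=
  BasedNatIso.mkNatIso
    (NatIso.ofComponents (fun z => eApp a b j z) (fun {z z'} φ => by
      apply hom_ext'
      · exact hom_w φ
      · change b.toFunctor.map φ.hom.snd ≫ 𝟙 _ = 𝟙 _ ≫ b.toFunctor.map φ.hom.snd
        rw [Category.comp_id, Category.id_comp]))
    (fun z => by
      rw [isHomLift_iff_fst]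
      change 𝒳.p.IsHomLift (𝟙 (𝒜.p.obj z.obj.fst)) z.obj.iso.hom
      exact iso_isHomLift a b z)

/-- the comparison functor `𝒜 ×_𝒳 ℬ ⟶ (𝒜 ×_𝒴 ℬ) ×_{𝒳 ×_𝒴 𝒳} 𝒳` -/
def Ψ : FibCat.fp a b ⥤ᵇ FibCat.fp (M a b j) (FibCat.diag j) :=
  FibCat.fpLift (N a b j) (BasedFunctor.comp (FibCat.fpSnd a b) b) (e a b j)

lemma Ψ_fst : BasedFunctor.comp (Ψ a b j) (FibCat.fpFst _ _) = N a b j := rfl


instance : (Ψ a b j).toFunctor.Faithful := by
  constructor
  intro z z' φ ψ h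
  have h1 := congrArg (fun t => t.hom.fst.hom.fst) h
  have h2 := congrArg (fun t => t.hom.fst.hom.snd) h
  exact hom_ext' h1 h2

instance : (Ψ a b j).toFunctor.Full := by
  constructor
  intro z z' n
  -- components of n
  have hw := hom_w n
  have hw1 := congrArg (fun t => t.hom.fst) hw
  have hw2 := congrArg (fun t => t.hom.snd) hw
  change a.toFunctor.map n.hom.fst.hom.fst ≫ z'.obj.iso.hom = z.obj.iso.hom ≫ n.hom.snd at hw1
  change b.toFunctor.map n.hom.fst.hom.snd ≫ 𝟙 _ = 𝟙 _ ≫ n.hom.snd at hw2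
  rw [Category.comp_id, Category.id_comp] at hw2
  refine ⟨mkHom n.hom.fst.hom.fst n.hom.fst.hom.snd (by rw [hw1, hw2]), ?_⟩
  apply hom_ext'
  · apply hom_ext' <;> rfl
  · exact hw2

/-- essential surjectivity data -/
noncomputable def liftDataΨ : LiftData (Ψ a b j) := by
  have key : ∀ t : (FibCat.fp (M a b j) (FibCat.diag j)).obj,
      ∃ (z : (FibCat.fp a b).obj) (ε : (Ψ a b j).toFunctor.obj z ≅ t),
        (FibCat.fp (M a b j) (FibCat.diag j)).p.IsHomLift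
          (𝟙 ((FibCat.fp (M a b j) (FibCat.diag j)).p.obj t)) ε.hom := by
    intro t
    -- unpack t
    obtain ⟨m, hm⟩ : ∃ m, m = t.obj.fst := ⟨_, rfl⟩
    obtain ⟨x, hx⟩ : ∃ x, x = t.obj.snd := ⟨_, rfl⟩
    obtain ⟨U, hU⟩ : ∃ U, U = 𝒜.p.obj t.obj.fst.obj.fst := ⟨_, rfl⟩
    -- θ₁ : a α ≅ x, θ₂ : b β ≅ x
    let θ : (M a b j).toFunctor.obj t.obj.fst ≅ (FibCat.diag j).toFunctor.obj t.obj.snd := t.obj.iso
    have hθ : (FibCat.fp j j).p.IsHomLift (𝟙 U) θ.hom := by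
      rw [hU]; exact iso_isHomLift (M a b j) (FibCat.diag j) t
    have hθ1 : 𝒳.p.IsHomLift (𝟙 U) θ.hom.hom.fst := isHomLift_fst (𝟙 U) θ.hom
    have hθ2 : 𝒳.p.IsHomLift (𝟙 U) θ.hom.hom.snd := isHomLift_snd (𝟙 U) θ.hom
    let θ₁ : a.toFunctor.obj t.obj.fst.obj.fst ≅ t.obj.snd :=
      ⟨θ.hom.hom.fst, θ.inv.hom.fst, congrArg (fun s => s.hom.fst) θ.hom_inv_id,
        congrArg (fun s => s.hom.fst) θ.inv_hom_id⟩
    let θ₂ : b.toFunctor.obj t.obj.fst.obj.snd ≅ t.obj.snd :=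
      ⟨θ.hom.hom.snd, θ.inv.hom.snd, congrArg (fun s => s.hom.snd) θ.hom_inv_id,
        congrArg (fun s => s.hom.snd) θ.inv_hom_id⟩
    have hwθ : j.toFunctor.map θ₁.hom = t.obj.fst.obj.iso.hom ≫ j.toFunctor.map θ₂.hom :=
      (Category.comp_id _).symm.trans (hom_w θ.hom)
    have hθ2inv : 𝒳.p.IsHomLift (𝟙 U) θ₂.inv := IsHomLift.lift_id_inv (p := 𝒳.p) U θ₂
    let ι : a.toFunctor.obj t.obj.fst.obj.fst ≅ b.toFunctor.obj t.obj.fst.obj.snd := θ₁ ≪≫ θ₂.symm
    have hι : 𝒳.p.IsHomLift (𝟙 (𝒜.p.obj t.obj.fst.obj.fst)) ι.hom := by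
      rw [← hU]
      change 𝒳.p.IsHomLift (𝟙 U) (θ₁.hom ≫ θ₂.inv)
      have h1 : 𝒳.p.IsHomLift (𝟙 U) θ₁.hom := hθ1
      infer_instance
    let z : (FibCat.fp a b).obj := mkObj (F := a) (G := b) t.obj.fst.obj.fst t.obj.fst.obj.snd ι hι
    -- iso on the first component: N z ≅ t.fst, identity components
    obtain ⟨κ, hκ⟩ : ∃ κ : j.toFunctor.obj (a.toFunctor.obj t.obj.fst.obj.fst) ⟶
        j.toFunctor.obj (b.toFunctor.obj t.obj.fst.obj.snd), κ = t.obj.fst.obj.iso.hom := ⟨_, rfl⟩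
    have hwθ' : j.toFunctor.map θ₁.hom = κ ≫ j.toFunctor.map θ₂.hom := by rw [hκ]; exact hwθ
    have h3 : j.toFunctor.map θ₂.hom ≫ j.toFunctor.map θ₂.inv = 𝟙 _ := by
      rw [← Functor.map_comp, Iso.hom_inv_id, Functor.map_id]
    have hjι : j.toFunctor.map ι.hom = κ := by
      change j.toFunctor.map (θ₁.hom ≫ θ₂.inv) = _
      rw [Functor.map_comp, hwθ', Category.assoc, h3, Category.comp_id]
    let ε₁ : (N a b j).toFunctor.obj z ≅ t.obj.fst :=
      mkIso (F := BasedFunctor.comp a j) (G := BasedFunctor.comp b j)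
        (x := (N a b j).toFunctor.obj z) (y := t.obj.fst) (Iso.refl _) (Iso.refl _) (by
          change j.toFunctor.map (a.toFunctor.map (𝟙 _)) ≫ t.obj.fst.obj.iso.hom =
            j.toFunctor.map ι.hom ≫ j.toFunctor.map (b.toFunctor.map (𝟙 _))
          rw [a.toFunctor.map_id, b.toFunctor.map_id, j.toFunctor.map_id, j.toFunctor.map_id, hjι,
            ← hκ]
          exact (Category.id_comp _).trans (Category.comp_id _).symm)
    refine ⟨z, mkIso (F := M a b j) (G := FibCat.diag j) (x := (Ψ a b j).toFunctor.obj z) (y := t)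
      ε₁ θ₂ ?_, ?_⟩
    · apply hom_ext'
      · change a.toFunctor.map (𝟙 _) ≫ θ₁.hom = ι.hom ≫ θ₂.hom
        rw [a.toFunctor.map_id, Category.id_comp]
        change θ₁.hom = (θ₁.hom ≫ θ₂.inv) ≫ θ₂.hom
        rw [Category.assoc, Iso.inv_hom_id, Category.comp_id]
      · change b.toFunctor.map (𝟙 _) ≫ θ₂.hom = 𝟙 _ ≫ θ₂.hom
        rw [b.toFunctor.map_id]
    · rw [isHomLift_iff_fst, isHomLift_iff_fst]
      exact IsHomLift.id rfl
  choose ξ ε hε using key
  exact ⟨ξ, ε, hε⟩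

theorem isEquivOver_Ψ : FibCat.IsEquivOver (Ψ a b j) := isEquivOver_of_liftData (liftDataΨ a b j)

end Groth.Agent.Lib.Helper24.FibCatMagic
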