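import Groth.Agent.Lib.Helper24.FibCatFpMapL
import Groth.Agent.Lib.Helper24.FibCatMagic
set_option autoImplicit false
set_option linter.unusedSectionVars false
open CategoryTheory CategoryTheory.Limits
universe u v u₂ v₂ u₃ v₃ u₄ v₄ u₅ v₅
set_option backward.isDefEq.respectTransparency false
set_option backward.isDefEq.respectTransparency.types false

/-! The product map `a × b : 𝒜 ×_𝒴 ℬ ⟶ 𝒳 ×_𝒴 𝒳` factors into two single-leg changes. -/

namespace Groth.Agent.Lib.Helper24.FibCatMfactor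
open Groth.Agent.Lib.Helper24.FibCatFpGen Groth.Agent.Lib.Helper24.FibCatEquiv
open Groth.Agent.Lib.Helper24.FibCatDiag (mkIso)
open Groth.Agent.Lib.Helper24.FibCatFpMap Groth.Agent.Lib.Helper24.FibCatFpMapL
open Groth.Agent.Lib.Helper24.FibCatMagic

variable {C : Type u} [Category.{v} C]
variable {𝒜 : BasedCategory.{v₂, u₂} C} {ℬ : BasedCategory.{v₃, u₃} C}
  {𝒳 : BasedCategory.{v₄, u₄} C} {𝒴 : BasedCategory.{v₅, u₅} C}
  (a : 𝒜 ⥤ᵇ 𝒳) (b : ℬ ⥤ᵇ 𝒳) (j : 𝒳 ⥤ᵇ 𝒴)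

/-- component of the factorisation isomorphism -/
def MfactorApp (m : (FibCat.fp (BasedFunctor.comp a j) (BasedFunctor.comp b j)).obj) :
    (mapR b j j).toFunctor.obj ((mapL a j (BasedFunctor.comp b j)).toFunctor.obj m) ≅
      (M a b j).toFunctor.obj m :=
  mkIso (F := j) (G := j)
    (x := (mapR b j j).toFunctor.obj ((mapL a j (BasedFunctor.comp b j)).toFunctor.obj m))
    (y := (M a b j).toFunctor.obj m) (Iso.refl _) (Iso.refl _) (by
      rw [mapR_obj_iso_hom, mapL_obj_iso_hom]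
      change j.toFunctor.map (𝟙 _) ≫ m.obj.iso.hom =
        (𝟙 _ ≫ (𝟙 _ ≫ m.obj.iso.hom ≫ 𝟙 _) ≫ 𝟙 _) ≫ j.toFunctor.map (𝟙 _)
      simp only [Functor.map_id, Category.id_comp, Category.comp_id]
      exact (Category.comp_id _).symm)

/-- `a × b = (id × b) ∘ (a × id)` -/
def MfactorIso : BasedFunctor.comp (mapL a j (BasedFunctor.comp b j)) (mapR b j j) ≅ M a b j :=
  BasedNatIso.mkNatIso (NatIso.ofComponents (MfactorApp a b j) (by
    intro m m' φ
    apply hom_ext'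
    · change a.toFunctor.map φ.hom.fst ≫ 𝟙 _ = 𝟙 _ ≫ a.toFunctor.map φ.hom.fst
      simp
    · change b.toFunctor.map φ.hom.snd ≫ 𝟙 _ = 𝟙 _ ≫ b.toFunctor.map φ.hom.snd
      simp)) (by
    intro m
    rw [isHomLift_iff_fst]
    change 𝒳.p.IsHomLift (𝟙 _) (𝟙 (a.toFunctor.obj m.obj.fst))
    exact IsHomLift.id (a.w_obj m.obj.fst))

end Groth.Agent.Lib.Helper24.FibCatMfactor
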