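import Groth.Agent.Lib.Helper24.AlgStLC
import Groth.Agent.Lib.Helper24.FibCatMfactor
set_option autoImplicit false
open CategoryTheory AlgebraicGeometry Opposite
universe w₁ v₁ w₂ v₂ w₃ v₃ w₄ v₄ w₅ v₅ u
set_option backward.isDefEq.respectTransparency false
set_option backward.isDefEq.respectTransparency.types false

/-! Product maps `a × b : 𝒜 ×_𝒴 ℬ ⟶ 𝒳 ×_𝒴 𝒳` inherit properties stable under base change and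
composition. -/

namespace Groth.Agent.Lib.Helper24.AlgStProd
open Groth.Agent.Lib.Helper24.FibCatFpMap
open Groth.Agent.Lib.Helper24.FibCatEquiv Groth.Agent.Lib.Helper24.FibCatFpGen
open Groth.Agent.Lib.Helper24.AlgStRep
open Groth.Agent.Lib.Helper24.AlgStBridge Groth.Agent.Lib.Helper24.AlgStBoot
open Groth.Agent.Lib.Helper24.AlgStRepS
open Groth.Agent.Lib.Helper24.AlgStEqv Groth.Agent.Lib.Helper24.FibCatMagic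
open Groth.Agent.Lib.Helper24.AlgStDiagBC
open Groth.Agent.Lib.Helper24.AlgStSchLocal
open Groth.Agent.Lib.Helper24.AlgStGC Groth.Agent.Lib.Helper24.AlgStLC
open Groth.Agent.Lib.Helper24.FibCatFpMapL Groth.Agent.Lib.Helper24.FibCatMfactor
open CategoryTheory.Limits

variable {S : Scheme.{u}}

theorem repByAlgSpWith_mapL {𝒜 : BasedCategory.{v₁, w₁} (Over S)}
    {𝒳 : BasedCategory.{v₂, w₂} (Over S)} {𝒴 : BasedCategory.{v₃, w₃} (Over S)}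
    {ℬ : BasedCategory.{v₄, w₄} (Over S)} (Q : MorphismProperty (AlgSp.Sp S))
    (a : 𝒜 ⥤ᵇ 𝒳) (j : 𝒳 ⥤ᵇ 𝒴) (h : ℬ ⥤ᵇ 𝒴) (ha : AlgSt.RepByAlgSpWith Q a) :
    AlgSt.RepByAlgSpWith Q (mapL a j h) :=
  repByAlgSpWith_of_eqvOver Q
    (EqvOver.symm ⟨Groth.Agent.Lib.Helper24.FibCatFpPaste.P h j a,
      Groth.Agent.Lib.Helper24.FibCatFpPaste.isEquivOver_P, ⟨mapLIso a j h⟩⟩)
    (repByAlgSpWith_fpSnd Q a (FibCat.fpFst j h) ha)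

theorem repByAlgSpWith_mapR {ℬ : BasedCategory.{v₁, w₁} (Over S)}
    {𝒳 : BasedCategory.{v₂, w₂} (Over S)} {𝒴 : BasedCategory.{v₃, w₃} (Over S)}
    {𝒲 : BasedCategory.{v₄, w₄} (Over S)} (Q : MorphismProperty (AlgSp.Sp S))
    (b : ℬ ⥤ᵇ 𝒳) (j : 𝒳 ⥤ᵇ 𝒴) (h : 𝒲 ⥤ᵇ 𝒴) (hb : AlgSt.RepByAlgSpWith Q b) :
    AlgSt.RepByAlgSpWith Q (mapR b j h) :=
  repByAlgSpWith_of_eqvOver Q
    (EqvOver.symm ⟨Groth.Agent.Lib.Helper24.FibCatFpPaste.Q b j h,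
      Groth.Agent.Lib.Helper24.FibCatFpPaste.isEquivOver_Q, ⟨mapRIso b j h⟩⟩)
    (repByAlgSpWith_fpFst Q b (FibCat.fpSnd h j) hb)

/-- the product map -/
theorem repByAlgSpWith_M {𝒜 ℬ 𝒳 𝒴 : AlgSt.Cat S} (h𝒜 : FibCat.IsFibGrpd 𝒜.p)
    (hℬ : FibCat.IsFibGrpd ℬ.p) (h𝒳 : FibCat.IsFibGrpd 𝒳.p) (h𝒴 : FibCat.IsFibGrpd 𝒴.p)
    (Q : MorphismProperty (AlgSp.Sp S)) (hQ : Nice Q) (hQc : StableComp Q)
    (a : 𝒜 ⥤ᵇ 𝒳) (b : ℬ ⥤ᵇ 𝒳) (j : 𝒳 ⥤ᵇ 𝒴) (ha : AlgSt.RepByAlgSpWith Q a)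
    (hb : AlgSt.RepByAlgSpWith Q b) : AlgSt.RepByAlgSpWith Q (M a b j) :=
  repByAlgSpWith_of_iso Q (MfactorIso a b j)
    (repByAlgSpWith_comp (isFibGrpd_fp _ _ h𝒜 hℬ h𝒴) (isFibGrpd_fp _ _ h𝒳 hℬ h𝒴)
      (isFibGrpd_fp _ _ h𝒳 h𝒳 h𝒴) Q hQ hQc _ _
      (repByAlgSpWith_mapL Q a j (BasedFunctor.comp b j) ha) (repByAlgSpWith_mapR Q b j j hb))

end Groth.Agent.Lib.Helper24.AlgStProd
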