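import Groth.Agent.Lib.Helper24.FibCatProdMap
import Groth.Agent.Lib.Helper24.AlgStProd
set_option autoImplicit false
open CategoryTheory AlgebraicGeometry Opposite
universe w₁ v₁ w₂ v₂ w₃ v₃ w₄ v₄ w₅ v₅ u
set_option backward.isDefEq.respectTransparency false
set_option backward.isDefEq.respectTransparency.types false

/-! Product maps `f₁ × f₂ : 𝒳₁ × 𝒳₂ ⟶ 𝒴₁ × 𝒴₂` (products over the base) inherit properties stable
under base change and composition. -/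

namespace Groth.Agent.Lib.Helper24.AlgStProdMap
open Groth.Agent.Lib.Helper24.FibCatFpMap
open Groth.Agent.Lib.Helper24.FibCatEquiv Groth.Agent.Lib.Helper24.FibCatFpGen
open Groth.Agent.Lib.Helper24.AlgStRep
open Groth.Agent.Lib.Helper24.AlgStBridge Groth.Agent.Lib.Helper24.AlgStBoot
open Groth.Agent.Lib.Helper24.AlgStRepS
open Groth.Agent.Lib.Helper24.AlgStEqv Groth.Agent.Lib.Helper24.FibCatMagic
open Groth.Agent.Lib.Helper24.AlgStDiagBC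
open Groth.Agent.Lib.Helper24.AlgStSchLocal
open Groth.Agent.Lib.Helper24.AlgStGC Groth.Agent.Lib.Helper24.AlgStLC
open Groth.Agent.Lib.Helper24.FibCatGraph
open Groth.Agent.Lib.Helper24.FibCatProdMap
open CategoryTheory.Limits

variable {S : Scheme.{u}}

/-- a functor to the category of an algebraic space which is representable with `P`, tested on
algebraic spaces, is itself represented by a morphism with `P` -/
theorem hasP_of_repS {𝒜 : BasedCategory.{v₁, w₁} (Over S)} {G : AlgSp.Space S}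
    (P : MorphismProperty (AlgSp.Sp S)) (π : 𝒜 ⥤ᵇ AlgSt.ofSp G.obj) (h : RepS P π) : HasP P π := by
  have h1 : HasP P (FibCat.fpFst (BasedFunctor.id (AlgSt.ofSp G.obj)) π) := h G (BasedFunctor.id _)
  have e1 : EqvOver (FibCat.fpFst (BasedFunctor.id (AlgSt.ofSp G.obj)) π)
      (FibCat.fpSnd π (BasedFunctor.id (AlgSt.ofSp G.obj))) := eqvOver_swap _ _
  have e2 : EqvOver π (FibCat.fpSnd π (BasedFunctor.id (AlgSt.ofSp G.obj))) :=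
    ⟨graphEquiv π, isEquivOver_graphEquiv π, ⟨Iso.refl _⟩⟩
  exact HasP.of_eqvOver (e1.trans e2.symm) h1

theorem hasP_of_repByAlgSpWith {𝒜 : AlgSt.Cat S} (h𝒜 : FibCat.IsFibGrpd 𝒜.p) {G : AlgSp.Space S}
    (P : MorphismProperty (AlgSp.Sp S)) (hP : Nice P) (π : 𝒜 ⥤ᵇ AlgSt.ofSp G.obj)
    (h : AlgSt.RepByAlgSpWith P π) : HasP P π :=
  hasP_of_repS P π (repS_of_repByAlgSpWith' h𝒜 (Stk.isFibGrpd_ofPsh _) P hP π h)

/-- the product map -/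
theorem repByAlgSpWith_prodMap {𝒳₁ 𝒳₂ 𝒴₁ 𝒴₂ : AlgSt.Cat S}
    (h𝒳₁ : FibCat.IsFibGrpd 𝒳₁.p) (h𝒳₂ : FibCat.IsFibGrpd 𝒳₂.p) (h𝒴₁ : FibCat.IsFibGrpd 𝒴₁.p)
    (h𝒴₂ : FibCat.IsFibGrpd 𝒴₂.p) (P : MorphismProperty (AlgSp.Sp S)) (hP : Nice P)
    (hPc : StableComp P) (f₁ : 𝒳₁ ⥤ᵇ 𝒴₁) (f₂ : 𝒳₂ ⥤ᵇ 𝒴₂) (hf₁ : AlgSt.RepByAlgSpWith P f₁)
    (hf₂ : AlgSt.RepByAlgSpWith P f₂)
    (e : BasedFunctor.comp (BasedFunctor.comp (FibCat.fpFst (FibCat.toSelf 𝒳₁) (FibCat.toSelf 𝒳₂)) f₁) (FibCat.toSelf 𝒴₁) ≅ BasedFunctor.comp (BasedFunctor.comp (FibCat.fpSnd (FibCat.toSelf 𝒳₁) (FibCat.toSelf 𝒳₂)) f₂) (FibCat.toSelf 𝒴₂)) :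
    AlgSt.RepByAlgSpWith P (FF f₁ f₂ e) := by
  rw [repByAlgSpWith_iff_hasP]
  intro U y
  obtain ⟨G, hG⟩ : ∃ G : AlgSt.ofSch U ⥤ᵇ FibCatFp.P 𝒴₁ 𝒴₂,
    G = BasedFunctor.comp (AlgSt.toOverCat U) y := ⟨_, rfl⟩
  rw [← hG]
  have hU : FibCat.IsFibGrpd (AlgSt.ofSch U).p := Stk.isFibGrpd_ofPsh _
  have hW : FibCat.IsFibGrpd (W f₁ G).p := isFibGrpd_fp _ _ hU h𝒳₁ h𝒴₁
  have hR : FibCat.IsFibGrpd (R' f₁ f₂ G).p := isFibGrpd_fp _ _ hW h𝒳₂ h𝒴₂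
  have h1 : AlgSt.RepByAlgSpWith P (aW f₁ G) := repByAlgSpWith_fpFst P f₁ (G₁ G) hf₁
  have h2 : AlgSt.RepByAlgSpWith P (FibCat.fpFst (BasedFunctor.comp (aW f₁ G) (G₂ G)) f₂) :=
    repByAlgSpWith_fpFst P f₂ _ hf₂
  have h3 := repByAlgSpWith_comp hR hW hU P hP hPc _ _ h2 h1
  have h5 := hasP_of_repByAlgSpWith hR (G := ⟨(AlgSp.yon S).obj U, AlgSp.IsAlgSpace.yon_obj U⟩)
    P hP _ h3
  exact HasP.of_eqvOver (EqvOver.symm ⟨Ψ f₁ f₂ e G, isEquivOver_Ψ f₁ f₂ e G, ⟨ΨIso f₁ f₂ e G⟩⟩) h5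

end Groth.Agent.Lib.Helper24.AlgStProdMap
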