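import Groth.Agent.Lib.Helper24.AlgStProps4
set_option autoImplicit false
open CategoryTheory AlgebraicGeometry Opposite
universe u
set_option backward.isDefEq.respectTransparency false
set_option backward.isDefEq.respectTransparency.types false

/-! Isomorphisms have the standard properties, continued. -/

namespace Groth.Agent.Lib.Helper24.AlgStProps
open Groth.Agent.Lib.Helper24.AlgStRepS Groth.Agent.Lib.Helper14.AS
open CategoryTheory.Limits AlgSp

variable {S : Scheme.{u}}

theorem hasIsos_unramified :
    HasIsos (LocP (@LocallyOfFiniteType ⊓ @FormallyUnramified) (S := S)) :=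
  hasIsos_locP (fun _ _ _ h => ⟨etale_le_lft _ _ _ h, etale_le_formallyUnramified _ _ _ h⟩)

theorem hasIsos_lqf :
    HasIsos (LocP (@LocallyQuasiFinite ⊓ @LocallyOfFiniteType) (S := S)) :=
  hasIsos_locP (fun _ _ f h => ⟨by have : Etale f := h; exact etale_locallyQuasiFinite f,
    etale_le_lft _ _ _ h⟩)

theorem hasIsos_lft : HasIsos (LocP @LocallyOfFiniteType (S := S)) :=
  hasIsos_locP etale_le_lft

theorem hasIsos_isFiniteTypeMor : HasIsos (IsFiniteTypeMor (S := S)) :=
  hasIsos_and hasIsos_lft hasIsos_isQuasiCompactMor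

theorem hasIsos_isProperMor : HasIsos (IsProperMor (S := S)) :=
  hasIsos_and hasIsos_isSeparatedMor (hasIsos_and hasIsos_isFiniteTypeMor hasIsos_isUnivClosedMor)

theorem hasIsos_qcqs : HasIsos (IsQuasiCompactMor ⊓ IsQuasiSeparatedMor : MorphismProperty (Sp S)) :=
  hasIsos_inf hasIsos_isQuasiCompactMor hasIsos_isQuasiSeparatedMor

end Groth.Agent.Lib.Helper24.AlgStProps
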