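import Groth.Agent.Lib.Helper24.AlgStProps
import Groth.Agent.Lib.Helper24.AlgStProps3
import Groth.Agent.Lib.Helper24.AlgStProps5
import Groth.Agent.Lib.Helper14.AlgSpLocP3
set_option autoImplicit false
open CategoryTheory AlgebraicGeometry Opposite
universe u
set_option backward.isDefEq.respectTransparency false
set_option backward.isDefEq.respectTransparency.types false

/-! Smooth morphisms of algebraic spaces are a Good property (uses lead's SrcLocal @Smooth via
helper14's etLocal_smooth). -/

namespace Groth.Agent.Lib.Helper24.AlgStSmooth
open Groth.Agent.Lib.Helper24.AlgStRepS Groth.Agent.Lib.Helper14.AS Groth.Agent.Lib.Helper24.AlgStProps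
open CategoryTheory.Limits AlgSp

variable {S : Scheme.{u}}

theorem good_smooth : Good (LocP @Smooth (S := S)) := good_locP etLocal_smooth

theorem stableComp_smooth : StableComp (LocP @Smooth (S := S)) := stableComp_locP etLocal_smooth

theorem hasIsos_smooth : HasIsos (LocP @Smooth (S := S)) := hasIsos_locP etale_le_smooth

theorem hasIsos_etale : HasIsos (LocP @Etale (S := S)) := hasIsos_locP le_rfl

theorem stableComp_locP_etale : StableComp (LocP @Etale (S := S)) := stableComp_locP etLocal_etale

theorem hasIsos_flat : HasIsos (LocP @Flat (S := S)) := hasIsos_locP etale_le_flat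

theorem stableComp_flat : StableComp (LocP @Flat (S := S)) := stableComp_locP etLocal_flat

theorem stableComp_lfp : StableComp (LocP @LocallyOfFinitePresentation (S := S)) :=
  stableComp_locP etLocal_lfp

end Groth.Agent.Lib.Helper24.AlgStSmooth
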