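import Groth.Prelude.Def_FibCat2
import Mathlib.CategoryTheory.Groupoid
set_option autoImplicit false
universe u v u₂ v₂
open CategoryTheory

namespace Groth.Agent.Lib.Helper24.FibGrpd

section
variable {C : Type u} [Category.{v} C] {S : Type u₂} [Category.{v₂} S] (p : S ⥤ C)

lemma isStronglyCartesian_iff_map {R T : C} {a b : S} (f : R ⟶ T)
    (φ : a ⟶ b) [p.IsHomLift f φ] : p.IsStronglyCartesian f φ ↔ p.IsStronglyCartesian (p.map φ) φ := by
  obtain rfl := IsHomLift.domain_eq p f φ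
  obtain rfl := IsHomLift.codomain_eq p f φ
  have : f = p.map φ := by simpa using IsHomLift.fac p f φ
  subst this
  rfl

lemma isFibered_of_isFibGrpd (h : FibCat.IsFibGrpd p) : p.IsFibered := by
  apply Functor.IsFibered.of_exists_isStronglyCartesian
  intro a R f
  obtain ⟨b, φ, hφ⟩ := h.exists_lift f
  refine ⟨b, φ, ?_⟩
  rw [isStronglyCartesian_iff_map]
  exact h.isStronglyCartesian φ

lemma isIso_of_isFibGrpd (h : FibCat.IsFibGrpd p) {R T : C} (f : R ⟶ T) [IsIso f] {a b : S}
    (φ : a ⟶ b) [p.IsHomLift f φ] : IsIso φ := by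
  have : p.IsStronglyCartesian f φ := by
    rw [isStronglyCartesian_iff_map]
    exact h.isStronglyCartesian φ
  exact Functor.IsStronglyCartesian.isIso_of_base_isIso p f φ

lemma isGroupoid_fiber_of_isFibGrpd (h : FibCat.IsFibGrpd p) (U : C) : IsGroupoid (p.Fiber U) := by
  constructor
  intro X Y φ
  have hl : p.IsHomLift (𝟙 U) φ.1 := φ.2
  have hiso : IsIso φ.1 := isIso_of_isFibGrpd p h (𝟙 U) φ.1
  have hl' : p.IsHomLift (𝟙 U) (inv φ.1) := inferInstance
  refine ⟨⟨⟨inv φ.1, hl'⟩, ?_, ?_⟩⟩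
  · apply Functor.Fiber.hom_ext
    exact IsIso.hom_inv_id φ.1
  · apply Functor.Fiber.hom_ext
    exact IsIso.inv_hom_id φ.1

lemma isFibGrpd_of_isFibered (h1 : p.IsFibered) (h2 : ∀ U : C, IsGroupoid (p.Fiber U)) :
    FibCat.IsFibGrpd p := by
  constructor
  · intro x V f
    obtain ⟨y, φ, hφ⟩ := Functor.IsPreFibered.exists_isCartesian' (p := p) f
    exact ⟨y, φ, inferInstance⟩
  · intro y x φ
    -- cartesian lift of p.map φ
    obtain ⟨y', ψ, hψ⟩ := Functor.IsPreFibered.exists_isCartesian' (p := p) (p.map φ)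
    have hψs : p.IsStronglyCartesian (p.map φ) ψ := inferInstance
    set χ : y ⟶ y' := Functor.IsCartesian.map p (p.map φ) ψ φ with hχ
    have hfac : χ ≫ ψ = φ := Functor.IsCartesian.fac p (p.map φ) ψ φ
    have hχl : p.IsHomLift (𝟙 (p.obj y)) χ := inferInstance
    -- χ is an isomorphism since the fibre is a groupoid
    have hy' : p.obj y' = p.obj y := IsHomLift.domain_eq p (p.map φ) ψ
    let χ' : (Functor.Fiber.mk (p := p) (S := p.obj y) (a := y) rfl) ⟶ Functor.Fiber.mk hy' := ⟨χ, hχl⟩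
    have hχ'iso : IsIso χ' := (h2 (p.obj y)).all_isIso χ'
    have hχiso : IsIso χ := by
      have := Functor.map_isIso (Functor.Fiber.fiberInclusion (p := p) (S := p.obj y)) χ'
      exact this
    have h3 : p.IsStronglyCartesian (𝟙 (p.obj y)) χ := inferInstance
    have h4 : p.IsStronglyCartesian (𝟙 (p.obj y) ≫ p.map φ) (χ ≫ ψ) := inferInstance
    rw [hfac, Category.id_comp] at h4
    exact h4
end


end Groth.Agent.Lib.Helper24.FibGrpd
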