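import Groth.Prelude.Def_FibCat2
import Groth.Agent.Lib.Helper24.FibGrpd
set_option autoImplicit false
set_option linter.unusedSectionVars false
open CategoryTheory CategoryTheory.Limits
universe u v u₂ v₂ u₃ v₃ u₄ v₄

namespace Groth.Agent.Lib.Helper24.FibCatFpGen

variable {C : Type u} [Category.{v} C]
variable {𝒳 : BasedCategory.{v₂, u₂} C} {𝒴 : BasedCategory.{v₃, u₃} C}
  {𝒮 : BasedCategory.{v₄, u₄} C} (F : 𝒳 ⥤ᵇ 𝒮) (G : 𝒴 ⥤ᵇ 𝒮)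

lemma iso_isHomLift (x : (FibCat.fp F G).obj) :
    𝒮.p.IsHomLift (𝟙 (𝒳.p.obj x.obj.fst)) x.obj.iso.hom := x.property

lemma p_eq (x : (FibCat.fp F G).obj) : 𝒳.p.obj x.obj.fst = 𝒴.p.obj x.obj.snd := by
  have hx := iso_isHomLift F G x
  have h2 := IsHomLift.codomain_eq 𝒮.p (𝟙 (𝒳.p.obj x.obj.fst)) x.obj.iso.hom
  rw [← h2]
  exact G.w_obj x.obj.snd

lemma iso_isHomLift' (x : (FibCat.fp F G).obj) :
    𝒮.p.IsHomLift (𝟙 (𝒴.p.obj x.obj.snd)) x.obj.iso.hom := by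
  rw [← p_eq F G x]; exact iso_isHomLift F G x

lemma iso_inv_isHomLift (x : (FibCat.fp F G).obj) :
    𝒮.p.IsHomLift (𝟙 (𝒳.p.obj x.obj.fst)) x.obj.iso.inv := by
  have := iso_isHomLift F G x
  infer_instance

variable {F G}

/-- constructor for morphisms of the fibre product -/
def mkHom {x y : (FibCat.fp F G).obj} (a : x.obj.fst ⟶ y.obj.fst) (b : x.obj.snd ⟶ y.obj.snd)
    (w : F.toFunctor.map a ≫ y.obj.iso.hom = x.obj.iso.hom ≫ G.toFunctor.map b) : x ⟶ y :=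
  ObjectProperty.homMk ⟨a, b, w⟩

@[simp] lemma mkHom_fst {x y : (FibCat.fp F G).obj} (a : x.obj.fst ⟶ y.obj.fst)
    (b : x.obj.snd ⟶ y.obj.snd)
    (w : F.toFunctor.map a ≫ y.obj.iso.hom = x.obj.iso.hom ≫ G.toFunctor.map b) :
    (mkHom a b w).hom.fst = a := rfl

@[simp] lemma mkHom_snd {x y : (FibCat.fp F G).obj} (a : x.obj.fst ⟶ y.obj.fst)
    (b : x.obj.snd ⟶ y.obj.snd)
    (w : F.toFunctor.map a ≫ y.obj.iso.hom = x.obj.iso.hom ≫ G.toFunctor.map b) :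
    (mkHom a b w).hom.snd = b := rfl

/-- objects of the fibre product -/
abbrev mkObj (a : 𝒳.obj) (b : 𝒴.obj) (α : F.toFunctor.obj a ≅ G.toFunctor.obj b)
    (hα : 𝒮.p.IsHomLift (𝟙 (𝒳.p.obj a)) α.hom) : (FibCat.fp F G).obj :=
  ⟨⟨a, b, α⟩, hα⟩

lemma hom_w {x y : (FibCat.fp F G).obj} (φ : x ⟶ y) :
    F.toFunctor.map φ.hom.fst ≫ y.obj.iso.hom = x.obj.iso.hom ≫ G.toFunctor.map φ.hom.snd :=
  φ.hom.w

lemma hom_ext' {x y : (FibCat.fp F G).obj} {φ ψ : x ⟶ y} (h1 : φ.hom.fst = ψ.hom.fst)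
    (h2 : φ.hom.snd = ψ.hom.snd) : φ = ψ :=
  ObjectProperty.hom_ext _ (CategoricalPullback.hom_ext h1 h2)

lemma comp_fst {x y z : (FibCat.fp F G).obj} (φ : x ⟶ y) (ψ : y ⟶ z) :
    (φ ≫ ψ).hom.fst = φ.hom.fst ≫ ψ.hom.fst := rfl

lemma comp_snd {x y z : (FibCat.fp F G).obj} (φ : x ⟶ y) (ψ : y ⟶ z) :
    (φ ≫ ψ).hom.snd = φ.hom.snd ≫ ψ.hom.snd := rfl

lemma isHomLift_iff_fst {x y : (FibCat.fp F G).obj} {R S : C} (f : R ⟶ S) (φ : x ⟶ y) :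
    (FibCat.fp F G).p.IsHomLift f φ ↔ 𝒳.p.IsHomLift f φ.hom.fst := by
  constructor
  · intro h
    exact IsHomLift.of_fac 𝒳.p f φ.hom.fst (IsHomLift.domain_eq (FibCat.fp F G).p f φ)
      (IsHomLift.codomain_eq (FibCat.fp F G).p f φ) (IsHomLift.fac (FibCat.fp F G).p f φ)
  · intro h
    have h1 := IsHomLift.domain_eq 𝒳.p f φ.hom.fst
    have h2 := IsHomLift.codomain_eq 𝒳.p f φ.hom.fst
    have h3 := IsHomLift.fac 𝒳.p f φ.hom.fst
    exact IsHomLift.of_fac (FibCat.fp F G).p f φ h1 h2 h3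

lemma isHomLift_fst {x y : (FibCat.fp F G).obj} {R S : C} (f : R ⟶ S) (φ : x ⟶ y)
    [h : (FibCat.fp F G).p.IsHomLift f φ] : 𝒳.p.IsHomLift f φ.hom.fst :=
  (isHomLift_iff_fst f φ).mp h

lemma isHomLift_snd {x y : (FibCat.fp F G).obj} {R S : C} (f : R ⟶ S) (φ : x ⟶ y)
    [h : (FibCat.fp F G).p.IsHomLift f φ] : 𝒴.p.IsHomLift f φ.hom.snd := by
  have h0 : 𝒴.p.IsHomLift ((FibCat.fp F G).p.map φ) φ.hom.snd := FibCat.fp_isHomLift_snd F G φ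
  have hfac := IsHomLift.fac (FibCat.fp F G).p f φ
  rw [hfac]
  infer_instance

/-- a morphism of the fibre product is strongly cartesian as soon as its components are and the
image of the second component is -/
theorem isStronglyCartesian_of_components {x y : (FibCat.fp F G).obj} {R S : C} (f : R ⟶ S)
    (φ : x ⟶ y) (h1 : 𝒳.p.IsStronglyCartesian f φ.hom.fst)
    (h2 : 𝒴.p.IsStronglyCartesian f φ.hom.snd)
    (h3 : 𝒮.p.IsStronglyCartesian f (G.toFunctor.map φ.hom.snd)) :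
    (FibCat.fp F G).p.IsStronglyCartesian f φ := by
  have hl : (FibCat.fp F G).p.IsHomLift f φ := (isHomLift_iff_fst f φ).mpr inferInstance
  refine { toIsHomLift := hl, universal_property' := ?_ }
  intro z g ψ hψ
  have hψ1 : 𝒳.p.IsHomLift (g ≫ f) ψ.hom.fst := isHomLift_fst (g ≫ f) ψ
  have hψ2 : 𝒴.p.IsHomLift (g ≫ f) ψ.hom.snd := isHomLift_snd (g ≫ f) ψ
  obtain ⟨χ₁, ⟨hχ₁l, hχ₁⟩, hu₁⟩ :=
    Functor.IsStronglyCartesian.universal_property 𝒳.p f φ.hom.fst g (g ≫ f) rfl ψ.hom.fst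
  obtain ⟨χ₂, ⟨hχ₂l, hχ₂⟩, hu₂⟩ :=
    Functor.IsStronglyCartesian.universal_property 𝒴.p f φ.hom.snd g (g ≫ f) rfl ψ.hom.snd
  -- compatibility
  have hz := iso_isHomLift F G z
  have hx := iso_isHomLift F G x
  have hRx : 𝒳.p.obj x.obj.fst = R := IsHomLift.domain_eq 𝒳.p f φ.hom.fst
  have hx' : 𝒮.p.IsHomLift (𝟙 R) x.obj.iso.hom := by rw [← hRx]; exact hx
  have hw : F.toFunctor.map χ₁ ≫ x.obj.iso.hom = z.obj.iso.hom ≫ G.toFunctor.map χ₂ := by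
    have hA : 𝒮.p.IsHomLift g (F.toFunctor.map χ₁ ≫ x.obj.iso.hom) :=
      IsHomLift.comp_lift_id_right' (p := 𝒮.p) g (F.toFunctor.map χ₁) R x.obj.iso.hom
    have hB : 𝒮.p.IsHomLift g (z.obj.iso.hom ≫ G.toFunctor.map χ₂) :=
      IsHomLift.comp_lift_id_left' (p := 𝒮.p) (𝒳.p.obj z.obj.fst) z.obj.iso.hom g
        (G.toFunctor.map χ₂)
    apply Functor.IsStronglyCartesian.ext 𝒮.p f (G.toFunctor.map φ.hom.snd) g
    rw [Category.assoc, Category.assoc, ← hom_w φ, ← Functor.map_comp, hχ₂, ← hom_w ψ,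
      ← Category.assoc, ← Functor.map_comp, hχ₁]
  refine ⟨mkHom χ₁ χ₂ hw, ⟨(isHomLift_iff_fst g _).mpr hχ₁l, ?_⟩, ?_⟩
  · apply hom_ext'
    · exact hχ₁
    · exact hχ₂
  · rintro χ' ⟨hχ'l, hχ'⟩
    have h1' : 𝒳.p.IsHomLift g χ'.hom.fst := isHomLift_fst g χ'
    have h2' : 𝒴.p.IsHomLift g χ'.hom.snd := isHomLift_snd g χ'
    apply hom_ext'
    · exact hu₁ χ'.hom.fst ⟨h1', congrArg (fun t => t.hom.fst) hχ'⟩
    · exact hu₂ χ'.hom.snd ⟨h2', congrArg (fun t => t.hom.snd) hχ'⟩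

open Groth.Agent.Lib.Helper24.FibGrpd in
lemma scart_of_isFibGrpd {𝒵 : Type*} [Category 𝒵] (p : 𝒵 ⥤ C) (h : FibCat.IsFibGrpd p)
    {R S : C} (f : R ⟶ S) {a b : 𝒵} (φ : a ⟶ b) [p.IsHomLift f φ] : p.IsStronglyCartesian f φ := by
  rw [isStronglyCartesian_iff_map]
  exact h.isStronglyCartesian φ

variable (F G) in
open Groth.Agent.Lib.Helper24.FibGrpd in
theorem isFibGrpd_fp (h𝒳 : FibCat.IsFibGrpd 𝒳.p) (h𝒴 : FibCat.IsFibGrpd 𝒴.p)
    (h𝒮 : FibCat.IsFibGrpd 𝒮.p) : FibCat.IsFibGrpd (FibCat.fp F G).p := by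
  constructor
  · intro y V f
    have key : ∀ (f' : V ⟶ 𝒳.p.obj y.obj.fst), ∃ (x : (FibCat.fp F G).obj) (φ : x ⟶ y),
        (FibCat.fp F G).p.IsHomLift f' φ := by
      intro f
      obtain ⟨a, φ₁, hφ₁⟩ := h𝒳.exists_lift (x := y.obj.fst) f
      obtain ⟨b, φ₂, hφ₂⟩ := h𝒴.exists_lift (x := y.obj.snd) (f ≫ eqToHom (p_eq F G y))
      have hφ₂' : 𝒴.p.IsHomLift f φ₂ := (IsHomLift.lift_comp_eqToHom_iff _ _ _ _).mp hφ₂
      have hy := iso_isHomLift F G y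
      have hcomp : 𝒮.p.IsHomLift f (F.toFunctor.map φ₁ ≫ y.obj.iso.hom) :=
        IsHomLift.comp_lift_id_right' (p := 𝒮.p) f (F.toFunctor.map φ₁) (𝒳.p.obj y.obj.fst)
          y.obj.iso.hom
      have hsc : 𝒮.p.IsStronglyCartesian f (G.toFunctor.map φ₂) := scart_of_isFibGrpd 𝒮.p h𝒮 _ _
      obtain ⟨α, ⟨hαl, hα⟩, _⟩ :=
        Functor.IsStronglyCartesian.universal_property 𝒮.p f (G.toFunctor.map φ₂) (𝟙 V) f
          (Category.id_comp f).symm (F.toFunctor.map φ₁ ≫ y.obj.iso.hom)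
      have hαiso : IsIso α := isIso_of_isFibGrpd 𝒮.p h𝒮 (𝟙 V) α
      have hV : 𝒳.p.obj a = V := IsHomLift.domain_eq 𝒳.p f φ₁
      have hαl' : 𝒮.p.IsHomLift (𝟙 (𝒳.p.obj a)) (asIso α).hom := by
        rw [hV]; exact hαl
      refine ⟨mkObj a b (asIso α) hαl', mkHom φ₁ φ₂ hα.symm, ?_⟩
      rw [isHomLift_iff_fst]
      exact hφ₁
    exact key f
  · intro y x φ
    have h1 : 𝒳.p.IsStronglyCartesian ((FibCat.fp F G).p.map φ) φ.hom.fst :=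
      h𝒳.isStronglyCartesian φ.hom.fst
    have hl2 : 𝒴.p.IsHomLift ((FibCat.fp F G).p.map φ) φ.hom.snd := FibCat.fp_isHomLift_snd F G φ
    have h2 : 𝒴.p.IsStronglyCartesian ((FibCat.fp F G).p.map φ) φ.hom.snd :=
      scart_of_isFibGrpd 𝒴.p h𝒴 _ _
    have h3 : 𝒮.p.IsStronglyCartesian ((FibCat.fp F G).p.map φ) (G.toFunctor.map φ.hom.snd) :=
      scart_of_isFibGrpd 𝒮.p h𝒮 _ _
    exact isStronglyCartesian_of_components _ φ h1 h2 h3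

variable (F G) in
theorem isFibered_fp [𝒳.p.IsFibered] [𝒴.p.IsFibered] [𝒮.p.IsFibered]
    (hF : ∀ {R S : C} (f : R ⟶ S) {a b : 𝒳.obj} (φ : a ⟶ b),
      𝒳.p.IsStronglyCartesian f φ → 𝒮.p.IsStronglyCartesian f (F.toFunctor.map φ))
    (hG : ∀ {R S : C} (f : R ⟶ S) {a b : 𝒴.obj} (φ : a ⟶ b),
      𝒴.p.IsStronglyCartesian f φ → 𝒮.p.IsStronglyCartesian f (G.toFunctor.map φ)) :
    (FibCat.fp F G).p.IsFibered := by
  apply Functor.IsFibered.of_exists_isStronglyCartesian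
  intro y V f
  have key : ∀ (f' : V ⟶ 𝒳.p.obj y.obj.fst), ∃ (x : (FibCat.fp F G).obj) (φ : x ⟶ y),
      (FibCat.fp F G).p.IsStronglyCartesian f' φ := by
    intro f
    obtain ⟨a, φ₁, hφ₁⟩ := CategoryTheory.IsPreFibered.exists_isCartesian 𝒳.p
      (a := y.obj.fst) rfl f
    obtain ⟨b, φ₂, hφ₂⟩ := CategoryTheory.IsPreFibered.exists_isCartesian 𝒴.p
      (a := y.obj.snd) (p_eq F G y).symm f
    have hs1 : 𝒳.p.IsStronglyCartesian f φ₁ := inferInstance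
    have hs2 : 𝒴.p.IsStronglyCartesian f φ₂ := inferInstance
    have hFs : 𝒮.p.IsStronglyCartesian f (F.toFunctor.map φ₁) := hF f φ₁ hs1
    have hGs : 𝒮.p.IsStronglyCartesian f (G.toFunctor.map φ₂) := hG f φ₂ hs2
    have hy := iso_isHomLift F G y
    have hc : 𝒮.p.IsCartesian f (F.toFunctor.map φ₁ ≫ y.obj.iso.hom) := inferInstance
    let α : F.toFunctor.obj a ≅ G.toFunctor.obj b :=
      Functor.IsCartesian.domainUniqueUpToIso 𝒮.p f (G.toFunctor.map φ₂)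
        (F.toFunctor.map φ₁ ≫ y.obj.iso.hom)
    have hαl : 𝒮.p.IsHomLift (𝟙 V) α.hom := inferInstance
    have hα : α.hom ≫ G.toFunctor.map φ₂ = F.toFunctor.map φ₁ ≫ y.obj.iso.hom :=
      Functor.IsCartesian.fac 𝒮.p f (G.toFunctor.map φ₂) (F.toFunctor.map φ₁ ≫ y.obj.iso.hom)
    have hV : 𝒳.p.obj a = V := IsHomLift.domain_eq 𝒳.p f φ₁
    have hαl' : 𝒮.p.IsHomLift (𝟙 (𝒳.p.obj a)) α.hom := by
      rw [hV]; exact hαl
    refine ⟨mkObj a b α hαl', mkHom φ₁ φ₂ hα.symm, ?_⟩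
    exact isStronglyCartesian_of_components f _ hs1 hs2 hGs
  exact key f

end Groth.Agent.Lib.Helper24.FibCatFpGen
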