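import Groth.Prelude.Def_FibCat2
import Groth.Prelude.Def_W4stkcategoriessitesFib
import Groth.Agent.Lib.Helper24.FibGrpd
import Groth.Agent.Lib.Helper24.FibCatFpGen
import Groth.Agent.Lib.Helper24.FibCatEquiv2
set_option autoImplicit false
set_option linter.unusedSectionVars false
open CategoryTheory
universe u v u₂ v₂ u₃ v₃

namespace Groth.Agent.Lib.Helper24.FibCatInertia
open Groth.Agent.Lib.Helper24.FibGrpd

variable {C : Type u} [Category.{v} C]
variable {𝒳 : BasedCategory.{v₂, u₂} C} {𝒴 : BasedCategory.{v₃, u₃} C} (F : 𝒳 ⥤ᵇ 𝒴)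

lemma aut_isHomLift (x : FibCat.InertiaObj F) :
    𝒳.p.IsHomLift (𝟙 (𝒳.p.obj x.pt)) x.aut.hom := by
  rw [← BasedFunctor.isHomLift_iff F, x.map_aut]
  exact IsHomLift.id (F.w_obj x.pt)

lemma aut_inv_isHomLift (x : FibCat.InertiaObj F) :
    𝒳.p.IsHomLift (𝟙 (𝒳.p.obj x.pt)) x.aut.inv := by
  have := aut_isHomLift F x
  infer_instance

variable {F}

lemma isHomLift_iff {x y : (FibCat.inertia F).obj} {R S : C} (f : R ⟶ S) (φ : x ⟶ y) :
    (FibCat.inertia F).p.IsHomLift f φ ↔ 𝒳.p.IsHomLift f φ.hom := by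
  constructor
  · intro h
    exact IsHomLift.of_fac 𝒳.p f φ.hom (IsHomLift.domain_eq (FibCat.inertia F).p f φ)
      (IsHomLift.codomain_eq (FibCat.inertia F).p f φ) (IsHomLift.fac (FibCat.inertia F).p f φ)
  · intro h
    have h1 := IsHomLift.domain_eq 𝒳.p f φ.hom
    have h2 := IsHomLift.codomain_eq 𝒳.p f φ.hom
    have h3 := IsHomLift.fac 𝒳.p f φ.hom
    exact IsHomLift.of_fac (FibCat.inertia F).p f φ h1 h2 h3

/-- a morphism of the inertia whose underlying morphism is strongly cartesian is strongly cartesian -/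
theorem isStronglyCartesian_of_hom {x y : (FibCat.inertia F).obj} {R S : C} (f : R ⟶ S)
    (φ : x ⟶ y) (h : 𝒳.p.IsStronglyCartesian f φ.hom) :
    (FibCat.inertia F).p.IsStronglyCartesian f φ := by
  have hl : (FibCat.inertia F).p.IsHomLift f φ := (isHomLift_iff f φ).mpr inferInstance
  refine { toIsHomLift := hl, universal_property' := ?_ }
  intro z g ψ hψ
  have hψ1 : 𝒳.p.IsHomLift (g ≫ f) ψ.hom := (isHomLift_iff (g ≫ f) ψ).mp hψ
  obtain ⟨χ, ⟨hχl, hχ⟩, hu⟩ :=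
    Functor.IsStronglyCartesian.universal_property 𝒳.p f φ.hom g (g ≫ f) rfl ψ.hom
  have hz := aut_isHomLift F z
  have hx := aut_isHomLift F x
  have hRx : 𝒳.p.obj x.pt = R := IsHomLift.domain_eq 𝒳.p f φ.hom
  have hx' : 𝒳.p.IsHomLift (𝟙 R) x.aut.hom := by rw [← hRx]; exact hx
  have hcomm : z.aut.hom ≫ χ = χ ≫ x.aut.hom := by
    have hA : 𝒳.p.IsHomLift g (z.aut.hom ≫ χ) :=
      IsHomLift.comp_lift_id_left' (p := 𝒳.p) (𝒳.p.obj z.pt) z.aut.hom g χ
    have hB : 𝒳.p.IsHomLift g (χ ≫ x.aut.hom) :=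
      IsHomLift.comp_lift_id_right' (p := 𝒳.p) g χ R x.aut.hom
    apply Functor.IsStronglyCartesian.ext 𝒳.p f φ.hom g
    rw [Category.assoc, Category.assoc, hχ, φ.comm, ← Category.assoc, hχ, ψ.comm]
  refine ⟨⟨χ, hcomm⟩, ⟨(isHomLift_iff g _).mpr hχl, ?_⟩, ?_⟩
  · apply FibCat.InertiaObj.hom_ext
    exact hχ
  · rintro χ' ⟨hχ'l, hχ'⟩
    apply FibCat.InertiaObj.hom_ext
    have h1' : 𝒳.p.IsHomLift g χ'.hom := (isHomLift_iff g χ').mp hχ'l
    exact hu χ'.hom ⟨h1', congrArg (fun t => t.hom) hχ'⟩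

/-- lifting a strongly cartesian morphism with target the underlying object of an inertia object -/
theorem exists_lift_of_isStronglyCartesian (y : (FibCat.inertia F).obj) {R S : C} (f : R ⟶ S)
    {a : 𝒳.obj} (φ : a ⟶ y.pt) (h : 𝒳.p.IsStronglyCartesian f φ)
    (hF : 𝒴.p.IsStronglyCartesian f (F.toFunctor.map φ)) :
    ∃ (x : (FibCat.inertia F).obj) (Φ : x ⟶ y), (FibCat.inertia F).p.IsStronglyCartesian f Φ := by
  have hy := aut_isHomLift F y
  have hyi := aut_inv_isHomLift F y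
  have hS : 𝒳.p.obj y.pt = S := IsHomLift.codomain_eq 𝒳.p f φ
  have hy' : 𝒳.p.IsHomLift (𝟙 S) y.aut.hom := by rw [← hS]; exact hy
  have hyi' : 𝒳.p.IsHomLift (𝟙 S) y.aut.inv := by rw [← hS]; exact hyi
  have h1 : 𝒳.p.IsHomLift f (φ ≫ y.aut.hom) := inferInstance
  have h2 : 𝒳.p.IsHomLift f (φ ≫ y.aut.inv) := inferInstance
  obtain ⟨α, ⟨hαl, hα⟩, _⟩ :=
    Functor.IsStronglyCartesian.universal_property 𝒳.p f φ (𝟙 R) f (Category.id_comp f).symm
      (φ ≫ y.aut.hom)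
  obtain ⟨β, ⟨hβl, hβ⟩, _⟩ :=
    Functor.IsStronglyCartesian.universal_property 𝒳.p f φ (𝟙 R) f (Category.id_comp f).symm
      (φ ≫ y.aut.inv)
  have hαβ : α ≫ β = 𝟙 a := by
    have hA : 𝒳.p.IsHomLift (𝟙 R) (α ≫ β) := inferInstance
    have hB : 𝒳.p.IsHomLift (𝟙 R) (𝟙 a) := IsHomLift.id (IsHomLift.domain_eq 𝒳.p f φ)
    apply Functor.IsStronglyCartesian.ext 𝒳.p f φ (𝟙 R)
    rw [Category.assoc, hβ, ← Category.assoc, hα, Category.assoc, Iso.hom_inv_id, Category.comp_id,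
      Category.id_comp]
  have hβα : β ≫ α = 𝟙 a := by
    have hA : 𝒳.p.IsHomLift (𝟙 R) (β ≫ α) := inferInstance
    have hB : 𝒳.p.IsHomLift (𝟙 R) (𝟙 a) := IsHomLift.id (IsHomLift.domain_eq 𝒳.p f φ)
    apply Functor.IsStronglyCartesian.ext 𝒳.p f φ (𝟙 R)
    rw [Category.assoc, hα, ← Category.assoc, hβ, Category.assoc, Iso.inv_hom_id, Category.comp_id,
      Category.id_comp]
  have hFα : F.toFunctor.map α = 𝟙 (F.toFunctor.obj a) := by
    have hA : 𝒴.p.IsHomLift (𝟙 R) (F.toFunctor.map α) := inferInstance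
    have hB : 𝒴.p.IsHomLift (𝟙 R) (𝟙 (F.toFunctor.obj a)) :=
      IsHomLift.id ((F.w_obj a).trans (IsHomLift.domain_eq 𝒳.p f φ))
    apply Functor.IsStronglyCartesian.ext 𝒴.p f (F.toFunctor.map φ) (𝟙 R)
    rw [← Functor.map_comp, hα, Functor.map_comp, y.map_aut, Category.comp_id, Category.id_comp]
  let x : (FibCat.inertia F).obj := ⟨a, ⟨α, β, hαβ, hβα⟩, hFα⟩
  let Φ : x ⟶ y := ⟨φ, hα⟩
  exact ⟨x, Φ, isStronglyCartesian_of_hom f Φ h⟩

open Groth.Agent.Lib.Helper24.FibCatFpGen in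
variable (F) in
theorem isFibered_inertia [𝒳.p.IsFibered] [𝒴.p.IsFibered]
    (hF : FibCat.PreservesStronglyCartesian F) : (FibCat.inertia F).p.IsFibered := by
  apply Functor.IsFibered.of_exists_isStronglyCartesian
  intro y R f
  have key : ∀ f' : R ⟶ 𝒳.p.obj y.pt, ∃ (x : (FibCat.inertia F).obj) (Φ : x ⟶ y),
      (FibCat.inertia F).p.IsStronglyCartesian f' Φ := by
    intro f
    obtain ⟨a, φ, hφ⟩ := CategoryTheory.IsPreFibered.exists_isCartesian 𝒳.p (a := y.pt) rfl f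
    have hs : 𝒳.p.IsStronglyCartesian f φ := inferInstance
    exact exists_lift_of_isStronglyCartesian y f φ hs (hF f φ hs)
  exact key f

lemma isFibGrpd_selfOver : FibCat.IsFibGrpd (FibCat.selfOver C).p := by
  constructor
  · intro x V f
    exact ⟨V, f, IsHomLift.map (p := (FibCat.selfOver C).p) f⟩
  · intro y x φ
    refine { toIsHomLift := inferInstance, universal_property' := ?_ }
    intro a' g φ' hφ'
    have h1 : g ≫ (FibCat.selfOver C).p.map φ = φ' :=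
      IsHomLift.eq_of_isHomLift (p := (FibCat.selfOver C).p) (g ≫ (FibCat.selfOver C).p.map φ) φ'
    refine ⟨g, ⟨IsHomLift.map (p := (FibCat.selfOver C).p) g, h1⟩, ?_⟩
    rintro χ ⟨hχ1, hχ2⟩
    exact (IsHomLift.eq_of_isHomLift (p := (FibCat.selfOver C).p) g χ).symm

open Groth.Agent.Lib.Helper24.FibCatFpGen in
variable (F) in
theorem isFibGrpd_inertia (h𝒳 : FibCat.IsFibGrpd 𝒳.p) (h𝒴 : FibCat.IsFibGrpd 𝒴.p) :
    FibCat.IsFibGrpd (FibCat.inertia F).p := by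
  constructor
  · intro y V f
    have key : ∀ f' : V ⟶ 𝒳.p.obj y.pt, ∃ (x : (FibCat.inertia F).obj) (Φ : x ⟶ y),
        (FibCat.inertia F).p.IsHomLift f' Φ := by
      intro f
      obtain ⟨a, φ, hφ⟩ := h𝒳.exists_lift (x := y.pt) f
      have hs : 𝒳.p.IsStronglyCartesian f φ := scart_of_isFibGrpd 𝒳.p h𝒳 f φ
      have hs' : 𝒴.p.IsStronglyCartesian f (F.toFunctor.map φ) := scart_of_isFibGrpd 𝒴.p h𝒴 f _
      obtain ⟨x, Φ, hΦ⟩ := exists_lift_of_isStronglyCartesian y f φ hs hs'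
      exact ⟨x, Φ, inferInstance⟩
    exact key f
  · intro y x φ
    apply isStronglyCartesian_of_hom
    exact h𝒳.isStronglyCartesian φ.hom

/-- if the forgetful functor from the inertia is full then automorphisms killed by `F` are trivial -/
lemma aut_eq_id_of_full [(FibCat.inertiaToBase F).toFunctor.Full] (x : FibCat.InertiaObj F) :
    x.aut.hom = 𝟙 x.pt := by
  let x₀ : (FibCat.inertia F).obj := ⟨x.pt, Iso.refl _, F.toFunctor.map_id x.pt⟩
  obtain ⟨χ, hχ⟩ := (FibCat.inertiaToBase F).toFunctor.map_surjective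
    (X := (x : (FibCat.inertia F).obj)) (Y := x₀) (𝟙 x.pt)
  have hχ' : χ.hom = 𝟙 x.pt := hχ
  have h2 : x.aut.hom ≫ χ.hom = χ.hom ≫ 𝟙 x.pt := χ.comm
  rw [hχ', Category.comp_id, Category.comp_id] at h2
  exact h2

open Groth.Agent.Lib.Helper24.FibCatEquiv in
theorem isFibSetoid_of_isEquivOver_inertiaToBase (h𝒳 : FibCat.IsFibGrpd 𝒳.p)
    (h : FibCat.IsEquivOver (FibCat.inertiaToBase (FibCat.toSelf 𝒳))) : FibCat.IsFibSetoid 𝒳.p := by
  refine ⟨h𝒳, fun U => ?_⟩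
  obtain ⟨⟨hfull, _⟩, _⟩ := props_of_isEquivOver _ h
  have hg := isGroupoid_fiber_of_isFibGrpd 𝒳.p h𝒳 U
  intro a b
  constructor
  intro φ ψ
  have hφ : IsIso φ := hg.all_isIso φ
  have hψ : IsIso ψ := hg.all_isIso ψ
  let α : a ≅ a := asIso φ ≪≫ (asIso ψ).symm
  let α' : Functor.Fiber.fiberInclusion.obj a ≅ Functor.Fiber.fiberInclusion.obj a :=
    Functor.Fiber.fiberInclusion.mapIso α
  have hα' : 𝒳.p.IsHomLift (𝟙 U) α'.hom := by
    change 𝒳.p.IsHomLift (𝟙 U) (Functor.Fiber.fiberInclusion.map α.hom)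
    infer_instance
  have hmap : (FibCat.toSelf 𝒳).toFunctor.map α'.hom =
      𝟙 ((FibCat.toSelf 𝒳).toFunctor.obj (Functor.Fiber.fiberInclusion.obj a)) := by
    change 𝒳.p.map α'.hom = 𝟙 (𝒳.p.obj (Functor.Fiber.fiberInclusion.obj a))
    rw [IsHomLift.fac' 𝒳.p (𝟙 U) α'.hom]
    simp
  have key := aut_eq_id_of_full (F := FibCat.toSelf 𝒳) ⟨Functor.Fiber.fiberInclusion.obj a, α', hmap⟩
  have key' : Functor.Fiber.fiberInclusion.map α.hom = Functor.Fiber.fiberInclusion.map (𝟙 a) := by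
    rw [Functor.map_id]; exact key
  have hα : α.hom = 𝟙 a := Functor.Fiber.hom_ext key'
  have : φ ≫ inv ψ = 𝟙 a := hα
  calc φ = (φ ≫ inv ψ) ≫ ψ := by simp
    _ = ψ := by rw [this, Category.id_comp]

end Groth.Agent.Lib.Helper24.FibCatInertia
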