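import Groth.Agent.Lib.Helper24.StkFp
import Groth.Agent.Lib.Helper24.FibCatInertia
set_option autoImplicit false
open CategoryTheory CategoryTheory.Limits
universe v u v₂ u₂
set_option backward.isDefEq.respectTransparency false
set_option backward.isDefEq.respectTransparency.types false

namespace Groth.Agent.Lib.Helper24.StkSelf

variable {C : Type u} [Category.{v} C]

lemma hom_subsingleton {ℬ : BasedCategory.{v₂, u₂} C} (H H' : ℬ ⥤ᵇ FibCat.selfOver C) :
    Subsingleton (H ⟶ H') := by
  constructor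
  intro τ τ'
  apply BasedNatTrans.homCategory.ext
  ext a
  have h1 := τ.isHomLift' a
  have h2 := τ'.isHomLift' a
  have e1 := IsHomLift.fac' (p := (FibCat.selfOver C).p) (𝟙 (ℬ.p.obj a)) (τ.toNatTrans.app a)
  have e2 := IsHomLift.fac' (p := (FibCat.selfOver C).p) (𝟙 (ℬ.p.obj a)) (τ'.toNatTrans.app a)
  exact e1.trans e2.symm

lemma eq_of_selfOver {ℬ : BasedCategory.{v₂, u₂} C} (H H' : ℬ ⥤ᵇ FibCat.selfOver C) : H = H' := by
  have h : H.toFunctor = H'.toFunctor := by
    have := H.w.trans H'.w.symm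
    exact this
  cases H; cases H'
  simp only at h
  subst h
  rfl

theorem isPrestack_selfOver (J : GrothendieckTopology C) : Stk.IsPrestack J (FibCat.selfOver C) := by
  refine ⟨Groth.Agent.Lib.Helper24.FibCatInertia.isFibGrpd_selfOver, fun U R _ => ⟨⟨?_⟩, ⟨?_⟩⟩⟩
  · intro G G' τ
    obtain rfl := eq_of_selfOver G G'
    exact ⟨𝟙 _, (hom_subsingleton _ _).elim _ _⟩
  · intro G G' σ σ' _
    exact (hom_subsingleton _ _).elim _ _

end Groth.Agent.Lib.Helper24.StkSelf
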