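import Groth.Agent.Lib.Helper24.FibCatFpFactor
import Groth.Agent.Lib.Helper24.StkSelf
import Groth.Agent.Lib.Helper24.AlgStProdMap
import Groth.Agent.Lib.Helper24.AlgStSmooth
import Groth.Agent.Lib.Helper24.AlgStDiagLft
set_option autoImplicit false
open CategoryTheory AlgebraicGeometry Opposite
universe w₁ v₁ w₂ v₂ w₃ v₃ w₄ v₄ w₅ v₅ u
set_option backward.isDefEq.respectTransparency false
set_option backward.isDefEq.respectTransparency.types false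

/-! 2-fibre products of algebraic stacks over a stack with representable diagonal are algebraic. -/

namespace Groth.Agent.Lib.Helper24.AlgStFpAlg
open Groth.Agent.Lib.Helper24.FibCatFpMap
open Groth.Agent.Lib.Helper24.FibCatEquiv Groth.Agent.Lib.Helper24.FibCatFpGen
open Groth.Agent.Lib.Helper24.AlgStRep
open Groth.Agent.Lib.Helper24.AlgStBridge Groth.Agent.Lib.Helper24.AlgStBoot
open Groth.Agent.Lib.Helper24.AlgStRepS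
open Groth.Agent.Lib.Helper24.AlgStEqv Groth.Agent.Lib.Helper24.FibCatMagic
open Groth.Agent.Lib.Helper24.AlgStDiagBC
open Groth.Agent.Lib.Helper24.AlgStSchLocal
open Groth.Agent.Lib.Helper24.AlgStGC Groth.Agent.Lib.Helper24.AlgStLC
open Groth.Agent.Lib.Helper24.FibCatFpFactor Groth.Agent.Lib.Helper24.AlgStProd
open Groth.Agent.Lib.Helper24.AlgStProps Groth.Agent.Lib.Helper24.AlgStSmooth
open Groth.Agent.Lib.Helper24.AlgStDiag Groth.Agent.Lib.Helper24.AlgStCalc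
open Groth.Agent.Lib.Helper24.StkFp
open CategoryTheory.Limits

variable {S : Scheme.{u}}

/-- the product map `a × b : 𝒜 ×_𝒵 ℬ ⟶ 𝒳 ×_𝒵 𝒴` -/
theorem repByAlgSpWith_prodMap' {𝒜 ℬ 𝒳 𝒴 𝒵 : AlgSt.Cat S} (h𝒜 : FibCat.IsFibGrpd 𝒜.p)
    (hℬ : FibCat.IsFibGrpd ℬ.p) (h𝒳 : FibCat.IsFibGrpd 𝒳.p) (h𝒴 : FibCat.IsFibGrpd 𝒴.p)
    (h𝒵 : FibCat.IsFibGrpd 𝒵.p)
    (Q : MorphismProperty (AlgSp.Sp S)) (hQ : Nice Q) (hQc : StableComp Q)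
    (a : 𝒜 ⥤ᵇ 𝒳) (b : ℬ ⥤ᵇ 𝒴) (f : 𝒳 ⥤ᵇ 𝒵) (g : 𝒴 ⥤ᵇ 𝒵) (ha : AlgSt.RepByAlgSpWith Q a)
    (hb : AlgSt.RepByAlgSpWith Q b) : AlgSt.RepByAlgSpWith Q (prodMap a b f g) :=
  repByAlgSpWith_comp (isFibGrpd_fp _ _ h𝒜 hℬ h𝒵) (isFibGrpd_fp _ _ h𝒳 hℬ h𝒵)
    (isFibGrpd_fp _ _ h𝒳 h𝒴 h𝒵) Q hQ hQc _ _
    (repByAlgSpWith_mapL Q a f (BasedFunctor.comp b g) ha) (repByAlgSpWith_mapR Q b g f hb)

/-- the diagonal of a 2-fibre product is representable by algebraic spaces -/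
theorem repByAlgSp1_diag_fp {𝒳 𝒴 𝒵 : AlgSt.Cat S} (h𝒳 : FibCat.IsFibGrpd 𝒳.p)
    (h𝒴 : FibCat.IsFibGrpd 𝒴.p) (h𝒵 : FibCat.IsFibGrpd 𝒵.p)
    (hΔ𝒳 : AlgSt.RepByAlgSp1 (FibCat.diag (FibCat.toSelf 𝒳)))
    (hΔ𝒴 : AlgSt.RepByAlgSp1 (FibCat.diag (FibCat.toSelf 𝒴)))
    (hΔ𝒵 : AlgSt.RepByAlgSp1 (FibCat.diag (FibCat.toSelf 𝒵))) (f : 𝒳 ⥤ᵇ 𝒵) (g : 𝒴 ⥤ᵇ 𝒵) :
    AlgSt.RepByAlgSp1 (FibCat.diag (FibCat.toSelf (FibCat.fp f g))) := by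
  rw [repByAlgSp1_diag_iff (isFibGrpd_fp f g h𝒳 h𝒴 h𝒵)]
  intro U w
  have hU : FibCat.IsFibGrpd (FibCat.overCat U).p := StkFpCrit.isFibGrpd_overForget U
  have ha : AlgSt.RepByAlgSpWith ⊤ (c₁ w) :=
    (repByAlgSp1_iff_with_top _).1 ((repByAlgSp1_diag_iff h𝒳).1 hΔ𝒳 U (c₁ w))
  have hb : AlgSt.RepByAlgSpWith ⊤ (c₂ w) :=
    (repByAlgSp1_iff_with_top _).1 ((repByAlgSp1_diag_iff h𝒴).1 hΔ𝒴 U (c₂ w))
  have hp := repByAlgSpWith_prodMap' hU hU h𝒳 h𝒴 h𝒵 ⊤ nice_top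
    Groth.Agent.Lib.Helper24.AlgStDiagLft.stableComp_top (c₁ w) (c₂ w) f g ha hb
  have hF : AlgSt.RepByAlgSp (FibCat.fp (BasedFunctor.comp (c₁ w) f) (BasedFunctor.comp (c₂ w) g)) :=
    repByAlgSp1_of_diag h𝒵 hΔ𝒵 hU hU (repByAlgSp_overCat U) (repByAlgSp_overCat U) _ _
  have hs : AlgSt.RepByAlgSpWith ⊤ (sect w) :=
    (repByAlgSp1_iff_with_top _).1 (repByAlgSp1_of_repByAlgSp (repByAlgSp_overCat U) hF _)
  have hc := repByAlgSpWith_comp hU (isFibGrpd_fp _ _ hU hU h𝒵) (isFibGrpd_fp f g h𝒳 h𝒴 h𝒵) ⊤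
    nice_top Groth.Agent.Lib.Helper24.AlgStDiagLft.stableComp_top _ _ hs hp
  exact (repByAlgSp1_iff_with_top _).2 (repByAlgSpWith_of_iso ⊤ (factorIso w) hc)

theorem stableComp_isSurjectiveMor : StableComp (AlgSp.IsSurjectiveMor (S := S)) :=
  fun _ _ _ _ _ _ _ _ ha hb => Groth.Agent.Lib.Helper14.AS.isSurjectiveMor_comp ha hb

/-- precomposing with an equivalence of targets -/
theorem repByAlgSpWith_comp_equiv {𝒜 : BasedCategory.{v₁, w₁} (Over S)}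
    {ℬ : BasedCategory.{v₂, w₂} (Over S)} {ℬ' : BasedCategory.{v₃, w₃} (Over S)}
    (Q : MorphismProperty (AlgSp.Sp S)) (p : 𝒜 ⥤ᵇ ℬ) (e : ℬ ⥤ᵇ ℬ') (he : FibCat.IsEquivOver e)
    (hp : AlgSt.RepByAlgSpWith Q p) : AlgSt.RepByAlgSpWith Q (BasedFunctor.comp p e) :=
  (repByAlgSpWith_iff_of_isEquivOver Q (BasedFunctor.comp p e) p (BasedFunctor.id _) e
    (isEquivOver_id _) he (Iso.refl _)).2 hp

/-- the 2-fibre product of algebraic stacks has a smooth atlas -/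
theorem hasAtlas_fp {𝒳 𝒴 𝒵 : AlgSt.Cat S} (h𝒳 : FibCat.IsFibGrpd 𝒳.p)
    (h𝒴 : FibCat.IsFibGrpd 𝒴.p) (h𝒵 : FibCat.IsFibGrpd 𝒵.p)
    (hΔ𝒵 : AlgSt.RepByAlgSp1 (FibCat.diag (FibCat.toSelf 𝒵)))
    (hA𝒳 : AlgSt.HasAtlas (AlgSp.LocP @Smooth) 𝒳) (hA𝒴 : AlgSt.HasAtlas (AlgSp.LocP @Smooth) 𝒴)
    (f : 𝒳 ⥤ᵇ 𝒵) (g : 𝒴 ⥤ᵇ 𝒵) : AlgSt.HasAtlas (AlgSp.LocP @Smooth) (FibCat.fp f g) := by
  obtain ⟨U, x, hx, hx'⟩ := hA𝒳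
  obtain ⟨V, y, hy, hy'⟩ := hA𝒴
  have hU : FibCat.IsFibGrpd (FibCat.overCat U).p := StkFpCrit.isFibGrpd_overForget U
  have hV : FibCat.IsFibGrpd (FibCat.overCat V).p := StkFpCrit.isFibGrpd_overForget V
  have hF : AlgSt.RepByAlgSp (FibCat.fp (BasedFunctor.comp x f) (BasedFunctor.comp y g)) :=
    repByAlgSp1_of_diag h𝒵 hΔ𝒵 hU hV (repByAlgSp_overCat U) (repByAlgSp_overCat V) _ _
  obtain ⟨X, eX, heX⟩ := hF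
  obtain ⟨W, p, hp, hp'⟩ := Groth.Agent.Lib.Helper24.AlgStAtlas.hasAtlas_smooth_ofSp X
  have hW : FibCat.IsFibGrpd (FibCat.overCat W).p := StkFpCrit.isFibGrpd_overForget W
  refine ⟨W, BasedFunctor.comp (BasedFunctor.comp p eX) (prodMap x y f g), ?_, ?_⟩
  · exact repByAlgSpWith_comp hW (isFibGrpd_fp _ _ hU hV h𝒵) (isFibGrpd_fp f g h𝒳 h𝒴 h𝒵) _
      good_smooth.nice stableComp_smooth _ _ (repByAlgSpWith_comp_equiv _ p eX heX hp)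
      (repByAlgSpWith_prodMap' hU hV h𝒳 h𝒴 h𝒵 _ good_smooth.nice stableComp_smooth x y f g hx hy)
  · exact repByAlgSpWith_comp hW (isFibGrpd_fp _ _ hU hV h𝒵) (isFibGrpd_fp f g h𝒳 h𝒴 h𝒵) _
      good_isSurjectiveMor.nice stableComp_isSurjectiveMor _ _
      (repByAlgSpWith_comp_equiv _ p eX heX hp')
      (repByAlgSpWith_prodMap' hU hV h𝒳 h𝒴 h𝒵 _ good_isSurjectiveMor.nice
        stableComp_isSurjectiveMor x y f g hx' hy')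

/-- a stack is a prestack -/
theorem isPrestack_of_isStack {C : Type*} [Category C] (J : GrothendieckTopology C)
    {𝒵 : BasedCategory.{v₁, w₁} C} (h : Stk.IsStack J 𝒵) : Stk.IsPrestack J 𝒵 :=
  ⟨h.1, fun _ R hR => by
    have := h.2 R hR
    have : (Stk.resSieve R 𝒵).IsEquivalence := this
    exact ⟨inferInstance, inferInstance⟩⟩

/-- S12763 -/
theorem isAlgStack_fp {K : Precoverage Scheme.{u}} {𝒳 𝒴 𝒵 : AlgSt.Cat S}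
    (h𝒵 : Stk.IsStack (QuotSh.J K S) 𝒵)
    (hΔ : AlgSt.RepByAlgSp1 (FibCat.diag (FibCat.toSelf 𝒵)))
    (h𝒳 : AlgSt.IsAlgStack K 𝒳) (h𝒴 : AlgSt.IsAlgStack K 𝒴)
    (f : 𝒳 ⥤ᵇ 𝒵) (g : 𝒴 ⥤ᵇ 𝒵) : AlgSt.IsAlgStack K (FibCat.fp f g) where
  isStack := isStack_fp f g _ h𝒳.isStack h𝒴.isStack (isPrestack_of_isStack _ h𝒵)
  diag := repByAlgSp1_diag_fp h𝒳.isStack.1 h𝒴.isStack.1 h𝒵.1 h𝒳.diag h𝒴.diag hΔ f g
  atlas := hasAtlas_fp h𝒳.isStack.1 h𝒴.isStack.1 h𝒵.1 hΔ h𝒳.atlas h𝒴.atlas f g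

end Groth.Agent.Lib.Helper24.AlgStFpAlg
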