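import Groth.Prelude.Def_FibCat2
import Mathlib.CategoryTheory.FiberedCategory.BasedCategory
import Mathlib.CategoryTheory.FiberedCategory.Fibered
import Mathlib.CategoryTheory.FiberedCategory.Cartesian

set_option autoImplicit false
set_option linter.unusedSectionVars false
open CategoryTheory CategoryTheory.Limits
universe u v u₂ v₂ u₃ v₃

namespace Groth.Agent.Lib.Helper24.FibCatFp

variable {C : Type u} [Category.{v} C]
variable {𝒳 : BasedCategory.{v₂, u₂} C} {𝒴 : BasedCategory.{v₃, u₃} C}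

/-- the fibre product `𝒳 ×_C 𝒴` -/
abbrev P (𝒳 : BasedCategory.{v₂, u₂} C) (𝒴 : BasedCategory.{v₃, u₃} C) :=
  FibCat.fp (FibCat.toSelf 𝒳) (FibCat.toSelf 𝒴)

lemma p_eq (x : (P 𝒳 𝒴).obj) : 𝒳.p.obj x.obj.fst = 𝒴.p.obj x.obj.snd := by
  have hx : (FibCat.selfOver C).p.IsHomLift (𝟙 (𝒳.p.obj x.obj.fst)) x.obj.iso.hom := x.property
  exact IsHomLift.codomain_eq (FibCat.selfOver C).p (𝟙 (𝒳.p.obj x.obj.fst)) x.obj.iso.hom |>.symm

/-- the structural isomorphism, as an isomorphism of `C` -/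
def isoC (x : (P 𝒳 𝒴).obj) : 𝒳.p.obj x.obj.fst ≅ 𝒴.p.obj x.obj.snd := x.obj.iso

lemma isoC_hom_eq (x : (P 𝒳 𝒴).obj) : (isoC x).hom = eqToHom (p_eq x) := by
  have hx : (FibCat.selfOver C).p.IsHomLift (𝟙 (𝒳.p.obj x.obj.fst)) x.obj.iso.hom := x.property
  have := IsHomLift.fac' (FibCat.selfOver C).p (𝟙 (𝒳.p.obj x.obj.fst)) x.obj.iso.hom
  rw [Category.id_comp, eqToHom_trans] at this
  exact this

lemma comm_of_eqToHom {A B A' B' R S : C} (u : A ⟶ A') (w : B ⟶ B') (hA : A = B) (hA' : A' = B')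
    (f : R ⟶ S) (h1 : A = R) (h2 : A' = S)
    (hu : u = eqToHom h1 ≫ f ≫ eqToHom h2.symm)
    (hw : w = eqToHom (hA.symm.trans h1) ≫ f ≫ eqToHom (hA'.symm.trans h2).symm) :
    u ≫ eqToHom hA' = eqToHom hA ≫ w := by
  subst hA hA' h1 h2
  simp [hu, hw]

lemma w_of_lifts {x y : (P 𝒳 𝒴).obj} {R S : C} (f : R ⟶ S) (a : x.obj.fst ⟶ y.obj.fst)
    (b : x.obj.snd ⟶ y.obj.snd) [𝒳.p.IsHomLift f a] [𝒴.p.IsHomLift f b] :
    𝒳.p.map a ≫ (isoC y).hom = (isoC x).hom ≫ 𝒴.p.map b := by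
  rw [isoC_hom_eq, isoC_hom_eq]
  exact comm_of_eqToHom _ _ (p_eq x) (p_eq y) f (IsHomLift.domain_eq 𝒳.p f a)
    (IsHomLift.codomain_eq 𝒳.p f a) (IsHomLift.fac' 𝒳.p f a) (IsHomLift.fac' 𝒴.p f b)

/-- constructor for morphisms of the fibre product from two lifts of the same morphism -/
def mkHom {x y : (P 𝒳 𝒴).obj} {R S : C} (f : R ⟶ S) (a : x.obj.fst ⟶ y.obj.fst)
    (b : x.obj.snd ⟶ y.obj.snd) [𝒳.p.IsHomLift f a] [𝒴.p.IsHomLift f b] : x ⟶ y :=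
  ObjectProperty.homMk ⟨a, b, w_of_lifts f a b⟩

@[simp] lemma mkHom_fst {x y : (P 𝒳 𝒴).obj} {R S : C} (f : R ⟶ S) (a : x.obj.fst ⟶ y.obj.fst)
    (b : x.obj.snd ⟶ y.obj.snd) [𝒳.p.IsHomLift f a] [𝒴.p.IsHomLift f b] :
    (mkHom f a b).hom.fst = a := rfl

@[simp] lemma mkHom_snd {x y : (P 𝒳 𝒴).obj} {R S : C} (f : R ⟶ S) (a : x.obj.fst ⟶ y.obj.fst)
    (b : x.obj.snd ⟶ y.obj.snd) [𝒳.p.IsHomLift f a] [𝒴.p.IsHomLift f b] :
    (mkHom f a b).hom.snd = b := rfl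

/-- objects of the fibre product from two objects over the same base object -/
abbrev mkObj (a : 𝒳.obj) (b : 𝒴.obj) (h : 𝒳.p.obj a = 𝒴.p.obj b) : (P 𝒳 𝒴).obj :=
  ⟨⟨a, b, (eqToIso h : 𝒳.p.obj a ≅ 𝒴.p.obj b)⟩, by
    show (FibCat.selfOver C).p.IsHomLift (𝟙 (𝒳.p.obj a))
      (eqToHom h : (show (FibCat.selfOver C).obj from 𝒳.p.obj a) ⟶ 𝒴.p.obj b)
    exact IsHomLift.eqToHom_domain_lift_id (p := (FibCat.selfOver C).p) h rfl⟩

@[simp] lemma mkObj_fst (a : 𝒳.obj) (b : 𝒴.obj) (h : 𝒳.p.obj a = 𝒴.p.obj b) :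
    (mkObj a b h).obj.fst = a := rfl
@[simp] lemma mkObj_snd (a : 𝒳.obj) (b : 𝒴.obj) (h : 𝒳.p.obj a = 𝒴.p.obj b) :
    (mkObj a b h).obj.snd = b := rfl

lemma hom_ext' {x y : (P 𝒳 𝒴).obj} {φ ψ : x ⟶ y} (h1 : φ.hom.fst = ψ.hom.fst)
    (h2 : φ.hom.snd = ψ.hom.snd) : φ = ψ :=
  ObjectProperty.hom_ext _ (CategoricalPullback.hom_ext h1 h2)

/-- a morphism of the fibre product lifts `f` iff its first component does -/
lemma isHomLift_iff_fst {x y : (P 𝒳 𝒴).obj} {R S : C} (f : R ⟶ S) (φ : x ⟶ y) :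
    (P 𝒳 𝒴).p.IsHomLift f φ ↔ 𝒳.p.IsHomLift f φ.hom.fst := by
  constructor
  · intro h
    exact IsHomLift.of_fac 𝒳.p f φ.hom.fst (IsHomLift.domain_eq (P 𝒳 𝒴).p f φ)
      (IsHomLift.codomain_eq (P 𝒳 𝒴).p f φ) (IsHomLift.fac (P 𝒳 𝒴).p f φ)
  · intro h
    have h1 := IsHomLift.domain_eq 𝒳.p f φ.hom.fst
    have h2 := IsHomLift.codomain_eq 𝒳.p f φ.hom.fst
    have h3 := IsHomLift.fac 𝒳.p f φ.hom.fst
    exact IsHomLift.of_fac (P 𝒳 𝒴).p f φ h1 h2 h3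

lemma isHomLift_fst {x y : (P 𝒳 𝒴).obj} {R S : C} (f : R ⟶ S) (φ : x ⟶ y)
    [h : (P 𝒳 𝒴).p.IsHomLift f φ] : 𝒳.p.IsHomLift f φ.hom.fst :=
  (isHomLift_iff_fst f φ).mp h

/-- the second component lifts whatever the morphism lifts -/
lemma isHomLift_snd {x y : (P 𝒳 𝒴).obj} {R S : C} (f : R ⟶ S) (φ : x ⟶ y)
    [h : (P 𝒳 𝒴).p.IsHomLift f φ] : 𝒴.p.IsHomLift f φ.hom.snd := by
  have h0 : 𝒴.p.IsHomLift ((P 𝒳 𝒴).p.map φ) φ.hom.snd :=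
    FibCat.fp_isHomLift_snd (FibCat.toSelf 𝒳) (FibCat.toSelf 𝒴) φ
  have hfac := IsHomLift.fac (P 𝒳 𝒴).p f φ
  rw [hfac]
  infer_instance

end Groth.Agent.Lib.Helper24.FibCatFp

namespace Groth.Agent.Lib.Helper24.FibCatFp

variable {C : Type u} [Category.{v} C]
variable {𝒳 : BasedCategory.{v₂, u₂} C} {𝒴 : BasedCategory.{v₃, u₃} C}

lemma comp_fst {x y z : (P 𝒳 𝒴).obj} (φ : x ⟶ y) (ψ : y ⟶ z) :
    (φ ≫ ψ).hom.fst = φ.hom.fst ≫ ψ.hom.fst := rfl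

lemma comp_snd {x y z : (P 𝒳 𝒴).obj} (φ : x ⟶ y) (ψ : y ⟶ z) :
    (φ ≫ ψ).hom.snd = φ.hom.snd ≫ ψ.hom.snd := rfl

/-- cartesian-ness only depends on the morphism, not on the chosen base morphism -/
lemma isCartesian_iff_map {𝒵 : Type*} [Category 𝒵] (p : 𝒵 ⥤ C) {R S : C} {a b : 𝒵} (f : R ⟶ S)
    (φ : a ⟶ b) [p.IsHomLift f φ] : p.IsCartesian f φ ↔ p.IsCartesian (p.map φ) φ := by
  obtain rfl := IsHomLift.domain_eq p f φ
  obtain rfl := IsHomLift.codomain_eq p f φ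
  have : f = p.map φ := by simpa using IsHomLift.fac p f φ
  subst this
  rfl

theorem isCartesian_fp_iff {x y : (P 𝒳 𝒴).obj} {R S : C} (f : R ⟶ S) (φ : x ⟶ y) :
    (P 𝒳 𝒴).p.IsCartesian f φ ↔ 𝒳.p.IsCartesian f φ.hom.fst ∧ 𝒴.p.IsCartesian f φ.hom.snd := by
  constructor
  · intro hc
    have hl1 : 𝒳.p.IsHomLift f φ.hom.fst := isHomLift_fst f φ
    have hl2 : 𝒴.p.IsHomLift f φ.hom.snd := isHomLift_snd f φ
    constructor
    · refine { toIsHomLift := hl1, universal_property := ?_ }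
      intro a' ψ₁ hψ₁
      have hz : 𝒳.p.obj a' = 𝒴.p.obj x.obj.snd :=
        (IsHomLift.domain_eq 𝒳.p f ψ₁).trans (IsHomLift.domain_eq 𝒴.p f φ.hom.snd).symm
      set ψ : mkObj a' x.obj.snd hz ⟶ y := mkHom f ψ₁ φ.hom.snd with hψdef
      have hψ : (P 𝒳 𝒴).p.IsHomLift f ψ := (isHomLift_iff_fst f ψ).mpr hψ₁
      set χ : mkObj a' x.obj.snd hz ⟶ x := Functor.IsCartesian.map (P 𝒳 𝒴).p f φ ψ with hχdef
      have hχl : (P 𝒳 𝒴).p.IsHomLift (𝟙 R) χ := inferInstance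
      have hχ : χ ≫ φ = ψ := Functor.IsCartesian.fac (P 𝒳 𝒴).p f φ ψ
      refine ⟨χ.hom.fst, ⟨isHomLift_fst (𝟙 R) χ, ?_⟩, ?_⟩
      · have := congrArg (fun t => t.hom.fst) hχ
        exact this
      · rintro χ₁' ⟨hχ₁'l, hχ₁'⟩
        have hs : 𝒴.p.IsHomLift (𝟙 R) χ.hom.snd := isHomLift_snd (𝟙 R) χ
        set χ' : mkObj a' x.obj.snd hz ⟶ x := mkHom (𝟙 R) χ₁' χ.hom.snd with hχ'def
        have hχ'l : (P 𝒳 𝒴).p.IsHomLift (𝟙 R) χ' := (isHomLift_iff_fst (𝟙 R) χ').mpr hχ₁'l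
        have hχ' : χ' ≫ φ = ψ := by
          apply hom_ext'
          · exact hχ₁'
          · have := congrArg (fun t => t.hom.snd) hχ
            exact this
        have := Functor.IsCartesian.map_uniq (P 𝒳 𝒴).p f φ ψ χ' hχ'
        have h2 := congrArg (fun t => t.hom.fst) this
        exact h2
    · refine { toIsHomLift := hl2, universal_property := ?_ }
      intro b' ψ₂ hψ₂
      have hz : 𝒳.p.obj x.obj.fst = 𝒴.p.obj b' :=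
        (IsHomLift.domain_eq 𝒳.p f φ.hom.fst).trans (IsHomLift.domain_eq 𝒴.p f ψ₂).symm
      set ψ : mkObj x.obj.fst b' hz ⟶ y := mkHom f φ.hom.fst ψ₂ with hψdef
      have hψ : (P 𝒳 𝒴).p.IsHomLift f ψ := (isHomLift_iff_fst f ψ).mpr hl1
      set χ : mkObj x.obj.fst b' hz ⟶ x := Functor.IsCartesian.map (P 𝒳 𝒴).p f φ ψ with hχdef
      have hχl : (P 𝒳 𝒴).p.IsHomLift (𝟙 R) χ := inferInstance
      have hχ : χ ≫ φ = ψ := Functor.IsCartesian.fac (P 𝒳 𝒴).p f φ ψ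
      refine ⟨χ.hom.snd, ⟨isHomLift_snd (𝟙 R) χ, ?_⟩, ?_⟩
      · have := congrArg (fun t => t.hom.snd) hχ
        exact this
      · rintro χ₂' ⟨hχ₂'l, hχ₂'⟩
        have hs : 𝒳.p.IsHomLift (𝟙 R) χ.hom.fst := isHomLift_fst (𝟙 R) χ
        set χ' : mkObj x.obj.fst b' hz ⟶ x := mkHom (𝟙 R) χ.hom.fst χ₂' with hχ'def
        have hχ'l : (P 𝒳 𝒴).p.IsHomLift (𝟙 R) χ' := (isHomLift_iff_fst (𝟙 R) χ').mpr hs
        have hχ' : χ' ≫ φ = ψ := by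
          apply hom_ext'
          · have := congrArg (fun t => t.hom.fst) hχ
            exact this
          · exact hχ₂'
        have := Functor.IsCartesian.map_uniq (P 𝒳 𝒴).p f φ ψ χ' hχ'
        have h2 := congrArg (fun t => t.hom.snd) this
        exact h2
  · rintro ⟨hc1, hc2⟩
    have hl : (P 𝒳 𝒴).p.IsHomLift f φ := (isHomLift_iff_fst f φ).mpr inferInstance
    refine { toIsHomLift := hl, universal_property := ?_ }
    intro z ψ hψ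
    have hψ1 : 𝒳.p.IsHomLift f ψ.hom.fst := isHomLift_fst f ψ
    have hψ2 : 𝒴.p.IsHomLift f ψ.hom.snd := isHomLift_snd f ψ
    set χ₁ := Functor.IsCartesian.map 𝒳.p f φ.hom.fst ψ.hom.fst with hχ₁def
    set χ₂ := Functor.IsCartesian.map 𝒴.p f φ.hom.snd ψ.hom.snd with hχ₂def
    have hχ₁l : 𝒳.p.IsHomLift (𝟙 R) χ₁ := inferInstance
    have hχ₂l : 𝒴.p.IsHomLift (𝟙 R) χ₂ := inferInstance
    refine ⟨mkHom (𝟙 R) χ₁ χ₂, ⟨(isHomLift_iff_fst (𝟙 R) _).mpr hχ₁l, ?_⟩, ?_⟩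
    · apply hom_ext'
      · exact Functor.IsCartesian.fac 𝒳.p f φ.hom.fst ψ.hom.fst
      · exact Functor.IsCartesian.fac 𝒴.p f φ.hom.snd ψ.hom.snd
    · rintro χ' ⟨hχ'l, hχ'⟩
      have h1 : 𝒳.p.IsHomLift (𝟙 R) χ'.hom.fst := isHomLift_fst (𝟙 R) χ'
      have h2 : 𝒴.p.IsHomLift (𝟙 R) χ'.hom.snd := isHomLift_snd (𝟙 R) χ'
      apply hom_ext'
      · exact Functor.IsCartesian.map_uniq 𝒳.p f φ.hom.fst ψ.hom.fst χ'.hom.fst
          (congrArg (fun t => t.hom.fst) hχ')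
      · exact Functor.IsCartesian.map_uniq 𝒴.p f φ.hom.snd ψ.hom.snd χ'.hom.snd
          (congrArg (fun t => t.hom.snd) hχ')

end Groth.Agent.Lib.Helper24.FibCatFp
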