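import Groth.Prelude.Def_W4stkcategoriessitesFib
import Groth.Agent.Lib.Helper24.FibCatEquiv2
import Groth.Agent.Lib.Helper24.FibGrpd
import Mathlib.CategoryTheory.Limits.Preserves.Shapes.Terminal
import Mathlib.CategoryTheory.Limits.Preserves.Limits
import Mathlib.CategoryTheory.Adjunction.Limits
set_option autoImplicit false
open CategoryTheory CategoryTheory.Limits
universe u v u₂ v₂

namespace Groth.Agent.Lib.Helper24.FibCatRep
open Groth.Agent.Lib.Helper24.FibCatEquiv Groth.Agent.Lib.Helper24.FibGrpd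

variable {C : Type u} [Category.{v} C] {𝒳 : BasedCategory.{v₂, u₂} C}

lemma eqToHom_aux {A B : C} (h : A = B) (h1 : B = A) (h2 : B = B) :
    𝟙 B = eqToHom h1 ≫ eqToHom h ≫ eqToHom h2 := by
  subst h; simp

theorem exists_isTerminal_of_isRepresentable (h : FibCat.IsRepresentable 𝒳) :
    ∃ ξ : 𝒳.obj, Nonempty (IsTerminal ξ) := by
  obtain ⟨U, F, hF⟩ := h
  obtain ⟨G, ⟨α⟩, ⟨β⟩⟩ := hF
  let α' : F.toFunctor ⋙ G.toFunctor ≅ 𝟭 𝒳.obj := (BasedNatTrans.forgetful 𝒳 𝒳).mapIso α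
  let β' : G.toFunctor ⋙ F.toFunctor ≅ 𝟭 (Over U) :=
    (BasedNatTrans.forgetful (FibCat.overCat U) (FibCat.overCat U)).mapIso β
  let E : 𝒳.obj ≌ Over U := CategoryTheory.Equivalence.mk F.toFunctor G.toFunctor α'.symm β'
  have hE : G.toFunctor.IsEquivalence := E.isEquivalence_inverse
  exact ⟨G.toFunctor.obj (Over.mk (𝟙 U)), ⟨IsTerminal.isTerminalObj G.toFunctor _ Over.mkIdTerminal⟩⟩

section
variable (h𝒳 : FibCat.IsFibGrpd 𝒳.p) {ξ : 𝒳.obj} (hξ : IsTerminal ξ)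

/-- the functor to the slice over the image of a terminal object -/
def toOver : 𝒳 ⥤ᵇ FibCat.overCat (𝒳.p.obj ξ) where
  toFunctor :=
    { obj := fun x => Over.mk (𝒳.p.map (hξ.from x))
      map := fun {x y} φ => Over.homMk (𝒳.p.map φ) (by
        change 𝒳.p.map φ ≫ 𝒳.p.map (hξ.from y) = 𝒳.p.map (hξ.from x)
        rw [← Functor.map_comp]
        congr 1
        exact hξ.hom_ext _ _)
      map_id := fun x => by
        apply Over.OverMorphism.ext
        exact 𝒳.p.map_id x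
      map_comp := fun f g => by
        apply Over.OverMorphism.ext
        exact 𝒳.p.map_comp f g }
  w := rfl

include h𝒳 in
theorem toOver_faithful : (toOver hξ).toFunctor.Faithful := by
  constructor
  intro x y f g hfg
  have h1 : 𝒳.p.map f = 𝒳.p.map g := congrArg (fun t => t.left) hfg
  have hs := h𝒳.isStronglyCartesian (hξ.from y)
  obtain ⟨χ, _, hu⟩ := Functor.IsStronglyCartesian.universal_property 𝒳.p (𝒳.p.map (hξ.from y))
    (hξ.from y) (𝒳.p.map f) (𝒳.p.map (f ≫ hξ.from y)) (𝒳.p.map_comp _ _) (f ≫ hξ.from y)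
  have e1 : f = χ := hu f ⟨inferInstance, rfl⟩
  have e2 : g = χ := by
    refine hu g ⟨?_, hξ.hom_ext _ _⟩
    rw [h1]; infer_instance
  rw [e1, e2]

include h𝒳 in
theorem toOver_full : (toOver hξ).toFunctor.Full := by
  constructor
  intro x y m
  have hs := h𝒳.isStronglyCartesian (hξ.from y)
  obtain ⟨g, hg⟩ : ∃ g : 𝒳.p.obj x ⟶ 𝒳.p.obj y, g = m.left := ⟨_, rfl⟩
  have hm : g ≫ 𝒳.p.map (hξ.from y) = 𝒳.p.map (hξ.from x) := by
    rw [hg]; exact Over.w m
  obtain ⟨χ, ⟨hχ, _⟩, _⟩ := Functor.IsStronglyCartesian.universal_property 𝒳.p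
    (𝒳.p.map (hξ.from y)) (hξ.from y) g (𝒳.p.map (hξ.from x)) hm.symm (hξ.from x)
  refine ⟨χ, ?_⟩
  apply Over.OverMorphism.ext
  change 𝒳.p.map χ = m.left
  have := IsHomLift.fac 𝒳.p g χ
  rw [← hg]
  simpa using this.symm

include h𝒳 hξ in
theorem isRepresentable_of_isTerminal : FibCat.IsRepresentable 𝒳 := by
  have h1 := toOver_faithful h𝒳 hξ
  have h2 := toOver_full h𝒳 hξ
  refine ⟨𝒳.p.obj ξ, toOver hξ, ?_⟩
  have key : ∀ η : Over (𝒳.p.obj ξ), ∃ (x : 𝒳.obj) (e : (toOver hξ).toFunctor.obj x ≅ η),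
      (Over.forget (𝒳.p.obj ξ)).IsHomLift (𝟙 η.left) e.hom := by
    intro η
    obtain ⟨y, φ, hφ⟩ := h𝒳.exists_lift (x := ξ) η.hom
    have hV : 𝒳.p.obj y = η.left := IsHomLift.domain_eq 𝒳.p η.hom φ
    have hfac : 𝒳.p.map φ = eqToHom hV ≫ η.hom := by
      have := IsHomLift.fac' 𝒳.p η.hom φ
      simpa using this
    have hφ' : hξ.from y = φ := hξ.hom_ext _ _
    obtain ⟨e, he⟩ : ∃ e : (Over.mk (𝒳.p.map (hξ.from y)) : Over (𝒳.p.obj ξ)) ≅ η,
        e.hom.left = eqToHom hV := by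
      refine ⟨Over.isoMk (eqToIso hV) ?_, rfl⟩
      change eqToHom hV ≫ η.hom = 𝒳.p.map (hξ.from y)
      rw [hφ', hfac]
    refine ⟨y, e, ?_⟩
    refine IsHomLift.of_fac _ _ _ hV rfl ?_
    change 𝟙 η.left = eqToHom _ ≫ e.hom.left ≫ eqToHom _
    rw [he]
    exact eqToHom_aux hV _ _
  choose x e he using key
  exact isEquivOver_of_liftData (F := toOver hξ) ⟨x, e, he⟩

end

end Groth.Agent.Lib.Helper24.FibCatRep
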