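import Groth.Agent.Lib.Helper24.FibSet3
import Groth.Agent.Lib.Helper24.FibCatFpGen
set_option autoImplicit false
open CategoryTheory
universe u v u₂ v₂ u₃ v₃

namespace Groth.Agent.Lib.Helper24.FibSet
open Groth.Agent.Lib.Helper24.FibGrpd

section over
variable {C : Type u} [Category.{v} C]

lemma over_sigma_ext {U : C} {η : Over U} {ξ ξ' : Over U} (φ : ξ ⟶ η) (φ' : ξ' ⟶ η)
    (h : ξ.left = ξ'.left) (h' : φ.left = eqToHom h ≫ φ'.left) :
    (⟨ξ, φ⟩ : Σ ξ : Over U, ξ ⟶ η) = ⟨ξ', φ'⟩ := by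
  obtain ⟨l, ⟨⟨⟩⟩, hom⟩ := ξ
  obtain ⟨l', ⟨⟨⟩⟩, hom'⟩ := ξ'
  change l = l' at h
  subst h
  rw [eqToHom_refl, Category.id_comp] at h'
  have e : hom = hom' := by
    have h1 : φ.left ≫ η.hom = hom := Over.w φ
    have h2 : φ'.left ≫ η.hom = hom' := Over.w φ'
    rw [← h1, ← h2, h']
  subst e
  congr 1
  ext
  exact h'

lemma uniqueLifts_overForget (U : C) : UniqueLifts (Over.forget U) := by
  intro η V f
  obtain ⟨f', hf'⟩ : ∃ f' : V ⟶ η.left, f' = f := ⟨f, rfl⟩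
  subst hf'
  refine ⟨⟨Over.mk (f' ≫ η.hom), Over.homMk f' rfl⟩, ?_, ?_⟩
  · exact IsHomLift.map (p := Over.forget U) (Over.homMk f' rfl : Over.mk (f' ≫ η.hom) ⟶ η)
  · rintro ⟨ξ, φ⟩ hφ
    have hφ' : (Over.forget U).IsHomLift f' φ := hφ
    have h1 : ξ.left = V := IsHomLift.domain_eq (Over.forget U) f' φ
    refine over_sigma_ext φ _ h1 ?_
    have h2 := IsHomLift.fac' (Over.forget U) f' φ
    rw [Over.forget_map] at h2
    rw [h2]
    congr 1
    exact Category.comp_id f'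

lemma isFibSet_overForget (U : C) : FibCat.IsFibSet (Over.forget U) :=
  isFibSet_of_uniqueLifts _ (uniqueLifts_overForget U)

theorem isFibGrpd_of_comp_overForget {𝒮 : Type u₂} [Category.{v₂} 𝒮] {U : C} (p' : 𝒮 ⥤ Over U)
    (h : FibCat.IsFibGrpd (p' ⋙ Over.forget U)) : FibCat.IsFibGrpd p' :=
  (isFibGrpd_comp_iff (Over.forget U) p' (uniqueLifts_overForget U)).mpr h

end over

section compose
variable {𝒜 : Type u} [Category.{v} 𝒜] {ℬ : Type u₂} [Category.{v₂} ℬ] {𝒞 : Type u₃}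
  [Category.{v₃} 𝒞] (F : 𝒜 ⥤ ℬ) (G : ℬ ⥤ 𝒞)

theorem isFibGrpd_comp (hF : FibCat.IsFibGrpd F) (hG : FibCat.IsFibGrpd G) :
    FibCat.IsFibGrpd (F ⋙ G) := by
  constructor
  · intro x V f
    obtain ⟨y, g, hg⟩ := hG.exists_lift (x := F.obj x) f
    obtain ⟨z, φ, hφ⟩ := hF.exists_lift g
    refine ⟨z, φ, ?_⟩
    rw [isHomLift_comp_iff]
    have h1 := IsHomLift.fac' F g φ
    rw [h1]; infer_instance
  · intro y x φ
    have hl : (F ⋙ G).IsHomLift ((F ⋙ G).map φ) φ := inferInstance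
    refine { toIsHomLift := hl, universal_property' := ?_ }
    intro z h ψ hψ
    rw [isHomLift_comp_iff, Functor.comp_map] at hψ
    have hGs : G.IsStronglyCartesian (G.map (F.map φ)) (F.map φ) := hG.isStronglyCartesian _
    have hFs : F.IsStronglyCartesian (F.map φ) φ := hF.isStronglyCartesian _
    obtain ⟨h', ⟨hh'1, hh'2⟩, hu'⟩ :=
      Functor.IsStronglyCartesian.universal_property G (G.map (F.map φ)) (F.map φ) h
        (h ≫ G.map (F.map φ)) rfl (F.map ψ)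
    have hψ2 : F.IsHomLift (h' ≫ F.map φ) ψ := by rw [hh'2]; infer_instance
    obtain ⟨χ, ⟨hχ1, hχ2⟩, hu⟩ :=
      Functor.IsStronglyCartesian.universal_property F (F.map φ) φ h' (h' ≫ F.map φ) rfl ψ
    refine ⟨χ, ⟨?_, hχ2⟩, ?_⟩
    · rw [isHomLift_comp_iff]
      have h1 := IsHomLift.fac' F h' χ
      rw [h1]; infer_instance
    · rintro χ' ⟨hχ'1, hχ'2⟩
      rw [isHomLift_comp_iff] at hχ'1
      have h3 : F.map χ' = h' := hu' (F.map χ') ⟨hχ'1, by rw [← F.map_comp, hχ'2]⟩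
      have h4 : F.IsHomLift h' χ' := by rw [← h3]; infer_instance
      exact hu χ' ⟨h4, hχ'2⟩

end compose

end Groth.Agent.Lib.Helper24.FibSet

namespace Groth.Agent.Lib.Helper24.FibSet
open Groth.Agent.Lib.Helper24.FibGrpd

section fp
variable {C : Type u} [Category.{v} C]
variable {𝒳 : BasedCategory.{v₂, u₂} C} {𝒴 : BasedCategory.{v₃, u₃} C}

theorem isFibGrpd_fpFst_overCat (h𝒳 : FibCat.IsFibGrpd 𝒳.p) (h𝒴 : FibCat.IsFibGrpd 𝒴.p)
    (F : 𝒳 ⥤ᵇ 𝒴) (U : C) (G : FibCat.overCat U ⥤ᵇ 𝒴) :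
    FibCat.IsFibGrpd (FibCat.fpFst G F).toFunctor := by
  have hU : UniqueLifts (FibCat.overCat U).p := uniqueLifts_overForget U
  have hU' : FibCat.IsFibGrpd (FibCat.overCat U).p := (isFibSet_of_uniqueLifts _ hU).1
  refine (isFibGrpd_comp_iff (FibCat.overCat U).p (FibCat.fpFst G F).toFunctor hU).mpr ?_
  rw [(FibCat.fpFst G F).w]
  exact Groth.Agent.Lib.Helper24.FibCatFpGen.isFibGrpd_fp G F hU' h𝒳 h𝒴

end fp
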