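import Groth.Prelude.Def_W4stkcategoriessitesFib
import Groth.Agent.Lib.Helper24.FibCatRep
import Groth.Agent.Lib.Helper24.FibCatDiag
import Groth.Agent.Lib.Helper24.FibCatFp
import Groth.Agent.Lib.Helper24.FibSet4
import Groth.Agent.Lib.Helper24.FibCatInertia
import Mathlib.CategoryTheory.Limits.Constructions.Equalizers
set_option autoImplicit false
set_option linter.unusedSectionVars false
open CategoryTheory CategoryTheory.Limits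
universe u v u₂ v₂ u₃ v₃ u₄ v₄

noncomputable section

namespace Groth.Agent.Lib.Helper24.FibCatRepDiag
open Groth.Agent.Lib.Helper24.FibCatFpGen Groth.Agent.Lib.Helper24.FibGrpd

variable {C : Type u} [Category.{v} C]

/-- `Over.map f` as a functor over `C` -/
def overMap {A B : C} (f : A ⟶ B) : FibCat.overCat A ⥤ᵇ FibCat.overCat B :=
  ⟨Over.map f, Over.mapForget_eq f⟩

lemma isHomLift_selfOver_eqToHom {X Y Z : C} (h : X = Y) (hZ : X = Z) :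
    (FibCat.selfOver C).p.IsHomLift (𝟙 Z)
      (eqToHom h : (show (FibCat.selfOver C).obj from X) ⟶ Y) := by
  subst h hZ
  exact IsHomLift.id (p := (FibCat.selfOver C).p) rfl

section wrappers
variable {𝒳 : Type u₂} [Category.{v₂} 𝒳] (p : 𝒳 ⥤ C)

lemma comp_id_right {R S : C} (f : R ⟶ S) {a b c : 𝒳} (φ : a ⟶ b) (ψ : b ⟶ c)
    (h1 : p.IsHomLift f φ) (h2 : p.IsHomLift (𝟙 S) ψ) : p.IsHomLift f (φ ≫ ψ) :=
  IsHomLift.comp_lift_id_right' (p := p) f φ S ψ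

lemma comp_id_left {R S : C} (f : R ⟶ S) {a b c : 𝒳} (φ : a ⟶ b) (ψ : b ⟶ c)
    (h1 : p.IsHomLift (𝟙 R) φ) (h2 : p.IsHomLift f ψ) : p.IsHomLift f (φ ≫ ψ) :=
  IsHomLift.comp_lift_id_left' (p := p) R φ f ψ

lemma comp_lift {R S T : C} (f : R ⟶ S) (g : S ⟶ T) {a b c : 𝒳} (φ : a ⟶ b) (ψ : b ⟶ c)
    (h1 : p.IsHomLift f φ) (h2 : p.IsHomLift g ψ) : p.IsHomLift (f ≫ g) (φ ≫ ψ) :=
  inferInstance

lemma map_lift {𝒜 : BasedCategory.{v₃, u₃} C} {ℬ : BasedCategory.{v₄, u₄} C} (F : 𝒜 ⥤ᵇ ℬ) {R S : C} (f : R ⟶ S) {a b : 𝒜.obj}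
    (φ : a ⟶ b) (h : 𝒜.p.IsHomLift f φ) : ℬ.p.IsHomLift f (F.toFunctor.map φ) :=
  inferInstance

lemma over_lift {U : C} {a b : Over U} (m : a ⟶ b) {R S : C} (f : R ⟶ S) (hR : a.left = R)
    (hS : b.left = S) (hf : m.left = eqToHom hR ≫ f ≫ eqToHom hS.symm) :
    (FibCat.overCat U).p.IsHomLift f m := by
  subst hR hS
  have : f = (FibCat.overCat U).p.map m := by
    change f = m.left
    rw [hf]; simp
  subst this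
  exact IsHomLift.map (p := (FibCat.overCat U).p) m

lemma over_lift_left {U : C} {a b : Over U} (m : a ⟶ b) {R S : C} (f : R ⟶ S)
    (h : (FibCat.overCat U).p.IsHomLift f m) :
    m.left = eqToHom (IsHomLift.domain_eq (FibCat.overCat U).p f m) ≫ f ≫
      eqToHom (IsHomLift.codomain_eq (FibCat.overCat U).p f m).symm :=
  IsHomLift.fac' (FibCat.overCat U).p f m

lemma over_left_of_lift {U : C} {a b : Over U} (m : a ⟶ b) {R : C} (f : R ⟶ b.left)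
    (h : (Over.forget U).IsHomLift f m) (hR : a.left = R) : m.left = eqToHom hR ≫ f := by
  have h1 := IsHomLift.fac (Over.forget U) f m
  subst hR
  dsimp only [Over.forget_obj, Over.forget_map] at h1
  rw [h1]
  simp

lemma lift_aux [HasBinaryProducts C] {V U W T T' : C} (αl : T ⟶ W) (c₀ : W ⟶ V ⨯ U) (xa : T ⟶ V)
    (xb : T' ⟶ U) (hT : T = T') (βl : T' ⟶ W) (h1 : αl ≫ (c₀ ≫ prod.fst) = xa)
    (h2 : βl ≫ (c₀ ≫ prod.snd) = xb) (h3 : βl = eqToHom hT.symm ≫ αl) :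
    αl ≫ c₀ = prod.lift xa (eqToHom hT ≫ xb) := by
  subst hT
  simp only [eqToHom_refl, Category.id_comp] at h3 ⊢
  subst h3
  apply prod.hom_ext
  · rw [prod.lift_fst, Category.assoc, h1]
  · rw [prod.lift_snd, Category.assoc, h2]

lemma eqToHom_comp_eq {T T' W : C} (hT : T = T') (αl : T ⟶ W) (βl : T' ⟶ W)
    (h3 : βl = eqToHom hT.symm ≫ αl) : αl = eqToHom hT ≫ βl := by
  subst hT; simpa using h3.symm

lemma over_left_of_lift₂ {U : C} {a b : Over U} (m : a ⟶ b) {S : C} (f : a.left ⟶ S)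
    (h : (Over.forget U).IsHomLift f m) (hS : b.left = S) : m.left = f ≫ eqToHom hS.symm := by
  subst hS
  have h1 : f = eqToHom (rfl : a.left = a.left) ≫ m.left ≫ eqToHom (rfl : b.left = b.left) :=
    IsHomLift.fac (Over.forget U) f m
  simp only [eqToHom_refl, Category.id_comp, Category.comp_id] at h1 ⊢
  exact h1.symm

lemma eq_aux {T A W W' : C} (αl : A ⟶ W) (βl : A ⟶ W') (hW : W = W') (a₀ : W ⟶ T) (b₀ : W' ⟶ T)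
    (c : A ⟶ T) (h1 : αl ≫ a₀ = c) (h2 : βl ≫ b₀ = c) (h3 : βl = αl ≫ eqToHom hW) :
    αl ≫ a₀ = αl ≫ eqToHom hW ≫ b₀ := by
  subst hW
  simp only [eqToHom_refl, Category.comp_id] at h3
  subst h3
  rw [h1, ← h2]
  simp

lemma over_lift_self {U : C} {a b : Over U} (m : a ⟶ b) :
    (FibCat.overCat U).p.IsHomLift m.left m :=
  IsHomLift.map (p := (FibCat.overCat U).p) m

lemma over_lift_id {U : C} {a b : Over U} (m : a ⟶ b) (h : a.left = b.left)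
    (hm : m.left = eqToHom h) : (FibCat.overCat U).p.IsHomLift (𝟙 a.left) m :=
  over_lift m (𝟙 a.left) rfl h.symm (by rw [hm]; simp)

end wrappers

section abstract_lemmas
variable {D : Type u₂} [Category.{v₂} D] {E₁ : Type u₃} [Category.{v₃} E₁] {E₂ : Type u₄}
  [Category.{v₄} E₂] (F₁ : E₁ ⥤ D) (F₂ : E₂ ⥤ D)

lemma aux1 {a' a p : E₁} {b' b q : E₂} (ia : a' ≅ a) (ib : b' ≅ b) (g₁ : a' ⟶ p) (g₂ : b' ⟶ q)
    {s : D} (φ : F₁.obj a ⟶ F₂.obj b) (θ₁ : F₁.obj p ≅ s) (θ₂ : F₂.obj q ≅ s) (σ : F₂.obj b ⟶ s)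
    (e1 : F₁.map g₁ ≫ θ₁.hom = (F₁.map ia.hom ≫ φ) ≫ σ)
    (e2 : F₂.map g₂ ≫ θ₂.hom = F₂.map ib.hom ≫ σ) :
    F₁.map (ia.inv ≫ g₁) ≫ (θ₁.hom ≫ θ₂.inv) = φ ≫ F₂.map (ib.inv ≫ g₂) := by
  have e3 : σ ≫ θ₂.inv = F₂.map ib.inv ≫ F₂.map g₂ := by
    rw [Iso.comp_inv_eq, Category.assoc, e2, ← Category.assoc, ← Functor.map_comp, Iso.inv_hom_id,
      F₂.map_id, Category.id_comp]
  rw [Functor.map_comp, Functor.map_comp, Category.assoc, ← Category.assoc (F₁.map g₁), e1,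
    Category.assoc, Category.assoc, e3, ← Category.assoc (F₁.map ia.inv), ← Functor.map_comp,
    Iso.inv_hom_id, F₁.map_id, Category.id_comp]

lemma aux2 {a' a p : E₁} {b' b q : E₂} (ia : a' ≅ a) (ib : b' ≅ b) (α' : a ⟶ p) (β' : b ⟶ q)
    (γ₁ : a' ⟶ p) (γ₂ : b' ⟶ q) (h₁ : γ₁ = ia.hom ≫ α') (h₂ : γ₂ = ib.hom ≫ β')
    {s : D} (φ : F₁.obj a ⟶ F₂.obj b) (θ₁ : F₁.obj p ≅ s) (θ₂ : F₂.obj q ≅ s)
    (w : F₁.map α' ≫ (θ₁.hom ≫ θ₂.inv) = φ ≫ F₂.map β') :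
    F₁.map γ₁ ≫ θ₁.hom = (F₁.map ia.hom ≫ φ) ≫ (F₂.map β' ≫ θ₂.hom) ∧
      F₂.map γ₂ ≫ θ₂.hom = F₂.map ib.hom ≫ (F₂.map β' ≫ θ₂.hom) := by
  subst h₁ h₂
  constructor
  · rw [Functor.map_comp, Category.assoc, Category.assoc, ← Category.assoc φ, ← w]
    simp
  · rw [Functor.map_comp, Category.assoc]

lemma aux3 {B : Type u} [Category.{v} B] (p : D ⥤ B) (F₁ F₂ : E₁ ⥤ D) {R R' S : B} (f : R ⟶ S)
    (k : R' ⟶ R)
    {c c₁ a₀ b₀ : E₁} (γ : c ⟶ c₁) (εa : c₁ ⟶ a₀) (εb : c₁ ⟶ b₀) (α : c ⟶ a₀) (β : c ⟶ b₀)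
    (hα : γ ≫ εa = α) (hβ : γ ≫ εb = β) {s : D} (ϑ₁ : F₁.obj c ≅ s) (ϑ₂ : F₂.obj c ≅ s)
    (χ : F₁.obj c₁ ≅ F₂.obj c₁) (φ₀ : F₁.obj a₀ ⟶ F₂.obj b₀)
    (hχ : χ.hom ≫ F₂.map εb = F₁.map εa ≫ φ₀)
    (hm : F₁.map α ≫ φ₀ = (ϑ₁.hom ≫ ϑ₂.inv) ≫ F₂.map β)
    (hsc : p.IsStronglyCartesian f (F₂.map εb)) (hl1 : p.IsHomLift k (F₁.map γ ≫ χ.hom))
    (hl2 : p.IsHomLift k (ϑ₁.hom ≫ ϑ₂.inv ≫ F₂.map γ)) :
    F₁.map γ ≫ χ.hom = ϑ₁.hom ≫ ϑ₂.inv ≫ F₂.map γ := by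
  apply Functor.IsStronglyCartesian.ext p f (F₂.map εb) k
  subst hα hβ
  rw [Category.assoc, hχ, ← Category.assoc, ← Functor.map_comp, hm, Functor.map_comp]
  simp only [Category.assoc]

lemma aux4 (F₁ F₂ : E₁ ⥤ D) {c c₁ a₀ b₀ : E₁} (γ' : c ⟶ c₁) (εa : c₁ ⟶ a₀) (εb : c₁ ⟶ b₀)
    {s : D} (ϑ₁ : F₁.obj c ≅ s) (ϑ₂ : F₂.obj c ≅ s)
    (χ : F₁.obj c₁ ≅ F₂.obj c₁) (φ₀ : F₁.obj a₀ ⟶ F₂.obj b₀) (σ' : s ⟶ F₂.obj c₁)
    (hχ : χ.hom ≫ F₂.map εb = F₁.map εa ≫ φ₀)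
    (w1 : F₁.map γ' ≫ χ.hom = ϑ₁.hom ≫ σ') (w2 : F₂.map γ' ≫ 𝟙 _ = ϑ₂.hom ≫ σ') :
    F₁.map (γ' ≫ εa) ≫ φ₀ = (ϑ₁.hom ≫ ϑ₂.inv) ≫ F₂.map (γ' ≫ εb) := by
  have hσ : σ' = ϑ₂.inv ≫ F₂.map γ' := by
    rw [Category.comp_id] at w2
    rw [w2, Iso.inv_hom_id_assoc]
  subst hσ
  rw [Functor.map_comp, Category.assoc, ← hχ, ← Category.assoc, w1, Functor.map_comp]
  simp only [Category.assoc]

lemma aux5 (F₂ : E₁ ⥤ D) {c c₁ : E₁} (γ' : c ⟶ c₁) {s : D} (ϑ₂ : F₂.obj c ≅ s)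
    (σ' : s ⟶ F₂.obj c₁) (w2 : F₂.map γ' ≫ 𝟙 _ = ϑ₂.hom ≫ σ') : ϑ₂.inv ≫ F₂.map γ' = σ' := by
  rw [Category.comp_id] at w2
  rw [w2, Iso.inv_hom_id_assoc]

lemma aux6 (F₂ : E₁ ⥤ D) {c c₁ : E₁} (γ : c ⟶ c₁) {s : D} (ϑ₂ : F₂.obj c ≅ s) :
    F₂.map γ ≫ 𝟙 _ = ϑ₂.hom ≫ ϑ₂.inv ≫ F₂.map γ := by
  rw [Category.comp_id, Iso.hom_inv_id_assoc]

end abstract_lemmas

section pair
variable {𝒲 : BasedCategory.{v₄, u₄} C} {𝒳 : BasedCategory.{v₂, u₂} C} {𝒴 : BasedCategory.{v₃, u₃} C}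
  (a : 𝒲 ⥤ᵇ 𝒳) (b : 𝒲 ⥤ᵇ 𝒴)

lemma pair_naturality {w w' : 𝒲.obj} (g : w ⟶ w') :
    𝒳.p.map (a.toFunctor.map g) ≫ eqToHom ((a.w_obj w').trans (b.w_obj w').symm) =
      eqToHom ((a.w_obj w).trans (b.w_obj w).symm) ≫ 𝒴.p.map (b.toFunctor.map g) :=
  FibCatFp.comm_of_eqToHom _ _ _ _ (𝒲.p.map g) (a.w_obj w) (a.w_obj w')
    (Functor.congr_hom a.w g) (Functor.congr_hom b.w g)

/-- the canonical 2-isomorphism between two functors to the base -/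
def pairIso : BasedFunctor.comp a (FibCat.toSelf 𝒳) ≅ BasedFunctor.comp b (FibCat.toSelf 𝒴) :=
  BasedNatIso.mkNatIso
    (NatIso.ofComponents (fun w => (eqToIso ((a.w_obj w).trans (b.w_obj w).symm) :
        (show (FibCat.selfOver C).obj from 𝒳.p.obj (a.toFunctor.obj w)) ≅ 𝒴.p.obj (b.toFunctor.obj w)))
      (fun g => pair_naturality a b g))
    (fun w => isHomLift_selfOver_eqToHom ((a.w_obj w).trans (b.w_obj w).symm) (a.w_obj w))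

/-- the functor to the product over `C` -/
def pair : 𝒲 ⥤ᵇ FibCatFp.P 𝒳 𝒴 := FibCat.fpLift a b (pairIso a b)

lemma pair_obj_fst (w : 𝒲.obj) : ((pair a b).toFunctor.obj w).obj.fst = a.toFunctor.obj w := rfl
lemma pair_obj_snd (w : 𝒲.obj) : ((pair a b).toFunctor.obj w).obj.snd = b.toFunctor.obj w := rfl
lemma pair_map_fst {w w' : 𝒲.obj} (g : w ⟶ w') :
    ((pair a b).toFunctor.map g).hom.fst = a.toFunctor.map g := rfl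
lemma pair_map_snd {w w' : 𝒲.obj} (g : w ⟶ w') :
    ((pair a b).toFunctor.map g).hom.snd = b.toFunctor.map g := rfl
end pair


section dir1
variable {𝒮 : BasedCategory.{v₂, u₂} C}

/-- the diagonal of `𝒮` over `C` -/
abbrev Δ (𝒮 : BasedCategory.{v₂, u₂} C) : 𝒮 ⥤ᵇ FibCatFp.P 𝒮 𝒮 := FibCat.diag (FibCat.toSelf 𝒮)

/-- components of an isomorphism `x ≅ Δ s` in `𝒮 ×_C 𝒮` -/
lemma exists_components {x : (FibCatFp.P 𝒮 𝒮).obj} {s : 𝒮.obj} (θ : x ≅ (Δ 𝒮).toFunctor.obj s) :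
    ∃ (θ₁ : x.obj.fst ≅ s) (θ₂ : x.obj.snd ≅ s), θ₁.hom = θ.hom.hom.fst ∧ θ₂.hom = θ.hom.hom.snd :=
  ⟨(FibCat.fpFst _ _).toFunctor.mapIso θ, (FibCat.fpSnd _ _).toFunctor.mapIso θ, rfl, rfl⟩

/-- morphisms of `𝒮 ×_C 𝒮` with explicit lifting hypotheses -/
def mkHomP {x y : (FibCatFp.P 𝒮 𝒮).obj} {R S : C} (f : R ⟶ S) (a : x.obj.fst ⟶ y.obj.fst)
    (b : x.obj.snd ⟶ y.obj.snd) (ha : 𝒮.p.IsHomLift f a) (hb : 𝒮.p.IsHomLift f b) : x ⟶ y :=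
  FibCatFp.mkHom f a b

lemma mkHomP_fst {x y : (FibCatFp.P 𝒮 𝒮).obj} {R S : C} (f : R ⟶ S) (a : x.obj.fst ⟶ y.obj.fst)
    (b : x.obj.snd ⟶ y.obj.snd) (ha : 𝒮.p.IsHomLift f a) (hb : 𝒮.p.IsHomLift f b) :
    (mkHomP f a b ha hb).hom.fst = a := rfl

lemma mkHomP_snd {x y : (FibCatFp.P 𝒮 𝒮).obj} {R S : C} (f : R ⟶ S) (a : x.obj.fst ⟶ y.obj.fst)
    (b : x.obj.snd ⟶ y.obj.snd) (ha : 𝒮.p.IsHomLift f a) (hb : 𝒮.p.IsHomLift f b) :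
    (mkHomP f a b ha hb).hom.snd = b := rfl

lemma inv_lift {a b : 𝒮.obj} {R : C} (θ : a ≅ b) (h : 𝒮.p.IsHomLift (𝟙 R) θ.hom) :
    𝒮.p.IsHomLift (𝟙 R) θ.inv := inferInstance

/-- an isomorphism `x ≅ Δ s` from components over the identity -/
def mkIsoΔ {x : (FibCatFp.P 𝒮 𝒮).obj} {s : 𝒮.obj} {R : C} (θ₁ : x.obj.fst ≅ s) (θ₂ : x.obj.snd ≅ s)
    (h1 : 𝒮.p.IsHomLift (𝟙 R) θ₁.hom) (h2 : 𝒮.p.IsHomLift (𝟙 R) θ₂.hom) :
    x ≅ (Δ 𝒮).toFunctor.obj s where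
  hom := mkHomP (x := x) (y := (Δ 𝒮).toFunctor.obj s) (𝟙 R) θ₁.hom θ₂.hom h1 h2
  inv := mkHomP (x := (Δ 𝒮).toFunctor.obj s) (y := x) (𝟙 R) θ₁.inv θ₂.inv (inv_lift θ₁ h1)
    (inv_lift θ₂ h2)
  hom_inv_id := by
    apply FibCatFp.hom_ext'
    · exact θ₁.hom_inv_id
    · exact θ₂.hom_inv_id
  inv_hom_id := by
    apply FibCatFp.hom_ext'
    · exact θ₁.inv_hom_id
    · exact θ₂.inv_hom_id

lemma mkIsoΔ_hom_fst {x : (FibCatFp.P 𝒮 𝒮).obj} {s : 𝒮.obj} {R : C} (θ₁ : x.obj.fst ≅ s)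
    (θ₂ : x.obj.snd ≅ s) (h1 : 𝒮.p.IsHomLift (𝟙 R) θ₁.hom) (h2 : 𝒮.p.IsHomLift (𝟙 R) θ₂.hom) :
    (mkIsoΔ θ₁ θ₂ h1 h2).hom.hom.fst = θ₁.hom := rfl

lemma mkIsoΔ_hom_snd {x : (FibCatFp.P 𝒮 𝒮).obj} {s : 𝒮.obj} {R : C} (θ₁ : x.obj.fst ≅ s)
    (θ₂ : x.obj.snd ≅ s) (h1 : 𝒮.p.IsHomLift (𝟙 R) θ₁.hom) (h2 : 𝒮.p.IsHomLift (𝟙 R) θ₂.hom) :
    (mkIsoΔ θ₁ θ₂ h1 h2).hom.hom.snd = θ₂.hom := rfl


/-- two morphisms of a slice with the same underlying morphism are equal (heterogeneous helper) -/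
lemma over_hom_ext {U : C} {a b : Over U} {f g : a ⟶ b} (h : f.left = g.left) : f = g :=
  Over.OverMorphism.ext h

/-- the functor `C/(V × U) ⟶ 𝒮 ×_C 𝒮` induced by `G'` and `G` -/
def pairOver [HasBinaryProducts C] {U V : C} (G' : FibCat.overCat V ⥤ᵇ 𝒮)
    (G : FibCat.overCat U ⥤ᵇ 𝒮) : FibCat.overCat (V ⨯ U) ⥤ᵇ FibCatFp.P 𝒮 𝒮 :=
  pair (BasedFunctor.comp (overMap prod.fst) G') (BasedFunctor.comp (overMap prod.snd) G)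

section
variable [HasBinaryProducts C] {U V : C} (G' : FibCat.overCat V ⥤ᵇ 𝒮) (G : FibCat.overCat U ⥤ᵇ 𝒮)

lemma pairOver_obj_fst (c : Over (V ⨯ U)) : ((pairOver G' G).toFunctor.obj c).obj.fst =
    G'.toFunctor.obj ((Over.map prod.fst).obj c) := rfl
lemma pairOver_obj_snd (c : Over (V ⨯ U)) : ((pairOver G' G).toFunctor.obj c).obj.snd =
    G.toFunctor.obj ((Over.map prod.snd).obj c) := rfl
lemma pairOver_map_fst {c c' : Over (V ⨯ U)} (g : c ⟶ c') :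
    ((pairOver G' G).toFunctor.map g).hom.fst = G'.toFunctor.map ((Over.map prod.fst).map g) := rfl
lemma pairOver_map_snd {c c' : Over (V ⨯ U)} (g : c ⟶ c') :
    ((pairOver G' G).toFunctor.map g).hom.snd = G.toFunctor.map ((Over.map prod.snd).map g) := rfl

section cand
variable (ξ₀ : (FibCat.fp (pairOver G' G) (Δ 𝒮)).obj)

/-- first component of the structural isomorphism -/
def θ₁ : G'.toFunctor.obj ((Over.map prod.fst).obj ξ₀.obj.fst) ≅ ξ₀.obj.snd :=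
  (FibCat.fpFst _ _).toFunctor.mapIso ξ₀.obj.iso
/-- second component of the structural isomorphism -/
def θ₂ : G.toFunctor.obj ((Over.map prod.snd).obj ξ₀.obj.fst) ≅ ξ₀.obj.snd :=
  (FibCat.fpSnd _ _).toFunctor.mapIso ξ₀.obj.iso

lemma θ₁_hom : (θ₁ G' G ξ₀).hom = ξ₀.obj.iso.hom.hom.fst := rfl
lemma θ₂_hom : (θ₂ G' G ξ₀).hom = ξ₀.obj.iso.hom.hom.snd := rfl

lemma θ₁_isHomLift : 𝒮.p.IsHomLift (𝟙 ξ₀.obj.fst.left) (θ₁ G' G ξ₀).hom := by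
  have h := iso_isHomLift (pairOver G' G) (Δ 𝒮) ξ₀
  exact FibCatFp.isHomLift_fst (𝟙 ξ₀.obj.fst.left) ξ₀.obj.iso.hom (h := h)

lemma θ₂_isHomLift : 𝒮.p.IsHomLift (𝟙 ξ₀.obj.fst.left) (θ₂ G' G ξ₀).hom := by
  have h := iso_isHomLift (pairOver G' G) (Δ 𝒮) ξ₀
  exact FibCatFp.isHomLift_snd (𝟙 ξ₀.obj.fst.left) ξ₀.obj.iso.hom (h := h)

/-- the candidate terminal object of `(C/V) ×_𝒮 (C/U)` -/
def candidate : (FibCat.fp G' G).obj :=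
  mkObj (F := G') (G := G) ((Over.map prod.fst).obj ξ₀.obj.fst) ((Over.map prod.snd).obj ξ₀.obj.fst)
    (θ₁ G' G ξ₀ ≪≫ (θ₂ G' G ξ₀).symm) (by
      have h1 := θ₁_isHomLift G' G ξ₀
      have h2 := inv_lift _ (θ₂_isHomLift G' G ξ₀)
      exact IsHomLift.comp_lift_id_right' (p := 𝒮.p) (𝟙 ξ₀.obj.fst.left) (θ₁ G' G ξ₀).hom
        ξ₀.obj.fst.left (θ₂ G' G ξ₀).inv)

end cand

section test
variable (x : (FibCat.fp G' G).obj)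

lemma left_eq : x.obj.fst.left = x.obj.snd.left := p_eq G' G x

/-- the object of `C/(V × U)` determined by an object of the fibre product -/
def cOf : Over (V ⨯ U) :=
  Over.mk (prod.lift x.obj.fst.hom (eqToHom (left_eq G' G x) ≫ x.obj.snd.hom))

lemma cOf_left : (cOf G' G x).left = x.obj.fst.left := rfl

/-- comparison of the first projection -/
def ia : (Over.map prod.fst).obj (cOf G' G x) ≅ x.obj.fst :=
  Over.isoMk (Iso.refl _) (by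
    change 𝟙 _ ≫ x.obj.fst.hom = prod.lift _ _ ≫ prod.fst
    rw [prod.lift_fst, Category.id_comp])

/-- comparison of the second projection -/
def ib : (Over.map prod.snd).obj (cOf G' G x) ≅ x.obj.snd :=
  Over.isoMk (eqToIso (left_eq G' G x)) (by
    change (eqToIso (left_eq G' G x)).hom ≫ x.obj.snd.hom = prod.lift _ _ ≫ prod.snd
    rw [prod.lift_snd]; rfl)

lemma ia_hom_left : (ia G' G x).hom.left = 𝟙 x.obj.fst.left := rfl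
lemma ib_hom_left : (ib G' G x).hom.left = eqToHom (left_eq G' G x) := rfl

/-- first component -/
def Θ₁ : G'.toFunctor.obj ((Over.map prod.fst).obj (cOf G' G x)) ≅ G.toFunctor.obj x.obj.snd :=
  G'.toFunctor.mapIso (ia G' G x) ≪≫ x.obj.iso
/-- second component -/
def Θ₂ : G.toFunctor.obj ((Over.map prod.snd).obj (cOf G' G x)) ≅ G.toFunctor.obj x.obj.snd :=
  G.toFunctor.mapIso (ib G' G x)

lemma ia_isHomLift : (FibCat.overCat V).p.IsHomLift (𝟙 x.obj.fst.left) (ia G' G x).hom :=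
  over_lift_id _ rfl (ia_hom_left G' G x)

lemma ib_isHomLift : (FibCat.overCat U).p.IsHomLift (𝟙 x.obj.fst.left) (ib G' G x).hom :=
  over_lift_id _ (left_eq G' G x) (ib_hom_left G' G x)

lemma Θ₁_isHomLift : 𝒮.p.IsHomLift (𝟙 x.obj.fst.left) (Θ₁ G' G x).hom :=
  comp_id_right 𝒮.p _ _ _ (map_lift G' _ _ (ia_isHomLift G' G x)) (iso_isHomLift G' G x)

lemma Θ₂_isHomLift : 𝒮.p.IsHomLift (𝟙 x.obj.fst.left) (Θ₂ G' G x).hom :=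
  map_lift G _ _ (ib_isHomLift G' G x)

/-- the test object of `(C/(V × U)) ×_{𝒮 × 𝒮} 𝒮` -/
def testObj : (FibCat.fp (pairOver G' G) (Δ 𝒮)).obj :=
  mkObj (F := pairOver G' G) (G := Δ 𝒮) (cOf G' G x) (G.toFunctor.obj x.obj.snd)
    (mkIsoΔ (x := (pairOver G' G).toFunctor.obj (cOf G' G x)) (Θ₁ G' G x) (Θ₂ G' G x)
      (Θ₁_isHomLift G' G x) (Θ₂_isHomLift G' G x)) (by
      rw [FibCatFp.isHomLift_iff_fst]
      exact Θ₁_isHomLift G' G x)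

end test

section main
variable (ξ₀ : (FibCat.fp (pairOver G' G) (Δ 𝒮)).obj) (hξ₀ : IsTerminal ξ₀)
  (x : (FibCat.fp G' G).obj)

/-- components of the canonical morphism from the test object -/
lemma from_w₁ (m : testObj G' G x ⟶ ξ₀) :
    G'.toFunctor.map ((Over.map prod.fst).map m.hom.fst) ≫ (θ₁ G' G ξ₀).hom =
      (Θ₁ G' G x).hom ≫ m.hom.snd :=
  congrArg (fun t => t.hom.fst) (hom_w m)

lemma from_w₂ (m : testObj G' G x ⟶ ξ₀) :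
    G.toFunctor.map ((Over.map prod.snd).map m.hom.fst) ≫ (θ₂ G' G ξ₀).hom =
      (Θ₂ G' G x).hom ≫ m.hom.snd :=
  congrArg (fun t => t.hom.snd) (hom_w m)

/-- the morphism to the candidate induced by a morphism from the test object -/
def toCandidate (m : testObj G' G x ⟶ ξ₀) : x ⟶ candidate G' G ξ₀ :=
  mkHom (x := x) (y := candidate G' G ξ₀)
    ((ia G' G x).inv ≫ (Over.map prod.fst).map m.hom.fst)
    ((ib G' G x).inv ≫ (Over.map prod.snd).map m.hom.fst)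
    (aux1 G'.toFunctor G.toFunctor (ia G' G x) (ib G' G x) _ _ x.obj.iso.hom (θ₁ G' G ξ₀)
      (θ₂ G' G ξ₀) m.hom.snd (from_w₁ G' G ξ₀ x m) (from_w₂ G' G ξ₀ x m))

lemma snd_left (m' : x ⟶ candidate G' G ξ₀) :
    m'.hom.snd.left = eqToHom (left_eq G' G x).symm ≫ m'.hom.fst.left :=
  over_left_of_lift m'.hom.snd ((FibCat.fp G' G).p.map m') (FibCat.fp_isHomLift_snd G' G m')
    (left_eq G' G x).symm

/-- the morphism of `C/(V × U)` underlying a morphism to the candidate -/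
def γOf (m' : x ⟶ candidate G' G ξ₀) : cOf G' G x ⟶ ξ₀.obj.fst :=
  Over.homMk m'.hom.fst.left
    (lift_aux m'.hom.fst.left ξ₀.obj.fst.hom x.obj.fst.hom x.obj.snd.hom (left_eq G' G x)
      m'.hom.snd.left (Over.w m'.hom.fst) (Over.w m'.hom.snd) (snd_left G' G ξ₀ x m'))

lemma γOf_left (m' : x ⟶ candidate G' G ξ₀) : (γOf G' G ξ₀ x m').left = m'.hom.fst.left := rfl

lemma map_fst_γOf (m' : x ⟶ candidate G' G ξ₀) :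
    (Over.map prod.fst).map (γOf G' G ξ₀ x m') = (ia G' G x).hom ≫ m'.hom.fst := by
  apply Over.OverMorphism.ext
  exact ((congrArg (· ≫ m'.hom.fst.left) (ia_hom_left G' G x)).trans (Category.id_comp _)).symm

lemma map_snd_γOf (m' : x ⟶ candidate G' G ξ₀) :
    (Over.map prod.snd).map (γOf G' G ξ₀ x m') = (ib G' G x).hom ≫ m'.hom.snd := by
  apply Over.OverMorphism.ext
  exact (eqToHom_comp_eq (left_eq G' G x) _ _ (snd_left G' G ξ₀ x m')).trans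
    (congrArg (· ≫ m'.hom.snd.left) (ib_hom_left G' G x)).symm

lemma candidate_w (m' : x ⟶ candidate G' G ξ₀) :
    G'.toFunctor.map m'.hom.fst ≫ ((θ₁ G' G ξ₀).hom ≫ (θ₂ G' G ξ₀).inv) =
      x.obj.iso.hom ≫ G.toFunctor.map m'.hom.snd := hom_w m'

/-- the morphism from the test object induced by a morphism to the candidate -/
def fromTest (m' : x ⟶ candidate G' G ξ₀) : testObj G' G x ⟶ ξ₀ :=
  mkHom (F := pairOver G' G) (G := Δ 𝒮) (x := testObj G' G x) (y := ξ₀) (γOf G' G ξ₀ x m')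
    (G.toFunctor.map m'.hom.snd ≫ (θ₂ G' G ξ₀).hom) (by
      have h := aux2 G'.toFunctor G.toFunctor (ia G' G x) (ib G' G x) m'.hom.fst m'.hom.snd _ _
        (map_fst_γOf G' G ξ₀ x m') (map_snd_γOf G' G ξ₀ x m') x.obj.iso.hom (θ₁ G' G ξ₀)
        (θ₂ G' G ξ₀) (candidate_w G' G ξ₀ x m')
      apply FibCatFp.hom_ext'
      · exact h.1
      · exact h.2)

lemma fromTest_fst (m' : x ⟶ candidate G' G ξ₀) :
    (fromTest G' G ξ₀ x m').hom.fst = γOf G' G ξ₀ x m' := rfl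

include hξ₀ in
theorem toCandidate_from_eq (m' : x ⟶ candidate G' G ξ₀) :
    toCandidate G' G ξ₀ x (hξ₀.from (testObj G' G x)) = m' := by
  have hm : fromTest G' G ξ₀ x m' = hξ₀.from (testObj G' G x) := hξ₀.hom_ext _ _
  rw [← hm]
  apply hom_ext'
  · exact (congrArg ((ia G' G x).inv ≫ ·) (map_fst_γOf G' G ξ₀ x m')).trans
      (Iso.inv_hom_id_assoc _ _)
  · exact (congrArg ((ib G' G x).inv ≫ ·) (map_snd_γOf G' G ξ₀ x m')).trans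
      (Iso.inv_hom_id_assoc _ _)

/-- the candidate is terminal -/
def isTerminalCandidate : IsTerminal (candidate G' G ξ₀) :=
  IsTerminal.ofUniqueHom (fun x => toCandidate G' G ξ₀ x (hξ₀.from (testObj G' G x)))
    (fun x m' => (toCandidate_from_eq G' G ξ₀ hξ₀ x m').symm)

end main

end

theorem exists_isTerminal_fp_of_diag [HasBinaryProducts C]
    (hd : ∀ (T : C) (H : FibCat.overCat T ⥤ᵇ FibCatFp.P 𝒮 𝒮),
      ∃ ξ : (FibCat.fp H (Δ 𝒮)).obj, Nonempty (IsTerminal ξ))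
    {U V : C} (G' : FibCat.overCat V ⥤ᵇ 𝒮) (G : FibCat.overCat U ⥤ᵇ 𝒮) :
    ∃ ξ : (FibCat.fp G' G).obj, Nonempty (IsTerminal ξ) := by
  obtain ⟨ξ₀, ⟨hξ₀⟩⟩ := hd (V ⨯ U) (pairOver G' G)
  exact ⟨candidate G' G ξ₀, ⟨isTerminalCandidate G' G ξ₀ hξ₀⟩⟩

end dir1

section dir2
variable {𝒮 : BasedCategory.{v₂, u₂} C} [HasBinaryProducts C] [HasPullbacks C]

attribute [local instance] hasEqualizers_of_hasPullbacks_and_binary_products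

variable {T : C} (H : FibCat.overCat T ⥤ᵇ FibCatFp.P 𝒮 𝒮)

/-- first component of `H` -/
def H₁ : FibCat.overCat T ⥤ᵇ 𝒮 := BasedFunctor.comp H (FibCat.fpFst _ _)
/-- second component of `H` -/
def H₂ : FibCat.overCat T ⥤ᵇ 𝒮 := BasedFunctor.comp H (FibCat.fpSnd _ _)

lemma H₁_obj (c : Over T) : (H₁ H).toFunctor.obj c = (H.toFunctor.obj c).obj.fst := rfl
lemma H₂_obj (c : Over T) : (H₂ H).toFunctor.obj c = (H.toFunctor.obj c).obj.snd := rfl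
lemma H₁_map {c c' : Over T} (g : c ⟶ c') : (H₁ H).toFunctor.map g = (H.toFunctor.map g).hom.fst := rfl
lemma H₂_map {c c' : Over T} (g : c ⟶ c') : (H₂ H).toFunctor.map g = (H.toFunctor.map g).hom.snd := rfl

section cand
variable (h𝒮 : FibCat.IsFibGrpd 𝒮.p) (ξ₀ : (FibCat.fp (H₁ H) (H₂ H)).obj)

lemma left_eq₂ : ξ₀.obj.fst.left = ξ₀.obj.snd.left := p_eq (H₁ H) (H₂ H) ξ₀

/-- the equalizer of the two structure maps -/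
def E : C := equalizer ξ₀.obj.fst.hom (eqToHom (left_eq₂ H ξ₀) ≫ ξ₀.obj.snd.hom)

/-- the inclusion of the equalizer -/
def e : E H ξ₀ ⟶ ξ₀.obj.fst.left := equalizer.ι _ _

lemma e_condition : e H ξ₀ ≫ ξ₀.obj.fst.hom = e H ξ₀ ≫ eqToHom (left_eq₂ H ξ₀) ≫ ξ₀.obj.snd.hom :=
  equalizer.condition _ _

/-- the equalizer as an object over `T` -/
def c₁ : Over T := Over.mk (e H ξ₀ ≫ ξ₀.obj.fst.hom)

/-- first comparison -/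
def εa : c₁ H ξ₀ ⟶ ξ₀.obj.fst := Over.homMk (e H ξ₀) rfl
/-- second comparison -/
def εb : c₁ H ξ₀ ⟶ ξ₀.obj.snd := Over.homMk (e H ξ₀ ≫ eqToHom (left_eq₂ H ξ₀))
  ((Category.assoc _ _ _).trans (e_condition H ξ₀).symm)

lemma εa_left : (εa H ξ₀).left = e H ξ₀ := rfl
lemma εb_left : (εb H ξ₀).left = e H ξ₀ ≫ eqToHom (left_eq₂ H ξ₀) := rfl

include h𝒮 in
lemma exists_χ : ∃ χ : (H₁ H).toFunctor.obj (c₁ H ξ₀) ≅ (H₂ H).toFunctor.obj (c₁ H ξ₀),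
    𝒮.p.IsHomLift (𝟙 (E H ξ₀)) χ.hom ∧
      χ.hom ≫ (H₂ H).toFunctor.map (εb H ξ₀) = (H₁ H).toFunctor.map (εa H ξ₀) ≫ ξ₀.obj.iso.hom := by
  have h2 : 𝒮.p.IsHomLift (e H ξ₀ ≫ eqToHom (left_eq₂ H ξ₀)) ((H₂ H).toFunctor.map (εb H ξ₀)) :=
    map_lift (H₂ H) _ _ (over_lift_self (εb H ξ₀))
  have hsc : 𝒮.p.IsStronglyCartesian (e H ξ₀ ≫ eqToHom (left_eq₂ H ξ₀))
      ((H₂ H).toFunctor.map (εb H ξ₀)) := scart_of_isFibGrpd 𝒮.p h𝒮 _ _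
  have h1 : 𝒮.p.IsHomLift (e H ξ₀) ((H₁ H).toFunctor.map (εa H ξ₀)) :=
    map_lift (H₁ H) _ _ (over_lift_self (εa H ξ₀))
  have h4 : 𝒮.p.IsHomLift (e H ξ₀) ((H₁ H).toFunctor.map (εa H ξ₀) ≫ ξ₀.obj.iso.hom) :=
    comp_id_right 𝒮.p _ _ _ h1 (iso_isHomLift (H₁ H) (H₂ H) ξ₀)
  have h5 : 𝒮.p.IsHomLift (e H ξ₀ ≫ eqToHom (left_eq₂ H ξ₀))
      ((H₁ H).toFunctor.map (εa H ξ₀) ≫ ξ₀.obj.iso.hom) :=
    (IsHomLift.lift_comp_eqToHom_iff _ _ _ _).mpr h4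
  obtain ⟨χ, ⟨hχ1, hχ2⟩, _⟩ := Functor.IsStronglyCartesian.universal_property 𝒮.p
    (e H ξ₀ ≫ eqToHom (left_eq₂ H ξ₀)) ((H₂ H).toFunctor.map (εb H ξ₀)) (𝟙 (E H ξ₀))
    (e H ξ₀ ≫ eqToHom (left_eq₂ H ξ₀)) (Category.id_comp _).symm
    ((H₁ H).toFunctor.map (εa H ξ₀) ≫ ξ₀.obj.iso.hom)
  have : IsIso χ := isIso_of_isFibGrpd 𝒮.p h𝒮 (𝟙 (E H ξ₀)) χ
  exact ⟨asIso χ, hχ1, hχ2⟩

/-- the comparison isomorphism over the equalizer -/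
def χ : (H₁ H).toFunctor.obj (c₁ H ξ₀) ≅ (H₂ H).toFunctor.obj (c₁ H ξ₀) :=
  (exists_χ H h𝒮 ξ₀).choose

lemma χ_isHomLift : 𝒮.p.IsHomLift (𝟙 (E H ξ₀)) (χ H h𝒮 ξ₀).hom :=
  (exists_χ H h𝒮 ξ₀).choose_spec.1

lemma χ_fac : (χ H h𝒮 ξ₀).hom ≫ (H₂ H).toFunctor.map (εb H ξ₀) =
    (H₁ H).toFunctor.map (εa H ξ₀) ≫ ξ₀.obj.iso.hom :=
  (exists_χ H h𝒮 ξ₀).choose_spec.2

lemma id_isHomLift₂ : 𝒮.p.IsHomLift (𝟙 (E H ξ₀)) (Iso.refl ((H₂ H).toFunctor.obj (c₁ H ξ₀))).hom := by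
  have h : 𝒮.p.obj ((H₂ H).toFunctor.obj (c₁ H ξ₀)) = E H ξ₀ := (H₂ H).w_obj (c₁ H ξ₀)
  exact IsHomLift.id h

/-- the candidate terminal object of `(C/T) ×_{𝒮 × 𝒮} 𝒮` -/
def candidate₂ : (FibCat.fp H (Δ 𝒮)).obj :=
  mkObj (F := H) (G := Δ 𝒮) (c₁ H ξ₀) ((H₂ H).toFunctor.obj (c₁ H ξ₀))
    (mkIsoΔ (x := H.toFunctor.obj (c₁ H ξ₀)) (χ H h𝒮 ξ₀) (Iso.refl _) (χ_isHomLift H h𝒮 ξ₀)
      (id_isHomLift₂ H ξ₀)) (by
      rw [FibCatFp.isHomLift_iff_fst]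
      exact χ_isHomLift H h𝒮 ξ₀)

end cand

section test
variable (y : (FibCat.fp H (Δ 𝒮)).obj)

/-- first component of the structural isomorphism of `y` -/
def ϑ₁ : (H₁ H).toFunctor.obj y.obj.fst ≅ y.obj.snd :=
  (FibCat.fpFst _ _).toFunctor.mapIso y.obj.iso
/-- second component of the structural isomorphism of `y` -/
def ϑ₂ : (H₂ H).toFunctor.obj y.obj.fst ≅ y.obj.snd :=
  (FibCat.fpSnd _ _).toFunctor.mapIso y.obj.iso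

lemma ϑ₁_hom : (ϑ₁ H y).hom = y.obj.iso.hom.hom.fst := rfl
lemma ϑ₂_hom : (ϑ₂ H y).hom = y.obj.iso.hom.hom.snd := rfl

lemma ϑ₁_isHomLift : 𝒮.p.IsHomLift (𝟙 y.obj.fst.left) (ϑ₁ H y).hom := by
  have h := iso_isHomLift H (Δ 𝒮) y
  exact FibCatFp.isHomLift_fst (𝟙 y.obj.fst.left) y.obj.iso.hom (h := h)

lemma ϑ₂_isHomLift : 𝒮.p.IsHomLift (𝟙 y.obj.fst.left) (ϑ₂ H y).hom := by
  have h := iso_isHomLift H (Δ 𝒮) y
  exact FibCatFp.isHomLift_snd (𝟙 y.obj.fst.left) y.obj.iso.hom (h := h)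

/-- the test object of `(C/T) ×_𝒮 (C/T)` -/
def testObj₂ : (FibCat.fp (H₁ H) (H₂ H)).obj :=
  mkObj (F := H₁ H) (G := H₂ H) y.obj.fst y.obj.fst (ϑ₁ H y ≪≫ (ϑ₂ H y).symm)
    (comp_id_right 𝒮.p _ _ _ (ϑ₁_isHomLift H y) (inv_lift _ (ϑ₂_isHomLift H y)))

end test

section main
variable (h𝒮 : FibCat.IsFibGrpd 𝒮.p) (ξ₀ : (FibCat.fp (H₁ H) (H₂ H)).obj) (hξ₀ : IsTerminal ξ₀)
  (y : (FibCat.fp H (Δ 𝒮)).obj)

lemma snd_left₂ (m : testObj₂ H y ⟶ ξ₀) :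
    m.hom.snd.left = m.hom.fst.left ≫ eqToHom (left_eq₂ H ξ₀) :=
  over_left_of_lift₂ m.hom.snd ((FibCat.fp (H₁ H) (H₂ H)).p.map m)
    (FibCat.fp_isHomLift_snd (H₁ H) (H₂ H) m) (left_eq₂ H ξ₀).symm

/-- the induced morphism to the equalizer -/
def kOf (m : testObj₂ H y ⟶ ξ₀) : y.obj.fst.left ⟶ E H ξ₀ :=
  equalizer.lift m.hom.fst.left
    (eq_aux m.hom.fst.left m.hom.snd.left (left_eq₂ H ξ₀) ξ₀.obj.fst.hom ξ₀.obj.snd.hom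
      y.obj.fst.hom (Over.w m.hom.fst) (Over.w m.hom.snd) (snd_left₂ H ξ₀ y m))

lemma kOf_e (m : testObj₂ H y ⟶ ξ₀) : kOf H ξ₀ y m ≫ e H ξ₀ = m.hom.fst.left :=
  equalizer.lift_ι _ _

/-- the induced morphism of `C/T` -/
def γ₂ (m : testObj₂ H y ⟶ ξ₀) : y.obj.fst ⟶ c₁ H ξ₀ :=
  Over.homMk (kOf H ξ₀ y m) ((Category.assoc _ _ _).symm.trans
    ((congrArg (· ≫ ξ₀.obj.fst.hom) (kOf_e H ξ₀ y m)).trans (Over.w m.hom.fst)))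

lemma γ₂_left (m : testObj₂ H y ⟶ ξ₀) : (γ₂ H ξ₀ y m).left = kOf H ξ₀ y m := rfl

lemma γ₂_εa (m : testObj₂ H y ⟶ ξ₀) : γ₂ H ξ₀ y m ≫ εa H ξ₀ = m.hom.fst := by
  apply Over.OverMorphism.ext
  exact kOf_e H ξ₀ y m

lemma γ₂_εb (m : testObj₂ H y ⟶ ξ₀) : γ₂ H ξ₀ y m ≫ εb H ξ₀ = m.hom.snd := by
  apply Over.OverMorphism.ext
  exact (Category.assoc _ _ _).symm.trans
    ((congrArg (· ≫ eqToHom (left_eq₂ H ξ₀)) (kOf_e H ξ₀ y m)).trans (snd_left₂ H ξ₀ y m).symm)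

lemma testObj₂_w (m : testObj₂ H y ⟶ ξ₀) :
    (H₁ H).toFunctor.map m.hom.fst ≫ ξ₀.obj.iso.hom =
      ((ϑ₁ H y).hom ≫ (ϑ₂ H y).inv) ≫ (H₂ H).toFunctor.map m.hom.snd := hom_w m

/-- the morphism to the candidate induced by a morphism from the test object -/
def toCand₂ (m : testObj₂ H y ⟶ ξ₀) : y ⟶ candidate₂ H h𝒮 ξ₀ :=
  mkHom (F := H) (G := Δ 𝒮) (x := y) (y := candidate₂ H h𝒮 ξ₀) (γ₂ H ξ₀ y m)
    ((ϑ₂ H y).inv ≫ (H₂ H).toFunctor.map (γ₂ H ξ₀ y m)) (by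
      have hsc : 𝒮.p.IsStronglyCartesian (e H ξ₀ ≫ eqToHom (left_eq₂ H ξ₀))
          ((H₂ H).toFunctor.map (εb H ξ₀)) := by
        have h2 : 𝒮.p.IsHomLift (e H ξ₀ ≫ eqToHom (left_eq₂ H ξ₀))
            ((H₂ H).toFunctor.map (εb H ξ₀)) := map_lift (H₂ H) _ _ (over_lift_self (εb H ξ₀))
        exact scart_of_isFibGrpd 𝒮.p h𝒮 _ _
      have hl1 : 𝒮.p.IsHomLift (kOf H ξ₀ y m)
          ((H₁ H).toFunctor.map (γ₂ H ξ₀ y m) ≫ (χ H h𝒮 ξ₀).hom) :=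
        comp_id_right 𝒮.p _ _ _ (map_lift (H₁ H) _ _ (over_lift_self (γ₂ H ξ₀ y m)))
          (χ_isHomLift H h𝒮 ξ₀)
      have hl2 : 𝒮.p.IsHomLift (kOf H ξ₀ y m)
          ((ϑ₁ H y).hom ≫ (ϑ₂ H y).inv ≫ (H₂ H).toFunctor.map (γ₂ H ξ₀ y m)) :=
        comp_id_left 𝒮.p _ _ _ (ϑ₁_isHomLift H y)
          (comp_id_left 𝒮.p _ _ _ (inv_lift _ (ϑ₂_isHomLift H y))
            (map_lift (H₂ H) _ _ (over_lift_self (γ₂ H ξ₀ y m))))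
      apply FibCatFp.hom_ext'
      · exact aux3 𝒮.p (H₁ H).toFunctor (H₂ H).toFunctor _ (kOf H ξ₀ y m) (γ₂ H ξ₀ y m) (εa H ξ₀)
          (εb H ξ₀) m.hom.fst m.hom.snd (γ₂_εa H ξ₀ y m) (γ₂_εb H ξ₀ y m) (ϑ₁ H y) (ϑ₂ H y)
          (χ H h𝒮 ξ₀) ξ₀.obj.iso.hom (χ_fac H h𝒮 ξ₀) (testObj₂_w H ξ₀ y m) hsc hl1 hl2
      · exact aux6 (H₂ H).toFunctor (γ₂ H ξ₀ y m) (ϑ₂ H y))

lemma cand₂_w₁ (m' : y ⟶ candidate₂ H h𝒮 ξ₀) :
    (H₁ H).toFunctor.map m'.hom.fst ≫ (χ H h𝒮 ξ₀).hom = (ϑ₁ H y).hom ≫ m'.hom.snd :=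
  congrArg (fun t => t.hom.fst) (hom_w m')

lemma cand₂_w₂ (m' : y ⟶ candidate₂ H h𝒮 ξ₀) :
    (H₂ H).toFunctor.map m'.hom.fst ≫ 𝟙 _ = (ϑ₂ H y).hom ≫ m'.hom.snd :=
  congrArg (fun t => t.hom.snd) (hom_w m')

/-- the morphism from the test object induced by a morphism to the candidate -/
def fromCand₂ (m' : y ⟶ candidate₂ H h𝒮 ξ₀) : testObj₂ H y ⟶ ξ₀ :=
  mkHom (F := H₁ H) (G := H₂ H) (x := testObj₂ H y) (y := ξ₀) (m'.hom.fst ≫ εa H ξ₀)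
    (m'.hom.fst ≫ εb H ξ₀)
    (aux4 (H₁ H).toFunctor (H₂ H).toFunctor m'.hom.fst (εa H ξ₀) (εb H ξ₀) (ϑ₁ H y) (ϑ₂ H y)
      (χ H h𝒮 ξ₀) ξ₀.obj.iso.hom m'.hom.snd (χ_fac H h𝒮 ξ₀) (cand₂_w₁ H h𝒮 ξ₀ y m')
      (cand₂_w₂ H h𝒮 ξ₀ y m'))

lemma fromCand₂_fst (m' : y ⟶ candidate₂ H h𝒮 ξ₀) :
    (fromCand₂ H h𝒮 ξ₀ y m').hom.fst = m'.hom.fst ≫ εa H ξ₀ := rfl

lemma γ₂_fromCand₂ (m' : y ⟶ candidate₂ H h𝒮 ξ₀) :
    γ₂ H ξ₀ y (fromCand₂ H h𝒮 ξ₀ y m') = m'.hom.fst := by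
  apply Over.OverMorphism.ext
  apply equalizer.hom_ext
  exact (kOf_e H ξ₀ y (fromCand₂ H h𝒮 ξ₀ y m'))

include hξ₀ in
theorem toCand₂_from_eq (m' : y ⟶ candidate₂ H h𝒮 ξ₀) :
    toCand₂ H h𝒮 ξ₀ y (hξ₀.from (testObj₂ H y)) = m' := by
  have hm : fromCand₂ H h𝒮 ξ₀ y m' = hξ₀.from (testObj₂ H y) := hξ₀.hom_ext _ _
  rw [← hm]
  apply hom_ext'
  · exact γ₂_fromCand₂ H h𝒮 ξ₀ y m'
  · exact (congrArg (fun t => (ϑ₂ H y).inv ≫ (H₂ H).toFunctor.map t)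
      (γ₂_fromCand₂ H h𝒮 ξ₀ y m')).trans
      (aux5 (H₂ H).toFunctor m'.hom.fst (ϑ₂ H y) m'.hom.snd (cand₂_w₂ H h𝒮 ξ₀ y m'))

/-- the candidate is terminal -/
def isTerminalCandidate₂ : IsTerminal (candidate₂ H h𝒮 ξ₀) :=
  IsTerminal.ofUniqueHom (fun y => toCand₂ H h𝒮 ξ₀ y (hξ₀.from (testObj₂ H y)))
    (fun y m' => (toCand₂_from_eq H h𝒮 ξ₀ hξ₀ y m').symm)

end main

theorem exists_isTerminal_diag_of_fp (h𝒮 : FibCat.IsFibGrpd 𝒮.p)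
    (hall : ∀ (U V : C) (G' : FibCat.overCat V ⥤ᵇ 𝒮) (G : FibCat.overCat U ⥤ᵇ 𝒮),
      ∃ ξ : (FibCat.fp G' G).obj, Nonempty (IsTerminal ξ))
    {T : C} (H : FibCat.overCat T ⥤ᵇ FibCatFp.P 𝒮 𝒮) :
    ∃ ξ : (FibCat.fp H (Δ 𝒮)).obj, Nonempty (IsTerminal ξ) := by
  obtain ⟨ξ₀, ⟨hξ₀⟩⟩ := hall T T (H₁ H) (H₂ H)
  exact ⟨candidate₂ H h𝒮 ξ₀, ⟨isTerminalCandidate₂ H h𝒮 ξ₀ hξ₀⟩⟩

end dir2

open Groth.Agent.Lib.Helper24.FibCatRep Groth.Agent.Lib.Helper24.FibSet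
  Groth.Agent.Lib.Helper24.FibCatInertia in
theorem isRepresentable1_diag_iff [HasBinaryProducts C] [HasPullbacks C]
    {𝒮 : BasedCategory.{v₂, u₂} C} (h𝒮 : FibCat.IsFibGrpd 𝒮.p) :
    FibCat.IsRepresentable1 (FibCat.diag (FibCat.toSelf 𝒮)) ↔
      ∀ (U : C) (G : FibCat.overCat U ⥤ᵇ 𝒮), FibCat.IsRepresentable1 G := by
  have hover : ∀ U : C, FibCat.IsFibGrpd (FibCat.overCat U).p := fun U => (isFibSet_overForget U).1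
  have hP : FibCat.IsFibGrpd (FibCatFp.P 𝒮 𝒮).p :=
    isFibGrpd_fp (FibCat.toSelf 𝒮) (FibCat.toSelf 𝒮) h𝒮 h𝒮 isFibGrpd_selfOver
  constructor
  · intro hd U G V G'
    have hd' : ∀ (T : C) (H : FibCat.overCat T ⥤ᵇ FibCatFp.P 𝒮 𝒮),
        ∃ ξ : (FibCat.fp H (Δ 𝒮)).obj, Nonempty (IsTerminal ξ) :=
      fun T H => exists_isTerminal_of_isRepresentable (hd T H)
    obtain ⟨ξ, ⟨hξ⟩⟩ := exists_isTerminal_fp_of_diag hd' G' G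
    exact isRepresentable_of_isTerminal (isFibGrpd_fp G' G (hover V) (hover U) h𝒮) hξ
  · intro hall T H
    have hall' : ∀ (U V : C) (G' : FibCat.overCat V ⥤ᵇ 𝒮) (G : FibCat.overCat U ⥤ᵇ 𝒮),
        ∃ ξ : (FibCat.fp G' G).obj, Nonempty (IsTerminal ξ) :=
      fun U V G' G => exists_isTerminal_of_isRepresentable (hall U G V G')
    obtain ⟨ξ, ⟨hξ⟩⟩ := exists_isTerminal_diag_of_fp h𝒮 hall' H
    exact isRepresentable_of_isTerminal (isFibGrpd_fp H (Δ 𝒮) (hover T) h𝒮 hP) hξ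

end Groth.Agent.Lib.Helper24.FibCatRepDiag
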