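import Groth.Agent.Lib.Helper24.AlgStRep
import Groth.Agent.Lib.Helper24.FibCatRepDiag
set_option autoImplicit false
open CategoryTheory AlgebraicGeometry
universe u v u₂ v₂ u₃ v₃ u₄ v₄ u₅ v₅
set_option backward.isDefEq.respectTransparency false
set_option backward.isDefEq.respectTransparency.types false

namespace Groth.Agent.Lib.Helper24.FibCatDiagSq
open Groth.Agent.Lib.Helper24.FibCatFpMap Groth.Agent.Lib.Helper24.FibCatEquiv
open Groth.Agent.Lib.Helper24.FibCatFpGen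

variable {C : Type u} [Category.{v} C]
variable {𝒳 : BasedCategory.{v₂, u₂} C} {𝒴 : BasedCategory.{v₃, u₃} C}
  {𝒮 : BasedCategory.{v₄, u₄} C} {𝒮' : BasedCategory.{v₅, u₅} C}
  (F' : 𝒳 ⥤ᵇ 𝒮') (F : 𝒴 ⥤ᵇ 𝒮) (e : 𝒳 ⥤ᵇ 𝒴) (s : 𝒮' ⥤ᵇ 𝒮)
  (eF : BasedFunctor.comp F' s ≅ BasedFunctor.comp e F)

/-- component of `diagSqIso` -/
def diagSqApp (x : 𝒳.obj) :
    (fpMap e e s eF eF).toFunctor.obj ((FibCat.diag F').toFunctor.obj x) ≅
      (FibCat.diag F).toFunctor.obj (e.toFunctor.obj x) :=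
  Groth.Agent.Lib.Helper24.FibCatDiag.mkIso
    (x := (fpMap e e s eF eF).toFunctor.obj ((FibCat.diag F').toFunctor.obj x))
    (y := (FibCat.diag F).toFunctor.obj (e.toFunctor.obj x))
    (Iso.refl _) (Iso.refl _) (by
      change F.toFunctor.map (𝟙 (e.toFunctor.obj x)) ≫ 𝟙 _ =
        (mapIso e e s eF eF ((FibCat.diag F').toFunctor.obj x)).hom ≫
          F.toFunctor.map (𝟙 (e.toFunctor.obj x))
      rw [mapIso_hom]
      change _ = ((appIso₂ eF x).inv ≫ s.toFunctor.map (𝟙 _) ≫ (appIso₂ eF x).hom) ≫ _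
      simp
      exact (F.toFunctor.map_id _).symm)

/-- the diagonal commutes with the functor induced on fibre products by a square -/
def diagSqIso : BasedFunctor.comp (FibCat.diag F') (fpMap e e s eF eF) ≅
    BasedFunctor.comp e (FibCat.diag F) :=
  BasedNatIso.mkNatIso
    (NatIso.ofComponents (fun x => diagSqApp F' F e s eF x) (by
      intro x y f
      apply hom_ext'
      · change e.toFunctor.map f ≫ 𝟙 _ = 𝟙 _ ≫ e.toFunctor.map f
        simp
      · change e.toFunctor.map f ≫ 𝟙 _ = 𝟙 _ ≫ e.toFunctor.map f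
        simp))
    (by
      intro x
      change (FibCat.fp F F).p.IsHomLift (𝟙 (𝒳.p.obj x)) (diagSqApp F' F e s eF x).hom
      rw [isHomLift_iff_fst]
      change 𝒴.p.IsHomLift (𝟙 (𝒳.p.obj x)) (𝟙 (e.toFunctor.obj x))
      rw [← e.w_obj x]
      infer_instance)

end Groth.Agent.Lib.Helper24.FibCatDiagSq
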