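import Groth.Prelude.Def_FibCat2
import Mathlib.CategoryTheory.FiberedCategory.BasedCategory
import Mathlib.CategoryTheory.FiberedCategory.Fibered
import Mathlib.CategoryTheory.FiberedCategory.Cartesian
import Mathlib.CategoryTheory.Equivalence

set_option autoImplicit false
set_option linter.unusedSectionVars false
open CategoryTheory
universe u v u₂ v₂ u₃ v₃

namespace Groth.Agent.Lib.Helper24.FibCatEquiv

variable {C : Type u} [Category.{v} C]
variable {𝒳 : BasedCategory.{v₂, u₂} C} {𝒴 : BasedCategory.{v₃, u₃} C} (F : 𝒳 ⥤ᵇ 𝒴)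

/-- A choice, for every object of `𝒴`, of a preimage up to an isomorphism over the identity. -/
structure LiftData where
  ξ : 𝒴.obj → 𝒳.obj
  e : ∀ η, F.toFunctor.obj (ξ η) ≅ η
  he : ∀ η, 𝒴.p.IsHomLift (𝟙 (𝒴.p.obj η)) (e η).hom

variable {F}
variable (D : LiftData F) [F.toFunctor.Full] [F.toFunctor.Faithful]

/-- the quasi-inverse functor determined by lift data -/
noncomputable abbrev invFunctor : 𝒴.obj ⥤ 𝒳.obj where
  obj := D.ξ
  map {η η'} f := F.toFunctor.preimage ((D.e η).hom ≫ f ≫ (D.e η').inv)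
  map_id η := by
    apply F.toFunctor.map_injective
    simp
  map_comp f g := by
    apply F.toFunctor.map_injective
    simp

@[simp] lemma map_invFunctor_map {η η' : 𝒴.obj} (f : η ⟶ η') :
    F.toFunctor.map ((invFunctor D).map f) = (D.e η).hom ≫ f ≫ (D.e η').inv := by
  simp [invFunctor]

lemma invFunctor_isHomLift {η η' : 𝒴.obj} (f : η ⟶ η') :
    𝒳.p.IsHomLift (𝒴.p.map f) ((invFunctor D).map f) := by
  rw [← BasedFunctor.isHomLift_iff F, map_invFunctor_map]
  have h1 := D.he η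
  have h2 := D.he η'
  have h3 : 𝒴.p.IsHomLift (𝟙 (𝒴.p.obj η')) (D.e η').inv := inferInstance
  have h4 : 𝒴.p.IsHomLift (𝒴.p.map f) (f ≫ (D.e η').inv) := inferInstance
  exact IsHomLift.comp_lift_id_left' (p := 𝒴.p) (𝒴.p.obj η) (D.e η).hom (𝒴.p.map f) (f ≫ (D.e η').inv)

lemma p_obj_ξ (η : 𝒴.obj) : 𝒳.p.obj (D.ξ η) = 𝒴.p.obj η := by
  have := D.he η
  rw [← F.w_obj]
  exact IsHomLift.domain_eq 𝒴.p (𝟙 (𝒴.p.obj η)) (D.e η).hom

/-- the quasi-inverse as a based functor -/
noncomputable def inv : 𝒴 ⥤ᵇ 𝒳 where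
  toFunctor := invFunctor D
  w := by
    refine Functor.ext (fun η => p_obj_ξ D η) (fun η η' f => ?_)
    have := invFunctor_isHomLift D f
    exact IsHomLift.fac' 𝒳.p (𝒴.p.map f) ((invFunctor D).map f)

lemma counit_naturality {η η' : 𝒴.obj} (f : η ⟶ η') :
    F.toFunctor.map ((invFunctor D).map f) ≫ (D.e η').hom = (D.e η).hom ≫ f := by
  rw [map_invFunctor_map]; simp

lemma counit_isHomLift (η : 𝒴.obj) :
    𝒴.p.IsHomLift (𝟙 (𝒳.p.obj (D.ξ η))) (D.e η).hom := by
  have := D.he η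
  rw [p_obj_ξ D η]
  exact this

/-- the counit isomorphism -/
noncomputable def counitIso : BasedFunctor.comp (inv D) F ≅ BasedFunctor.id 𝒴 :=
  BasedNatIso.mkNatIso
    (NatIso.ofComponents (fun η => D.e η) (fun {η η'} f => counit_naturality D f))
    (fun η => D.he η)

/-- components of the unit -/
noncomputable def unitApp (x : 𝒳.obj) : D.ξ (F.toFunctor.obj x) ≅ x :=
  F.toFunctor.preimageIso (D.e (F.toFunctor.obj x))

lemma unit_naturality {x x' : 𝒳.obj} (f : x ⟶ x') :
    (invFunctor D).map (F.toFunctor.map f) ≫ (unitApp D x').hom = (unitApp D x).hom ≫ f := by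
  apply F.toFunctor.map_injective
  rw [Functor.map_comp, Functor.map_comp, map_invFunctor_map]
  simp [unitApp]

lemma unit_isHomLift (x : 𝒳.obj) : 𝒳.p.IsHomLift (𝟙 (𝒳.p.obj x)) (unitApp D x).hom := by
  rw [← BasedFunctor.isHomLift_iff F]
  simp only [unitApp, Functor.preimageIso_hom, Functor.map_preimage]
  have := D.he (F.toFunctor.obj x)
  rw [F.w_obj] at this
  exact this

/-- the unit isomorphism -/
noncomputable def unitIso : BasedFunctor.comp F (inv D) ≅ BasedFunctor.id 𝒳 :=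
  BasedNatIso.mkNatIso
    (NatIso.ofComponents (fun x => unitApp D x) (fun f => unit_naturality D f))
    (fun x => unit_isHomLift D x)

theorem isEquivOver_of_liftData (D : LiftData F) : FibCat.IsEquivOver F :=
  ⟨inv D, ⟨unitIso D⟩, ⟨counitIso D⟩⟩

end Groth.Agent.Lib.Helper24.FibCatEquiv

namespace Groth.Agent.Lib.Helper24.FibCatEquiv

variable {C : Type u} [Category.{v} C]
variable {𝒳 : BasedCategory.{v₂, u₂} C} {𝒴 : BasedCategory.{v₃, u₃} C}

/-- an equivalence over `C` is fully faithful and essentially surjective over identities -/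
theorem props_of_isEquivOver (F : 𝒳 ⥤ᵇ 𝒴) (h : FibCat.IsEquivOver F) :
    (F.toFunctor.Full ∧ F.toFunctor.Faithful) ∧
      ∀ η : 𝒴.obj, ∃ (ξ : 𝒳.obj) (e : F.toFunctor.obj ξ ≅ η),
        𝒴.p.IsHomLift (𝟙 (𝒴.p.obj η)) e.hom := by
  obtain ⟨G, ⟨α⟩, ⟨β⟩⟩ := h
  let α' : F.toFunctor ⋙ G.toFunctor ≅ 𝟭 𝒳.obj := (BasedNatTrans.forgetful 𝒳 𝒳).mapIso α
  let β' : G.toFunctor ⋙ F.toFunctor ≅ 𝟭 𝒴.obj := (BasedNatTrans.forgetful 𝒴 𝒴).mapIso β
  let E : 𝒳.obj ≌ 𝒴.obj := CategoryTheory.Equivalence.mk F.toFunctor G.toFunctor α'.symm β'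
  have hE : F.toFunctor.IsEquivalence := E.isEquivalence_functor
  refine ⟨⟨inferInstance, inferInstance⟩, fun η => ⟨G.toFunctor.obj η, β'.app η, ?_⟩⟩
  exact BasedNatTrans.app_isHomLift β.hom η

/-- lift data from an equivalence over `C` -/
noncomputable def liftDataOfIsEquivOver (F : 𝒳 ⥤ᵇ 𝒴) (h : FibCat.IsEquivOver F) : LiftData F :=
  ⟨fun η => ((props_of_isEquivOver F h).2 η).choose,
   fun η => ((props_of_isEquivOver F h).2 η).choose_spec.choose,
   fun η => ((props_of_isEquivOver F h).2 η).choose_spec.choose_spec⟩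

section cart
variable {F : 𝒳 ⥤ᵇ 𝒴} (D : LiftData F) [F.toFunctor.Full] [F.toFunctor.Faithful]

include D in
theorem isCartesian_map_iff {R S : C} {a b : 𝒳.obj} (f : R ⟶ S) (φ : a ⟶ b) :
    𝒴.p.IsCartesian f (F.toFunctor.map φ) ↔ 𝒳.p.IsCartesian f φ := by
  constructor
  · intro hc
    have hlift : 𝒳.p.IsHomLift f φ := (BasedFunctor.isHomLift_iff F f φ).mp inferInstance
    refine { toIsHomLift := hlift, universal_property := ?_ }
    intro a' φ' hφ'
    have : 𝒴.p.IsHomLift f (F.toFunctor.map φ') := inferInstance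
    obtain ⟨χ', ⟨hχ'1, hχ'2⟩, huniq⟩ := hc.universal_property (F.toFunctor.map φ')
    refine ⟨F.toFunctor.preimage χ', ⟨?_, ?_⟩, ?_⟩
    · rw [← BasedFunctor.isHomLift_iff F, Functor.map_preimage]; exact hχ'1
    · apply F.toFunctor.map_injective
      rw [Functor.map_comp, Functor.map_preimage, hχ'2]
    · rintro χ ⟨hχ1, hχ2⟩
      apply F.toFunctor.map_injective
      rw [Functor.map_preimage]
      apply huniq
      refine ⟨inferInstance, ?_⟩
      rw [← Functor.map_comp, hχ2]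
  · intro hc
    have hlift : 𝒴.p.IsHomLift f (F.toFunctor.map φ) := inferInstance
    refine { toIsHomLift := hlift, universal_property := ?_ }
    intro η' ψ' hψ'
    have he := D.he η'
    -- the morphism `F ξ' ⟶ F b`
    have h1 : 𝒴.p.IsHomLift f ((D.e η').hom ≫ ψ') :=
      IsHomLift.comp_lift_id_left' (p := 𝒴.p) (𝒴.p.obj η') (D.e η').hom f ψ'
    set φ'' := F.toFunctor.preimage ((D.e η').hom ≫ ψ') with hφ''
    have h2 : 𝒳.p.IsHomLift f φ'' := by
      rw [← BasedFunctor.isHomLift_iff F, hφ'', Functor.map_preimage]; exact h1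
    obtain ⟨χ, ⟨hχ1, hχ2⟩, huniq⟩ := hc.universal_property φ''
    have hR : 𝒴.p.obj η' = R := IsHomLift.domain_eq 𝒴.p f ψ'
    have hinv : 𝒴.p.IsHomLift (𝟙 R) (D.e η').inv := by
      have : 𝒴.p.IsHomLift (𝟙 (𝒴.p.obj η')) (D.e η').inv := inferInstance
      rw [hR] at this
      exact this
    have hhom : 𝒴.p.IsHomLift (𝟙 R) (D.e η').hom := by
      have := he
      rw [hR] at this
      exact this
    refine ⟨(D.e η').inv ≫ F.toFunctor.map χ, ⟨inferInstance, ?_⟩, ?_⟩
    · rw [Category.assoc, ← Functor.map_comp, hχ2, hφ'', Functor.map_preimage, Iso.inv_hom_id_assoc]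
    · rintro χ'' ⟨hχ''1, hχ''2⟩
      have h3 : 𝒴.p.IsHomLift (𝟙 R) ((D.e η').hom ≫ χ'') := inferInstance
      have h4 : F.toFunctor.preimage ((D.e η').hom ≫ χ'') = χ := by
        apply huniq
        refine ⟨?_, ?_⟩
        · rw [← BasedFunctor.isHomLift_iff F, Functor.map_preimage]; exact h3
        · apply F.toFunctor.map_injective
          rw [Functor.map_comp, Functor.map_preimage, hφ'', Functor.map_preimage, Category.assoc,
            hχ''2]
      rw [← h4, Functor.map_preimage, Iso.inv_hom_id_assoc]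

end cart

end Groth.Agent.Lib.Helper24.FibCatEquiv
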