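import Groth.Prelude.Def_FibCat2
import Groth.Prelude.Def_W4stkcategoriessitesFib
import Groth.Agent.Lib.Helper24.FibGrpd
import Groth.Agent.Lib.Helper24.FibCatFpGen
import Groth.Agent.Lib.Helper24.FibCatEquiv2
set_option autoImplicit false
set_option linter.unusedSectionVars false
open CategoryTheory
universe u v u₂ v₂ u₃ v₃

namespace Groth.Agent.Lib.Helper24.FibSetoid
open Groth.Agent.Lib.Helper24.FibGrpd Groth.Agent.Lib.Helper24.FibCatFpGen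
open Groth.Agent.Lib.Helper24.FibCatEquiv

section plain
variable {C : Type u} [Category.{v} C] {𝒵 : Type u₂} [Category.{v₂} 𝒵] (p : 𝒵 ⥤ C)

/-- in a category fibred in setoids two morphisms over the same base morphism coincide -/
lemma hom_ext_of_isFibSetoid (h : FibCat.IsFibSetoid p) {R S : C} (f : R ⟶ S) {a b : 𝒵}
    (φ ψ : a ⟶ b) [p.IsHomLift f φ] [p.IsHomLift f ψ] : φ = ψ := by
  obtain ⟨hg, ht⟩ := h
  have hs : p.IsStronglyCartesian f ψ := scart_of_isFibGrpd p hg f ψ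
  obtain ⟨χ, ⟨hχl, hχ⟩, _⟩ :=
    Functor.IsStronglyCartesian.universal_property p f ψ (𝟙 R) f (Category.id_comp f).symm φ
  have ha : p.obj a = R := IsHomLift.domain_eq p f φ
  let A : p.Fiber R := Functor.Fiber.mk ha
  let X : A ⟶ A := ⟨χ, hχl⟩
  have hX : X = 𝟙 A := ((ht R) A A).elim _ _
  have hχ1 : χ = 𝟙 a := by
    have h2 : Functor.Fiber.fiberInclusion.map X = Functor.Fiber.fiberInclusion.map (𝟙 A) :=
      congrArg (fun t => Functor.Fiber.fiberInclusion.map t) hX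
    rw [Functor.map_id] at h2
    exact h2
  rw [← hχ, hχ1, Category.id_comp]

end plain

variable {C : Type u} [Category.{v} C]
variable {𝒳 : BasedCategory.{v₂, u₂} C} {𝒴 : BasedCategory.{v₃, u₃} C}

/-- being fibred in groupoids is reflected by equivalences over `C` -/
theorem isFibGrpd_of_isEquivOver (F : 𝒳 ⥤ᵇ 𝒴) (h : FibCat.IsEquivOver F)
    (h𝒴 : FibCat.IsFibGrpd 𝒴.p) : FibCat.IsFibGrpd 𝒳.p := by
  obtain ⟨⟨hfull, hfaith⟩, hess⟩ := props_of_isEquivOver F h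
  constructor
  · intro x V f
    have hx : 𝒴.p.obj (F.toFunctor.obj x) = 𝒳.p.obj x := F.w_obj x
    obtain ⟨η, ψ, hψ⟩ := h𝒴.exists_lift (x := F.toFunctor.obj x) (f ≫ eqToHom hx.symm)
    have hψ' : 𝒴.p.IsHomLift f ψ := (IsHomLift.lift_comp_eqToHom_iff _ _ _ _).mp hψ
    obtain ⟨ξ, e, he⟩ := hess η
    have hV : 𝒴.p.obj η = V := IsHomLift.domain_eq 𝒴.p f ψ
    have h1 : 𝒴.p.IsHomLift f (e.hom ≫ ψ) :=
      IsHomLift.comp_lift_id_left' (p := 𝒴.p) (𝒴.p.obj η) e.hom f ψ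
    refine ⟨ξ, F.toFunctor.preimage (e.hom ≫ ψ), ?_⟩
    rw [← BasedFunctor.isHomLift_iff F, Functor.map_preimage]
    exact h1
  · intro y x φ
    rw [← isStronglyCartesian_map_of_isEquivOver F h]
    exact scart_of_isFibGrpd 𝒴.p h𝒴 _ _

/-- being fibred in setoids is reflected by equivalences over `C` -/
theorem isFibSetoid_of_isEquivOver (F : 𝒳 ⥤ᵇ 𝒴) (h : FibCat.IsEquivOver F)
    (h𝒴 : FibCat.IsFibSetoid 𝒴.p) : FibCat.IsFibSetoid 𝒳.p := by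
  obtain ⟨⟨hfull, hfaith⟩, hess⟩ := props_of_isEquivOver F h
  refine ⟨isFibGrpd_of_isEquivOver F h h𝒴.1, fun U => ?_⟩
  intro a b
  constructor
  intro φ ψ
  apply Functor.Fiber.hom_ext
  apply F.toFunctor.map_injective
  have h1 : 𝒳.p.IsHomLift (𝟙 U) (Functor.Fiber.fiberInclusion.map φ) := φ.2
  have h2 : 𝒳.p.IsHomLift (𝟙 U) (Functor.Fiber.fiberInclusion.map ψ) := ψ.2
  exact hom_ext_of_isFibSetoid 𝒴.p h𝒴 (𝟙 U) _ _

lemma isFibSetoid_of_isFibSet {𝒵 : Type u₂} [Category.{v₂} 𝒵] (p : 𝒵 ⥤ C) (h : FibCat.IsFibSet p) :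
    FibCat.IsFibSetoid p :=
  ⟨h.1, fun U a b => (h.2 U).subsingleton a b⟩

theorem unique_iso_of_fiberwise_iso (h𝒴 : FibCat.IsFibSetoid 𝒴.p) (f g : 𝒳 ⥤ᵇ 𝒴)
    (hfg : ∀ (U : C) (x : 𝒳.p.Fiber U),
      Nonempty ((FibCat.fiberFunctor f U).obj x ≅ (FibCat.fiberFunctor g U).obj x)) :
    Nonempty (Unique (f ≅ g)) := by
  have key : ∀ x : 𝒳.obj, ∃ e : f.toFunctor.obj x ≅ g.toFunctor.obj x,
      𝒴.p.IsHomLift (𝟙 (𝒳.p.obj x)) e.hom := by
    intro x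
    obtain ⟨e⟩ := hfg (𝒳.p.obj x) (Functor.Fiber.mk (p := 𝒳.p) (a := x) rfl)
    exact ⟨Functor.Fiber.fiberInclusion.mapIso e, e.hom.2⟩
  choose e he using key
  have nat : ∀ {x y : 𝒳.obj} (φ : x ⟶ y),
      f.toFunctor.map φ ≫ (e y).hom = (e x).hom ≫ g.toFunctor.map φ := by
    intro x y φ
    have := he x
    have := he y
    have h1 : 𝒴.p.IsHomLift (𝒳.p.map φ) (f.toFunctor.map φ ≫ (e y).hom) :=
      IsHomLift.comp_lift_id_right' (p := 𝒴.p) (𝒳.p.map φ) (f.toFunctor.map φ) (𝒳.p.obj y)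
        (e y).hom
    have h2 : 𝒴.p.IsHomLift (𝒳.p.map φ) ((e x).hom ≫ g.toFunctor.map φ) :=
      IsHomLift.comp_lift_id_left' (p := 𝒴.p) (𝒳.p.obj x) (e x).hom (𝒳.p.map φ)
        (g.toFunctor.map φ)
    exact hom_ext_of_isFibSetoid 𝒴.p h𝒴 (𝒳.p.map φ) _ _
  let E : f ≅ g := BasedNatIso.mkNatIso (NatIso.ofComponents e nat) he
  refine ⟨⟨⟨E⟩, fun E' => ?_⟩⟩
  apply Iso.ext
  apply BasedNatTrans.homCategory.ext
  ext x
  have h1 : 𝒴.p.IsHomLift (𝟙 (𝒳.p.obj x)) (E'.hom.toNatTrans.app x) := inferInstance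
  have h2 : 𝒴.p.IsHomLift (𝟙 (𝒳.p.obj x)) (E.hom.toNatTrans.app x) := inferInstance
  exact hom_ext_of_isFibSetoid 𝒴.p h𝒴 (𝟙 (𝒳.p.obj x)) _ _

end Groth.Agent.Lib.Helper24.FibSetoid
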