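import Groth.Prelude.Def_AlgSt
import Groth.Prelude.Def_FibCat2
import Groth.Agent.Lib.Helper24.FibCatEquiv
import Groth.Agent.Lib.Helper24.FibSetoid
set_option autoImplicit false
set_option linter.unusedSectionVars false
open CategoryTheory
universe v₅ u₅ v₄ u₄ v₃ u₃ v₂ u₂ v u

/-!
# Postcomposition with an equivalence over `C`; invariance of the (pre)stack conditions
-/

set_option backward.isDefEq.respectTransparency false
set_option backward.isDefEq.respectTransparency.types false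

namespace Groth.Agent.Lib.Helper24.StkEquiv
open Groth.Agent.Lib.Helper24.FibCatEquiv

variable {C : Type u} [Category.{v} C]
  {𝒳 : BasedCategory.{v₂, u₂} C} {𝒴 : BasedCategory.{v₃, u₃} C}

/-- postcomposition with a functor over `C` -/
def postcompF (𝒜 : BasedCategory.{v₄, u₄} C) (F : 𝒳 ⥤ᵇ 𝒴) : (𝒜 ⥤ᵇ 𝒳) ⥤ (𝒜 ⥤ᵇ 𝒴) where
  obj H := BasedFunctor.comp H F
  map τ := BasedCategory.whiskerRight τ F
  map_id H := by
    apply BasedNatTrans.homCategory.ext; ext a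
    exact F.toFunctor.map_id _
  map_comp τ σ := by
    apply BasedNatTrans.homCategory.ext; ext a
    exact F.toFunctor.map_comp _ _

lemma postcompF_map_app (𝒜 : BasedCategory.{v₄, u₄} C) (F : 𝒳 ⥤ᵇ 𝒴) {H H' : 𝒜 ⥤ᵇ 𝒳}
    (τ : H ⟶ H') (a : 𝒜.obj) :
    ((postcompF 𝒜 F).map τ).toNatTrans.app a = F.toFunctor.map (τ.toNatTrans.app a) := rfl

instance postcompF_faithful (𝒜 : BasedCategory.{v₄, u₄} C) (F : 𝒳 ⥤ᵇ 𝒴) [F.toFunctor.Faithful] :
    (postcompF 𝒜 F).Faithful := by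
  constructor
  intro H H' τ σ h
  apply BasedNatTrans.homCategory.ext
  ext a
  apply F.toFunctor.map_injective
  exact congrArg (fun t => t.toNatTrans.app a) h

/-- componentwise preimage -/
noncomputable def preApp (𝒜 : BasedCategory.{v₄, u₄} C) (F : 𝒳 ⥤ᵇ 𝒴) [F.toFunctor.Full]
    {H H' : 𝒜 ⥤ᵇ 𝒳} (σ : (postcompF 𝒜 F).obj H ⟶ (postcompF 𝒜 F).obj H') (a : 𝒜.obj) :
    H.toFunctor.obj a ⟶ H'.toFunctor.obj a :=
  F.toFunctor.preimage (σ.toNatTrans.app a)

lemma map_preApp (𝒜 : BasedCategory.{v₄, u₄} C) (F : 𝒳 ⥤ᵇ 𝒴) [F.toFunctor.Full]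
    {H H' : 𝒜 ⥤ᵇ 𝒳} (σ : (postcompF 𝒜 F).obj H ⟶ (postcompF 𝒜 F).obj H') (a : 𝒜.obj) :
    F.toFunctor.map (preApp 𝒜 F σ a) = σ.toNatTrans.app a :=
  F.toFunctor.map_preimage _

instance postcompF_full (𝒜 : BasedCategory.{v₄, u₄} C) (F : 𝒳 ⥤ᵇ 𝒴) [F.toFunctor.Full]
    [F.toFunctor.Faithful] : (postcompF 𝒜 F).Full := by
  constructor
  intro H H' σ
  refine ⟨{ toNatTrans :=
              { app := fun a => preApp 𝒜 F σ a
                naturality := fun {a b} m => by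
                  apply F.toFunctor.map_injective
                  rw [Functor.map_comp, Functor.map_comp, map_preApp, map_preApp]
                  exact σ.toNatTrans.naturality m }
            isHomLift' := fun a => by
              have h1 : 𝒴.p.IsHomLift (𝟙 (𝒜.p.obj a)) (σ.toNatTrans.app a) := σ.isHomLift' a
              rw [← BasedFunctor.isHomLift_iff F]
              change 𝒴.p.IsHomLift (𝟙 (𝒜.p.obj a)) (F.toFunctor.map (preApp 𝒜 F σ a))
              rw [map_preApp]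
              exact h1 }, ?_⟩
  apply BasedNatTrans.homCategory.ext
  ext a
  exact map_preApp 𝒜 F σ a

theorem postcompF_essSurj (𝒜 : BasedCategory.{v₄, u₄} C) (F : 𝒳 ⥤ᵇ 𝒴)
    (hF : FibCat.IsEquivOver F) : (postcompF 𝒜 F).EssSurj := by
  obtain ⟨G, -, ⟨β⟩⟩ := hF
  constructor
  intro K
  refine ⟨BasedFunctor.comp K G, ⟨?_⟩⟩
  let β' : G.toFunctor ⋙ F.toFunctor ≅ 𝟭 𝒴.obj := (BasedNatTrans.forgetful 𝒴 𝒴).mapIso β
  refine BasedNatIso.mkNatIso (Functor.associator _ _ _ ≪≫ Functor.isoWhiskerLeft K.toFunctor β' ≪≫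
    Functor.rightUnitor _) (fun a => ?_)
  have h : 𝒴.p.IsHomLift (𝟙 (𝒜.p.obj a)) (β.hom.toNatTrans.app (K.toFunctor.obj a)) :=
    BasedNatTrans.isHomLift β.hom (K.w_obj a)
  have e : (Functor.associator K.toFunctor G.toFunctor F.toFunctor ≪≫
      Functor.isoWhiskerLeft K.toFunctor β' ≪≫ Functor.rightUnitor _).hom.app a =
      β.hom.toNatTrans.app (K.toFunctor.obj a) := by
    simp [β']
  rw [e]
  exact h

theorem postcompF_isEquivalence (𝒜 : BasedCategory.{v₄, u₄} C) (F : 𝒳 ⥤ᵇ 𝒴)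
    (hF : FibCat.IsEquivOver F) : (postcompF 𝒜 F).IsEquivalence := by
  obtain ⟨⟨_, _⟩, -⟩ := props_of_isEquivOver F hF
  have := postcompF_essSurj 𝒜 F hF
  exact { }

/-- the square of restriction and postcomposition commutes -/
def sqIso {𝒜 : BasedCategory.{v₄, u₄} C} {ℬ : BasedCategory.{v₅, u₅} C} (ι : 𝒜 ⥤ᵇ ℬ)
    (F : 𝒳 ⥤ᵇ 𝒴) :
    Stk.restr ι 𝒳 ⋙ postcompF 𝒜 F ≅ postcompF ℬ F ⋙ Stk.restr ι 𝒴 :=
  NatIso.ofComponents (fun H => Iso.refl _) (fun {H H'} τ => by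
    apply BasedNatTrans.homCategory.ext
    ext a
    change F.toFunctor.map (τ.toNatTrans.app (ι.toFunctor.obj a)) ≫ 𝟙 _ =
      𝟙 _ ≫ F.toFunctor.map (τ.toNatTrans.app (ι.toFunctor.obj a))
    simp)


section Transfer

variable {𝒜 : BasedCategory.{v₄, u₄} C} {ℬ : BasedCategory.{v₅, u₅} C} (ι : 𝒜 ⥤ᵇ ℬ)
  (F : 𝒳 ⥤ᵇ 𝒴) (hF : FibCat.IsEquivOver F)

include hF in
theorem restr_isEquivalence_iff :
    (Stk.restr ι 𝒳).IsEquivalence ↔ (Stk.restr ι 𝒴).IsEquivalence := by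
  have hA := postcompF_isEquivalence 𝒜 F hF
  have hB := postcompF_isEquivalence ℬ F hF
  constructor
  · intro h
    have h1 : (postcompF ℬ F ⋙ Stk.restr ι 𝒴).IsEquivalence :=
      Functor.isEquivalence_of_iso (sqIso ι F)
    exact Functor.isEquivalence_of_comp_left (postcompF ℬ F) (Stk.restr ι 𝒴)
  · intro h
    have h1 : (Stk.restr ι 𝒳 ⋙ postcompF 𝒜 F).IsEquivalence :=
      Functor.isEquivalence_of_iso (sqIso ι F).symm
    exact Functor.isEquivalence_of_comp_right (Stk.restr ι 𝒳) (postcompF 𝒜 F)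

include hF in
theorem restr_full_faithful_iff :
    ((Stk.restr ι 𝒳).Full ∧ (Stk.restr ι 𝒳).Faithful) ↔
      ((Stk.restr ι 𝒴).Full ∧ (Stk.restr ι 𝒴).Faithful) := by
  have hA := postcompF_isEquivalence 𝒜 F hF
  have hB := postcompF_isEquivalence ℬ F hF
  constructor
  · rintro ⟨h1, h2⟩
    have f1 : (postcompF ℬ F ⋙ Stk.restr ι 𝒴).Full := Functor.Full.of_iso (sqIso ι F)
    have f2 : (postcompF ℬ F ⋙ Stk.restr ι 𝒴).Faithful := Functor.Faithful.of_iso (sqIso ι F)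
    let e : (postcompF ℬ F).inv ⋙ postcompF ℬ F ⋙ Stk.restr ι 𝒴 ≅ Stk.restr ι 𝒴 :=
      (postcompF ℬ F).asEquivalence.invFunIdAssoc (Stk.restr ι 𝒴)
    exact ⟨Functor.Full.of_iso e, Functor.Faithful.of_iso e⟩
  · rintro ⟨h1, h2⟩
    have f1 : (Stk.restr ι 𝒳 ⋙ postcompF 𝒜 F).Full := Functor.Full.of_iso (sqIso ι F).symm
    have f2 : (Stk.restr ι 𝒳 ⋙ postcompF 𝒜 F).Faithful := Functor.Faithful.of_iso (sqIso ι F).symm
    exact ⟨Functor.Full.of_comp_faithful (Stk.restr ι 𝒳) (postcompF 𝒜 F),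
      Functor.Faithful.of_comp (Stk.restr ι 𝒳) (postcompF 𝒜 F)⟩

end Transfer

section Stack

variable (J : GrothendieckTopology C) (F : 𝒳 ⥤ᵇ 𝒴) (hF : FibCat.IsEquivOver F)

include hF in
theorem isFibGrpd_iff : FibCat.IsFibGrpd 𝒳.p ↔ FibCat.IsFibGrpd 𝒴.p := by
  constructor
  · intro h
    obtain ⟨G, hG⟩ := Groth.Agent.Lib.Helper24.FibCatEquiv.exists_inverse_isEquivOver F hF
    exact Groth.Agent.Lib.Helper24.FibSetoid.isFibGrpd_of_isEquivOver G hG h
  · exact Groth.Agent.Lib.Helper24.FibSetoid.isFibGrpd_of_isEquivOver F hF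

include hF in
theorem isStack_iff : Stk.IsStack J 𝒳 ↔ Stk.IsStack J 𝒴 := by
  unfold Stk.IsStack Stk.IsStackFor Stk.resSieve
  rw [isFibGrpd_iff F hF]
  refine and_congr Iff.rfl ?_
  refine forall_congr' fun U => forall_congr' fun R => forall_congr' fun _ => ?_
  exact restr_isEquivalence_iff (Stk.sieveIncl R) F hF

include hF in
theorem isPrestack_iff : Stk.IsPrestack J 𝒳 ↔ Stk.IsPrestack J 𝒴 := by
  unfold Stk.IsPrestack Stk.IsPrestackFor Stk.resSieve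
  rw [isFibGrpd_iff F hF]
  refine and_congr Iff.rfl ?_
  refine forall_congr' fun U => forall_congr' fun R => forall_congr' fun _ => ?_
  exact restr_full_faithful_iff (Stk.sieveIncl R) F hF

end Stack

end Groth.Agent.Lib.Helper24.StkEquiv
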