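import Groth.Agent.Lib.Helper24.AlgStRep2
import Groth.Agent.Lib.Helper24.FibCatDiagSq
import Groth.Agent.Lib.Helper24.StkEquiv
set_option autoImplicit false
open CategoryTheory AlgebraicGeometry
universe w₁ v₁ w₂ v₂ u
set_option backward.isDefEq.respectTransparency false
set_option backward.isDefEq.respectTransparency.types false

namespace Groth.Agent.Lib.Helper24.AlgStInv
open Groth.Agent.Lib.Helper24.FibCatFpMap Groth.Agent.Lib.Helper24.FibCatEquiv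
open Groth.Agent.Lib.Helper24.AlgStRep Groth.Agent.Lib.Helper24.FibCatDiagSq

variable {S : Scheme.{u}} {𝒳 : BasedCategory.{v₁, w₁} (Over S)} {𝒴 : BasedCategory.{v₂, w₂} (Over S)}

theorem hasAtlas_of_isEquivOver (P : MorphismProperty (AlgSp.Sp S)) (e : 𝒳 ⥤ᵇ 𝒴)
    (he : FibCat.IsEquivOver e) (h : AlgSt.HasAtlas P 𝒳) : AlgSt.HasAtlas P 𝒴 := by
  obtain ⟨U, x, h1, h2⟩ := h
  refine ⟨U, BasedFunctor.comp x e, ?_, ?_⟩
  · exact (repByAlgSpWith_iff_of_isEquivOver P (BasedFunctor.comp x e) x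
      (BasedFunctor.id (FibCat.overCat U)) e (isEquivOver_id _) he (Iso.refl _)).2 h1
  · exact (repByAlgSpWith_iff_of_isEquivOver _ (BasedFunctor.comp x e) x
      (BasedFunctor.id (FibCat.overCat U)) e (isEquivOver_id _) he (Iso.refl _)).2 h2

theorem hasAtlas_iff_of_isEquivOver (P : MorphismProperty (AlgSp.Sp S)) (e : 𝒳 ⥤ᵇ 𝒴)
    (he : FibCat.IsEquivOver e) : AlgSt.HasAtlas P 𝒳 ↔ AlgSt.HasAtlas P 𝒴 := by
  refine ⟨hasAtlas_of_isEquivOver P e he, ?_⟩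
  obtain ⟨e', he'⟩ := exists_inverse_isEquivOver e he
  exact hasAtlas_of_isEquivOver P e' he'

theorem repByAlgSp1_diag_iff_of_isEquivOver (e : 𝒳 ⥤ᵇ 𝒴) (he : FibCat.IsEquivOver e) :
    AlgSt.RepByAlgSp1 (FibCat.diag (FibCat.toSelf 𝒳)) ↔
      AlgSt.RepByAlgSp1 (FibCat.diag (FibCat.toSelf 𝒴)) := by
  let eF : BasedFunctor.comp (FibCat.toSelf 𝒳) (BasedFunctor.id (FibCat.selfOver (Over S))) ≅
      BasedFunctor.comp e (FibCat.toSelf 𝒴) :=
    Groth.Agent.Lib.Helper24.FibCatRepDiag.pairIso (BasedFunctor.id 𝒳) e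
  have : (BasedFunctor.id (FibCat.selfOver (Over S))).toFunctor.Full :=
    inferInstanceAs (𝟭 (Over S)).Full
  have : (BasedFunctor.id (FibCat.selfOver (Over S))).toFunctor.Faithful :=
    inferInstanceAs (𝟭 (Over S)).Faithful
  have hb := isEquivOver_fpMap e e (BasedFunctor.id (FibCat.selfOver (Over S))) eF eF he he
  exact (repByAlgSp1_iff_of_isEquivOver (FibCat.diag (FibCat.toSelf 𝒴))
    (FibCat.diag (FibCat.toSelf 𝒳)) e _ he hb (diagSqIso _ _ e _ eF)).symm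

theorem isAlgStack_iff_of_isEquivOver (K : Precoverage Scheme.{u}) (e : 𝒳 ⥤ᵇ 𝒴)
    (he : FibCat.IsEquivOver e) : AlgSt.IsAlgStack K 𝒳 ↔ AlgSt.IsAlgStack K 𝒴 := by
  constructor
  · rintro ⟨h1, h2, h3⟩
    exact ⟨(Groth.Agent.Lib.Helper24.StkEquiv.isStack_iff _ e he).1 h1,
      (repByAlgSp1_diag_iff_of_isEquivOver e he).1 h2,
      (hasAtlas_iff_of_isEquivOver _ e he).1 h3⟩
  · rintro ⟨h1, h2, h3⟩
    exact ⟨(Groth.Agent.Lib.Helper24.StkEquiv.isStack_iff _ e he).2 h1,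
      (repByAlgSp1_diag_iff_of_isEquivOver e he).2 h2,
      (hasAtlas_iff_of_isEquivOver _ e he).2 h3⟩

theorem isDM_iff_of_isEquivOver (K : Precoverage Scheme.{u}) (e : 𝒳 ⥤ᵇ 𝒴)
    (he : FibCat.IsEquivOver e) : AlgSt.IsDM K 𝒳 ↔ AlgSt.IsDM K 𝒴 := by
  unfold AlgSt.IsDM
  rw [isAlgStack_iff_of_isEquivOver K e he, hasAtlas_iff_of_isEquivOver _ e he]

end Groth.Agent.Lib.Helper24.AlgStInv
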