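import Groth.Agent.Lib.Helper24.AlgStRep
set_option autoImplicit false
open CategoryTheory AlgebraicGeometry
universe w₁ v₁ w₂ v₂ w₃ v₃ w₄ v₄ u
set_option backward.isDefEq.respectTransparency false
set_option backward.isDefEq.respectTransparency.types false

namespace Groth.Agent.Lib.Helper24.AlgStRep
open Groth.Agent.Lib.Helper24.FibCatFpMap Groth.Agent.Lib.Helper24.FibCatEquiv

variable {S : Scheme.{u}}

theorem isEquivOver_id {C : Type*} [Category C] (𝒳 : BasedCategory.{v₁, w₁} C) :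
    FibCat.IsEquivOver (BasedFunctor.id 𝒳) :=
  ⟨BasedFunctor.id _, ⟨Iso.refl _⟩, ⟨Iso.refl _⟩⟩

/-- left whiskering of an isomorphism of functors over the base, any universes -/
def whiskerLeftIso {C : Type*} [Category C] {𝒳 : BasedCategory.{v₁, w₁} C}
    {𝒴 : BasedCategory.{v₂, w₂} C} {𝒵 : BasedCategory.{v₃, w₃} C} (F : 𝒳 ⥤ᵇ 𝒴) {G H : 𝒴 ⥤ᵇ 𝒵}
    (α : G ≅ H) : BasedFunctor.comp F G ≅ BasedFunctor.comp F H where
  hom := BasedCategory.whiskerLeft F α.hom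
  inv := BasedCategory.whiskerLeft F α.inv
  hom_inv_id := by
    apply BasedNatTrans.homCategory.ext
    ext x
    have := congrArg (fun t => t.toNatTrans.app (F.obj x)) α.hom_inv_id
    exact this
  inv_hom_id := by
    apply BasedNatTrans.homCategory.ext
    ext x
    have := congrArg (fun t => t.toNatTrans.app (F.obj x)) α.inv_hom_id
    exact this

theorem repByAlgSpWith_iff_of_isEquivOver {𝒳 : BasedCategory.{v₁, w₁} (Over S)}
    {𝒴 : BasedCategory.{v₂, w₂} (Over S)} {𝒳' : BasedCategory.{v₃, w₃} (Over S)}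
    {𝒴' : BasedCategory.{v₄, w₄} (Over S)}
    (P : MorphismProperty (AlgSp.Sp S)) (f : 𝒳 ⥤ᵇ 𝒴) (f' : 𝒳' ⥤ᵇ 𝒴') (a : 𝒳' ⥤ᵇ 𝒳) (b : 𝒴' ⥤ᵇ 𝒴)
    (ha : FibCat.IsEquivOver a) (hb : FibCat.IsEquivOver b)
    (e : BasedFunctor.comp f' b ≅ BasedFunctor.comp a f) :
    AlgSt.RepByAlgSpWith P f ↔ AlgSt.RepByAlgSpWith P f' := by
  obtain ⟨⟨_, _⟩, -⟩ := props_of_isEquivOver b hb
  constructor
  · intro hf U G'
    let eF : BasedFunctor.comp G' b ≅
        BasedFunctor.comp (BasedFunctor.id (FibCat.overCat U)) (BasedFunctor.comp G' b) := Iso.refl _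
    have hM := isEquivOver_fpMap (BasedFunctor.id (FibCat.overCat U)) a b eF e
      (isEquivOver_id _) ha
    exact (exists_rep_iff_of_isEquivOver P _ hM (FibCat.fpFst (BasedFunctor.comp G' b) f)
      (FibCat.fpFst G' f') (Iso.refl _)).1 (hf U (BasedFunctor.comp G' b))
  · intro hf' U G
    obtain ⟨b', ⟨β1⟩, ⟨β⟩⟩ := hb
    let eF : BasedFunctor.comp (BasedFunctor.comp G b') b ≅
        BasedFunctor.comp (BasedFunctor.id (FibCat.overCat U)) G := whiskerLeftIso G β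
    have hM := isEquivOver_fpMap (BasedFunctor.id (FibCat.overCat U)) a b eF e
      (isEquivOver_id _) ha
    exact (exists_rep_iff_of_isEquivOver P _ hM (FibCat.fpFst G f)
      (FibCat.fpFst (BasedFunctor.comp G b') f') (Iso.refl _)).2 (hf' U (BasedFunctor.comp G b'))

theorem repByAlgSp1_iff_with_top {𝒳 : BasedCategory.{v₁, w₁} (Over S)}
    {𝒴 : BasedCategory.{v₂, w₂} (Over S)} (f : 𝒳 ⥤ᵇ 𝒴) :
    AlgSt.RepByAlgSp1 f ↔ AlgSt.RepByAlgSpWith ⊤ f := by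
  constructor
  · intro h U y
    obtain ⟨F, e, he⟩ := h U y
    exact ⟨F, e, he, trivial⟩
  · intro h U y
    obtain ⟨F, e, he, -⟩ := h U y
    exact ⟨F, e, he⟩

theorem repByAlgSp1_iff_of_isEquivOver {𝒳 : BasedCategory.{v₁, w₁} (Over S)}
    {𝒴 : BasedCategory.{v₂, w₂} (Over S)} {𝒳' : BasedCategory.{v₃, w₃} (Over S)}
    {𝒴' : BasedCategory.{v₄, w₄} (Over S)}
    (f : 𝒳 ⥤ᵇ 𝒴) (f' : 𝒳' ⥤ᵇ 𝒴') (a : 𝒳' ⥤ᵇ 𝒳) (b : 𝒴' ⥤ᵇ 𝒴)
    (ha : FibCat.IsEquivOver a) (hb : FibCat.IsEquivOver b)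
    (e : BasedFunctor.comp f' b ≅ BasedFunctor.comp a f) :
    AlgSt.RepByAlgSp1 f ↔ AlgSt.RepByAlgSp1 f' := by
  rw [repByAlgSp1_iff_with_top, repByAlgSp1_iff_with_top]
  exact repByAlgSpWith_iff_of_isEquivOver ⊤ f f' a b ha hb e

end Groth.Agent.Lib.Helper24.AlgStRep
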