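import Groth.Agent.Lib.Helper24.PshBridge2
import Groth.Agent.Lib.Helper24.AlgStRep2
import Groth.Prelude.Def_AlgSpRep
set_option autoImplicit false
open CategoryTheory AlgebraicGeometry Opposite
universe u
set_option backward.isDefEq.respectTransparency false
set_option backward.isDefEq.respectTransparency.types false

namespace Groth.Agent.Lib.Helper24.AlgStBridge
open Groth.Agent.Lib.Helper24.PshFun Groth.Agent.Lib.Helper24.FibCatFpMap
open Groth.Agent.Lib.Helper24.FibCatEquiv Groth.Agent.Lib.Helper24.FibCatFpGen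
open Groth.Agent.Lib.Helper24.PshBridge Groth.Agent.Lib.Helper24.AlgStRep

variable {S : Scheme.{u}}

theorem isEquivOver_toOverCat (U : Over S) : FibCat.IsEquivOver (AlgSt.toOverCat U) :=
  ⟨AlgSt.ofOverCat U, ⟨Iso.refl _⟩, ⟨Iso.refl _⟩⟩

theorem isEquivOver_ofOverCat (U : Over S) : FibCat.IsEquivOver (AlgSt.ofOverCat U) :=
  ⟨AlgSt.toOverCat U, ⟨Iso.refl _⟩, ⟨Iso.refl _⟩⟩

section
variable {F G F' : AlgSp.PSp S} {a : F ⟶ G} {U : Over S} {ξ : (AlgSp.pyon S).obj U ⟶ G}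
  {fst : F' ⟶ F} {snd : F' ⟶ (AlgSp.pyon S).obj U} (sq : IsPtPullback a ξ fst snd)
  (y : FibCat.overCat U ⥤ᵇ Stk.ofPsh G)
  (i : BasedFunctor.comp (AlgSt.toOverCat U) y ≅ Stk.ofPshMap ξ)

/-- change of the first leg from `h_U` to `(Sch/U)` -/
def legMap : FibCat.fp (Stk.ofPshMap ξ) (Stk.ofPshMap a) ⥤ᵇ FibCat.fp y (Stk.ofPshMap a) :=
  fpMap (F' := Stk.ofPshMap ξ) (G' := Stk.ofPshMap a) (F := y) (G := Stk.ofPshMap a)
    (AlgSt.toOverCat U) (BasedFunctor.id (Stk.ofPsh F)) (BasedFunctor.id (Stk.ofPsh G))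
    i.symm (Iso.refl _)

theorem isEquivOver_legMap : FibCat.IsEquivOver (legMap (a := a) y i) := by
  have : (BasedFunctor.id (Stk.ofPsh G)).toFunctor.Full := inferInstanceAs (𝟭 _).Full
  have : (BasedFunctor.id (Stk.ofPsh G)).toFunctor.Faithful := inferInstanceAs (𝟭 _).Faithful
  exact isEquivOver_fpMap _ _ _ _ _ (isEquivOver_toOverCat U) (isEquivOver_id _)

/-- the comparison equivalence from the elements of the fibre product presheaf -/
def cmp : Stk.ofPsh F' ⥤ᵇ FibCat.fp y (Stk.ofPshMap a) :=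
  BasedFunctor.comp (fpOfSq sq) (legMap y i)

theorem isEquivOver_cmp : FibCat.IsEquivOver (cmp sq y i) :=
  isEquivOver_comp _ _ (isEquivOver_fpOfSq sq) (isEquivOver_legMap y i)

lemma cmp_fst : BasedFunctor.comp (cmp sq y i) (FibCat.fpFst y (Stk.ofPshMap a)) =
    BasedFunctor.comp (Stk.ofPshMap snd) (AlgSt.toOverCat U) := rfl

end

end Groth.Agent.Lib.Helper24.AlgStBridge

namespace Groth.Agent.Lib.Helper24.AlgStBridge
open Groth.Agent.Lib.Helper24.PshFun Groth.Agent.Lib.Helper24.FibCatFpMap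
open Groth.Agent.Lib.Helper24.FibCatEquiv Groth.Agent.Lib.Helper24.FibCatFpGen
open Groth.Agent.Lib.Helper24.PshBridge Groth.Agent.Lib.Helper24.AlgStRep
open CategoryTheory.Limits

variable {S : Scheme.{u}}

/-- right whiskering of an isomorphism of functors over the base, any universes -/
def whiskerRightIso {C : Type*} [Category C] {𝒳 : BasedCategory C}
    {𝒴 : BasedCategory C} {𝒵 : BasedCategory C} {F G : 𝒳 ⥤ᵇ 𝒴} (α : F ≅ G) (H : 𝒴 ⥤ᵇ 𝒵) :
    BasedFunctor.comp F H ≅ BasedFunctor.comp G H where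
  hom := BasedCategory.whiskerRight α.hom H
  inv := BasedCategory.whiskerRight α.inv H
  hom_inv_id := by
    apply BasedNatTrans.homCategory.ext
    ext x
    have h : α.hom.toNatTrans.app x ≫ α.inv.toNatTrans.app x = 𝟙 _ :=
      congrArg (fun t => t.toNatTrans.app x) α.hom_inv_id
    change H.toFunctor.map (α.hom.toNatTrans.app x) ≫ H.toFunctor.map (α.inv.toNatTrans.app x) = 𝟙 _
    rw [← H.toFunctor.map_comp, h]
    exact H.toFunctor.map_id _
  inv_hom_id := by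
    apply BasedNatTrans.homCategory.ext
    ext x
    have h : α.inv.toNatTrans.app x ≫ α.hom.toNatTrans.app x = 𝟙 _ :=
      congrArg (fun t => t.toNatTrans.app x) α.inv_hom_id
    change H.toFunctor.map (α.inv.toNatTrans.app x) ≫ H.toFunctor.map (α.hom.toNatTrans.app x) = 𝟙 _
    rw [← H.toFunctor.map_comp, h]
    exact H.toFunctor.map_id _

theorem repByAlgSp1_ofPshMap_of_repBySp {F G : AlgSp.PSp S} (a : F ⟶ G) (h : AlgSp.RepBySp a) :
    AlgSt.RepByAlgSp1 (Stk.ofPshMap a) := by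
  intro U y
  let y' : AlgSt.ofSch U ⥤ᵇ Stk.ofPsh G := BasedFunctor.comp (AlgSt.toOverCat U) y
  let ξ : (AlgSp.pyon S).obj U ⟶ G := pshMapOf y'
  have i : BasedFunctor.comp (AlgSt.toOverCat U) y ≅ Stk.ofPshMap ξ := isoOfPshMap y'
  have hsq := IsPullback.of_hasPullback a ξ
  have sq := isPtPullback_of_isPullback _ _ _ _ hsq
  obtain ⟨hsh, hX⟩ := h ξ (pullback.fst a ξ) (pullback.snd a ξ) hsq
  exact ⟨⟨⟨pullback a ξ, hsh⟩, hX⟩, cmp sq y i, isEquivOver_cmp sq y i⟩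

theorem repBySp_of_repByAlgSp1_ofPshMap {F G : AlgSp.PSp S} (a : F ⟶ G)
    (h : AlgSt.RepByAlgSp1 (Stk.ofPshMap a)) : AlgSp.RepBySp a := by
  intro U ξ F' fst snd hsq
  have sq := isPtPullback_of_isPullback _ _ _ _ hsq
  let y : FibCat.overCat U ⥤ᵇ Stk.ofPsh G :=
    BasedFunctor.comp (AlgSt.ofOverCat U) (Stk.ofPshMap ξ)
  let i : BasedFunctor.comp (AlgSt.toOverCat U) y ≅ Stk.ofPshMap ξ := Iso.refl _
  obtain ⟨X, e, he⟩ := h U y
  obtain ⟨E', hE'⟩ := exists_inverse_isEquivOver _ (isEquivOver_cmp sq y i)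
  have hc := isEquivOver_comp e E' he hE'
  have hiso := isIso_pshMapOf_of_isEquivOver _ hc
  exact ((AlgSp.isAlgSpaceP_obj_iff X.obj).2 X.property).of_iso
    (asIso (pshMapOf (BasedFunctor.comp e E')))

theorem repBySp_iff_repByAlgSp1_ofPshMap {F G : AlgSp.PSp S} (a : F ⟶ G) :
    AlgSp.RepBySp a ↔ AlgSt.RepByAlgSp1 (Stk.ofPshMap a) :=
  ⟨repByAlgSp1_ofPshMap_of_repBySp a, repBySp_of_repByAlgSp1_ofPshMap a⟩

end Groth.Agent.Lib.Helper24.AlgStBridge

namespace Groth.Agent.Lib.Helper24.AlgStBridge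
open Groth.Agent.Lib.Helper24.PshFun Groth.Agent.Lib.Helper24.FibCatFpMap
open Groth.Agent.Lib.Helper24.FibCatEquiv Groth.Agent.Lib.Helper24.FibCatFpGen
open Groth.Agent.Lib.Helper24.PshBridge Groth.Agent.Lib.Helper24.AlgStRep
open CategoryTheory.Limits

variable {S : Scheme.{u}}

/-- the map of sheaves determined by `(T, x) ↦ (s x : T ⟶ U)` is `s` -/
lemma spMapOfOver_ofPshMap_toOverCat (X : AlgSp.Sp S) (U : Over S)
    (s : X.obj ⟶ (AlgSp.pyon S).obj U) :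
    AlgSt.spMapOfOver (F := X) (BasedFunctor.comp (Stk.ofPshMap s) (AlgSt.toOverCat U)) =
      ObjectProperty.homMk s := by
  apply ObjectProperty.hom_ext
  ext T x
  apply ULift.ext
  change AlgSt.secHom (BasedFunctor.comp (Stk.ofPshMap s) (AlgSt.toOverCat U)) ⟨T.unop, x⟩ = _
  unfold AlgSt.secHom
  change eqToHom _ ≫ (s.app T x).down = (s.app T x).down
  simp

theorem repByAlgSpWith_ofPshMap_of_repBySpWith (Q : MorphismProperty (AlgSp.Sp S))
    {F G : AlgSp.PSp S} (a : F ⟶ G) (h : AlgSp.RepBySpWith Q a) :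
    AlgSt.RepByAlgSpWith Q (Stk.ofPshMap a) := by
  intro U y
  let y' : AlgSt.ofSch U ⥤ᵇ Stk.ofPsh G := BasedFunctor.comp (AlgSt.toOverCat U) y
  let ξ : (AlgSp.pyon S).obj U ⟶ G := pshMapOf y'
  have i : BasedFunctor.comp (AlgSt.toOverCat U) y ≅ Stk.ofPshMap ξ := isoOfPshMap y'
  have hsq := IsPullback.of_hasPullback a ξ
  have sq := isPtPullback_of_isPullback _ _ _ _ hsq
  obtain ⟨hsh, hX, hQ⟩ := h ξ (pullback.fst a ξ) (pullback.snd a ξ) hsq
  refine ⟨⟨⟨pullback a ξ, hsh⟩, hX⟩, cmp sq y i, isEquivOver_cmp sq y i, ?_⟩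
  rw [cmp_fst]
  have := spMapOfOver_ofPshMap_toOverCat (⟨pullback a ξ, hsh⟩ : AlgSp.Sp S) U (pullback.snd a ξ)
  rw [this]
  exact hQ

theorem repBySpWith_of_repByAlgSpWith_ofPshMap (Q : MorphismProperty (AlgSp.Sp S)) [Q.RespectsIso]
    {F G : AlgSp.PSp S} (a : F ⟶ G) (ha : AlgSp.RepBySp a)
    (h : AlgSt.RepByAlgSpWith Q (Stk.ofPshMap a)) : AlgSp.RepBySpWith Q a := by
  intro U ξ F' fst snd hsq
  have sq := isPtPullback_of_isPullback _ _ _ _ hsq
  obtain ⟨hsh, hX⟩ := ha ξ fst snd hsq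
  refine ⟨hsh, hX, ?_⟩
  let y : FibCat.overCat U ⥤ᵇ Stk.ofPsh G :=
    BasedFunctor.comp (AlgSt.ofOverCat U) (Stk.ofPshMap ξ)
  let i : BasedFunctor.comp (AlgSt.toOverCat U) y ≅ Stk.ofPshMap ξ := Iso.refl _
  obtain ⟨X, e, he, hQ⟩ := h U y
  obtain ⟨E', ⟨α⟩, ⟨β⟩⟩ := isEquivOver_cmp sq y i
  have hE' : FibCat.IsEquivOver E' := ⟨cmp sq y i, ⟨β⟩, ⟨α⟩⟩
  have hc := isEquivOver_comp e E' he hE'
  have hiso := isIso_pshMapOf_of_isEquivOver _ hc
  let φ₀ : X.obj.obj ⟶ F' := pshMapOf (BasedFunctor.comp e E')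
  let φ : X.obj ⟶ (⟨F', hsh⟩ : AlgSp.Sp S) := ObjectProperty.homMk φ₀
  have hφ : IsIso φ := by
    refine ⟨ObjectProperty.homMk (inv φ₀), ?_, ?_⟩
    · apply ObjectProperty.hom_ext; exact IsIso.hom_inv_id φ₀
    · apply ObjectProperty.hom_ext; exact IsIso.inv_hom_id φ₀
  -- the chain of 2-isomorphisms
  let I1 : BasedFunctor.comp e (FibCat.fpFst y (Stk.ofPshMap a)) ≅
      BasedFunctor.comp (BasedFunctor.comp e (BasedFunctor.comp E' (cmp sq y i)))
        (FibCat.fpFst y (Stk.ofPshMap a)) :=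
    whiskerRightIso (whiskerLeftIso e β.symm) _
  let I2 : BasedFunctor.comp (BasedFunctor.comp e E')
        (BasedFunctor.comp (Stk.ofPshMap snd) (AlgSt.toOverCat U)) ≅
      BasedFunctor.comp (Stk.ofPshMap φ₀)
        (BasedFunctor.comp (Stk.ofPshMap snd) (AlgSt.toOverCat U)) :=
    whiskerRightIso (isoOfPshMap (BasedFunctor.comp e E')) _
  have e1 : AlgSt.spMapOfOver (BasedFunctor.comp e (FibCat.fpFst y (Stk.ofPshMap a))) =
      AlgSt.spMapOfOver (F := X.obj) (BasedFunctor.comp (Stk.ofPshMap (φ₀ ≫ snd)) (AlgSt.toOverCat U)) :=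
    (spMapOfOver_congr _ _ I1).trans (spMapOfOver_congr _ _ I2)
  rw [e1, spMapOfOver_ofPshMap_toOverCat] at hQ
  have e2 : (ObjectProperty.homMk (φ₀ ≫ snd) : X.obj ⟶ (AlgSp.yon S).obj U) =
      φ ≫ (ObjectProperty.homMk snd : (⟨F', hsh⟩ : AlgSp.Sp S) ⟶ (AlgSp.yon S).obj U) := rfl
  rw [e2] at hQ
  exact (MorphismProperty.cancel_left_of_respectsIso Q φ _).1 hQ

end Groth.Agent.Lib.Helper24.AlgStBridge
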