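import Groth.Prelude.Def_W4stkcategoriessitesFib
import Groth.Agent.Lib.Helper24.FibCatRepDiag
set_option autoImplicit false
set_option linter.unusedSectionVars false
open CategoryTheory CategoryTheory.Limits
universe u v u₂ v₂

noncomputable section

namespace Groth.Agent.Lib.Helper24.FibCatYoneda
open Groth.Agent.Lib.Helper24.FibCatFpGen Groth.Agent.Lib.Helper24.FibGrpd
  Groth.Agent.Lib.Helper24.FibCatRepDiag

variable {C : Type u} [Category.{v} C] {𝒳 : BasedCategory.{v₂, u₂} C} {U : C}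

/-- the canonical morphism to the terminal object of the slice -/
def tOf (a : Over U) : a ⟶ Over.mk (𝟙 U) := Over.homMk a.hom (Category.comp_id _)

lemma tOf_left (a : Over U) : (tOf a).left = a.hom := rfl

lemma map_tOf_comp {a b : Over U} (m : a ⟶ b) : m ≫ tOf b = tOf a := by
  apply Over.OverMorphism.ext
  exact Over.w m

lemma tOf_mk_id : tOf (Over.mk (𝟙 U)) = 𝟙 (Over.mk (𝟙 U)) := by
  apply Over.OverMorphism.ext
  rfl

lemma map_tOf_lift (G : FibCat.overCat U ⥤ᵇ 𝒳) (a : Over U) :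
    𝒳.p.IsHomLift a.hom (G.toFunctor.map (tOf a)) :=
  map_lift G _ _ (over_lift_self (tOf a))

lemma app_lift {G G' : FibCat.overCat U ⥤ᵇ 𝒳} (α : G ⟶ G') (a : Over U) :
    𝒳.p.IsHomLift (𝟙 a.left) (α.toNatTrans.app a) :=
  BasedNatTrans.isHomLift α rfl

/-- `G` sends the canonical morphisms to the terminal object to strongly cartesian morphisms -/
def CartOnT (G : FibCat.overCat U ⥤ᵇ 𝒳) : Prop :=
  ∀ a : Over U, 𝒳.p.IsStronglyCartesian a.hom (G.toFunctor.map (tOf a))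

lemma cartOnT_of_preserves (G : FibCat.overCat U ⥤ᵇ 𝒳) (hG : FibCat.PreservesStronglyCartesian G) :
    CartOnT G := by
  intro a
  have h1 : (FibCat.overCat U).p.IsHomLift a.hom (tOf a) := over_lift_self (tOf a)
  have h2 : (FibCat.overCat U).p.IsStronglyCartesian a.hom (tOf a) :=
    scart_of_isFibGrpd (FibCat.overCat U).p
      (Groth.Agent.Lib.Helper24.FibSet.isFibSet_overForget U).1 _ _
  exact hG a.hom (tOf a) h2

lemma cartOnT_of_isFibGrpd (h𝒳 : FibCat.IsFibGrpd 𝒳.p) (G : FibCat.overCat U ⥤ᵇ 𝒳) : CartOnT G := by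
  intro a
  have := map_tOf_lift G a
  exact scart_of_isFibGrpd 𝒳.p h𝒳 _ _

/-- faithfulness -/
theorem ext_of_app_id {G G' : FibCat.overCat U ⥤ᵇ 𝒳} (hG' : CartOnT G') (α β : G ⟶ G')
    (h : α.toNatTrans.app (Over.mk (𝟙 U)) = β.toNatTrans.app (Over.mk (𝟙 U))) : α = β := by
  apply BasedNatTrans.homCategory.ext
  apply NatTrans.ext
  funext a
  have hs := hG' a
  have h1 := app_lift α a
  have h2 := app_lift β a
  apply Functor.IsStronglyCartesian.ext 𝒳.p a.hom (G'.toFunctor.map (tOf a)) (𝟙 a.left)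
  have n1 := α.toNatTrans.naturality (tOf a)
  have n2 := β.toNatTrans.naturality (tOf a)
  rw [← n1, ← n2, h]

section abstract_lemmas
variable {D : Type*} [Category D] {E : Type*} [Category E] (F F' : E ⥤ D)

lemma nat_aux {a b t : E} (m : a ⟶ b) (ta : a ⟶ t) (tb : b ⟶ t) (hm : m ≫ tb = ta)
    (χa : F.obj a ⟶ F'.obj a) (χb : F.obj b ⟶ F'.obj b) (φ : F.obj t ⟶ F'.obj t)
    (ha : χa ≫ F'.map ta = F.map ta ≫ φ) (hb : χb ≫ F'.map tb = F.map tb ≫ φ) :
    (F.map m ≫ χb) ≫ F'.map tb = (χa ≫ F'.map m) ≫ F'.map tb := by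
  subst hm
  rw [Category.assoc, Category.assoc, hb, ← F'.map_comp, ha, ← Category.assoc, ← F.map_comp]

lemma id_aux {t : E} (τ : t ⟶ t) (hτ : τ = 𝟙 t) (χ φ : F.obj t ⟶ F'.obj t)
    (h : χ ≫ F'.map τ = F.map τ ≫ φ) : χ = φ := by
  subst hτ
  simpa using h

end abstract_lemmas

section full
variable {G G' : FibCat.overCat U ⥤ᵇ 𝒳} (hG' : CartOnT G')
  (φ : G.toFunctor.obj (Over.mk (𝟙 U)) ⟶ G'.toFunctor.obj (Over.mk (𝟙 U)))
  (hφ : 𝒳.p.IsHomLift (𝟙 U) φ)

include hG' hφ in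
lemma exists_app (a : Over U) : ∃ χ : G.toFunctor.obj a ⟶ G'.toFunctor.obj a,
    𝒳.p.IsHomLift (𝟙 a.left) χ ∧ χ ≫ G'.toFunctor.map (tOf a) = G.toFunctor.map (tOf a) ≫ φ := by
  have hs := hG' a
  have hl : 𝒳.p.IsHomLift a.hom (G.toFunctor.map (tOf a) ≫ φ) :=
    comp_id_right 𝒳.p _ _ _ (map_tOf_lift G a) hφ
  obtain ⟨χ, ⟨h1, h2⟩, _⟩ := Functor.IsStronglyCartesian.universal_property 𝒳.p a.hom
    (G'.toFunctor.map (tOf a)) (𝟙 a.left) a.hom (Category.id_comp _).symm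
    (G.toFunctor.map (tOf a) ≫ φ)
  exact ⟨χ, h1, h2⟩

/-- the components of the natural transformation extending `φ` -/
def appOf (a : Over U) : G.toFunctor.obj a ⟶ G'.toFunctor.obj a := (exists_app hG' φ hφ a).choose

lemma appOf_lift (a : Over U) : 𝒳.p.IsHomLift (𝟙 a.left) (appOf hG' φ hφ a) :=
  (exists_app hG' φ hφ a).choose_spec.1

lemma appOf_fac (a : Over U) : appOf hG' φ hφ a ≫ G'.toFunctor.map (tOf a) =
    G.toFunctor.map (tOf a) ≫ φ := (exists_app hG' φ hφ a).choose_spec.2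

lemma appOf_naturality {a b : Over U} (m : a ⟶ b) :
    G.toFunctor.map m ≫ appOf hG' φ hφ b = appOf hG' φ hφ a ≫ G'.toFunctor.map m := by
  have hs := hG' b
  have hm : (FibCat.overCat U).p.IsHomLift m.left m := over_lift_self m
  have h1 : 𝒳.p.IsHomLift m.left (G.toFunctor.map m ≫ appOf hG' φ hφ b) :=
    comp_id_right 𝒳.p _ _ _ (map_lift G _ _ hm) (appOf_lift hG' φ hφ b)
  have h2 : 𝒳.p.IsHomLift m.left (appOf hG' φ hφ a ≫ G'.toFunctor.map m) :=
    comp_id_left 𝒳.p _ _ _ (appOf_lift hG' φ hφ a) (map_lift G' _ _ hm)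
  apply Functor.IsStronglyCartesian.ext 𝒳.p b.hom (G'.toFunctor.map (tOf b)) m.left
  exact nat_aux G.toFunctor G'.toFunctor m (tOf a) (tOf b) (map_tOf_comp m) _ _ φ
    (appOf_fac hG' φ hφ a) (appOf_fac hG' φ hφ b)

/-- the natural transformation over `C` extending `φ` -/
def natTransOf : G ⟶ G' where
  toNatTrans := { app := appOf hG' φ hφ, naturality := fun _ _ m => appOf_naturality hG' φ hφ m }
  isHomLift' := fun a => appOf_lift hG' φ hφ a

lemma natTransOf_app_id : (natTransOf hG' φ hφ).toNatTrans.app (Over.mk (𝟙 U)) = φ := by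
  exact id_aux G.toFunctor G'.toFunctor (tOf (Over.mk (𝟙 U))) tOf_mk_id _ φ
    (appOf_fac hG' φ hφ (Over.mk (𝟙 U)))

end full

section essSurj
variable [𝒳.p.IsFibered] {x : 𝒳.obj} (hx : 𝒳.p.obj x = U)

/-- the chosen pullback of `x` along `a` -/
def pbObj (a : Over U) : 𝒳.obj := Functor.IsPreFibered.pullbackObj hx a.hom

/-- the chosen cartesian morphism -/
def pbMap (a : Over U) : pbObj hx a ⟶ x := Functor.IsPreFibered.pullbackMap hx a.hom

instance pbMap_isStronglyCartesian (a : Over U) : 𝒳.p.IsStronglyCartesian a.hom (pbMap hx a) := by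
  have : 𝒳.p.IsCartesian a.hom (pbMap hx a) := Functor.IsPreFibered.pullbackMap.IsCartesian hx a.hom
  infer_instance

lemma pbObj_proj (a : Over U) : 𝒳.p.obj (pbObj hx a) = a.left :=
  Functor.IsPreFibered.pullbackObj_proj hx a.hom

/-- the induced morphisms between chosen pullbacks -/
def pbTrans {a b : Over U} (m : a ⟶ b) : pbObj hx a ⟶ pbObj hx b :=
  Functor.IsStronglyCartesian.map 𝒳.p b.hom (pbMap hx b) (f' := a.hom) (g := m.left)
    (Over.w m).symm (pbMap hx a)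

instance pbTrans_lift {a b : Over U} (m : a ⟶ b) : 𝒳.p.IsHomLift m.left (pbTrans hx m) := by
  unfold pbTrans; infer_instance

lemma pbTrans_fac {a b : Over U} (m : a ⟶ b) : pbTrans hx m ≫ pbMap hx b = pbMap hx a :=
  Functor.IsStronglyCartesian.fac 𝒳.p b.hom (pbMap hx b) (Over.w m).symm (pbMap hx a)

lemma pbTrans_uniq {a b : Over U} (m : a ⟶ b) (ψ : pbObj hx a ⟶ pbObj hx b)
    (h1 : 𝒳.p.IsHomLift m.left ψ) (h2 : ψ ≫ pbMap hx b = pbMap hx a) : ψ = pbTrans hx m :=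
  Functor.IsStronglyCartesian.map_uniq 𝒳.p b.hom (pbMap hx b) (Over.w m).symm (pbMap hx a) ψ h2

/-- the functor `C/U ⥤ 𝒳` of chosen pullbacks of `x` -/
def pbFunctor : Over U ⥤ 𝒳.obj where
  obj := pbObj hx
  map m := pbTrans hx m
  map_id a := by
    symm
    apply pbTrans_uniq
    · exact IsHomLift.id (pbObj_proj hx a)
    · exact Category.id_comp _
  map_comp {a b c} m n := by
    symm
    apply pbTrans_uniq
    · exact comp_lift 𝒳.p m.left n.left _ _ (pbTrans_lift hx m) (pbTrans_lift hx n)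
    · rw [Category.assoc, pbTrans_fac, pbTrans_fac]

/-- the functor over `C` of chosen pullbacks of `x` -/
def pbBased : FibCat.overCat U ⥤ᵇ 𝒳 where
  toFunctor := pbFunctor hx
  w := by
    refine CategoryTheory.Functor.ext (fun a => pbObj_proj hx a) (fun a b m => ?_)
    have hl : 𝒳.p.IsHomLift m.left (pbTrans hx m) := pbTrans_lift hx m
    exact IsHomLift.fac' 𝒳.p m.left (pbTrans hx m)

lemma pbBased_map {a b : Over U} (m : a ⟶ b) : (pbBased hx).toFunctor.map m = pbTrans hx m := rfl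

lemma pbTrans_scart {a b : Over U} (m : a ⟶ b) : 𝒳.p.IsStronglyCartesian m.left (pbTrans hx m) := by
  have h1 : 𝒳.p.IsStronglyCartesian (m.left ≫ b.hom) (pbTrans hx m ≫ pbMap hx b) := by
    rw [pbTrans_fac, Over.w m]
    infer_instance
  exact Functor.IsStronglyCartesian.of_comp 𝒳.p (f := m.left) (g := b.hom) (φ := pbTrans hx m)
    (ψ := pbMap hx b)

lemma pbBased_preserves : FibCat.PreservesStronglyCartesian (pbBased hx) := by
  intro R S f a b m hm
  have hm' : (FibCat.overCat U).p.IsHomLift f m := inferInstance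
  have hl : 𝒳.p.IsHomLift f ((pbBased hx).toFunctor.map m) := map_lift (pbBased hx) f m hm'
  have h2 : 𝒳.p.IsStronglyCartesian _ ((pbBased hx).toFunctor.map m) := pbTrans_scart hx m
  have h3 : 𝒳.p.IsStronglyCartesian (𝒳.p.map ((pbBased hx).toFunctor.map m))
      ((pbBased hx).toFunctor.map m) :=
    (isStronglyCartesian_iff_map 𝒳.p _ _).mp h2
  exact (isStronglyCartesian_iff_map 𝒳.p f _).mpr h3

/-- the comparison isomorphism `G(𝟙) ≅ x` -/
lemma pbMap_id_isIso : IsIso (pbMap hx (Over.mk (𝟙 U))) := by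
  have : 𝒳.p.IsStronglyCartesian (𝟙 U) (pbMap hx (Over.mk (𝟙 U))) :=
    pbMap_isStronglyCartesian hx (Over.mk (𝟙 U))
  exact Functor.IsStronglyCartesian.isIso_of_base_isIso 𝒳.p (𝟙 U) (pbMap hx (Over.mk (𝟙 U)))

lemma pbMap_id_lift : 𝒳.p.IsHomLift (𝟙 U) (pbMap hx (Over.mk (𝟙 U))) :=
  (pbMap_isStronglyCartesian hx (Over.mk (𝟙 U))).toIsHomLift

end essSurj

section assemble

lemma evalAtId_map_val {G G' : FibCat.overCat U ⥤ᵇ 𝒳} (α : G ⟶ G') :
    ((FibCat.evalAtId 𝒳 U).map α).1 = α.toNatTrans.app (Over.mk (𝟙 U)) := rfl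

/-- an object of the fibre is isomorphic to the value at the identity of its functor of pullbacks -/
def evalIso [𝒳.p.IsFibered] (x : 𝒳.p.Fiber U) : (FibCat.evalAtId 𝒳 U).obj (pbBased x.2) ≅ x := by
  haveI h1 : IsIso (pbMap x.2 (Over.mk (𝟙 U))) := pbMap_id_isIso x.2
  haveI h2 : 𝒳.p.IsHomLift (𝟙 U) (pbMap x.2 (Over.mk (𝟙 U))) := pbMap_id_lift x.2
  haveI h3 : 𝒳.p.IsHomLift (𝟙 U) (inv (pbMap x.2 (Over.mk (𝟙 U)))) := inferInstance
  let ψinv : x.1 ⟶ pbObj x.2 (Over.mk (𝟙 U)) := inv (pbMap x.2 (Over.mk (𝟙 U)))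
  exact
  { hom := ⟨pbMap x.2 (Over.mk (𝟙 U)), h2⟩
    inv := ⟨ψinv, h3⟩
    hom_inv_id := Subtype.ext (IsIso.hom_inv_id (pbMap x.2 (Over.mk (𝟙 U))))
    inv_hom_id := Subtype.ext (IsIso.inv_hom_id (pbMap x.2 (Over.mk (𝟙 U)))) }

theorem evalAtId_isEquivalence_of_isFibGrpd (h𝒳 : FibCat.IsFibGrpd 𝒳.p) (U : C) :
    (FibCat.evalAtId 𝒳 U).IsEquivalence := by
  have hfib : 𝒳.p.IsFibered := isFibered_of_isFibGrpd 𝒳.p h𝒳
  have h1 : (FibCat.evalAtId 𝒳 U).Faithful := by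
    constructor
    intro G G' α β h
    exact ext_of_app_id (cartOnT_of_isFibGrpd h𝒳 G') α β (congrArg Subtype.val h)
  have h2 : (FibCat.evalAtId 𝒳 U).Full := by
    constructor
    intro G G' φ
    exact ⟨natTransOf (cartOnT_of_isFibGrpd h𝒳 G') φ.1 φ.2,
      Subtype.ext (natTransOf_app_id (cartOnT_of_isFibGrpd h𝒳 G') φ.1 φ.2)⟩
  have h3 : (FibCat.evalAtId 𝒳 U).EssSurj := by
    constructor
    intro x
    exact ⟨pbBased x.2, ⟨evalIso x⟩⟩
  exact { }

theorem evalAtId_restrict_isEquivalence [𝒳.p.IsFibered] (U : C) :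
    ((ObjectProperty.ι (FibCat.PreservesStronglyCartesian (𝒳 := FibCat.overCat U) (𝒴 := 𝒳))) ⋙
      FibCat.evalAtId 𝒳 U).IsEquivalence := by
  have h1 : ((ObjectProperty.ι (FibCat.PreservesStronglyCartesian (𝒳 := FibCat.overCat U)
      (𝒴 := 𝒳))) ⋙ FibCat.evalAtId 𝒳 U).Faithful := by
    constructor
    intro G G' α β h
    apply ObjectProperty.hom_ext
    exact ext_of_app_id (cartOnT_of_preserves G'.obj G'.property) α.hom β.hom
      (congrArg Subtype.val h)
  have h2 : ((ObjectProperty.ι (FibCat.PreservesStronglyCartesian (𝒳 := FibCat.overCat U)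
      (𝒴 := 𝒳))) ⋙ FibCat.evalAtId 𝒳 U).Full := by
    constructor
    intro G G' φ
    exact ⟨ObjectProperty.homMk (natTransOf (cartOnT_of_preserves G'.obj G'.property) φ.1 φ.2),
      Subtype.ext (natTransOf_app_id (cartOnT_of_preserves G'.obj G'.property) φ.1 φ.2)⟩
  have h3 : ((ObjectProperty.ι (FibCat.PreservesStronglyCartesian (𝒳 := FibCat.overCat U)
      (𝒴 := 𝒳))) ⋙ FibCat.evalAtId 𝒳 U).EssSurj := by
    constructor
    intro x
    exact ⟨⟨pbBased x.2, pbBased_preserves x.2⟩, ⟨evalIso x⟩⟩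
  exact { }

end assemble

end Groth.Agent.Lib.Helper24.FibCatYoneda
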