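import Groth.Agent.Lib.Helper24.PshFun
import Groth.Agent.Lib.Helper24.FibCatYoneda
import Mathlib.CategoryTheory.Sites.SheafOfTypes
set_option autoImplicit false
open CategoryTheory Opposite
universe w v u
set_option backward.isDefEq.respectTransparency false
set_option backward.isDefEq.respectTransparency.types false

namespace Groth.Agent.Lib.Helper24.PshStack
open Groth.Agent.Lib.Helper24.PshFun Groth.Agent.Lib.Helper24.FibCatYoneda

variable {C : Type u} [Category.{v} C] {P : Cᵒᵖ ⥤ Type w} {U : C}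

/-- the family on the slice attached to a section over `U` -/
def famOfElt (t : P.obj (op U)) : Fam (FibCat.overCat U) P where
  s a := P.map a.hom.op t
  compat {a b} m := by
    change P.map m.left.op (P.map b.hom.op t) = P.map a.hom.op t
    rw [← Functor.map_comp_apply, ← op_comp, Over.w m]

/-- the section over `U` of a functor on the slice -/
def eltOf (Φ : FibCat.overCat U ⥤ᵇ Stk.ofPsh P) : P.obj (op U) := sec Φ (Over.mk (𝟙 U))

lemma sec_eq_map_eltOf (Φ : FibCat.overCat U ⥤ᵇ Stk.ofPsh P) (a : Over U) :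
    sec Φ a = P.map a.hom.op (eltOf Φ) := by
  have := sec_compat Φ (tOf a)
  exact this.symm

lemma eltOf_ofFam (t : P.obj (op U)) : eltOf (ofFam (famOfElt t)) = t := by
  unfold eltOf
  rw [sec_ofFam]
  change P.map (𝟙 U).op t = t
  simp

variable (R : Sieve U)

lemma sec_comp_sieveIncl (Φ : FibCat.overCat U ⥤ᵇ Stk.ofPsh P) (a : (Stk.sieveCat R).obj) :
    sec (BasedFunctor.comp (Stk.sieveIncl R) Φ) a = sec Φ a.obj := rfl

lemma family_congr (x : Presieve.FamilyOfElements P R.arrows) {V : C} {f g : V ⟶ U} (h : f = g)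
    (hf : R.arrows f) (hg : R.arrows g) : x f hf = x g hg := by
  subst h; rfl

/-- the family on the sieve category attached to a compatible family of elements -/
def famOfFamily (x : Presieve.FamilyOfElements P R.arrows) (hx : x.Compatible) :
    Fam (Stk.sieveCat R) P where
  s a := x a.obj.hom a.property
  compat {a b} m := by
    have h1 := (Presieve.compatible_iff_sieveCompatible x).1 hx b.obj.hom m.hom.left b.property
    change P.map m.hom.left.op (x b.obj.hom b.property) = x a.obj.hom a.property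
    rw [← h1]
    exact family_congr R x (Over.w m.hom) _ _

/-- the family of elements attached to a functor on the sieve category -/
def familyOf (Ψ : Stk.sieveCat R ⥤ᵇ Stk.ofPsh P) : Presieve.FamilyOfElements P R.arrows :=
  fun _ f hf => sec Ψ ⟨Over.mk f, hf⟩

lemma familyOf_compatible (Ψ : Stk.sieveCat R ⥤ᵇ Stk.ofPsh P) : (familyOf R Ψ).Compatible := by
  rw [Presieve.compatible_iff_sieveCompatible]
  intro V W f g hf
  let a : (Stk.sieveCat R).obj := ⟨Over.mk (g ≫ f), R.downward_closed hf g⟩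
  let b : (Stk.sieveCat R).obj := ⟨Over.mk f, hf⟩
  let m : a ⟶ b := ObjectProperty.homMk (Over.homMk g rfl)
  exact (sec_compat Ψ m).symm

lemma familyOf_apply (Ψ : Stk.sieveCat R ⥤ᵇ Stk.ofPsh P) (a : (Stk.sieveCat R).obj) :
    familyOf R Ψ a.obj.hom a.property = sec Ψ a := rfl

theorem isStackFor_of_isSheafFor (hS : Presieve.IsSheafFor P R.arrows) :
    Stk.IsStackFor R (Stk.ofPsh P) := by
  have hfaith : (Stk.resSieve R (Stk.ofPsh P)).Faithful := ⟨fun _ => Subsingleton.elim _ _⟩
  have hfull : (Stk.resSieve R (Stk.ofPsh P)).Full := by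
    constructor
    intro Φ Ψ α
    have h1 : ∀ a : (Stk.sieveCat R).obj, sec Φ a.obj = sec Ψ a.obj := fun a =>
      sec_eq_of_hom α a
    have ht : eltOf Φ = eltOf Ψ := by
      apply hS.isSeparatedFor.ext
      intro V f hf
      have := h1 ⟨Over.mk f, hf⟩
      rw [sec_eq_map_eltOf, sec_eq_map_eltOf] at this
      exact this
    have h2 : ∀ a : Over U, sec Φ a = sec Ψ a := fun a => by
      rw [sec_eq_map_eltOf, sec_eq_map_eltOf, ht]
    exact ⟨(isoOfSecEq Φ Ψ h2).hom, Subsingleton.elim _ _⟩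
  have hess : (Stk.resSieve R (Stk.ofPsh P)).EssSurj := by
    constructor
    intro Ψ
    obtain ⟨t, ht⟩ := (hS (familyOf R Ψ) (familyOf_compatible R Ψ)).exists
    refine ⟨ofFam (famOfElt t), ⟨isoOfSecEq _ _ ?_⟩⟩
    intro a
    change sec (BasedFunctor.comp (Stk.sieveIncl R) (ofFam (famOfElt t))) a = sec Ψ a
    rw [sec_comp_sieveIncl, sec_ofFam]
    exact ht a.obj.hom a.property
  exact { }

theorem isSheafFor_of_isStackFor (hE : Stk.IsStackFor R (Stk.ofPsh P)) :
    Presieve.IsSheafFor P R.arrows := by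
  have hE' : (Stk.resSieve R (Stk.ofPsh P)).IsEquivalence := hE
  intro x hx
  let Ψ : Stk.sieveCat R ⥤ᵇ Stk.ofPsh P := ofFam (famOfFamily R x hx)
  let Φ := (Stk.resSieve R (Stk.ofPsh P)).objPreimage Ψ
  let e : BasedFunctor.comp (Stk.sieveIncl R) Φ ≅ Ψ :=
    (Stk.resSieve R (Stk.ofPsh P)).objObjPreimageIso Ψ
  have hΨ : ∀ a : (Stk.sieveCat R).obj, sec Ψ a = x a.obj.hom a.property := fun a =>
    sec_ofFam _ a
  refine ⟨eltOf Φ, ?_, ?_⟩
  · intro V f hf
    have h1 := sec_eq_of_hom e.hom ⟨Over.mk f, hf⟩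
    rw [sec_comp_sieveIncl, sec_eq_map_eltOf, hΨ] at h1
    exact h1
  · intro t' ht'
    let Φ' : FibCat.overCat U ⥤ᵇ Stk.ofPsh P := ofFam (famOfElt t')
    have h1 : ∀ a, sec (BasedFunctor.comp (Stk.sieveIncl R) Φ') a = sec Ψ a := by
      intro a
      rw [sec_comp_sieveIncl, sec_ofFam, hΨ]
      exact ht' a.obj.hom a.property
    let e' : BasedFunctor.comp (Stk.sieveIncl R) Φ' ≅ BasedFunctor.comp (Stk.sieveIncl R) Φ :=
      isoOfSecEq _ _ h1 ≪≫ e.symm
    let β : Φ' ⟶ Φ := (Stk.resSieve R (Stk.ofPsh P)).preimage e'.hom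
    have h2 := sec_eq_of_hom β (Over.mk (𝟙 U))
    change eltOf Φ' = eltOf Φ at h2
    rw [← h2, eltOf_ofFam]

theorem isStackFor_ofPsh_iff : Stk.IsStackFor R (Stk.ofPsh P) ↔ Presieve.IsSheafFor P R.arrows :=
  ⟨isSheafFor_of_isStackFor R, isStackFor_of_isSheafFor R⟩

theorem isStack_ofPsh_iff (J : GrothendieckTopology C) (P : Cᵒᵖ ⥤ Type w) :
    Stk.IsStack J (Stk.ofPsh P) ↔ Presieve.IsSheaf J P := by
  unfold Stk.IsStack Presieve.IsSheaf
  constructor
  · rintro ⟨-, h⟩ U R hR
    exact (isStackFor_ofPsh_iff R).1 (h R hR)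
  · intro h
    exact ⟨Stk.isFibGrpd_ofPsh P, fun U R hR => (isStackFor_ofPsh_iff R).2 (h R hR)⟩

end Groth.Agent.Lib.Helper24.PshStack
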