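import Groth.Agent.Lib.Helper24.StkFpCrit2
import Groth.Agent.Lib.Helper24.AlgStBridge
import Groth.Agent.Lib.Helper24.PshStack
import Groth.Agent.Lib.Helper24.StkEquiv
set_option autoImplicit false
open CategoryTheory AlgebraicGeometry
universe u v w v' w'
set_option backward.isDefEq.respectTransparency false
set_option backward.isDefEq.respectTransparency.types false

/-!
# Stack properties of categories of sheaves, slices and of sources of representable morphisms
-/

namespace Groth.Agent.Lib.Helper24.AlgStStack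
open Groth.Agent.Lib.Helper24

variable {S : Scheme.{u}}

/-- the category of an fppf sheaf is a stack in groupoids -/
theorem isStack_ofSp (F : AlgSp.Sp S) :
    Stk.IsStack (QuotSh.J Scheme.fppfPrecoverage S) (AlgSt.ofSp F) :=
  (PshStack.isStack_ofPsh_iff _ _).mpr ((isSheaf_iff_isSheaf_of_type _ _).mp F.property)

/-- the slice `(Sch/U)` is a stack in groupoids for the fppf topology -/
theorem isStack_overCat (U : Over S) :
    Stk.IsStack (QuotSh.J Scheme.fppfPrecoverage S) (FibCat.overCat U) :=
  (StkEquiv.isStack_iff _ (AlgSt.toOverCat U) (AlgStBridge.isEquivOver_toOverCat U)).mp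
    (isStack_ofSp ((AlgSp.yon S).obj U))

/-- a category representable by an algebraic space is a stack in groupoids -/
theorem isStack_of_repByAlgSp {𝒳 : BasedCategory.{v, w} (Over S)} (h : AlgSt.RepByAlgSp 𝒳) :
    Stk.IsStack (QuotSh.J Scheme.fppfPrecoverage S) 𝒳 := by
  obtain ⟨X, e, he⟩ := h
  exact (StkEquiv.isStack_iff _ e he).mp (isStack_ofSp X.obj)

/-- the source of a morphism representable by algebraic spaces to a stack is a stack -/
theorem isStack_of_repByAlgSp1 {𝒳 : BasedCategory.{v, w} (Over S)}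
    {𝒴 : BasedCategory.{v', w'} (Over S)} (h𝒳 : FibCat.IsFibGrpd 𝒳.p)
    (h𝒴 : Stk.IsStack (QuotSh.J Scheme.fppfPrecoverage S) 𝒴) (j : 𝒳 ⥤ᵇ 𝒴)
    (hj : AlgSt.RepByAlgSp1 j) : Stk.IsStack (QuotSh.J Scheme.fppfPrecoverage S) 𝒳 :=
  StkFpCrit.isStack_of_fp_isStack _ h𝒳 h𝒴 j (fun U => isStack_overCat U)
    (fun U y => isStack_of_repByAlgSp (hj U y))

end Groth.Agent.Lib.Helper24.AlgStStack
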