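import Groth.Agent.Lib.Helper24.PshBridge
import Groth.Agent.Lib.Helper24.FibCatDiag
import Mathlib.CategoryTheory.Limits.Types.Pullbacks
import Mathlib.CategoryTheory.Limits.Shapes.Pullback.IsPullback.Basic
import Mathlib.CategoryTheory.Limits.FunctorCategory.Basic
set_option autoImplicit false
open CategoryTheory Opposite
universe w v u
set_option backward.isDefEq.respectTransparency false
set_option backward.isDefEq.respectTransparency.types false

/-! The category of elements of a pullback of presheaves is the 2-fibre product. -/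

namespace Groth.Agent.Lib.Helper24.PshBridge
open Groth.Agent.Lib.Helper24.PshFun Groth.Agent.Lib.Helper24.FibCatFpMap
open Groth.Agent.Lib.Helper24.FibCatEquiv Groth.Agent.Lib.Helper24.FibCatFpGen

variable {C : Type u} [Category.{v} C] {F G H F' : Cᵒᵖ ⥤ Type w}
  (a : F ⟶ G) (ξ : H ⟶ G) (fst : F' ⟶ F) (snd : F' ⟶ H)

/-- pointwise description of a pullback square of presheaves of types -/
structure IsPtPullback : Prop where
  w : fst ≫ a = snd ≫ ξ
  inj : ∀ (T : Cᵒᵖ) (z z' : F'.obj T), fst.app T z = fst.app T z' → snd.app T z = snd.app T z' →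
    z = z'
  surj : ∀ (T : Cᵒᵖ) (x : F.obj T) (h : H.obj T), a.app T x = ξ.app T h →
    ∃ z : F'.obj T, fst.app T z = x ∧ snd.app T z = h

theorem isPtPullback_of_isPullback (sq : IsPullback fst snd a ξ) : IsPtPullback a ξ fst snd := by
  have key : ∀ T : Cᵒᵖ, IsPullback (fst.app T) (snd.app T) (a.app T) (ξ.app T) := fun T =>
    IsPullback.map ((evaluation Cᵒᵖ (Type w)).obj T) sq
  refine ⟨sq.w, fun T z z' h1 h2 => ?_, fun T x h e => ?_⟩
  · exact Limits.Types.ext_of_isPullback (key T) h1 h2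
  · exact Limits.Types.exists_of_isPullback (key T) x h e

variable {a ξ fst snd} (sq : IsPtPullback a ξ fst snd)

include sq in
lemma IsPtPullback.w_app (T : Cᵒᵖ) (z : F'.obj T) :
    a.app T (fst.app T z) = ξ.app T (snd.app T z) := by
  have := congrArg (fun t => t.app T z) sq.w
  exact this

/-- the 2-isomorphism filling the square of categories of elements -/
def sqIso : BasedFunctor.comp (Stk.ofPshMap snd) (Stk.ofPshMap ξ) ≅
    BasedFunctor.comp (Stk.ofPshMap fst) (Stk.ofPshMap a) :=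
  isoOfSecEq _ _ fun x => by
    have h1 : BasedFunctor.comp (Stk.ofPshMap snd) (Stk.ofPshMap ξ) = Stk.ofPshMap (snd ≫ ξ) := rfl
    have h2 : BasedFunctor.comp (Stk.ofPshMap fst) (Stk.ofPshMap a) = Stk.ofPshMap (fst ≫ a) := rfl
    rw [h1, h2, sq.w]

/-- the comparison functor from the elements of the pullback to the 2-fibre product -/
def fpOfSq : Stk.ofPsh F' ⥤ᵇ FibCat.fp (Stk.ofPshMap ξ) (Stk.ofPshMap a) :=
  FibCat.fpLift (Stk.ofPshMap snd) (Stk.ofPshMap fst) (sqIso sq)

lemma fpOfSq_fst : BasedFunctor.comp (fpOfSq sq) (FibCat.fpFst _ _) = Stk.ofPshMap snd := rfl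
lemma fpOfSq_snd : BasedFunctor.comp (fpOfSq sq) (FibCat.fpSnd _ _) = Stk.ofPshMap fst := rfl

instance : (fpOfSq sq).toFunctor.Faithful := by
  constructor
  intro x y m m' h
  apply Stk.EltObj.hom_ext
  have := congrArg (fun t => t.hom.fst.hom) h
  exact this

/-- the underlying base morphism of an isomorphism over the identity is trivial -/
lemma hom_of_lift_id {P : Cᵒᵖ ⥤ Type w} {x y : (Stk.ofPsh P).obj} (hb : x.base = y.base)
    (m : x ⟶ y) (hm : (Stk.ofPsh P).p.IsHomLift (𝟙 x.base) m) : m.hom = eqToHom hb := by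
  have := IsHomLift.fac' (Stk.ofPsh P).p (𝟙 x.base) m
  simpa using this

instance : (fpOfSq sq).toFunctor.Full := by
  constructor
  intro x y n
  -- components
  have hw := hom_w n
  have hx : (Stk.ofPsh G).p.IsHomLift (𝟙 x.base) ((fpOfSq sq).toFunctor.obj x).obj.iso.hom :=
    iso_isHomLift _ _ ((fpOfSq sq).toFunctor.obj x)
  have hy : (Stk.ofPsh G).p.IsHomLift (𝟙 y.base) ((fpOfSq sq).toFunctor.obj y).obj.iso.hom :=
    iso_isHomLift _ _ ((fpOfSq sq).toFunctor.obj y)
  have e1 := hom_of_lift_id (P := G) (x := (Stk.ofPshMap ξ).toFunctor.obj ((Stk.ofPshMap snd).toFunctor.obj x))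
    (y := (Stk.ofPshMap a).toFunctor.obj ((Stk.ofPshMap fst).toFunctor.obj x)) rfl _ hx
  have e2 := hom_of_lift_id (P := G) (x := (Stk.ofPshMap ξ).toFunctor.obj ((Stk.ofPshMap snd).toFunctor.obj y))
    (y := (Stk.ofPshMap a).toFunctor.obj ((Stk.ofPshMap fst).toFunctor.obj y)) rfl _ hy
  have hcomp := congrArg (fun t => t.hom) hw
  simp only [Stk.EltObj.comp_hom] at hcomp
  rw [e1, e2] at hcomp
  have hfs : n.hom.fst.hom = n.hom.snd.hom := by
    simp only [eqToHom_refl] at hcomp
    exact (Category.comp_id _).symm.trans (hcomp.trans (Category.id_comp _))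
  have s1 := n.hom.fst.map_sec
  have s2 := n.hom.snd.map_sec
  have hz : F'.map n.hom.fst.hom.op y.sec = x.sec := by
    apply sq.inj
    · have := congrArg (fun t => t y.sec) (fst.naturality n.hom.fst.hom.op)
      simp only [types_comp_apply] at this
      rw [this, hfs]
      exact s2
    · have := congrArg (fun t => t y.sec) (snd.naturality n.hom.fst.hom.op)
      simp only [types_comp_apply] at this
      rw [this]
      exact s1
  refine ⟨⟨n.hom.fst.hom, hz⟩, ?_⟩
  apply hom_ext'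
  · apply Stk.EltObj.hom_ext; rfl
  · apply Stk.EltObj.hom_ext; exact hfs

end Groth.Agent.Lib.Helper24.PshBridge

namespace Groth.Agent.Lib.Helper24.PshBridge
open Groth.Agent.Lib.Helper24.PshFun Groth.Agent.Lib.Helper24.FibCatFpMap
open Groth.Agent.Lib.Helper24.FibCatEquiv Groth.Agent.Lib.Helper24.FibCatFpGen

variable {C : Type u} [Category.{v} C]

/-- isomorphism between two objects with equal base and matching sections -/
def isoOfEq {P : Cᵒᵖ ⥤ Type w} (x y : (Stk.ofPsh P).obj) (hb : x.base = y.base)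
    (hs : P.map (eqToHom hb).op y.sec = x.sec) : x ≅ y where
  hom := ⟨eqToHom hb, hs⟩
  inv := ⟨eqToHom hb.symm, by
    rw [← hs, ← Functor.map_comp_apply, ← op_comp]
    simp⟩
  hom_inv_id := Stk.EltObj.hom_ext (by simp)
  inv_hom_id := Stk.EltObj.hom_ext (by simp)

lemma isoOfEq_lift {P : Cᵒᵖ ⥤ Type w} (x y : (Stk.ofPsh P).obj) (hb : x.base = y.base)
    (hs : P.map (eqToHom hb).op y.sec = x.sec) :
    (Stk.ofPsh P).p.IsHomLift (𝟙 x.base) (isoOfEq x y hb hs).hom :=
  IsHomLift.of_fac' _ _ _ rfl hb.symm (by simp [isoOfEq])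

variable {F G H F' : Cᵒᵖ ⥤ Type w} {a : F ⟶ G} {ξ : H ⟶ G} {fst : F' ⟶ F} {snd : F' ⟶ H}
  (sq : IsPtPullback a ξ fst snd)

include sq in
lemma exists_preimage (η : (FibCat.fp (Stk.ofPshMap ξ) (Stk.ofPshMap a)).obj) :
    ∃ (pre : (Stk.ofPsh F').obj) (e : (fpOfSq sq).toFunctor.obj pre ≅ η),
      (FibCat.fp (Stk.ofPshMap ξ) (Stk.ofPshMap a)).p.IsHomLift
        (𝟙 ((FibCat.fp (Stk.ofPshMap ξ) (Stk.ofPshMap a)).p.obj η)) e.hom := by
  have hη : (Stk.ofPsh G).p.IsHomLift (𝟙 η.obj.fst.base) η.obj.iso.hom := iso_isHomLift _ _ η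
  have hb : η.obj.fst.base = η.obj.snd.base :=
    p_eq (Stk.ofPshMap ξ) (Stk.ofPshMap a) η
  have hk : η.obj.iso.hom.hom = eqToHom hb :=
    hom_of_lift_id (P := G) (x := (Stk.ofPshMap ξ).toFunctor.obj η.obj.fst)
      (y := (Stk.ofPshMap a).toFunctor.obj η.obj.snd) hb _ hη
  have hsec := η.obj.iso.hom.map_sec
  rw [hk] at hsec
  change G.map (eqToHom hb).op (a.app _ η.obj.snd.sec) = ξ.app _ η.obj.fst.sec at hsec
  -- transport the section of `F`
  let x' : F.obj (op η.obj.fst.base) := F.map (eqToHom hb).op η.obj.snd.sec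
  have hx' : a.app _ x' = ξ.app _ η.obj.fst.sec := by
    rw [← hsec]
    exact congrArg (fun t => t η.obj.snd.sec) (a.naturality (eqToHom hb).op)
  obtain ⟨z, hz1, hz2⟩ := sq.surj (op η.obj.fst.base) x' η.obj.fst.sec hx'
  let pre : (Stk.ofPsh F').obj := ⟨η.obj.fst.base, z⟩
  let a' : ((fpOfSq sq).toFunctor.obj pre).obj.fst ≅ η.obj.fst :=
    isoOfEq (P := H) ((Stk.ofPshMap snd).toFunctor.obj pre) η.obj.fst rfl (by
      change H.map (𝟙 _).op η.obj.fst.sec = snd.app _ z
      rw [hz2]; simp)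
  let b' : ((fpOfSq sq).toFunctor.obj pre).obj.snd ≅ η.obj.snd :=
    isoOfEq (P := F) ((Stk.ofPshMap fst).toFunctor.obj pre) η.obj.snd hb (by
      change F.map (eqToHom hb).op η.obj.snd.sec = fst.app _ z
      rw [hz1])
  have hpre : (Stk.ofPsh G).p.IsHomLift (𝟙 pre.base)
      ((fpOfSq sq).toFunctor.obj pre).obj.iso.hom :=
    iso_isHomLift _ _ ((fpOfSq sq).toFunctor.obj pre)
  have hk2 := hom_of_lift_id (P := G)
    (x := (Stk.ofPshMap ξ).toFunctor.obj ((Stk.ofPshMap snd).toFunctor.obj pre))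
    (y := (Stk.ofPshMap a).toFunctor.obj ((Stk.ofPshMap fst).toFunctor.obj pre)) rfl _ hpre
  refine ⟨pre, Groth.Agent.Lib.Helper24.FibCatDiag.mkIso a' b' ?_, ?_⟩
  · apply Stk.EltObj.hom_ext
    simp only [Stk.EltObj.comp_hom]
    rw [hk, hk2]
    change eqToHom (rfl : η.obj.fst.base = η.obj.fst.base) ≫ eqToHom hb =
      eqToHom (rfl : η.obj.fst.base = η.obj.fst.base) ≫ eqToHom hb
    rfl
  · rw [isHomLift_iff_fst]
    exact isoOfEq_lift _ _ _ _

/-- the elements of a pullback of presheaves form the 2-fibre product over `C` -/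
theorem isEquivOver_fpOfSq : FibCat.IsEquivOver (fpOfSq sq) := by
  choose pre e he using exists_preimage sq
  exact isEquivOver_of_liftData ⟨pre, e, he⟩

end Groth.Agent.Lib.Helper24.PshBridge
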