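import Groth.Agent.Lib.Helper24.AlgStBridge2
import Groth.Agent.Lib.Helper24.AlgStInv
import Groth.Agent.Lib.Helper24.AlgStStack
import Groth.Agent.Lib.Helper24.PshBridge2
import Groth.Agent.Lib.Helper24.FibCatEquiv3
import Groth.Agent.Lib.Helper14.AlgSpProdQC
import Groth.Agent.Lib.Helper14.AlgSpLocP
import Groth.Agent.Lib.Helper14.AlgSpPoints
set_option autoImplicit false
open CategoryTheory AlgebraicGeometry Opposite
universe w v u
set_option backward.isDefEq.respectTransparency false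
set_option backward.isDefEq.respectTransparency.types false

namespace Groth.Agent.Lib.Helper24.AlgStAtlas
open Groth.Agent.Lib.Helper24.PshFun Groth.Agent.Lib.Helper24.FibCatFpMap
open Groth.Agent.Lib.Helper24.FibCatEquiv Groth.Agent.Lib.Helper24.FibCatFpGen
open Groth.Agent.Lib.Helper24.PshBridge Groth.Agent.Lib.Helper24.AlgStRep
open Groth.Agent.Lib.Helper24.AlgStBridge
open CategoryTheory.Limits

section General
variable {C : Type u} [Category.{v} C]

/-- sections of the terminal sheaf of types are unique -/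
noncomputable def uniqueTerminalSections (J : GrothendieckTopology C) (T : Cᵒᵖ) :
    Unique ((⊤_ Sheaf J (Type w)).obj.obj T) := by
  have h1 : IsTerminal ((sheafToPresheaf J (Type w)).obj (⊤_ Sheaf J (Type w))) :=
    IsTerminal.isTerminalObj _ _ terminalIsTerminal
  have h2 : IsTerminal (((evaluation Cᵒᵖ (Type w)).obj T).obj
      ((sheafToPresheaf J (Type w)).obj (⊤_ Sheaf J (Type w)))) :=
    IsTerminal.isTerminalObj _ _ h1
  exact (Types.isTerminalEquivUnique _).1 h2

instance toSelf_ofPsh_faithful (P : Cᵒᵖ ⥤ Type w) :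
    (FibCat.toSelf (Stk.ofPsh P)).toFunctor.Faithful where
  map_injective {a b} f g h := Stk.EltObj.hom_ext h

instance toSelf_ofPsh_full (P : Cᵒᵖ ⥤ Type w) [∀ T, Subsingleton (P.obj T)] :
    (FibCat.toSelf (Stk.ofPsh P)).toFunctor.Full where
  map_surjective {a b} g := ⟨⟨g, Subsingleton.elim _ _⟩, rfl⟩

end General


section Prod
variable {S : Scheme.{u}}

/-- the category of the product of two sheaves is the product over `(Sch/S)` of their categories -/
theorem repByAlgSp_fp_toSelf (X Y : AlgSp.Space S) :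
    AlgSt.RepByAlgSp (FibCat.fp (FibCat.toSelf (AlgSt.ofSp X.obj)) (FibCat.toSelf (AlgSt.ofSp Y.obj))) := by
  let pt : AlgSp.Sp S := ⊤_ AlgSp.Sp S
  have hsq : IsPullback (prod.snd : X.obj ⨯ Y.obj ⟶ Y.obj) prod.fst (terminal.from Y.obj)
      (terminal.from X.obj) := (IsPullback.of_hasBinaryProduct' X.obj Y.obj).flip
  have hsq' := hsq.map (sheafToPresheaf (AlgSp.J S) (Type (u + 1)))
  have sq := isPtPullback_of_isPullback _ _ _ _ hsq'
  have : ∀ T, Subsingleton (pt.obj.obj T) := fun T =>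
    (uniqueTerminalSections (AlgSp.J S) T).instSubsingleton
  let E1 := fpOfSq sq
  have hE1 : FibCat.IsEquivOver E1 := isEquivOver_fpOfSq sq
  let s := FibCat.toSelf (Stk.ofPsh pt.obj)
  let eF : BasedFunctor.comp (Stk.ofPshMap (terminal.from X.obj).hom) s ≅
      BasedFunctor.comp (BasedFunctor.id _) (FibCat.toSelf (AlgSt.ofSp X.obj)) := Iso.refl _
  let eG : BasedFunctor.comp (Stk.ofPshMap (terminal.from Y.obj).hom) s ≅
      BasedFunctor.comp (BasedFunctor.id _) (FibCat.toSelf (AlgSt.ofSp Y.obj)) := Iso.refl _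
  let E2 := fpMap (BasedFunctor.id _) (BasedFunctor.id _) s eF eG
  have hE2 : FibCat.IsEquivOver E2 :=
    isEquivOver_fpMap _ _ s eF eG (isEquivOver_id _) (isEquivOver_id _)
  exact ⟨⟨X.obj ⨯ Y.obj, Groth.Agent.Lib.Helper14.AS.isAlgSpace_prod X.property Y.property⟩,
    BasedFunctor.comp E1 E2, isEquivOver_comp E1 E2 hE1 hE2⟩

end Prod

section Atlas
variable {S : Scheme.{u}}
open Groth.Agent.Lib.Helper14.AS

/-- a representable morphism of sheaves all of whose base changes to schemes have `Q` is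
representable by algebraic spaces with `Q` -/
theorem repBySpWith_of_representable (Q : MorphismProperty (AlgSp.Sp S)) {F G : AlgSp.Sp S}
    (p : F ⟶ G) (hp : AlgSp.Representable p)
    (hQ : ∀ ⦃U : Over S⦄ (ξ : (AlgSp.yon S).obj U ⟶ G) ⦃F' : AlgSp.Sp S⦄ (fst : F' ⟶ F)
      (snd : F' ⟶ (AlgSp.yon S).obj U), IsPullback fst snd p ξ → Q snd) :
    AlgSp.RepBySpWith Q p.hom := by
  rw [AlgSp.repBySpWith_hom_iff]
  intro U ξ F' fst snd sq
  exact ⟨(AlgSp.repBySp_hom_iff p).1 (AlgSp.Representable.repBySp hp) ξ fst snd sq, hQ ξ fst snd sq⟩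

theorem repBySpWith_isEtaleMor_of_repWith {F G : AlgSp.Sp S} (p : F ⟶ G)
    (hp : AlgSp.RepWith @Etale p) : AlgSp.RepBySpWith AlgSp.IsEtaleMor p.hom :=
  repBySpWith_of_representable _ p hp.rep fun U ξ F' fst snd sq φ _ hφ =>
    repWith_comp @Etale hφ (repWith_of_isPullback @Etale sq hp)

theorem etale_le_smooth : (@Etale : MorphismProperty Scheme.{u}) ≤ @Smooth :=
  fun _ _ _ h => by have := h; infer_instance

theorem repBySpWith_locP_smooth_of_repWith {F G : AlgSp.Sp S} (p : F ⟶ G)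
    (hp : AlgSp.RepWith @Etale p) : AlgSp.RepBySpWith (AlgSp.LocP @Smooth) p.hom :=
  repBySpWith_of_representable _ p hp.rep fun U ξ F' fst snd sq =>
    locP_of_repWith etale_le_smooth
      (repWith_mono etale_le_smooth (repWith_of_isPullback @Etale sq hp))

theorem repBySpWith_isSurjectiveMor_of_repWith {F G : AlgSp.Sp S} (p : F ⟶ G)
    (hp : AlgSp.RepWith @Surjective p) : AlgSp.RepBySpWith AlgSp.IsSurjectiveMor p.hom :=
  repBySpWith_of_representable _ p hp.rep fun U ξ F' fst snd sq =>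
    points_map_surjective_of_repWith (repWith_of_isPullback @Surjective sq hp)

/-- transport a property of `ofSpMap p` to the functor out of the slice -/
theorem repByAlgSpWith_atlas (Q : MorphismProperty (AlgSp.Sp S)) {X : AlgSp.Sp S} {U : Over S}
    (p : (AlgSp.yon S).obj U ⟶ X) (h : AlgSp.RepBySpWith Q p.hom) :
    AlgSt.RepByAlgSpWith Q (BasedFunctor.comp (AlgSt.ofOverCat U) (AlgSt.ofSpMap p)) :=
  (repByAlgSpWith_iff_of_isEquivOver Q (AlgSt.ofSpMap p)
    (BasedFunctor.comp (AlgSt.ofOverCat U) (AlgSt.ofSpMap p)) (AlgSt.ofOverCat U)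
    (BasedFunctor.id _) (isEquivOver_ofOverCat U) (isEquivOver_id _) (Iso.refl _)).1
    (repByAlgSpWith_ofPshMap_of_repBySpWith Q p.hom h)

theorem hasAtlas_etale_ofSp (X : AlgSp.Space S) : AlgSt.HasAtlas AlgSp.IsEtaleMor (AlgSt.ofSp X.obj) := by
  obtain ⟨U, p, h1, h2⟩ := X.property.atlas
  exact ⟨U, _, repByAlgSpWith_atlas _ p (repBySpWith_isEtaleMor_of_repWith p h1),
    repByAlgSpWith_atlas _ p (repBySpWith_isSurjectiveMor_of_repWith p h2)⟩

theorem hasAtlas_smooth_ofSp (X : AlgSp.Space S) :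
    AlgSt.HasAtlas (AlgSp.LocP @Smooth) (AlgSt.ofSp X.obj) := by
  obtain ⟨U, p, h1, h2⟩ := X.property.atlas
  exact ⟨U, _, repByAlgSpWith_atlas _ p (repBySpWith_locP_smooth_of_repWith p h1),
    repByAlgSpWith_atlas _ p (repBySpWith_isSurjectiveMor_of_repWith p h2)⟩

theorem repByAlgSp_ofSp (X : AlgSp.Space S) : AlgSt.RepByAlgSp (AlgSt.ofSp X.obj) :=
  ⟨X, BasedFunctor.id _, isEquivOver_id _⟩

theorem isAlgStack_ofSp (X : AlgSp.Space S) :
    AlgSt.IsAlgStack Scheme.fppfPrecoverage (AlgSt.ofSp X.obj) where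
  isStack := AlgStStack.isStack_ofSp X.obj
  diag := repByAlgSp1_of_repByAlgSp (repByAlgSp_ofSp X) (repByAlgSp_fp_toSelf X X) _
  atlas := hasAtlas_smooth_ofSp X

theorem isDM_ofSp (X : AlgSp.Space S) : AlgSt.IsDM Scheme.fppfPrecoverage (AlgSt.ofSp X.obj) :=
  ⟨isAlgStack_ofSp X, hasAtlas_etale_ofSp X⟩

theorem isDM_of_repByAlgSp {𝒳 : BasedCategory.{v, w} (Over S)} (hr : AlgSt.RepByAlgSp 𝒳) :
    AlgSt.IsDM Scheme.fppfPrecoverage 𝒳 := by
  obtain ⟨X, e, he⟩ := hr
  exact (AlgStInv.isDM_iff_of_isEquivOver _ e he).1 (isDM_ofSp X)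

theorem isAlgStack_of_repByAlgSp {𝒳 : BasedCategory.{v, w} (Over S)} (hr : AlgSt.RepByAlgSp 𝒳) :
    AlgSt.IsAlgStack Scheme.fppfPrecoverage 𝒳 := (isDM_of_repByAlgSp hr).1

end Atlas

end Groth.Agent.Lib.Helper24.AlgStAtlas
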