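import Groth.Agent.Lib.Helper24.AlgStBoot
import Groth.Agent.Lib.Helper24.AlgStAtlas
import Groth.Prelude.Def_AlgSpCov
set_option autoImplicit false
open CategoryTheory AlgebraicGeometry Opposite
universe w₁ v₁ w₂ v₂ w₃ v₃ u
set_option backward.isDefEq.respectTransparency false
set_option backward.isDefEq.respectTransparency.types false

namespace Groth.Agent.Lib.Helper24.AlgStRepS
open Groth.Agent.Lib.Helper24.PshFun Groth.Agent.Lib.Helper24.FibCatFpMap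
open Groth.Agent.Lib.Helper24.FibCatEquiv Groth.Agent.Lib.Helper24.FibCatFpGen
open Groth.Agent.Lib.Helper24.PshBridge Groth.Agent.Lib.Helper24.AlgStRep
open Groth.Agent.Lib.Helper24.AlgStBridge Groth.Agent.Lib.Helper24.AlgStBoot
open CategoryTheory.Limits

variable {S : Scheme.{u}}

/-- the map of sheaves attached to a functor over `(Sch/S)` between categories of sheaves -/
def spMapOf {F G : AlgSp.Sp S} (Φ : AlgSt.ofSp F ⥤ᵇ AlgSt.ofSp G) : F ⟶ G :=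
  ObjectProperty.homMk (pshMapOf Φ)

lemma spMapOf_congr {F G : AlgSp.Sp S} {Φ Ψ : AlgSt.ofSp F ⥤ᵇ AlgSt.ofSp G} (i : Φ ≅ Ψ) :
    spMapOf Φ = spMapOf Ψ := by
  apply ObjectProperty.hom_ext
  exact pshMapOf_congr i

lemma spMapOf_comp {F G H : AlgSp.Sp S} (Φ : AlgSt.ofSp F ⥤ᵇ AlgSt.ofSp G)
    (Ψ : AlgSt.ofSp G ⥤ᵇ AlgSt.ofSp H) :
    spMapOf (BasedFunctor.comp Φ Ψ) = spMapOf Φ ≫ spMapOf Ψ := by
  apply ObjectProperty.hom_ext
  exact pshMapOf_comp Φ Ψ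

lemma spMapOf_ofSpMap {F G : AlgSp.Sp S} (a : F ⟶ G) : spMapOf (AlgSt.ofSpMap a) = a := by
  apply ObjectProperty.hom_ext
  exact pshMapOf_ofPshMap a.hom

lemma spMapOfOver_eq {F : AlgSp.Sp S} {U : Over S} (Φ : AlgSt.ofSp F ⥤ᵇ FibCat.overCat U) :
    AlgSt.spMapOfOver Φ = spMapOf (BasedFunctor.comp Φ (AlgSt.ofOverCat U)) := by
  have i : Φ ≅ BasedFunctor.comp (Stk.ofPshMap (pshMapOf (BasedFunctor.comp Φ (AlgSt.ofOverCat U))))
      (AlgSt.toOverCat U) :=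
    whiskerRightIso (isoOfPshMap (BasedFunctor.comp Φ (AlgSt.ofOverCat U))) (AlgSt.toOverCat U)
  rw [spMapOfOver_congr _ _ i, spMapOfOver_ofPshMap_toOverCat]
  rfl

/-- `f` is representable by algebraic spaces with `P`, tested on algebraic spaces -/
def RepS (P : MorphismProperty (AlgSp.Sp S)) {𝒳 : BasedCategory.{v₁, w₁} (Over S)}
    {𝒴 : BasedCategory.{v₂, w₂} (Over S)} (f : 𝒳 ⥤ᵇ 𝒴) : Prop :=
  ∀ (G : AlgSp.Space S) (y : AlgSt.ofSp G.obj ⥤ᵇ 𝒴),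
    ∃ (F : AlgSp.Space S) (e : AlgSt.ofSp F.obj ⥤ᵇ FibCat.fp y f), FibCat.IsEquivOver e ∧
      P (spMapOf (BasedFunctor.comp e (FibCat.fpFst y f)))

instance : (BasedFunctor.id (FibCat.selfOver (Over S))).toFunctor.Full :=
  inferInstanceAs (𝟭 (Over S)).Full

section
variable {C : Type*} [Category C] (𝒴 : BasedCategory.{v₂, w₂} C)
instance id_full : (BasedFunctor.id 𝒴).toFunctor.Full := inferInstanceAs (𝟭 𝒴.obj).Full
instance id_faithful : (BasedFunctor.id 𝒴).toFunctor.Faithful := inferInstanceAs (𝟭 𝒴.obj).Faithful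
end

theorem repByAlgSpWith_of_repS (P : MorphismProperty (AlgSp.Sp S))
    {𝒳 : BasedCategory.{v₁, w₁} (Over S)} {𝒴 : BasedCategory.{v₂, w₂} (Over S)} (f : 𝒳 ⥤ᵇ 𝒴)
    (h : RepS P f) : AlgSt.RepByAlgSpWith P f := by
  intro U y
  let y' : AlgSt.ofSch U ⥤ᵇ 𝒴 := BasedFunctor.comp (AlgSt.toOverCat U) y
  obtain ⟨F, e, he, hP⟩ := h ⟨(AlgSp.yon S).obj U, AlgSp.IsAlgSpace.yon_obj U⟩ y'
  let eF : BasedFunctor.comp y' (BasedFunctor.id 𝒴) ≅ BasedFunctor.comp (AlgSt.toOverCat U) y :=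
    Iso.refl _
  let eG : BasedFunctor.comp f (BasedFunctor.id 𝒴) ≅ BasedFunctor.comp (BasedFunctor.id 𝒳) f :=
    Iso.refl _
  let M := fpMap (AlgSt.toOverCat U) (BasedFunctor.id 𝒳) (BasedFunctor.id 𝒴) eF eG
  have hM : FibCat.IsEquivOver M :=
    isEquivOver_fpMap _ _ _ eF eG (isEquivOver_toOverCat U) (isEquivOver_id _)
  refine ⟨F, BasedFunctor.comp e M, isEquivOver_comp e M he hM, ?_⟩
  rw [spMapOfOver_eq]
  exact hP


/-- `P` restricted to morphisms between algebraic spaces -/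
def Phat (P : MorphismProperty (AlgSp.Sp S)) : MorphismProperty (AlgSp.Sp S) :=
  fun X Y a => AlgSp.IsAlgSpace X → AlgSp.IsAlgSpace Y → P a

/-- stability under base change between algebraic spaces (the hypothesis shape of the statements) -/
def StableBC (P : MorphismProperty (AlgSp.Sp S)) : Prop :=
  ∀ ⦃X₁ Y₁ X₂ Y₂ : AlgSp.Sp S⦄, AlgSp.IsAlgSpace X₁ → AlgSp.IsAlgSpace Y₁ → AlgSp.IsAlgSpace X₂ →
    AlgSp.IsAlgSpace Y₂ → ∀ (a : X₁ ⟶ Y₁) (b : Y₂ ⟶ Y₁) (a' : X₂ ⟶ Y₂) (b' : X₂ ⟶ X₁),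
    IsPullback b' a' a b → P a → P a'

/-- stability under composition between algebraic spaces -/
def StableComp (P : MorphismProperty (AlgSp.Sp S)) : Prop :=
  ∀ ⦃X Y Z : AlgSp.Sp S⦄, AlgSp.IsAlgSpace X → AlgSp.IsAlgSpace Y → AlgSp.IsAlgSpace Z →
    ∀ (a : X ⟶ Y) (b : Y ⟶ Z), P a → P b → P (a ≫ b)

lemma phat_respectsIso (P : MorphismProperty (AlgSp.Sp S)) (hPb : StableBC P) :
    (Phat P).RespectsIso := by
  apply MorphismProperty.RespectsIso.mk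
  · intro X Y Z e f hf hX hZ
    have hY : AlgSp.IsAlgSpace Y := hX.of_iso e
    exact hPb hY hZ hX hZ f (𝟙 Z) (e.hom ≫ f) e.hom (IsPullback.of_horiz_isIso ⟨by simp⟩)
      (hf hY hZ)
  · intro X Y Z e f hf hX hZ
    have hY : AlgSp.IsAlgSpace Y := hZ.of_iso e.symm
    exact hPb hX hY hX hZ f e.inv (f ≫ e.hom) (𝟙 X) (IsPullback.of_horiz_isIso ⟨by simp⟩)
      (hf hX hY)

lemma repByAlgSpWith_phat (P : MorphismProperty (AlgSp.Sp S))
    {𝒳 : BasedCategory.{v₁, w₁} (Over S)} {𝒴 : BasedCategory.{v₂, w₂} (Over S)} (f : 𝒳 ⥤ᵇ 𝒴)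
    (hf : AlgSt.RepByAlgSpWith P f) : AlgSt.RepByAlgSpWith (Phat P) f := fun U y => by
  obtain ⟨F, e, he, h⟩ := hf U y
  exact ⟨F, e, he, fun _ _ => h⟩

lemma repByAlgSp1_of_repByAlgSpWith (P : MorphismProperty (AlgSp.Sp S))
    {𝒳 : BasedCategory.{v₁, w₁} (Over S)} {𝒴 : BasedCategory.{v₂, w₂} (Over S)} (f : 𝒳 ⥤ᵇ 𝒴)
    (hf : AlgSt.RepByAlgSpWith P f) : AlgSt.RepByAlgSp1 f := fun U y => by
  obtain ⟨F, e, he, -⟩ := hf U y
  exact ⟨F, e, he⟩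

open Groth.Agent.Lib.Helper14.AS in
/-- an etale atlas is an fppf covering -/
lemma isFppfCover_atlas {G : AlgSp.Sp S} {V : Over S} (p : (AlgSp.yon S).obj V ⟶ G)
    (hpe : AlgSp.RepWith @Etale p) (hps : AlgSp.RepWith @Surjective p) :
    AlgSp.IsFppfCover (ι := PUnit.{u + 1}) (fun _ => (AlgSp.yon S).obj V) (fun _ => p) := by
  refine ⟨fun _ => ⟨locP_of_repWith etale_le_flat (repWith_mono etale_le_flat hpe),
    locP_of_repWith etale_le_lfp (repWith_mono etale_le_lfp hpe)⟩, fun x => ⟨PUnit.unit, ?_⟩⟩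
  exact points_map_surjective_of_repWith hps x

/-- the key step: `P` of the projection for an algebraic-space test object -/
theorem P_spMapOf_of_repByAlgSpWith (P : MorphismProperty (AlgSp.Sp S)) (hPb : StableBC P)
    (hP : AlgSp.IsLocalOnBase AlgSp.IsFppfCover P) {F G : AlgSp.Space S}
    (Φ : AlgSt.ofSp F.obj ⥤ᵇ AlgSt.ofSp G.obj) (hΦ : AlgSt.RepByAlgSpWith P Φ) :
    P (spMapOf Φ) := by
  have := phat_respectsIso P hPb
  have h3 : AlgSt.RepByAlgSpWith (Phat P) (Stk.ofPshMap (pshMapOf Φ)) :=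
    (repByAlgSpWith_congr _ (isoOfPshMap Φ).symm).1 (repByAlgSpWith_phat P Φ hΦ)
  have h4 : AlgSp.RepBySpWith (Phat P) (spMapOf Φ).hom :=
    repBySpWith_of_repByAlgSpWith_ofPshMap _ _
      (repBySp_of_isAlgSpace F.property G.property (spMapOf Φ)) h3
  rw [AlgSp.repBySpWith_hom_iff] at h4
  obtain ⟨V, p, hpe, hps⟩ := G.property.atlas
  have sq := IsPullback.of_hasPullback (spMapOf Φ) p
  obtain ⟨hFV, hq⟩ := h4 p _ _ sq
  have key := hP (ι := PUnit.{u + 1}) (Y := G.obj) (fun _ => (AlgSp.yon S).obj V) (fun _ => p)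
    G.property (fun _ => AlgSp.IsAlgSpace.yon_obj V) (isFppfCover_atlas p hpe hps) (spMapOf Φ)
    F.property (fun _ => pullback (spMapOf Φ) p) (fun _ => pullback.snd _ _)
    (fun _ => pullback.fst _ _) (fun _ => hFV) (fun _ => sq)
  exact key.2 (fun _ => hq hFV (AlgSp.IsAlgSpace.yon_obj V))

theorem repS_of_repByAlgSpWith {𝒳 𝒴 : AlgSt.Cat S} (h𝒳 : FibCat.IsFibGrpd 𝒳.p)
    (h𝒴 : FibCat.IsFibGrpd 𝒴.p) (P : MorphismProperty (AlgSp.Sp S)) (hPb : StableBC P)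
    (hP : AlgSp.IsLocalOnBase AlgSp.IsFppfCover P) (f : 𝒳 ⥤ᵇ 𝒴)
    (hf : AlgSt.RepByAlgSpWith P f) : RepS P f := by
  intro G y
  obtain ⟨F, e, he⟩ := repByAlgSp_fp h𝒳 h𝒴 (Stk.isFibGrpd_ofPsh _) f y
    (repByAlgSp1_of_repByAlgSpWith P f hf) (Groth.Agent.Lib.Helper24.AlgStAtlas.repByAlgSp_ofSp G)
  refine ⟨F, e, he, ?_⟩
  apply P_spMapOf_of_repByAlgSpWith P hPb hP
  exact (repByAlgSpWith_iff_of_isEquivOver P (FibCat.fpFst y f)
    (BasedFunctor.comp e (FibCat.fpFst y f)) e (BasedFunctor.id _) he (isEquivOver_id _)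
    (Iso.refl _)).1 (repByAlgSpWith_fpFst P f y hf)


/-- composition for the space-test version -/
theorem repS_comp (P : MorphismProperty (AlgSp.Sp S)) (hPc : StableComp P)
    {𝒳 : BasedCategory.{v₁, w₁} (Over S)} {𝒴 : BasedCategory.{v₂, w₂} (Over S)}
    {𝒵 : BasedCategory.{v₃, w₃} (Over S)} (f : 𝒳 ⥤ᵇ 𝒴) (g : 𝒴 ⥤ᵇ 𝒵) (hf : RepS P f)
    (hg : RepS P g) : RepS P (BasedFunctor.comp f g) := by
  intro H y
  obtain ⟨G, eG, heG, hψ⟩ := hg H y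
  let y₂ : AlgSt.ofSp G.obj ⥤ᵇ 𝒴 := BasedFunctor.comp eG (FibCat.fpSnd y g)
  obtain ⟨F, eF, heF, hφ⟩ := hf G y₂
  let i1 : BasedFunctor.comp y₂ (BasedFunctor.id 𝒴) ≅ BasedFunctor.comp eG (FibCat.fpSnd y g) :=
    Iso.refl _
  let i2 : BasedFunctor.comp f (BasedFunctor.id 𝒴) ≅ BasedFunctor.comp (BasedFunctor.id 𝒳) f :=
    Iso.refl _
  let M := fpMap eG (BasedFunctor.id 𝒳) (BasedFunctor.id 𝒴) i1 i2
  have hM : FibCat.IsEquivOver M := isEquivOver_fpMap _ _ _ i1 i2 heG (isEquivOver_id _)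
  let Q := Groth.Agent.Lib.Helper24.FibCatFpPaste.Q f g y
  have hQ : FibCat.IsEquivOver Q := Groth.Agent.Lib.Helper24.FibCatFpPaste.isEquivOver_Q
  refine ⟨F, BasedFunctor.comp eF (BasedFunctor.comp M Q),
    isEquivOver_comp _ _ heF (isEquivOver_comp _ _ hM hQ), ?_⟩
  have e : spMapOf (BasedFunctor.comp (BasedFunctor.comp eF (BasedFunctor.comp M Q))
      (FibCat.fpFst y (BasedFunctor.comp f g))) =
      spMapOf (BasedFunctor.comp eF (FibCat.fpFst y₂ f)) ≫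
        spMapOf (BasedFunctor.comp eG (FibCat.fpFst y g)) := by
    rw [← spMapOf_comp]
    rfl
  rw [e]
  exact hPc F.property G.property H.property _ _ hφ hψ

end Groth.Agent.Lib.Helper24.AlgStRepS
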