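import Groth.Agent.Lib.Helper24.PshMono
import Groth.Agent.Lib.Helper24.AlgStRepS
set_option autoImplicit false
open CategoryTheory AlgebraicGeometry Opposite
universe w₁ v₁ w₂ v₂ w₃ v₃ u
set_option backward.isDefEq.respectTransparency false
set_option backward.isDefEq.respectTransparency.types false

/-! Full functors between categories of algebraic spaces give monomorphisms. -/

namespace Groth.Agent.Lib.Helper24.AlgStMono
open Groth.Agent.Lib.Helper24.PshFun Groth.Agent.Lib.Helper24.PshBridge
open Groth.Agent.Lib.Helper24.AlgStRepS Groth.Agent.Lib.Helper24.PshMono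

variable {S : Scheme.{u}}

theorem mono_spMapOf_of_full {F G : AlgSp.Sp S} (Φ : AlgSt.ofSp F ⥤ᵇ AlgSt.ofSp G)
    [Φ.toFunctor.Full] : Mono (spMapOf Φ) := by
  have h1 : Mono (pshMapOf Φ) := by
    have : ∀ T, Mono ((pshMapOf Φ).app T) := fun T =>
      (mono_iff_injective _).2 (pshMapOf_injective_of_full Φ T)
    exact NatTrans.mono_of_mono_app _
  constructor
  intro Z a b hab
  apply ObjectProperty.hom_ext
  have h2 : a.hom ≫ pshMapOf Φ = b.hom ≫ pshMapOf Φ := congrArg (fun t => t.hom) hab
  exact (cancel_mono _).1 h2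

end Groth.Agent.Lib.Helper24.AlgStMono
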