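import Groth.Agent.Lib.Helper24.FibCatYoneda
import Groth.Agent.Lib.Helper24.FibSetoid
import Groth.Agent.Lib.Helper24.FibCatFpGen
set_option autoImplicit false
open CategoryTheory
universe u v u₂ v₂ u₃ v₃
set_option backward.isDefEq.respectTransparency false
set_option backward.isDefEq.respectTransparency.types false

namespace Groth.Agent.Lib.Helper24.FibCatFaithful
open Groth.Agent.Lib.Helper24.FibGrpd Groth.Agent.Lib.Helper24.FibCatFpGen
open Groth.Agent.Lib.Helper24.FibSetoid Groth.Agent.Lib.Helper24.FibCatYoneda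

variable {C : Type u} [Category.{v} C]
variable {𝒳 : BasedCategory.{v₂, u₂} C} {𝒴 : BasedCategory.{v₃, u₃} C}

/-- In a category fibred in groupoids, faithfulness of a functor over the base can be checked on
automorphisms over identities. -/
theorem faithful_of_aut (f : 𝒳 ⥤ᵇ 𝒴) (h𝒳 : FibCat.IsFibGrpd 𝒳.p) (h𝒴 : FibCat.IsFibGrpd 𝒴.p)
    (h : ∀ (x : 𝒳.obj) (u : x ⟶ x), 𝒳.p.IsHomLift (𝟙 (𝒳.p.obj x)) u →
      f.toFunctor.map u = 𝟙 _ → u = 𝟙 x) : f.toFunctor.Faithful := by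
  constructor
  intro x x' φ ψ hφψ
  have hp : 𝒳.p.map φ = 𝒳.p.map ψ := by
    have h1 := Functor.congr_hom f.w φ
    have h2 := Functor.congr_hom f.w ψ
    rw [Functor.comp_map] at h1 h2
    rw [← hφψ, h1] at h2
    have h3 := (cancel_epi _).mp h2
    exact (cancel_mono _).mp h3
  have hsc : 𝒳.p.IsStronglyCartesian (𝒳.p.map φ) φ := h𝒳.isStronglyCartesian φ
  have hψl : 𝒳.p.IsHomLift (𝟙 _ ≫ 𝒳.p.map φ) ψ := by
    rw [Category.id_comp, hp]; infer_instance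
  obtain ⟨u, ⟨hul, hu⟩, -⟩ := hsc.universal_property' (𝟙 (𝒳.p.obj x)) ψ
  have hfu : f.toFunctor.map u = 𝟙 _ := by
    have hsc' : 𝒴.p.IsStronglyCartesian (𝒴.p.map (f.toFunctor.map φ)) (f.toFunctor.map φ) :=
      h𝒴.isStronglyCartesian _
    have e1 : f.toFunctor.map u ≫ f.toFunctor.map φ = f.toFunctor.map φ := by
      rw [← Functor.map_comp, hu, hφψ]
    have hx : 𝒴.p.obj (f.toFunctor.obj x) = 𝒳.p.obj x := f.w_obj x
    have hl1 : 𝒴.p.IsHomLift (𝟙 (𝒴.p.obj (f.toFunctor.obj x))) (f.toFunctor.map u) := by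
      rw [hx]; infer_instance
    have hφl : 𝒴.p.IsHomLift (𝟙 _ ≫ 𝒴.p.map (f.toFunctor.map φ)) (f.toFunctor.map φ) := by
      rw [Category.id_comp]; infer_instance
    obtain ⟨χ, -, hχ⟩ := hsc'.universal_property' (𝟙 (𝒴.p.obj (f.toFunctor.obj x)))
      (f.toFunctor.map φ)
    rw [hχ (f.toFunctor.map u) ⟨hl1, e1⟩, hχ (𝟙 _) ⟨inferInstance, Category.id_comp _⟩]
  have := h x u hul hfu
  rw [← hu, this, Category.id_comp]

/-- A functor over the base between categories fibred in groupoids all of whose base changes to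
slices are fibred in setoids is faithful. -/
theorem faithful_of_fp_isFibSetoid (f : 𝒳 ⥤ᵇ 𝒴) (h𝒳 : FibCat.IsFibGrpd 𝒳.p)
    (h𝒴 : FibCat.IsFibGrpd 𝒴.p)
    (h : ∀ (U : C) (G : FibCat.overCat U ⥤ᵇ 𝒴), FibCat.IsFibSetoid (FibCat.fp G f).p) :
    f.toFunctor.Faithful := by
  apply faithful_of_aut f h𝒳 h𝒴
  intro x u hul hfu
  have : 𝒴.p.IsFibered := isFibered_of_isFibGrpd 𝒴.p h𝒴
  have hx : 𝒴.p.obj (f.toFunctor.obj x) = 𝒳.p.obj x := f.w_obj x
  let G := pbBased hx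
  have hiso : IsIso (pbMap hx (Over.mk (𝟙 (𝒳.p.obj x)))) := pbMap_id_isIso hx
  let ι : G.toFunctor.obj (Over.mk (𝟙 (𝒳.p.obj x))) ≅ f.toFunctor.obj x :=
    asIso (pbMap hx (Over.mk (𝟙 (𝒳.p.obj x))))
  have hι : 𝒴.p.IsHomLift (𝟙 ((FibCat.overCat (𝒳.p.obj x)).p.obj (Over.mk (𝟙 (𝒳.p.obj x))))) ι.hom :=
    pbMap_id_lift hx
  let z : (FibCat.fp G f).obj := mkObj (F := G) (G := f) (Over.mk (𝟙 (𝒳.p.obj x))) x ι hι
  let m : z ⟶ z := mkHom (x := z) (y := z) (𝟙 _) u (by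
    rw [hfu, G.toFunctor.map_id]
    exact (Category.id_comp _).trans (Category.comp_id _).symm)
  have hm : (FibCat.fp G f).p.IsHomLift (𝟙 (𝒳.p.obj x)) m := by
    rw [isHomLift_iff_fst]
    change (FibCat.overCat (𝒳.p.obj x)).p.IsHomLift (𝟙 (𝒳.p.obj x)) (𝟙 (Over.mk (𝟙 (𝒳.p.obj x))))
    exact IsHomLift.id rfl
  have hid : (FibCat.fp G f).p.IsHomLift (𝟙 (𝒳.p.obj x)) (𝟙 z) := IsHomLift.id rfl
  have hmid : m = 𝟙 z := hom_ext_of_isFibSetoid _ (h _ G) (𝟙 (𝒳.p.obj x)) m (𝟙 z)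
  have := congrArg (fun t => t.hom.snd) hmid
  exact this

end Groth.Agent.Lib.Helper24.FibCatFaithful
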