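import Groth.Prelude.Def_AlgSt2
import Groth.Agent.Lib.Helper24.FibCatFaithful
import Groth.Agent.Lib.Helper24.FibCatEquiv3
set_option autoImplicit false
open CategoryTheory AlgebraicGeometry Opposite
universe w₁ v₁ w₂ v₂ w v u
set_option backward.isDefEq.respectTransparency false
set_option backward.isDefEq.respectTransparency.types false

namespace Groth.Agent.Lib.Helper24.AlgStSetoid
open Groth.Agent.Lib.Helper24.FibCatEquiv Groth.Agent.Lib.Helper24.FibSetoid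

theorem isFibSetoid_ofPsh {C : Type u} [Category.{v} C] (P : Cᵒᵖ ⥤ Type w) :
    FibCat.IsFibSetoid (Stk.ofPsh P).p := by
  refine ⟨Stk.isFibGrpd_ofPsh P, fun U a b => ⟨fun φ ψ => ?_⟩⟩
  apply Functor.Fiber.hom_ext
  apply Stk.EltObj.hom_ext
  have h1 : (Stk.EltObj.forget P).IsHomLift (𝟙 U) (Functor.Fiber.fiberInclusion.map φ) := φ.2
  have h2 : (Stk.EltObj.forget P).IsHomLift (𝟙 U) (Functor.Fiber.fiberInclusion.map ψ) := ψ.2
  have e1 := IsHomLift.fac' (Stk.EltObj.forget P) (𝟙 U) (Functor.Fiber.fiberInclusion.map φ)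
  have e2 := IsHomLift.fac' (Stk.EltObj.forget P) (𝟙 U) (Functor.Fiber.fiberInclusion.map ψ)
  exact e1.trans e2.symm

variable {S : Scheme.{u}}

theorem isFibSetoid_of_repByAlgSp {𝒳 : BasedCategory.{v₁, w₁} (Over S)} (hr : AlgSt.RepByAlgSp 𝒳) :
    FibCat.IsFibSetoid 𝒳.p := by
  obtain ⟨F, e, he⟩ := hr
  obtain ⟨e', he'⟩ := exists_inverse_isEquivOver e he
  exact isFibSetoid_of_isEquivOver e' he' (isFibSetoid_ofPsh _)

theorem faithful_of_repByAlgSp1 {𝒳 : BasedCategory.{v₁, w₁} (Over S)}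
    {𝒴 : BasedCategory.{v₂, w₂} (Over S)} (h𝒳 : FibCat.IsFibGrpd 𝒳.p) (h𝒴 : FibCat.IsFibGrpd 𝒴.p)
    (f : 𝒳 ⥤ᵇ 𝒴) (hf : AlgSt.RepByAlgSp1 f) : f.toFunctor.Faithful :=
  Groth.Agent.Lib.Helper24.FibCatFaithful.faithful_of_fp_isFibSetoid f h𝒳 h𝒴
    fun U G => isFibSetoid_of_repByAlgSp (hf U G)

end Groth.Agent.Lib.Helper24.AlgStSetoid
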