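import Groth.Prelude.Def_AlgSt3
import Groth.Agent.Lib.Helper24.AlgStMono
import Groth.Agent.Lib.Helper24.AlgSpMonoUnram
import Groth.Agent.Lib.Helper24.AlgStDiagLft
import Groth.Agent.Lib.Helper24.AlgStSetoid
set_option autoImplicit false
open CategoryTheory AlgebraicGeometry Opposite
universe w₁ v₁ w₂ v₂ w₃ v₃ w₄ v₄ u
set_option backward.isDefEq.respectTransparency false
set_option backward.isDefEq.respectTransparency.types false

/-! Full functors representable by algebraic spaces are monomorphisms; diagonals of representable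
morphisms. -/

namespace Groth.Agent.Lib.Helper24.AlgStMono
open Groth.Agent.Lib.Helper24.FibCatFpMap
open Groth.Agent.Lib.Helper24.FibCatEquiv Groth.Agent.Lib.Helper24.FibCatFpGen
open Groth.Agent.Lib.Helper24.AlgStRep
open Groth.Agent.Lib.Helper24.AlgStBridge Groth.Agent.Lib.Helper24.AlgStBoot
open Groth.Agent.Lib.Helper24.AlgStRepS
open Groth.Agent.Lib.Helper24.AlgStEqv
open Groth.Agent.Lib.Helper24.AlgStSchLocal
open Groth.Agent.Lib.Helper24.AlgStProps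
open CategoryTheory.Limits

section General
variable {C : Type*} [Category C]

/-- base change of a full functor is full -/
lemma fpFst_full {𝒳 : BasedCategory.{v₁, w₁} C} {𝒴 : BasedCategory.{v₂, w₂} C}
    {𝒵 : BasedCategory.{v₃, w₃} C} (y : 𝒵 ⥤ᵇ 𝒴) (f : 𝒳 ⥤ᵇ 𝒴) [f.toFunctor.Full] :
    (FibCat.fpFst y f).toFunctor.Full := by
  constructor
  intro t t' m
  obtain ⟨n, hn⟩ := f.toFunctor.map_surjective
    (t.obj.iso.inv ≫ y.toFunctor.map m ≫ t'.obj.iso.hom)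
  refine ⟨mkHom m n ?_, rfl⟩
  rw [hn]
  simp

end General

variable {S : Scheme.{u}}

/-- a full functor representable by algebraic spaces is a monomorphism -/
theorem isMono_of_full {𝒳 : BasedCategory.{v₁, w₁} (Over S)}
    {𝒴 : BasedCategory.{v₂, w₂} (Over S)} (f : 𝒳 ⥤ᵇ 𝒴) [f.toFunctor.Full]
    (hf : AlgSt.RepByAlgSp1 f) : AlgSt.IsMono f := by
  intro U y
  obtain ⟨F, e, he⟩ := hf U y
  refine ⟨F, e, he, ?_⟩
  rw [spMapOfOver_eq]
  obtain ⟨⟨_, _⟩, -⟩ := props_of_isEquivOver e he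
  obtain ⟨⟨_, _⟩, -⟩ := props_of_isEquivOver (AlgSt.ofOverCat U) (isEquivOver_ofOverCat U)
  have := fpFst_full y f
  have : (BasedFunctor.comp (BasedFunctor.comp e (FibCat.fpFst y f))
      (AlgSt.ofOverCat U)).toFunctor.Full :=
    inferInstanceAs ((e.toFunctor ⋙ (FibCat.fpFst y f).toFunctor) ⋙
      (AlgSt.ofOverCat U).toFunctor).Full
  exact mono_spMapOf_of_full _

/-- conjunction of two properties, the second respecting isomorphisms -/
theorem repByAlgSpWith_and {𝒳 : BasedCategory.{v₁, w₁} (Over S)}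
    {𝒴 : BasedCategory.{v₂, w₂} (Over S)} (P₁ P₂ : MorphismProperty (AlgSp.Sp S))
    (h₂ : (Phat P₂).RespectsIso) (f : 𝒳 ⥤ᵇ 𝒴) (hf₁ : AlgSt.RepByAlgSpWith P₁ f)
    (hf₂ : AlgSt.RepByAlgSpWith P₂ f) : AlgSt.RepByAlgSpWith (fun _ _ a => P₁ a ∧ P₂ a) f := by
  rw [repByAlgSpWith_iff_hasP] at hf₁ hf₂ ⊢
  intro U y
  obtain ⟨F, e, he, h1⟩ := hf₁ U y
  exact ⟨F, e, he, h1, HasP.forall h₂ (AlgSp.IsAlgSpace.yon_obj U) (hf₂ U y) F e he⟩

/-- the diagonal of a morphism representable by algebraic spaces is a monomorphism -/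
theorem isMono_diag {𝒳 : BasedCategory.{v₁, w₁} (Over S)} {𝒴 : BasedCategory.{v₂, w₂} (Over S)}
    (h𝒳 : FibCat.IsFibGrpd 𝒳.p) (h𝒴 : FibCat.IsFibGrpd 𝒴.p) (f : 𝒳 ⥤ᵇ 𝒴)
    (hf : AlgSt.RepByAlgSp1 f) (hΔ : AlgSt.RepByAlgSp1 (FibCat.diag f)) :
    AlgSt.IsMono (FibCat.diag f) := by
  have := Groth.Agent.Lib.Helper24.AlgStSetoid.faithful_of_repByAlgSp1 h𝒳 h𝒴 f hf
  have := Groth.Agent.Lib.Helper24.FibCatDiag.diag_full (G := f)
  exact isMono_of_full _ hΔ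

/-- a monomorphism which is locally of finite type is unramified -/
theorem repByAlgSpWith_unramified_of_mono {𝒳 : BasedCategory.{v₁, w₁} (Over S)}
    {𝒴 : BasedCategory.{v₂, w₂} (Over S)} (f : 𝒳 ⥤ᵇ 𝒴) (hm : AlgSt.IsMono f)
    (hl : AlgSt.RepByAlgSpWith (AlgSp.LocP @LocallyOfFiniteType) f) :
    AlgSt.RepByAlgSpWith (AlgSp.LocP (@LocallyOfFiniteType ⊓ @FormallyUnramified)) f := by
  have h := repByAlgSpWith_and _ _ good_lft.respectsIso f hm hl
  refine repByAlgSpWith_mono ?_ f h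
  intro X Y a ha
  have : Mono a := ha.1
  exact Groth.Agent.Lib.Helper24.AlgSpMonoUnram.locP_unramified_of_mono a ha.2

/-- a morphism of algebraic stacks representable by algebraic spaces is DM -/
theorem isDMMor_of_repByAlgSp1 {𝒳 𝒴 : AlgSt.Cat S}
    (h𝒳 : AlgSt.IsAlgStack Scheme.fppfPrecoverage 𝒳)
    (h𝒴 : AlgSt.IsAlgStack Scheme.fppfPrecoverage 𝒴) (f : 𝒳 ⥤ᵇ 𝒴) (hf : AlgSt.RepByAlgSp1 f) :
    AlgSt.IsDMMor f :=
  repByAlgSpWith_unramified_of_mono _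
    (isMono_diag h𝒳.isStack.1 h𝒴.isStack.1 f hf
      (Groth.Agent.Lib.Helper24.AlgStRelDiag.repByAlgSp1_relDiag h𝒳.isStack.1 h𝒴.isStack.1
        h𝒳.diag h𝒴.diag f))
    (Groth.Agent.Lib.Helper24.AlgStDiagLft.repByAlgSpWith_lft_relDiag h𝒳 h𝒴 f)

end Groth.Agent.Lib.Helper24.AlgStMono
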