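import Groth.Agent.Lib.Helper24.FibCatYoneda
import Groth.Agent.Lib.Helper24.FibSet4
set_option autoImplicit false
set_option linter.unusedSectionVars false
open CategoryTheory CategoryTheory.Limits
universe u v u₂ v₂ u₃ v₃

/-! Functors between slice categories over `C` are given by morphisms of `C`. -/

set_option backward.isDefEq.respectTransparency false
set_option backward.isDefEq.respectTransparency.types false

namespace Groth.Agent.Lib.Helper24.FibCatOverMap
open Groth.Agent.Lib.Helper24.FibCatFpGen Groth.Agent.Lib.Helper24.FibGrpd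
  Groth.Agent.Lib.Helper24.FibCatYoneda

variable {C : Type u} [Category.{v} C]

/-- a 2-morphism into a category fibred in groupoids is a 2-isomorphism -/
noncomputable def isoOfTrans {𝒜 : BasedCategory.{v₂, u₂} C} {𝒳 : BasedCategory.{v₃, u₃} C}
    (h𝒳 : FibCat.IsFibGrpd 𝒳.p) {G G' : 𝒜 ⥤ᵇ 𝒳} (α : G ⟶ G') : G ≅ G' :=
  have hiso : ∀ a, IsIso (α.toNatTrans.app a) := fun a =>
    have := α.isHomLift' a
    isIso_of_isFibGrpd 𝒳.p h𝒳 (𝟙 (𝒜.p.obj a)) (α.toNatTrans.app a)
  BasedNatIso.mkNatIso (NatIso.ofComponents (fun a => asIso (α.toNatTrans.app a))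
    (fun m => α.toNatTrans.naturality m)) (fun a => α.isHomLift' a)

/-- composition with `h : U ⟶ V` as a functor over `C` -/
def overMapC {U V : C} (h : U ⟶ V) : FibCat.overCat U ⥤ᵇ FibCat.overCat V where
  toFunctor := Over.map h
  w := rfl

theorem exists_iso_overMapC {U V : C} (G : FibCat.overCat U ⥤ᵇ FibCat.overCat V) :
    ∃ a : U ⟶ V, Nonempty (G ≅ overMapC a) := by
  have hg : (G.toFunctor.obj (Over.mk (𝟙 U))).left = U := G.w_obj (Over.mk (𝟙 U))
  obtain ⟨g, hgdef⟩ : ∃ g : Over V, g = G.toFunctor.obj (Over.mk (𝟙 U)) := ⟨_, rfl⟩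
  rw [← hgdef] at hg
  refine ⟨eqToHom hg.symm ≫ g.hom, ⟨?_⟩⟩
  have hV : FibCat.IsFibGrpd (FibCat.overCat V).p := (Groth.Agent.Lib.Helper24.FibSet.isFibSet_overForget V).1
  let φ : G.toFunctor.obj (Over.mk (𝟙 U)) ⟶
      (overMapC (eqToHom hg.symm ≫ g.hom)).toFunctor.obj (Over.mk (𝟙 U)) :=
    Over.homMk (eqToHom (hgdef ▸ hg)) (by
      subst hgdef
      change eqToHom _ ≫ (𝟙 U ≫ eqToHom _ ≫ _) = _
      simp)
  have hφ : (FibCat.overCat V).p.IsHomLift (𝟙 U) φ := by
    subst hgdef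
    apply IsHomLift.of_fac _ _ _ hg rfl
    change 𝟙 U = eqToHom hg.symm ≫ eqToHom hg ≫ eqToHom rfl
    simp
  exact isoOfTrans hV (natTransOf (cartOnT_of_isFibGrpd hV _) φ hφ)

end Groth.Agent.Lib.Helper24.FibCatOverMap
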