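import Groth.Agent.Lib.Helper24.AlgStFpAlg
import Groth.Agent.Lib.Helper24.FibCatOverMap
import Groth.Prelude.Def_AlgSt3
set_option autoImplicit false
open CategoryTheory AlgebraicGeometry Opposite
universe w₁ v₁ w₂ v₂ w₃ v₃ w₄ v₄ w₅ v₅ u
set_option backward.isDefEq.respectTransparency false
set_option backward.isDefEq.respectTransparency.types false

/-! Properties of schemes local in the smooth topology, on algebraic stacks. -/

namespace Groth.Agent.Lib.Helper24.AlgStSmLoc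
open Groth.Agent.Lib.Helper24.FibCatFpMap
open Groth.Agent.Lib.Helper24.FibCatEquiv Groth.Agent.Lib.Helper24.FibCatFpGen
open Groth.Agent.Lib.Helper24.AlgStRep
open Groth.Agent.Lib.Helper24.AlgStBridge Groth.Agent.Lib.Helper24.AlgStBoot
open Groth.Agent.Lib.Helper24.AlgStRepS
open Groth.Agent.Lib.Helper24.AlgStSchLocal
open Groth.Agent.Lib.Helper24.AlgStGC
open Groth.Agent.Lib.Helper24.AlgStProps Groth.Agent.Lib.Helper24.AlgStSmooth
open Groth.Agent.Lib.Helper24.AlgStDiag Groth.Agent.Lib.Helper24.AlgStCalc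
open Groth.Agent.Lib.Helper24.AlgStCalc2
open Groth.Agent.Lib.Helper24.AlgStFpAlg Groth.Agent.Lib.Helper24.FibCatOverMap
open CategoryTheory.Limits

variable {S : Scheme.{u}}

/-- `overMap g` corresponds to `h_g` -/
def overMapIso {W U : Over S} (g : W ⟶ U) :
    BasedFunctor.comp (AlgSt.toOverCat W) (AlgSt.overMap g) ≅
      BasedFunctor.comp (AlgSt.ofSpMap ((AlgSp.yon S).map g)) (AlgSt.toOverCat U) := Iso.refl _

theorem repByAlgSpWith_overMap_iff (P : MorphismProperty (AlgSp.Sp S)) (hP : Good P) {W U : Over S}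
    (g : W ⟶ U) : AlgSt.RepByAlgSpWith P (AlgSt.overMap g) ↔ P ((AlgSp.yon S).map g) := by
  rw [← repByAlgSpWith_ofSpMap_iff P hP.bc hP.loc
    (V := ⟨(AlgSp.yon S).obj W, AlgSp.IsAlgSpace.yon_obj W⟩)
    (W := ⟨(AlgSp.yon S).obj U, AlgSp.IsAlgSpace.yon_obj U⟩)]
  exact repByAlgSpWith_iff_of_isEquivOver P (AlgSt.overMap g) (AlgSt.ofSpMap ((AlgSp.yon S).map g))
    (AlgSt.toOverCat W) (AlgSt.toOverCat U) (isEquivOver_toOverCat W) (isEquivOver_toOverCat U)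
    (overMapIso g).symm

theorem surjective_of_isSurjectiveMor_yon_map {W U : Over S} (g : W ⟶ U)
    (h : AlgSp.IsSurjectiveMor ((AlgSp.yon S).map g)) : Surjective g.left := by
  constructor
  intro t
  obtain ⟨x, hx⟩ := h (AlgSp.Points.schemeHomeo U t)
  obtain ⟨w, rfl⟩ := (AlgSp.Points.schemeHomeo W).surjective x
  rw [AlgSp.Points.map_yon_map_apply] at hx
  exact ⟨w, (AlgSp.Points.schemeHomeo U).injective hx⟩

theorem isSurjectiveMor_yon_map_of_surjective {W U : Over S} (g : W ⟶ U)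
    (h : Surjective g.left) : AlgSp.IsSurjectiveMor ((AlgSp.yon S).map g) := by
  intro y
  obtain ⟨t, rfl⟩ := (AlgSp.Points.schemeHomeo U).surjective y
  obtain ⟨w, rfl⟩ := h.surj t
  exact ⟨AlgSp.Points.schemeHomeo W w, AlgSp.Points.map_yon_map_apply g w⟩

/-- functors between slices with a property -/
theorem exists_hom_of_repByAlgSpWith (P : MorphismProperty (AlgSp.Sp S)) (hP : Good P)
    {W U : Over S} (c : FibCat.overCat W ⥤ᵇ FibCat.overCat U) (hc : AlgSt.RepByAlgSpWith P c) :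
    ∃ g : W ⟶ U, Nonempty (c ≅ AlgSt.overMap g) ∧ P ((AlgSp.yon S).map g) := by
  obtain ⟨g, ⟨i⟩⟩ := exists_iso_overMapC c
  refine ⟨g, ⟨i⟩, ?_⟩
  exact (repByAlgSpWith_overMap_iff P hP g).1 (repByAlgSpWith_of_iso P i hc)

/-- two smooth charts of `𝒳`, the second surjective, have a common smooth refinement surjective
over the first -/
theorem exists_smooth_refinement {𝒳 : AlgSt.Cat S} (h𝒳 : FibCat.IsFibGrpd 𝒳.p)
    (hΔ : AlgSt.RepByAlgSp1 (FibCat.diag (FibCat.toSelf 𝒳))) {U U' : Over S}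
    (x : FibCat.overCat U ⥤ᵇ 𝒳) (x' : FibCat.overCat U' ⥤ᵇ 𝒳)
    (hx : AlgSt.RepByAlgSpWith (AlgSp.LocP @Smooth) x)
    (hx' : AlgSt.RepByAlgSpWith (AlgSp.LocP @Smooth) x')
    (hx'' : AlgSt.RepByAlgSpWith AlgSp.IsSurjectiveMor x') :
    ∃ (W : Over S) (g : W ⟶ U) (g' : W ⟶ U'), Smooth g.left ∧ Surjective g.left ∧ Smooth g'.left ∧
      Nonempty (BasedFunctor.comp (AlgSt.overMap g) x ≅ BasedFunctor.comp (AlgSt.overMap g') x') := by
  have hU : FibCat.IsFibGrpd (FibCat.overCat U).p :=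
    Groth.Agent.Lib.Helper24.StkFpCrit.isFibGrpd_overForget U
  have hU' : FibCat.IsFibGrpd (FibCat.overCat U').p :=
    Groth.Agent.Lib.Helper24.StkFpCrit.isFibGrpd_overForget U'
  have hF : AlgSt.RepByAlgSp (FibCat.fp x x') :=
    repByAlgSp1_of_diag h𝒳 hΔ hU hU' (repByAlgSp_overCat U) (repByAlgSp_overCat U') _ _
  have hFfib : FibCat.IsFibGrpd (FibCat.fp x x').p := isFibGrpd_fp _ _ hU hU' h𝒳
  obtain ⟨X, eX, heX⟩ := hF
  obtain ⟨W, p, hp, hp'⟩ := Groth.Agent.Lib.Helper24.AlgStAtlas.hasAtlas_smooth_ofSp X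
  have hW : FibCat.IsFibGrpd (FibCat.overCat W).p :=
    Groth.Agent.Lib.Helper24.StkFpCrit.isFibGrpd_overForget W
  have hc1 : AlgSt.RepByAlgSpWith (AlgSp.LocP @Smooth)
      (BasedFunctor.comp (BasedFunctor.comp p eX) (FibCat.fpFst x x')) :=
    repByAlgSpWith_comp hW hFfib hU _ good_smooth.nice stableComp_smooth _ _
      (repByAlgSpWith_comp_equiv _ p eX heX hp) (repByAlgSpWith_fpFst _ x' x hx')
  have hc2 : AlgSt.RepByAlgSpWith AlgSp.IsSurjectiveMor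
      (BasedFunctor.comp (BasedFunctor.comp p eX) (FibCat.fpFst x x')) :=
    repByAlgSpWith_comp hW hFfib hU _ good_isSurjectiveMor.nice stableComp_isSurjectiveMor _ _
      (repByAlgSpWith_comp_equiv _ p eX heX hp') (repByAlgSpWith_fpFst _ x' x hx'')
  have hc3 : AlgSt.RepByAlgSpWith (AlgSp.LocP @Smooth)
      (BasedFunctor.comp (BasedFunctor.comp p eX) (FibCat.fpSnd x x')) :=
    repByAlgSpWith_comp hW hFfib hU' _ good_smooth.nice stableComp_smooth _ _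
      (repByAlgSpWith_comp_equiv _ p eX heX hp) (repByAlgSpWith_fpSnd _ x x' hx)
  obtain ⟨g, ⟨i⟩⟩ := exists_iso_overMapC
    (BasedFunctor.comp (BasedFunctor.comp p eX) (FibCat.fpFst x x'))
  obtain ⟨g', ⟨i'⟩⟩ := exists_iso_overMapC
    (BasedFunctor.comp (BasedFunctor.comp p eX) (FibCat.fpSnd x x'))
  refine ⟨W, g, g', ?_, ?_, ?_, ⟨?_⟩⟩
  · exact AlgSp.locP_yon_map ((repByAlgSpWith_overMap_iff _ good_smooth g).1
      (repByAlgSpWith_of_iso _ i hc1))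
  · exact surjective_of_isSurjectiveMor_yon_map g
      ((repByAlgSpWith_overMap_iff _ good_isSurjectiveMor g).1 (repByAlgSpWith_of_iso _ i hc2))
  · exact AlgSp.locP_yon_map ((repByAlgSpWith_overMap_iff _ good_smooth g').1
      (repByAlgSpWith_of_iso _ i' hc3))
  · exact ((whiskerRightIso i x).symm.trans
      (whiskerLeftIso (BasedFunctor.comp p eX) (FibCat.fpIso x x'))).trans (whiskerRightIso i' x')

theorem hasIsos_isSurjectiveMor : HasIsos (AlgSp.IsSurjectiveMor (S := S)) := fun _ _ e he =>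
  have : IsIso e := he
  (Groth.Agent.Lib.Helper24.AlgStIso.points_map_bijective_of_isIso e).2

/-- precomposing with an equivalence of sources -/
theorem repByAlgSpWith_equiv_comp {𝒜 : BasedCategory.{v₁, w₁} (Over S)}
    {𝒜' : BasedCategory.{v₂, w₂} (Over S)} {ℬ : BasedCategory.{v₃, w₃} (Over S)}
    (Q : MorphismProperty (AlgSp.Sp S)) (e : 𝒜' ⥤ᵇ 𝒜) (x : 𝒜 ⥤ᵇ ℬ) (he : FibCat.IsEquivOver e) :
    AlgSt.RepByAlgSpWith Q (BasedFunctor.comp e x) ↔ AlgSt.RepByAlgSpWith Q x :=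
  (repByAlgSpWith_iff_of_isEquivOver Q x (BasedFunctor.comp e x) e (BasedFunctor.id _) he
    (isEquivOver_id _) (Iso.refl _)).symm

/-- an etale chart of an algebraic space composed with a smooth functor -/
theorem smooth_chart_comp {𝒳 : AlgSt.Cat S} (h𝒳 : FibCat.IsFibGrpd 𝒳.p) (U : AlgSp.Space S)
    (x : AlgSt.ofSp U.obj ⥤ᵇ 𝒳) {V : Over S} (p : (AlgSp.yon S).obj V ⟶ U.obj)
    (hp : AlgSp.RepWith @Etale p) (hx : AlgSt.RepByAlgSpWith (AlgSp.LocP @Smooth) x) :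
    AlgSt.RepByAlgSpWith (AlgSp.LocP @Smooth)
      (BasedFunctor.comp (BasedFunctor.comp (AlgSt.ofOverCat V) (AlgSt.ofSpMap p)) x) :=
  repByAlgSpWith_comp (Groth.Agent.Lib.Helper24.StkFpCrit.isFibGrpd_overForget V)
    (Stk.isFibGrpd_ofPsh _) h𝒳 _ good_smooth.nice stableComp_smooth _ _
    (Groth.Agent.Lib.Helper24.AlgStAtlas.repByAlgSpWith_atlas _ p
      (Groth.Agent.Lib.Helper24.AlgStAtlas.repBySpWith_locP_smooth_of_repWith p hp)) hx

theorem surjective_chart_comp {𝒳 : AlgSt.Cat S} (h𝒳 : FibCat.IsFibGrpd 𝒳.p) (U : AlgSp.Space S)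
    (x : AlgSt.ofSp U.obj ⥤ᵇ 𝒳) {V : Over S} (p : (AlgSp.yon S).obj V ⟶ U.obj)
    (hp : AlgSp.RepWith @Surjective p) (hx : AlgSt.RepByAlgSpWith AlgSp.IsSurjectiveMor x) :
    AlgSt.RepByAlgSpWith AlgSp.IsSurjectiveMor
      (BasedFunctor.comp (BasedFunctor.comp (AlgSt.ofOverCat V) (AlgSt.ofSpMap p)) x) :=
  repByAlgSpWith_comp (Groth.Agent.Lib.Helper24.StkFpCrit.isFibGrpd_overForget V)
    (Stk.isFibGrpd_ofPsh _) h𝒳 _ good_isSurjectiveMor.nice stableComp_isSurjectiveMor _ _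
    (Groth.Agent.Lib.Helper24.AlgStAtlas.repByAlgSpWith_atlas _ p
      (Groth.Agent.Lib.Helper24.AlgStAtlas.repBySpWith_isSurjectiveMor_of_repWith p hp)) hx

section SchemeLocal
variable (P : Scheme.{u} → Prop)
  (hP : ∀ (U : Scheme.{u}) (R : Presieve U), R ∈ Scheme.precoverage @Smooth U →
      (P U ↔ ∀ ⦃V : Scheme.{u}⦄ (g : V ⟶ U), R g → P V))

include hP in
lemma P_of_smooth {V U : Scheme.{u}} (g : V ⟶ U) (hg : Smooth g) (h : P U) : P V := by
  let X : Bool → Scheme.{u} := fun b => Bool.rec U V b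
  let f : ∀ b, X b ⟶ U := fun b => Bool.rec (motive := fun b => X b ⟶ U) (𝟙 U) g b
  have hmem : Presieve.ofArrows X f ∈ Scheme.precoverage @Smooth U := by
    refine (Scheme.ofArrows_mem_precoverage_iff (P := @Smooth)).2 ?_
    refine ⟨fun x => ⟨false, x, rfl⟩, fun b => ?_⟩
    cases b
    · exact (inferInstance : Smooth (𝟙 U))
    · exact hg
  exact (hP U _ hmem).1 h (f true) (Presieve.ofArrows.mk true)

include hP in
lemma P_of_smooth_surjective {V U : Scheme.{u}} (g : V ⟶ U) (hg : Smooth g) (hs : Surjective g)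
    (h : P V) : P U := by
  refine (hP U (Presieve.singleton g) ((Scheme.singleton_mem_precoverage_iff _ g).2
    ⟨hs.surj, hg⟩)).2 ?_
  intro V' g' hg'
  cases hg'
  exact h

include hP in
/-- S12846, (2) ⇒ (1) -/
theorem smoothLocally_of_atlas {𝒳 : AlgSt.Cat S} (h𝒳 : FibCat.IsFibGrpd 𝒳.p)
    (hΔ : AlgSt.RepByAlgSp1 (FibCat.diag (FibCat.toSelf 𝒳))) {U' : Over S}
    (x' : FibCat.overCat U' ⥤ᵇ 𝒳) (hx' : AlgSt.RepByAlgSpWith (AlgSp.LocP @Smooth) x')
    (hx'' : AlgSt.RepByAlgSpWith AlgSp.IsSurjectiveMor x') (hPU' : P U'.left) :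
    AlgSt.SmoothLocally P 𝒳 := by
  intro U x hx
  obtain ⟨W, g, g', hg, hgs, hg', -⟩ := exists_smooth_refinement h𝒳 hΔ x x' hx hx' hx''
  exact P_of_smooth_surjective P hP g.left hg hgs (P_of_smooth P hP g'.left hg' hPU')

include hP in
/-- S12846 -/
theorem smoothLocally_iff_atlas {𝒳 : AlgSt.Cat S}
    (h𝒳 : AlgSt.IsAlgStack Scheme.fppfPrecoverage 𝒳) :
    AlgSt.SmoothLocally P 𝒳 ↔
      ∃ (U : Over S) (x : FibCat.overCat U ⥤ᵇ 𝒳),
        AlgSt.RepByAlgSpWith (AlgSp.LocP @Smooth) x ∧ AlgSt.RepByAlgSpWith AlgSp.IsSurjectiveMor x ∧ P U.left := by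
  constructor
  · intro h
    obtain ⟨U, x, hx, hx'⟩ := h𝒳.atlas
    exact ⟨U, x, hx, hx', h U x hx⟩
  · rintro ⟨U, x, hx, hx', hPU⟩
    exact smoothLocally_of_atlas P hP h𝒳.isStack.1 h𝒳.diag x hx hx' hPU

/-- an algebraic space with a smooth functor to `𝒳` has `P` etale locally -/
theorem etaleLocally_of_smoothLocally {𝒳 : AlgSt.Cat S} (h𝒳 : FibCat.IsFibGrpd 𝒳.p)
    (h : AlgSt.SmoothLocally P 𝒳) (U : AlgSp.Space S) (x : AlgSt.ofSp U.obj ⥤ᵇ 𝒳)
    (hx : AlgSt.RepByAlgSpWith (AlgSp.LocP @Smooth) x) : AlgSp.EtaleLocally P U.obj := by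
  obtain ⟨V, p, h1, h2⟩ := U.property.atlas
  exact ⟨V, p, h1, h2, h V _ (smooth_chart_comp h𝒳 U x p h1 hx)⟩

include hP in
/-- a scheme which has `P` etale locally has `P` -/
theorem P_of_etaleLocally_yon (U : Over S) (h : AlgSp.EtaleLocally P ((AlgSp.yon S).obj U)) :
    P U.left := by
  obtain ⟨V, p, h1, h2, hPV⟩ := h
  obtain ⟨g, rfl⟩ := (AlgSp.yon S).map_surjective p
  have hg : Etale g.left := (AlgSp.repWith_yon_map_iff _ g).1 h1
  have hgs : Surjective g.left := (AlgSp.repWith_yon_map_iff _ g).1 h2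
  exact P_of_smooth_surjective P hP g.left inferInstance hgs hPV

include hP in
/-- S12852 -/
theorem smoothLocally_iff_forall_space {𝒳 : AlgSt.Cat S}
    (h𝒳 : AlgSt.IsAlgStack Scheme.fppfPrecoverage 𝒳) :
    AlgSt.SmoothLocally P 𝒳 ↔
      ∀ (U : AlgSp.Space S) (x : AlgSt.ofSp U.obj ⥤ᵇ 𝒳),
        AlgSt.RepByAlgSpWith (AlgSp.LocP @Smooth) x → AlgSp.EtaleLocally P U.obj := by
  constructor
  · intro h U x hx
    exact etaleLocally_of_smoothLocally P h𝒳.isStack.1 h U x hx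
  · intro h U x hx
    apply P_of_etaleLocally_yon P hP U
    exact h ⟨(AlgSp.yon S).obj U, AlgSp.IsAlgSpace.yon_obj U⟩
      (BasedFunctor.comp (AlgSt.toOverCat U) x)
      ((repByAlgSpWith_equiv_comp _ (AlgSt.toOverCat U) x (isEquivOver_toOverCat U)).2 hx)

include hP in
/-- S12853, (3) ⇒ (2) -/
theorem smoothLocally_of_space_atlas {𝒳 : AlgSt.Cat S} (h𝒳 : FibCat.IsFibGrpd 𝒳.p)
    (hΔ : AlgSt.RepByAlgSp1 (FibCat.diag (FibCat.toSelf 𝒳))) (U : AlgSp.Space S)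
    (x : AlgSt.ofSp U.obj ⥤ᵇ 𝒳) (hx : AlgSt.RepByAlgSpWith (AlgSp.LocP @Smooth) x)
    (hx' : AlgSt.RepByAlgSpWith AlgSp.IsSurjectiveMor x) (hU : AlgSp.EtaleLocally P U.obj) :
    AlgSt.SmoothLocally P 𝒳 := by
  obtain ⟨V, p, h1, h2, hPV⟩ := hU
  exact smoothLocally_of_atlas P hP h𝒳 hΔ _ (smooth_chart_comp h𝒳 U x p h1 hx)
    (surjective_chart_comp h𝒳 U x p h2 hx') hPV

include hP in
/-- S12853 -/
theorem smoothLocally_iff_space_atlas {𝒳 : AlgSt.Cat S}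
    (h𝒳 : AlgSt.IsAlgStack Scheme.fppfPrecoverage 𝒳) :
    AlgSt.SmoothLocally P 𝒳 ↔
      ∃ (U : AlgSp.Space S) (x : AlgSt.ofSp U.obj ⥤ᵇ 𝒳),
        AlgSt.RepByAlgSpWith (AlgSp.LocP @Smooth) x ∧ AlgSt.RepByAlgSpWith AlgSp.IsSurjectiveMor x ∧
          AlgSp.EtaleLocally P U.obj := by
  constructor
  · intro h
    obtain ⟨U, x, hx, hx'⟩ := h𝒳.atlas
    refine ⟨⟨(AlgSp.yon S).obj U, AlgSp.IsAlgSpace.yon_obj U⟩,
      BasedFunctor.comp (AlgSt.toOverCat U) x,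
      (repByAlgSpWith_equiv_comp _ (AlgSt.toOverCat U) x (isEquivOver_toOverCat U)).2 hx,
      (repByAlgSpWith_equiv_comp _ (AlgSt.toOverCat U) x (isEquivOver_toOverCat U)).2 hx', ?_⟩
    exact ⟨U, 𝟙 _, AlgSp.repWith_id _ U, AlgSp.repWith_id _ U, h U x hx⟩
  · rintro ⟨U, x, hx, hx', hU⟩
    exact smoothLocally_of_space_atlas P hP h𝒳.isStack.1 h𝒳.diag U x hx hx' hU

include hP in
/-- S12855 -/
theorem smoothLocally_ofSp_iff (X : AlgSp.Space S) :
    AlgSt.SmoothLocally P (AlgSt.ofSp X.obj) ↔ AlgSp.EtaleLocally P X.obj := by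
  have hX := Groth.Agent.Lib.Helper24.AlgStAtlas.isAlgStack_ofSp X
  constructor
  · intro h
    exact etaleLocally_of_smoothLocally P hX.isStack.1 h X (BasedFunctor.id _)
      (repByAlgSpWith_id _ hasIsos_smooth)
  · intro h
    exact smoothLocally_of_space_atlas P hP hX.isStack.1 hX.diag X (BasedFunctor.id _)
      (repByAlgSpWith_id _ hasIsos_smooth) (repByAlgSpWith_id _ hasIsos_isSurjectiveMor) h

include hP in
/-- S12854 -/
theorem smoothLocally_ofSch_iff (U : Over S) :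
    AlgSt.SmoothLocally P (AlgSt.ofSch U) ↔ P U.left := by
  rw [AlgSt.ofSch, smoothLocally_ofSp_iff P hP ⟨(AlgSp.yon S).obj U, AlgSp.IsAlgSpace.yon_obj U⟩]
  constructor
  · exact P_of_etaleLocally_yon P hP U
  · intro h
    exact ⟨U, 𝟙 _, AlgSp.repWith_id _ U, AlgSp.repWith_id _ U, h⟩

end SchemeLocal

end Groth.Agent.Lib.Helper24.AlgStSmLoc
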