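import Groth.Agent.Lib.Helper24.AlgStDiagLft
import Groth.Agent.Lib.Helper24.AlgStDiagDesc
import Groth.Agent.Lib.Helper24.AlgStMono2
import Groth.Agent.Lib.Helper14.AlgSpProper
import Groth.Agent.Lib.Helper14.AlgSpQCMor
import Groth.Agent.Lib.Helper24.AlgStFpAlg
import Groth.Agent.Lib.Helper24.AlgStSmLoc
set_option autoImplicit false
set_option linter.unusedSectionVars false
open CategoryTheory CategoryTheory.Limits AlgebraicGeometry Opposite
universe w v u v₂ u₂ v₃ u₃ v₄ u₄ w₁ v₁ w₂ w₃ w₄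
set_option backward.isDefEq.respectTransparency false
set_option backward.isDefEq.respectTransparency.types false

namespace Groth.Agent.Lib.Helper24.AlgStSepDiag
open Groth.Agent.Lib.Helper24.FibCatFpGen Groth.Agent.Lib.Helper24.FibCatEquiv
open Groth.Agent.Lib.Helper24.FibCatDiag (mkIso)
open Groth.Agent.Lib.Helper24.FibCatFpMap Groth.Agent.Lib.Helper24.PshFun
open Groth.Agent.Lib.Helper24.PshBridge

section Generic
variable {C : Type u} [Category.{v} C]

/-- parallel morphisms of a category of elements lifting the same morphism are equal -/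
lemma eq_of_lifts {P : Cᵒᵖ ⥤ Type w} {x y : (Stk.ofPsh P).obj} {R S : C} (f : R ⟶ S)
    (m m' : x ⟶ y) (h : (Stk.ofPsh P).p.IsHomLift f m) (h' : (Stk.ofPsh P).p.IsHomLift f m') :
    m = m' := by
  apply Stk.EltObj.hom_ext
  have h1 := IsHomLift.fac' (Stk.ofPsh P).p f m
  have h2 := IsHomLift.fac' (Stk.ofPsh P).p f m'
  exact h1.trans h2.symm

variable {𝒜 : BasedCategory.{v₂, u₂} C} {𝒳 : BasedCategory.{v₃, u₃} C}
  {𝒴 : BasedCategory.{v₄, u₄} C} {G : Cᵒᵖ ⥤ Type w}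
  {F₁ : 𝒳 ⥤ᵇ Stk.ofPsh G} {F₂ : 𝒴 ⥤ᵇ Stk.ofPsh G}

/-- two functors into a 2-fibre product over a category of elements are isomorphic as soon as
their components are -/
def fpIsoMkPsh (Φ Ψ : 𝒜 ⥤ᵇ FibCat.fp F₁ F₂)
    (i₁ : BasedFunctor.comp Φ (FibCat.fpFst F₁ F₂) ≅ BasedFunctor.comp Ψ (FibCat.fpFst F₁ F₂))
    (i₂ : BasedFunctor.comp Φ (FibCat.fpSnd F₁ F₂) ≅ BasedFunctor.comp Ψ (FibCat.fpSnd F₁ F₂)) :
    Φ ≅ Ψ :=
  BasedNatIso.mkNatIso
    (NatIso.ofComponents (fun x => mkIso (x := Φ.toFunctor.obj x) (y := Ψ.toFunctor.obj x)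
        (appIso i₁ x) (appIso i₂ x) (by
      have hb : 𝒳.p.obj (Φ.toFunctor.obj x).obj.fst = 𝒜.p.obj x :=
        (BasedFunctor.comp Φ (FibCat.fpFst F₁ F₂)).w_obj x
      have h1 : 𝒳.p.IsHomLift (𝟙 (𝒜.p.obj x)) (appIso i₁ x).hom := appIso_hom_isHomLift i₁ x rfl
      have h2 : 𝒴.p.IsHomLift (𝟙 (𝒜.p.obj x)) (appIso i₂ x).hom := appIso_hom_isHomLift i₂ x rfl
      have h3 : (Stk.ofPsh G).p.IsHomLift (𝟙 (𝒜.p.obj x)) (Ψ.toFunctor.obj x).obj.iso.hom := by
        have := iso_isHomLift F₁ F₂ (Ψ.toFunctor.obj x)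
        rwa [show 𝒳.p.obj (Ψ.toFunctor.obj x).obj.fst = 𝒜.p.obj x from
          (BasedFunctor.comp Ψ (FibCat.fpFst F₁ F₂)).w_obj x] at this
      have h4 : (Stk.ofPsh G).p.IsHomLift (𝟙 (𝒜.p.obj x)) (Φ.toFunctor.obj x).obj.iso.hom := by
        have := iso_isHomLift F₁ F₂ (Φ.toFunctor.obj x)
        rwa [hb] at this
      have h5 : (Stk.ofPsh G).p.IsHomLift (𝟙 (𝒜.p.obj x)) (F₁.toFunctor.map (appIso i₁ x).hom) :=
        Groth.Agent.Lib.Helper24.FibCatRepDiag.map_lift F₁ _ _ h1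
      have h6 : (Stk.ofPsh G).p.IsHomLift (𝟙 (𝒜.p.obj x)) (F₂.toFunctor.map (appIso i₂ x).hom) :=
        Groth.Agent.Lib.Helper24.FibCatRepDiag.map_lift F₂ _ _ h2
      exact eq_of_lifts (𝟙 (𝒜.p.obj x)) _ _ inferInstance inferInstance))
      (by
        intro x y m
        apply hom_ext'
        · exact appIso_naturality i₁ m
        · exact appIso_naturality i₂ m))
    (by
      intro x
      rw [isHomLift_iff_fst]
      exact appIso_hom_isHomLift i₁ x rfl)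

end Generic

section Bridge
variable {S : Scheme.{u}} {F G : AlgSp.Sp S} (a : F ⟶ G)

/-- the pointwise pullback square of the kernel pair -/
lemma isPtPullback_self :
    IsPtPullback a.hom a.hom (pullback.fst a a).hom (pullback.snd a a).hom :=
  isPtPullback_of_isPullback _ _ _ _
    ((IsPullback.of_hasPullback a a).map (sheafToPresheaf (AlgSp.J S) (Type (u + 1))))

/-- the category of the kernel pair is the 2-fibre product -/
noncomputable def E : AlgSt.ofSp (pullback a a) ⥤ᵇ FibCat.fp (AlgSt.ofSpMap a) (AlgSt.ofSpMap a) :=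
  fpOfSq (isPtPullback_self a)

theorem isEquivOver_E : FibCat.IsEquivOver (E a) := isEquivOver_fpOfSq _

lemma diagonal_snd_app (T : (Over S)ᵒᵖ) (s : F.obj.obj T) :
    (pullback.snd a a).hom.app T ((pullback.diagonal a).hom.app T s) = s := by
  have h : pullback.diagonal a ≫ pullback.snd a a = 𝟙 F := pullback.diagonal_snd a
  have := congrArg (fun t : F ⟶ F => t.hom.app T s) h
  exact this

lemma diagonal_fst_app (T : (Over S)ᵒᵖ) (s : F.obj.obj T) :
    (pullback.fst a a).hom.app T ((pullback.diagonal a).hom.app T s) = s := by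
  have h : pullback.diagonal a ≫ pullback.fst a a = 𝟙 F := pullback.diagonal_fst a
  have := congrArg (fun t : F ⟶ F => t.hom.app T s) h
  exact this

/-- the diagonal of the functor of a map of sheaves is the functor of the diagonal -/
noncomputable def diagIso : FibCat.diag (AlgSt.ofSpMap a) ≅
    BasedFunctor.comp (AlgSt.ofSpMap (pullback.diagonal a)) (E a) :=
  fpIsoMkPsh _ _
    (isoOfSecEq _ _ fun x => by
      unfold sec
      change F.obj.map _ x.sec = F.obj.map _ ((pullback.snd a a).hom.app _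
        ((pullback.diagonal a).hom.app _ x.sec))
      rw [diagonal_snd_app])
    (isoOfSecEq _ _ fun x => by
      unfold sec
      change F.obj.map _ x.sec = F.obj.map _ ((pullback.fst a a).hom.app _
        ((pullback.diagonal a).hom.app _ x.sec))
      rw [diagonal_fst_app])

end Bridge

section Main
open Groth.Agent.Lib.Helper24.AlgStSchLocal Groth.Agent.Lib.Helper24.AlgStRep
open Groth.Agent.Lib.Helper24.AlgStRepS Groth.Agent.Lib.Helper24.AlgStCalc
open Groth.Agent.Lib.Helper24.AlgStGC Groth.Agent.Lib.Helper24.AlgStFpAlg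
open Groth.Agent.Lib.Helper24.AlgStEqv Groth.Agent.Lib.Helper24.AlgStDiagBC
open Groth.Agent.Lib.Helper14.AS Groth.Agent.Lib.Helper24.AlgStCalc2
variable {S : Scheme.{u}}

theorem isAlgSpace_kernelPair {F G : AlgSp.Sp S} (hF : AlgSp.IsAlgSpace F) (hG : AlgSp.IsAlgSpace G)
    (a : F ⟶ G) : AlgSp.IsAlgSpace (pullback a a) :=
  isAlgSpace_of_isPullback (repDiag_of_isAlgSpace hG) hF hF (IsPullback.of_hasPullback a a)

/-- a property of the diagonal of the functor of a map of algebraic spaces is the property of the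
diagonal of the map -/
theorem repByAlgSpWith_diag_ofSpMap_iff (Q : MorphismProperty (AlgSp.Sp S)) (hQ : Nice Q)
    {F G : AlgSp.Space S} (a : F.obj ⟶ G.obj) :
    AlgSt.RepByAlgSpWith Q (FibCat.diag (AlgSt.ofSpMap a)) ↔ Q (pullback.diagonal a) := by
  let K : AlgSp.Space S := ⟨pullback a a, isAlgSpace_kernelPair F.property G.property a⟩
  constructor
  · intro h
    have h1 : AlgSt.RepByAlgSpWith Q
        (BasedFunctor.comp (AlgSt.ofSpMap (pullback.diagonal a)) (E a)) :=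
      repByAlgSpWith_of_iso Q (diagIso a) h
    have h2 : AlgSt.RepByAlgSpWith Q (AlgSt.ofSpMap (pullback.diagonal a)) :=
      (repByAlgSpWith_iff_of_isEquivOver Q
        (BasedFunctor.comp (AlgSt.ofSpMap (pullback.diagonal a)) (E a))
        (AlgSt.ofSpMap (pullback.diagonal a)) (BasedFunctor.id _) (E a)
        (isEquivOver_id _) (isEquivOver_E a) (Iso.refl _)).1 h1
    have h3 := P_spMapOf_of_repByAlgSpWith' Q hQ (F := F) (G := K)
      (AlgSt.ofSpMap (pullback.diagonal a)) h2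
    rwa [spMapOf_ofSpMap] at h3
  · intro h
    have h1 : AlgSt.RepByAlgSpWith Q (AlgSt.ofSpMap (pullback.diagonal a)) :=
      repByAlgSpWith_ofSpMap Q hQ.bc (V := F) (W := K) (pullback.diagonal a) h
    exact repByAlgSpWith_of_iso Q (diagIso a).symm
      (repByAlgSpWith_comp_equiv Q _ (E a) (isEquivOver_E a) h1)

/-- the property of the diagonal is invariant under equivalences of source and target -/
theorem repByAlgSpWith_diag_iff_of_isEquivOver (P : MorphismProperty (AlgSp.Sp S))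
    {𝒳 : BasedCategory.{v₁, w₁} (Over S)} {𝒴 : BasedCategory.{v₂, w₂} (Over S)}
    {𝒳' : BasedCategory.{v₃, w₃} (Over S)} {𝒴' : BasedCategory.{v₄, w₄} (Over S)}
    (f : 𝒳 ⥤ᵇ 𝒴) (f' : 𝒳' ⥤ᵇ 𝒴') (a : 𝒳' ⥤ᵇ 𝒳) (b : 𝒴' ⥤ᵇ 𝒴)
    (ha : FibCat.IsEquivOver a) [b.toFunctor.Full] [b.toFunctor.Faithful]
    (e : BasedFunctor.comp f' b ≅ BasedFunctor.comp a f) :
    AlgSt.RepByAlgSpWith P (FibCat.diag f) ↔ AlgSt.RepByAlgSpWith P (FibCat.diag f') :=
  repByAlgSpWith_iff_of_isEquivOver P (FibCat.diag f) (FibCat.diag f') a (fpMap a a b e e) ha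
    (isEquivOver_fpMap a a b e e ha ha)
    (Groth.Agent.Lib.Helper24.FibCatDiagSq.diagSqIso f' f a b e)

/-- base change along equivalent functors -/
theorem repByAlgSpWith_fpFst_iff_of_eqvOver (P : MorphismProperty (AlgSp.Sp S))
    {𝒳 : BasedCategory.{v₁, w₁} (Over S)} {𝒴 : BasedCategory.{v₂, w₂} (Over S)}
    {𝒵 : BasedCategory.{v₃, w₃} (Over S)} {𝒵' : BasedCategory.{v₄, w₄} (Over S)}
    (g : 𝒳 ⥤ᵇ 𝒴) {z : 𝒵 ⥤ᵇ 𝒴} {z' : 𝒵' ⥤ᵇ 𝒴} (h : EqvOver z z') :
    AlgSt.RepByAlgSpWith P (FibCat.fpFst z g) ↔ AlgSt.RepByAlgSpWith P (FibCat.fpFst z' g) := by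
  obtain ⟨κ, hκ, ⟨i⟩⟩ := h
  let eF : BasedFunctor.comp z (BasedFunctor.id 𝒴) ≅ BasedFunctor.comp κ z' := i.symm
  let eG : BasedFunctor.comp g (BasedFunctor.id 𝒴) ≅ BasedFunctor.comp (BasedFunctor.id 𝒳) g :=
    Iso.refl _
  have hM := isEquivOver_fpMap κ (BasedFunctor.id 𝒳) (BasedFunctor.id 𝒴) eF eG hκ
    (isEquivOver_id _)
  exact (repByAlgSpWith_iff_of_isEquivOver P (FibCat.fpFst z' g) (FibCat.fpFst z g)
    (fpMap κ (BasedFunctor.id 𝒳) (BasedFunctor.id 𝒴) eF eG) κ hM hκ (Iso.refl _)).symm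

/-- the test of `RepByAlgSpWith` at a functor which factors through `z` follows from the base
change along `z` -/
theorem test_of_factor (P : MorphismProperty (AlgSp.Sp S))
    {𝒳 : BasedCategory.{v₁, w₁} (Over S)} {𝒴 : BasedCategory.{v₂, w₂} (Over S)}
    {𝒵 : BasedCategory.{v₃, w₃} (Over S)} (g : 𝒳 ⥤ᵇ 𝒴) (z : 𝒵 ⥤ᵇ 𝒴)
    (hz : AlgSt.RepByAlgSpWith P (FibCat.fpFst z g)) (U : Over S) (t : FibCat.overCat U ⥤ᵇ 𝒴)
    (t' : FibCat.overCat U ⥤ᵇ 𝒵) (i : t ≅ BasedFunctor.comp t' z) :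
    ∃ (F : AlgSp.Space S) (e : AlgSt.ofSp F.obj ⥤ᵇ FibCat.fp t g),
      FibCat.IsEquivOver e ∧ P (AlgSt.spMapOfOver (BasedFunctor.comp e (FibCat.fpFst t g))) := by
  have h1 : EqvOver (FibCat.fpFst t' (FibCat.fpFst z g)) (FibCat.fpFst t g) :=
    (eqvOver_P g z t').trans (eqvOver_fpFst_congr_left i g).symm
  obtain ⟨κ, hκ, ⟨j⟩⟩ := h1
  exact (exists_rep_iff_of_isEquivOver P κ hκ (FibCat.fpFst t g)
    (FibCat.fpFst t' (FibCat.fpFst z g)) j).2 (hz U t')

/-- the diagonal of the functor attached to a functor to a slice -/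
theorem repByAlgSpWith_diag_over_iff (Q : MorphismProperty (AlgSp.Sp S)) (hQ : Nice Q)
    {F : AlgSp.Space S} {T : Over S} (Φ : AlgSt.ofSp F.obj ⥤ᵇ FibCat.overCat T) :
    AlgSt.RepByAlgSpWith Q (FibCat.diag Φ) ↔ Q (pullback.diagonal (AlgSt.spMapOfOver Φ)) := by
  let Ψ := BasedFunctor.comp Φ (AlgSt.ofOverCat T)
  let YT : AlgSp.Space S := ⟨(AlgSp.yon S).obj T, AlgSp.IsAlgSpace.yon_obj T⟩
  suffices key : ∀ (a : F.obj ⟶ YT.obj), a = spMapOf Ψ →
      (AlgSt.RepByAlgSpWith Q (FibCat.diag Φ) ↔ Q (pullback.diagonal a)) from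
    key _ (spMapOfOver_eq Φ)
  intro a ha
  subst ha
  rw [← repByAlgSpWith_diag_ofSpMap_iff Q hQ (F := F) (G := YT) (spMapOf Ψ)]
  obtain ⟨⟨_, _⟩, -⟩ := props_of_isEquivOver _ (Groth.Agent.Lib.Helper24.AlgStBridge.isEquivOver_ofOverCat T)
  let e : BasedFunctor.comp Φ (AlgSt.ofOverCat T) ≅
      BasedFunctor.comp (BasedFunctor.id _) (AlgSt.ofSpMap (spMapOf Ψ)) := isoOfPshMap Ψ
  exact (repByAlgSpWith_diag_iff_of_isEquivOver Q (AlgSt.ofSpMap (spMapOf Ψ)) Φ
    (BasedFunctor.id _) (AlgSt.ofOverCat T) (isEquivOver_id _) e).symm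

open Groth.Agent.Lib.Helper24.FibCatDiagBC Groth.Agent.Lib.Helper24.AlgStDiagDesc in
/-- for a functor representable by algebraic spaces, a property of the diagonal is the property of
the diagonals of the base changes to schemes -/
theorem repByAlgSpWith_diag_iff_diagonal (Q : MorphismProperty (AlgSp.Sp S)) (hQ : Nice Q)
    {𝒳 : BasedCategory.{v₁, w₁} (Over S)} {𝒴 : BasedCategory.{v₂, w₂} (Over S)} (f : 𝒳 ⥤ᵇ 𝒴)
    (hf : AlgSt.RepByAlgSp1 f) :
    AlgSt.RepByAlgSpWith Q (FibCat.diag f) ↔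
      AlgSt.RepByAlgSpWith (fun _ _ a => Q (pullback.diagonal a)) f := by
  constructor
  · intro h U y
    obtain ⟨F, e, he⟩ := hf U y
    refine ⟨F, e, he, ?_⟩
    change Q (pullback.diagonal (AlgSt.spMapOfOver (BasedFunctor.comp e (FibCat.fpFst y f))))
    rw [← repByAlgSpWith_diag_over_iff Q hQ]
    have h1 := repByAlgSpWith_diag_fpFst Q f y h
    exact (repByAlgSpWith_diag_iff_of_isEquivOver Q (FibCat.fpFst y f)
      (BasedFunctor.comp e (FibCat.fpFst y f)) e (BasedFunctor.id _) he (Iso.refl _)).1 h1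
  · intro h T t
    let y : FibCat.overCat T ⥤ᵇ 𝒴 := BasedFunctor.comp t (ρ f)
    obtain ⟨F, e, he, hQa⟩ := h T y
    change Q (pullback.diagonal (AlgSt.spMapOfOver (BasedFunctor.comp e (FibCat.fpFst y f)))) at hQa
    rw [← repByAlgSpWith_diag_over_iff Q hQ] at hQa
    have h4 : AlgSt.RepByAlgSpWith Q (FibCat.diag (FibCat.fpFst y f)) :=
      (repByAlgSpWith_diag_iff_of_isEquivOver Q (FibCat.fpFst y f)
        (BasedFunctor.comp e (FibCat.fpFst y f)) e (BasedFunctor.id _) he (Iso.refl _)).2 hQa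
    have h5 : AlgSt.RepByAlgSpWith Q (FibCat.fpFst (k f y) (FibCat.diag f)) :=
      repByAlgSpWith_of_eqvOver Q (eqvOver_diag_baseChange f y).symm h4
    have h6 : AlgSt.RepByAlgSpWith Q (FibCat.fpFst (FibCat.fpFst (ρ f) y) (FibCat.diag f)) :=
      (repByAlgSpWith_fpFst_iff_of_eqvOver Q (FibCat.diag f) (eqvOver_k f y)).1 h5
    let t' : FibCat.overCat T ⥤ᵇ FibCat.fp (ρ f) y :=
      FibCat.fpLift t (BasedFunctor.id _) (Iso.refl _)
    exact test_of_factor Q (FibCat.diag f) (FibCat.fpFst (ρ f) y) h6 T t t' (Iso.refl _)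

/-- monotonicity in the property, using that source and target are algebraic spaces -/
theorem repByAlgSpWith_mono' {P P' : MorphismProperty (AlgSp.Sp S)}
    (h : ∀ ⦃X Y : AlgSp.Sp S⦄, AlgSp.IsAlgSpace X → AlgSp.IsAlgSpace Y → ∀ (a : X ⟶ Y), P a → P' a)
    {𝒳 : BasedCategory.{v₁, w₁} (Over S)} {𝒴 : BasedCategory.{v₂, w₂} (Over S)} (f : 𝒳 ⥤ᵇ 𝒴)
    (hf : AlgSt.RepByAlgSpWith P f) : AlgSt.RepByAlgSpWith P' f := fun U y => by
  obtain ⟨F, e, he, hp⟩ := hf U y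
  exact ⟨F, e, he, h F.property (AlgSp.IsAlgSpace.yon_obj U) _ hp⟩

open Groth.Agent.Lib.Helper24.AlgStProps in
/-- separatedness of a functor representable by algebraic spaces, in terms of its diagonal -/
theorem separated_tfae {𝒳 : BasedCategory.{v₁, w₁} (Over S)} {𝒴 : BasedCategory.{v₂, w₂} (Over S)}
    (f : 𝒳 ⥤ᵇ 𝒴) (hf : AlgSt.RepByAlgSp1 f) :
    [AlgSt.RepByAlgSpWith AlgSp.IsSeparatedMor f, AlgSt.IsClosedImm (FibCat.diag f),
      AlgSt.IsSeparatedMor f, AlgSt.RepByAlgSpWith AlgSp.IsUnivClosedMor (FibCat.diag f)].TFAE := by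
  have hAB := repByAlgSpWith_diag_iff_diagonal (AlgSp.RepWith @IsClosedImmersion)
    (nice_repWith _) f hf
  tfae_have 1 ↔ 2 := hAB.symm
  tfae_have 2 → 3 := fun h =>
    repByAlgSpWith_mono (fun _ _ _ ha => isProperMor_of_repWith_isClosedImmersion ha) _ h
  tfae_have 3 → 4 := fun h => repByAlgSpWith_mono (fun _ _ _ ha => ha.2.2) _ h
  tfae_have 4 → 1 := fun h => by
    have h1 := (repByAlgSpWith_diag_iff_diagonal AlgSp.IsUnivClosedMor
      good_isUnivClosedMor.nice f hf).1 h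
    exact repByAlgSpWith_mono'
      (fun _ _ hX _ a ha => isSeparatedMor_of_isUnivClosedMor_diagonal hX a ha) f h1
  tfae_finish

open Groth.Agent.Lib.Helper24.AlgStProps in
/-- quasi-separatedness of a functor representable by algebraic spaces, in terms of its diagonal -/
theorem quasiSeparated_iff_diag_qc {𝒳 : BasedCategory.{v₁, w₁} (Over S)}
    {𝒴 : BasedCategory.{v₂, w₂} (Over S)} (f : 𝒳 ⥤ᵇ 𝒴) (hf : AlgSt.RepByAlgSp1 f) :
    AlgSt.RepByAlgSpWith AlgSp.IsQuasiSeparatedMor f ↔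
      AlgSt.RepByAlgSpWith AlgSp.IsQuasiCompactMor (FibCat.diag f) := by
  rw [repByAlgSpWith_diag_iff_diagonal AlgSp.IsQuasiCompactMor good_isQuasiCompactMor.nice f hf]
  constructor
  · exact repByAlgSpWith_mono' (fun _ _ hX _ a ha =>
      (repWith_quasiCompact_iff_isQuasiCompactMor (diagonal_hom_properties hX a).1).1 ha) f
  · exact repByAlgSpWith_mono' (fun _ _ hX _ a ha =>
      (repWith_quasiCompact_iff_isQuasiCompactMor (diagonal_hom_properties hX a).1).2 ha) f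

open Groth.Agent.Lib.Helper24.AlgStProps Groth.Agent.Lib.Helper24.AlgStDiagLft
  Groth.Agent.Lib.Helper24.AlgStMono in
theorem quasiSeparated_tfae {𝒳 𝒴 : AlgSt.Cat S}
    (h𝒳 : AlgSt.IsAlgStack Scheme.fppfPrecoverage 𝒳)
    (h𝒴 : AlgSt.IsAlgStack Scheme.fppfPrecoverage 𝒴) (f : 𝒳 ⥤ᵇ 𝒴) (hf : AlgSt.RepByAlgSp1 f) :
    [AlgSt.RepByAlgSpWith AlgSp.IsQuasiSeparatedMor f,
      AlgSt.RepByAlgSpWith AlgSp.IsQuasiCompactMor (FibCat.diag f),
      AlgSt.RepByAlgSpWith AlgSp.IsFiniteTypeMor (FibCat.diag f)].TFAE := by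
  tfae_have 1 ↔ 2 := quasiSeparated_iff_diag_qc f hf
  tfae_have 3 → 2 := fun h => repByAlgSpWith_mono (fun _ _ _ ha => ha.2) _ h
  tfae_have 2 → 3 := fun h =>
    repByAlgSpWith_and _ _ (phat_respectsIso _ good_isQuasiCompactMor.bc) _
      (repByAlgSpWith_lft_relDiag h𝒳 h𝒴 f) h
  tfae_finish

open Groth.Agent.Lib.Helper24.AlgStProps Groth.Agent.Lib.Helper24.AlgStMono in
theorem isQuasiSeparatedMor_iff {𝒳 𝒴 : AlgSt.Cat S}
    (h𝒳 : AlgSt.IsAlgStack Scheme.fppfPrecoverage 𝒳)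
    (h𝒴 : AlgSt.IsAlgStack Scheme.fppfPrecoverage 𝒴) (f : 𝒳 ⥤ᵇ 𝒴) (hf : AlgSt.RepByAlgSp1 f) :
    AlgSt.IsQuasiSeparatedMor f ↔ AlgSt.RepByAlgSpWith AlgSp.IsQuasiSeparatedMor f := by
  rw [quasiSeparated_iff_diag_qc f hf]
  constructor
  · exact fun h => repByAlgSpWith_mono (fun _ _ _ ha => ha.1) _ h
  · intro h
    have hΔ : AlgSt.RepByAlgSp1 (FibCat.diag f) :=
      Groth.Agent.Lib.Helper24.AlgStRelDiag.repByAlgSp1_relDiag
        h𝒳.isStack.1 h𝒴.isStack.1 h𝒳.diag h𝒴.diag f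
    have hm : AlgSt.IsMono (FibCat.diag f) :=
      isMono_diag h𝒳.isStack.1 h𝒴.isStack.1 f hf hΔ
    have hqs : AlgSt.RepByAlgSpWith AlgSp.IsQuasiSeparatedMor (FibCat.diag f) :=
      repByAlgSpWith_mono (fun X Y a (ha : Mono a) => by
        have : IsIso (pullback.diagonal a) := (pullback.isIso_diagonal_iff a).2 ha
        exact repWith_of_isIso _ _) _ hm
    exact repByAlgSpWith_and _ _ (phat_respectsIso _ good_isQuasiSeparatedMor.bc) _ h hqs

end Main

end Groth.Agent.Lib.Helper24.AlgStSepDiag
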