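import Groth.Agent.Lib.Helper24.AlgStProps3
import Groth.Agent.Lib.Helper14.AlgSpClosed
import Groth.Agent.Lib.Helper14.AlgSpQCMor
import Groth.Agent.Lib.Helper14.AlgSpImm
set_option autoImplicit false
open CategoryTheory AlgebraicGeometry Opposite
universe u
set_option backward.isDefEq.respectTransparency false
set_option backward.isDefEq.respectTransparency.types false

/-! Isomorphisms have the standard properties of morphisms of algebraic spaces. -/

namespace Groth.Agent.Lib.Helper24.AlgStProps
open Groth.Agent.Lib.Helper24.AlgStRepS Groth.Agent.Lib.Helper14.AS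
open CategoryTheory.Limits AlgSp

variable {S : Scheme.{u}}

/-- the property holds for all isomorphisms -/
def HasIsos (P : MorphismProperty (Sp S)) : Prop :=
  ∀ ⦃X Y : Sp S⦄ (e : X ⟶ Y), IsIso e → P e

lemma hasIsos_and {P P' : MorphismProperty (Sp S)} (h : HasIsos P) (h' : HasIsos P') :
    HasIsos (fun _ _ f => P f ∧ P' f) := fun _ _ e he => ⟨h e he, h' e he⟩

lemma hasIsos_inf {P P' : MorphismProperty (Sp S)} (h : HasIsos P) (h' : HasIsos P') :
    HasIsos (P ⊓ P') := hasIsos_and h h'

theorem hasIsos_locP {Q : MorphismProperty Scheme.{u}}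
    (hle : (@Etale : MorphismProperty Scheme.{u}) ≤ Q) : HasIsos (LocP Q (S := S)) := by
  intro X Y e he U V a b h ha hb comm
  have h0 : RepWith @Etale (a ≫ e) := repWith_comp _ ha (repWith_of_isIso _ e)
  have h1 : RepWith @Etale ((yon S).map h ≫ b) := by rw [← comm]; exact h0
  exact hle _ _ _ ((repWith_yon_map_iff _ _).1 (repWith_etale_of_comp _ _ hb h1))

theorem hasIsos_repWith (Q : MorphismProperty Scheme.{u}) [Q.IsStableUnderBaseChange]
    [Q.ContainsIdentities] : HasIsos (RepWith Q (S := S)) :=
  fun _ _ e _ => repWith_of_isIso Q e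

theorem hasIsos_isQuasiCompactMor : HasIsos (IsQuasiCompactMor (S := S)) :=
  fun _ _ e _ => isQuasiCompactMor_of_repWith (repWith_of_isIso _ e)

theorem hasIsos_isUnivClosedMor : HasIsos (IsUnivClosedMor (S := S)) :=
  fun _ _ e _ => (repWith_universallyClosed_iff_isUnivClosedMor (repWith_of_isIso (MorphismProperty.isomorphisms Scheme.{u}) e).rep).1 (repWith_of_isIso _ e)

theorem hasIsos_isSeparatedMor : HasIsos (IsSeparatedMor (S := S)) :=
  fun _ _ e _ => isSeparatedMor_of_mono e

theorem hasIsos_isQuasiSeparatedMor : HasIsos (IsQuasiSeparatedMor (S := S)) := by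
  intro X Y e _
  have : IsIso (pullback.diagonal e) := (pullback.isIso_diagonal_iff e).2 inferInstance
  exact repWith_of_isIso _ _

end Groth.Agent.Lib.Helper24.AlgStProps
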