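import Groth.Agent.Lib.Helper24.AlgStDescent
set_option autoImplicit false
open CategoryTheory AlgebraicGeometry Opposite
universe w₁ v₁ w₂ v₂ w₃ v₃ u
set_option backward.isDefEq.respectTransparency false
set_option backward.isDefEq.respectTransparency.types false

/-! Further calculus of `RepByAlgSpWith`. -/

namespace Groth.Agent.Lib.Helper24.AlgStCalc2
open Groth.Agent.Lib.Helper24.FibCatFpGen Groth.Agent.Lib.Helper24.AlgStRep
open Groth.Agent.Lib.Helper24.AlgStRepS Groth.Agent.Lib.Helper24.AlgStEqv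
open Groth.Agent.Lib.Helper24.AlgStIso Groth.Agent.Lib.Helper24.AlgStDescent
open Groth.Agent.Lib.Helper24.PshBridge
open CategoryTheory.Limits

variable {S : Scheme.{u}}

/-- a morphism of algebraic spaces with a base-change-stable property `P` has `P` as a functor -/
theorem repS_ofSpMap (P : MorphismProperty (AlgSp.Sp S)) (hPb : StableBC P) {V W : AlgSp.Space S}
    (a : V.obj ⟶ W.obj) (h : P a) : RepS P (AlgSt.ofSpMap a) := by
  intro G y
  have sq := IsPullback.of_hasPullback a (spMapOf y)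
  have hX : AlgSp.IsAlgSpace (pullback a (spMapOf y)) :=
    Groth.Agent.Lib.Helper14.AS.isAlgSpace_of_isPullback
      (Groth.Agent.Lib.Helper14.AS.repDiag_of_isAlgSpace W.property) V.property G.property sq
  let X : AlgSp.Space S := ⟨pullback a (spMapOf y), hX⟩
  have h1 : HasP P (AlgSt.ofSpMap (F := X.obj) (G := G.obj) (pullback.snd a (spMapOf y))) :=
    hasP_ofSpMap (F := X) (G := G) _
      (hPb V.property W.property hX G.property a (spMapOf y) _ _ sq h)
  refine HasP.of_eqvOver ?_ h1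
  exact (eqvOver_of_isPullback sq).trans (eqvOver_fpFst_congr_left (isoOfPshMap y) _).symm

theorem repByAlgSpWith_ofSpMap (P : MorphismProperty (AlgSp.Sp S)) (hPb : StableBC P)
    {V W : AlgSp.Space S} (a : V.obj ⟶ W.obj) (h : P a) :
    AlgSt.RepByAlgSpWith P (AlgSt.ofSpMap a) :=
  repByAlgSpWith_of_repS P _ (repS_ofSpMap P hPb a h)

theorem repByAlgSpWith_ofSpMap_iff (P : MorphismProperty (AlgSp.Sp S)) (hPb : StableBC P)
    (hP : AlgSp.IsLocalOnBase AlgSp.IsFppfCover P) {V W : AlgSp.Space S} (a : V.obj ⟶ W.obj) :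
    AlgSt.RepByAlgSpWith P (AlgSt.ofSpMap a) ↔ P a := by
  refine ⟨fun h => ?_, repByAlgSpWith_ofSpMap P hPb a⟩
  have := P_spMapOf_of_repByAlgSpWith P hPb hP (F := V) (G := W) (AlgSt.ofSpMap a) h
  rwa [spMapOf_ofSpMap] at this

/-- transfer of `RepByAlgSpWith` to a representing morphism of algebraic spaces -/
theorem repByAlgSpWith_iff_of_rep (P : MorphismProperty (AlgSp.Sp S))
    {𝒜 : BasedCategory.{v₁, w₁} (Over S)} {V W : AlgSp.Space S} (π : 𝒜 ⥤ᵇ AlgSt.ofSp W.obj)
    (a : V.obj ⟶ W.obj) (e : AlgSt.ofSp V.obj ⥤ᵇ 𝒜) (he : FibCat.IsEquivOver e)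
    (i : BasedFunctor.comp e π ≅ AlgSt.ofSpMap a) :
    AlgSt.RepByAlgSpWith P π ↔ AlgSt.RepByAlgSpWith P (AlgSt.ofSpMap a) :=
  repByAlgSpWith_iff_of_isEquivOver P π (AlgSt.ofSpMap a) e (BasedFunctor.id _) he
    (isEquivOver_id _) i.symm

end Groth.Agent.Lib.Helper24.AlgStCalc2
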