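import Groth.Agent.Lib.Helper24.AlgStProps
import Groth.Agent.Lib.Helper24.AlgStCalc2
import Groth.Agent.Lib.Helper14.AlgSpBasic2
set_option autoImplicit false
open CategoryTheory AlgebraicGeometry Opposite
universe w₁ v₁ w₂ v₂ w₃ v₃ u
set_option backward.isDefEq.respectTransparency false
set_option backward.isDefEq.respectTransparency.types false

/-! Properties of morphisms of algebraic spaces which can be tested after base change to schemes. -/

namespace Groth.Agent.Lib.Helper24.AlgStSchLocal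
open Groth.Agent.Lib.Helper24.AlgStRepS Groth.Agent.Lib.Helper14.AS
open Groth.Agent.Lib.Helper24.AlgStProps Groth.Agent.Lib.Helper24.AlgStBridge
open Groth.Agent.Lib.Helper24.PshBridge
open Groth.Agent.Lib.Helper24.AlgStRep Groth.Agent.Lib.Helper24.AlgStBoot
open CategoryTheory.Limits AlgSp

variable {S : Scheme.{u}}

/-- `P` can be tested after base change to schemes -/
def SchLocal (P : MorphismProperty (Sp S)) : Prop :=
  ∀ ⦃X Y : Sp S⦄, IsAlgSpace X → IsAlgSpace Y → ∀ φ : X ⟶ Y,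
    (∀ ⦃U : Over S⦄ (g : (yon S).obj U ⟶ Y) ⦃X' : Sp S⦄ (fst : X' ⟶ X)
      (snd : X' ⟶ (yon S).obj U), IsPullback fst snd φ g → P snd) → P φ

theorem schLocal_of_isLocalOnBase {P : MorphismProperty (Sp S)}
    (hP : IsLocalOnBase IsFppfCover P) : SchLocal P := by
  intro X Y hX hY φ H
  obtain ⟨V, p, hpe, hps⟩ := hY.atlas
  have sq := IsPullback.of_hasPullback φ p
  have hFV : IsAlgSpace (pullback φ p) :=
    isAlgSpace_of_isPullback (repDiag_of_isAlgSpace hY) hX (IsAlgSpace.yon_obj V) sq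
  have key := hP (ι := PUnit.{u + 1}) (Y := Y) (fun _ => (yon S).obj V) (fun _ => p)
    hY (fun _ => IsAlgSpace.yon_obj V) (isFppfCover_atlas p hpe hps) φ
    hX (fun _ => pullback φ p) (fun _ => pullback.snd _ _)
    (fun _ => pullback.fst _ _) (fun _ => hFV) (fun _ => sq)
  exact key.2 (fun _ => H p _ _ sq)

theorem schLocal_repWith (Q : MorphismProperty Scheme.{u}) [Q.RespectsIso] :
    SchLocal (RepWith Q (S := S)) := by
  intro X Y hX hY φ H
  refine MorphismProperty.relative.of_exists fun U g => ?_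
  have sq := IsPullback.of_hasPullback φ g
  have h1 : RepWith Q (pullback.snd φ g) := H g _ _ sq
  have sq2 := h1.rep.isPullback (𝟙 ((yon S).obj U))
  have h2 : (Q.inverseImage (Over.forget S)) (h1.rep.snd (𝟙 ((yon S).obj U))) :=
    h1.property_snd (𝟙 _)
  refine ⟨_, h1.rep.fst (𝟙 _) ≫ pullback.fst φ g, h1.rep.snd (𝟙 _), ?_, h2⟩
  have := sq2.paste_horiz sq
  rwa [Category.id_comp] at this

theorem schLocal_and {P P' : MorphismProperty (Sp S)} (h : SchLocal P) (h' : SchLocal P') :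
    SchLocal (fun _ _ f => P f ∧ P' f) := fun _ _ hX hY φ H =>
  ⟨h hX hY φ fun _ g _ fst snd sq => (H g fst snd sq).1,
    h' hX hY φ fun _ g _ fst snd sq => (H g fst snd sq).2⟩

/-- stable under base change and testable on schemes -/
structure Nice (P : MorphismProperty (Sp S)) : Prop where
  bc : StableBC P
  loc : SchLocal P

lemma _root_.Groth.Agent.Lib.Helper24.AlgStProps.Good.nice {P : MorphismProperty (Sp S)} (h : Good P) : Nice P :=
  ⟨h.bc, schLocal_of_isLocalOnBase h.loc⟩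

lemma Nice.and {P P' : MorphismProperty (Sp S)} (h : Nice P) (h' : Nice P') :
    Nice (fun _ _ f => P f ∧ P' f) :=
  ⟨fun _ _ _ _ hX₁ hY₁ hX₂ hY₂ a b a' b' sq ha =>
      ⟨h.bc hX₁ hY₁ hX₂ hY₂ a b a' b' sq ha.1, h'.bc hX₁ hY₁ hX₂ hY₂ a b a' b' sq ha.2⟩,
    schLocal_and h.loc h'.loc⟩

lemma Nice.respectsIso {P : MorphismProperty (Sp S)} (h : Nice P) : (Phat P).RespectsIso :=
  phat_respectsIso P h.bc

theorem nice_repWith (Q : MorphismProperty Scheme.{u}) [Q.RespectsIso]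
    [Q.IsStableUnderBaseChange] : Nice (RepWith Q (S := S)) :=
  ⟨fun _ _ _ _ _ _ _ _ _ _ _ _ sq ha => repWith_of_isPullback Q sq ha, schLocal_repWith Q⟩

/-- the key step: `P` of the projection for an algebraic-space test object -/
theorem P_spMapOf_of_repByAlgSpWith' (P : MorphismProperty (Sp S)) (hP : Nice P)
    {F G : AlgSp.Space S}
    (Φ : AlgSt.ofSp F.obj ⥤ᵇ AlgSt.ofSp G.obj) (hΦ : AlgSt.RepByAlgSpWith P Φ) :
    P (spMapOf Φ) := by
  have := phat_respectsIso P hP.bc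
  have h3 : AlgSt.RepByAlgSpWith (Phat P) (Stk.ofPshMap (pshMapOf Φ)) :=
    (repByAlgSpWith_congr _ (isoOfPshMap Φ).symm).1 (repByAlgSpWith_phat P Φ hΦ)
  have h4 : AlgSp.RepBySpWith (Phat P) (spMapOf Φ).hom :=
    repBySpWith_of_repByAlgSpWith_ofPshMap _ _
      (repBySp_of_isAlgSpace F.property G.property (spMapOf Φ)) h3
  rw [AlgSp.repBySpWith_hom_iff] at h4
  refine hP.loc F.property G.property _ fun U g X' fst snd sq => ?_
  obtain ⟨hX', hq⟩ := h4 g fst snd sq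
  exact hq hX' (IsAlgSpace.yon_obj U)

theorem repS_of_repByAlgSpWith' {𝒳 𝒴 : AlgSt.Cat S} (h𝒳 : FibCat.IsFibGrpd 𝒳.p)
    (h𝒴 : FibCat.IsFibGrpd 𝒴.p) (P : MorphismProperty (Sp S)) (hP : Nice P) (f : 𝒳 ⥤ᵇ 𝒴)
    (hf : AlgSt.RepByAlgSpWith P f) : RepS P f := by
  intro G y
  obtain ⟨F, e, he⟩ := repByAlgSp_fp h𝒳 h𝒴 (Stk.isFibGrpd_ofPsh _) f y
    (repByAlgSp1_of_repByAlgSpWith P f hf) (Groth.Agent.Lib.Helper24.AlgStAtlas.repByAlgSp_ofSp G)
  refine ⟨F, e, he, ?_⟩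
  apply P_spMapOf_of_repByAlgSpWith' P hP
  exact (repByAlgSpWith_iff_of_isEquivOver P (FibCat.fpFst y f)
    (BasedFunctor.comp e (FibCat.fpFst y f)) e (BasedFunctor.id _) he (isEquivOver_id _)
    (Iso.refl _)).1 (repByAlgSpWith_fpFst P f y hf)

/-- composition, scheme-tested version -/
theorem repByAlgSpWith_comp {𝒳 𝒴 𝒵 : AlgSt.Cat S} (h𝒳 : FibCat.IsFibGrpd 𝒳.p)
    (h𝒴 : FibCat.IsFibGrpd 𝒴.p) (h𝒵 : FibCat.IsFibGrpd 𝒵.p) (P : MorphismProperty (Sp S))
    (hP : Nice P) (hPc : StableComp P) (f : 𝒳 ⥤ᵇ 𝒴) (g : 𝒴 ⥤ᵇ 𝒵)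
    (hf : AlgSt.RepByAlgSpWith P f) (hg : AlgSt.RepByAlgSpWith P g) :
    AlgSt.RepByAlgSpWith P (BasedFunctor.comp f g) :=
  repByAlgSpWith_of_repS P _ (repS_comp P hPc f g
    (repS_of_repByAlgSpWith' h𝒳 h𝒴 P hP f hf) (repS_of_repByAlgSpWith' h𝒴 h𝒵 P hP g hg))

/-- monotonicity in the property -/
theorem repByAlgSpWith_mono {P P' : MorphismProperty (Sp S)}
    (h : ∀ ⦃X Y : Sp S⦄ (a : X ⟶ Y), P a → P' a)
    {𝒳 : BasedCategory.{v₁, w₁} (Over S)} {𝒴 : BasedCategory.{v₂, w₂} (Over S)} (f : 𝒳 ⥤ᵇ 𝒴)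
    (hf : AlgSt.RepByAlgSpWith P f) : AlgSt.RepByAlgSpWith P' f := fun U y => by
  obtain ⟨F, e, he, hp⟩ := hf U y
  exact ⟨F, e, he, h _ hp⟩

end Groth.Agent.Lib.Helper24.AlgStSchLocal
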