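import Groth.Agent.Lib.Helper24.AlgStGC
import Groth.Agent.Lib.Helper24.AlgStSchLocal
import Groth.Agent.Lib.Helper24.AlgStProps4
import Groth.Agent.Lib.Helper14.AlgSpAffineMor
set_option autoImplicit false
set_option linter.unusedSectionVars false
open CategoryTheory CategoryTheory.Limits AlgebraicGeometry Opposite
universe u w₁ v₁ w₂ v₂ w₃ v₃
set_option backward.isDefEq.respectTransparency false
set_option backward.isDefEq.respectTransparency.types false

namespace Groth.Agent.Lib.Helper24.AlgStAffine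
open AlgSp Groth.Agent.Lib.Helper14.AS
open Groth.Agent.Lib.Helper24.AlgStSchLocal Groth.Agent.Lib.Helper24.AlgStRepS
open Groth.Agent.Lib.Helper24.AlgStProps Groth.Agent.Lib.Helper24.AlgStGC

variable {S : Scheme.{u}}

theorem isIntegralMor_of_isPullback {F G G' F' : Sp S} {f : F ⟶ G} {g : G' ⟶ G}
    {fst : F' ⟶ F} {snd : F' ⟶ G'} (sq : IsPullback fst snd f g) (hf : IsIntegralMor f) :
    IsIntegralMor snd := by
  intro Z hZ z
  obtain ⟨W, i, a, sqW, hW⟩ := hf hZ (z ≫ g)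
  refine ⟨W, i, sq.lift a ((yon S).map i ≫ z) (by rw [sqW.w, Category.assoc]), ?_, hW⟩
  refine IsPullback.of_right ?_ (sq.lift_snd _ _ _) sq
  rw [sq.lift_fst]
  exact sqW

theorem isFiniteMor_of_isPullback {F G G' F' : Sp S} {f : F ⟶ G} {g : G' ⟶ G}
    {fst : F' ⟶ F} {snd : F' ⟶ G'} (sq : IsPullback fst snd f g) (hf : IsFiniteMor f) :
    IsFiniteMor snd := by
  intro Z hZ z
  obtain ⟨W, i, a, sqW, hW⟩ := hf hZ (z ≫ g)
  refine ⟨W, i, sq.lift a ((yon S).map i ≫ z) (by rw [sqW.w, Category.assoc]), ?_, hW⟩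
  refine IsPullback.of_right ?_ (sq.lift_snd _ _ _) sq
  rw [sq.lift_fst]
  exact sqW

theorem isIntegralMor_comp {F G H : Sp S} {f : F ⟶ G} {g : G ⟶ H} (hf : IsIntegralMor f)
    (hg : IsIntegralMor g) : IsIntegralMor (f ≫ g) := by
  intro Z hZ z
  obtain ⟨W, i, a, sqW, hW, hi⟩ := hg hZ z
  obtain ⟨W', i', a', sqW', hW', hi'⟩ := hf hW a
  refine ⟨W', i' ≫ i, a', ?_, hW', ?_⟩
  · rw [Functor.map_comp]
    exact sqW'.paste_vert sqW
  · change IsIntegralHom (i'.left ≫ i.left)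
    infer_instance

theorem isFiniteMor_comp {F G H : Sp S} {f : F ⟶ G} {g : G ⟶ H} (hf : IsFiniteMor f)
    (hg : IsFiniteMor g) : IsFiniteMor (f ≫ g) := by
  intro Z hZ z
  obtain ⟨W, i, a, sqW, hW, hi⟩ := hg hZ z
  obtain ⟨W', i', a', sqW', hW', hi'⟩ := hf hW a
  refine ⟨W', i' ≫ i, a', ?_, hW', ?_⟩
  · rw [Functor.map_comp]
    exact sqW'.paste_vert sqW
  · change IsFinite (i'.left ≫ i.left)
    infer_instance

theorem schLocal_isAffineMor : SchLocal (IsAffineMor (S := S)) := by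
  intro X Y hX hY φ H Z hZ z
  have sq := IsPullback.of_hasPullback φ z
  obtain ⟨W, i, a, sqW, hW⟩ := H z _ _ sq hZ (𝟙 _)
  refine ⟨W, i, a ≫ pullback.fst φ z, ?_, hW⟩
  have := sqW.paste_horiz sq
  rwa [Category.id_comp] at this

theorem schLocal_isIntegralMor : SchLocal (IsIntegralMor (S := S)) := by
  intro X Y hX hY φ H Z hZ z
  have sq := IsPullback.of_hasPullback φ z
  obtain ⟨W, i, a, sqW, hW⟩ := H z _ _ sq hZ (𝟙 _)
  refine ⟨W, i, a ≫ pullback.fst φ z, ?_, hW⟩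
  have := sqW.paste_horiz sq
  rwa [Category.id_comp] at this

theorem schLocal_isFiniteMor : SchLocal (IsFiniteMor (S := S)) := by
  intro X Y hX hY φ H Z hZ z
  have sq := IsPullback.of_hasPullback φ z
  obtain ⟨W, i, a, sqW, hW⟩ := H z _ _ sq hZ (𝟙 _)
  refine ⟨W, i, a ≫ pullback.fst φ z, ?_, hW⟩
  have := sqW.paste_horiz sq
  rwa [Category.id_comp] at this

theorem nice_isAffineMor : Nice (IsAffineMor (S := S)) :=
  ⟨fun _ _ _ _ _ _ _ _ _ _ _ _ sq ha => isAffineMor_of_isPullback sq ha, schLocal_isAffineMor⟩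

theorem nice_isIntegralMor : Nice (IsIntegralMor (S := S)) :=
  ⟨fun _ _ _ _ _ _ _ _ _ _ _ _ sq ha => isIntegralMor_of_isPullback sq ha, schLocal_isIntegralMor⟩

theorem nice_isFiniteMor : Nice (IsFiniteMor (S := S)) :=
  ⟨fun _ _ _ _ _ _ _ _ _ _ _ _ sq ha => isFiniteMor_of_isPullback sq ha, schLocal_isFiniteMor⟩

theorem stableComp_isAffineMor : StableComp (IsAffineMor (S := S)) :=
  fun _ _ _ _ _ _ _ _ ha hb => isAffineMor_comp ha hb

theorem stableComp_isIntegralMor : StableComp (IsIntegralMor (S := S)) :=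
  fun _ _ _ _ _ _ _ _ ha hb => isIntegralMor_comp ha hb

theorem stableComp_isFiniteMor : StableComp (IsFiniteMor (S := S)) :=
  fun _ _ _ _ _ _ _ _ ha hb => isFiniteMor_comp ha hb

end Groth.Agent.Lib.Helper24.AlgStAffine
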