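import Groth.Agent.Lib.Helper24.AlgStRepS
set_option autoImplicit false
open CategoryTheory AlgebraicGeometry Opposite
universe u
set_option backward.isDefEq.respectTransparency false
set_option backward.isDefEq.respectTransparency.types false

/-! Isomorphism invariance of properties of morphisms of sheaves. -/

namespace Groth.Agent.Lib.Helper24.AlgStIso
open Groth.Agent.Lib.Helper24.AlgStRepS
open CategoryTheory.Limits

variable {S : Scheme.{u}}

instance locP_respectsIso (Q : MorphismProperty Scheme.{u}) :
    (AlgSp.LocP (S := S) Q).RespectsIso := by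
  apply MorphismProperty.RespectsIso.mk
  · intro X Y Z e f hf U V a b h ha hb comm
    refine hf (a ≫ e.hom) b h ?_ hb (by rw [Category.assoc]; exact comm)
    exact (MorphismProperty.cancel_right_of_respectsIso (AlgSp.RepWith @Etale) a e.hom).2 ha
  · intro X Y Z e f hf U V a b h ha hb comm
    refine hf a (b ≫ e.inv) h ha ?_ ?_
    · exact (MorphismProperty.cancel_right_of_respectsIso (AlgSp.RepWith @Etale) b e.inv).2 hb
    · rw [← Category.assoc, ← comm, Category.assoc, Category.assoc, e.hom_inv_id, Category.comp_id]

lemma points_map_bijective_of_isIso {X Y : AlgSp.Sp S} (e : X ⟶ Y) [IsIso e] :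
    Function.Bijective (AlgSp.Points.map e) := by
  refine Function.bijective_iff_has_inverse.2 ⟨AlgSp.Points.map (inv e), fun x => ?_, fun x => ?_⟩
  · rw [← AlgSp.Points.map_comp, IsIso.hom_inv_id, AlgSp.Points.map_id]
  · rw [← AlgSp.Points.map_comp, IsIso.inv_hom_id, AlgSp.Points.map_id]

instance isSurjectiveMor_respectsIso : (AlgSp.IsSurjectiveMor (S := S)).RespectsIso := by
  apply MorphismProperty.RespectsIso.mk
  · intro X Y Z e f hf
    have : AlgSp.Points.map (e.hom ≫ f) = AlgSp.Points.map f ∘ AlgSp.Points.map e.hom := by
      funext x; exact AlgSp.Points.map_comp _ _ x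
    change Function.Surjective (AlgSp.Points.map (e.hom ≫ f))
    rw [this]
    exact Function.Surjective.comp hf (points_map_bijective_of_isIso e.hom).2
  · intro X Y Z e f hf
    have : AlgSp.Points.map (f ≫ e.hom) = AlgSp.Points.map e.hom ∘ AlgSp.Points.map f := by
      funext x; exact AlgSp.Points.map_comp _ _ x
    change Function.Surjective (AlgSp.Points.map (f ≫ e.hom))
    rw [this]
    exact Function.Surjective.comp (points_map_bijective_of_isIso e.hom).2 hf

/-- restriction to algebraic spaces preserves isomorphism invariance -/
lemma phat_respectsIso_of (P : MorphismProperty (AlgSp.Sp S)) [P.RespectsIso] :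
    (Phat P).RespectsIso := by
  apply MorphismProperty.RespectsIso.mk
  · intro X Y Z e f hf hX hZ
    exact (MorphismProperty.cancel_left_of_respectsIso P e.hom f).2
      (hf (hX.of_iso e) hZ)
  · intro X Y Z e f hf hX hZ
    exact (MorphismProperty.cancel_right_of_respectsIso P f e.hom).2
      (hf hX (hZ.of_iso e.symm))

end Groth.Agent.Lib.Helper24.AlgStIso
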