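import Groth.Agent.Lib.Helper24.AlgStEqv
import Groth.Agent.Lib.Helper24.AlgStIso
set_option autoImplicit false
open CategoryTheory AlgebraicGeometry Opposite
universe w₁ v₁ w₂ v₂ w₃ v₃ u
set_option backward.isDefEq.respectTransparency false
set_option backward.isDefEq.respectTransparency.types false

/-! Descent of properties of representable morphisms along fppf covers of the target. -/

namespace Groth.Agent.Lib.Helper24.AlgStDescent
open Groth.Agent.Lib.Helper24.FibCatFpGen Groth.Agent.Lib.Helper24.AlgStRep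
open Groth.Agent.Lib.Helper24.AlgStRepS Groth.Agent.Lib.Helper24.AlgStEqv
open Groth.Agent.Lib.Helper24.AlgStIso
open CategoryTheory.Limits

variable {S : Scheme.{u}}

lemma repByAlgSp_fp_toOverCat {𝒳 : BasedCategory.{v₁, w₁} (Over S)}
    {𝒴 : BasedCategory.{v₂, w₂} (Over S)} (f : 𝒳 ⥤ᵇ 𝒴) (hf : AlgSt.RepByAlgSp1 f) (U : Over S)
    (y : FibCat.overCat U ⥤ᵇ 𝒴) :
    AlgSt.RepByAlgSp (FibCat.fp (BasedFunctor.comp (AlgSt.toOverCat U) y) f) :=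
  ((repByAlgSpWith_iff_hasP (P := ⊤) f).1 ((repByAlgSp1_iff_with_top f).1 hf) U y).rep

/-- a flat, locally finitely presented, surjective representable morphism gives fppf covers -/
lemma exists_fppfCover {𝒵 : BasedCategory.{v₁, w₁} (Over S)} {𝒴 : BasedCategory.{v₂, w₂} (Over S)}
    (z : 𝒵 ⥤ᵇ 𝒴) (hz₁ : AlgSt.RepByAlgSpWith (AlgSp.LocP @Flat) z)
    (hz₂ : AlgSt.RepByAlgSpWith (AlgSp.LocP @LocallyOfFinitePresentation) z)
    (hz₃ : AlgSt.RepByAlgSpWith AlgSp.IsSurjectiveMor z) (U : Over S)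
    (y : FibCat.overCat U ⥤ᵇ 𝒴) :
    ∃ (W : AlgSp.Space S)
      (eW : AlgSt.ofSp W.obj ⥤ᵇ FibCat.fp (BasedFunctor.comp (AlgSt.toOverCat U) y) z),
      FibCat.IsEquivOver eW ∧ AlgSp.IsFppfCover (ι := PUnit.{u + 1}) (fun _ => W.obj)
        (fun _ => spMapOf (BasedFunctor.comp eW
          (FibCat.fpFst (BasedFunctor.comp (AlgSt.toOverCat U) y) z))) := by
  rw [repByAlgSpWith_iff_hasP] at hz₁ hz₂ hz₃
  obtain ⟨W, eW, heW, hfl⟩ := hz₁ U y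
  have hlfp := (hz₂ U y).forall (phat_respectsIso_of _) (AlgSp.IsAlgSpace.yon_obj U) W eW heW
  have hsurj := (hz₃ U y).forall (phat_respectsIso_of _) (AlgSp.IsAlgSpace.yon_obj U) W eW heW
  exact ⟨W, eW, heW, fun _ => ⟨hfl, hlfp⟩, fun x => ⟨PUnit.unit, hsurj x⟩⟩

/-- `P` descends along a flat, locally finitely presented, surjective base change -/
theorem repByAlgSpWith_of_fpFst_cover {𝒳 𝒴 𝒵 : AlgSt.Cat S} (h𝒳 : FibCat.IsFibGrpd 𝒳.p)
    (h𝒴 : FibCat.IsFibGrpd 𝒴.p) (h𝒵 : FibCat.IsFibGrpd 𝒵.p)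
    (P : MorphismProperty (AlgSp.Sp S)) (hPb : StableBC P)
    (hP : AlgSp.IsLocalOnBase AlgSp.IsFppfCover P) (f : 𝒳 ⥤ᵇ 𝒴) (hf : AlgSt.RepByAlgSp1 f)
    (z : 𝒵 ⥤ᵇ 𝒴) (hz₁ : AlgSt.RepByAlgSpWith (AlgSp.LocP @Flat) z)
    (hz₂ : AlgSt.RepByAlgSpWith (AlgSp.LocP @LocallyOfFinitePresentation) z)
    (hz₃ : AlgSt.RepByAlgSpWith AlgSp.IsSurjectiveMor z)
    (h : AlgSt.RepByAlgSpWith P (FibCat.fpFst z f)) : AlgSt.RepByAlgSpWith P f := by
  have h' : RepS P (FibCat.fpFst z f) :=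
    repS_of_repByAlgSpWith (isFibGrpd_fp z f h𝒵 h𝒳 h𝒴) h𝒵 P hPb hP _ h
  rw [repByAlgSpWith_iff_hasP]
  intro U y
  obtain ⟨W, eW, heW, hq⟩ := exists_fppfCover z hz₁ hz₂ hz₃ U y
  exact hasP_of_cover hPb hP f z ⟨(AlgSp.yon S).obj U, AlgSp.IsAlgSpace.yon_obj U⟩ _
    (repByAlgSp_fp_toOverCat f hf U y) W eW heW hq (h' W _)

end Groth.Agent.Lib.Helper24.AlgStDescent
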