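import Groth.Agent.Lib.Helper24.AlgStCalc
import Groth.Agent.Lib.Helper24.FibCatMagic
import Groth.Agent.Lib.Helper24.FibCatRepDiag
import Groth.Agent.Lib.Helper24.FibCatInertia
set_option autoImplicit false
open CategoryTheory AlgebraicGeometry Opposite
universe w₁ v₁ w₂ v₂ w₃ v₃ u
set_option backward.isDefEq.respectTransparency false
set_option backward.isDefEq.respectTransparency.types false

namespace Groth.Agent.Lib.Helper24.AlgStDiag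
open Groth.Agent.Lib.Helper24.PshFun Groth.Agent.Lib.Helper24.FibCatFpMap
open Groth.Agent.Lib.Helper24.FibCatEquiv Groth.Agent.Lib.Helper24.FibCatFpGen
open Groth.Agent.Lib.Helper24.PshBridge Groth.Agent.Lib.Helper24.AlgStRep
open Groth.Agent.Lib.Helper24.AlgStBridge Groth.Agent.Lib.Helper24.AlgStBoot
open Groth.Agent.Lib.Helper24.AlgStRepS Groth.Agent.Lib.Helper24.AlgStCalc
open Groth.Agent.Lib.Helper24.FibCatMagic Groth.Agent.Lib.Helper24.FibCatRepDiag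
open CategoryTheory.Limits

variable {S : Scheme.{u}}

/-- the product over the base of two categories representable by algebraic spaces, mapped to a
third category, is representable by an algebraic space -/
theorem repByAlgSp_fp_comp_toSelf {𝒜 : BasedCategory.{v₁, w₁} (Over S)}
    {ℬ : BasedCategory.{v₂, w₂} (Over S)} {𝒳 : BasedCategory.{v₃, w₃} (Over S)}
    (h𝒜 : AlgSt.RepByAlgSp 𝒜) (hℬ : AlgSt.RepByAlgSp ℬ) (a : 𝒜 ⥤ᵇ 𝒳) (b : ℬ ⥤ᵇ 𝒳) :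
    AlgSt.RepByAlgSp (FibCat.fp (BasedFunctor.comp a (FibCat.toSelf 𝒳))
      (BasedFunctor.comp b (FibCat.toSelf 𝒳))) := by
  obtain ⟨X, eX, heX⟩ := h𝒜
  obtain ⟨Y, eY, heY⟩ := hℬ
  let eF : BasedFunctor.comp (FibCat.toSelf (AlgSt.ofSp X.obj)) (BasedFunctor.id _) ≅
      BasedFunctor.comp eX (BasedFunctor.comp a (FibCat.toSelf 𝒳)) :=
    pairIso (BasedFunctor.id _) (BasedFunctor.comp eX a)
  let eG : BasedFunctor.comp (FibCat.toSelf (AlgSt.ofSp Y.obj)) (BasedFunctor.id _) ≅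
      BasedFunctor.comp eY (BasedFunctor.comp b (FibCat.toSelf 𝒳)) :=
    pairIso (BasedFunctor.id _) (BasedFunctor.comp eY b)
  exact repByAlgSp_of_isEquivOver _
    (isEquivOver_fpMap eX eY (BasedFunctor.id (FibCat.selfOver (Over S))) eF eG heX heY)
    (Groth.Agent.Lib.Helper24.AlgStAtlas.repByAlgSp_fp_toSelf X Y)


open Groth.Agent.Lib.Helper24.FibCatInertia in
/-- S12765, (1) ⇒ (3) -/
theorem repByAlgSp1_of_diag {𝒳 : AlgSt.Cat S} (h𝒳 : FibCat.IsFibGrpd 𝒳.p)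
    (hΔ : AlgSt.RepByAlgSp1 (FibCat.diag (FibCat.toSelf 𝒳)))
    {𝒜 ℬ : AlgSt.Cat S} (h𝒜 : FibCat.IsFibGrpd 𝒜.p) (hℬ : FibCat.IsFibGrpd ℬ.p)
    (hA : AlgSt.RepByAlgSp 𝒜) (hB : AlgSt.RepByAlgSp ℬ) (a : 𝒜 ⥤ᵇ 𝒳) (b : ℬ ⥤ᵇ 𝒳) :
    AlgSt.RepByAlgSp (FibCat.fp a b) := by
  let j := FibCat.toSelf 𝒳
  have hU : AlgSt.RepByAlgSp (FibCat.fp (BasedFunctor.comp a j) (BasedFunctor.comp b j)) :=
    repByAlgSp_fp_comp_toSelf hA hB a b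
  have hPfib : FibCat.IsFibGrpd (FibCat.fp j j).p := isFibGrpd_fp j j h𝒳 h𝒳 isFibGrpd_selfOver
  have hUfib : FibCat.IsFibGrpd (FibCat.fp (BasedFunctor.comp a j) (BasedFunctor.comp b j)).p :=
    isFibGrpd_fp _ _ h𝒜 hℬ isFibGrpd_selfOver
  have h1 : AlgSt.RepByAlgSp (FibCat.fp (M a b j) (FibCat.diag j)) :=
    repByAlgSp_fp h𝒳 hPfib hUfib (FibCat.diag j) (M a b j) hΔ hU
  exact (repByAlgSp_iff_of_isEquivOver _ (isEquivOver_Ψ a b j)).2 h1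


open Groth.Agent.Lib.Helper24.FibCatInertia in
/-- S12765, (3) ⇒ (1), with an arbitrary test category representable by an algebraic space -/
theorem repByAlgSp_fp_diag {𝒳 : AlgSt.Cat S} (h𝒳 : FibCat.IsFibGrpd 𝒳.p)
    (h : ∀ {𝒜 ℬ : AlgSt.Cat S}, FibCat.IsFibGrpd 𝒜.p → FibCat.IsFibGrpd ℬ.p →
      AlgSt.RepByAlgSp 𝒜 → AlgSt.RepByAlgSp ℬ → ∀ (a : 𝒜 ⥤ᵇ 𝒳) (b : ℬ ⥤ᵇ 𝒳),
        AlgSt.RepByAlgSp (FibCat.fp a b))
    {𝒵 : AlgSt.Cat S} (h𝒵 : FibCat.IsFibGrpd 𝒵.p) (hZ : AlgSt.RepByAlgSp 𝒵)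
    (z : 𝒵 ⥤ᵇ FibCat.fp (FibCat.toSelf 𝒳) (FibCat.toSelf 𝒳)) :
    AlgSt.RepByAlgSp (FibCat.fp z (FibCat.diag (FibCat.toSelf 𝒳))) := by
  let j := FibCat.toSelf 𝒳
  let z₁ : 𝒵 ⥤ᵇ 𝒳 := BasedFunctor.comp z (FibCat.fpFst j j)
  let z₂ : 𝒵 ⥤ᵇ 𝒳 := BasedFunctor.comp z (FibCat.fpSnd j j)
  have hT : AlgSt.RepByAlgSp (FibCat.fp (M z₁ z₂ j) (FibCat.diag j)) :=
    (repByAlgSp_iff_of_isEquivOver _ (isEquivOver_Ψ z₁ z₂ j)).1 (h h𝒵 h𝒵 hZ hZ z₁ z₂)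
  have hU : AlgSt.RepByAlgSp (FibCat.fp (BasedFunctor.comp z₁ j) (BasedFunctor.comp z₂ j)) :=
    repByAlgSp_fp_comp_toSelf hZ hZ z₁ z₂
  have hPfib : FibCat.IsFibGrpd (FibCat.fp j j).p := isFibGrpd_fp j j h𝒳 h𝒳 isFibGrpd_selfOver
  have hUfib : FibCat.IsFibGrpd (FibCat.fp (BasedFunctor.comp z₁ j) (BasedFunctor.comp z₂ j)).p :=
    isFibGrpd_fp _ _ h𝒵 h𝒵 isFibGrpd_selfOver
  have hTfib : FibCat.IsFibGrpd (FibCat.fp (M z₁ z₂ j) (FibCat.diag j)).p :=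
    isFibGrpd_fp _ _ hUfib h𝒳 hPfib
  let ez : BasedFunctor.comp (BasedFunctor.id 𝒵) (BasedFunctor.comp z₁ j) ≅
      BasedFunctor.comp (BasedFunctor.id 𝒵) (BasedFunctor.comp z₂ j) :=
    whiskerLeftIso z (FibCat.fpIso j j)
  let δ : 𝒵 ⥤ᵇ FibCat.fp (BasedFunctor.comp z₁ j) (BasedFunctor.comp z₂ j) :=
    FibCat.fpLift (BasedFunctor.id 𝒵) (BasedFunctor.id 𝒵) ez
  have step1 : AlgSt.RepByAlgSp (FibCat.fp δ (FibCat.fpFst (M z₁ z₂ j) (FibCat.diag j))) :=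
    repByAlgSp_fp hTfib hUfib h𝒵 _ δ (repByAlgSp1_of_repByAlgSp hT hU _) hZ
  have step2 : AlgSt.RepByAlgSp (FibCat.fp (BasedFunctor.comp δ (M z₁ z₂ j)) (FibCat.diag j)) :=
    repByAlgSp_of_isEquivOver _
      (Groth.Agent.Lib.Helper24.FibCatFpPaste.isEquivOver_P (f := FibCat.diag j) (g := M z₁ z₂ j)
        (G := δ)) step1
  let eF : BasedFunctor.comp (BasedFunctor.comp δ (M z₁ z₂ j)) (BasedFunctor.id _) ≅
      BasedFunctor.comp (BasedFunctor.id 𝒵) z := Iso.refl _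
  let eG : BasedFunctor.comp (FibCat.diag j) (BasedFunctor.id _) ≅
      BasedFunctor.comp (BasedFunctor.id 𝒳) (FibCat.diag j) := Iso.refl _
  have : (BasedFunctor.id (FibCat.fp j j)).toFunctor.Full := id_full _
  have : (BasedFunctor.id (FibCat.fp j j)).toFunctor.Faithful := id_faithful _
  exact repByAlgSp_of_isEquivOver _
    (isEquivOver_fpMap (BasedFunctor.id 𝒵) (BasedFunctor.id 𝒳) (BasedFunctor.id (FibCat.fp j j))
      eF eG (isEquivOver_id _) (isEquivOver_id _)) step2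


/-- fibre products of categories representable by algebraic spaces over `𝒳`, when all maps from
schemes are representable by algebraic spaces -/
theorem repByAlgSp_fp_of_forall {𝒳 : AlgSt.Cat S} (h𝒳 : FibCat.IsFibGrpd 𝒳.p)
    (h : ∀ (U : Over S) (x : FibCat.overCat U ⥤ᵇ 𝒳), AlgSt.RepByAlgSp1 x)
    {𝒜 ℬ : AlgSt.Cat S} (h𝒜 : FibCat.IsFibGrpd 𝒜.p) (hℬ : FibCat.IsFibGrpd ℬ.p)
    (hA : AlgSt.RepByAlgSp 𝒜) (hB : AlgSt.RepByAlgSp ℬ) (a : 𝒜 ⥤ᵇ 𝒳) (b : ℬ ⥤ᵇ 𝒳) :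
    AlgSt.RepByAlgSp (FibCat.fp a b) :=
  repByAlgSp_fp hℬ h𝒳 h𝒜 b a ((forall_repByAlgSp1_iff h𝒳).1 h ℬ hℬ hB b) hA

/-- S12765 -/
theorem repByAlgSp1_diag_iff {𝒳 : AlgSt.Cat S} (h𝒳 : FibCat.IsFibGrpd 𝒳.p) :
    AlgSt.RepByAlgSp1 (FibCat.diag (FibCat.toSelf 𝒳)) ↔
      ∀ (U : Over S) (x : FibCat.overCat U ⥤ᵇ 𝒳), AlgSt.RepByAlgSp1 x := by
  constructor
  · intro hΔ U x T t
    exact repByAlgSp1_of_diag h𝒳 hΔ (StkFpCrit.isFibGrpd_overForget T)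
      (StkFpCrit.isFibGrpd_overForget U) (repByAlgSp_overCat T) (repByAlgSp_overCat U) t x
  · intro h T z
    exact repByAlgSp_fp_diag h𝒳 (fun h𝒜 hℬ hA hB a b => repByAlgSp_fp_of_forall h𝒳 h h𝒜 hℬ hA hB a b)
      (StkFpCrit.isFibGrpd_overForget T) (repByAlgSp_overCat T) z

end Groth.Agent.Lib.Helper24.AlgStDiag
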