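import Groth.Agent.Lib.Helper24.AlgStLC
import Groth.Agent.Lib.Helper24.AlgStRelDiag
import Groth.Agent.Lib.Helper24.AlgStProps5
set_option autoImplicit false
open CategoryTheory AlgebraicGeometry Opposite
universe w₁ v₁ w₂ v₂ w₃ v₃ w₄ v₄ w₅ v₅ u
set_option backward.isDefEq.respectTransparency false
set_option backward.isDefEq.respectTransparency.types false

/-! Left cancellation for properties of the diagonal. -/

namespace Groth.Agent.Lib.Helper24.AlgStDiagLC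
open Groth.Agent.Lib.Helper24.FibCatFpMap
open Groth.Agent.Lib.Helper24.FibCatEquiv Groth.Agent.Lib.Helper24.FibCatFpGen
open Groth.Agent.Lib.Helper24.AlgStRep
open Groth.Agent.Lib.Helper24.AlgStBridge Groth.Agent.Lib.Helper24.AlgStBoot
open Groth.Agent.Lib.Helper24.AlgStRepS
open Groth.Agent.Lib.Helper24.AlgStEqv Groth.Agent.Lib.Helper24.FibCatMagic
open Groth.Agent.Lib.Helper24.AlgStDiagBC Groth.Agent.Lib.Helper24.FibCatDiagComp
open Groth.Agent.Lib.Helper24.AlgStSchLocal Groth.Agent.Lib.Helper24.AlgStDiagComp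
open Groth.Agent.Lib.Helper24.AlgStGC Groth.Agent.Lib.Helper24.AlgStLC
open Groth.Agent.Lib.Helper24.AlgStProps Groth.Agent.Lib.Helper24.AlgStRelDiag
open Groth.Agent.Lib.Helper14.AS
open CategoryTheory.Limits

variable {S : Scheme.{u}}

/-- left cancellation for a property of morphisms of algebraic spaces -/
def LeftCancel (P Pc : MorphismProperty (AlgSp.Sp S)) : Prop :=
  ∀ ⦃X Y Z : AlgSp.Sp S⦄, AlgSp.IsAlgSpace X → AlgSp.IsAlgSpace Y → AlgSp.IsAlgSpace Z →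
    ∀ (a : X ⟶ Y) (b : Y ⟶ Z), P (a ≫ b) → Pc b → P a

theorem leftCancel_locP {Q : MorphismProperty Scheme.{u}} (hQ : EtLocal Q)
    (hc : ∀ ⦃A B C : Scheme.{u}⦄ (f : A ⟶ B) (g : B ⟶ C), Q (f ≫ g) → Q f) :
    LeftCancel (AlgSp.LocP Q (S := S)) ⊤ :=
  fun _ _ _ _ _ hZ a b h _ => locP_of_comp hQ hc hZ a b h

theorem leftCancel_unramified :
    LeftCancel (AlgSp.LocP (@LocallyOfFiniteType ⊓ @FormallyUnramified) (S := S)) ⊤ :=
  leftCancel_locP etLocal_lft_fu (fun _ _ _ f g h =>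
    ⟨by have : LocallyOfFiniteType (f ≫ g) := h.1; exact locallyOfFiniteType_of_comp f g,
     by have : FormallyUnramified (f ≫ g) := h.2; exact FormallyUnramified.of_comp f g⟩)

theorem leftCancel_lqf :
    LeftCancel (AlgSp.LocP (@LocallyQuasiFinite ⊓ @LocallyOfFiniteType) (S := S)) ⊤ :=
  leftCancel_locP etLocal_lqf_lft (fun _ _ _ f g h =>
    ⟨by have : LocallyQuasiFinite (f ≫ g) := h.1; exact LocallyQuasiFinite.of_comp f g,
     by have : LocallyOfFiniteType (f ≫ g) := h.2; exact locallyOfFiniteType_of_comp f g⟩)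

theorem leftCancel_lft : LeftCancel (AlgSp.LocP @LocallyOfFiniteType (S := S)) ⊤ :=
  leftCancel_locP etLocal_lft (fun _ _ _ f g h => by
    have : LocallyOfFiniteType (f ≫ g) := h; exact locallyOfFiniteType_of_comp f g)

/-- if the diagonal of `g ∘ f` has `P` and `P` cancels on the left, the diagonal of `f` has `P` -/
theorem repByAlgSpWith_diag_of_comp {𝒳 𝒴 𝒵 : AlgSt.Cat S} (h𝒳 : FibCat.IsFibGrpd 𝒳.p)
    (h𝒴 : FibCat.IsFibGrpd 𝒴.p) (h𝒵 : FibCat.IsFibGrpd 𝒵.p)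
    (P Pc : MorphismProperty (AlgSp.Sp S)) (hP : Nice P) (hPc : Nice Pc) (hc : LeftCancel P Pc)
    (f : 𝒳 ⥤ᵇ 𝒴) (g : 𝒴 ⥤ᵇ 𝒵) (hg : AlgSt.RepByAlgSpWith Pc (FibCat.diag g))
    (hfg : AlgSt.RepByAlgSpWith P (FibCat.diag (BasedFunctor.comp f g))) :
    AlgSt.RepByAlgSpWith P (FibCat.diag f) :=
  repByAlgSpWith_of_comp h𝒳 (isFibGrpd_fp f f h𝒳 h𝒳 h𝒴)
    (isFibGrpd_fp (BasedFunctor.comp f g) (BasedFunctor.comp f g) h𝒳 h𝒳 h𝒵) P Pc hP hPc hc
    (FibCat.diag f) (N f f g) (repByAlgSpWith_N Pc f f g hg)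
    (repByAlgSpWith_of_iso P (diagCompIso f g) hfg)

end Groth.Agent.Lib.Helper24.AlgStDiagLC
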