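import Groth.Agent.Lib.Helper24.AlgStProd
import Groth.Agent.Lib.Helper24.AlgStDiagLC
import Groth.Agent.Lib.Helper24.AlgStDescent
import Groth.Agent.Lib.Helper24.AlgStDiag
set_option autoImplicit false
open CategoryTheory AlgebraicGeometry Opposite
universe w₁ v₁ w₂ v₂ w₃ v₃ w₄ v₄ w₅ v₅ u
set_option backward.isDefEq.respectTransparency false
set_option backward.isDefEq.respectTransparency.types false

/-! Properties of the diagonal read off from a flat, locally finitely presented, surjective chart. -/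

namespace Groth.Agent.Lib.Helper24.AlgStDiagAtlas
open Groth.Agent.Lib.Helper24.FibCatFpMap
open Groth.Agent.Lib.Helper24.FibCatEquiv Groth.Agent.Lib.Helper24.FibCatFpGen
open Groth.Agent.Lib.Helper24.AlgStRep
open Groth.Agent.Lib.Helper24.AlgStBridge Groth.Agent.Lib.Helper24.AlgStBoot
open Groth.Agent.Lib.Helper24.AlgStRepS
open Groth.Agent.Lib.Helper24.AlgStEqv Groth.Agent.Lib.Helper24.FibCatMagic
open Groth.Agent.Lib.Helper24.AlgStDiagBC Groth.Agent.Lib.Helper24.AlgStDiagComp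
open Groth.Agent.Lib.Helper24.AlgStSchLocal
open Groth.Agent.Lib.Helper24.AlgStGC Groth.Agent.Lib.Helper24.AlgStLC
open Groth.Agent.Lib.Helper24.AlgStProd Groth.Agent.Lib.Helper24.AlgStDiagLC
open Groth.Agent.Lib.Helper24.AlgStProps Groth.Agent.Lib.Helper24.AlgStDescent
open CategoryTheory.Limits

variable {S : Scheme.{u}}

/-- a property `P` with left cancellation holds for the diagonal of `j : 𝒳 ⟶ 𝒴` as soon as `𝒳` has
a flat, locally finitely presented, surjective chart with `P` -/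
theorem repByAlgSpWith_diag_of_chart {𝒰 𝒳 𝒴 : AlgSt.Cat S} (h𝒰 : FibCat.IsFibGrpd 𝒰.p)
    (h𝒳 : FibCat.IsFibGrpd 𝒳.p) (h𝒴 : FibCat.IsFibGrpd 𝒴.p)
    (P : MorphismProperty (AlgSp.Sp S)) (hP : Good P) (hc : LeftCancel P ⊤)
    (j : 𝒳 ⥤ᵇ 𝒴) (hΔ : AlgSt.RepByAlgSp1 (FibCat.diag j)) (x : 𝒰 ⥤ᵇ 𝒳)
    (hU : AlgSt.RepByAlgSp 𝒰)
    (hUU : AlgSt.RepByAlgSp (FibCat.fp (BasedFunctor.comp x j) (BasedFunctor.comp x j)))
    (hx₁ : AlgSt.RepByAlgSpWith (AlgSp.LocP @Flat) x)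
    (hx₂ : AlgSt.RepByAlgSpWith (AlgSp.LocP @LocallyOfFinitePresentation) x)
    (hx₃ : AlgSt.RepByAlgSpWith AlgSp.IsSurjectiveMor x)
    (hxP : AlgSt.RepByAlgSpWith P x) : AlgSt.RepByAlgSpWith P (FibCat.diag j) := by
  have hx1 : AlgSt.RepByAlgSp1 x := repByAlgSp1_of_repByAlgSpWith P x hxP
  have hR : AlgSt.RepByAlgSp (FibCat.fp x x) := repByAlgSp_fp h𝒰 h𝒳 h𝒰 x x hx1 hU
  have hfst : AlgSt.RepByAlgSpWith P (FibCat.fpFst x x) := repByAlgSpWith_fpFst P x x hxP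
  have h₂ : AlgSt.RepByAlgSpWith ⊤
      (FibCat.fpFst (BasedFunctor.comp x j) (BasedFunctor.comp x j)) :=
    (repByAlgSp1_iff_with_top _).1 (repByAlgSp1_of_repByAlgSp hUU hU _)
  have hN : AlgSt.RepByAlgSpWith P (N x x j) :=
    repByAlgSpWith_of_comp_rep P ⊤ hP.nice nice_top hc hR hUU hU (N x x j)
      (FibCat.fpFst (BasedFunctor.comp x j) (BasedFunctor.comp x j)) h₂ hfst
  have h1 : AlgSt.RepByAlgSpWith P (FibCat.fpFst (M x x j) (FibCat.diag j)) :=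
    repByAlgSpWith_of_eqvOver P (eqvOver_N x x j).symm hN
  exact repByAlgSpWith_of_fpFst_cover h𝒳 (isFibGrpd_fp j j h𝒳 h𝒳 h𝒴)
    (isFibGrpd_fp _ _ h𝒰 h𝒰 h𝒴) P hP.bc hP.loc (FibCat.diag j) hΔ (M x x j)
    (repByAlgSpWith_M h𝒰 h𝒰 h𝒳 h𝒴 _ good_flat.nice (stableComp_locP Groth.Agent.Lib.Helper14.AS.etLocal_flat) x x j hx₁ hx₁)
    (repByAlgSpWith_M h𝒰 h𝒰 h𝒳 h𝒴 _ good_lfp.nice (stableComp_locP Groth.Agent.Lib.Helper14.AS.etLocal_lfp) x x j hx₂ hx₂)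
    (repByAlgSpWith_M h𝒰 h𝒰 h𝒳 h𝒴 _ good_isSurjectiveMor.nice
      (fun _ _ _ _ _ _ _ _ ha hb => Groth.Agent.Lib.Helper14.AS.isSurjectiveMor_comp ha hb)
      x x j hx₃ hx₃) h1

end Groth.Agent.Lib.Helper24.AlgStDiagAtlas
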