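import Groth.Agent.Lib.Helper24.AlgStProps
import Groth.Agent.Lib.Helper14.AlgSpUCQC
set_option autoImplicit false
open CategoryTheory AlgebraicGeometry Opposite
universe u
set_option backward.isDefEq.respectTransparency false
set_option backward.isDefEq.respectTransparency.types false

/-! More good properties: (quasi-)separated, finite type, universally closed, proper. -/

namespace Groth.Agent.Lib.Helper24.AlgStProps
open Groth.Agent.Lib.Helper24.AlgStRepS Groth.Agent.Lib.Helper14.AS
open CategoryTheory.Limits AlgSp

variable {S : Scheme.{u}}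

theorem bcStable_diagonal (Q : MorphismProperty Scheme.{u}) :
    BCStable (fun _ _ f => RepWith Q (pullback.diagonal f) : MorphismProperty (Sp S)) :=
  fun _ _ _ _ _ _ _ _ _ _ _ _ sq hf =>
    repWith_of_isPullback Q (isPullback_diagonal_of_isPullback sq) hf

theorem good_isQuasiSeparatedMor : Good (IsQuasiSeparatedMor (S := S)) :=
  Good.of_fpqc (bcStable_diagonal _) isLocalOnBase_fpqc_isQuasiSeparatedMor

theorem good_isSeparatedMor : Good (IsSeparatedMor (S := S)) :=
  Good.of_fpqc (bcStable_diagonal _) isLocalOnBase_fpqc_isSeparatedMor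

theorem good_isUnivClosedMor : Good (IsUnivClosedMor (S := S)) :=
  Good.of_fpqc (fun _ _ _ _ _ _ _ _ _ _ _ _ sq hf => univSp_of_isPullback _ sq hf)
    isLocalOnBase_fpqc_isUnivClosedMor

theorem good_isFiniteTypeMor : Good (IsFiniteTypeMor (S := S)) :=
  good_lft.and good_isQuasiCompactMor

theorem good_isProperMor : Good (IsProperMor (S := S)) :=
  good_isSeparatedMor.and (good_isFiniteTypeMor.and good_isUnivClosedMor)

theorem good_qcqs : Good (IsQuasiCompactMor ⊓ IsQuasiSeparatedMor : MorphismProperty (Sp S)) :=
  good_isQuasiCompactMor.inf good_isQuasiSeparatedMor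

end Groth.Agent.Lib.Helper24.AlgStProps
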