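import Mathlib
import Groth.Agent.Lib.Helper24.FpqcRep
import Groth.Agent.Lib.Helper14.FpqcCover2
import Groth.Agent.Lib.Helper14.FppfLocal

/-!
# fppf locality on the base for representable properties contained in "lqf + separated" (helper24)

fppf analogue of `FpqcRep`: for `P` descending along surjective flat locally finitely presented
morphisms (e.g. immersions).
-/

universe u
open CategoryTheory CategoryTheory.Limits AlgebraicGeometry Opposite Topology

namespace Groth.Agent.Lib.Helper24.FppfRep

open AlgSp Groth.Agent.Lib.Helper14.AS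

variable {S : Scheme.{u}}

set_option backward.isDefEq.respectTransparency.types false in
/-- A property Zariski local at the target and descending along fppf morphisms can be checked
after base change to the members of a flat, locally finitely presented jointly surjective family. -/
theorem of_fppf_family {P : MorphismProperty Scheme.{u}} [IsZariskiLocalAtTarget P]
    [P.DescendsAlong (@Surjective ⊓ @Flat ⊓ @LocallyOfFinitePresentation)]
    {ι : Type u} {Z T : Scheme.{u}} (W : ι → Scheme.{u}) (c : ∀ j, W j ⟶ Z) (g : T ⟶ Z)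
    (hfl : ∀ j, Flat (c j)) (hfp : ∀ j, LocallyOfFinitePresentation (c j))
    (hs : ∀ z : Z, ∃ j, z ∈ Set.range (c j))
    (H : ∀ j, P (pullback.snd g (c j))) : P g := by
  let σ : (∐ W) ⟶ Z := Sigma.desc c
  have h1 : Surjective σ := by
    apply Surjective.sigmaDesc_of_union_range_eq_univ
    rw [Set.eq_univ_iff_forall]
    intro z
    obtain ⟨j, hj⟩ := hs z
    exact Set.mem_iUnion.2 ⟨j, hj⟩
  have h2 : Flat σ := inferInstance
  have h3 : LocallyOfFinitePresentation σ := IsZariskiLocalAtSource.sigmaDesc hfp
  refine MorphismProperty.of_pullback_snd_of_descendsAlong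
    (Q := @Surjective ⊓ @Flat ⊓ @LocallyOfFinitePresentation) (f := g) (g := σ) ⟨⟨h1, h2⟩, h3⟩ ?_
  rw [IsZariskiLocalAtTarget.iff_of_openCover (P := P) (sigmaOpenCover _)]
  intro j
  have sq : IsPullback (pullback.fst (pullback.snd g σ) ((sigmaOpenCover _).f j) ≫ pullback.fst g σ)
      (pullback.snd (pullback.snd g σ) ((sigmaOpenCover _).f j)) g
      ((sigmaOpenCover _).f j ≫ σ) :=
    (IsPullback.of_hasPullback (pullback.snd g σ) ((sigmaOpenCover _).f j)).paste_horiz
      (IsPullback.of_hasPullback g σ)
  have e : (sigmaOpenCover W).f j ≫ σ = c j := by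
    simp only [σ, sigmaOpenCover_f]
    exact Sigma.ι_desc _ _
  rw [e] at sq
  exact (Groth.Agent.Lib.Helper14.FL.P_snd_iff_of_isPullback sq).2 (H j)

set_option backward.isDefEq.respectTransparency.types false in
/-- A representable morphism has `RepWith P` as soon as its base changes to the members of an
fppf covering of the target have it (`P` descending along fppf morphisms). -/
theorem repWith_of_fppfCover {P : MorphismProperty Scheme.{u}} [IsZariskiLocalAtTarget P]
    [P.DescendsAlong (@Surjective ⊓ @Flat ⊓ @LocallyOfFinitePresentation)]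
    {ι : Type u} {Y : Sp S} (Yi : ι → Sp S) (gi : ∀ i, Yi i ⟶ Y)
    (hY : IsAlgSpace Y) (hYi : ∀ i, IsAlgSpace (Yi i)) (hcov : IsFppfCover Yi gi)
    {X : Sp S} (f : X ⟶ Y) (hf : Representable f)
    (Xi : ι → Sp S) (q : ∀ i, Xi i ⟶ X) (p : ∀ i, Xi i ⟶ Yi i)
    (hsq : ∀ i, IsPullback (q i) (p i) f (gi i))
    (H : ∀ i, RepWith P (p i)) : RepWith P f := by
  refine ⟨hf, fun T W z a0 b0 sq0 => ?_⟩
  change P b0.left
  obtain ⟨U', a', pp, hcomm, hfl, hfp, hs⟩ := exists_fppf_chart_family hY Yi gi hYi hcov z
  refine of_fppf_family (fun i => (U' i).left) (fun i => (pp i).left) b0.left hfl hfp hs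
    fun i => ?_
  refine (P_over_pullback_snd_iff b0 (pp i)).1 ?_
  have sqW := (IsPullback.of_hasPullback b0 (pp i)).map (yon S)
  have big := sqW.paste_horiz sq0
  rw [← hcomm i] at big
  have hc : ((yon S).map (pullback.fst b0 (pp i)) ≫ a0) ≫ f =
      ((yon S).map (pullback.snd b0 (pp i)) ≫ a' i) ≫ gi i := by
    rw [Category.assoc ((yon S).map (pullback.snd b0 (pp i)))]
    exact big.w
  have key : IsPullback ((hsq i).lift _ _ hc)
      ((yon S).map (pullback.snd b0 (pp i))) (p i) (a' i) := by
    refine IsPullback.of_right ?_ ((hsq i).lift_snd _ _ _) (hsq i)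
    rw [(hsq i).lift_fst]
    exact big
  exact (H i).property _ _ _ key

set_option backward.isDefEq.respectTransparency.types false in
theorem isLocalOnBase_fppf_repWith {P : MorphismProperty Scheme.{u}}
    [IsZariskiLocalAtTarget P]
    [P.DescendsAlong (@Surjective ⊓ @Flat ⊓ @LocallyOfFinitePresentation)]
    (h1 : P ≤ (@LocallyQuasiFinite ⊓ @LocallyOfFiniteType : MorphismProperty Scheme.{u}))
    (h2 : P ≤ @IsSeparated) :
    IsLocalOnBase (IsFppfCover (S := S)) (RepWith P) := by
  intro ι Y Yi g hY hYi hcov X f hX Xi p q hXi hsq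
  constructor
  · intro hf i
    exact repWith_of_isPullback P (hsq i) hf
  · intro H
    have hcov' : IsFpqcCover Yi g := isFpqcCover_of_isFppfCover hY Yi g hYi hcov
    have hrep : Representable f :=
      FpqcRep.representable_of_fpqcCover h1 h2 Yi g hY hYi hcov' f hX Xi p q hXi hsq H
    exact repWith_of_fppfCover Yi g hY hYi hcov f hrep Xi q p hsq H

end Groth.Agent.Lib.Helper24.FppfRep
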