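import Groth.Agent.Lib.Helper24.DescAffSh
import Groth.Agent.Lib.Helper24.FppfRep
import Groth.Agent.Lib.Helper24.AlgStAffine
import Groth.Agent.Lib.Helper24.AlgStProps2
import Groth.Agent.Lib.Helper24.AlgStDiagLC
import Groth.Agent.Lib.Helper14.AlgSpAffineMor
import Groth.Agent.S0082
import Groth.Agent.Lib.Helper24.AlgStDiagAtlas
set_option autoImplicit false
set_option linter.unusedSectionVars false
universe u
open CategoryTheory CategoryTheory.Limits AlgebraicGeometry Opposite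

/-! Affine morphisms of algebraic spaces are fppf local on the base. -/

namespace Groth.Agent.Lib.Helper24.AlgStAffLoc
open AlgSp Groth.Agent.Lib.Helper14.AS Groth.Agent.Lib.Helper24.ZarGlue
open Groth.Agent.Lib.Helper24.ZarGlueRep Groth.Agent.Lib.Helper24.DescAffSh
open Groth.Agent.Lib.Helper24.AlgStProps Groth.Agent.Lib.Helper24.AlgStAffine
open Groth.Agent.Lib.Helper24.AlgStRepS

variable {S : Scheme.{u}}

set_option backward.isDefEq.respectTransparency.types false in
theorem isLocalOnBase_fppf_isAffineMor :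
    IsLocalOnBase (IsFppfCover (S := S)) IsAffineMor := by
  intro ι Y Yi g hY hYi hcov X f hX Xi p q hXi hsq
  constructor
  · intro hf i
    exact isAffineMor_of_isPullback (hsq i) hf
  · intro H Z hZ z
    have : IsAffine Z.left := hZ
    obtain ⟨U', a', pp, hcomm, hfl, hfp, hs⟩ := exists_fppf_chart_family hY Yi g hYi hcov z
    obtain ⟨U, ρ, e, he, hρ⟩ := exists_rep_of_chart_aff (pullback.snd f z) (fun x => by
      obtain ⟨i, x', hx'⟩ := hs x
      obtain ⟨A, hA, hx'A, -⟩ := exists_isAffineOpen_mem_and_subset (x := x') (U := ⊤) trivial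
      have hT' : IsAffine (resOpen (U' i) A).left := hA
      obtain ⟨W, r, fst', sqW, hW⟩ := H i hT' ((yon S).map (resOpenι (U' i) A) ≫ a' i)
      have big := sqW.paste_horiz (hsq i)
      have hc : ((yon S).map (resOpenι (U' i) A) ≫ a' i) ≫ g i =
          (yon S).map (resOpenι (U' i) A ≫ pp i) ≫ z := by
        rw [Category.assoc, hcomm i, Functor.map_comp, Category.assoc]
      rw [hc] at big
      have := hfl i
      have := hfp i
      refine ⟨resOpen (U' i) A, W, resOpenι (U' i) A ≫ pp i, r, _,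
        isPullback_lift_of_isPullback f z (resOpenι (U' i) A ≫ pp i) r _ big, ?_, ?_, ?_, ?_⟩
      · change Flat (A.ι ≫ (pp i).left)
        infer_instance
      · change LocallyOfFinitePresentation (A.ι ≫ (pp i).left)
        infer_instance
      · refine ⟨⟨x', hx'A⟩, ?_⟩
        change (A.ι ≫ (pp i).left) ⟨x', hx'A⟩ = x
        rw [Scheme.Hom.comp_apply]
        exact hx'
      · have : IsAffine W.left := hW
        exact isAffineHom_of_isAffine r.left)
    have hU : IsAffine U.left := isAffine_of_isAffineHom ρ.left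
    exact ⟨U, ρ, e.hom ≫ pullback.fst f z, isPullback_of_iso_pullback f z ρ e he, hU⟩

theorem good_isAffineMor : Good (IsAffineMor (S := S)) :=
  ⟨nice_isAffineMor.bc, isLocalOnBase_fppf_isAffineMor⟩

/-- morphisms with representable affine diagonal -/
def DiagAff : MorphismProperty (Sp S) :=
  fun _ _ f => RepWith @IsAffineHom (pullback.diagonal f)

set_option backward.isDefEq.respectTransparency.types false in
theorem good_diagAff : Good (DiagAff (S := S)) := by
  have h82 := Groth.Agent.S0082.result.{u}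
  have hz : IsZariskiLocalAtTarget @IsAffineHom.{u} := inferInstance
  exact Good.of_fpqc (bcStable_diagonal _) (isLocalOnBase_fpqc_diagonal (P := @IsAffineHom.{u}))

open Groth.Agent.Lib.Helper24.AlgStDiagLC in
theorem leftCancel_isAffineMor : LeftCancel (IsAffineMor (S := S)) DiagAff :=
  fun _ _ _ _ _ _ a b hab hb => isAffineMor_of_comp a b hab (isAffineMor_of_repWith hb)

section Chart
open Groth.Agent.Lib.Helper24.FibCatFpMap
open Groth.Agent.Lib.Helper24.FibCatEquiv Groth.Agent.Lib.Helper24.FibCatFpGen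
open Groth.Agent.Lib.Helper24.AlgStRep
open Groth.Agent.Lib.Helper24.AlgStBridge Groth.Agent.Lib.Helper24.AlgStBoot
open Groth.Agent.Lib.Helper24.AlgStEqv Groth.Agent.Lib.Helper24.FibCatMagic
open Groth.Agent.Lib.Helper24.AlgStDiagBC Groth.Agent.Lib.Helper24.AlgStDiagComp
open Groth.Agent.Lib.Helper24.AlgStSchLocal
open Groth.Agent.Lib.Helper24.AlgStGC Groth.Agent.Lib.Helper24.AlgStLC
open Groth.Agent.Lib.Helper24.AlgStProd Groth.Agent.Lib.Helper24.AlgStDiagLC
open Groth.Agent.Lib.Helper24.AlgStDescent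

set_option backward.isDefEq.respectTransparency false in
set_option backward.isDefEq.respectTransparency.types false in
/-- a property `P` cancelling on the left against `Pc` holds for the diagonal of `j : 𝒳 ⟶ 𝒴` as soon
as `𝒳` has a flat, locally finitely presented, surjective chart `x` with `P` such that the first
projection of the fibre square of `x ≫ j` has `Pc` -/
theorem repByAlgSpWith_diag_of_chart' {𝒰 𝒳 𝒴 : AlgSt.Cat S} (h𝒰 : FibCat.IsFibGrpd 𝒰.p)
    (h𝒳 : FibCat.IsFibGrpd 𝒳.p) (h𝒴 : FibCat.IsFibGrpd 𝒴.p)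
    (P Pc : MorphismProperty (AlgSp.Sp S)) (hP : Good P) (hPc : Nice Pc) (hc : LeftCancel P Pc)
    (j : 𝒳 ⥤ᵇ 𝒴) (hΔ : AlgSt.RepByAlgSp1 (FibCat.diag j)) (x : 𝒰 ⥤ᵇ 𝒳)
    (hU : AlgSt.RepByAlgSp 𝒰)
    (hUU : AlgSt.RepByAlgSp (FibCat.fp (BasedFunctor.comp x j) (BasedFunctor.comp x j)))
    (h₂ : AlgSt.RepByAlgSpWith Pc
      (FibCat.fpFst (BasedFunctor.comp x j) (BasedFunctor.comp x j)))
    (hx₁ : AlgSt.RepByAlgSpWith (AlgSp.LocP @Flat) x)
    (hx₂ : AlgSt.RepByAlgSpWith (AlgSp.LocP @LocallyOfFinitePresentation) x)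
    (hx₃ : AlgSt.RepByAlgSpWith AlgSp.IsSurjectiveMor x)
    (hxP : AlgSt.RepByAlgSpWith P x) : AlgSt.RepByAlgSpWith P (FibCat.diag j) := by
  have hx1 : AlgSt.RepByAlgSp1 x := repByAlgSp1_of_repByAlgSpWith P x hxP
  have hR : AlgSt.RepByAlgSp (FibCat.fp x x) := repByAlgSp_fp h𝒰 h𝒳 h𝒰 x x hx1 hU
  have hfst : AlgSt.RepByAlgSpWith P (FibCat.fpFst x x) := repByAlgSpWith_fpFst P x x hxP
  have hN : AlgSt.RepByAlgSpWith P (N x x j) :=
    repByAlgSpWith_of_comp_rep P Pc hP.nice hPc hc hR hUU hU (N x x j)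
      (FibCat.fpFst (BasedFunctor.comp x j) (BasedFunctor.comp x j)) h₂ hfst
  have h1 : AlgSt.RepByAlgSpWith P (FibCat.fpFst (M x x j) (FibCat.diag j)) :=
    repByAlgSpWith_of_eqvOver P (eqvOver_N x x j).symm hN
  exact repByAlgSpWith_of_fpFst_cover h𝒳 (isFibGrpd_fp j j h𝒳 h𝒳 h𝒴)
    (isFibGrpd_fp _ _ h𝒰 h𝒰 h𝒴) P hP.bc hP.loc (FibCat.diag j) hΔ (M x x j)
    (repByAlgSpWith_M h𝒰 h𝒰 h𝒳 h𝒴 _ good_flat.nice (stableComp_locP Groth.Agent.Lib.Helper14.AS.etLocal_flat) x x j hx₁ hx₁)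
    (repByAlgSpWith_M h𝒰 h𝒰 h𝒳 h𝒴 _ good_lfp.nice (stableComp_locP Groth.Agent.Lib.Helper14.AS.etLocal_lfp) x x j hx₂ hx₂)
    (repByAlgSpWith_M h𝒰 h𝒰 h𝒳 h𝒴 _ good_isSurjectiveMor.nice
      (fun _ _ _ _ _ _ _ _ ha hb => Groth.Agent.Lib.Helper14.AS.isSurjectiveMor_comp ha hb)
      x x j hx₃ hx₃) h1

end Chart

end Groth.Agent.Lib.Helper24.AlgStAffLoc
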