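import Groth.Agent.Lib.Helper24.AlgStFpAlg
set_option autoImplicit false
open CategoryTheory AlgebraicGeometry Opposite
universe w₁ v₁ w₂ v₂ w₃ v₃ w₄ v₄ w₅ v₅ u
set_option backward.isDefEq.respectTransparency false
set_option backward.isDefEq.respectTransparency.types false

/-! The base category over itself is a stack with representable diagonal; products of algebraic
stacks are algebraic. -/

namespace Groth.Agent.Lib.Helper24.AlgStProdAlg
open Groth.Agent.Lib.Helper24.FibCatFpMap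
open Groth.Agent.Lib.Helper24.FibCatEquiv Groth.Agent.Lib.Helper24.FibCatFpGen
open Groth.Agent.Lib.Helper24.AlgStRep
open Groth.Agent.Lib.Helper24.AlgStGC
open Groth.Agent.Lib.Helper24.AlgStProps
open Groth.Agent.Lib.Helper24.StkSelf Groth.Agent.Lib.Helper24.FibCatInertia
open Groth.Agent.Lib.Helper24.AlgStFpAlg
open CategoryTheory.Limits

section
variable {C : Type*} [Category C]

theorem isStack_selfOver (J : GrothendieckTopology C) : Stk.IsStack J (FibCat.selfOver C) := by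
  refine ⟨isFibGrpd_selfOver, fun U R hR => ?_⟩
  obtain ⟨hfull, hfaith⟩ := (isPrestack_selfOver J).2 R hR
  have : (Stk.resSieve R (FibCat.selfOver C)).Full := hfull
  have : (Stk.resSieve R (FibCat.selfOver C)).Faithful := hfaith
  have : (Stk.resSieve R (FibCat.selfOver C)).EssSurj :=
    ⟨fun G => ⟨FibCat.toSelf (FibCat.overCat U), ⟨eqToIso (eq_of_selfOver _ _)⟩⟩⟩
  exact Functor.IsEquivalence.mk

instance : (FibCat.toSelf (FibCat.selfOver C)).toFunctor.Full := inferInstanceAs (𝟭 C).Full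
instance : (FibCat.toSelf (FibCat.selfOver C)).toFunctor.Faithful := inferInstanceAs (𝟭 C).Faithful

theorem isEquivOver_diag_selfOver :
    FibCat.IsEquivOver (FibCat.diag (FibCat.toSelf (FibCat.selfOver C))) :=
  (Groth.Agent.Lib.Helper24.FibCatDiag.fullyFaithful_iff_isEquivOver_diag _ isFibGrpd_selfOver
    isFibGrpd_selfOver).1 ⟨inferInstance, inferInstance⟩

end

variable {S : Scheme.{u}}

/-- equivalences have every property that isomorphisms have -/
theorem repByAlgSpWith_of_isEquivOver {𝒳 : BasedCategory.{v₁, w₁} (Over S)}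
    {𝒴 : BasedCategory.{v₂, w₂} (Over S)} (P : MorphismProperty (AlgSp.Sp S)) (hid : HasIsos P)
    (e : 𝒳 ⥤ᵇ 𝒴) (he : FibCat.IsEquivOver e) : AlgSt.RepByAlgSpWith P e :=
  (repByAlgSpWith_iff_of_isEquivOver P e (BasedFunctor.id 𝒳) (BasedFunctor.id 𝒳) e
    (isEquivOver_id _) he (Iso.refl _)).2 (repByAlgSpWith_id P hid)

theorem repByAlgSp1_of_isEquivOver {𝒳 : BasedCategory.{v₁, w₁} (Over S)}
    {𝒴 : BasedCategory.{v₂, w₂} (Over S)} (e : 𝒳 ⥤ᵇ 𝒴) (he : FibCat.IsEquivOver e) :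
    AlgSt.RepByAlgSp1 e :=
  (repByAlgSp1_iff_with_top _).2 (repByAlgSpWith_of_isEquivOver ⊤ (fun _ _ _ _ => trivial) e he)

/-- S12764 -/
theorem isAlgStack_prod {𝒳 𝒴 : AlgSt.Cat S}
    (h𝒳 : AlgSt.IsAlgStack Scheme.fppfPrecoverage 𝒳) (h𝒴 : AlgSt.IsAlgStack Scheme.fppfPrecoverage 𝒴) :
    AlgSt.IsAlgStack Scheme.fppfPrecoverage (FibCat.fp (FibCat.toSelf 𝒳) (FibCat.toSelf 𝒴)) :=
  isAlgStack_fp (𝒵 := FibCat.selfOver (Over S)) (isStack_selfOver _)
    (repByAlgSp1_of_isEquivOver _ isEquivOver_diag_selfOver) h𝒳 h𝒴 _ _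

end Groth.Agent.Lib.Helper24.AlgStProdAlg
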