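import Groth.Agent.Lib.Helper24.AlgStSepDiag
import Groth.Agent.Lib.Helper24.AlgStDiagLC
import Groth.Agent.Lib.Helper14.AlgSpQCMor2
import Groth.Agent.Lib.Helper14.AlgSpUCQC
set_option autoImplicit false
set_option linter.unusedSectionVars false
open CategoryTheory CategoryTheory.Limits AlgebraicGeometry Opposite
universe u w₁ v₁ w₂ v₂ w₃ v₃
set_option backward.isDefEq.respectTransparency false
set_option backward.isDefEq.respectTransparency.types false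

namespace Groth.Agent.Lib.Helper24.AlgStSep2
open AlgSp Groth.Agent.Lib.Helper14.AS
open Groth.Agent.Lib.Helper24.AlgStSchLocal Groth.Agent.Lib.Helper24.AlgStRepS
open Groth.Agent.Lib.Helper24.AlgStProps Groth.Agent.Lib.Helper24.AlgStGC
open Groth.Agent.Lib.Helper24.AlgStDiagLC Groth.Agent.Lib.Helper24.AlgStSepDiag
open Groth.Agent.Lib.Helper24.AlgStMono Groth.Agent.Lib.Helper24.AlgStDiagLft

variable {S : Scheme.{u}}

/-- if a composite is quasi-separated, so is its first factor -/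
theorem isQuasiSeparatedMor_of_comp {X Y Z : Sp S} (a : X ⟶ Y) (b : Y ⟶ Z)
    (h : IsQuasiSeparatedMor (a ≫ b)) : IsQuasiSeparatedMor a := by
  change RepWith @QuasiCompact (pullback.diagonal (a ≫ b)) at h
  rw [pullback.diagonal_comp] at h
  have hm : Mono ((pullbackDiagonalMapIdIso a a b).inv ≫ pullback.snd _ _) := inferInstance
  have : IsIso (pullback.diagonal ((pullbackDiagonalMapIdIso a a b).inv ≫ pullback.snd _ _)) :=
    (pullback.isIso_diagonal_iff _).2 hm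
  exact repWith_of_comp_of_diagonal _ _ @QuasiCompact (repWith_of_isIso _ _) h

theorem leftCancel_proper_sep : LeftCancel (IsProperMor (S := S)) IsSeparatedMor :=
  fun _ _ _ hX hY hZ a b hab hb => (univClosed_proper_over_separated hX hY hZ a b hb).2 hab

theorem leftCancel_qcqs_qsep :
    LeftCancel (IsQuasiCompactMor ⊓ IsQuasiSeparatedMor : MorphismProperty (Sp S))
      IsQuasiSeparatedMor :=
  fun _ _ _ hX hY hZ a b hab hb =>
    ⟨isQuasiCompactMor_of_comp hX hY (repDiag_of_isAlgSpace hZ) a b hab.1 hb,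
      isQuasiSeparatedMor_of_comp a b hab.2⟩

variable {𝒳 𝒴 𝒵 : AlgSt.Cat S}

/-- S12958 -/
theorem isSeparatedMor_of_comp (h𝒳 : AlgSt.IsAlgStack Scheme.fppfPrecoverage 𝒳)
    (h𝒴 : AlgSt.IsAlgStack Scheme.fppfPrecoverage 𝒴)
    (h𝒵 : AlgSt.IsAlgStack Scheme.fppfPrecoverage 𝒵) (f : 𝒳 ⥤ᵇ 𝒴) (g : 𝒴 ⥤ᵇ 𝒵)
    (hfg : AlgSt.IsSeparatedMor (BasedFunctor.comp f g))
    (hg : AlgSt.RepByAlgSpWith AlgSp.IsSeparatedMor (FibCat.diag g)) : AlgSt.IsSeparatedMor f :=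
  repByAlgSpWith_diag_of_comp h𝒳.isStack.1 h𝒴.isStack.1 h𝒵.isStack.1 _ _ good_isProperMor.nice
    good_isSeparatedMor.nice leftCancel_proper_sep f g hg hfg

/-- S12959 -/
theorem isQuasiSeparatedMor_of_comp' (h𝒳 : AlgSt.IsAlgStack Scheme.fppfPrecoverage 𝒳)
    (h𝒴 : AlgSt.IsAlgStack Scheme.fppfPrecoverage 𝒴)
    (h𝒵 : AlgSt.IsAlgStack Scheme.fppfPrecoverage 𝒵) (f : 𝒳 ⥤ᵇ 𝒴) (g : 𝒴 ⥤ᵇ 𝒵)
    (hfg : AlgSt.IsQuasiSeparatedMor (BasedFunctor.comp f g))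
    (hg : AlgSt.RepByAlgSpWith AlgSp.IsQuasiSeparatedMor (FibCat.diag g)) :
    AlgSt.IsQuasiSeparatedMor f :=
  repByAlgSpWith_diag_of_comp h𝒳.isStack.1 h𝒴.isStack.1 h𝒵.isStack.1 _ _ good_qcqs.nice
    good_isQuasiSeparatedMor.nice leftCancel_qcqs_qsep f g hg hfg

theorem repByAlgSp1_diag (h𝒳 : AlgSt.IsAlgStack Scheme.fppfPrecoverage 𝒳)
    (h𝒴 : AlgSt.IsAlgStack Scheme.fppfPrecoverage 𝒴) (f : 𝒳 ⥤ᵇ 𝒴) :
    AlgSt.RepByAlgSp1 (FibCat.diag f) :=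
  Groth.Agent.Lib.Helper24.AlgStRelDiag.repByAlgSp1_relDiag
    h𝒳.isStack.1 h𝒴.isStack.1 h𝒳.diag h𝒴.diag f

/-- S12980 -/
theorem isQuasiSeparatedMor_iff_diags (h𝒳 : AlgSt.IsAlgStack Scheme.fppfPrecoverage 𝒳)
    (h𝒴 : AlgSt.IsAlgStack Scheme.fppfPrecoverage 𝒴) (f : 𝒳 ⥤ᵇ 𝒴) :
    AlgSt.IsQuasiSeparatedMor f ↔
      AlgSt.RepByAlgSpWith AlgSp.IsQuasiCompactMor (FibCat.diag f) ∧
        AlgSt.RepByAlgSpWith AlgSp.IsQuasiCompactMor (FibCat.diag (FibCat.diag f)) := by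
  rw [← quasiSeparated_iff_diag_qc (FibCat.diag f) (repByAlgSp1_diag h𝒳 h𝒴 f)]
  constructor
  · intro h
    exact ⟨repByAlgSpWith_mono (fun _ _ _ ha => ha.1) _ h,
      repByAlgSpWith_mono (fun _ _ _ ha => ha.2) _ h⟩
  · rintro ⟨h1, h2⟩
    exact repByAlgSpWith_and _ _ (phat_respectsIso _ good_isQuasiSeparatedMor.bc) _ h1 h2

/-- S12979 -/
theorem isSeparatedMor_of_diags (h𝒳 : AlgSt.IsAlgStack Scheme.fppfPrecoverage 𝒳)
    (h𝒴 : AlgSt.IsAlgStack Scheme.fppfPrecoverage 𝒴) (f : 𝒳 ⥤ᵇ 𝒴)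
    (h1 : AlgSt.RepByAlgSpWith AlgSp.IsUnivClosedMor (FibCat.diag f))
    (h2 : AlgSt.RepByAlgSpWith AlgSp.IsUnivClosedMor (FibCat.diag (FibCat.diag f))) :
    AlgSt.IsSeparatedMor f := by
  have hs : AlgSt.RepByAlgSpWith AlgSp.IsSeparatedMor (FibCat.diag f) :=
    ((separated_tfae (FibCat.diag f) (repByAlgSp1_diag h𝒳 h𝒴 f)).out 3 0).1 h2
  have hqc : AlgSt.RepByAlgSpWith AlgSp.IsQuasiCompactMor (FibCat.diag f) :=
    repByAlgSpWith_mono' (fun _ _ hX hY _ ha => isQuasiCompactMor_of_isUnivClosedMor hX hY ha) _ h1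
  have hft : AlgSt.RepByAlgSpWith AlgSp.IsFiniteTypeMor (FibCat.diag f) :=
    repByAlgSpWith_and _ _ (phat_respectsIso _ good_isQuasiCompactMor.bc) _
      (repByAlgSpWith_lft_relDiag h𝒳 h𝒴 f) hqc
  have h3 : AlgSt.RepByAlgSpWith (fun _ _ a => IsFiniteTypeMor a ∧ IsUnivClosedMor a)
      (FibCat.diag f) :=
    repByAlgSpWith_and _ _ (phat_respectsIso _ good_isUnivClosedMor.bc) _ hft h1
  exact repByAlgSpWith_and _ _ (phat_respectsIso _ (good_isFiniteTypeMor.and good_isUnivClosedMor).bc)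
    _ hs h3

end Groth.Agent.Lib.Helper24.AlgStSep2
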