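import Groth.Agent.Lib.Helper24.SectSrc
import Mathlib.CategoryTheory.Sites.Over
set_option autoImplicit false
open CategoryTheory
universe u v u₂ v₂ u₃ v₃ u₄ v₄ u₅ v₅
set_option backward.isDefEq.respectTransparency false
set_option backward.isDefEq.respectTransparency.types false

/-!
# Stacks over a slice: global sections versus sections over a covering sieve of the base object
-/

namespace Groth.Agent.Lib.Helper24.StkSlice
open Groth.Agent.Lib.Helper24.SectSrc

variable {C : Type u} [Category.{v} C] {U : C} (R : Sieve U)

/-- the sieve `R` as a category over `C/U` -/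
abbrev RU : BasedCategory.{v, max u v} (Over U) :=
  BasedCategory.ofFunctor (Stk.sieveIncl R).toFunctor

/-- the inclusion of `R` into `C/U`, over `C/U` -/
def incR : RU R ⥤ᵇ FibCat.selfOver (Over U) where
  toFunctor := (Stk.sieveIncl R).toFunctor
  w := rfl

/-- the terminal object of the slice -/
abbrev top (U : C) : Over U := Over.mk (𝟙 U)

/-- the canonical morphism to the terminal object of the slice -/
def tOf (a : Over U) : a ⟶ top U := Over.homMk a.hom (Category.comp_id _)

lemma map_tOf_comp {a b : Over U} (m : a ⟶ b) : m ≫ tOf b = tOf a := by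
  apply Over.OverMorphism.ext
  exact Over.w m

lemma hom_top_ext {a : Over U} (f g : a ⟶ top U) : f = g := by
  apply Over.OverMorphism.ext
  have h1 : f.left = a.hom := (Category.comp_id f.left).symm.trans (Over.w f)
  have h2 : g.left = a.hom := (Category.comp_id g.left).symm.trans (Over.w g)
  rw [h1, h2]

/-- `C/U ⟶ (C/U)/𝟙`, a section of the forgetful functor -/
def P₁ : FibCat.selfOver (Over U) ⥤ᵇ FibCat.overCat (top U) where
  toFunctor :=
    { obj := fun a => Over.mk (tOf a)
      map := fun {a b} m => Over.homMk m (map_tOf_comp m)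
      map_id := fun a => rfl
      map_comp := fun m n => rfl }
  w := rfl

instance : (P₁ (U := U)).toFunctor.Faithful where
  map_injective {a b} m m' h := congrArg (fun t => t.left) h

instance : (P₁ (U := U)).toFunctor.Full where
  map_surjective {a b} g := ⟨g.left, by apply Over.OverMorphism.ext; rfl⟩

instance : (P₁ (U := U)).toFunctor.EssSurj where
  mem_essImage Y := ⟨Y.left, ⟨Over.isoMk (Iso.refl _) (hom_top_ext _ _)⟩⟩

instance : (P₁ (U := U)).toFunctor.IsEquivalence where

/-- the sieve on the terminal object of `C/U` corresponding to `R` -/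
abbrev R' : Sieve (top U) := (Sieve.overEquiv (top U)).symm R

lemma R'_iff {b : Over U} (f : b ⟶ top U) : (R' R).arrows f ↔ R b.hom := by
  change R f.left ↔ R b.hom
  have : f.left = b.hom := (Category.comp_id f.left).symm.trans (Over.w f)
  rw [this]

lemma R'_mem (J : GrothendieckTopology C) (hR : R ∈ J U) : R' R ∈ (J.over U) (top U) := by
  rw [GrothendieckTopology.mem_over_iff]
  change (Sieve.overEquiv (top U)) ((Sieve.overEquiv (top U)).symm R) ∈ J U
  rw [OrderIso.apply_symm_apply]
  exact hR

/-- the comparison of the two sieve categories -/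
def P₂ : RU R ⥤ᵇ Stk.sieveCat (R' R) where
  toFunctor := ObjectProperty.lift _ (ObjectProperty.ι _ ⋙ (P₁ (U := U)).toFunctor)
    (fun b => (R'_iff R (tOf b.obj)).mpr b.property)
  w := rfl

lemma sq : BasedFunctor.comp (P₂ R) (Stk.sieveIncl (R' R)) = BasedFunctor.comp (incR R) P₁ := rfl

instance : (P₂ R).toFunctor.Faithful where
  map_injective {a b} m m' h := by
    apply ObjectProperty.hom_ext
    apply (P₁ (U := U)).toFunctor.map_injective
    exact congrArg (fun t => t.hom) h

instance : (P₂ R).toFunctor.Full where
  map_surjective {a b} g := by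
    obtain ⟨m₀, hm₀⟩ := (P₁ (U := U)).toFunctor.map_surjective g.hom
    refine ⟨ObjectProperty.homMk m₀, ?_⟩
    apply ObjectProperty.hom_ext
    exact hm₀

instance : (P₂ R).toFunctor.EssSurj where
  mem_essImage Y := by
    refine ⟨⟨Y.obj.left, (R'_iff R Y.obj.hom).mp Y.property⟩, ⟨ObjectProperty.isoMk _ ?_⟩⟩
    exact Over.isoMk (Iso.refl _) (hom_top_ext _ _)

instance : (P₂ R).toFunctor.IsEquivalence where

/-- for a stack over the slice `C/U` (induced topology), global sections restrict equivalently to
sections over a covering sieve of `U` -/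
theorem restr_incR_isEquivalence (J : GrothendieckTopology C) (hR : R ∈ J U)
    (𝒬 : BasedCategory.{v₂, u₂} (Over U)) (h𝒬 : Stk.IsStack (J.over U) 𝒬) :
    (Stk.restr (incR R) 𝒬).IsEquivalence :=
  restr_isEquivalence_of_square (incR R) (Stk.sieveIncl (R' R)) P₁ (P₂ R) (sq R) 𝒬 h𝒬.1
    (h𝒬.2 _ (R'_mem R J hR))

end Groth.Agent.Lib.Helper24.StkSlice
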