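import Groth.Agent.Lib.Helper24.AlgStQCMor
import Groth.Agent.Lib.Helper24.AlgStProdAlg
import Groth.Agent.Lib.Helper24.AlgStSep2
import Groth.Agent.Lib.Helper24.StkSlice
import Groth.Agent.Lib.Helper14.AlgSpProdQC
set_option autoImplicit false
open CategoryTheory AlgebraicGeometry Opposite
universe w₁ v₁ w₂ v₂ w₃ v₃ w₄ v₄ w₅ v₅ u
set_option backward.isDefEq.respectTransparency false
set_option backward.isDefEq.respectTransparency.types false

/-! The base `(Sch/S)` as an algebraic stack; products of quasi-compact algebraic stacks over a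
quasi-separated base; quasi-compactness of morphisms to quasi-separated stacks. -/

namespace Groth.Agent.Lib.Helper24.AlgStQCProd
open Groth.Agent.Lib.Helper24.FibCatFpMap
open Groth.Agent.Lib.Helper24.FibCatEquiv Groth.Agent.Lib.Helper24.FibCatFpGen
open Groth.Agent.Lib.Helper24.AlgStRep
open Groth.Agent.Lib.Helper24.AlgStBridge Groth.Agent.Lib.Helper24.AlgStBoot
open Groth.Agent.Lib.Helper24.AlgStRepS
open Groth.Agent.Lib.Helper24.AlgStSchLocal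
open Groth.Agent.Lib.Helper24.AlgStGC
open Groth.Agent.Lib.Helper24.AlgStProps Groth.Agent.Lib.Helper24.AlgStSmooth
open Groth.Agent.Lib.Helper24.AlgStFpAlg Groth.Agent.Lib.Helper24.AlgStSmLoc
open Groth.Agent.Lib.Helper24.AlgStQC Groth.Agent.Lib.Helper24.AlgStEqv
open Groth.Agent.Lib.Helper24.AlgStProd Groth.Agent.Lib.Helper24.FibCatFpMapL
open Groth.Agent.Lib.Helper24.AlgStAtlas Groth.Agent.Lib.Helper24.AlgStCalc
open Groth.Agent.Lib.Helper24.PshBridge Groth.Agent.Lib.Helper24.AlgStQCMor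
open Groth.Agent.Lib.Helper24.AlgStProdAlg Groth.Agent.Lib.Helper24.StkSelf
open Groth.Agent.Lib.Helper24.StkSlice Groth.Agent.Lib.Helper24.FibCatInertia
open Groth.Agent.Lib.Helper24.FibCatFpFactor Groth.Agent.Lib.Helper24.AlgStSep2
open CategoryTheory.Limits

section
variable {C : Type*} [Category C] (U : C)

def liftDataP₁ : LiftData (P₁ (U := U)) where
  ξ Y := Y.left
  e Y := Over.isoMk (Iso.refl _) (hom_top_ext _ _)
  he Y := by
    apply IsHomLift.of_fac _ _ _ rfl rfl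
    simp only [eqToHom_refl, Category.comp_id, Category.id_comp]
    rfl

theorem isEquivOver_P₁ : FibCat.IsEquivOver (P₁ (U := U)) := isEquivOver_of_liftData (liftDataP₁ U)

end

variable {S : Scheme.{u}}

theorem isAlgStack_selfOver :
    AlgSt.IsAlgStack Scheme.fppfPrecoverage (FibCat.selfOver (Over S)) := by
  obtain ⟨x, hx⟩ := exists_inverse_isEquivOver _ (isEquivOver_P₁ S)
  exact
  { isStack := isStack_selfOver _
    diag := repByAlgSp1_of_isEquivOver _ isEquivOver_diag_selfOver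
    atlas := ⟨top S, x, repByAlgSpWith_of_isEquivOver _ hasIsos_smooth x hx,
      repByAlgSpWith_of_isEquivOver _ hasIsos_isSurjectiveMor x hx⟩ }


/-- the category of the product of two sheaves is the product over `(Sch/S)` of their categories -/
theorem exists_equiv_prod (X Y : AlgSp.Space S)
    (a : AlgSt.ofSp X.obj ⥤ᵇ FibCat.selfOver (Over S))
    (b : AlgSt.ofSp Y.obj ⥤ᵇ FibCat.selfOver (Over S)) :
    ∃ e : AlgSt.ofSp (X.obj ⨯ Y.obj) ⥤ᵇ FibCat.fp a b, FibCat.IsEquivOver e := by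
  obtain rfl : a = FibCat.toSelf _ := eq_of_selfOver _ _
  obtain rfl : b = FibCat.toSelf _ := eq_of_selfOver _ _
  let pt : AlgSp.Sp S := ⊤_ AlgSp.Sp S
  have hsq : IsPullback (prod.snd : X.obj ⨯ Y.obj ⟶ Y.obj) prod.fst (terminal.from Y.obj)
      (terminal.from X.obj) := (IsPullback.of_hasBinaryProduct' X.obj Y.obj).flip
  have hsq' := hsq.map (sheafToPresheaf (AlgSp.J S) (Type (u + 1)))
  have sq := isPtPullback_of_isPullback _ _ _ _ hsq'
  have : ∀ T, Subsingleton (pt.obj.obj T) := fun T =>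
    (uniqueTerminalSections (AlgSp.J S) T).instSubsingleton
  let E1 := fpOfSq sq
  have hE1 : FibCat.IsEquivOver E1 := isEquivOver_fpOfSq sq
  let s := FibCat.toSelf (Stk.ofPsh pt.obj)
  let eF : BasedFunctor.comp (Stk.ofPshMap (terminal.from X.obj).hom) s ≅
      BasedFunctor.comp (BasedFunctor.id _) (FibCat.toSelf (AlgSt.ofSp X.obj)) := Iso.refl _
  let eG : BasedFunctor.comp (Stk.ofPshMap (terminal.from Y.obj).hom) s ≅
      BasedFunctor.comp (BasedFunctor.id _) (FibCat.toSelf (AlgSt.ofSp Y.obj)) := Iso.refl _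
  let E2 := fpMap (BasedFunctor.id _) (BasedFunctor.id _) s eF eG
  have hE2 : FibCat.IsEquivOver E2 :=
    isEquivOver_fpMap _ _ s eF eG (isEquivOver_id _) (isEquivOver_id _)
  exact ⟨BasedFunctor.comp E1 E2, isEquivOver_comp E1 E2 hE1 hE2⟩

theorem isQuasiCompact_fp_selfOver [QuasiSeparatedSpace ↥S] {𝒵 𝒳 : AlgSt.Cat S}
    (h𝒵 : AlgSt.IsAlgStack Scheme.fppfPrecoverage 𝒵)
    (h𝒳 : AlgSt.IsAlgStack Scheme.fppfPrecoverage 𝒳)
    (g : 𝒵 ⥤ᵇ FibCat.selfOver (Over S)) (g' : 𝒳 ⥤ᵇ FibCat.selfOver (Over S))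
    (hq𝒵 : AlgSt.IsQuasiCompact 𝒵) (hq𝒳 : AlgSt.IsQuasiCompact 𝒳) :
    AlgSt.IsQuasiCompact (FibCat.fp g g') := by
  obtain ⟨W, w, hW, hw, hw'⟩ := (isQuasiCompact_iff_space_atlas h𝒵).1 hq𝒵
  obtain ⟨W', w', hW', hw2, hw2'⟩ := (isQuasiCompact_iff_space_atlas h𝒳).1 hq𝒳
  have halg : AlgSt.IsAlgStack Scheme.fppfPrecoverage (FibCat.fp g g') :=
    isAlgStack_fp (isStack_selfOver _) (repByAlgSp1_of_isEquivOver _ isEquivOver_diag_selfOver)
      h𝒵 h𝒳 g g'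
  obtain ⟨e, he⟩ := exists_equiv_prod W W' (BasedFunctor.comp w g) (BasedFunctor.comp w' g')
  rw [isQuasiCompact_iff_space_atlas halg]
  have hfW : FibCat.IsFibGrpd (AlgSt.ofSp W.obj).p := Stk.isFibGrpd_ofPsh _
  have hfW' : FibCat.IsFibGrpd (AlgSt.ofSp W'.obj).p := Stk.isFibGrpd_ofPsh _
  refine ⟨⟨W.obj ⨯ W'.obj, Groth.Agent.Lib.Helper14.AS.isAlgSpace_prod W.property W'.property⟩,
    BasedFunctor.comp e (prodMap w w' g g'),
    Groth.Agent.Lib.Helper14.AS.isQuasiCompactSp_prod hW hW', ?_, ?_⟩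
  · exact (repByAlgSpWith_equiv_comp _ e _ he).2
      (repByAlgSpWith_prodMap' hfW hfW' h𝒵.isStack.1 h𝒳.isStack.1 isFibGrpd_selfOver _
        good_smooth.nice stableComp_smooth w w' g g' hw hw2)
  · exact (repByAlgSpWith_equiv_comp _ e _ he).2
      (repByAlgSpWith_prodMap' hfW hfW' h𝒵.isStack.1 h𝒳.isStack.1 isFibGrpd_selfOver _
        good_isSurjectiveMor.nice stableComp_isSurjectiveMor w w' g g' hw' hw2')

/-- a quasi-compact algebraic stack is quasi-compact over a quasi-separated base -/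
theorem isQuasiCompactMor_toSelf [QuasiSeparatedSpace ↥S] {𝒳 : AlgSt.Cat S}
    (h𝒳 : AlgSt.IsAlgStack Scheme.fppfPrecoverage 𝒳) (hq : AlgSt.IsQuasiCompact 𝒳)
    (t : 𝒳 ⥤ᵇ FibCat.selfOver (Over S)) :
    AlgSt.IsQuasiCompactMor Scheme.fppfPrecoverage t :=
  fun _ h𝒵 hq𝒵 g => isQuasiCompact_fp_selfOver h𝒵 h𝒳 g t hq𝒵 hq

/-- S12987 -/
theorem isQuasiCompactMor_of_isQuasiSeparatedOver [QuasiSeparatedSpace ↥S] {𝒳 𝒴 : AlgSt.Cat S}
    (h𝒳 : AlgSt.IsAlgStack Scheme.fppfPrecoverage 𝒳)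
    (h𝒴 : AlgSt.IsAlgStack Scheme.fppfPrecoverage 𝒴) (f : 𝒳 ⥤ᵇ 𝒴)
    (hq : AlgSt.IsQuasiCompact 𝒳) (hs : AlgSt.IsQuasiSeparatedOver 𝒴) :
    AlgSt.IsQuasiCompactMor Scheme.fppfPrecoverage f :=
  isQuasiCompactMor_of_comp h𝒳 h𝒴 isAlgStack_selfOver f (FibCat.toSelf 𝒴)
    (isQuasiCompactMor_toSelf h𝒳 hq _) hs

/-- S12988 -/
theorem isQuasiCompact_fp_of_isQuasiSeparatedOver [QuasiSeparatedSpace ↥S] {𝒳 𝒴 𝒵 : AlgSt.Cat S}
    (h𝒳 : AlgSt.IsAlgStack Scheme.fppfPrecoverage 𝒳)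
    (h𝒴 : AlgSt.IsAlgStack Scheme.fppfPrecoverage 𝒴)
    (h𝒵 : AlgSt.IsAlgStack Scheme.fppfPrecoverage 𝒵) (a : 𝒳 ⥤ᵇ 𝒴) (b : 𝒵 ⥤ᵇ 𝒴)
    (hq𝒳 : AlgSt.IsQuasiCompact 𝒳) (hs𝒳 : AlgSt.IsQuasiSeparatedOver 𝒳)
    (hs𝒴 : AlgSt.IsQuasiSeparatedOver 𝒴)
    (hq𝒵 : AlgSt.IsQuasiCompact 𝒵) (hs𝒵 : AlgSt.IsQuasiSeparatedOver 𝒵) :
    AlgSt.IsQuasiCompact (FibCat.fp a b) ∧ AlgSt.IsQuasiSeparatedOver (FibCat.fp a b) := by
  constructor
  · have h1 := isQuasiCompactMor_of_isQuasiSeparatedOver h𝒵 h𝒴 b hq𝒵 hs𝒴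
    exact h1 𝒳 h𝒳 hq𝒳 a
  · have hb : AlgSt.IsQuasiSeparatedMor b := by
      refine isQuasiSeparatedMor_of_comp' h𝒵 h𝒴 isAlgStack_selfOver b (FibCat.toSelf 𝒴) ?_
        (repByAlgSpWith_mono (fun _ _ _ h => h.2) _ hs𝒴)
      have : BasedFunctor.comp b (FibCat.toSelf 𝒴) = FibCat.toSelf 𝒵 := eq_of_selfOver _ _
      rw [this]
      exact hs𝒵
    have h1 : AlgSt.IsQuasiSeparatedMor (FibCat.fpFst a b) :=
      Groth.Agent.Lib.Helper24.AlgStDiagBC.repByAlgSpWith_diag_fpFst _ b a hb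
    have halg : AlgSt.IsAlgStack Scheme.fppfPrecoverage (FibCat.fp a b) :=
      isAlgStack_fp h𝒴.isStack h𝒴.diag h𝒳 h𝒵 a b
    have h2 : AlgSt.IsQuasiSeparatedMor
        (BasedFunctor.comp (FibCat.fpFst a b) (FibCat.toSelf 𝒳)) :=
      Groth.Agent.Lib.Helper24.AlgStDiagComp.repByAlgSpWith_diag_comp halg.isStack.1 h𝒳.isStack.1
        isFibGrpd_selfOver _ good_qcqs.nice stableComp_qcqs _ _ h1 hs𝒳
    have : BasedFunctor.comp (FibCat.fpFst a b) (FibCat.toSelf 𝒳) = FibCat.toSelf (FibCat.fp a b) :=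
      eq_of_selfOver _ _
    rw [this] at h2
    exact h2

end Groth.Agent.Lib.Helper24.AlgStQCProd
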