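import Groth.Agent.Lib.Helper24.AlgStSmoothCover
set_option autoImplicit false
open CategoryTheory AlgebraicGeometry Opposite
universe u
set_option backward.isDefEq.respectTransparency false
set_option backward.isDefEq.respectTransparency.types false

/-! A stack in groupoids for the étale topology (or any finer topology) with a smooth surjective
cover, representable by algebraic spaces, from an algebraic space is an algebraic stack. -/

namespace Groth.Agent.Lib.Helper24.AlgStSmoothCoverEt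
open Groth.Agent.Lib.Helper24.PshFun Groth.Agent.Lib.Helper24.FibCatFpMap
open Groth.Agent.Lib.Helper24.FibCatEquiv Groth.Agent.Lib.Helper24.FibCatFpGen
open Groth.Agent.Lib.Helper24.PshBridge
open Groth.Agent.Lib.Helper24.AlgStRep Groth.Agent.Lib.Helper24.AlgStRepS
open Groth.Agent.Lib.Helper24.AlgStBridge Groth.Agent.Lib.Helper24.AlgStBoot
open Groth.Agent.Lib.Helper24.AlgStEqv Groth.Agent.Lib.Helper24.AlgStDiagBC
open Groth.Agent.Lib.Helper24.AlgStSchLocal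
open Groth.Agent.Lib.Helper24.AlgStGC Groth.Agent.Lib.Helper24.AlgStLC
open Groth.Agent.Lib.Helper24.AlgStProps Groth.Agent.Lib.Helper24.AlgStSmooth
open Groth.Agent.Lib.Helper24.AlgStDiag Groth.Agent.Lib.Helper24.AlgStCalc
open Groth.Agent.Lib.Helper24.AlgStFpAlg Groth.Agent.Lib.Helper24.AlgStAtlas
open Groth.Agent.Lib.Helper24.AlgStRepAlg Groth.Agent.Lib.Helper24.AlgStIso
open Groth.Agent.Lib.Helper24.AlgStSmoothCover
open Groth.Agent.Lib.Helper24.StkFp Groth.Agent.Lib.Helper24.EtSheaf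
open CategoryTheory.Limits AlgSt

variable {S : Scheme.{u}}

/-- the stack condition passes to coarser topologies -/
theorem isStack_of_le {C : Type*} [Category C] {J J' : GrothendieckTopology C} (h : J ≤ J')
    {𝒳 : BasedCategory C} (h𝒳 : Stk.IsStack J' 𝒳) : Stk.IsStack J 𝒳 :=
  ⟨h𝒳.1, fun _ R hR => h𝒳.2 R (h _ hR)⟩

/-- an étale sheaf whose category of elements has a smooth surjective atlas is an algebraic
space -/
theorem isAlgSpaceP_of_hasAtlas_ofPsh (F : AlgSp.PSp S)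
    (hsh : Presheaf.IsSheaf (Jet S) F)
    (h : AlgSt.HasAtlas (AlgSp.LocP @Smooth) (Stk.ofPsh F)) : AlgSp.IsAlgSpaceP F := by
  obtain ⟨U, x, h1, h2⟩ := h
  let y' : AlgSt.ofSch U ⥤ᵇ Stk.ofPsh F := BasedFunctor.comp (AlgSt.toOverCat U) x
  let ξ : (AlgSp.pyon S).obj U ⟶ F := pshMapOf y'
  have i : BasedFunctor.comp (AlgSt.toOverCat U) x ≅ Stk.ofPshMap ξ := isoOfPshMap y'
  have key : ∀ P : MorphismProperty (AlgSp.Sp S), AlgSt.RepByAlgSpWith P x →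
      AlgSt.RepByAlgSpWith P (Stk.ofPshMap ξ) := fun P hP =>
    (repByAlgSpWith_iff_of_isEquivOver P x (Stk.ofPshMap ξ) (AlgSt.toOverCat U)
      (BasedFunctor.id _) (isEquivOver_toOverCat U) (isEquivOver_id _) i.symm).1 hP
  have h1' := key _ h1
  have h2' := key _ h2
  have hrep : AlgSp.RepBySp ξ := by
    apply repBySp_of_repByAlgSp1_ofPshMap
    intro V y
    obtain ⟨X, e, he, -⟩ := h1' V y
    exact ⟨X, e, he⟩
  have hs1 := repBySpWith_of_repByAlgSpWith_ofPshMap (AlgSp.LocP @Smooth) ξ hrep h1'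
  have hs2 := repBySpWith_of_repByAlgSpWith_ofPshMap AlgSp.IsSurjectiveMor ξ hrep h2'
  have h12 : AlgSp.RepBySpWith (AlgSp.IsSurjectiveMor ⊓ AlgSp.LocP @Smooth) ξ := by
    intro V η F' fst snd hsq
    obtain ⟨hsh, hX, hQ1⟩ := hs1 η fst snd hsq
    obtain ⟨_, _, hQ2⟩ := hs2 η fst snd hsq
    exact ⟨hsh, hX, hQ2, hQ1⟩
  exact SmBootMain.isAlgSpaceP_of_smooth_cover F hsh
    ⟨(AlgSp.yon S).obj U, AlgSp.IsAlgSpace.yon_obj U⟩ ξ h12

/-- an étale stack fibred in setoids with a smooth surjective atlas is representable by an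
algebraic space -/
theorem repByAlgSp_of_isFibSetoid_et (𝒳 : AlgSt.Cat S) (hst : Stk.IsStack (Jet S) 𝒳)
    (hat : AlgSt.HasAtlas (AlgSp.LocP @Smooth) 𝒳) (h : FibCat.IsFibSetoid 𝒳.p) :
    AlgSt.RepByAlgSp 𝒳 := by
  let F₀ : AlgSp.PSp S := SetoidPsh.clsPsh 𝒳 h.1
  let e : 𝒳 ⥤ᵇ Stk.ofPsh F₀ := SetoidPsh.toPsh 𝒳 h.1
  have he : FibCat.IsEquivOver e := SetoidPsh.isEquivOver_toPsh h
  have hsh : Presheaf.IsSheaf (Jet S) F₀ :=
    (isSheaf_iff_isSheaf_of_type _ _).2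
      ((PshStack.isStack_ofPsh_iff _ _).1 ((StkEquiv.isStack_iff _ e he).1 hst))
  have hat' : AlgSt.HasAtlas (AlgSp.LocP @Smooth) (Stk.ofPsh F₀) :=
    AlgStInv.hasAtlas_of_isEquivOver _ e he hat
  obtain ⟨hfppf, hF⟩ := isAlgSpaceP_of_hasAtlas_ofPsh F₀ hsh hat'
  obtain ⟨e', he'⟩ := exists_inverse_isEquivOver e he
  exact ⟨⟨⟨F₀, hfppf⟩, hF⟩, e', he'⟩

/-- an étale stack in setoids with a smooth surjective cover from an algebraic space is an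
algebraic space -/
theorem repByAlgSp_of_space_cover_et {𝒲 𝒵 : AlgSt.Cat S} (h𝒲 : FibCat.IsFibGrpd 𝒲.p)
    (h𝒵 : Stk.IsStack (Jet S) 𝒵) (hs : FibCat.IsFibSetoid 𝒵.p)
    (hW : AlgSt.RepByAlgSp 𝒲) (w : 𝒲 ⥤ᵇ 𝒵)
    (hsm : AlgSt.RepByAlgSpWith (AlgSp.LocP @Smooth) w)
    (hsurj : AlgSt.RepByAlgSpWith AlgSp.IsSurjectiveMor w) : AlgSt.RepByAlgSp 𝒵 :=
  repByAlgSp_of_isFibSetoid_et 𝒵 h𝒵 (hasAtlas_of_space_cover h𝒲 h𝒵.1 hW w hsm hsurj) hs

section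
variable {𝒰 𝒳 : AlgSt.Cat S} (h𝒰 : FibCat.IsFibGrpd 𝒰.p) (h𝒳 : Stk.IsStack (Jet S) 𝒳)
  (hU : AlgSt.RepByAlgSp 𝒰) (u : 𝒰 ⥤ᵇ 𝒳) (hsm : AlgSt.RepByAlgSpWith (AlgSp.LocP @Smooth) u)
  (hsurj : AlgSt.RepByAlgSpWith AlgSp.IsSurjectiveMor u)

include h𝒰 h𝒳 hU hsm in
theorem repByAlgSp_fp_of_factor_et {𝒜 ℬ : AlgSt.Cat S} (h𝒜 : FibCat.IsFibGrpd 𝒜.p)
    (hℬ : FibCat.IsFibGrpd ℬ.p) (hA : AlgSt.RepByAlgSp 𝒜) (hB : AlgSt.RepByAlgSp ℬ)
    (a' : 𝒜 ⥤ᵇ 𝒰) (b : ℬ ⥤ᵇ 𝒳) : AlgSt.RepByAlgSp (FibCat.fp (BasedFunctor.comp a' u) b) := by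
  have hu1 : AlgSt.RepByAlgSp1 u := repByAlgSp1_of_repByAlgSpWith _ u hsm
  have hfp : AlgSt.RepByAlgSp (FibCat.fp u b) := repByAlgSp_fp' h𝒰 h𝒳.1 hℬ u b hu1 hB
  have hfpfib : FibCat.IsFibGrpd (FibCat.fp u b).p := isFibGrpd_fp u b h𝒰 hℬ h𝒳.1
  have e1 : EqvOver (FibCat.fpFst a' (FibCat.fpFst u b))
      (FibCat.fpFst (BasedFunctor.comp a' u) b) := eqvOver_P b u a'
  rw [← EqvOver.repByAlgSp e1]
  exact repByAlgSp1_of_diag h𝒰 (isAlgStack_of_repByAlgSp hU).diag h𝒜 hfpfib hA hfp a'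
    (FibCat.fpFst u b)

include h𝒰 h𝒳 hU hsm hsurj in
/-- the diagonal of `𝒳` is representable by algebraic spaces -/
theorem repByAlgSp1_diag_of_smooth_cover_et :
    AlgSt.RepByAlgSp1 (FibCat.diag (FibCat.toSelf 𝒳)) := by
  rw [repByAlgSp1_diag_iff h𝒳.1]
  intro U x T t
  have hT : FibCat.IsFibGrpd (FibCat.overCat T).p := StkFpCrit.isFibGrpd_overForget T
  have hUf : FibCat.IsFibGrpd (FibCat.overCat U).p := StkFpCrit.isFibGrpd_overForget U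
  have hTs : FibCat.IsFibSetoid (FibCat.overCat T).p :=
    AlgStSetoid.isFibSetoid_of_repByAlgSp (repByAlgSp_overCat T)
  have hUs : FibCat.IsFibSetoid (FibCat.overCat U).p :=
    AlgStSetoid.isFibSetoid_of_repByAlgSp (repByAlgSp_overCat U)
  have hu1 : AlgSt.RepByAlgSp1 u := repByAlgSp1_of_repByAlgSpWith _ u hsm
  have hPst : Stk.IsStack (Jet S) (FibCat.fp t x) :=
    isStack_fp t x _ (isStack_of_le (Jet_le S) (AlgStStack.isStack_overCat T))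
      (isStack_of_le (Jet_le S) (AlgStStack.isStack_overCat U)) (isPrestack_of_isStack _ h𝒳)
  have hPs : FibCat.IsFibSetoid (FibCat.fp t x).p :=
    Groth.Agent.S12811.isFibSetoid_fp t x hTs hUs h𝒳.1
  have hT' : AlgSt.RepByAlgSp (FibCat.fp t u) := hu1 T t
  have hT'fib : FibCat.IsFibGrpd (FibCat.fp t u).p := isFibGrpd_fp t u hT h𝒰 h𝒳.1
  let π := FibCat.fpFst t u
  have hπ1 : AlgSt.RepByAlgSpWith (AlgSp.LocP @Smooth) π := repByAlgSpWith_fpFst _ u t hsm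
  have hπ2 : AlgSt.RepByAlgSpWith AlgSp.IsSurjectiveMor π := repByAlgSpWith_fpFst _ u t hsurj
  let q := FibCat.fpFst t x
  have hWfib : FibCat.IsFibGrpd (FibCat.fp π q).p := isFibGrpd_fp π q hT'fib hPst.1 hT
  have hW : AlgSt.RepByAlgSp (FibCat.fp π q) := by
    have e1 : EqvOver (FibCat.fpFst π q) (FibCat.fpFst (BasedFunctor.comp π t) x) :=
      eqvOver_P x t π
    have e2 : EqvOver (FibCat.fpFst (BasedFunctor.comp π t) x)
        (FibCat.fpFst (BasedFunctor.comp (FibCat.fpSnd t u) u) x) :=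
      eqvOver_fpFst_congr_left (FibCat.fpIso t u) x
    rw [EqvOver.repByAlgSp e1, EqvOver.repByAlgSp e2]
    exact repByAlgSp_fp_of_factor_et h𝒰 h𝒳 hU u hsm hT'fib hUf hT' (repByAlgSp_overCat U) _ x
  exact repByAlgSp_of_space_cover_et hWfib hPst hPs hW (FibCat.fpSnd π q)
    (repByAlgSpWith_fpSnd _ π q hπ1) (repByAlgSpWith_fpSnd _ π q hπ2)

end

/-- a stack for a topology finer than the étale one with a smooth surjective cover from an
algebraic space is an algebraic stack for that topology -/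
theorem isAlgStack_of_smooth_cover_of_le {K : Precoverage Scheme.{u}} (hK : Jet S ≤ QuotSh.J K S)
    {𝒰 𝒳 : AlgSt.Cat S} (h𝒰 : FibCat.IsFibGrpd 𝒰.p) (h𝒳 : Stk.IsStack (QuotSh.J K S) 𝒳)
    (hU : AlgSt.RepByAlgSp 𝒰) (u : 𝒰 ⥤ᵇ 𝒳) (hsm : AlgSt.RepByAlgSpWith (AlgSp.LocP @Smooth) u)
    (hsurj : AlgSt.RepByAlgSpWith AlgSp.IsSurjectiveMor u) : AlgSt.IsAlgStack K 𝒳 where
  isStack := h𝒳
  diag := repByAlgSp1_diag_of_smooth_cover_et h𝒰 (isStack_of_le hK h𝒳) hU u hsm hsurj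
  atlas := hasAtlas_of_space_cover h𝒰 h𝒳.1 hU u hsm hsurj

/-- S16816: an étale stack with a smooth surjective atlas from a scheme is algebraic -/
theorem isAlgStack_etale_of_hasAtlas (𝒳 : AlgSt.Cat S) (h𝒳 : Stk.IsStack (Jet S) 𝒳)
    (hU : AlgSt.HasAtlas (AlgSp.LocP @Smooth) 𝒳) :
    AlgSt.IsAlgStack Scheme.etalePrecoverage 𝒳 := by
  obtain ⟨U, x, hx, hx'⟩ := hU
  exact isAlgStack_of_smooth_cover_of_le le_rfl (StkFpCrit.isFibGrpd_overForget U) h𝒳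
    (repByAlgSp_overCat U) x hx hx'

end Groth.Agent.Lib.Helper24.AlgStSmoothCoverEt
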