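import Groth.Agent.Lib.Helper24.QuotSt5
import Groth.Agent.Lib.Helper24.AlgStBridge
import Groth.Agent.Lib.Helper24.FppfLocal
import Groth.Agent.Lib.Helper24.AlgStLocQ6
import Groth.Agent.Lib.Helper14.FpqcSch
set_option autoImplicit false
set_option linter.unusedSimpArgs false
universe u
set_option backward.isDefEq.respectTransparency false
set_option backward.isDefEq.respectTransparency.types false

/-! `X ⟶ [X/G]` is representable by the total spaces of the torsors. -/

namespace Groth.Agent.Lib.Helper24.QuotSt6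
open CategoryTheory CategoryTheory.Limits MonoidalCategory CartesianMonoidalCategory MonObj GrpObj
open AlgebraicGeometry Groth.Agent.Lib.Helper24.QuotSt1 Groth.Agent.Lib.Helper24.QuotSt2
open Groth.Agent.Lib.Helper24.QuotSt3 Groth.Agent.Lib.Helper24.QuotSt4
open Groth.Agent.Lib.Helper24.QuotSt5

variable {S : Scheme.{u}} {K : Precoverage Scheme.{u}} [K.HasIsos] {G : Over S} [GrpObj G]
  {X : Over S} {aX : AlgGrp.Action G X}

/-- the canonical map to the quotient stack is representable by the torsors' total spaces -/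
theorem repByAlgSpWith_quotMap (Q : MorphismProperty (AlgSp.Sp S))
    (hQ : ∀ (U : Over S) (y : FibCat.overCat U ⥤ᵇ AlgSt.QuotSt K G aX),
      Q ((AlgSp.yon S).map (piU y))) :
    AlgSt.RepByAlgSpWith Q
      (BasedFunctor.comp (AlgSt.ofOverCat X) (AlgSt.quotMap K G aX)) := by
  intro U y
  refine ⟨(AlgSp.ofScheme S).obj (tors y).P,
    FibCat.fpLift (aFun y) (bFun y) (eps y), isEquivOver_fpLift_eps y, ?_⟩
  have h1 : BasedFunctor.comp (FibCat.fpLift (aFun y) (bFun y) (eps y))
      (FibCat.fpFst y (fQ (K := K) (aX := aX))) = aFun y := rfl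
  rw [h1]
  have h2 := Groth.Agent.Lib.Helper24.AlgStBridge.spMapOfOver_ofPshMap_toOverCat
    ((AlgSp.yon S).obj (tors y).P) U ((AlgSp.yon S).map (piU y)).hom
  have h3 : AlgSt.spMapOfOver (aFun y) = (AlgSp.yon S).map (piU y) := h2
  rw [h3]
  exact hQ U y

/-- a property of `G ⟶ S` which is fppf local on the base passes to all torsors -/
theorem torsor_prop (P : MorphismProperty Scheme.{u}) [IsZariskiLocalAtTarget P]
    [P.IsStableUnderBaseChange]
    [P.DescendsAlong (@Surjective ⊓ @Flat ⊓ @LocallyOfFinitePresentation)]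
    (hG : P G.hom) (A : AlgSt.QuotObj Scheme.fppfPrecoverage G aX) : P A.π.left := by
  obtain ⟨R, hR, hsec⟩ := A.loc
  refine Groth.Agent.Lib.Helper24.FppfLocal.of_fppf_local P A.π.left fun x => ?_
  have hR' : R ∈ Scheme.precoverage (@Flat ⊓ @LocallyOfFinitePresentation) A.base.left := hR
  obtain ⟨Y, g, hg, hx⟩ := Scheme.JointlySurjective.exists_eq R hR' x
  obtain ⟨s, hs⟩ := hsec g hg
  have hgP : (@Flat ⊓ @LocallyOfFinitePresentation : MorphismProperty Scheme.{u}) g := hR'.2 hg
  let T : Over S := Over.mk (g ≫ A.base.hom)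
  have hsw : s ≫ A.P.hom = g ≫ A.base.hom := by
    have h1 : A.π.left ≫ A.base.hom = A.P.hom := Over.w A.π
    have hs' : s ≫ A.π.left = g := hs
    rw [← h1, ← Category.assoc, hs']
  let s' : T ⟶ A.P := Over.homMk s hsw
  have hc := (homOfSec A s' rfl).cart
  have hc' := hc.map (Over.forget S)
  refine ⟨Y, (G ⊗ T).left, g, ((G ◁ s') ≫ A.act.act).left, (snd G T).left, ?_, hgP.1, hgP.2, hx, ?_⟩
  · have hb : (s' ≫ A.π).left = g := hs
    rw [← hb]
    exact hc'
  · rw [Over.snd_left]
    exact MorphismProperty.pullback_snd _ _ hG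


lemma piU_left_prop (P : MorphismProperty Scheme.{u}) [P.RespectsIso] {U : Over S}
    (y : FibCat.overCat U ⥤ᵇ AlgSt.QuotSt K G aX) (h : P (tors y).π.left) :
    P (piU y).left := by
  have h1 : (piU y).left = (tors y).π.left ≫ (eqToHom (tors_base y)).left := rfl
  rw [h1]
  have : IsIso (eqToHom (tors_base y)).left := inferInstance
  exact (P.cancel_right_of_respectsIso _ _).2 h

lemma surjective_hom_of_grpObj : Surjective G.hom := by
  have h : (η[G] : 𝟙_ (Over S) ⟶ G).left ≫ G.hom = 𝟙 S := Over.w (η[G] : 𝟙_ (Over S) ⟶ G)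
  refine ⟨fun x => ⟨(η[G] : 𝟙_ (Over S) ⟶ G).left x, ?_⟩⟩
  have h2 : ((η[G] : 𝟙_ (Over S) ⟶ G).left ≫ G.hom) x = x := by
    rw [h]
    rfl
  rw [Scheme.Hom.comp_apply] at h2
  exact h2

end Groth.Agent.Lib.Helper24.QuotSt6
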