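import Groth.Agent.Lib.Helper24.QuotSt16
import Groth.Agent.Lib.Helper24.QuotSt6
import Groth.Agent.S0082
import Groth.Agent.Lib.Helper24.AlgStSmoothCoverEt
import Groth.Agent.Lib.Helper14.AlgSpAffineMor
set_option autoImplicit false
set_option linter.unusedSimpArgs false
universe u
set_option backward.isDefEq.respectTransparency false
set_option backward.isDefEq.respectTransparency.types false

/-! Torsors for topologies coarser than fppf; the étale quotient stack. -/

namespace Groth.Agent.Lib.Helper24.QuotSt17
open CategoryTheory CategoryTheory.Limits MonoidalCategory CartesianMonoidalCategory Opposite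
open AlgebraicGeometry MonObj GrpObj

variable {S : Scheme.{u}} {K : Precoverage Scheme.{u}} {G : Over S} [GrpObj G]
  {X : Over S} {aX : AlgGrp.Action G X}

/-- a torsor for a topology coarser than fppf as an fppf torsor -/
def toFppf (hK : K ≤ Scheme.fppfPrecoverage) (A : AlgSt.QuotObj K G aX) :
    AlgSt.QuotObj Scheme.fppfPrecoverage G aX where
  base := A.base
  P := A.P
  act := A.act
  π := A.π
  cart := A.cart
  loc := by
    obtain ⟨R, hR, hsec⟩ := A.loc
    exact ⟨R, hK _ hR, hsec⟩
  φ := A.φ
  eqv := A.eqv

/-- a property of `G ⟶ S` which is fppf local on the base passes to all torsors for a topology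
coarser than fppf -/
theorem torsor_prop_of_le (hK : K ≤ Scheme.fppfPrecoverage) (P : MorphismProperty Scheme.{u})
    [IsZariskiLocalAtTarget P] [P.IsStableUnderBaseChange]
    [P.DescendsAlong (@Surjective ⊓ @Flat ⊓ @LocallyOfFinitePresentation)]
    (hG : P G.hom) (A : AlgSt.QuotObj K G aX) : P A.π.left :=
  Groth.Agent.Lib.Helper24.QuotSt6.torsor_prop P hG (toFppf hK A)

instance : Precoverage.Small.{u} Scheme.etalePrecoverage.{u} :=
  inferInstanceAs (Precoverage.Small.{u} (Scheme.precoverage (@Etale : MorphismProperty Scheme.{u})))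

instance : Precoverage.Small.{u} Scheme.fppfPrecoverage.{u} :=
  inferInstanceAs (Precoverage.Small.{u}
    (Scheme.precoverage (@Flat ⊓ @LocallyOfFinitePresentation : MorphismProperty Scheme.{u})))

set_option backward.isDefEq.respectTransparency.types false in
instance : Precoverage.IsStableUnderComposition (Scheme.etalePrecoverage.{u}) := by
  unfold Scheme.etalePrecoverage
  infer_instance

open Groth.Agent.Lib.Helper24.EtSheaf

lemma etalePrecoverage_le_fpqc : Scheme.etalePrecoverage.{u} ≤ Scheme.fpqcPrecoverage.{u} :=
  etalePrecoverage_le.trans Scheme.fppfPrecoverage_le_fpqcPrecoverage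

/-- affineness of the torsors for an affine group, in a topology coarser than fppf -/
theorem isAffineHom_π (hK : K ≤ Scheme.fppfPrecoverage) [IsAffineHom G.hom]
    (A : AlgSt.QuotObj K G aX) : IsAffineHom A.π.left := by
  have h82 := Groth.Agent.S0082.result.{u}
  exact torsor_prop_of_le hK @IsAffineHom ‹IsAffineHom G.hom› A

/-- **the étale quotient stack of an affine group is a stack** -/
theorem isStack_quotSt_etale [IsAffineHom G.hom] (aX : AlgGrp.Action G X) :
    Stk.IsStack (QuotSh.J Scheme.etalePrecoverage S) (AlgSt.QuotSt Scheme.etalePrecoverage G aX) :=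
  Groth.Agent.Lib.Helper24.QuotSt16.isStack_quotSt Scheme.etalePrecoverage
    etalePrecoverage_le_fpqc aX (fun A => isAffineHom_π etalePrecoverage_le A)

end Groth.Agent.Lib.Helper24.QuotSt17
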