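import Groth.Agent.Lib.Helper24.QAffQuot
import Groth.Agent.Lib.Helper24.AlgStSepDiag
import Groth.Agent.Lib.Helper14.LimJ
import Groth.Agent.S16823
set_option autoImplicit false
set_option linter.unusedSectionVars false
universe u
open CategoryTheory CategoryTheory.Limits AlgebraicGeometry Opposite
set_option backward.isDefEq.respectTransparency false
set_option backward.isDefEq.respectTransparency.types false

/-! The quotient stack `[X/G]` for an affine flat lfp group has affine diagonal iff `X` has. -/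

namespace Groth.Agent.Lib.Helper24.AffDiagQuot
open AlgSt
open Groth.Agent.Lib.Helper24.QuotSt6 Groth.Agent.Lib.Helper24.QuotSt5
open Groth.Agent.Lib.Helper24.QuotSt17 Groth.Agent.Lib.Helper24.EtSheaf
open Groth.Agent.Lib.Helper24.AlgStAffLoc Groth.Agent.Lib.Helper24.AlgStProps
open Groth.Agent.Lib.Helper24.QAffCancel Groth.Agent.Lib.Helper24.AlgStRepS
open Groth.Agent.Lib.Helper24.AlgStSchLocal Groth.Agent.Lib.Helper24.AlgStAffine
open Groth.Agent.Lib.Helper24.AlgStSepDiag

theorem repByAlgSp_selfOver {S : Scheme.{u}} : AlgSt.RepByAlgSp (FibCat.selfOver (Over S)) := by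
  obtain ⟨x, hx⟩ := Groth.Agent.Lib.Helper24.FibCatEquiv.exists_inverse_isEquivOver _
    (Groth.Agent.Lib.Helper24.AlgStQCProd.isEquivOver_P₁ S)
  exact Groth.Agent.Lib.Helper24.AlgStCalc.repByAlgSp_of_isEquivOver x hx
    (Groth.Agent.Lib.Helper24.AlgStCalc.repByAlgSp_overCat _)

/-- a functor from a scheme to the base has diagonal-affine iff the scheme has affine diagonal -/
theorem repByAlgSpWith_diagAff_to_selfOver_iff {S : Scheme.{u}} {X : Over S}
    (t : FibCat.overCat X ⥤ᵇ FibCat.selfOver (Over S)) :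
    AlgSt.RepByAlgSpWith DiagAff t ↔ IsAffineHom (pullback.diagonal X.hom) := by
  rw [Groth.Agent.Lib.Helper24.AlgStLC.repByAlgSpWith_conj DiagAff t (BasedFunctor.id _)
    (Groth.Agent.Lib.Helper24.StkSlice.P₁ (U := S))
    (Groth.Agent.Lib.Helper24.AlgStRep.isEquivOver_id _)
    (Groth.Agent.Lib.Helper24.AlgStQCProd.isEquivOver_P₁ S)]
  obtain ⟨g, ⟨i⟩⟩ := Groth.Agent.Lib.Helper24.FibCatOverMap.exists_iso_overMapC
    (BasedFunctor.comp (BasedFunctor.id _)
      (BasedFunctor.comp t (Groth.Agent.Lib.Helper24.StkSlice.P₁ (U := S))))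
  have hg : g.left = X.hom := by
    have := Over.w g
    simpa using this
  have key : AlgSt.RepByAlgSpWith DiagAff (AlgSt.overMap g) ↔
      IsAffineHom (pullback.diagonal X.hom) := by
    rw [Groth.Agent.Lib.Helper24.AlgStSmLoc.repByAlgSpWith_overMap_iff DiagAff good_diagAff g]
    change AlgSp.RepWith @IsAffineHom (pullback.diagonal ((AlgSp.yon S).map g)) ↔ _
    rw [AlgSp.repWith_diagonal_yon_map_iff, hg]
  rw [← key]
  exact ⟨fun h => Groth.Agent.Lib.Helper24.AlgStGC.repByAlgSpWith_of_iso DiagAff i h,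
    fun h => Groth.Agent.Lib.Helper24.AlgStGC.repByAlgSpWith_of_iso DiagAff i.symm h⟩

theorem repByAlgSpWith_aff_diag_quotSt_iff (S : Scheme.{u}) (G : Over S) [GrpObj G]
    [IsAffineHom G.hom] [Flat G.hom] [LocallyOfFinitePresentation G.hom]
    (X : Over S) (aX : AlgGrp.Action G X) :
    AlgSt.RepByAlgSpWith AlgSp.IsAffineMor
        (FibCat.diag (FibCat.toSelf (AlgSt.QuotSt Scheme.fppfPrecoverage G aX))) ↔
      IsAffineHom (pullback.diagonal X.hom) := by
  have hfl : ∀ (U : Over S)
      (y : FibCat.overCat U ⥤ᵇ AlgSt.QuotSt Scheme.fppfPrecoverage G aX), Flat (piU y).left :=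
    fun U y => piU_left_prop @Flat y
      (torsor_prop_of_le le_rfl @Flat inferInstance (tors y))
  have hlfp : ∀ (U : Over S)
      (y : FibCat.overCat U ⥤ᵇ AlgSt.QuotSt Scheme.fppfPrecoverage G aX),
      LocallyOfFinitePresentation (piU y).left :=
    fun U y => piU_left_prop @LocallyOfFinitePresentation y
      (torsor_prop_of_le le_rfl @LocallyOfFinitePresentation inferInstance (tors y))
  have hsurj : ∀ (U : Over S)
      (y : FibCat.overCat U ⥤ᵇ AlgSt.QuotSt Scheme.fppfPrecoverage G aX),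
      Surjective (piU y).left :=
    fun U y => piU_left_prop @Surjective y
      (torsor_prop_of_le le_rfl @Surjective surjective_hom_of_grpObj (tors y))
  have haff : ∀ (U : Over S)
      (y : FibCat.overCat U ⥤ᵇ AlgSt.QuotSt Scheme.fppfPrecoverage G aX),
      IsAffineHom (piU y).left :=
    fun U y => piU_left_prop @IsAffineHom y (isAffineHom_π le_rfl (tors y))
  have h1a : AlgSt.RepByAlgSpWith (AlgSp.LocP @Flat)
      (BasedFunctor.comp (AlgSt.ofOverCat X) (AlgSt.quotMap Scheme.fppfPrecoverage G aX)) :=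
    repByAlgSpWith_quotMap _ fun U y =>
      Groth.Agent.Lib.Helper24.AlgStLocQ6.locP_yon_map_of
        Groth.Agent.Lib.Helper14.AS.etLocal_flat (hfl U y)
  have h1b : AlgSt.RepByAlgSpWith (AlgSp.LocP @LocallyOfFinitePresentation)
      (BasedFunctor.comp (AlgSt.ofOverCat X) (AlgSt.quotMap Scheme.fppfPrecoverage G aX)) :=
    repByAlgSpWith_quotMap _ fun U y =>
      Groth.Agent.Lib.Helper24.AlgStLocQ6.locP_yon_map_of
        Groth.Agent.Lib.Helper14.AS.etLocal_lfp (hlfp U y)
  have h2 : AlgSt.RepByAlgSpWith AlgSp.IsSurjectiveMor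
      (BasedFunctor.comp (AlgSt.ofOverCat X) (AlgSt.quotMap Scheme.fppfPrecoverage G aX)) :=
    repByAlgSpWith_quotMap _ fun U y =>
      Groth.Agent.Lib.Helper24.AlgStSmLoc.isSurjectiveMor_yon_map_of_surjective _ (hsurj U y)
  have h3 : AlgSt.RepByAlgSpWith AlgSp.IsAffineMor
      (BasedFunctor.comp (AlgSt.ofOverCat X) (AlgSt.quotMap Scheme.fppfPrecoverage G aX)) :=
    repByAlgSpWith_quotMap _ fun U y =>
      Groth.Agent.Lib.Helper14.AS.isAffineMor_of_repWith
        ((AlgSp.repWith_yon_map_iff @IsAffineHom (piU y)).2 (haff U y))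
  have hU : AlgSt.RepByAlgSp (FibCat.overCat X) :=
    Groth.Agent.Lib.Helper24.AlgStCalc.repByAlgSp_overCat X
  have hstack := Groth.Agent.S12836.result S G X aX
  have hu1 := repByAlgSp1_of_repByAlgSpWith _ _ h3
  have hΔ : AlgSt.RepByAlgSp1
      (FibCat.diag (FibCat.toSelf (AlgSt.QuotSt Scheme.fppfPrecoverage G aX))) :=
    Groth.Agent.Lib.Helper24.AlgStFppfCover.repByAlgSp1_diag_of_fppf_cover
      (Groth.Agent.Lib.Helper24.StkFpCrit.isFibGrpd_overForget X) hstack hU _ hu1 h1a h1b h2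
  have hXfib := Groth.Agent.Lib.Helper24.StkFpCrit.isFibGrpd_overForget X
  have hQfib : FibCat.IsFibGrpd (AlgSt.QuotSt Scheme.fppfPrecoverage G aX).p :=
    Groth.Agent.Lib.Helper24.QuotSt8.isFibGrpd
  have hSfib := Groth.Agent.Lib.Helper24.FibCatInertia.isFibGrpd_selfOver (C := Over S)
  constructor
  · intro h
    -- the diagonal of the affine chart is affine
    have hA : AlgSt.RepByAlgSpWith AlgSp.IsAffineMor (FibCat.diag
        (BasedFunctor.comp (AlgSt.ofOverCat X) (AlgSt.quotMap Scheme.fppfPrecoverage G aX))) :=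
      (repByAlgSpWith_diag_iff_diagonal AlgSp.IsAffineMor nice_isAffineMor _ hu1).2
        (repByAlgSpWith_mono' (fun X Y hX _ a ha =>
          Groth.Agent.Lib.Helper14.AS.isAffineMor_of_repWith_isClosedImmersion
            (Groth.Agent.Lib.Helper14.AS.isSeparatedMor_of_isAffineMor hX.diag a ha)) _ h3)
    have hcomp := Groth.Agent.Lib.Helper24.AlgStDiagComp.repByAlgSpWith_diag_comp hXfib hQfib hSfib
      AlgSp.IsAffineMor nice_isAffineMor stableComp_isAffineMor _ (FibCat.toSelf _) hA h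
    have ht1 := Groth.Agent.Lib.Helper24.AlgStBridge.repByAlgSp1_of_repByAlgSp hU
      repByAlgSp_selfOver (BasedFunctor.comp (BasedFunctor.comp (AlgSt.ofOverCat X)
        (AlgSt.quotMap Scheme.fppfPrecoverage G aX)) (FibCat.toSelf _))
    have h4 := (repByAlgSpWith_diag_iff_diagonal AlgSp.IsAffineMor nice_isAffineMor _ ht1).1 hcomp
    have h5 : AlgSt.RepByAlgSpWith DiagAff (BasedFunctor.comp (BasedFunctor.comp
        (AlgSt.ofOverCat X) (AlgSt.quotMap Scheme.fppfPrecoverage G aX)) (FibCat.toSelf _)) :=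
      repByAlgSpWith_mono' (fun X Y _ _ a ha =>
        Groth.Agent.Lib.Helper14.AS.repWith_isAffineHom_of_isAffineMor' _ ha) _ h4
    exact (repByAlgSpWith_diagAff_to_selfOver_iff _).1 h5
  · intro hX
    exact repByAlgSpWith_diag_of_chart' hXfib hQfib hSfib
      AlgSp.IsAffineMor DiagAff good_isAffineMor good_diagAff.nice leftCancel_isAffineMor
      (FibCat.toSelf _) hΔ _ hU
      (Groth.Agent.Lib.Helper24.AlgStDiag.repByAlgSp_fp_comp_toSelf hU hU _ _)
      (Groth.Agent.Lib.Helper24.AlgStBoot.repByAlgSpWith_fpFst DiagAff _ _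
        ((repByAlgSpWith_diagAff_to_selfOver_iff _).2 hX))
      h1a h1b h2 h3

end Groth.Agent.Lib.Helper24.AffDiagQuot
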