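import Groth.Agent.Lib.Helper24.AlgStBridge
import Groth.Agent.Lib.Helper14.AlgSpFibre
set_option autoImplicit false
open CategoryTheory AlgebraicGeometry Opposite
universe u
set_option backward.isDefEq.respectTransparency false
set_option backward.isDefEq.respectTransparency.types false

namespace Groth.Agent.Lib.Helper24.AlgStBridge
open Groth.Agent.Lib.Helper24.PshFun Groth.Agent.Lib.Helper24.FibCatFpMap
open Groth.Agent.Lib.Helper24.FibCatEquiv Groth.Agent.Lib.Helper24.FibCatFpGen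
open Groth.Agent.Lib.Helper24.PshBridge Groth.Agent.Lib.Helper24.AlgStRep
open CategoryTheory.Limits

variable {S : Scheme.{u}}

/-- a map of algebraic spaces is representable by algebraic spaces (as a map of presheaves) -/
theorem repBySp_of_isAlgSpace {X Y : AlgSp.Sp S} (hX : AlgSp.IsAlgSpace X) (hY : AlgSp.IsAlgSpace Y)
    (φ : X ⟶ Y) : AlgSp.RepBySp φ.hom := by
  rw [AlgSp.repBySp_hom_iff]
  intro U ξ F' fst snd sq
  exact Groth.Agent.Lib.Helper14.AS.isAlgSpace_of_isPullback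
    (Groth.Agent.Lib.Helper14.AS.repDiag_of_isAlgSpace hY) hX (AlgSp.IsAlgSpace.yon_obj U) sq

/-- `RepByAlgSp1` only depends on the isomorphism class of the functor -/
theorem repByAlgSp1_congr {𝒳 𝒴 : BasedCategory (Over S)} {f f' : 𝒳 ⥤ᵇ 𝒴} (i : f' ≅ f) :
    AlgSt.RepByAlgSp1 f ↔ AlgSt.RepByAlgSp1 f' :=
  repByAlgSp1_iff_of_isEquivOver f f' (BasedFunctor.id 𝒳) (BasedFunctor.id 𝒴)
    (isEquivOver_id _) (isEquivOver_id _) i

theorem repByAlgSpWith_congr (P : MorphismProperty (AlgSp.Sp S)) {𝒳 𝒴 : BasedCategory (Over S)}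
    {f f' : 𝒳 ⥤ᵇ 𝒴} (i : f' ≅ f) :
    AlgSt.RepByAlgSpWith P f ↔ AlgSt.RepByAlgSpWith P f' :=
  repByAlgSpWith_iff_of_isEquivOver P f f' (BasedFunctor.id 𝒳) (BasedFunctor.id 𝒴)
    (isEquivOver_id _) (isEquivOver_id _) i

/-- every functor over `(Sch/S)` between categories of algebraic spaces is representable by
algebraic spaces -/
theorem repByAlgSp1_of_spaces (X Y : AlgSp.Space S) (f : AlgSt.ofSp X.obj ⥤ᵇ AlgSt.ofSp Y.obj) :
    AlgSt.RepByAlgSp1 f := by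
  rw [repByAlgSp1_congr (isoOfPshMap f).symm]
  let φ : X.obj ⟶ Y.obj := ObjectProperty.homMk (pshMapOf f)
  exact repByAlgSp1_ofPshMap_of_repBySp _ (repBySp_of_isAlgSpace X.property Y.property φ)

theorem repByAlgSp1_of_repByAlgSp {𝒳 𝒴 : BasedCategory (Over S)}
    (hX : AlgSt.RepByAlgSp 𝒳) (hY : AlgSt.RepByAlgSp 𝒴) (f : 𝒳 ⥤ᵇ 𝒴) : AlgSt.RepByAlgSp1 f := by
  obtain ⟨X, eX, heX⟩ := hX
  obtain ⟨Y, eY, heY⟩ := hY
  obtain ⟨eY', ⟨α⟩, ⟨β⟩⟩ := heY
  have heY : FibCat.IsEquivOver eY := ⟨eY', ⟨α⟩, ⟨β⟩⟩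
  let f' : AlgSt.ofSp X.obj ⥤ᵇ AlgSt.ofSp Y.obj :=
    BasedFunctor.comp (BasedFunctor.comp eX f) eY'
  let e : BasedFunctor.comp f' eY ≅ BasedFunctor.comp eX f :=
    whiskerLeftIso (BasedFunctor.comp eX f) β
  rw [repByAlgSp1_iff_of_isEquivOver f f' eX eY heX heY e]
  exact repByAlgSp1_of_spaces X Y f'

end Groth.Agent.Lib.Helper24.AlgStBridge
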