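import Groth.Prelude.Def_FibCat2
import Groth.Agent.Lib.Helper24.FibCatFpGen
import Groth.Agent.Lib.Helper24.FibCatEquiv3
import Groth.Agent.Lib.Helper24.FibCatDiag
set_option autoImplicit false
set_option linter.unusedSectionVars false
open CategoryTheory CategoryTheory.Limits
universe u v u₂ v₂ u₃ v₃ u₄ v₄ u₅ v₅

/-! Pasting of 2-fibre products over `C`. -/

namespace Groth.Agent.Lib.Helper24.FibCatFpPaste
open Groth.Agent.Lib.Helper24.FibCatFpGen Groth.Agent.Lib.Helper24.FibCatEquiv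
open Groth.Agent.Lib.Helper24.FibCatDiag (mkIso)

variable {C : Type u} [Category.{v} C]

section BaseChange
variable {𝒳 : BasedCategory.{v₂, u₂} C} {𝒴 : BasedCategory.{v₃, u₃} C}
  {𝒵 : BasedCategory.{v₄, u₄} C} {𝒲 : BasedCategory.{v₅, u₅} C}
  (f : 𝒳 ⥤ᵇ 𝒴) (g : 𝒵 ⥤ᵇ 𝒴) (G : 𝒲 ⥤ᵇ 𝒵)

/-- the source: `𝒲 ×_𝒵 (𝒵 ×_𝒴 𝒳)` -/
abbrev A := FibCat.fp G (FibCat.fpFst g f)
/-- the target: `𝒲 ×_𝒴 𝒳` -/
abbrev B := FibCat.fp (BasedFunctor.comp G g) f

variable {f g G}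

/-- `ι : G w ≅ z` -/
def ιOf (t : (A f g G).obj) : G.toFunctor.obj t.obj.fst ≅ t.obj.snd.obj.fst := t.obj.iso
/-- `θ : g z ≅ f x` -/
def θOf (t : (A f g G).obj) : g.toFunctor.obj t.obj.snd.obj.fst ≅ f.toFunctor.obj t.obj.snd.obj.snd :=
  t.obj.snd.obj.iso

lemma ιOf_lift (t : (A f g G).obj) : 𝒵.p.IsHomLift (𝟙 (𝒲.p.obj t.obj.fst)) (ιOf t).hom :=
  iso_isHomLift G (FibCat.fpFst g f) t

lemma θOf_lift (t : (A f g G).obj) : 𝒴.p.IsHomLift (𝟙 (𝒲.p.obj t.obj.fst)) (θOf t).hom := by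
  have h1 := ιOf_lift t
  have h2 : 𝒵.p.obj t.obj.snd.obj.fst = 𝒲.p.obj t.obj.fst :=
    IsHomLift.codomain_eq 𝒵.p (𝟙 (𝒲.p.obj t.obj.fst)) (ιOf t).hom
  rw [← h2]
  exact iso_isHomLift g f t.obj.snd

lemma hom_w₁ {t t' : (A f g G).obj} (m : t ⟶ t') :
    G.toFunctor.map m.hom.fst ≫ (ιOf t').hom = (ιOf t).hom ≫ m.hom.snd.hom.fst := hom_w m

lemma hom_w₂ {t t' : (A f g G).obj} (m : t ⟶ t') :
    g.toFunctor.map m.hom.snd.hom.fst ≫ (θOf t').hom = (θOf t).hom ≫ f.toFunctor.map m.hom.snd.hom.snd :=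
  hom_w m.hom.snd

/-- object map of the contraction functor -/
def PObj (t : (A f g G).obj) : (B f g G).obj :=
  mkObj (F := BasedFunctor.comp G g) (G := f) t.obj.fst t.obj.snd.obj.snd
    (g.toFunctor.mapIso (ιOf t) ≪≫ θOf t) (by
      have h1 := ιOf_lift t
      have h2 := θOf_lift t
      change 𝒴.p.IsHomLift (𝟙 (𝒲.p.obj t.obj.fst)) (g.toFunctor.map (ιOf t).hom ≫ (θOf t).hom)
      infer_instance)

lemma PObj_iso_hom (t : (A f g G).obj) :
    (PObj t).obj.iso.hom = g.toFunctor.map (ιOf t).hom ≫ (θOf t).hom := rfl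

lemma P_w {t t' : (A f g G).obj} (m : t ⟶ t') :
    g.toFunctor.map (G.toFunctor.map m.hom.fst) ≫ (g.toFunctor.map (ιOf t').hom ≫ (θOf t').hom) =
      (g.toFunctor.map (ιOf t).hom ≫ (θOf t).hom) ≫ f.toFunctor.map m.hom.snd.hom.snd := by
  rw [← Category.assoc, ← g.toFunctor.map_comp, hom_w₁, g.toFunctor.map_comp, Category.assoc,
    hom_w₂, Category.assoc]

variable (f g G) in
/-- the contraction functor `𝒲 ×_𝒵 (𝒵 ×_𝒴 𝒳) ⟶ 𝒲 ×_𝒴 𝒳` -/
def P : A f g G ⥤ᵇ B f g G where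
  toFunctor :=
    { obj := PObj
      map := fun {t t'} m => mkHom (x := PObj t) (y := PObj t') m.hom.fst m.hom.snd.hom.snd (P_w m)
      map_id := fun t => by apply hom_ext' <;> rfl
      map_comp := fun m m' => by apply hom_ext' <;> rfl }
  w := rfl

instance : (P f g G).toFunctor.Faithful := by
  constructor
  intro t t' m m' h
  have h1 : m.hom.fst = m'.hom.fst := congrArg (fun k => k.hom.fst) h
  have h2 : m.hom.snd.hom.snd = m'.hom.snd.hom.snd := congrArg (fun k => k.hom.snd) h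
  apply hom_ext' h1
  apply hom_ext' _ h2
  have e1 := hom_w₁ m
  have e2 := hom_w₁ m'
  rw [h1] at e1
  rw [← cancel_epi (ιOf t).hom, ← e1, ← e2]

instance : (P f g G).toFunctor.Full := by
  constructor
  intro t t' n
  obtain ⟨nw, hnw⟩ : ∃ nw : t.obj.fst ⟶ t'.obj.fst, nw = n.hom.fst := ⟨_, rfl⟩
  obtain ⟨nx, hnx⟩ : ∃ nx : t.obj.snd.obj.snd ⟶ t'.obj.snd.obj.snd, nx = n.hom.snd := ⟨_, rfl⟩
  have hn : g.toFunctor.map (G.toFunctor.map nw) ≫ g.toFunctor.map (ιOf t').hom ≫ (θOf t').hom =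
      (g.toFunctor.map (ιOf t).hom ≫ (θOf t).hom) ≫ f.toFunctor.map nx := by
    subst hnw hnx
    exact hom_w n
  let mz : t.obj.snd.obj.fst ⟶ t'.obj.snd.obj.fst :=
    (ιOf t).inv ≫ G.toFunctor.map nw ≫ (ιOf t').hom
  have w2 : g.toFunctor.map mz ≫ (θOf t').hom = (θOf t).hom ≫ f.toFunctor.map nx := by
    simp only [mz, Functor.map_comp, Category.assoc]
    rw [hn]
    simp [← Functor.map_comp_assoc]
  have w1 : G.toFunctor.map nw ≫ (ιOf t').hom = (ιOf t).hom ≫ mz := by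
    simp [mz]
  let ms : t.obj.snd ⟶ t'.obj.snd := mkHom mz nx w2
  refine ⟨mkHom (F := G) (G := FibCat.fpFst g f) nw ms w1, ?_⟩
  apply hom_ext'
  · exact hnw
  · exact hnx

variable (f g G) in
/-- lift data for the contraction functor -/
def liftDataP : LiftData (P f g G) := by
  refine ⟨fun s => mkObj (F := G) (G := FibCat.fpFst g f) s.obj.fst
      (mkObj (F := g) (G := f) (G.toFunctor.obj s.obj.fst) s.obj.snd s.obj.iso (by
        have := iso_isHomLift (BasedFunctor.comp G g) f s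
        rw [G.w_obj]
        exact this))
      (Iso.refl _) (by
        change 𝒵.p.IsHomLift (𝟙 (𝒲.p.obj s.obj.fst)) (𝟙 (G.toFunctor.obj s.obj.fst))
        infer_instance), fun s => mkIso (Iso.refl _) (Iso.refl _) ?_, fun s => ?_⟩
  · change (BasedFunctor.comp G g).toFunctor.map (𝟙 _) ≫ s.obj.iso.hom =
      (g.toFunctor.map (𝟙 _) ≫ s.obj.iso.hom) ≫ f.toFunctor.map (𝟙 _)
    simp
  · rw [isHomLift_iff_fst]
    change 𝒲.p.IsHomLift (𝟙 (𝒲.p.obj s.obj.fst)) (𝟙 s.obj.fst)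
    infer_instance

theorem isEquivOver_P : FibCat.IsEquivOver (P f g G) := isEquivOver_of_liftData (liftDataP f g G)

end BaseChange

section Comp
variable {𝒳 : BasedCategory.{v₂, u₂} C} {𝒴 : BasedCategory.{v₃, u₃} C}
  {𝒵 : BasedCategory.{v₄, u₄} C} {𝒲 : BasedCategory.{v₅, u₅} C}
  (f : 𝒳 ⥤ᵇ 𝒴) (g : 𝒴 ⥤ᵇ 𝒵) (G : 𝒲 ⥤ᵇ 𝒵)

/-- the source: `(𝒲 ×_𝒵 𝒴) ×_𝒴 𝒳` -/
abbrev A' := FibCat.fp (FibCat.fpSnd G g) f
/-- the target: `𝒲 ×_𝒵 𝒳` -/
abbrev B' := FibCat.fp G (BasedFunctor.comp f g)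

variable {f g G}

/-- `τ : G w ≅ g y` -/
def τOf (t : (A' f g G).obj) : G.toFunctor.obj t.obj.fst.obj.fst ≅ g.toFunctor.obj t.obj.fst.obj.snd :=
  t.obj.fst.obj.iso
/-- `ι : y ≅ f x` -/
def ιOf' (t : (A' f g G).obj) : t.obj.fst.obj.snd ≅ f.toFunctor.obj t.obj.snd := t.obj.iso

lemma τOf_lift (t : (A' f g G).obj) :
    𝒵.p.IsHomLift (𝟙 (𝒲.p.obj t.obj.fst.obj.fst)) (τOf t).hom :=
  iso_isHomLift G g t.obj.fst

lemma ιOf'_lift (t : (A' f g G).obj) :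
    𝒴.p.IsHomLift (𝟙 (𝒲.p.obj t.obj.fst.obj.fst)) (ιOf' t).hom :=
  iso_isHomLift (FibCat.fpSnd G g) f t

lemma hom_w₁' {t t' : (A' f g G).obj} (m : t ⟶ t') :
    G.toFunctor.map m.hom.fst.hom.fst ≫ (τOf t').hom =
      (τOf t).hom ≫ g.toFunctor.map m.hom.fst.hom.snd := hom_w m.hom.fst

lemma hom_w₂' {t t' : (A' f g G).obj} (m : t ⟶ t') :
    m.hom.fst.hom.snd ≫ (ιOf' t').hom = (ιOf' t).hom ≫ f.toFunctor.map m.hom.snd := hom_w m

/-- object map of the contraction functor -/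
def QObj (t : (A' f g G).obj) : (B' f g G).obj :=
  mkObj (F := G) (G := BasedFunctor.comp f g) t.obj.fst.obj.fst t.obj.snd
    (τOf t ≪≫ g.toFunctor.mapIso (ιOf' t)) (by
      have h1 := τOf_lift t
      have h2 := ιOf'_lift t
      change 𝒵.p.IsHomLift (𝟙 (𝒲.p.obj t.obj.fst.obj.fst))
        ((τOf t).hom ≫ g.toFunctor.map (ιOf' t).hom)
      infer_instance)

lemma Q_w {t t' : (A' f g G).obj} (m : t ⟶ t') :
    G.toFunctor.map m.hom.fst.hom.fst ≫ ((τOf t').hom ≫ g.toFunctor.map (ιOf' t').hom) =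
      ((τOf t).hom ≫ g.toFunctor.map (ιOf' t).hom) ≫
        g.toFunctor.map (f.toFunctor.map m.hom.snd) := by
  rw [← Category.assoc, hom_w₁', Category.assoc, ← g.toFunctor.map_comp, hom_w₂',
    g.toFunctor.map_comp, Category.assoc]

variable (f g G) in
/-- the contraction functor `(𝒲 ×_𝒵 𝒴) ×_𝒴 𝒳 ⟶ 𝒲 ×_𝒵 𝒳` -/
def Q : A' f g G ⥤ᵇ B' f g G where
  toFunctor :=
    { obj := QObj
      map := fun {t t'} m => mkHom (x := QObj t) (y := QObj t') m.hom.fst.hom.fst m.hom.snd (Q_w m)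
      map_id := fun t => by apply hom_ext' <;> rfl
      map_comp := fun m m' => by apply hom_ext' <;> rfl }
  w := rfl

instance : (Q f g G).toFunctor.Faithful := by
  constructor
  intro t t' m m' h
  have h1 : m.hom.fst.hom.fst = m'.hom.fst.hom.fst := congrArg (fun k => k.hom.fst) h
  have h2 : m.hom.snd = m'.hom.snd := congrArg (fun k => k.hom.snd) h
  apply hom_ext' _ h2
  apply hom_ext' h1
  have e1 := hom_w₂' m
  have e2 := hom_w₂' m'
  rw [h2] at e1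
  rw [← cancel_mono (ιOf' t').hom, e1, e2]

instance : (Q f g G).toFunctor.Full := by
  constructor
  intro t t' n
  obtain ⟨nw, hnw⟩ : ∃ nw : t.obj.fst.obj.fst ⟶ t'.obj.fst.obj.fst, nw = n.hom.fst := ⟨_, rfl⟩
  obtain ⟨nx, hnx⟩ : ∃ nx : t.obj.snd ⟶ t'.obj.snd, nx = n.hom.snd := ⟨_, rfl⟩
  have hn : G.toFunctor.map nw ≫ ((τOf t').hom ≫ g.toFunctor.map (ιOf' t').hom) =
      ((τOf t).hom ≫ g.toFunctor.map (ιOf' t).hom) ≫ g.toFunctor.map (f.toFunctor.map nx) := by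
    subst hnw hnx
    exact hom_w n
  let my : t.obj.fst.obj.snd ⟶ t'.obj.fst.obj.snd :=
    (ιOf' t).hom ≫ f.toFunctor.map nx ≫ (ιOf' t').inv
  have w1 : G.toFunctor.map nw ≫ (τOf t').hom = (τOf t).hom ≫ g.toFunctor.map my := by
    have h3 : g.toFunctor.map (ιOf' t').hom ≫ g.toFunctor.map (ιOf' t').inv = 𝟙 _ := by
      rw [← g.toFunctor.map_comp, Iso.hom_inv_id, g.toFunctor.map_id]
    have := congrArg (· ≫ g.toFunctor.map (ιOf' t').inv) hn
    simp only [Category.assoc] at this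
    rw [h3, Category.comp_id] at this
    rw [this]
    simp [my]
  have w2 : my ≫ (ιOf' t').hom = (ιOf' t).hom ≫ f.toFunctor.map nx := by
    simp [my]
  let mf : t.obj.fst ⟶ t'.obj.fst := mkHom nw my w1
  refine ⟨mkHom (F := FibCat.fpSnd G g) (G := f) mf nx w2, ?_⟩
  apply hom_ext'
  · exact hnw
  · exact hnx

variable (f g G) in
/-- lift data for the contraction functor -/
def liftDataQ : LiftData (Q f g G) := by
  refine ⟨fun s => mkObj (F := FibCat.fpSnd G g) (G := f)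
      (mkObj (F := G) (G := g) s.obj.fst (f.toFunctor.obj s.obj.snd) s.obj.iso
        (iso_isHomLift G (BasedFunctor.comp f g) s))
      s.obj.snd (Iso.refl _) (by
        change 𝒴.p.IsHomLift (𝟙 (𝒲.p.obj s.obj.fst)) (𝟙 (f.toFunctor.obj s.obj.snd))
        have h1 := p_eq G (BasedFunctor.comp f g) s
        rw [h1, ← f.w_obj]
        infer_instance), fun s => mkIso (Iso.refl _) (Iso.refl _) ?_, fun s => ?_⟩
  · change G.toFunctor.map (𝟙 _) ≫ s.obj.iso.hom =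
      (s.obj.iso.hom ≫ g.toFunctor.map (𝟙 _)) ≫ (BasedFunctor.comp f g).toFunctor.map (𝟙 _)
    rw [G.toFunctor.map_id, g.toFunctor.map_id, (BasedFunctor.comp f g).toFunctor.map_id,
      Category.id_comp]
    exact ((Category.comp_id _).trans (Category.comp_id _)).symm
  · rw [isHomLift_iff_fst]
    change 𝒲.p.IsHomLift (𝟙 (𝒲.p.obj s.obj.fst)) (𝟙 s.obj.fst)
    infer_instance

theorem isEquivOver_Q : FibCat.IsEquivOver (Q f g G) := isEquivOver_of_liftData (liftDataQ f g G)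

end Comp

end Groth.Agent.Lib.Helper24.FibCatFpPaste
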