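import Groth.Agent.Lib.Helper24.FibCatFpGen
set_option autoImplicit false
open CategoryTheory
universe u v u₂ v₂ u₃ v₃ u₄ v₄
set_option backward.isDefEq.respectTransparency false
set_option backward.isDefEq.respectTransparency.types false

namespace Groth.Agent.Lib.Helper24.FibCatFpSwap
open Groth.Agent.Lib.Helper24.FibCatFpGen

variable {C : Type u} [Category.{v} C]
variable {𝒳 : BasedCategory.{v₂, u₂} C} {𝒴 : BasedCategory.{v₃, u₃} C}
  {𝒮 : BasedCategory.{v₄, u₄} C} (F : 𝒳 ⥤ᵇ 𝒮) (G : 𝒴 ⥤ᵇ 𝒮)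

/-- the symmetry of the 2-fibre product -/
def swap : FibCat.fp F G ⥤ᵇ FibCat.fp G F where
  toFunctor :=
    { obj := fun z => mkObj (F := G) (G := F) z.obj.snd z.obj.fst z.obj.iso.symm (by
        have h := iso_isHomLift' F G z
        exact IsHomLift.lift_id_inv (p := 𝒮.p) _ z.obj.iso)
      map := fun {z z'} φ => mkHom (F := G) (G := F) φ.hom.snd φ.hom.fst (by
        have h := hom_w φ
        change G.toFunctor.map φ.hom.snd ≫ z'.obj.iso.inv = z.obj.iso.inv ≫ F.toFunctor.map φ.hom.fst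
        rw [Iso.comp_inv_eq, Category.assoc, h, Iso.inv_hom_id_assoc])
      map_id := fun z => by apply hom_ext' <;> rfl
      map_comp := fun φ ψ => by apply hom_ext' <;> rfl }
  w := by
    refine CategoryTheory.Functor.ext (fun z => (p_eq F G z).symm) (fun z z' φ => ?_)
    have h1 : 𝒴.p.IsHomLift ((FibCat.fp F G).p.map φ) φ.hom.snd := FibCat.fp_isHomLift_snd F G φ
    exact IsHomLift.fac' 𝒴.p ((FibCat.fp F G).p.map φ) φ.hom.snd

lemma swap_fst : BasedFunctor.comp (swap F G) (FibCat.fpFst G F) = FibCat.fpSnd F G := rfl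

lemma swap_snd : BasedFunctor.comp (swap F G) (FibCat.fpSnd G F) = FibCat.fpFst F G := rfl

theorem isEquivOver_swap : FibCat.IsEquivOver (swap F G) :=
  ⟨swap G F, ⟨Iso.refl _⟩, ⟨Iso.refl _⟩⟩

end Groth.Agent.Lib.Helper24.FibCatFpSwap
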