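import Groth.Agent.Lib.Helper24.RepBySpBoot
set_option autoImplicit false
open CategoryTheory CategoryTheory.Limits AlgebraicGeometry Opposite
universe u
set_option backward.isDefEq.respectTransparency false
set_option backward.isDefEq.respectTransparency.types false

namespace Groth.Agent.Lib.Helper24.RepBySp
open AlgSp Groth.Agent.Lib.Helper14.AS

variable {S : Scheme.{u}}

theorem isPullback_prod_fst_with_id {C : Type*} [Category C] {A B : C} (f : A ⟶ B) (X : C)
    [HasBinaryProduct A X] [HasBinaryProduct B X] :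
    IsPullback prod.fst (prod.map f (𝟙 X)) f prod.fst where
  w := by simp
  isLimit' := ⟨PullbackCone.isLimitAux' _ (fun s ↦ by
    refine ⟨prod.lift s.fst (s.snd ≫ prod.snd), ?_, ?_, ?_⟩
    · simp
    · ext
      · simp [PullbackCone.condition]
      · simp
    · intro m h₁ h₂
      dsimp at m h₁ h₂ ⊢
      apply Limits.prod.hom_ext
      · simpa using h₁
      · simp [← h₂])⟩

/-- S10094: products -/
theorem repBySp_prod_map {F₁ G₁ F₂ G₂ : PSp S} (a₁ : F₁ ⟶ G₁) (a₂ : F₂ ⟶ G₂)
    (h₁ : RepBySp a₁) (h₂ : RepBySp a₂) : RepBySp (prod.map a₁ a₂) := by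
  have e : prod.map a₁ a₂ = prod.map a₁ (𝟙 F₂) ≫ prod.map (𝟙 G₁) a₂ := by simp
  rw [e]
  exact repBySp_comp _ _ (repBySp_of_isPullback (isPullback_prod_fst_with_id a₁ F₂) h₁)
    (repBySp_of_isPullback (isPullback_prod_snd_with_id a₂ G₁) h₂)

/-- S10095: cancellation -/
theorem repBySp_of_comp {F G H : PSp S} (a : F ⟶ G) (b : G ⟶ H)
    (hΔ : RepBySp (pullback.diagonal b)) (hab : RepBySp (a ≫ b)) : RepBySp a := by
  have h1 := repBySp_of_isPullback (pullback_lift_diagonal_isPullback a b) hΔ
  have h2 := repBySp_of_isPullback (IsPullback.of_hasPullback (a ≫ b) b) hab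
  have := repBySp_comp _ _ h1 h2
  simpa using this

end Groth.Agent.Lib.Helper24.RepBySp
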