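import Groth.Agent.Lib.Helper24.SetoidPsh
import Groth.Agent.Lib.Helper24.RepBySpMore
import Groth.Agent.Lib.Helper24.AlgStBridge2
import Groth.Agent.Lib.Helper24.AlgStSetoid
import Groth.Agent.Lib.Helper24.FibCatFpSwap
import Groth.Agent.Lib.Helper24.FibCatFpPaste
import Groth.Agent.S12800
set_option autoImplicit false
open CategoryTheory AlgebraicGeometry Opposite
universe w₁ v₁ w₂ v₂ w₃ v₃ u
set_option backward.isDefEq.respectTransparency false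
set_option backward.isDefEq.respectTransparency.types false

namespace Groth.Agent.Lib.Helper24.AlgStBoot
open Groth.Agent.Lib.Helper24.PshFun Groth.Agent.Lib.Helper24.FibCatFpMap
open Groth.Agent.Lib.Helper24.FibCatEquiv Groth.Agent.Lib.Helper24.FibCatFpGen
open Groth.Agent.Lib.Helper24.PshBridge Groth.Agent.Lib.Helper24.AlgStRep
open Groth.Agent.Lib.Helper24.AlgStBridge Groth.Agent.Lib.Helper24.FibSetoid
open Groth.Agent.Lib.Helper24.AlgStSetoid Groth.Agent.Lib.Helper24.SetoidPsh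
open CategoryTheory.Limits

variable {S : Scheme.{u}}

/-- base change of `RepByAlgSpWith`, any universes -/
theorem repByAlgSpWith_fpFst {𝒳 : BasedCategory.{v₁, w₁} (Over S)}
    {𝒴 : BasedCategory.{v₂, w₂} (Over S)} {𝒵 : BasedCategory.{v₃, w₃} (Over S)}
    (P : MorphismProperty (AlgSp.Sp S)) (f : 𝒳 ⥤ᵇ 𝒴) (g : 𝒵 ⥤ᵇ 𝒴) (hf : AlgSt.RepByAlgSpWith P f) :
    AlgSt.RepByAlgSpWith P (FibCat.fpFst g f) := by
  intro U y
  exact (exists_rep_iff_of_isEquivOver P (Groth.Agent.Lib.Helper24.FibCatFpPaste.P f g y)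
    Groth.Agent.Lib.Helper24.FibCatFpPaste.isEquivOver_P
    (FibCat.fpFst (BasedFunctor.comp y g) f) (FibCat.fpFst y (FibCat.fpFst g f)) (Iso.refl _)).1
    (hf U (BasedFunctor.comp y g))

theorem repByAlgSp1_fpFst {𝒳 : BasedCategory.{v₁, w₁} (Over S)}
    {𝒴 : BasedCategory.{v₂, w₂} (Over S)} {𝒵 : BasedCategory.{v₃, w₃} (Over S)}
    (f : 𝒳 ⥤ᵇ 𝒴) (g : 𝒵 ⥤ᵇ 𝒴) (hf : AlgSt.RepByAlgSp1 f) :
    AlgSt.RepByAlgSp1 (FibCat.fpFst g f) := by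
  rw [repByAlgSp1_iff_with_top] at hf ⊢
  exact repByAlgSpWith_fpFst ⊤ f g hf

/-- a category fibred in setoids with a functor representable by algebraic spaces to the category
of an algebraic space is representable by an algebraic space -/
theorem repByAlgSp_of_repByAlgSp1_to_space {𝒲 : AlgSt.Cat S} (h𝒲 : FibCat.IsFibSetoid 𝒲.p)
    (Z : AlgSp.Space S) (q : 𝒲 ⥤ᵇ AlgSt.ofSp Z.obj) (hq : AlgSt.RepByAlgSp1 q) :
    AlgSt.RepByAlgSp 𝒲 := by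
  have hE := isEquivOver_toPsh h𝒲
  obtain ⟨E', ⟨α⟩, ⟨β⟩⟩ := hE
  have hE' : FibCat.IsEquivOver E' := ⟨toPsh 𝒲 h𝒲.1, ⟨β⟩, ⟨α⟩⟩
  let P : AlgSp.PSp S := clsPsh 𝒲 h𝒲.1
  let Φ : Stk.ofPsh P ⥤ᵇ Stk.ofPsh Z.obj.obj := BasedFunctor.comp E' q
  let a : P ⟶ Z.obj.obj := pshMapOf Φ
  have hΦ : AlgSt.RepByAlgSp1 Φ :=
    (repByAlgSp1_iff_of_isEquivOver q Φ E' (BasedFunctor.id _) hE' (isEquivOver_id _)
      (Iso.refl _)).1 hq
  have ha : AlgSp.RepBySp a :=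
    (repBySp_iff_repByAlgSp1_ofPshMap a).2 ((repByAlgSp1_congr (isoOfPshMap Φ).symm).1 hΦ)
  obtain ⟨hP, hPa⟩ := Groth.Agent.Lib.Helper24.RepBySp.isAlgSpaceP_of_repBySp a ha
    ((AlgSp.isAlgSpaceP_obj_iff Z.obj).2 Z.property)
  exact ⟨⟨⟨P, hP⟩, hPa⟩, E', hE'⟩

/-- S12766 -/
theorem repByAlgSp_fp {𝒳 𝒴 𝒵 : AlgSt.Cat S}
    (h𝒳 : FibCat.IsFibGrpd 𝒳.p) (h𝒴 : FibCat.IsFibGrpd 𝒴.p) (h𝒵 : FibCat.IsFibGrpd 𝒵.p)
    (f : 𝒳 ⥤ᵇ 𝒴) (g : 𝒵 ⥤ᵇ 𝒴) (hf : AlgSt.RepByAlgSp1 f) (hZ : AlgSt.RepByAlgSp 𝒵) :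
    AlgSt.RepByAlgSp (FibCat.fp g f) := by
  have hfaith : f.toFunctor.Faithful := faithful_of_repByAlgSp1 h𝒳 h𝒴 f hf
  have hZs : FibCat.IsFibSetoid 𝒵.p := isFibSetoid_of_repByAlgSp hZ
  have h1 : FibCat.IsFibSetoid (FibCat.fp f g).p := Groth.Agent.S12800.result h𝒴 h𝒳 hZs f g
  have h𝒲 : FibCat.IsFibSetoid (FibCat.fp g f).p :=
    isFibSetoid_of_isEquivOver _ (Groth.Agent.Lib.Helper24.FibCatFpSwap.isEquivOver_swap g f) h1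
  obtain ⟨Z, eZ, heZ⟩ := hZ
  obtain ⟨eZ', heZ'⟩ := exists_inverse_isEquivOver eZ heZ
  have hq : AlgSt.RepByAlgSp1 (BasedFunctor.comp (FibCat.fpFst g f) eZ') :=
    (repByAlgSp1_iff_of_isEquivOver (BasedFunctor.comp (FibCat.fpFst g f) eZ') (FibCat.fpFst g f)
      (BasedFunctor.id _) eZ' (isEquivOver_id _) heZ' (Iso.refl _)).2 (repByAlgSp1_fpFst f g hf)
  exact repByAlgSp_of_repByAlgSp1_to_space h𝒲 Z _ hq

end Groth.Agent.Lib.Helper24.AlgStBoot
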