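import Groth.Prelude.Def_AlgSt
import Groth.Agent.Lib.Helper24.FibGrpd
set_option autoImplicit false
open CategoryTheory
universe u v u₂ v₂ u₃ v₃ u₄ v₄ u₅ v₅ u₆ v₆
set_option backward.isDefEq.respectTransparency false
set_option backward.isDefEq.respectTransparency.types false

/-!
# Restriction of sections along an equivalence of source categories

If `E : 𝒜' ⟶ 𝒜` is a functor over `B` whose underlying functor is an equivalence of categories and `𝒵`
is fibred in groupoids over `B`, restriction `(𝒜 ⥤ᵇ 𝒵) ⥤ (𝒜' ⥤ᵇ 𝒵)` is an equivalence.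
-/

namespace Groth.Agent.Lib.Helper24.SectSrc
open Groth.Agent.Lib.Helper24.FibGrpd

variable {B : Type u} [Category.{v} B]
  {𝒜' : BasedCategory.{v₂, u₂} B} {𝒜 : BasedCategory.{v₃, u₃} B} (E : 𝒜' ⥤ᵇ 𝒜)
  (𝒵 : BasedCategory.{v₄, u₄} B)

/-- chosen preimage -/
noncomputable abbrev pre [E.toFunctor.EssSurj] (a : 𝒜.obj) : 𝒜'.obj := E.toFunctor.objPreimage a

/-- chosen isomorphism -/
noncomputable abbrev θ [E.toFunctor.EssSurj] (a : 𝒜.obj) : E.toFunctor.obj (pre E a) ≅ a :=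
  E.toFunctor.objObjPreimageIso a

lemma restr_map_app {s s' : 𝒜 ⥤ᵇ 𝒵} (α : s ⟶ s') (a' : 𝒜'.obj) :
    ((Stk.restr E 𝒵).map α).toNatTrans.app a' = α.toNatTrans.app (E.toFunctor.obj a') := rfl

theorem restr_faithful [E.toFunctor.EssSurj] : (Stk.restr E 𝒵).Faithful := by
  constructor
  intro s s' α β h
  apply BasedNatTrans.homCategory.ext
  ext a
  have hα := α.toNatTrans.naturality (θ E a).hom
  have hβ := β.toNatTrans.naturality (θ E a).hom
  have hab : α.toNatTrans.app (E.toFunctor.obj (pre E a)) =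
      β.toNatTrans.app (E.toFunctor.obj (pre E a)) :=
    congrArg (fun t => t.toNatTrans.app (pre E a)) h
  have e1 : α.toNatTrans.app a = s.toFunctor.map (θ E a).inv ≫
      α.toNatTrans.app (E.toFunctor.obj (pre E a)) ≫ s'.toFunctor.map (θ E a).hom := by
    rw [← hα, ← Category.assoc, ← Functor.map_comp, Iso.inv_hom_id, CategoryTheory.Functor.map_id,
      Category.id_comp]
  have e2 : β.toNatTrans.app a = s.toFunctor.map (θ E a).inv ≫
      β.toNatTrans.app (E.toFunctor.obj (pre E a)) ≫ s'.toFunctor.map (θ E a).hom := by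
    rw [← hβ, ← Category.assoc, ← Functor.map_comp, Iso.inv_hom_id, CategoryTheory.Functor.map_id,
      Category.id_comp]
  rw [e1, e2, hab]

section Full
variable [E.toFunctor.EssSurj] [E.toFunctor.Full] {𝒵}
variable {s s' : 𝒜 ⥤ᵇ 𝒵} (γ : BasedFunctor.comp E s ⟶ BasedFunctor.comp E s')

/-- transported morphism of the source -/
noncomputable def tr {a b : 𝒜.obj} (m : a ⟶ b) : pre E a ⟶ pre E b :=
  E.toFunctor.preimage ((θ E a).hom ≫ m ≫ (θ E b).inv)

lemma map_tr {a b : 𝒜.obj} (m : a ⟶ b) :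
    E.toFunctor.map (tr E m) = (θ E a).hom ≫ m ≫ (θ E b).inv := by
  simp [tr]

/-- components of the extension of a morphism of restricted sections -/
noncomputable def extApp (a : 𝒜.obj) : s.toFunctor.obj a ⟶ s'.toFunctor.obj a :=
  s.toFunctor.map (θ E a).inv ≫ γ.toNatTrans.app (pre E a) ≫ s'.toFunctor.map (θ E a).hom

lemma extApp_lift (a : 𝒜.obj) : 𝒵.p.IsHomLift (𝟙 (𝒜.p.obj a)) (extApp E γ a) := by
  have h1 : 𝒵.p.IsHomLift (𝒜.p.map (θ E a).inv) (s.toFunctor.map (θ E a).inv) := inferInstance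
  have h2 : 𝒵.p.IsHomLift (𝒜.p.map (θ E a).hom) (s'.toFunctor.map (θ E a).hom) := inferInstance
  have h3 : 𝒵.p.IsHomLift (𝟙 (𝒜'.p.obj (pre E a))) (γ.toNatTrans.app (pre E a)) :=
    BasedNatTrans.app_isHomLift γ (pre E a)
  have hE : 𝒜'.p.obj (pre E a) = 𝒜.p.obj (E.toFunctor.obj (pre E a)) := (E.w_obj _).symm
  rw [hE] at h3
  have h4 : 𝒵.p.IsHomLift (𝒜.p.map (θ E a).hom)
      (γ.toNatTrans.app (pre E a) ≫ s'.toFunctor.map (θ E a).hom) :=
    IsHomLift.comp_lift_id_left' (p := 𝒵.p) (𝒜.p.obj (E.toFunctor.obj (pre E a)))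
      (γ.toNatTrans.app (pre E a)) (𝒜.p.map (θ E a).hom) (s'.toFunctor.map (θ E a).hom)
  have h5 : 𝒵.p.IsHomLift (𝒜.p.map (θ E a).inv ≫ 𝒜.p.map (θ E a).hom) (extApp E γ a) := by
    unfold extApp
    exact IsHomLift.comp (p := 𝒵.p) (𝒜.p.map (θ E a).inv) (𝒜.p.map (θ E a).hom)
      (s.toFunctor.map (θ E a).inv) _
  have : 𝒜.p.map (θ E a).inv ≫ 𝒜.p.map (θ E a).hom = 𝟙 _ := by
    rw [← Functor.map_comp, Iso.inv_hom_id, CategoryTheory.Functor.map_id]
  rwa [this] at h5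

lemma extApp_naturality {a b : 𝒜.obj} (m : a ⟶ b) :
    s.toFunctor.map m ≫ extApp E γ b = extApp E γ a ≫ s'.toFunctor.map m := by
  have hn := γ.toNatTrans.naturality (tr E m)
  change s.toFunctor.map (E.toFunctor.map (tr E m)) ≫ γ.toNatTrans.app (pre E b) =
    γ.toNatTrans.app (pre E a) ≫ s'.toFunctor.map (E.toFunctor.map (tr E m)) at hn
  rw [map_tr] at hn
  unfold extApp
  have e1 : s.toFunctor.map m ≫ s.toFunctor.map (θ E b).inv =
      s.toFunctor.map (θ E a).inv ≫ s.toFunctor.map ((θ E a).hom ≫ m ≫ (θ E b).inv) := by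
    rw [← Functor.map_comp, ← Functor.map_comp, Iso.inv_hom_id_assoc]
  have e2 : s'.toFunctor.map ((θ E a).hom ≫ m ≫ (θ E b).inv) ≫ s'.toFunctor.map (θ E b).hom =
      s'.toFunctor.map (θ E a).hom ≫ s'.toFunctor.map m := by
    rw [← Functor.map_comp, ← Functor.map_comp, Category.assoc, Category.assoc, Iso.inv_hom_id,
      Category.comp_id]
  calc s.toFunctor.map m ≫ s.toFunctor.map (θ E b).inv ≫ γ.toNatTrans.app (pre E b) ≫
        s'.toFunctor.map (θ E b).hom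
      = (s.toFunctor.map m ≫ s.toFunctor.map (θ E b).inv) ≫ γ.toNatTrans.app (pre E b) ≫
          s'.toFunctor.map (θ E b).hom := by simp only [Category.assoc]
    _ = s.toFunctor.map (θ E a).inv ≫ (s.toFunctor.map ((θ E a).hom ≫ m ≫ (θ E b).inv) ≫
          γ.toNatTrans.app (pre E b)) ≫ s'.toFunctor.map (θ E b).hom := by
        rw [e1]; simp only [Category.assoc]
    _ = s.toFunctor.map (θ E a).inv ≫ (γ.toNatTrans.app (pre E a) ≫
          s'.toFunctor.map ((θ E a).hom ≫ m ≫ (θ E b).inv)) ≫ s'.toFunctor.map (θ E b).hom := by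
        rw [hn]
    _ = s.toFunctor.map (θ E a).inv ≫ γ.toNatTrans.app (pre E a) ≫
          (s'.toFunctor.map ((θ E a).hom ≫ m ≫ (θ E b).inv) ≫ s'.toFunctor.map (θ E b).hom) := by
        simp only [Category.assoc]
    _ = (s.toFunctor.map (θ E a).inv ≫ γ.toNatTrans.app (pre E a) ≫
          s'.toFunctor.map (θ E a).hom) ≫ s'.toFunctor.map m := by
        rw [e2]; simp only [Category.assoc]

/-- the extension -/
noncomputable def ext : s ⟶ s' where
  toNatTrans := { app := extApp E γ, naturality := fun _ _ m => extApp_naturality E γ m }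
  isHomLift' := fun a => extApp_lift E γ a

lemma map_ext : (Stk.restr E 𝒵).map (ext E γ) = γ := by
  apply BasedNatTrans.homCategory.ext
  ext a'
  change extApp E γ (E.toFunctor.obj a') = γ.toNatTrans.app a'
  unfold extApp
  obtain ⟨ρ, hρ⟩ := E.toFunctor.map_surjective (θ E (E.toFunctor.obj a')).hom
  have hn := γ.toNatTrans.naturality ρ
  change s.toFunctor.map (E.toFunctor.map ρ) ≫ γ.toNatTrans.app a' =
    γ.toNatTrans.app (pre E (E.toFunctor.obj a')) ≫ s'.toFunctor.map (E.toFunctor.map ρ) at hn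
  rw [hρ] at hn
  calc s.toFunctor.map (θ E (E.toFunctor.obj a')).inv ≫
        γ.toNatTrans.app (pre E (E.toFunctor.obj a')) ≫
        s'.toFunctor.map (θ E (E.toFunctor.obj a')).hom
      = s.toFunctor.map (θ E (E.toFunctor.obj a')).inv ≫
        s.toFunctor.map (θ E (E.toFunctor.obj a')).hom ≫ γ.toNatTrans.app a' := by rw [hn]
    _ = γ.toNatTrans.app a' := by
        rw [← Category.assoc, ← Functor.map_comp, Iso.inv_hom_id, CategoryTheory.Functor.map_id,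
          Category.id_comp]

theorem restr_full : (Stk.restr E 𝒵).Full := ⟨fun γ => ⟨ext E γ, map_ext E γ⟩⟩

end Full

section EssSurj
variable [E.toFunctor.EssSurj] [E.toFunctor.Full] [E.toFunctor.Faithful] {𝒵}
variable (h𝒵 : FibCat.IsFibGrpd 𝒵.p) (s₂ : 𝒜' ⥤ᵇ 𝒵)

omit [E.toFunctor.Full] in
lemma tr_aux : True := trivial

lemma tr_id (a : 𝒜.obj) : tr E (𝟙 a) = 𝟙 (pre E a) := by
  apply E.toFunctor.map_injective
  rw [map_tr]; simp

lemma tr_comp {a b c : 𝒜.obj} (m : a ⟶ b) (n : b ⟶ c) : tr E (m ≫ n) = tr E m ≫ tr E n := by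
  apply E.toFunctor.map_injective
  rw [Functor.map_comp, map_tr, map_tr, map_tr]; simp

include h𝒵 in
omit [E.toFunctor.Full] [E.toFunctor.Faithful] in
lemma exists_pb (a : 𝒜.obj) : ∃ (z : 𝒵.obj) (l : z ⟶ s₂.toFunctor.obj (pre E a)),
    𝒵.p.IsHomLift (𝒜.p.map (θ E a).inv) l := by
  have ht : 𝒵.p.obj (s₂.toFunctor.obj (pre E a)) = 𝒜.p.obj (E.toFunctor.obj (pre E a)) := by
    rw [s₂.w_obj, E.w_obj]
  generalize 𝒜.p.map (θ E a).inv = k
  revert k
  rw [← ht]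
  intro k
  exact h𝒵.exists_lift k

/-- the pulled back object -/
noncomputable def zObj (a : 𝒜.obj) : 𝒵.obj := (exists_pb E h𝒵 s₂ a).choose

/-- the comparison with the value of the given section -/
noncomputable def lam (a : 𝒜.obj) : zObj E h𝒵 s₂ a ⟶ s₂.toFunctor.obj (pre E a) :=
  (exists_pb E h𝒵 s₂ a).choose_spec.choose

omit [E.toFunctor.Full] [E.toFunctor.Faithful] in
lemma lam_lift (a : 𝒜.obj) : 𝒵.p.IsHomLift (𝒜.p.map (θ E a).inv) (lam E h𝒵 s₂ a) :=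
  (exists_pb E h𝒵 s₂ a).choose_spec.choose_spec

omit [E.toFunctor.Full] [E.toFunctor.Faithful] in
lemma lam_isIso (a : 𝒜.obj) : IsIso (lam E h𝒵 s₂ a) := by
  have := lam_lift E h𝒵 s₂ a
  exact isIso_of_isFibGrpd 𝒵.p h𝒵 (𝒜.p.map (θ E a).inv) (lam E h𝒵 s₂ a)

/-- the comparison as an isomorphism -/
noncomputable def lamIso (a : 𝒜.obj) : zObj E h𝒵 s₂ a ≅ s₂.toFunctor.obj (pre E a) :=
  have := lam_isIso E h𝒵 s₂ a
  asIso (lam E h𝒵 s₂ a)

omit [E.toFunctor.Full] [E.toFunctor.Faithful] in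
lemma lamIso_hom_lift (a : 𝒜.obj) :
    𝒵.p.IsHomLift (𝒜.p.mapIso (θ E a).symm).hom (lamIso E h𝒵 s₂ a).hom :=
  lam_lift E h𝒵 s₂ a

omit [E.toFunctor.Full] [E.toFunctor.Faithful] in
lemma lamIso_inv_lift (a : 𝒜.obj) :
    𝒵.p.IsHomLift (𝒜.p.map (θ E a).hom) (lamIso E h𝒵 s₂ a).inv := by
  have := lamIso_hom_lift E h𝒵 s₂ a
  exact IsHomLift.inv_lift_inv (p := 𝒵.p) (𝒜.p.mapIso (θ E a).symm) (lamIso E h𝒵 s₂ a)

omit [E.toFunctor.EssSurj] [E.toFunctor.Full] [E.toFunctor.Faithful] in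
lemma map_lift {a' b' : 𝒜'.obj} (m' : a' ⟶ b') :
    𝒵.p.IsHomLift (𝒜.p.map (E.toFunctor.map m')) (s₂.toFunctor.map m') := by
  have h1 : 𝒜'.p.IsHomLift (𝒜.p.map (E.toFunctor.map m')) m' := by
    rw [← BasedFunctor.isHomLift_iff E]; infer_instance
  infer_instance

/-- the transported morphisms -/
noncomputable def gMap {a b : 𝒜.obj} (m : a ⟶ b) : zObj E h𝒵 s₂ a ⟶ zObj E h𝒵 s₂ b :=
  (lamIso E h𝒵 s₂ a).hom ≫ s₂.toFunctor.map (tr E m) ≫ (lamIso E h𝒵 s₂ b).inv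

omit [E.toFunctor.Faithful] in
lemma gMap_lift {a b : 𝒜.obj} (m : a ⟶ b) : 𝒵.p.IsHomLift (𝒜.p.map m) (gMap E h𝒵 s₂ m) := by
  have h1 := lam_lift E h𝒵 s₂ a
  have h2 := lamIso_inv_lift E h𝒵 s₂ b
  have h3 := map_lift E s₂ (tr E m)
  rw [map_tr] at h3
  have h4 : 𝒵.p.IsHomLift (𝒜.p.map ((θ E a).hom ≫ m ≫ (θ E b).inv) ≫ 𝒜.p.map (θ E b).hom)
      (s₂.toFunctor.map (tr E m) ≫ (lamIso E h𝒵 s₂ b).inv) :=
    IsHomLift.comp (p := 𝒵.p) _ _ _ _
  have h5 : 𝒵.p.IsHomLift (𝒜.p.map (θ E a).inv ≫ 𝒜.p.map ((θ E a).hom ≫ m ≫ (θ E b).inv) ≫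
      𝒜.p.map (θ E b).hom) (gMap E h𝒵 s₂ m) :=
    IsHomLift.comp (p := 𝒵.p) (𝒜.p.map (θ E a).inv) _ (lam E h𝒵 s₂ a) _
  have e : 𝒜.p.map (θ E a).inv ≫ 𝒜.p.map ((θ E a).hom ≫ m ≫ (θ E b).inv) ≫
      𝒜.p.map (θ E b).hom = 𝒜.p.map m := by
    rw [← Functor.map_comp, ← Functor.map_comp]
    congr 1
    simp
  rwa [e] at h5

/-- the glued section -/
noncomputable def glue : 𝒜 ⥤ᵇ 𝒵 where
  toFunctor :=
    { obj := zObj E h𝒵 s₂
      map := fun m => gMap E h𝒵 s₂ m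
      map_id := fun a => by simp [gMap, tr_id]
      map_comp := fun m n => by simp [gMap, tr_comp] }
  w := by
    refine CategoryTheory.Functor.ext (fun a => ?_) (fun a b m => ?_)
    · have := lam_lift E h𝒵 s₂ a
      exact IsHomLift.domain_eq 𝒵.p (𝒜.p.map (θ E a).inv) (lam E h𝒵 s₂ a)
    · have := gMap_lift E h𝒵 s₂ m
      exact IsHomLift.fac' 𝒵.p (𝒜.p.map m) (gMap E h𝒵 s₂ m)

/-- preimage of the chosen isomorphism at an object in the image -/
noncomputable def ρ (a' : 𝒜'.obj) : pre E (E.toFunctor.obj a') ≅ a' :=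
  E.toFunctor.preimageIso (θ E (E.toFunctor.obj a'))

lemma tr_ρ {a' b' : 𝒜'.obj} (m' : a' ⟶ b') :
    E.toFunctor.map (tr E (E.toFunctor.map m') ≫ (ρ E b').hom) =
      E.toFunctor.map ((ρ E a').hom ≫ m') := by
  rw [Functor.map_comp, Functor.map_comp, map_tr]
  simp [ρ]

/-- the glued section restricts to the given one -/
noncomputable def glueIso : (Stk.restr E 𝒵).obj (glue E h𝒵 s₂) ≅ s₂ :=
  BasedNatIso.mkNatIso
    (NatIso.ofComponents
      (fun a' => lamIso E h𝒵 s₂ (E.toFunctor.obj a') ≪≫ s₂.toFunctor.mapIso (ρ E a'))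
      (fun {a' b'} m' => by
        change gMap E h𝒵 s₂ (E.toFunctor.map m') ≫
          (lamIso E h𝒵 s₂ (E.toFunctor.obj b')).hom ≫ s₂.toFunctor.map (ρ E b').hom =
          ((lamIso E h𝒵 s₂ (E.toFunctor.obj a')).hom ≫ s₂.toFunctor.map (ρ E a').hom) ≫
            s₂.toFunctor.map m'
        have h : tr E (E.toFunctor.map m') ≫ (ρ E b').hom = (ρ E a').hom ≫ m' :=
          E.toFunctor.map_injective (tr_ρ E m')
        unfold gMap
        simp only [Category.assoc, Iso.inv_hom_id_assoc]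
        rw [← Functor.map_comp, ← Functor.map_comp, h]))
    (fun a' => by
      change 𝒵.p.IsHomLift (𝟙 (𝒜'.p.obj a'))
        ((lamIso E h𝒵 s₂ (E.toFunctor.obj a')).hom ≫ s₂.toFunctor.map (ρ E a').hom)
      have h1 := lam_lift E h𝒵 s₂ (E.toFunctor.obj a')
      have h3 := map_lift E s₂ (ρ E a').hom
      have e3 : E.toFunctor.map (ρ E a').hom = (θ E (E.toFunctor.obj a')).hom := by simp [ρ]
      rw [e3] at h3
      have h5 : 𝒵.p.IsHomLift (𝒜.p.map (θ E (E.toFunctor.obj a')).inv ≫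
          𝒜.p.map (θ E (E.toFunctor.obj a')).hom)
          ((lamIso E h𝒵 s₂ (E.toFunctor.obj a')).hom ≫ s₂.toFunctor.map (ρ E a').hom) :=
        IsHomLift.comp (p := 𝒵.p) (𝒜.p.map (θ E (E.toFunctor.obj a')).inv) _
          (lam E h𝒵 s₂ (E.toFunctor.obj a')) _
      have e : 𝒜.p.map (θ E (E.toFunctor.obj a')).inv ≫
          𝒜.p.map (θ E (E.toFunctor.obj a')).hom = 𝟙 _ := by
        rw [← Functor.map_comp, Iso.inv_hom_id, CategoryTheory.Functor.map_id]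
      rw [e, E.w_obj] at h5
      exact h5)

include h𝒵 in
theorem restr_essSurj : (Stk.restr E 𝒵).EssSurj :=
  ⟨fun s₂ => ⟨glue E h𝒵 s₂, ⟨glueIso E h𝒵 s₂⟩⟩⟩

end EssSurj

/-- restriction of sections of a category fibred in groupoids along a functor over the base whose
underlying functor is an equivalence of categories is an equivalence -/
theorem restr_isEquivalence [E.toFunctor.IsEquivalence] (h𝒵 : FibCat.IsFibGrpd 𝒵.p) :
    (Stk.restr E 𝒵).IsEquivalence := by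
  have := restr_faithful E 𝒵
  have := restr_full (𝒵 := 𝒵) E
  have := restr_essSurj E h𝒵
  exact { }

section Square
variable {𝒜₁' : BasedCategory.{v₂, u₂} B} {𝒜₁ : BasedCategory.{v₃, u₃} B}
  {𝒜₂' : BasedCategory.{v₅, u₅} B} {𝒜₂ : BasedCategory.{v₆, u₆} B}

/-- a commutative square of functors over the base whose vertical sides are equivalences of
categories: restriction along the bottom is an equivalence iff restriction along the top is -/
theorem restr_isEquivalence_of_square (ι' : 𝒜₂' ⥤ᵇ 𝒜₁') (ι : 𝒜₂ ⥤ᵇ 𝒜₁) (P₁ : 𝒜₁' ⥤ᵇ 𝒜₁)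
    (P₂ : 𝒜₂' ⥤ᵇ 𝒜₂) (hsq : BasedFunctor.comp P₂ ι = BasedFunctor.comp ι' P₁)
    [P₁.toFunctor.IsEquivalence] [P₂.toFunctor.IsEquivalence]
    (𝒵 : BasedCategory.{v₄, u₄} B) (h𝒵 : FibCat.IsFibGrpd 𝒵.p)
    (h : (Stk.restr ι 𝒵).IsEquivalence) : (Stk.restr ι' 𝒵).IsEquivalence := by
  have h1 : (Stk.restr P₁ 𝒵).IsEquivalence := restr_isEquivalence P₁ 𝒵 h𝒵
  have h2 : (Stk.restr P₂ 𝒵).IsEquivalence := restr_isEquivalence P₂ 𝒵 h𝒵
  have e1 : Stk.restr P₁ 𝒵 ⋙ Stk.restr ι' 𝒵 = Stk.restr (BasedFunctor.comp ι' P₁) 𝒵 := rfl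
  have e2 : Stk.restr ι 𝒵 ⋙ Stk.restr P₂ 𝒵 = Stk.restr (BasedFunctor.comp P₂ ι) 𝒵 := rfl
  have h3 : (Stk.restr P₁ 𝒵 ⋙ Stk.restr ι' 𝒵).IsEquivalence := by
    rw [e1, ← hsq, ← e2]; infer_instance
  exact Functor.isEquivalence_of_comp_left (Stk.restr P₁ 𝒵) (Stk.restr ι' 𝒵)

end Square

end Groth.Agent.Lib.Helper24.SectSrc
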