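import Groth.Agent.Lib.Helper24.StkOver
import Groth.Agent.Lib.Helper24.SectSrc
import Groth.Agent.Lib.Helper26.FibGrpdTop
set_option autoImplicit false
open CategoryTheory
universe u v u₂ v₂ u₃ v₃ u₄ v₄ u₅ v₅
set_option backward.isDefEq.respectTransparency false
set_option backward.isDefEq.respectTransparency.types false

/-!
# A category fibred in groupoids over a stack in groupoids is a stack over it
-/

namespace Groth.Agent.Lib.Helper24.StkOverTop
open Groth.Agent.Lib.Helper24.StkOver Groth.Agent.Lib.Helper24.SectSrc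
open Groth.Agent.Lib.Helper26.FibGrpdTop

variable {C : Type u} [Category.{v} C] {D : Type u₂} [Category.{v₂} D] (p : D ⥤ C)
  [hp : FibCat.IsFibGrpd p]

section Source
variable (y : D) (T : Sieve y)

/-- the slice `D/y` over `C` -/
abbrev A₁ : BasedCategory.{v₂, max u₂ v₂} C := BasedCategory.ofFunctor (Over.forget y ⋙ p)

/-- the sieve `T` over `C` -/
abbrev A₂ : BasedCategory.{v₂, max u₂ v₂} C :=
  BasedCategory.ofFunctor (T.arrows.diagram ⋙ p)

/-- the forgetful functor `D/y ⟶ D` over `C` -/
def u₁ : A₁ p y ⥤ᵇ DC p where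
  toFunctor := Over.forget y
  w := rfl

/-- the inclusion of the sieve, over `C` -/
def ι₁₂ : A₂ p y T ⥤ᵇ A₁ p y where
  toFunctor := (Stk.sieveIncl T).toFunctor
  w := rfl

/-- `D/y ⟶ C/p(y)` over `C` -/
def P₁ : A₁ p y ⥤ᵇ FibCat.overCat (p.obj y) where
  toFunctor := Over.post p
  w := rfl

/-- the image sieve -/
abbrev R : Sieve (p.obj y) := T.functorPushforward p

/-- the functor from the sieve to its image sieve -/
def P₂ : A₂ p y T ⥤ᵇ Stk.sieveCat (R p y T) where
  toFunctor := ObjectProperty.lift _ (ObjectProperty.ι _ ⋙ Over.post p)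
    (fun a => Presieve.image_mem_functorPushforward p T.arrows a.property)
  w := rfl

lemma sq : BasedFunctor.comp (P₂ p y T) (Stk.sieveIncl (R p y T)) =
    BasedFunctor.comp (ι₁₂ p y T) (P₁ p y) := rfl

instance : (P₁ p y).toFunctor.IsEquivalence := isEquivalence_post p y

instance : (P₂ p y T).toFunctor.Faithful where
  map_injective {a b} m m' h := by
    apply ObjectProperty.hom_ext
    apply (Over.post p).map_injective
    exact congrArg (fun t => t.hom) h

instance : (P₂ p y T).toFunctor.Full where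
  map_surjective {a b} g := by
    obtain ⟨m₀, hm₀⟩ := (Over.post p).map_surjective g.hom
    refine ⟨ObjectProperty.homMk m₀, ?_⟩
    apply ObjectProperty.hom_ext
    exact hm₀

instance : (P₂ p y T).toFunctor.EssSurj where
  mem_essImage Y := by
    obtain ⟨Z, g, h, hg, hfac⟩ := Y.property
    obtain ⟨w, c, e, hc⟩ := exists_lift p (x := Z) h
    refine ⟨⟨Over.mk (c ≫ g), T.downward_closed hg c⟩, ⟨ObjectProperty.isoMk _ ?_⟩⟩
    refine Over.isoMk (eqToIso e) ?_
    change eqToHom e ≫ Y.obj.hom = p.map (c ≫ g)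
    rw [Functor.map_comp, hc, hfac, Category.assoc]

instance : (P₂ p y T).toFunctor.IsEquivalence where

end Source

/-- **Stacks over stacks.**  If `D` and `X` are stacks in groupoids over `(C, J)` and `F : X ⟶ D`
is fibred in groupoids, then `X` is a stack in groupoids over `D` for the inherited topology. -/
theorem isStack_over (J : GrothendieckTopology C) {X : Type u₃} [Category.{v₃} X] (F : X ⥤ D)
    (hF : FibCat.IsFibGrpd F) (hD : Stk.IsStack J (DC p)) (hX : Stk.IsStack J (XC p F)) :
    Stk.IsStack (p.restrictedTopology J) (XD F) := by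
  refine ⟨hF, fun y T hT => ?_⟩
  have hR : R p y T ∈ J (p.obj y) := (mem_restrictedTopology_iff p J T).mp hT
  have h1 : (Stk.restr (Stk.sieveIncl (R p y T)) (XC p F)).IsEquivalence := hX.2 _ hR
  have h2 : (Stk.restr (Stk.sieveIncl (R p y T)) (DC p)).IsEquivalence := hD.2 _ hR
  have h1' : (Stk.restr (ι₁₂ p y T) (XC p F)).IsEquivalence :=
    restr_isEquivalence_of_square (ι₁₂ p y T) (Stk.sieveIncl (R p y T)) (P₁ p y) (P₂ p y T)
      (sq p y T) (XC p F) hX.1 h1
  have h2' : (Stk.restr (ι₁₂ p y T) (DC p)).IsEquivalence :=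
    restr_isEquivalence_of_square (ι₁₂ p y T) (Stk.sieveIncl (R p y T)) (P₁ p y) (P₂ p y T)
      (sq p y T) (DC p) hD.1 h2
  exact isEquivalence_over (u₁ p y) (ι₁₂ p y T) hF h1' h2'.full h2'.faithful

end Groth.Agent.Lib.Helper24.StkOverTop
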