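import Groth.Agent.Lib.Helper24.StkFpCrit
import Groth.Agent.Lib.Helper24.StkOverTop
import Groth.Agent.Lib.Helper24.FibSet4
set_option autoImplicit false
open CategoryTheory
universe u v u₂ v₂ u₃ v₃
set_option backward.isDefEq.respectTransparency false
set_option backward.isDefEq.respectTransparency.types false

namespace Groth.Agent.Lib.Helper24.StkFpCrit
open Groth.Agent.Lib.Helper24.StkOver Groth.Agent.Lib.Helper24.StkSlice
open Groth.Agent.Lib.Helper26.FibGrpdTop

variable {C : Type u} [Category.{v} C]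

instance isFibGrpd_overForget (U : C) : FibCat.IsFibGrpd (Over.forget U) :=
  (FibSet.isFibSet_overForget U).1

/-- the topology induced on a slice is the one inherited along the forgetful functor -/
theorem restrictedTopology_overForget (J : GrothendieckTopology C) (U : C) :
    (Over.forget U).restrictedTopology J = J.over U := by
  ext a T
  rw [mem_restrictedTopology_iff, GrothendieckTopology.mem_over_iff]
  rfl

/-- **Criterion.**  If `𝒯` and all slices `C/U` are stacks in groupoids and all 2-fibre products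
`(C/U) ×_𝒯 𝒮` are stacks in groupoids over `C`, then `𝒮` (fibred in groupoids) is a stack. -/
theorem isStack_of_fp_isStack (J : GrothendieckTopology C) {𝒮 : BasedCategory.{v₂, u₂} C}
    {𝒯 : BasedCategory.{v₃, u₃} C} (h𝒮 : FibCat.IsFibGrpd 𝒮.p) (h𝒯 : Stk.IsStack J 𝒯)
    (F : 𝒮 ⥤ᵇ 𝒯) (hov : ∀ U : C, Stk.IsStack J (FibCat.overCat U))
    (hfp : ∀ (U : C) (y : FibCat.overCat U ⥤ᵇ 𝒯), Stk.IsStack J (FibCat.fp y F)) :
    Stk.IsStack J 𝒮 := by
  refine ⟨h𝒮, fun U R hR => ?_⟩
  refine isStackFor_of_fp F R h𝒯.1 (h𝒯.2 R hR) (fun y => ?_)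
  refine restr_incR_isEquivalence R J hR (Q F y) ?_
  have hπ : FibCat.IsFibGrpd (π F y) :=
    FibSet.isFibGrpd_of_comp_overForget (π F y) (hfp U y).1
  have := StkOverTop.isStack_over (Over.forget U) J (π F y) hπ (hov U) (hfp U y)
  rwa [restrictedTopology_overForget] at this

end Groth.Agent.Lib.Helper24.StkFpCrit
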