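import Groth.Agent.Lib.Helper24.AlgStRepS
import Groth.Agent.Lib.Helper24.StkFpCrit2
set_option autoImplicit false
open CategoryTheory AlgebraicGeometry Opposite
universe w₁ v₁ w₂ v₂ w₃ v₃ u
set_option backward.isDefEq.respectTransparency false
set_option backward.isDefEq.respectTransparency.types false

namespace Groth.Agent.Lib.Helper24.AlgStCalc
open Groth.Agent.Lib.Helper24.PshFun Groth.Agent.Lib.Helper24.FibCatFpMap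
open Groth.Agent.Lib.Helper24.FibCatEquiv Groth.Agent.Lib.Helper24.FibCatFpGen
open Groth.Agent.Lib.Helper24.PshBridge Groth.Agent.Lib.Helper24.AlgStRep
open Groth.Agent.Lib.Helper24.AlgStBridge Groth.Agent.Lib.Helper24.AlgStBoot
open Groth.Agent.Lib.Helper24.AlgStRepS
open CategoryTheory.Limits

variable {S : Scheme.{u}}

/-- `RepByAlgSp` transfers along equivalences -/
theorem repByAlgSp_of_isEquivOver {𝒳 : BasedCategory.{v₁, w₁} (Over S)}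
    {𝒴 : BasedCategory.{v₂, w₂} (Over S)} (e : 𝒳 ⥤ᵇ 𝒴) (he : FibCat.IsEquivOver e)
    (h : AlgSt.RepByAlgSp 𝒳) : AlgSt.RepByAlgSp 𝒴 := by
  obtain ⟨X, eX, heX⟩ := h
  exact ⟨X, BasedFunctor.comp eX e, isEquivOver_comp _ _ heX he⟩

theorem repByAlgSp_iff_of_isEquivOver {𝒳 : BasedCategory.{v₁, w₁} (Over S)}
    {𝒴 : BasedCategory.{v₂, w₂} (Over S)} (e : 𝒳 ⥤ᵇ 𝒴) (he : FibCat.IsEquivOver e) :
    AlgSt.RepByAlgSp 𝒳 ↔ AlgSt.RepByAlgSp 𝒴 := by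
  refine ⟨repByAlgSp_of_isEquivOver e he, ?_⟩
  obtain ⟨e', he'⟩ := exists_inverse_isEquivOver e he
  exact repByAlgSp_of_isEquivOver e' he'

theorem repByAlgSp_overCat (U : Over S) : AlgSt.RepByAlgSp (FibCat.overCat U) :=
  ⟨⟨(AlgSp.yon S).obj U, AlgSp.IsAlgSpace.yon_obj U⟩, AlgSt.toOverCat U, isEquivOver_toOverCat U⟩

/-- symmetric form of `repByAlgSp_fp` -/
theorem repByAlgSp_fp' {𝒳 𝒴 𝒵 : AlgSt.Cat S}
    (h𝒳 : FibCat.IsFibGrpd 𝒳.p) (h𝒴 : FibCat.IsFibGrpd 𝒴.p) (h𝒵 : FibCat.IsFibGrpd 𝒵.p)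
    (f : 𝒳 ⥤ᵇ 𝒴) (g : 𝒵 ⥤ᵇ 𝒴) (hf : AlgSt.RepByAlgSp1 f) (hZ : AlgSt.RepByAlgSp 𝒵) :
    AlgSt.RepByAlgSp (FibCat.fp f g) :=
  repByAlgSp_of_isEquivOver _ (Groth.Agent.Lib.Helper24.FibCatFpSwap.isEquivOver_swap g f)
    (repByAlgSp_fp h𝒳 h𝒴 h𝒵 f g hf hZ)

/-- S12788 -/
theorem forall_repByAlgSp1_iff {𝒳 : AlgSt.Cat S} (h𝒳 : FibCat.IsFibGrpd 𝒳.p) :
    (∀ (U : Over S) (x : FibCat.overCat U ⥤ᵇ 𝒳), AlgSt.RepByAlgSp1 x) ↔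
      ∀ (𝒰 : AlgSt.Cat S), FibCat.IsFibGrpd 𝒰.p → AlgSt.RepByAlgSp 𝒰 →
        ∀ (x : 𝒰 ⥤ᵇ 𝒳), AlgSt.RepByAlgSp1 x := by
  constructor
  · intro h 𝒰 h𝒰 hU x T y
    exact repByAlgSp_fp' (StkFpCrit.isFibGrpd_overForget T) h𝒳 h𝒰 y x (h T y) hU
  · intro h U x
    exact h (FibCat.overCat U) (StkFpCrit.isFibGrpd_overForget U) (repByAlgSp_overCat U) x

end Groth.Agent.Lib.Helper24.AlgStCalc
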