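import Groth.Agent.Lib.Helper24.AlgStSetoidSp
import Groth.Agent.Lib.Helper24.AlgStSetoid
import Groth.Agent.Lib.Helper24.AlgStFpAlg
import Groth.Agent.Lib.Helper24.AlgStAtlas
import Groth.Agent.Lib.Helper24.AlgStCalc
import Groth.Agent.Lib.Helper24.AlgStBoot
set_option autoImplicit false
open CategoryTheory AlgebraicGeometry Opposite
universe u

/-! A morphism of algebraic stacks is representable by algebraic spaces iff it is faithful. -/

namespace Groth.Agent.Lib.Helper24.AlgStFaithRep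
open Groth.Agent.Lib.Helper24

variable {S : Scheme.{u}} {𝒳 𝒴 : AlgSt.Cat S}

/-- an algebraic stack fibred in setoids is representable by an algebraic space -/
theorem repByAlgSp_of_isAlgStack_of_isFibSetoid (h𝒳 : AlgSt.IsAlgStack Scheme.fppfPrecoverage 𝒳)
    (h : FibCat.IsFibSetoid 𝒳.p) : AlgSt.RepByAlgSp 𝒳 :=
  AlgStSetoidSp.repByAlgSp_of_isFibSetoid 𝒳 h𝒳.isStack h𝒳.atlas h

/-- a faithful morphism of algebraic stacks is representable by algebraic spaces -/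
theorem repByAlgSp1_of_faithful (h𝒳 : AlgSt.IsAlgStack Scheme.fppfPrecoverage 𝒳)
    (h𝒴 : AlgSt.IsAlgStack Scheme.fppfPrecoverage 𝒴) (f : 𝒳 ⥤ᵇ 𝒴) [f.toFunctor.Faithful] :
    AlgSt.RepByAlgSp1 f := by
  intro U y
  have hUs : FibCat.IsFibSetoid (FibCat.overCat U).p :=
    AlgStSetoid.isFibSetoid_of_repByAlgSp (AlgStCalc.repByAlgSp_overCat U)
  have h1 : FibCat.IsFibSetoid (FibCat.fp f y).p :=
    Groth.Agent.S12800.result h𝒴.isStack.1 h𝒳.isStack.1 hUs f y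
  have h2 : FibCat.IsFibSetoid (FibCat.fp y f).p :=
    FibSetoid.isFibSetoid_of_isEquivOver _ (FibCatFpSwap.isEquivOver_swap y f) h1
  have halg : AlgSt.IsAlgStack Scheme.fppfPrecoverage (FibCat.fp y f) :=
    AlgStFpAlg.isAlgStack_fp h𝒴.isStack h𝒴.diag
      (AlgStAtlas.isAlgStack_of_repByAlgSp (AlgStCalc.repByAlgSp_overCat U)) h𝒳 y f
  exact AlgStSetoidSp.repByAlgSp_of_isFibSetoid _ halg.isStack halg.atlas h2

theorem repByAlgSp1_iff_faithful (h𝒳 : AlgSt.IsAlgStack Scheme.fppfPrecoverage 𝒳)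
    (h𝒴 : AlgSt.IsAlgStack Scheme.fppfPrecoverage 𝒴) (f : 𝒳 ⥤ᵇ 𝒴) :
    AlgSt.RepByAlgSp1 f ↔ f.toFunctor.Faithful :=
  ⟨fun h => AlgStSetoid.faithful_of_repByAlgSp1 h𝒳.isStack.1 h𝒴.isStack.1 f h,
    fun _ => repByAlgSp1_of_faithful h𝒳 h𝒴 f⟩

end Groth.Agent.Lib.Helper24.AlgStFaithRep
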