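import Groth.Agent.Lib.Helper24.AlgStInertia
import Groth.Agent.Lib.Helper24.AlgStDiagLft
import Groth.Agent.Lib.Helper24.AlgStMono2
import Groth.Agent.Lib.Helper24.AlgStIso
import Groth.Agent.Lib.Helper14.AlgSpUnram
set_option autoImplicit false
set_option linter.unusedSectionVars false
open CategoryTheory CategoryTheory.Limits AlgebraicGeometry Opposite
universe u
set_option backward.isDefEq.respectTransparency false
set_option backward.isDefEq.respectTransparency.types false

namespace Groth.Agent.Lib.Helper24.AlgStInertia2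
open AlgSp Groth.Agent.Lib.Helper14.AS
open Groth.Agent.Lib.Helper24.AlgStSchLocal Groth.Agent.Lib.Helper24.AlgStRepS
open Groth.Agent.Lib.Helper24.AlgStProps Groth.Agent.Lib.Helper24.AlgStGC
open Groth.Agent.Lib.Helper24.AlgStSepDiag Groth.Agent.Lib.Helper24.AlgStSep2
open Groth.Agent.Lib.Helper24.AlgStRep Groth.Agent.Lib.Helper24.AlgStSmLoc
open Groth.Agent.Lib.Helper24.FibCatInertiaFp Groth.Agent.Lib.Helper24.AlgStBoot
open Groth.Agent.Lib.Helper24.AlgStInertia Groth.Agent.Lib.Helper24.AlgStDiagLft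
open Groth.Agent.Lib.Helper24.AlgStMono Groth.Agent.Lib.Helper24.AlgStIso

variable {S : Scheme.{u}} {𝒳 𝒴 : AlgSt.Cat S}

/-- a morphism representable by algebraic spaces, locally of finite type, whose diagonal is an
open immersion is unramified -/
theorem repByAlgSpWith_unramified_of_diag {𝒜 ℬ : AlgSt.Cat S} (g : 𝒜 ⥤ᵇ ℬ)
    (hg : AlgSt.RepByAlgSp1 g)
    (hl : AlgSt.RepByAlgSpWith (AlgSp.LocP @LocallyOfFiniteType) g)
    (hΔ : AlgSt.RepByAlgSpWith (RepWith @IsOpenImmersion) (FibCat.diag g)) :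
    AlgSt.RepByAlgSpWith (AlgSp.LocP (@LocallyOfFiniteType ⊓ @FormallyUnramified)) g := by
  have h1 := (repByAlgSpWith_diag_iff_diagonal (RepWith @IsOpenImmersion) (nice_repWith _) g hg).1 hΔ
  have h2 := repByAlgSpWith_and
    (fun (X Y : AlgSp.Sp S) (a : X ⟶ Y) => RepWith @IsOpenImmersion (pullback.diagonal a))
    (AlgSp.LocP @LocallyOfFiniteType) (phat_respectsIso_of _) g h1 hl
  exact repByAlgSpWith_mono'
    (fun X Y hX _ a ha => Groth.Agent.Lib.Helper14.AS.locP_unramified_of_diagonal hX a ha.2 ha.1) g h2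

/-- the diagonal of an unramified morphism representable by algebraic spaces is an open immersion -/
theorem repByAlgSpWith_diag_of_unramified {𝒜 ℬ : AlgSt.Cat S} (g : 𝒜 ⥤ᵇ ℬ)
    (hg : AlgSt.RepByAlgSp1 g)
    (hu : AlgSt.RepByAlgSpWith (AlgSp.LocP (@LocallyOfFiniteType ⊓ @FormallyUnramified)) g) :
    AlgSt.RepByAlgSpWith (RepWith @IsOpenImmersion) (FibCat.diag g) := by
  refine (repByAlgSpWith_diag_iff_diagonal (RepWith @IsOpenImmersion) (nice_repWith _) g hg).2 ?_
  exact repByAlgSpWith_mono'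
    (fun X Y hX hY a ha =>
      Groth.Agent.Lib.Helper14.AS.repWith_isOpenImmersion_diagonal_of_unramified hX hY a ha) g hu

/-- the inertia is unramified iff the diagonal is unramified iff the neutral section is an open
immersion -/
theorem unramified_inertia_tfae (h𝒳 : AlgSt.IsAlgStack Scheme.fppfPrecoverage 𝒳)
    (h𝒴 : AlgSt.IsAlgStack Scheme.fppfPrecoverage 𝒴) (f : 𝒳 ⥤ᵇ 𝒴) :
    [AlgSt.RepByAlgSpWith (AlgSp.LocP (@LocallyOfFiniteType ⊓ @FormallyUnramified))
        (FibCat.inertiaToBase f),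
      AlgSt.RepByAlgSpWith (AlgSp.LocP (@LocallyOfFiniteType ⊓ @FormallyUnramified))
        (FibCat.diag f),
      AlgSt.IsOpenImm (FibCat.inertiaNeutral f)].TFAE := by
  have hΔ := repByAlgSp1_diag h𝒳 h𝒴 f
  tfae_have 2 → 1 := fun h => repByAlgSpWith_inertiaToBase _ f h
  tfae_have 1 → 3 := fun h => by
    have h1 := repByAlgSpWith_diag_of_unramified (FibCat.inertiaToBase f)
      (repByAlgSp1_inertiaToBase h𝒳 h𝒴 f) h
    exact repByAlgSpWith_inertiaNeutral_of_diag h𝒳 h𝒴 f _ (nice_repWith _)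
      (stableComp_repWith _) (hasIsos_repWith _) h1
  tfae_have 3 → 2 := fun h => by
    have h1 : AlgSt.RepByAlgSpWith (RepWith @IsOpenImmersion) (FibCat.diag (FibCat.diag f)) :=
      (repByAlgSpWith_inertiaNeutral_iff _ f).1 h
    exact repByAlgSpWith_unramified_of_diag (FibCat.diag f) hΔ
      (repByAlgSpWith_lft_relDiag h𝒳 h𝒴 f) h1
  tfae_finish

end Groth.Agent.Lib.Helper24.AlgStInertia2
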