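import Groth.Agent.Lib.Helper24.AlgStPts4
import Groth.Agent.Lib.Helper24.AlgStDiagLft
set_option autoImplicit false
open CategoryTheory AlgebraicGeometry Opposite
universe w₁ v₁ w₂ v₂ w₃ v₃ u
set_option backward.isDefEq.respectTransparency false
set_option backward.isDefEq.respectTransparency.types false

/-! Points of algebraic stacks: surjectivity criterion, charts from algebraic spaces, independence
of the topology of the chart, local quasi-compactness, quasi-compactness. -/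

noncomputable section

namespace Groth.Agent.Lib.Helper24.AlgStPts5
open AlgSt Groth.Agent.Lib.Helper24.AlgStPts1 Groth.Agent.Lib.Helper24.AlgStPts2
open Groth.Agent.Lib.Helper24.AlgStPts3 Groth.Agent.Lib.Helper24.AlgStPts4
open Groth.Agent.Lib.Helper24.AlgStRepS Groth.Agent.Lib.Helper24.PshBridge
open Groth.Agent.Lib.Helper24.AlgStBridge Groth.Agent.Lib.Helper24.AlgStRep
open Groth.Agent.Lib.Helper24.FibCatFpMap
open Groth.Agent.Lib.Helper24.FibCatEquiv Groth.Agent.Lib.Helper24.FibCatFpGen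
open Groth.Agent.Lib.Helper24.AlgStBoot
open Groth.Agent.Lib.Helper24.AlgStSchLocal
open Groth.Agent.Lib.Helper24.AlgStGC
open Groth.Agent.Lib.Helper24.AlgStProps Groth.Agent.Lib.Helper24.AlgStSmooth
open Groth.Agent.Lib.Helper24.AlgStFpAlg Groth.Agent.Lib.Helper24.AlgStSmLoc
open Groth.Agent.Lib.Helper24.AlgStQC Groth.Agent.Lib.Helper24.AlgStCalc
open Groth.Agent.Lib.Helper24.AlgStDiag Groth.Agent.Lib.Helper24.FibCatOverMap
open Groth.Agent.Lib.Helper24.AlgStAtlas Groth.Agent.Lib.Helper24.AlgStDiagLft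

variable {S : Scheme.{u}}

/-- base change of a functor surjective on points -/
theorem isSurjective_fpFst {𝒳 𝒴 𝒵 : AlgSt.Cat S} (h𝒳 : FibCat.IsFibGrpd 𝒳.p)
    (h𝒴 : FibCat.IsFibGrpd 𝒴.p) (h𝒵 : FibCat.IsFibGrpd 𝒵.p) (f : 𝒳 ⥤ᵇ 𝒴) (g : 𝒵 ⥤ᵇ 𝒴)
    (hf : AlgSt.IsSurjective f) : AlgSt.IsSurjective (FibCat.fpFst g f) := by
  intro z
  obtain ⟨x, hx⟩ := hf (Points.map g z)
  obtain ⟨w, h1, -⟩ := Groth.Agent.Lib.Helper26.StackPoints.exists_points_fp h𝒳 h𝒴 h𝒵 f g z x hx.symm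
  exact ⟨w, h1⟩

/-- S12819 -/
theorem isSurjective_iff_repByAlgSpWith {𝒳 𝒴 : AlgSt.Cat S} (h𝒳 : FibCat.IsFibGrpd 𝒳.p)
    (h𝒴 : FibCat.IsFibGrpd 𝒴.p) (f : 𝒳 ⥤ᵇ 𝒴) (hf : AlgSt.RepByAlgSp1 f) :
    AlgSt.IsSurjective f ↔ AlgSt.RepByAlgSpWith AlgSp.IsSurjectiveMor f := by
  refine ⟨fun h U y => ?_, surjective_map_of_repByAlgSpWith h𝒴 f⟩
  obtain ⟨F, e, he⟩ := hf U y
  refine ⟨F, e, he, (surjective_map_iff _).1 ?_⟩
  have hU : FibCat.IsFibGrpd (FibCat.overCat U).p :=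
    Groth.Agent.Lib.Helper24.StkFpCrit.isFibGrpd_overForget U
  have h1 := isSurjective_fpFst h𝒳 h𝒴 hU f y h
  intro z
  obtain ⟨w, rfl⟩ := h1 z
  obtain ⟨w', rfl⟩ := (bijective_map_of_isEquivOver e he).2 w
  exact ⟨w', map_comp _ _ _⟩

/-- a smooth surjective scheme chart of an algebraic stack is surjective on points -/
theorem surjective_ofChart {𝒳 : AlgSt.Cat S} (h𝒳 : FibCat.IsFibGrpd 𝒳.p) {U : Over S}
    (x : FibCat.overCat U ⥤ᵇ 𝒳) (hx : AlgSt.RepByAlgSpWith AlgSp.IsSurjectiveMor x) :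
    Function.Surjective (Points.ofChart x) := by
  intro z
  obtain ⟨β, rfl⟩ := surjective_map_of_repByAlgSpWith h𝒳 x hx z
  obtain ⟨t, rfl⟩ := (bijective_sch U).2 β
  exact ⟨t, rfl⟩

/-- S12821 -/
theorem isOpenMap_map_of_flat_lfp {𝒳 : AlgSt.Cat S}
    (h𝒳 : AlgSt.IsAlgStack Scheme.fppfPrecoverage 𝒳) (U : AlgSp.Space S)
    (u : AlgSt.ofSp U.obj ⥤ᵇ 𝒳) (hu₁ : AlgSt.RepByAlgSpWith (AlgSp.LocP @Flat) u)
    (hu₂ : AlgSt.RepByAlgSpWith (AlgSp.LocP @LocallyOfFinitePresentation) u) :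
    IsOpenMap (Points.map u) := by
  intro O hO
  obtain ⟨B, b, hb, hb'⟩ := hasAtlas_smooth_ofSp U
  have hB : FibCat.IsFibGrpd (FibCat.overCat B).p :=
    Groth.Agent.Lib.Helper24.StkFpCrit.isFibGrpd_overForget B
  have hU : FibCat.IsFibGrpd (AlgSt.ofSp U.obj).p := Stk.isFibGrpd_ofPsh _
  have h1 : AlgSt.RepByAlgSpWith (AlgSp.LocP @Flat) (BasedFunctor.comp b u) :=
    repByAlgSpWith_comp hB hU h𝒳.isStack.1 _ good_flat.nice stableComp_flat b u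
      (repByAlgSpWith_locP_mono smooth_le_flat b hb) hu₁
  have h2 : AlgSt.RepByAlgSpWith (AlgSp.LocP @LocallyOfFinitePresentation) (BasedFunctor.comp b u) :=
    repByAlgSpWith_comp hB hU h𝒳.isStack.1 _ good_lfp.nice stableComp_lfp b u
      (repByAlgSpWith_locP_mono smooth_le_lfp b hb) hu₂
  have e1 : Points.map u '' O = Points.ofChart (BasedFunctor.comp b u) '' (Points.ofChart b ⁻¹' O) := by
    ext z
    constructor
    · rintro ⟨w, hw, rfl⟩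
      obtain ⟨t, rfl⟩ := surjective_ofChart hU b hb' w
      exact ⟨t, hw, rfl⟩
    · rintro ⟨t, ht, rfl⟩
      exact ⟨Points.ofChart b t, ht, rfl⟩
  rw [e1]
  exact isOpenMap_ofChart h𝒳 _ h1 h2 _
    ((continuous_ofChart (isAlgStack_ofSp U) b).isOpen_preimage O hO)

/-- S12823 -/
theorem isOpen_iff_preimage {𝒳 : AlgSt.Cat S}
    (h𝒳 : AlgSt.IsAlgStack Scheme.fppfPrecoverage 𝒳) (U : AlgSp.Space S)
    (p : AlgSt.ofSp U.obj ⥤ᵇ 𝒳) (hp₁ : AlgSt.RepByAlgSpWith (AlgSp.LocP @Flat) p)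
    (hp₂ : AlgSt.RepByAlgSpWith (AlgSp.LocP @LocallyOfFinitePresentation) p)
    (hp₃ : AlgSt.RepByAlgSpWith AlgSp.IsSurjectiveMor p) (W : Set (Points 𝒳)) :
    IsOpen W ↔ IsOpen (Points.map p ⁻¹' W) := by
  constructor
  · exact fun h => (continuous_map h𝒳 p).isOpen_preimage W h
  · intro h
    have := isOpenMap_map_of_flat_lfp h𝒳 U p hp₁ hp₂ _ h
    rwa [Set.image_preimage_eq _ (surjective_map_of_repByAlgSpWith h𝒳.isStack.1 p hp₃)] at this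

/-- S12824 -/
theorem exists_compact_open_nhds {𝒳 : AlgSt.Cat S}
    (h𝒳 : AlgSt.IsAlgStack Scheme.fppfPrecoverage 𝒳) (x : Points 𝒳) (W : Set (Points 𝒳))
    (hW : IsOpen W) (hx : x ∈ W) :
    ∃ V : Set (Points 𝒳), IsOpen V ∧ IsCompact V ∧ x ∈ V ∧ V ⊆ W := by
  obtain ⟨A, a, ha, ha'⟩ := h𝒳.atlas
  obtain ⟨t, rfl⟩ := surjective_ofChart h𝒳.isStack.1 a ha' x
  have hc := continuous_ofChart h𝒳 a
  have ho := isOpenMap_ofChart h𝒳 a (repByAlgSpWith_locP_mono smooth_le_flat a ha)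
    (repByAlgSpWith_locP_mono smooth_le_lfp a ha)
  obtain ⟨V, hV, htV, hVW⟩ := exists_isAffineOpen_mem_and_subset (x := t)
    (U := ⟨Points.ofChart a ⁻¹' W, hc.isOpen_preimage W hW⟩) hx
  refine ⟨Points.ofChart a '' (V : Set A.left), ho _ V.isOpen, hV.isCompact.image hc,
    ⟨t, htV, rfl⟩, ?_⟩
  rintro _ ⟨s, hs, rfl⟩
  exact hVW hs

end Groth.Agent.Lib.Helper24.AlgStPts5
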