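import Groth.Agent.Lib.Helper24.FibCatInertiaFp
import Groth.Agent.Lib.Helper24.FibCatFaithful
import Groth.Agent.Lib.Helper24.FibCatEquiv3
import Groth.Agent.Lib.Helper24.AlgStBridge
set_option autoImplicit false
set_option linter.unusedSectionVars false
open CategoryTheory
universe u v u₂ v₂ u₃ v₃ u₄ v₄
set_option backward.isDefEq.respectTransparency false
set_option backward.isDefEq.respectTransparency.types false

/-! The structure functor of the relative inertia is an equivalence exactly when the kernels of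
`Aut(x) → Aut(f x)` are trivial; two-out-of-three for equivalences over the base. -/

namespace Groth.Agent.Lib.Helper24.FibCatInertiaEquiv
open Groth.Agent.Lib.Helper24.FibCatFpGen Groth.Agent.Lib.Helper24.FibCatEquiv
open Groth.Agent.Lib.Helper24.FibCatInertia Groth.Agent.Lib.Helper24.FibCatInertiaFp
open Groth.Agent.Lib.Helper24.AlgStBridge Groth.Agent.Lib.Helper24.AlgStRep

variable {C : Type u} [Category.{v} C]
variable {𝒳 : BasedCategory.{v₂, u₂} C} {𝒴 : BasedCategory.{v₃, u₃} C}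
  {𝒵 : BasedCategory.{v₄, u₄} C}

theorem isEquivOver_of_iso {F G : 𝒳 ⥤ᵇ 𝒴} (e : F ≅ G) (hF : FibCat.IsEquivOver F) :
    FibCat.IsEquivOver G := by
  obtain ⟨H, ⟨α⟩, ⟨β⟩⟩ := hF
  exact ⟨H, ⟨(whiskerRightIso e.symm H) ≪≫ α⟩, ⟨(whiskerLeftIso H e.symm) ≪≫ β⟩⟩

theorem isEquivOver_of_comp_left (F : 𝒳 ⥤ᵇ 𝒴) (G : 𝒴 ⥤ᵇ 𝒵) (hF : FibCat.IsEquivOver F)
    (hFG : FibCat.IsEquivOver (BasedFunctor.comp F G)) : FibCat.IsEquivOver G := by
  obtain ⟨F', ⟨α⟩, ⟨β⟩⟩ := hF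
  have hF' : FibCat.IsEquivOver F' := ⟨F, ⟨β⟩, ⟨α⟩⟩
  have h := isEquivOver_comp F' (BasedFunctor.comp F G) hF' hFG
  have e : BasedFunctor.comp F' (BasedFunctor.comp F G) ≅ G :=
    whiskerRightIso (𝒳 := 𝒴) (𝒴 := 𝒴) (𝒵 := 𝒵) (F := BasedFunctor.comp F' F)
      (G := BasedFunctor.id 𝒴) β G
  exact isEquivOver_of_iso e h

theorem isEquivOver_of_comp_right (F : 𝒳 ⥤ᵇ 𝒴) (G : 𝒴 ⥤ᵇ 𝒵) (hG : FibCat.IsEquivOver G)
    (hFG : FibCat.IsEquivOver (BasedFunctor.comp F G)) : FibCat.IsEquivOver F := by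
  obtain ⟨G', ⟨α⟩, ⟨β⟩⟩ := hG
  have hG' : FibCat.IsEquivOver G' := ⟨G, ⟨β⟩, ⟨α⟩⟩
  have h := isEquivOver_comp (BasedFunctor.comp F G) G' hFG hG'
  have e : BasedFunctor.comp (BasedFunctor.comp F G) G' ≅ F :=
    whiskerLeftIso (𝒳 := 𝒳) (𝒴 := 𝒴) (𝒵 := 𝒴) F (G := BasedFunctor.comp G G')
      (H := BasedFunctor.id 𝒴) α
  exact isEquivOver_of_iso e h

variable (f : 𝒳 ⥤ᵇ 𝒴)

/-- the inertia is trivial iff all kernels are trivial -/
theorem isEquivOver_inertiaToBase_iff :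
    FibCat.IsEquivOver (FibCat.inertiaToBase f) ↔
      ∀ x : FibCat.InertiaObj f, x.aut.hom = 𝟙 x.pt := by
  constructor
  · intro h x
    obtain ⟨⟨hfull, _⟩, _⟩ := props_of_isEquivOver _ h
    exact aut_eq_id_of_full x
  · intro h
    refine ⟨FibCat.inertiaNeutral f, ⟨?_⟩, ⟨Iso.refl _⟩⟩
    refine BasedNatIso.mkNatIso (NatIso.ofComponents (fun x =>
      { hom := ⟨𝟙 x.pt, by
          change 𝟙 x.pt ≫ 𝟙 x.pt = 𝟙 x.pt ≫ x.aut.hom
          rw [h x]⟩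
        inv := ⟨𝟙 x.pt, by
          change x.aut.hom ≫ 𝟙 x.pt = 𝟙 x.pt ≫ 𝟙 x.pt
          rw [h x]⟩
        hom_inv_id := FibCat.InertiaObj.hom_ext (Category.id_comp _)
        inv_hom_id := FibCat.InertiaObj.hom_ext (Category.id_comp _) }) ?_) ?_
    · intro x y m
      apply FibCat.InertiaObj.hom_ext
      change m.hom ≫ 𝟙 _ = 𝟙 _ ≫ m.hom
      simp
    · intro x
      rw [FibCatInertia.isHomLift_iff]
      change 𝒳.p.IsHomLift (𝟙 _) (𝟙 x.pt)
      exact IsHomLift.id rfl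

theorem isEquivOver_inertiaNeutral_iff :
    FibCat.IsEquivOver (FibCat.inertiaNeutral f) ↔
      FibCat.IsEquivOver (FibCat.inertiaToBase f) := by
  have hid : FibCat.IsEquivOver
      (BasedFunctor.comp (FibCat.inertiaNeutral f) (FibCat.inertiaToBase f)) :=
    isEquivOver_id 𝒳
  exact ⟨fun h => isEquivOver_of_comp_left _ _ h hid, fun h => isEquivOver_of_comp_right _ _ h hid⟩

theorem isEquivOver_diag_diag_iff :
    FibCat.IsEquivOver (FibCat.diag (FibCat.diag f)) ↔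
      FibCat.IsEquivOver (FibCat.inertiaToBase f) := by
  rw [← isEquivOver_inertiaNeutral_iff]
  constructor
  · intro h
    exact isEquivOver_of_comp_right _ (E f) (isEquivOver_E f)
      (isEquivOver_of_iso (neutralIso f).symm h)
  · intro h
    exact isEquivOver_of_iso (neutralIso f) (isEquivOver_comp _ _ h (isEquivOver_E f))

/-- kernel-triviality in terms of endomorphisms lying over identities -/
theorem ker_trivial_iff (h𝒳 : FibCat.IsFibGrpd 𝒳.p) :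
    (∀ x : FibCat.InertiaObj f, x.aut.hom = 𝟙 x.pt) ↔
      ∀ (a : 𝒳.obj) (φ : a ⟶ a), 𝒳.p.map φ = 𝟙 (𝒳.p.obj a) →
        f.toFunctor.map φ = 𝟙 (f.toFunctor.obj a) → φ = 𝟙 a := by
  constructor
  · intro h a φ h1 h2
    have hl : 𝒳.p.IsHomLift (𝟙 (𝒳.p.obj a)) φ := by
      rw [← h1]; infer_instance
    have hiso : IsIso φ :=
      Groth.Agent.Lib.Helper24.FibGrpd.isIso_of_isFibGrpd 𝒳.p h𝒳 (𝟙 (𝒳.p.obj a)) φ
    exact h ⟨a, asIso φ, h2⟩
  · intro h x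
    refine h x.pt x.aut.hom ?_ x.map_aut
    have hl := aut_isHomLift f x
    have := IsHomLift.fac' 𝒳.p (𝟙 (𝒳.p.obj x.pt)) x.aut.hom
    simpa using this

theorem faithful_iff_ker_trivial (h𝒳 : FibCat.IsFibGrpd 𝒳.p) (h𝒴 : FibCat.IsFibGrpd 𝒴.p) :
    f.toFunctor.Faithful ↔
      ∀ (a : 𝒳.obj) (φ : a ⟶ a), 𝒳.p.map φ = 𝟙 (𝒳.p.obj a) →
        f.toFunctor.map φ = 𝟙 (f.toFunctor.obj a) → φ = 𝟙 a := by
  constructor
  · intro hf a φ _ h2
    apply f.toFunctor.map_injective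
    rw [h2, f.toFunctor.map_id]
  · intro h
    apply Groth.Agent.Lib.Helper24.FibCatFaithful.faithful_of_aut f h𝒳 h𝒴
    intro x u hul hfu
    refine h x u ?_ hfu
    have := IsHomLift.fac' 𝒳.p (𝟙 (𝒳.p.obj x)) u
    simpa using this

theorem faithful_iff_isEquivOver_inertiaToBase (h𝒳 : FibCat.IsFibGrpd 𝒳.p)
    (h𝒴 : FibCat.IsFibGrpd 𝒴.p) :
    f.toFunctor.Faithful ↔ FibCat.IsEquivOver (FibCat.inertiaToBase f) := by
  rw [faithful_iff_ker_trivial f h𝒳 h𝒴, isEquivOver_inertiaToBase_iff, ker_trivial_iff f h𝒳]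

end Groth.Agent.Lib.Helper24.FibCatInertiaEquiv
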