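import Groth.Agent.Lib.Helper24.AlgStClosedSub
import Groth.Agent.Lib.Helper24.AlgStInertia2
import Groth.Agent.Lib.Helper24.AlgStDiagAtlas
import Groth.Agent.Lib.Helper24.AlgStFaithRep
import Groth.Agent.Lib.Helper24.FibCatInertiaEquiv
import Groth.Agent.Lib.Helper14.Birat4
import Groth.Agent.Lib.Helper24.AlgStPts5
set_option autoImplicit false
open CategoryTheory AlgebraicGeometry Opposite
universe w₁ v₁ w₂ v₂ w₃ v₃ w₄ v₄ u
set_option backward.isDefEq.respectTransparency false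
set_option backward.isDefEq.respectTransparency.types false

/-! Morphisms of Deligne–Mumford stacks injective on automorphism groups of geometric points. -/

namespace Groth.Agent.Lib.Helper24.AlgStAutInj
open Groth.Agent.Lib.Helper24.FibCatFpMap
open Groth.Agent.Lib.Helper24.FibCatEquiv Groth.Agent.Lib.Helper24.FibCatFpGen
open Groth.Agent.Lib.Helper24.AlgStRepAlg
open Groth.Agent.Lib.Helper24.AlgStRep Groth.Agent.Lib.Helper24.AlgStRepS
open Groth.Agent.Lib.Helper24.AlgStSchLocal Groth.Agent.Lib.Helper24.AlgStLocQ1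
open Groth.Agent.Lib.Helper24.AlgStLocQ5 Groth.Agent.Lib.Helper24.AlgStDescent
open Groth.Agent.Lib.Helper24.AlgStEqv Groth.Agent.Lib.Helper24.AlgStCalc
open Groth.Agent.Lib.Helper24.AlgStBridge Groth.Agent.Lib.Helper24.AlgStSmLoc
open Groth.Agent.Lib.Helper24.AlgStBoot Groth.Agent.Lib.Helper24.AlgStProps
open Groth.Agent.Lib.Helper24.FibCatYoneda Groth.Agent.Lib.Helper24.FibGrpd
open Groth.Agent.Lib.Helper24.FibCatTwoCart
open Groth.Agent.Lib.Helper24.AlgStDiagLft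
open Groth.Agent.Lib.Helper24.AlgStDiagAtlas Groth.Agent.Lib.Helper24.AlgStDiagLC
open Groth.Agent.Lib.Helper24.AlgStInertia Groth.Agent.Lib.Helper24.AlgStInertia2
open Groth.Agent.Lib.Helper24.AlgStSepDiag Groth.Agent.Lib.Helper24.AlgStGC
open Groth.Agent.Lib.Helper24.AlgStMono
open Groth.Agent.Lib.Helper14.AS
open CategoryTheory.Limits AlgSt

variable {S : Scheme.{u}}

theorem comp_toSelf {𝒢 ℱ : AlgSt.Cat S} (g : 𝒢 ⥤ᵇ ℱ) :
    BasedFunctor.comp g (FibCat.toSelf ℱ) = FibCat.toSelf 𝒢 := by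
  have h : (BasedFunctor.comp g (FibCat.toSelf ℱ)).toFunctor = (FibCat.toSelf 𝒢).toFunctor := g.w
  cases h1 : BasedFunctor.comp g (FibCat.toSelf ℱ) with
  | mk F w =>
    cases h2 : FibCat.toSelf 𝒢 with
    | mk F' w' =>
      rw [h1, h2] at h
      simp only at h
      subst h
      rfl

/-- a category fibred in groupoids with representable diagonal and an etale surjective atlas has
unramified diagonal -/
theorem repByAlgSpWith_unramified_diag_of_etale_atlas {𝒳 : AlgSt.Cat S}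
    (h𝒳 : FibCat.IsFibGrpd 𝒳.p) (hΔ : AlgSt.RepByAlgSp1 (FibCat.diag (FibCat.toSelf 𝒳)))
    (hat : AlgSt.HasAtlas AlgSp.IsEtaleMor 𝒳) :
    AlgSt.RepByAlgSpWith (AlgSp.LocP (@LocallyOfFiniteType ⊓ @FormallyUnramified))
      (FibCat.diag (FibCat.toSelf 𝒳)) := by
  obtain ⟨U, x, hxe, hxs⟩ := hat
  have hU : AlgSt.RepByAlgSp (FibCat.overCat U) := repByAlgSp_overCat U
  have hxl : AlgSt.RepByAlgSpWith (AlgSp.LocP @Etale) x :=
    repByAlgSpWith_mono (fun _ _ a ha => locP_etale_of_isEtaleMor ha) x hxe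
  have hx₁ : AlgSt.RepByAlgSpWith (AlgSp.LocP @Flat) x :=
    repByAlgSpWith_mono (fun _ _ a ha => Groth.Agent.Lib.Helper14.AS.locP_mono
      (fun A B g hg => by have : Etale g := hg; exact (inferInstance : Flat g)) ha) x hxl
  have hx₂ : AlgSt.RepByAlgSpWith (AlgSp.LocP @LocallyOfFinitePresentation) x :=
    repByAlgSpWith_mono (fun _ _ a ha => Groth.Agent.Lib.Helper14.AS.locP_mono
      (fun A B g hg => by
        have : Etale g := hg; exact (inferInstance : LocallyOfFinitePresentation g)) ha) x hxl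
  have hxu : AlgSt.RepByAlgSpWith (AlgSp.LocP (@LocallyOfFiniteType ⊓ @FormallyUnramified)) x :=
    repByAlgSpWith_mono (fun _ _ a ha => Groth.Agent.Lib.Helper14.AS.locP_mono
      (fun A B g hg => by
        have : Etale g := hg
        exact ⟨(inferInstance : LocallyOfFiniteType g), (inferInstance : FormallyUnramified g)⟩)
      ha) x hxl
  exact repByAlgSpWith_diag_of_chart (Groth.Agent.Lib.Helper24.StkFpCrit.isFibGrpd_overForget U)
    h𝒳 Groth.Agent.Lib.Helper24.FibCatInertia.isFibGrpd_selfOver _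
    good_unramified leftCancel_unramified (FibCat.toSelf 𝒳) hΔ x hU
    (Groth.Agent.Lib.Helper24.AlgStDiag.repByAlgSp_fp_comp_toSelf hU hU _ _)
    hx₁ hx₂ hxs hxu

/-- a morphism from a Deligne–Mumford stack is DM -/
theorem isDMMor_of_etale_atlas {𝒢 ℱ : AlgSt.Cat S}
    (h𝒢 : FibCat.IsFibGrpd 𝒢.p) (hΔ𝒢 : AlgSt.RepByAlgSp1 (FibCat.diag (FibCat.toSelf 𝒢)))
    (hat : AlgSt.HasAtlas AlgSp.IsEtaleMor 𝒢)
    (hℱ : FibCat.IsFibGrpd ℱ.p) (hΔℱ : AlgSt.RepByAlgSp1 (FibCat.diag (FibCat.toSelf ℱ)))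
    (g : 𝒢 ⥤ᵇ ℱ) : AlgSt.IsDMMor g := by
  have hu := repByAlgSpWith_unramified_diag_of_etale_atlas h𝒢 hΔ𝒢 hat
  rw [← comp_toSelf g] at hu
  exact repByAlgSpWith_diag_of_comp h𝒢 hℱ Groth.Agent.Lib.Helper24.FibCatInertia.isFibGrpd_selfOver
    _ ⊤ good_unramified.nice Groth.Agent.Lib.Helper24.AlgStLC.nice_top leftCancel_unramified g (FibCat.toSelf ℱ)
    ((repByAlgSp1_iff_with_top _).1 hΔℱ) hu


/-- a functor which is representably an isomorphism is essentially surjective in the strong sense -/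
theorem exists_hom_of_repByAlgSpWith_iso {𝒴 𝒳 : AlgSt.Cat S} (h𝒳 : FibCat.IsFibGrpd 𝒳.p)
    (f : 𝒴 ⥤ᵇ 𝒳)
    (h : AlgSt.RepByAlgSpWith (MorphismProperty.isomorphisms (AlgSp.Sp S)) f)
    (y : 𝒳.obj) : ∃ b : 𝒴.obj, Nonempty (y ⟶ f.obj b) := by
  have : 𝒳.p.IsFibered := isFibered_of_isFibGrpd 𝒳.p h𝒳
  let T : Over S := 𝒳.p.obj y
  let ŷ : FibCat.overCat T ⥤ᵇ 𝒳 := pbBased (rfl : 𝒳.p.obj y = T)
  obtain ⟨F, e, he, hp⟩ := h T ŷ
  let Φ : AlgSt.ofSp F.obj ⥤ᵇ FibCat.overCat T :=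
    BasedFunctor.comp e (FibCat.fpFst ŷ f)
  have hiso : IsIso (AlgSt.spMapOfOver Φ) := hp
  let x : F.obj.obj.obj (op T) := (CategoryTheory.inv (AlgSt.spMapOfOver Φ)).hom.app (op T) ⟨𝟙 T⟩
  have hx : (AlgSt.spMapOfOver Φ).hom.app (op T) x = ⟨𝟙 T⟩ := by
    have h1 := congrArg (fun φ => φ.hom.app (op T) (⟨𝟙 T⟩ : ULift (T ⟶ T)))
      (IsIso.inv_hom_id (AlgSt.spMapOfOver Φ))
    exact h1
  let a : (AlgSt.ofSp F.obj).obj := ⟨T, x⟩
  have hsec : AlgSt.secHom Φ a = 𝟙 T := by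
    have h2 := AlgSt.spMapOfOver_app Φ T x
    rw [hx] at h2
    exact (congrArg ULift.down h2).symm
  let η := e.obj a
  have hw : (Φ.obj a).left = T := Φ.w_obj a
  let m : Over.mk (𝟙 T) ⟶ Φ.obj a := Over.homMk (eqToHom hw.symm) hsec
  have hpi : IsIso (pbMap (rfl : 𝒳.p.obj y = T) (Over.mk (𝟙 T))) :=
    pbMap_id_isIso (rfl : 𝒳.p.obj y = T)
  exact ⟨η.obj.snd,
    ⟨CategoryTheory.inv (pbMap (rfl : 𝒳.p.obj y = T) (Over.mk (𝟙 T))) ≫ ŷ.map m ≫ η.obj.iso.hom⟩⟩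

/-- if the neutral section of the inertia is representably an isomorphism, the functor is
faithful -/
theorem faithful_of_repByAlgSpWith_iso_inertiaNeutral {𝒢 ℱ : AlgSt.Cat S}
    (h𝒢 : FibCat.IsFibGrpd 𝒢.p) (hℱ : FibCat.IsFibGrpd ℱ.p) (g : 𝒢 ⥤ᵇ ℱ)
    (h : AlgSt.RepByAlgSpWith (MorphismProperty.isomorphisms (AlgSp.Sp S))
      (FibCat.inertiaNeutral g)) : g.toFunctor.Faithful := by
  rw [Groth.Agent.Lib.Helper24.FibCatInertiaEquiv.faithful_iff_ker_trivial g h𝒢 hℱ,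
    ← Groth.Agent.Lib.Helper24.FibCatInertiaEquiv.ker_trivial_iff g h𝒢]
  intro x
  obtain ⟨b, ⟨ψ⟩⟩ := exists_hom_of_repByAlgSpWith_iso
    (Groth.Agent.Lib.Helper24.FibCatInertia.isFibGrpd_inertia g h𝒢 hℱ)
    (FibCat.inertiaNeutral g) h x
  have hc : x.aut.hom ≫ ψ.hom = 𝟙 x.pt ≫ ψ.hom := by
    have := ψ.comm
    rw [this, Category.id_comp]
    exact Category.comp_id _
  have hs : 𝒢.p.IsStronglyCartesian (𝒢.p.map ψ.hom) ψ.hom := h𝒢.isStronglyCartesian ψ.hom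
  have h1 : 𝒢.p.IsHomLift (𝟙 (𝒢.p.obj x.pt)) x.aut.hom :=
    Groth.Agent.Lib.Helper24.FibCatInertia.aut_isHomLift g x
  have h2 : 𝒢.p.IsHomLift (𝟙 (𝒢.p.obj x.pt)) (𝟙 x.pt) := IsHomLift.id rfl
  exact Functor.IsStronglyCartesian.ext 𝒢.p (𝒢.p.map ψ.hom) ψ.hom (𝟙 (𝒢.p.obj x.pt)) hc


/-- if `g` is injective on automorphism groups of geometric points, the neutral section of its
inertia is surjective on points -/
theorem isSurjective_inertiaNeutral_of_geom {𝒢 ℱ : AlgSt.Cat S}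
    (h𝒢 : FibCat.IsFibGrpd 𝒢.p) (hℱ : FibCat.IsFibGrpd ℱ.p) (g : 𝒢 ⥤ᵇ ℱ)
    (hinj : ∀ (k : Type u) [Field k] [IsAlgClosed k] (s : Spec (CommRingCat.of k) ⟶ S)
        (ξ : 𝒢.obj) (_ : 𝒢.p.obj ξ = Over.mk s) (a : ξ ⟶ ξ),
        𝒢.p.IsHomLift (𝟙 (𝒢.p.obj ξ)) a → g.map a = 𝟙 (g.obj ξ) → a = 𝟙 ξ) :
    AlgSt.IsSurjective (FibCat.inertiaNeutral g) := by
  intro z
  obtain ⟨p, rfl⟩ := Points.mk_surjective z
  let K' := AlgebraicClosure p.K
  let ι : Spec (CommRingCat.of K') ⟶ Spec (CommRingCat.of p.K) :=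
    Spec.map (CommRingCat.ofHom (algebraMap p.K K'))
  let m : Over.mk (ι ≫ p.str) ⟶ (FibCat.inertia g).p.obj p.obj :=
    (Over.homMk ι rfl : Over.mk (ι ≫ p.str) ⟶ Over.mk p.str) ≫ eqToHom p.lies.symm
  have hI := Groth.Agent.Lib.Helper24.FibCatInertia.isFibGrpd_inertia g h𝒢 hℱ
  obtain ⟨x', Φ, hΦ⟩ := hI.exists_lift (x := p.obj) m
  have hl : 𝒢.p.obj x'.pt = Over.mk (ι ≫ p.str) :=
    IsHomLift.domain_eq (FibCat.inertia g).p m Φ
  have hx' : x'.aut.hom = 𝟙 x'.pt :=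
    hinj K' (ι ≫ p.str) x'.pt hl x'.aut.hom
      (Groth.Agent.Lib.Helper24.FibCatInertia.aut_isHomLift g x') x'.map_aut
  refine ⟨Points.mk ⟨K', ι ≫ p.str, x'.pt, hl⟩, ?_⟩
  rw [Points.map_mk]
  apply Points.sound
  refine ⟨⟨K', ι ≫ p.str, x', hl⟩, ⟨𝟙 x'.pt, ?_⟩, Φ, trivial⟩
  change x'.aut.hom ≫ 𝟙 x'.pt = 𝟙 x'.pt ≫ 𝟙 x'.pt
  rw [hx']


/-- S16339 -/
theorem repByAlgSp1_of_geom_aut_inj {𝒢 ℱ : AlgSt.Cat S}
    (h𝒢 : AlgSt.IsDM Scheme.fppfPrecoverage 𝒢) (hℱ : AlgSt.IsAlgStack Scheme.fppfPrecoverage ℱ)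
    (g : 𝒢 ⥤ᵇ ℱ)
    (hinj : ∀ (k : Type u) [Field k] [IsAlgClosed k] (s : Spec (CommRingCat.of k) ⟶ S)
        (ξ : 𝒢.obj) (_ : 𝒢.p.obj ξ = Over.mk s) (a : ξ ⟶ ξ),
        𝒢.p.IsHomLift (𝟙 (𝒢.p.obj ξ)) a → g.map a = 𝟙 (g.obj ξ) → a = 𝟙 ξ) :
    AlgSt.RepByAlgSp1 g := by
  obtain ⟨halg, hat⟩ := h𝒢
  have hG := halg.isStack.1
  have hF := hℱ.isStack.1
  have hDM : AlgSt.IsDMMor g := isDMMor_of_etale_atlas hG halg.diag hat hF hℱ.diag g
  have hopen : AlgSt.IsOpenImm (FibCat.inertiaNeutral g) :=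
    ((unramified_inertia_tfae halg hℱ g).out 1 2).1 hDM
  have hI := Groth.Agent.Lib.Helper24.FibCatInertia.isFibGrpd_inertia g hG hF
  have hrep1 : AlgSt.RepByAlgSp1 (FibCat.inertiaNeutral g) := fun T y => by
    obtain ⟨F, e, he, -⟩ := hopen T y
    exact ⟨F, e, he⟩
  have hsurj : AlgSt.RepByAlgSpWith AlgSp.IsSurjectiveMor (FibCat.inertiaNeutral g) :=
    (Groth.Agent.Lib.Helper24.AlgStPts5.isSurjective_iff_repByAlgSpWith hG hI _ hrep1).1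
      (isSurjective_inertiaNeutral_of_geom hG hF g hinj)
  have h3 := repByAlgSpWith_and _ _ good_isSurjectiveMor.respectsIso _ hopen hsurj
  have hiso : AlgSt.RepByAlgSpWith (MorphismProperty.isomorphisms (AlgSp.Sp S))
      (FibCat.inertiaNeutral g) :=
    repByAlgSpWith_mono (fun X Y a ha =>
      Groth.Agent.Lib.Helper14.AS.isIso_of_openImmersion_of_surjective ha.1 ha.2) _ h3
  have := faithful_of_repByAlgSpWith_iso_inertiaNeutral hG hF g hiso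
  exact Groth.Agent.Lib.Helper24.AlgStFaithRep.repByAlgSp1_of_faithful halg hℱ g

end Groth.Agent.Lib.Helper24.AlgStAutInj
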