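import Groth.Agent.Lib.Helper24.AlgStCalc2
set_option autoImplicit false
open CategoryTheory AlgebraicGeometry Opposite
universe w₁ v₁ w₂ v₂ w₃ v₃ u
set_option backward.isDefEq.respectTransparency false
set_option backward.isDefEq.respectTransparency.types false

/-! Cancellation: `P (y ∘ x)` and `x` a covering imply `P y`, for `P` local on the source. -/

namespace Groth.Agent.Lib.Helper24.AlgStCancel
open Groth.Agent.Lib.Helper24.FibCatFpGen Groth.Agent.Lib.Helper24.AlgStRep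
open Groth.Agent.Lib.Helper24.AlgStRepS Groth.Agent.Lib.Helper24.AlgStEqv
open Groth.Agent.Lib.Helper24.AlgStIso Groth.Agent.Lib.Helper24.AlgStDescent
open Groth.Agent.Lib.Helper24.PshBridge Groth.Agent.Lib.Helper24.FibCatFpMap
open Groth.Agent.Lib.Helper24.FibCatEquiv
open CategoryTheory.Limits

variable {S : Scheme.{u}}

/-- conjunction of space-tested properties -/
theorem repS_inf (P₁ P₂ : MorphismProperty (AlgSp.Sp S)) (h₂ : (Phat P₂).RespectsIso)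
    {𝒳 : BasedCategory.{v₁, w₁} (Over S)} {𝒴 : BasedCategory.{v₂, w₂} (Over S)} (f : 𝒳 ⥤ᵇ 𝒴)
    (hf₁ : RepS P₁ f) (hf₂ : RepS P₂ f) : RepS (fun _ _ a => P₁ a ∧ P₂ a) f := by
  intro G y
  obtain ⟨F, e, he, h1⟩ := hf₁ G y
  exact ⟨F, e, he, h1, HasP.forall h₂ G.property (hf₂ G y) F e he⟩

/-- the general cancellation statement, for a test object which is an algebraic space -/
theorem hasP_of_comp_cover {𝒳 : BasedCategory.{v₁, w₁} (Over S)}
    {𝒴 : BasedCategory.{v₂, w₂} (Over S)} {𝒵 : BasedCategory.{v₃, w₃} (Over S)}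
    (P : MorphismProperty (AlgSp.Sp S)) (hPi : (Phat P).RespectsIso)
    (Pc : MorphismProperty (AlgSp.Sp S))
    (hloc : ∀ ⦃T' T G : AlgSp.Sp S⦄, AlgSp.IsAlgSpace T' → AlgSp.IsAlgSpace T → AlgSp.IsAlgSpace G →
      ∀ (p : T' ⟶ T) (ψ : T ⟶ G), Pc p → P (p ≫ ψ) → P ψ)
    (x : 𝒳 ⥤ᵇ 𝒴) (y : 𝒴 ⥤ᵇ 𝒵) (G : AlgSp.Space S) (u : AlgSt.ofSp G.obj ⥤ᵇ 𝒵)
    (hy : AlgSt.RepByAlgSp (FibCat.fp u y)) (hx : RepS Pc x)
    (h : HasP P (FibCat.fpFst u (BasedFunctor.comp x y))) : HasP P (FibCat.fpFst u y) := by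
  obtain ⟨T, eT, heT⟩ := hy
  refine ⟨T, eT, heT, ?_⟩
  let t : AlgSt.ofSp T.obj ⥤ᵇ 𝒴 := BasedFunctor.comp eT (FibCat.fpSnd u y)
  obtain ⟨T', eT', heT', hp⟩ := hx T t
  refine hloc T'.property T.property G.property _ _ hp ?_
  let i1 : BasedFunctor.comp t (BasedFunctor.id 𝒴) ≅ BasedFunctor.comp eT (FibCat.fpSnd u y) :=
    Iso.refl _
  let i2 : BasedFunctor.comp x (BasedFunctor.id 𝒴) ≅ BasedFunctor.comp (BasedFunctor.id 𝒳) x :=
    Iso.refl _
  let M := fpMap eT (BasedFunctor.id 𝒳) (BasedFunctor.id 𝒴) i1 i2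
  have hM : FibCat.IsEquivOver M := isEquivOver_fpMap _ _ _ i1 i2 heT (isEquivOver_id _)
  let Q := Groth.Agent.Lib.Helper24.FibCatFpPaste.Q x y u
  have hQ : FibCat.IsEquivOver Q := Groth.Agent.Lib.Helper24.FibCatFpPaste.isEquivOver_Q
  have key := h.forall hPi G.property T' (BasedFunctor.comp eT' (BasedFunctor.comp M Q))
    (isEquivOver_comp _ _ heT' (isEquivOver_comp _ _ hM hQ))
  have e : spMapOf (BasedFunctor.comp (BasedFunctor.comp eT' (BasedFunctor.comp M Q))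
      (FibCat.fpFst u (BasedFunctor.comp x y))) =
      spMapOf (BasedFunctor.comp eT' (FibCat.fpFst t x)) ≫
        spMapOf (BasedFunctor.comp eT (FibCat.fpFst u y)) := by
    rw [← spMapOf_comp]
    rfl
  rw [e] at key
  exact key

/-- the general cancellation statement -/
theorem repByAlgSpWith_of_comp_cover {𝒳 : BasedCategory.{v₁, w₁} (Over S)}
    {𝒴 : BasedCategory.{v₂, w₂} (Over S)} {𝒵 : BasedCategory.{v₃, w₃} (Over S)}
    (P : MorphismProperty (AlgSp.Sp S)) (hPi : (Phat P).RespectsIso)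
    (Pc : MorphismProperty (AlgSp.Sp S))
    (hloc : ∀ ⦃T' T G : AlgSp.Sp S⦄, AlgSp.IsAlgSpace T' → AlgSp.IsAlgSpace T → AlgSp.IsAlgSpace G →
      ∀ (p : T' ⟶ T) (ψ : T ⟶ G), Pc p → P (p ≫ ψ) → P ψ)
    (x : 𝒳 ⥤ᵇ 𝒴) (y : 𝒴 ⥤ᵇ 𝒵) (hy : AlgSt.RepByAlgSp1 y) (hx : RepS Pc x)
    (h : AlgSt.RepByAlgSpWith P (BasedFunctor.comp x y)) : AlgSt.RepByAlgSpWith P y := by
  rw [repByAlgSpWith_iff_hasP] at h ⊢
  intro U u
  exact hasP_of_comp_cover P hPi Pc hloc x y ⟨(AlgSp.yon S).obj U, AlgSp.IsAlgSpace.yon_obj U⟩ _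
    (repByAlgSp_fp_toOverCat y hy U u) hx (h U u)

end Groth.Agent.Lib.Helper24.AlgStCancel
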