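import Mathlib
import Groth.Agent.S10192
import Groth.Agent.S10193
import Groth.Agent.S10760
import Groth.Agent.S9925
import Groth.Agent.Lib.Helper14.AlgSpProper
import Groth.Agent.Lib.Helper14.AlgSpSepDescent
import Groth.Agent.Lib.Helper14.AlgSpImmTop

/-!
# Images of closed subspaces proper over the base (helper24)
-/

set_option autoImplicit false
universe u

open CategoryTheory CategoryTheory.Limits AlgebraicGeometry Opposite AlgSp
open Groth.Agent.Lib.Helper14.AS

namespace Groth.Agent.Lib.Helper24.PropImg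

variable {S : Scheme.{u}}

theorem isClosed_range_of_closedImmersion {X Z : Sp S} (hX : IsAlgSpace X) {i : Z ⟶ X}
    (hi : RepWith @IsClosedImmersion i) : IsClosed (Set.range (Points.map i)) := by
  have h := isClosedMap_points_of_isUnivClosedMor hX (isProperMor_of_repWith_isClosedImmersion hi).2.2
  rw [← Set.image_univ]
  exact h _ isClosed_univ

theorem injective_points_of_closedImmersion {X Z : Sp S} {i : Z ⟶ X}
    (hi : RepWith @IsClosedImmersion i) : Function.Injective (Points.map i) := by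
  have hmono : Mono i := mono_of_repWith_mono
    (repWith_mono immersion_le_mono (repWith_mono isClosedImmersion_le_isImmersion hi))
  exact (fieldInj_of_mono i).injective_points

set_option backward.isDefEq.respectTransparency.types false in
/-- Core: the image of a closed subspace proper over `B` under a morphism `f` over `B`, assuming
that `f` restricted to any closed subspace proper over `B` is universally closed. -/
theorem image_proper_core {X Y B Z : AlgSp.Space S}
    (a : X ⟶ B) (b : Y ⟶ B) (f : X ⟶ Y) (hcomm : f ≫ b = a)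
    (ha : AlgSp.LocP @LocallyOfFiniteType a.hom) (hb : AlgSp.LocP @LocallyOfFiniteType b.hom)
    (i : Z ⟶ X) (hi : AlgSp.RepWith @IsClosedImmersion i.hom) (hZ : AlgSp.IsProperMor (i ≫ a).hom)
    (huc : ∀ (Z₀ : AlgSp.Space S) (i₀ : Z₀ ⟶ X), AlgSp.RepWith @IsClosedImmersion i₀.hom →
      AlgSp.IsProperMor (i₀ ≫ a).hom → AlgSp.IsUnivClosedMor (i₀ ≫ f).hom) :
    IsClosed (AlgSp.Points.map f.hom '' Set.range (AlgSp.Points.map i.hom)) ∧
      ∃ (Z' : AlgSp.Space S) (i' : Z' ⟶ Y), AlgSp.RepWith @IsClosedImmersion i'.hom ∧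
        Set.range (AlgSp.Points.map i'.hom) =
          AlgSp.Points.map f.hom '' Set.range (AlgSp.Points.map i.hom) ∧
        AlgSp.IsProperMor (i' ≫ b).hom := by
  subst hcomm
  -- the reduced structure on the source
  have hT₀ : IsClosed (Set.range (Points.map i.hom)) :=
    isClosed_range_of_closedImmersion X.property hi
  obtain ⟨Z₀, i₀, hi₀c, hi₀r, hZ₀red⟩ := Groth.Agent.S10192.result X _ hT₀
  have hZ₀ : IsProperMor (i₀ ≫ f ≫ b).hom :=
    Groth.Agent.S10760.result (f ≫ b) ha i i₀ hi hi₀c hi₀r.symm hZ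
  have hucf : IsUnivClosedMor (i₀ ≫ f).hom := huc Z₀ i₀ hi₀c hZ₀
  have hTeq : Points.map f.hom '' Set.range (Points.map i.hom) =
      Set.range (Points.map (i₀ ≫ f).hom) := by
    rw [← hi₀r]
    ext y
    constructor
    · rintro ⟨_, ⟨z, rfl⟩, rfl⟩
      exact ⟨z, Points.map_comp _ _ z⟩
    · rintro ⟨z, rfl⟩
      exact ⟨_, ⟨z, rfl⟩, (Points.map_comp _ _ z).symm⟩
  have hT : IsClosed (Points.map f.hom '' Set.range (Points.map i.hom)) := by
    rw [hTeq, ← Set.image_univ]
    exact isClosedMap_points_of_isUnivClosedMor Y.property hucf _ isClosed_univ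
  refine ⟨hT, ?_⟩
  obtain ⟨Z', i', hi'c, hi'r, hZ'red⟩ := Groth.Agent.S10192.result Y _ hT
  refine ⟨Z', i', hi'c, hi'r, ?_⟩
  -- the factorization
  obtain ⟨g, hg⟩ := (Groth.Agent.S10193.result i' hi'c hZ₀red (i₀ ≫ f)).2 (by
    rw [hi'r, hTeq])
  have hg' : g.hom ≫ i'.hom = i₀.hom ≫ f.hom := congrArg (·.hom) hg
  have hgs : IsSurjectiveMor g.hom := by
    intro z'
    have hz' : Points.map i'.hom z' ∈ Set.range (Points.map (i₀ ≫ f).hom) := by
      rw [← hTeq, ← hi'r]; exact ⟨z', rfl⟩
    obtain ⟨z₀, hz₀⟩ := hz'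
    refine ⟨z₀, injective_points_of_closedImmersion hi'c ?_⟩
    rw [← Points.map_comp, hg']
    exact hz₀
  have hguc : IsUnivClosedMor g.hom := by
    refine (univClosed_proper_over_separated Z₀.property Z'.property Y.property g.hom i'.hom
      (isSeparatedMor_of_repWith_isClosedImmersion hi'c)).1 ?_
    rw [hg']
    exact hucf
  have hcomp : g.hom ≫ (i' ≫ b).hom = (i₀ ≫ f ≫ b).hom := by
    change g.hom ≫ i'.hom ≫ b.hom = i₀.hom ≫ f.hom ≫ b.hom
    rw [← Category.assoc, hg', Category.assoc]
  have hquc : IsUnivClosedMor (i' ≫ b).hom :=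
    isUnivClosedMor_of_comp_surjective hgs (by rw [hcomp]; exact hZ₀.2.2)
  refine ⟨?_, ⟨?_, ?_⟩, hquc⟩
  · refine (separation_of_surjective_univClosed Z₀.property Z'.property B.property g.hom
      (i' ≫ b).hom hgs hguc).2 ?_
    rw [hcomp]
    exact hZ₀.1
  · exact locP_comp etLocal_lft Z'.property Y.property B.property i'.hom b.hom
      (locP_of_repWith etale_le_lft (repWith_mono isClosedImmersion_le_lft hi'c)) hb
  · exact Groth.Agent.S9925.result (i' ≫ b) hquc

end Groth.Agent.Lib.Helper24.PropImg
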