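import Groth.Agent.Lib.Helper24.AlgStPts7
import Groth.Agent.Lib.Helper24.PropImg
set_option autoImplicit false
open CategoryTheory AlgebraicGeometry Opposite
universe w₁ v₁ w₂ v₂ w₃ v₃ u
set_option backward.isDefEq.respectTransparency false
set_option backward.isDefEq.respectTransparency.types false

/-! The image on points of a closed immersion of categories fibred in groupoids is closed. -/

noncomputable section

namespace Groth.Agent.Lib.Helper24.AlgStClosedRange
open AlgSt Groth.Agent.Lib.Helper24.AlgStPts1 Groth.Agent.Lib.Helper24.AlgStPts2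
open Groth.Agent.Lib.Helper24.AlgStPts3 Groth.Agent.Lib.Helper24.AlgStPts4
open Groth.Agent.Lib.Helper24.AlgStPts5 Groth.Agent.Lib.Helper24.AlgStPts6
open Groth.Agent.Lib.Helper24.AlgStRepS Groth.Agent.Lib.Helper24.PshBridge
open Groth.Agent.Lib.Helper24.AlgStBridge Groth.Agent.Lib.Helper24.AlgStRep
open Groth.Agent.Lib.Helper24.FibCatFpMap
open Groth.Agent.Lib.Helper24.FibCatEquiv Groth.Agent.Lib.Helper24.FibCatFpGen
open Groth.Agent.Lib.Helper24.AlgStBoot
open Groth.Agent.Lib.Helper24.AlgStSchLocal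

variable {S : Scheme.{u}}

/-- the preimage under a scheme chart of the image on points of a functor -/
theorem ofChart_preimage_range {𝒵 𝒳 : AlgSt.Cat S} (h𝒵 : FibCat.IsFibGrpd 𝒵.p)
    (h𝒳 : FibCat.IsFibGrpd 𝒳.p) (f : 𝒵 ⥤ᵇ 𝒳) {U : Over S} (x : FibCat.overCat U ⥤ᵇ 𝒳)
    (F : AlgSp.Sp S) (e : AlgSt.ofSp F ⥤ᵇ FibCat.fp x f) (he : FibCat.IsEquivOver e) :
    Points.ofChart x ⁻¹' Set.range (Points.map f) =
      (AlgSp.Points.schemeHomeo U) ⁻¹' Set.range
        (AlgSp.Points.map (AlgSt.spMapOfOver (BasedFunctor.comp e (FibCat.fpFst x f)))) := by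
  have hU : FibCat.IsFibGrpd (FibCat.overCat U).p :=
    Groth.Agent.Lib.Helper24.StkFpCrit.isFibGrpd_overForget U
  have hbij : Function.Bijective (Points.map (AlgSt.ofOverCat U)) :=
    bijective_map_of_isEquivOver _ (isEquivOver_ofOverCat U)
  ext t
  constructor
  · rintro ⟨p, hp⟩
    rw [ofChart_eq] at hp
    obtain ⟨w, hw1, hw2⟩ := Groth.Agent.Lib.Helper26.StackPoints.exists_points_fp h𝒵 h𝒳 hU f x
      (sch U t) p hp.symm
    obtain ⟨w', rfl⟩ := (bijective_map_of_isEquivOver e he).2 w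
    obtain ⟨z, rfl⟩ := (ptsEquiv F).surjective w'
    refine ⟨z, ?_⟩
    apply (ptsEquiv _).injective
    change toPts _ _ = toPts _ (AlgSp.Points.ofScheme U t)
    rw [← map_toPts_eq, ← map_ofOverCat_sch, ← hw1, ← map_comp, ← map_comp, ← map_comp]
    rfl
  · rintro ⟨z, hz⟩
    have h1 : Points.map (BasedFunctor.comp e (FibCat.fpFst x f)) (toPts F z) = sch U t := by
      apply hbij.1
      rw [map_toPts_eq, map_ofOverCat_sch]
      exact congrArg _ hz
    refine ⟨Points.map (BasedFunctor.comp e (FibCat.fpSnd x f)) (toPts F z), ?_⟩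
    rw [ofChart_eq, ← h1, ← map_comp, ← map_comp]
    exact (congrFun (map_congr (whiskerLeftIso e (FibCat.fpIso x f))) _).symm

/-- the image on points of a closed immersion is closed -/
theorem isClosed_range_map_of_isClosedImm {𝒵 𝒳 : AlgSt.Cat S} (h𝒵 : FibCat.IsFibGrpd 𝒵.p)
    (h𝒳 : FibCat.IsFibGrpd 𝒳.p) (f : 𝒵 ⥤ᵇ 𝒳) (hf : AlgSt.IsClosedImm f) :
    IsClosed (Set.range (Points.map f)) := by
  rw [← isOpen_compl_iff]
  intro U x _
  rw [Set.preimage_compl, isOpen_compl_iff]
  obtain ⟨F, e, he, hcl⟩ := hf U x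
  rw [ofChart_preimage_range h𝒵 h𝒳 f x F.obj e he]
  exact (Groth.Agent.Lib.Helper24.PropImg.isClosed_range_of_closedImmersion
    (AlgSp.IsAlgSpace.yon_obj U) hcl).preimage (AlgSp.Points.schemeHomeo U).continuous

end Groth.Agent.Lib.Helper24.AlgStClosedRange
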