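import Groth.Agent.Lib.Helper24.AlgStRepS
import Groth.Agent.Lib.Helper24.FibCatFpSwap
set_option autoImplicit false
open CategoryTheory AlgebraicGeometry Opposite
universe w₁ v₁ w₂ v₂ w₃ v₃ w₄ v₄ w₅ v₅ u
set_option backward.isDefEq.respectTransparency false
set_option backward.isDefEq.respectTransparency.types false

/-! Equivalence of categories over a fixed target, and the property `HasP`. -/

namespace Groth.Agent.Lib.Helper24.AlgStEqv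
open Groth.Agent.Lib.Helper24.PshFun Groth.Agent.Lib.Helper24.FibCatFpMap
open Groth.Agent.Lib.Helper24.FibCatEquiv Groth.Agent.Lib.Helper24.FibCatFpGen
open Groth.Agent.Lib.Helper24.PshBridge Groth.Agent.Lib.Helper24.AlgStRep
open Groth.Agent.Lib.Helper24.AlgStBridge Groth.Agent.Lib.Helper24.AlgStBoot
open Groth.Agent.Lib.Helper24.AlgStRepS
open CategoryTheory.Limits

section General
variable {C : Type*} [Category C]
variable {𝒜 : BasedCategory.{v₁, w₁} C} {𝒜' : BasedCategory.{v₂, w₂} C}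
  {𝒜'' : BasedCategory.{v₃, w₃} C} {ℬ : BasedCategory.{v₄, w₄} C} {ℬ' : BasedCategory.{v₅, w₅} C}

/-- `π` and `π'` are equivalent over their common target, up to 2-isomorphism -/
def EqvOver (π : 𝒜 ⥤ᵇ ℬ) (π' : 𝒜' ⥤ᵇ ℬ) : Prop :=
  ∃ k : 𝒜 ⥤ᵇ 𝒜', FibCat.IsEquivOver k ∧ Nonempty (BasedFunctor.comp k π' ≅ π)

lemma EqvOver.mk {π : 𝒜 ⥤ᵇ ℬ} {π' : 𝒜' ⥤ᵇ ℬ} (k : 𝒜 ⥤ᵇ 𝒜') (hk : FibCat.IsEquivOver k)
    (i : BasedFunctor.comp k π' ≅ π) : EqvOver π π' := ⟨k, hk, ⟨i⟩⟩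

lemma EqvOver.refl (π : 𝒜 ⥤ᵇ ℬ) : EqvOver π π :=
  ⟨BasedFunctor.id _, isEquivOver_id _, ⟨Iso.refl _⟩⟩

lemma EqvOver.of_iso {π π' : 𝒜 ⥤ᵇ ℬ} (i : π' ≅ π) : EqvOver π π' :=
  ⟨BasedFunctor.id _, isEquivOver_id _, ⟨i⟩⟩

lemma EqvOver.symm {π : 𝒜 ⥤ᵇ ℬ} {π' : 𝒜' ⥤ᵇ ℬ} (h : EqvOver π π') : EqvOver π' π := by
  obtain ⟨k, ⟨k', ⟨α⟩, ⟨β⟩⟩, ⟨i⟩⟩ := h
  refine ⟨k', ⟨k, ⟨β⟩, ⟨α⟩⟩, ⟨?_⟩⟩
  exact (whiskerLeftIso k' i).symm ≪≫ (whiskerRightIso β π' : _)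

lemma EqvOver.trans {π : 𝒜 ⥤ᵇ ℬ} {π' : 𝒜' ⥤ᵇ ℬ} {π'' : 𝒜'' ⥤ᵇ ℬ} (h : EqvOver π π')
    (h' : EqvOver π' π'') : EqvOver π π'' := by
  obtain ⟨k, hk, ⟨i⟩⟩ := h
  obtain ⟨k', hk', ⟨i'⟩⟩ := h'
  exact ⟨BasedFunctor.comp k k', isEquivOver_comp _ _ hk hk', ⟨whiskerLeftIso k i' ≪≫ i⟩⟩

lemma EqvOver.comp_right {π : 𝒜 ⥤ᵇ ℬ} {π' : 𝒜' ⥤ᵇ ℬ} (h : EqvOver π π') (ρ : ℬ ⥤ᵇ ℬ') :
    EqvOver (BasedFunctor.comp π ρ) (BasedFunctor.comp π' ρ) := by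
  obtain ⟨k, hk, ⟨i⟩⟩ := h
  exact ⟨k, hk, ⟨(whiskerRightIso i ρ : _)⟩⟩

/-- cancel an equivalence of the target -/
lemma EqvOver.of_comp_equiv {π : 𝒜 ⥤ᵇ ℬ} {π' : 𝒜' ⥤ᵇ ℬ} (a : ℬ ⥤ᵇ ℬ')
    (ha : FibCat.IsEquivOver a)
    (h : EqvOver (BasedFunctor.comp π a) (BasedFunctor.comp π' a)) : EqvOver π π' := by
  obtain ⟨a', ⟨α⟩, -⟩ := ha
  have h1 := h.comp_right a'
  have e1 : EqvOver π (BasedFunctor.comp (BasedFunctor.comp π a) a') :=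
    EqvOver.of_iso (whiskerLeftIso π α)
  have e2 : EqvOver (BasedFunctor.comp (BasedFunctor.comp π' a) a') π' :=
    EqvOver.of_iso (whiskerLeftIso π' α).symm
  exact (e1.trans h1).trans e2

end General

section Fp
variable {C : Type*} [Category C]

/-- contraction: `𝒲 ×_𝒵 (𝒵 ×_𝒴 𝒳) → 𝒲` is equivalent over `𝒲` to `𝒲 ×_𝒴 𝒳 → 𝒲` -/
lemma eqvOver_P {𝒳 : BasedCategory.{v₁, w₁} C} {𝒴 : BasedCategory.{v₂, w₂} C}
    {𝒵 : BasedCategory.{v₃, w₃} C} {𝒲 : BasedCategory.{v₄, w₄} C}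
    (f : 𝒳 ⥤ᵇ 𝒴) (g : 𝒵 ⥤ᵇ 𝒴) (G : 𝒲 ⥤ᵇ 𝒵) :
    EqvOver (FibCat.fpFst G (FibCat.fpFst g f)) (FibCat.fpFst (BasedFunctor.comp G g) f) :=
  ⟨Groth.Agent.Lib.Helper24.FibCatFpPaste.P f g G,
    Groth.Agent.Lib.Helper24.FibCatFpPaste.isEquivOver_P, ⟨Iso.refl _⟩⟩

/-- change of the first leg by a 2-isomorphism -/
lemma eqvOver_fpFst_congr_left {𝒳 : BasedCategory.{v₁, w₁} C} {𝒴 : BasedCategory.{v₂, w₂} C}
    {𝒲 : BasedCategory.{v₄, w₄} C} {y y' : 𝒲 ⥤ᵇ 𝒴} (i : y' ≅ y) (f : 𝒳 ⥤ᵇ 𝒴) :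
    EqvOver (FibCat.fpFst y' f) (FibCat.fpFst y f) := by
  let eF : BasedFunctor.comp y' (BasedFunctor.id 𝒴) ≅ BasedFunctor.comp (BasedFunctor.id 𝒲) y := i
  let eG : BasedFunctor.comp f (BasedFunctor.id 𝒴) ≅ BasedFunctor.comp (BasedFunctor.id 𝒳) f :=
    Iso.refl _
  exact ⟨fpMap (BasedFunctor.id 𝒲) (BasedFunctor.id 𝒳) (BasedFunctor.id 𝒴) eF eG,
    isEquivOver_fpMap _ _ _ eF eG (isEquivOver_id _) (isEquivOver_id _), ⟨Iso.refl _⟩⟩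

/-- change of the second leg by an equivalence of its source -/
lemma eqvOver_fpFst_congr_right {𝒳 : BasedCategory.{v₁, w₁} C} {𝒳' : BasedCategory.{v₃, w₃} C}
    {𝒴 : BasedCategory.{v₂, w₂} C}
    {𝒲 : BasedCategory.{v₄, w₄} C} (y : 𝒲 ⥤ᵇ 𝒴) {f : 𝒳 ⥤ᵇ 𝒴} {f' : 𝒳' ⥤ᵇ 𝒴} (e : 𝒳' ⥤ᵇ 𝒳)
    (he : FibCat.IsEquivOver e) (i : f' ≅ BasedFunctor.comp e f) :
    EqvOver (FibCat.fpFst y f') (FibCat.fpFst y f) := by
  let eF : BasedFunctor.comp y (BasedFunctor.id 𝒴) ≅ BasedFunctor.comp (BasedFunctor.id 𝒲) y :=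
    Iso.refl _
  let eG : BasedFunctor.comp f' (BasedFunctor.id 𝒴) ≅ BasedFunctor.comp e f := i
  exact ⟨fpMap (BasedFunctor.id 𝒲) e (BasedFunctor.id 𝒴) eF eG,
    isEquivOver_fpMap _ _ _ eF eG (isEquivOver_id _) he, ⟨Iso.refl _⟩⟩

/-- precomposing the first leg with an equivalence -/
lemma eqvOver_fpFst_precomp {𝒳 : BasedCategory.{v₁, w₁} C} {𝒴 : BasedCategory.{v₂, w₂} C}
    {𝒲 : BasedCategory.{v₄, w₄} C} {𝒲' : BasedCategory.{v₃, w₃} C} (a : 𝒲' ⥤ᵇ 𝒲)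
    (ha : FibCat.IsEquivOver a) (y : 𝒲 ⥤ᵇ 𝒴) (f : 𝒳 ⥤ᵇ 𝒴) :
    EqvOver (BasedFunctor.comp (FibCat.fpFst (BasedFunctor.comp a y) f) a) (FibCat.fpFst y f) := by
  let eF : BasedFunctor.comp (BasedFunctor.comp a y) (BasedFunctor.id 𝒴) ≅ BasedFunctor.comp a y :=
    Iso.refl _
  let eG : BasedFunctor.comp f (BasedFunctor.id 𝒴) ≅ BasedFunctor.comp (BasedFunctor.id 𝒳) f :=
    Iso.refl _
  exact ⟨fpMap a (BasedFunctor.id 𝒳) (BasedFunctor.id 𝒴) eF eG,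
    isEquivOver_fpMap _ _ _ eF eG ha (isEquivOver_id _), ⟨Iso.refl _⟩⟩

/-- swapping the factors -/
lemma eqvOver_swap {𝒳 : BasedCategory.{v₁, w₁} C} {𝒴 : BasedCategory.{v₂, w₂} C}
    {𝒲 : BasedCategory.{v₄, w₄} C} (y : 𝒲 ⥤ᵇ 𝒴) (f : 𝒳 ⥤ᵇ 𝒴) :
    EqvOver (FibCat.fpFst y f) (FibCat.fpSnd f y) :=
  ⟨Groth.Agent.Lib.Helper24.FibCatFpSwap.swap y f,
    Groth.Agent.Lib.Helper24.FibCatFpSwap.isEquivOver_swap y f, ⟨Iso.refl _⟩⟩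

end Fp

section HasP
variable {S : Scheme.{u}}

lemma isIso_spMapOf {F G : AlgSp.Sp S} (Φ : AlgSt.ofSp F ⥤ᵇ AlgSt.ofSp G)
    (h : FibCat.IsEquivOver Φ) : IsIso (spMapOf Φ) := by
  obtain ⟨Ψ, ⟨α⟩, ⟨β⟩⟩ := h
  refine ⟨spMapOf Ψ, ?_, ?_⟩
  · rw [← spMapOf_comp, spMapOf_congr α]
    apply ObjectProperty.hom_ext
    exact pshMapOf_id
  · rw [← spMapOf_comp, spMapOf_congr β]
    apply ObjectProperty.hom_ext
    exact pshMapOf_id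

/-- `𝒜` is representable by an algebraic space whose morphism to `G` has `P` -/
def HasP (P : MorphismProperty (AlgSp.Sp S)) {𝒜 : BasedCategory.{v₁, w₁} (Over S)} {G : AlgSp.Sp S}
    (π : 𝒜 ⥤ᵇ AlgSt.ofSp G) : Prop :=
  ∃ (F : AlgSp.Space S) (e : AlgSt.ofSp F.obj ⥤ᵇ 𝒜), FibCat.IsEquivOver e ∧
    P (spMapOf (BasedFunctor.comp e π))

variable {P : MorphismProperty (AlgSp.Sp S)} {𝒜 : BasedCategory.{v₁, w₁} (Over S)}
  {𝒜' : BasedCategory.{v₂, w₂} (Over S)} {G : AlgSp.Sp S}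

lemma HasP.of_eqvOver {π : 𝒜 ⥤ᵇ AlgSt.ofSp G} {π' : 𝒜' ⥤ᵇ AlgSt.ofSp G} (h : EqvOver π π')
    (hp : HasP P π) : HasP P π' := by
  obtain ⟨k, hk, ⟨i⟩⟩ := h
  obtain ⟨F, e, he, hP⟩ := hp
  refine ⟨F, BasedFunctor.comp e k, isEquivOver_comp _ _ he hk, ?_⟩
  have : spMapOf (BasedFunctor.comp (BasedFunctor.comp e k) π') = spMapOf (BasedFunctor.comp e π) :=
    spMapOf_congr (whiskerLeftIso e i)
  rw [this]
  exact hP

lemma hasP_iff_of_eqvOver {π : 𝒜 ⥤ᵇ AlgSt.ofSp G} {π' : 𝒜' ⥤ᵇ AlgSt.ofSp G} (h : EqvOver π π') :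
    HasP P π ↔ HasP P π' := ⟨HasP.of_eqvOver h, HasP.of_eqvOver h.symm⟩

lemma HasP.rep {π : 𝒜 ⥤ᵇ AlgSt.ofSp G} (hp : HasP P π) : AlgSt.RepByAlgSp 𝒜 := by
  obtain ⟨F, e, he, -⟩ := hp
  exact ⟨F, e, he⟩

lemma HasP.mono {P' : MorphismProperty (AlgSp.Sp S)} (hPP' : P ≤ P') {π : 𝒜 ⥤ᵇ AlgSt.ofSp G}
    (hp : HasP P π) : HasP P' π := by
  obtain ⟨F, e, he, h⟩ := hp
  exact ⟨F, e, he, hPP' _ h⟩

/-- for properties respecting isomorphisms (between algebraic spaces), `P` holds for every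
representation -/
lemma HasP.forall (hPi : (Phat P).RespectsIso) (hG : AlgSp.IsAlgSpace G) {π : 𝒜 ⥤ᵇ AlgSt.ofSp G}
    (hp : HasP P π) (F : AlgSp.Space S) (e : AlgSt.ofSp F.obj ⥤ᵇ 𝒜) (he : FibCat.IsEquivOver e) :
    P (spMapOf (BasedFunctor.comp e π)) := by
  obtain ⟨F₀, e₀, he₀, hP⟩ := hp
  obtain ⟨e', ⟨α⟩, ⟨β⟩⟩ := he
  let j : AlgSt.ofSp F.obj ⥤ᵇ AlgSt.ofSp F₀.obj :=
    BasedFunctor.comp e (Classical.choose he₀)
  obtain ⟨⟨α₀⟩, ⟨β₀⟩⟩ := Classical.choose_spec he₀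
  have hj : FibCat.IsEquivOver j :=
    isEquivOver_comp _ _ ⟨e', ⟨α⟩, ⟨β⟩⟩ ⟨e₀, ⟨β₀⟩, ⟨α₀⟩⟩
  have hiso := isIso_spMapOf j hj
  have e1 : spMapOf (BasedFunctor.comp e π) =
      spMapOf j ≫ spMapOf (BasedFunctor.comp e₀ π) := by
    rw [← spMapOf_comp]
    apply spMapOf_congr
    exact (whiskerLeftIso e (whiskerRightIso β₀ π : _)).symm
  rw [e1]
  exact (hPi.precomp _ (spMapOf j) _ (fun _ _ => hP)) F.property hG

lemma hasP_ofSpMap {F G : AlgSp.Space S} (a : F.obj ⟶ G.obj) (h : P a) :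
    HasP P (AlgSt.ofSpMap a) := by
  refine ⟨F, BasedFunctor.id _, isEquivOver_id _, ?_⟩
  have : spMapOf (BasedFunctor.comp (BasedFunctor.id _) (AlgSt.ofSpMap a)) = a :=
    (spMapOf_congr (Iso.refl _)).trans (spMapOf_ofSpMap a)
  rw [this]
  exact h

lemma hasP_ofSpMap_iff (hPi : (Phat P).RespectsIso) {F G : AlgSp.Space S} (a : F.obj ⟶ G.obj) :
    HasP P (AlgSt.ofSpMap a) ↔ P a := by
  refine ⟨fun h => ?_, hasP_ofSpMap a⟩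
  have := h.forall hPi G.property F (BasedFunctor.id _) (isEquivOver_id _)
  have e : spMapOf (BasedFunctor.comp (BasedFunctor.id _) (AlgSt.ofSpMap a)) = a :=
    (spMapOf_congr (Iso.refl _)).trans (spMapOf_ofSpMap a)
  rwa [e] at this

/-- the category of a pullback of sheaves is the 2-fibre product -/
lemma eqvOver_of_isPullback {F G H X : AlgSp.Sp S} {a : F ⟶ G} {ξ : H ⟶ G} {fst : X ⟶ F}
    {snd : X ⟶ H} (sq : IsPullback fst snd a ξ) :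
    EqvOver (AlgSt.ofSpMap snd) (FibCat.fpFst (AlgSt.ofSpMap ξ) (AlgSt.ofSpMap a)) :=
  ⟨fpOfSq (isPtPullback_of_isPullback _ _ _ _
      (sq.map (sheafToPresheaf (AlgSp.J S) (Type (u + 1))))),
    isEquivOver_fpOfSq _, ⟨Iso.refl _⟩⟩

/-- every functor to the category of a sheaf is isomorphic to the functor of a map of sheaves -/
lemma eqvOver_ofSpMap {F G : AlgSp.Sp S} (Φ : AlgSt.ofSp F ⥤ᵇ AlgSt.ofSp G) :
    EqvOver Φ (AlgSt.ofSpMap (spMapOf Φ)) := EqvOver.of_iso (isoOfPshMap Φ).symm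

theorem repS_iff_hasP {𝒳 : BasedCategory.{v₁, w₁} (Over S)} {𝒴 : BasedCategory.{v₂, w₂} (Over S)}
    (f : 𝒳 ⥤ᵇ 𝒴) : RepS P f ↔ ∀ (G : AlgSp.Space S) (y : AlgSt.ofSp G.obj ⥤ᵇ 𝒴),
      HasP P (FibCat.fpFst y f) := Iff.rfl

/-- the scheme-tested notion in terms of `HasP` -/
theorem repByAlgSpWith_iff_hasP {𝒳 : BasedCategory.{v₁, w₁} (Over S)}
    {𝒴 : BasedCategory.{v₂, w₂} (Over S)} (f : 𝒳 ⥤ᵇ 𝒴) :
    AlgSt.RepByAlgSpWith P f ↔ ∀ (U : Over S) (y : FibCat.overCat U ⥤ᵇ 𝒴),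
      HasP P (FibCat.fpFst (BasedFunctor.comp (AlgSt.toOverCat U) y) f) := by
  have key : ∀ (U : Over S) (y : FibCat.overCat U ⥤ᵇ 𝒴),
      EqvOver (FibCat.fpFst (BasedFunctor.comp (AlgSt.toOverCat U) y) f)
        (BasedFunctor.comp (FibCat.fpFst y f) (AlgSt.ofOverCat U)) := fun U y =>
    (eqvOver_fpFst_precomp (AlgSt.toOverCat U) (isEquivOver_toOverCat U) y f).comp_right
      (AlgSt.ofOverCat U)
  constructor
  · intro h U y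
    obtain ⟨F, e, he, hP⟩ := h U y
    refine HasP.of_eqvOver (key U y).symm ⟨F, e, he, ?_⟩
    rw [spMapOfOver_eq] at hP
    exact hP
  · intro h U y
    obtain ⟨F, e, he, hP⟩ := HasP.of_eqvOver (key U y) (h U y)
    refine ⟨F, e, he, ?_⟩
    rw [spMapOfOver_eq]
    exact hP

/-- the cube: `(G ×_𝒴 𝒵) ×_𝒵 (𝒵 ×_𝒴 𝒳)` is `(G ×_𝒴 𝒵) ×_G (G ×_𝒴 𝒳)` over `G ×_𝒴 𝒵` -/
lemma eqvOver_cube {C : Type*} [Category C] {𝒳 : BasedCategory.{v₁, w₁} C}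
    {𝒴 : BasedCategory.{v₂, w₂} C} {𝒵 : BasedCategory.{v₃, w₃} C} {𝒢 : BasedCategory.{v₄, w₄} C}
    (f : 𝒳 ⥤ᵇ 𝒴) (z : 𝒵 ⥤ᵇ 𝒴) (y : 𝒢 ⥤ᵇ 𝒴) :
    EqvOver (FibCat.fpFst (FibCat.fpSnd y z) (FibCat.fpFst z f))
      (FibCat.fpFst (FibCat.fpFst y z) (FibCat.fpFst y f)) :=
  ((eqvOver_P f z (FibCat.fpSnd y z)).trans
    (eqvOver_fpFst_congr_left (FibCat.fpIso y z).symm f)).trans
    (eqvOver_P f y (FibCat.fpFst y z)).symm

/-- descent of `P` along an fppf covering of the base -/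
theorem hasP_of_cover (hPb : StableBC P) (hP : AlgSp.IsLocalOnBase AlgSp.IsFppfCover P)
    {𝒳 : BasedCategory.{v₁, w₁} (Over S)} {𝒴 : BasedCategory.{v₂, w₂} (Over S)}
    {𝒵 : BasedCategory.{v₃, w₃} (Over S)} (f : 𝒳 ⥤ᵇ 𝒴) (z : 𝒵 ⥤ᵇ 𝒴) (G : AlgSp.Space S)
    (y : AlgSt.ofSp G.obj ⥤ᵇ 𝒴) (hf : AlgSt.RepByAlgSp (FibCat.fp y f))
    (W : AlgSp.Space S) (eW : AlgSt.ofSp W.obj ⥤ᵇ FibCat.fp y z) (heW : FibCat.IsEquivOver eW)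
    (hq : AlgSp.IsFppfCover (ι := PUnit.{u + 1}) (fun _ => W.obj)
      (fun _ => spMapOf (BasedFunctor.comp eW (FibCat.fpFst y z))))
    (h : HasP P (FibCat.fpFst (BasedFunctor.comp eW (FibCat.fpSnd y z)) (FibCat.fpFst z f))) :
    HasP P (FibCat.fpFst y f) := by
  have hPi := phat_respectsIso P hPb
  obtain ⟨F, e, he⟩ := hf
  refine ⟨F, e, he, ?_⟩
  obtain ⟨φ, hφ⟩ : ∃ φ : F.obj ⟶ G.obj, φ = spMapOf (BasedFunctor.comp e (FibCat.fpFst y f)) :=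
    ⟨_, rfl⟩
  obtain ⟨q, hq'⟩ : ∃ q : W.obj ⟶ G.obj, q = spMapOf (BasedFunctor.comp eW (FibCat.fpFst y z)) :=
    ⟨_, rfl⟩
  rw [← hφ]
  rw [← hq'] at hq
  have sq := IsPullback.of_hasPullback φ q
  have hX : AlgSp.IsAlgSpace (pullback φ q) :=
    Groth.Agent.Lib.Helper14.AS.isAlgSpace_of_isPullback
      (Groth.Agent.Lib.Helper14.AS.repDiag_of_isAlgSpace G.property) F.property W.property sq
  have key := hP (ι := PUnit.{u + 1}) (Y := G.obj) (fun _ => W.obj) (fun _ => q)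
    G.property (fun _ => W.property) hq φ F.property (fun _ => pullback φ q)
    (fun _ => pullback.snd _ _) (fun _ => pullback.fst _ _) (fun _ => hX) (fun _ => sq)
  rw [key]
  intro _
  -- it remains to identify the projection
  let X : AlgSp.Space S := ⟨pullback φ q, hX⟩
  have goal : HasP P (AlgSt.ofSpMap (F := X.obj) (G := W.obj) (pullback.snd φ q)) := by
    refine HasP.of_eqvOver ?_ h
    subst hφ hq'
    -- chain of equivalences over `ofSp W`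
    have c1 : EqvOver
        (BasedFunctor.comp (FibCat.fpFst (BasedFunctor.comp eW (FibCat.fpSnd y z)) (FibCat.fpFst z f)) eW)
        (BasedFunctor.comp (FibCat.fpFst (BasedFunctor.comp eW (FibCat.fpFst y z)) (FibCat.fpFst y f)) eW) :=
      ((eqvOver_fpFst_precomp eW heW (FibCat.fpSnd y z) (FibCat.fpFst z f)).trans
        (eqvOver_cube f z y)).trans
        (eqvOver_fpFst_precomp eW heW (FibCat.fpFst y z) (FibCat.fpFst y f)).symm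
    have c2 := EqvOver.of_comp_equiv eW heW c1
    refine c2.trans ?_
    have c3 : EqvOver (FibCat.fpFst (BasedFunctor.comp eW (FibCat.fpFst y z))
        (BasedFunctor.comp e (FibCat.fpFst y f)))
        (FibCat.fpFst (BasedFunctor.comp eW (FibCat.fpFst y z)) (FibCat.fpFst y f)) :=
      eqvOver_fpFst_congr_right _ e he (Iso.refl _)
    refine c3.symm.trans ?_
    have c4 : EqvOver (FibCat.fpFst (BasedFunctor.comp eW (FibCat.fpFst y z))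
        (BasedFunctor.comp e (FibCat.fpFst y f)))
        (FibCat.fpFst (AlgSt.ofSpMap (spMapOf (BasedFunctor.comp eW (FibCat.fpFst y z))))
          (BasedFunctor.comp e (FibCat.fpFst y f))) :=
      eqvOver_fpFst_congr_left (isoOfPshMap (BasedFunctor.comp eW (FibCat.fpFst y z))) _
    refine c4.trans ?_
    have c5 : EqvOver (FibCat.fpFst (AlgSt.ofSpMap (spMapOf (BasedFunctor.comp eW (FibCat.fpFst y z))))
          (BasedFunctor.comp e (FibCat.fpFst y f)))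
        (FibCat.fpFst (AlgSt.ofSpMap (spMapOf (BasedFunctor.comp eW (FibCat.fpFst y z))))
          (AlgSt.ofSpMap (spMapOf (BasedFunctor.comp e (FibCat.fpFst y f))))) :=
      eqvOver_fpFst_congr_right _ (BasedFunctor.id _) (isEquivOver_id _)
        (isoOfPshMap (BasedFunctor.comp e (FibCat.fpFst y f)))
    refine c5.trans ?_
    exact (eqvOver_of_isPullback sq).symm
  exact (hasP_ofSpMap_iff hPi (F := X) (G := W) (pullback.snd φ q)).1 goal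

end HasP

end Groth.Agent.Lib.Helper24.AlgStEqv
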