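import Groth.Agent.Lib.Helper24.FibCatDiagBC
import Groth.Agent.Lib.Helper24.AlgStEqv
import Groth.Agent.Lib.Helper24.AlgStDescent
set_option autoImplicit false
open CategoryTheory AlgebraicGeometry Opposite
universe w₁ v₁ w₂ v₂ w₃ v₃ w₄ v₄ w₅ v₅ u
set_option backward.isDefEq.respectTransparency false
set_option backward.isDefEq.respectTransparency.types false

/-! Base change of the diagonal, for morphisms of categories over `(Sch/S)`. -/

namespace Groth.Agent.Lib.Helper24.AlgStDiagBC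
open Groth.Agent.Lib.Helper24.FibCatFpMap
open Groth.Agent.Lib.Helper24.FibCatEquiv Groth.Agent.Lib.Helper24.FibCatFpGen
open Groth.Agent.Lib.Helper24.AlgStRep
open Groth.Agent.Lib.Helper24.AlgStBridge Groth.Agent.Lib.Helper24.AlgStBoot
open Groth.Agent.Lib.Helper24.AlgStEqv Groth.Agent.Lib.Helper24.FibCatDiagBC
open CategoryTheory.Limits

section General
variable {C : Type*} [Category C]

/-- the diagonal of a base change is equivalent over the target to the base change of the diagonal -/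
lemma eqvOver_diag_baseChange {𝒳 : BasedCategory.{v₁, w₁} C} {𝒴 : BasedCategory.{v₂, w₂} C}
    {𝒵 : BasedCategory.{v₃, w₃} C} (f : 𝒳 ⥤ᵇ 𝒴) (z : 𝒵 ⥤ᵇ 𝒴) :
    EqvOver (FibCat.diag (FibCat.fpFst z f)) (FibCat.fpFst (k f z) (FibCat.diag f)) :=
  ⟨FibCat.fpLift (FibCat.diag (FibCat.fpFst z f)) (FibCat.fpSnd z f) (e f z),
    isEquivOver_diag_baseChange f z, ⟨Iso.refl _⟩⟩

end General

variable {S : Scheme.{u}}

/-- transfer of `RepByAlgSpWith` along an equivalence over the target -/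
theorem repByAlgSpWith_of_eqvOver {𝒜 : BasedCategory.{v₁, w₁} (Over S)}
    {𝒜' : BasedCategory.{v₂, w₂} (Over S)} {ℬ : BasedCategory.{v₃, w₃} (Over S)}
    (P : MorphismProperty (AlgSp.Sp S)) {π : 𝒜 ⥤ᵇ ℬ} {π' : 𝒜' ⥤ᵇ ℬ} (h : EqvOver π π')
    (hπ' : AlgSt.RepByAlgSpWith P π') : AlgSt.RepByAlgSpWith P π := by
  obtain ⟨k, hk, ⟨i⟩⟩ := h
  exact (repByAlgSpWith_iff_of_isEquivOver P π' π k (BasedFunctor.id ℬ) hk (isEquivOver_id _)
    i.symm).1 hπ'

theorem repByAlgSpWith_iff_of_eqvOver {𝒜 : BasedCategory.{v₁, w₁} (Over S)}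
    {𝒜' : BasedCategory.{v₂, w₂} (Over S)} {ℬ : BasedCategory.{v₃, w₃} (Over S)}
    (P : MorphismProperty (AlgSp.Sp S)) {π : 𝒜 ⥤ᵇ ℬ} {π' : 𝒜' ⥤ᵇ ℬ} (h : EqvOver π π') :
    AlgSt.RepByAlgSpWith P π ↔ AlgSt.RepByAlgSpWith P π' :=
  ⟨repByAlgSpWith_of_eqvOver P h.symm, repByAlgSpWith_of_eqvOver P h⟩

/-- base change of a property of the diagonal -/
theorem repByAlgSpWith_diag_fpFst {𝒳 : BasedCategory.{v₁, w₁} (Over S)}
    {𝒴 : BasedCategory.{v₂, w₂} (Over S)} {𝒵 : BasedCategory.{v₃, w₃} (Over S)}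
    (P : MorphismProperty (AlgSp.Sp S)) (f : 𝒳 ⥤ᵇ 𝒴) (z : 𝒵 ⥤ᵇ 𝒴)
    (hf : AlgSt.RepByAlgSpWith P (FibCat.diag f)) :
    AlgSt.RepByAlgSpWith P (FibCat.diag (FibCat.fpFst z f)) :=
  repByAlgSpWith_of_eqvOver P (eqvOver_diag_baseChange f z)
    (repByAlgSpWith_fpFst P (FibCat.diag f) (k f z) hf)

end Groth.Agent.Lib.Helper24.AlgStDiagBC
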