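import Groth.Agent.Lib.Helper24.AlgStLocQ4
import Groth.Agent.Lib.Helper24.AlgStDescent
import Groth.Agent.Lib.Helper24.AlgStCalc2
import Groth.Agent.Lib.Helper24.AlgStDiagLft
set_option autoImplicit false
open CategoryTheory AlgebraicGeometry Opposite
universe w₁ v₁ w₂ v₂ w₃ v₃ w₄ v₄ u
set_option backward.isDefEq.respectTransparency false
set_option backward.isDefEq.respectTransparency.types false

/-! Chart calculus for `LocQ` and the representable case (S12993). -/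

namespace Groth.Agent.Lib.Helper24.AlgStLocQ5
open Groth.Agent.Lib.Helper24.FibCatFpMap
open Groth.Agent.Lib.Helper24.FibCatEquiv Groth.Agent.Lib.Helper24.FibCatFpGen
open Groth.Agent.Lib.Helper24.AlgStRep
open Groth.Agent.Lib.Helper24.AlgStBridge Groth.Agent.Lib.Helper24.AlgStBoot
open Groth.Agent.Lib.Helper24.AlgStRepS
open Groth.Agent.Lib.Helper24.AlgStSchLocal
open Groth.Agent.Lib.Helper24.AlgStGC
open Groth.Agent.Lib.Helper24.AlgStProps Groth.Agent.Lib.Helper24.AlgStSmooth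
open Groth.Agent.Lib.Helper24.AlgStFpAlg Groth.Agent.Lib.Helper24.AlgStSmLoc
open Groth.Agent.Lib.Helper24.AlgStEqv Groth.Agent.Lib.Helper24.PshBridge
open Groth.Agent.Lib.Helper24.AlgStLocQ1 Groth.Agent.Lib.Helper24.FibCatFpMapL
open Groth.Agent.Lib.Helper24.AlgStLocQ2 Groth.Agent.Lib.Helper24.FibCatFpLiftIso
open Groth.Agent.Lib.Helper24.AlgStLocQ3 Groth.Agent.Lib.Helper24.AlgStProdAlg
open Groth.Agent.Lib.Helper24.AlgStLocQ4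
open Groth.Agent.Lib.Helper24.AlgStCalc Groth.Agent.Lib.Helper24.AlgStDiag
open Groth.Agent.Lib.Helper24.AlgStCalc2 Groth.Agent.Lib.Helper24.AlgStDescent
open Groth.Agent.Lib.Helper24.FibCatOverMap Groth.Agent.Lib.Helper24.AlgStAtlas
open Groth.Agent.Lib.Helper24.FibCatGraph Groth.Agent.Lib.Helper24.AlgStDiagLft
open Groth.Agent.Lib.Helper24.FibCatFpSwap
open CategoryTheory.Limits

variable {S : Scheme.{u}}

section
variable {P : MorphismProperty (AlgSp.Sp S)}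
variable {𝒳 𝒴 : AlgSt.Cat S} (h𝒳 : AlgSt.IsAlgStack Scheme.fppfPrecoverage 𝒳)
  (h𝒴 : AlgSt.IsAlgStack Scheme.fppfPrecoverage 𝒴) (f : 𝒳 ⥤ᵇ 𝒴)

include h𝒳 h𝒴 in
/-- `LocQ P f` read on a smooth chart of the fibre product with a smooth chart of the target -/
theorem pt_of_locQ (hP : AlgSp.IsSmoothLocalST P) (h : AlgSt.LocQ P f) {𝒜 ℬ : AlgSt.Cat S}
    (h𝒜 : AlgSt.RepByAlgSp 𝒜) (hℬ : AlgSt.RepByAlgSp ℬ) (y : ℬ ⥤ᵇ 𝒴)
    (hy : AlgSt.RepByAlgSpWith (AlgSp.LocP @Smooth) y) (c : 𝒜 ⥤ᵇ FibCat.fp f y)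
    (hc : AlgSt.RepByAlgSpWith (AlgSp.LocP @Smooth) c) :
    PT P (BasedFunctor.comp c (FibCat.fpSnd f y)) := by
  refine (locQ_iff_PT_forall h𝒳 h𝒴 f hP).1 h 𝒜 ℬ h𝒜 hℬ (BasedFunctor.comp c (FibCat.fpFst f y)) y
    (BasedFunctor.comp c (FibCat.fpSnd f y))
    (liftE c (BasedFunctor.comp c (FibCat.fpSnd f y)) (Iso.refl _)) hy ?_
  exact repByAlgSpWith_of_iso _ (liftIso c (BasedFunctor.comp c (FibCat.fpSnd f y)) (Iso.refl _)).symm hc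

include h𝒳 h𝒴 in
/-- `LocQ P f` from one smooth surjective chart of the fibre product with a smooth surjective
chart of the target -/
theorem locQ_of_pt (hP : AlgSp.IsSmoothLocalST P) {𝒜 ℬ : AlgSt.Cat S}
    (h𝒜 : AlgSt.RepByAlgSp 𝒜) (hℬ : AlgSt.RepByAlgSp ℬ) (y : ℬ ⥤ᵇ 𝒴)
    (hy : AlgSt.RepByAlgSpWith (AlgSp.LocP @Smooth) y)
    (hy' : AlgSt.RepByAlgSpWith AlgSp.IsSurjectiveMor y) (c : 𝒜 ⥤ᵇ FibCat.fp f y)
    (hc : AlgSt.RepByAlgSpWith (AlgSp.LocP @Smooth) c)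
    (hc' : AlgSt.RepByAlgSpWith AlgSp.IsSurjectiveMor c)
    (h : PT P (BasedFunctor.comp c (FibCat.fpSnd f y))) : AlgSt.LocQ P f := by
  have hf𝒜 : FibCat.IsFibGrpd 𝒜.p := isFibGrpd_of_repByAlgSp h𝒜
  have hfℬ : FibCat.IsFibGrpd ℬ.p := isFibGrpd_of_repByAlgSp hℬ
  have hf𝒳 := h𝒳.isStack.1
  have hf𝒴 := h𝒴.isStack.1
  have hffy : FibCat.IsFibGrpd (FibCat.fp f y).p := isFibGrpd_fp _ _ hf𝒳 hfℬ hf𝒴
  refine locQ_of_PT_witness h𝒳 h𝒴 f hP h𝒜 hℬ (BasedFunctor.comp c (FibCat.fpFst f y)) y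
    (BasedFunctor.comp c (FibCat.fpSnd f y))
    (liftE c (BasedFunctor.comp c (FibCat.fpSnd f y)) (Iso.refl _)) ?_ ?_ hy h
  · exact repByAlgSpWith_comp hf𝒜 hffy hf𝒳 _ good_smooth.nice stableComp_smooth _ _ hc
      (repByAlgSpWith_fpFst _ y f hy)
  · exact repByAlgSpWith_comp hf𝒜 hffy hf𝒳 _ good_isSurjectiveMor.nice
      stableComp_isSurjectiveMor _ _ hc' (repByAlgSpWith_fpFst _ y f hy')

end

section rep
variable {P : MorphismProperty (AlgSp.Sp S)}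
variable {𝒜 : BasedCategory.{v₁, w₁} (Over S)} {ℬ : BasedCategory.{v₂, w₂} (Over S)}

/-- from `PT` to `RepByAlgSpWith`, for `P` stable under base change -/
theorem PT.repByAlgSpWith (hPb : StableBC P) {Φ : 𝒜 ⥤ᵇ ℬ} (h : PT P Φ) :
    AlgSt.RepByAlgSpWith P Φ := by
  obtain ⟨F, G, eA, eB, hA, hB, hp⟩ := h
  obtain ⟨eBi, ⟨β⟩, ⟨β'⟩⟩ := hB
  have h1 := repByAlgSpWith_ofSpMap P hPb (V := F) (W := G) _ hp
  have h2 : AlgSt.RepByAlgSpWith P (BasedFunctor.comp eA (BasedFunctor.comp Φ eB)) :=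
    (repByAlgSpWith_congr _ (isoOfPshMap (BasedFunctor.comp eA (BasedFunctor.comp Φ eB)))).1 h1
  exact (repByAlgSpWith_iff_of_isEquivOver P Φ (BasedFunctor.comp eA (BasedFunctor.comp Φ eB)) eA eBi
    hA ⟨eB, ⟨β'⟩, ⟨β⟩⟩ (whiskerLeftIso eA (whiskerLeftIso Φ β))).2 h2

/-- from `RepByAlgSpWith` to `PT`, for `P` nice -/
theorem PT.of_repByAlgSpWith (hP : Nice P) (h𝒜 : AlgSt.RepByAlgSp 𝒜) (hℬ : AlgSt.RepByAlgSp ℬ)
    {Φ : 𝒜 ⥤ᵇ ℬ} (h : AlgSt.RepByAlgSpWith P Φ) : PT P Φ := by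
  obtain ⟨F, eA, hA⟩ := h𝒜
  obtain ⟨G, eB', hB'⟩ := hℬ
  obtain ⟨eB, hB⟩ := exists_inverse_isEquivOver eB' hB'
  exact ⟨F, G, eA, eB, hA, hB, q_spMapOf_of_repByAlgSpWith P hP Φ h eA eB hA hB⟩

end rep

section S12993
variable {P : MorphismProperty (AlgSp.Sp S)}
variable {𝒳 𝒴 : AlgSt.Cat S} (h𝒳 : AlgSt.IsAlgStack Scheme.fppfPrecoverage 𝒳)
  (h𝒴 : AlgSt.IsAlgStack Scheme.fppfPrecoverage 𝒴) (f : 𝒳 ⥤ᵇ 𝒴)

include h𝒳 h𝒴 in
/-- S12993 (⟸): no hypothesis on `P` beyond smooth locality is needed -/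
theorem locQ_of_repByAlgSpWith (hP : AlgSp.IsSmoothLocalST P) (hf : AlgSt.RepByAlgSpWith P f) :
    AlgSt.LocQ P f := by
  obtain ⟨V, y, hy, hy'⟩ := h𝒴.atlas
  obtain ⟨F, e, he, hp⟩ := hf V y
  have hpt : PT P (FibCat.fpFst y f) := by
    refine ⟨F, ⟨(AlgSp.yon S).obj V, AlgSp.IsAlgSpace.yon_obj V⟩, e, AlgSt.ofOverCat V, he,
      isEquivOver_ofOverCat V, ?_⟩
    rw [spMapOfOver_eq] at hp
    exact hp
  have h𝒜 : AlgSt.RepByAlgSp (FibCat.fp y f) := ⟨F, e, he⟩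
  exact locQ_of_pt h𝒳 h𝒴 f hP h𝒜 (repByAlgSp_overCat V) y hy hy' (swap y f)
    (smooth_of_isEquivOver _ (isEquivOver_swap y f))
    (surjective_of_isEquivOver _ (isEquivOver_swap y f)) (PT.of_iso (Iso.refl _) hpt)

include h𝒳 h𝒴 in
/-- S12993 (⟹) -/
theorem repByAlgSpWith_of_locQ (hP : AlgSp.IsSmoothLocalST P) (hPb : StableBC P)
    (hloc : AlgSp.IsLocalOnBase AlgSp.IsFppfCover P) (hf : AlgSt.RepByAlgSp1 f)
    (h : AlgSt.LocQ P f) : AlgSt.RepByAlgSpWith P f := by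
  obtain ⟨V, y, hy, hy'⟩ := h𝒴.atlas
  have hfV : FibCat.IsFibGrpd (FibCat.overCat V).p := StkFpCrit.isFibGrpd_overForget V
  have h𝒜 : AlgSt.RepByAlgSp (FibCat.fp y f) := hf V y
  have hpt : PT P (FibCat.fpFst y f) :=
    PT.of_iso (Iso.refl _) (pt_of_locQ h𝒳 h𝒴 f hP h h𝒜 (repByAlgSp_overCat V) y hy (swap y f)
      (smooth_of_isEquivOver _ (isEquivOver_swap y f)))
  have h1 : AlgSt.RepByAlgSpWith P (FibCat.fpFst y f) := PT.repByAlgSpWith hPb hpt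
  exact repByAlgSpWith_of_fpFst_cover h𝒳.isStack.1 h𝒴.isStack.1 hfV P hPb hloc f hf y
    (repByAlgSpWith_locP_mono smooth_le_flat y hy) (repByAlgSpWith_locP_mono smooth_le_lfp y hy)
    hy' h1

end S12993

end Groth.Agent.Lib.Helper24.AlgStLocQ5
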