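import Groth.Agent.Lib.Helper24.AlgStOpenSub5
import Groth.Agent.Lib.Helper24.AlgStLocQ5
import Groth.Agent.Lib.Helper24.AlgStDescent
import Groth.Agent.Lib.Helper24.AlgStDiagBC
set_option autoImplicit false
open CategoryTheory AlgebraicGeometry Opposite
universe w₁ v₁ w₂ v₂ w₃ v₃ w₄ v₄ u
set_option backward.isDefEq.respectTransparency false
set_option backward.isDefEq.respectTransparency.types false

namespace Groth.Agent.Lib.Helper24.AlgStClosedSub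
open Groth.Agent.Lib.Helper24.FibCatFpMap
open Groth.Agent.Lib.Helper24.FibCatEquiv Groth.Agent.Lib.Helper24.FibCatFpGen
open Groth.Agent.Lib.Helper24.AlgStPts1 Groth.Agent.Lib.Helper24.AlgStPts3
open Groth.Agent.Lib.Helper24.AlgStPts4 Groth.Agent.Lib.Helper24.AlgStPts5 Groth.Agent.Lib.Helper24.AlgStPts7
open Groth.Agent.Lib.Helper24.AlgStOpenSub1 Groth.Agent.Lib.Helper24.AlgStOpenSub2
open Groth.Agent.Lib.Helper24.AlgStOpenSub3 Groth.Agent.Lib.Helper24.AlgStOpenSub5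
open Groth.Agent.Lib.Helper24.AlgStRepAlg
open Groth.Agent.Lib.Helper24.AlgStRep Groth.Agent.Lib.Helper24.AlgStRepS
open Groth.Agent.Lib.Helper24.AlgStSchLocal Groth.Agent.Lib.Helper24.AlgStLocQ1
open Groth.Agent.Lib.Helper24.AlgStLocQ5 Groth.Agent.Lib.Helper24.AlgStDescent
open Groth.Agent.Lib.Helper24.AlgStEqv Groth.Agent.Lib.Helper24.AlgStCalc
open Groth.Agent.Lib.Helper24.AlgStBridge Groth.Agent.Lib.Helper24.AlgStSmLoc
open Groth.Agent.Lib.Helper24.AlgStBoot Groth.Agent.Lib.Helper24.AlgStProps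
open Groth.Agent.Lib.Helper24.FibCatYoneda Groth.Agent.Lib.Helper24.FibGrpd
open Groth.Agent.Lib.Helper24.FibCatTwoCart
open Groth.Agent.Lib.Helper26.StackPoints Groth.Agent.Lib.Helper24.AlgStDiagLft
open CategoryTheory.Limits AlgSt

variable {S : Scheme.{u}} {𝒳 : AlgSt.Cat S}

theorem good_iso : Good (MorphismProperty.isomorphisms (AlgSp.Sp S)) :=
  Good.of_fpqc (fun _ _ _ _ _ _ _ _ _ _ _ _ sq hf =>
    MorphismProperty.of_isPullback (P := MorphismProperty.isomorphisms (AlgSp.Sp S)) sq hf)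
    Groth.Agent.Lib.Helper14.AS.isLocalOnBase_fpqc_isomorphisms

theorem repByAlgSpWith_iso_subIncl (h𝒳 : AlgSt.IsAlgStack Scheme.fppfPrecoverage 𝒳)
    (hred : AlgSt.SmoothLocally (fun X => IsReduced X) 𝒳)
    (Q : 𝒳.obj → Prop) (hQ : AlgSt.IsClosedSubstack 𝒳 Q Scheme.fppfPrecoverage)
    (hpts : Set.range (AlgSt.Points.map (AlgSt.subIncl 𝒳 Q)) = Set.univ) :
    AlgSt.RepByAlgSpWith (MorphismProperty.isomorphisms (AlgSp.Sp S)) (AlgSt.subIncl 𝒳 Q) := by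
  obtain ⟨hcl, halg, himm⟩ := hQ
  have hG := h𝒳.isStack.1
  obtain ⟨U, u, hu, hu'⟩ := h𝒳.atlas
  have hU : IsReduced U.left := hred U u hu
  have hfU : FibCat.IsFibGrpd (FibCat.overCat U).p :=
    Groth.Agent.Lib.Helper24.StkFpCrit.isFibGrpd_overForget U
  obtain ⟨F, e, he, hp⟩ := himm U u
  let Φ : AlgSt.ofSp F.obj ⥤ᵇ FibCat.overCat U :=
    BasedFunctor.comp e (FibCat.fpFst u (AlgSt.subIncl 𝒳 Q))
  have hj : AlgSt.IsSurjective (AlgSt.subIncl 𝒳 Q) := fun z => by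
    have : z ∈ Set.range (AlgSt.Points.map (AlgSt.subIncl 𝒳 Q)) := by rw [hpts]; trivial
    exact this
  have hsurj : AlgSp.IsSurjectiveMor (AlgSt.spMapOfOver Φ) := by
    rw [← surjective_map_iff]
    intro z
    obtain ⟨ω, hω⟩ := isSurjective_fpFst halg.isStack.1 hG hfU (AlgSt.subIncl 𝒳 Q) u hj z
    obtain ⟨ω', rfl⟩ := (bijective_map_of_isEquivOver e he).2 ω
    exact ⟨ω', by rw [map_comp]; exact hω⟩
  obtain ⟨hrep, hP⟩ := (AlgSp.repWith_iff @IsClosedImmersion (AlgSt.spMapOfOver Φ)).1 hp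
  obtain ⟨V, snd, fst, sq⟩ := hrep (𝟙 ((AlgSp.yon S).obj U))
  have ho : IsClosedImmersion snd.left := hP (𝟙 _) fst snd sq
  have hs : Surjective snd.left := surjective_of_isSurjectiveMor_yon_map snd
    (good_isSurjectiveMor.bc F.property (AlgSp.IsAlgSpace.yon_obj U) (AlgSp.IsAlgSpace.yon_obj V)
      (AlgSp.IsAlgSpace.yon_obj U) _ _ _ _ sq hsurj)
  have hiso : IsIso snd.left := isIso_of_isClosedImmersion_of_surjective snd.left
  have hiso' : IsIso snd := by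
    have : IsIso ((Over.forget S).map snd) := hiso
    exact isIso_of_reflects_iso snd (Over.forget S)
  have hfst : IsIso fst := sq.isIso_fst_of_isIso
  have hΦ : IsIso (AlgSt.spMapOfOver Φ) := by
    have h1 : AlgSt.spMapOfOver Φ = CategoryTheory.inv fst ≫ (AlgSp.yon S).map snd := by
      rw [IsIso.eq_inv_comp, sq.w, Category.comp_id]
    rw [h1]
    infer_instance
  have hpt : PT (MorphismProperty.isomorphisms (AlgSp.Sp S))
      (FibCat.fpFst u (AlgSt.subIncl 𝒳 Q)) := by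
    refine ⟨F, ⟨(AlgSp.yon S).obj U, AlgSp.IsAlgSpace.yon_obj U⟩, e, AlgSt.ofOverCat U, he,
      isEquivOver_ofOverCat U, ?_⟩
    have : MorphismProperty.isomorphisms (AlgSp.Sp S) (AlgSt.spMapOfOver Φ) := hΦ
    rw [spMapOfOver_eq] at this
    exact this
  have h1 : AlgSt.RepByAlgSpWith (MorphismProperty.isomorphisms (AlgSp.Sp S))
      (FibCat.fpFst u (AlgSt.subIncl 𝒳 Q)) := PT.repByAlgSpWith good_iso.bc hpt
  have hrep1 : AlgSt.RepByAlgSp1 (AlgSt.subIncl 𝒳 Q) := fun T y => by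
    obtain ⟨F, e, he, -⟩ := himm T y
    exact ⟨F, e, he⟩
  exact repByAlgSpWith_of_fpFst_cover halg.isStack.1 hG hfU _ good_iso.bc good_iso.loc
    (AlgSt.subIncl 𝒳 Q) hrep1 u
    (repByAlgSpWith_locP_mono Groth.Agent.Lib.Helper24.AlgStDiagLft.smooth_le_flat u hu)
    (repByAlgSpWith_locP_mono Groth.Agent.Lib.Helper24.AlgStDiagLft.smooth_le_lfp u hu) hu' h1

/-- if the inclusion of a strictly full substack is (representably) an isomorphism, the substack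
is everything -/
theorem prop_of_repByAlgSpWith_iso (h𝒳 : FibCat.IsFibGrpd 𝒳.p) (Q : 𝒳.obj → Prop)
    [ObjectProperty.IsClosedUnderIsomorphisms Q] (hfib : FibCat.IsFibGrpd (AlgSt.fullSub 𝒳 Q).p)
    (h : AlgSt.RepByAlgSpWith (MorphismProperty.isomorphisms (AlgSp.Sp S)) (AlgSt.subIncl 𝒳 Q))
    (y : 𝒳.obj) : Q y := by
  have : 𝒳.p.IsFibered := isFibered_of_isFibGrpd 𝒳.p h𝒳
  let T : Over S := 𝒳.p.obj y
  let ŷ : FibCat.overCat T ⥤ᵇ 𝒳 := pbBased (rfl : 𝒳.p.obj y = T)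
  obtain ⟨F, e, he, hp⟩ := h T ŷ
  let Φ : AlgSt.ofSp F.obj ⥤ᵇ FibCat.overCat T :=
    BasedFunctor.comp e (FibCat.fpFst ŷ (AlgSt.subIncl 𝒳 Q))
  have hiso : IsIso (AlgSt.spMapOfOver Φ) := hp
  let x : F.obj.obj.obj (op T) := (CategoryTheory.inv (AlgSt.spMapOfOver Φ)).hom.app (op T) ⟨𝟙 T⟩
  have hx : (AlgSt.spMapOfOver Φ).hom.app (op T) x = ⟨𝟙 T⟩ := by
    have h1 := congrArg (fun φ => φ.hom.app (op T) (⟨𝟙 T⟩ : ULift (T ⟶ T)))
      (IsIso.inv_hom_id (AlgSt.spMapOfOver Φ))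
    exact h1
  let a : (AlgSt.ofSp F.obj).obj := ⟨T, x⟩
  have hsec : AlgSt.secHom Φ a = 𝟙 T := by
    have h2 := AlgSt.spMapOfOver_app Φ T x
    rw [hx] at h2
    exact (congrArg ULift.down h2).symm
  let η := e.obj a
  have hw : (Φ.obj a).left = T := Φ.w_obj a
  let m : Over.mk (𝟙 T) ⟶ Φ.obj a := Over.homMk (eqToHom hw.symm) hsec
  have hpi : IsIso (pbMap (rfl : 𝒳.p.obj y = T) (Over.mk (𝟙 T))) :=
    pbMap_id_isIso (rfl : 𝒳.p.obj y = T)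
  exact prop_of_hom h𝒳 Q hfib
    (CategoryTheory.inv (pbMap (rfl : 𝒳.p.obj y = T) (Over.mk (𝟙 T))) ≫ ŷ.map m ≫ η.obj.iso.hom)
    η.obj.snd.property

section Pullback
variable {𝒳 𝒴 : AlgSt.Cat S} (f : 𝒴 ⥤ᵇ 𝒳) (Q : 𝒳.obj → Prop)

/-- the preimage of a strictly full subcategory -/
def PB : 𝒴.obj → Prop := fun y => Q (f.obj y)

instance pb_closed [ObjectProperty.IsClosedUnderIsomorphisms Q] :
    ObjectProperty.IsClosedUnderIsomorphisms (PB f Q) where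
  of_iso e h := ObjectProperty.prop_of_iso Q (f.toFunctor.mapIso e) h

/-- the restriction of `f` to the preimage -/
def pbSub : AlgSt.fullSub 𝒴 (PB f Q) ⥤ᵇ AlgSt.fullSub 𝒳 Q where
  toFunctor := ObjectProperty.lift Q (ObjectProperty.ι (PB f Q) ⋙ f.toFunctor) (fun y => y.property)
  w := by
    change (ObjectProperty.ι (PB f Q) ⋙ f.toFunctor) ⋙ 𝒳.p = ObjectProperty.ι (PB f Q) ⋙ 𝒴.p
    rw [Functor.assoc, f.w]

def pbSubIso : BasedFunctor.comp (AlgSt.subIncl 𝒴 (PB f Q)) f ≅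
    BasedFunctor.comp (pbSub f Q) (AlgSt.subIncl 𝒳 Q) := Iso.refl _

/-- the comparison functor from the preimage to the 2-fibre product -/
def pbLift : AlgSt.fullSub 𝒴 (PB f Q) ⥤ᵇ FibCat.fp f (AlgSt.subIncl 𝒳 Q) :=
  FibCat.fpLift (AlgSt.subIncl 𝒴 (PB f Q)) (pbSub f Q) (pbSubIso f Q)

theorem isEquivOver_pbLift [ObjectProperty.IsClosedUnderIsomorphisms Q] :
    FibCat.IsEquivOver (pbLift f Q) := by
  refine isEquivOver_fpLift_of _ _ _ ?_ ?_ ?_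
  · intro w w' m m' h _
    exact (AlgSt.subIncl 𝒴 (PB f Q)).toFunctor.map_injective h
  · intro w w' u v h
    refine ⟨ObjectProperty.homMk u, rfl, ?_⟩
    apply (AlgSt.subIncl 𝒳 Q).toFunctor.map_injective
    have h' : f.map u ≫ 𝟙 _ = 𝟙 _ ≫ v.hom := h
    rw [Category.comp_id, Category.id_comp] at h'
    exact h'
  · intro η
    have hq : Q (f.obj η.obj.fst) := ObjectProperty.prop_of_iso Q η.obj.iso.symm η.obj.snd.property
    refine ⟨⟨η.obj.fst, hq⟩, Iso.refl _,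
      ObjectProperty.isoMk (X := (⟨f.obj η.obj.fst, hq⟩ : (AlgSt.fullSub 𝒳 Q).obj)) (Y := η.obj.snd) _
        η.obj.iso, ?_, ?_⟩
    · exact IsHomLift.id rfl
    · change f.map (𝟙 _) ≫ η.obj.iso.hom = 𝟙 _ ≫ η.obj.iso.hom
      rw [f.toFunctor.map_id, Category.id_comp]

theorem eqvOver_pb [ObjectProperty.IsClosedUnderIsomorphisms Q] :
    EqvOver (AlgSt.subIncl 𝒴 (PB f Q)) (FibCat.fpFst f (AlgSt.subIncl 𝒳 Q)) :=
  ⟨pbLift f Q, isEquivOver_pbLift f Q, ⟨Iso.refl _⟩⟩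

theorem repByAlgSpWith_subIncl_pb [ObjectProperty.IsClosedUnderIsomorphisms Q]
    (P : MorphismProperty (AlgSp.Sp S)) (h : AlgSt.RepByAlgSpWith P (AlgSt.subIncl 𝒳 Q)) :
    AlgSt.RepByAlgSpWith P (AlgSt.subIncl 𝒴 (PB f Q)) :=
  Groth.Agent.Lib.Helper24.AlgStDiagBC.repByAlgSpWith_of_eqvOver P (eqvOver_pb f Q)
    (repByAlgSpWith_fpFst P _ f h)

theorem isFibGrpd_fullSub_pb [ObjectProperty.IsClosedUnderIsomorphisms Q]
    (h𝒳 : FibCat.IsFibGrpd 𝒳.p) (h𝒴 : FibCat.IsFibGrpd 𝒴.p)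
    (hfib : FibCat.IsFibGrpd (AlgSt.fullSub 𝒳 Q).p) :
    FibCat.IsFibGrpd (AlgSt.fullSub 𝒴 (PB f Q)).p :=
  Groth.Agent.Lib.Helper24.StkSub.isFibGrpd_sub h𝒴
    (fun y _ φ hx => ⟨y, Iso.refl _, prop_of_hom h𝒳 Q hfib (f.map φ) hx, IsHomLift.id rfl⟩)

theorem isAlgStack_fullSub_pb [ObjectProperty.IsClosedUnderIsomorphisms Q]
    (h𝒳 : FibCat.IsFibGrpd 𝒳.p) (h𝒴 : AlgSt.IsAlgStack Scheme.fppfPrecoverage 𝒴)
    (hfib : FibCat.IsFibGrpd (AlgSt.fullSub 𝒳 Q).p)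
    (h : AlgSt.RepByAlgSp1 (AlgSt.subIncl 𝒳 Q)) :
    AlgSt.IsAlgStack Scheme.fppfPrecoverage (AlgSt.fullSub 𝒴 (PB f Q)) :=
  isAlgStack_of_repByAlgSp1 (isFibGrpd_fullSub_pb f Q h𝒳 h𝒴.isStack.1 hfib) h𝒴 _
    ((repByAlgSp1_iff_with_top _).2
      (repByAlgSpWith_subIncl_pb f Q ⊤ ((repByAlgSp1_iff_with_top _).1 h)))

theorem isClosedSubstack_pb (h𝒳 : FibCat.IsFibGrpd 𝒳.p)
    (h𝒴 : AlgSt.IsAlgStack Scheme.fppfPrecoverage 𝒴)
    (hQ : AlgSt.IsClosedSubstack 𝒳 Q Scheme.fppfPrecoverage) :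
    AlgSt.IsClosedSubstack 𝒴 (PB f Q) Scheme.fppfPrecoverage := by
  obtain ⟨hcl, halg, himm⟩ := hQ
  exact ⟨pb_closed f Q, isAlgStack_fullSub_pb f Q h𝒳 h𝒴 halg.isStack.1
    (repByAlgSp1_of_repByAlgSpWith _ _ himm), repByAlgSpWith_subIncl_pb f Q _ himm⟩

theorem isOpenSubstack_pb (h𝒳 : FibCat.IsFibGrpd 𝒳.p)
    (h𝒴 : AlgSt.IsAlgStack Scheme.fppfPrecoverage 𝒴)
    (hQ : AlgSt.IsOpenSubstack 𝒳 Q Scheme.fppfPrecoverage) :
    AlgSt.IsOpenSubstack 𝒴 (PB f Q) Scheme.fppfPrecoverage := by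
  obtain ⟨hcl, halg, himm⟩ := hQ
  exact ⟨pb_closed f Q, isAlgStack_fullSub_pb f Q h𝒳 h𝒴 halg.isStack.1
    (repByAlgSp1_of_repByAlgSpWith _ _ himm), repByAlgSpWith_subIncl_pb f Q _ himm⟩

/-- the points of the preimage substack -/
theorem range_map_subIncl_pb [ObjectProperty.IsClosedUnderIsomorphisms Q]
    (h𝒳 : FibCat.IsFibGrpd 𝒳.p) (h𝒴 : FibCat.IsFibGrpd 𝒴.p)
    (hfib : FibCat.IsFibGrpd (AlgSt.fullSub 𝒳 Q).p) :
    Set.range (Points.map (AlgSt.subIncl 𝒴 (PB f Q))) =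
      Points.map f ⁻¹' Set.range (Points.map (AlgSt.subIncl 𝒳 Q)) := by
  ext z
  constructor
  · rintro ⟨w, rfl⟩
    exact ⟨Points.map (pbSub f Q) w, by rw [← map_comp, ← map_comp]; rfl⟩
  · rintro ⟨x, hx⟩
    obtain ⟨ω, hω1, -⟩ := exists_points_fp hfib h𝒳 h𝒴 (AlgSt.subIncl 𝒳 Q) f z x hx.symm
    obtain ⟨ω', rfl⟩ := (bijective_map_of_isEquivOver _ (isEquivOver_pbLift f Q)).2 ω
    exact ⟨ω', by rw [← hω1, ← map_comp]; rfl⟩

end Pullback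


/-- S12865 -/
theorem closedSubstack_eq_of_reduced {𝒳 : AlgSt.Cat S}
    (h𝒳 : AlgSt.IsAlgStack Scheme.fppfPrecoverage 𝒳)
    (hred : AlgSt.SmoothLocally (fun X => IsReduced X) 𝒳)
    (Q : 𝒳.obj → Prop) (hQ : AlgSt.IsClosedSubstack 𝒳 Q Scheme.fppfPrecoverage)
    (hpts : Set.range (AlgSt.Points.map (AlgSt.subIncl 𝒳 Q)) = Set.univ) (y : 𝒳.obj) : Q y := by
  have := hQ.1
  exact prop_of_repByAlgSpWith_iso h𝒳.isStack.1 Q hQ.2.1.isStack.1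
    (repByAlgSpWith_iso_subIncl h𝒳 hred Q hQ hpts) y

/-- S12866 -/
theorem factors_iff_of_reduced {𝒳 𝒴 : AlgSt.Cat S}
    (h𝒳 : AlgSt.IsAlgStack Scheme.fppfPrecoverage 𝒳)
    (h𝒴 : AlgSt.IsAlgStack Scheme.fppfPrecoverage 𝒴)
    (hred : AlgSt.SmoothLocally (fun X => IsReduced X) 𝒴)
    (Q : 𝒳.obj → Prop) (hQ : AlgSt.IsClosedSubstack 𝒳 Q Scheme.fppfPrecoverage) (f : 𝒴 ⥤ᵇ 𝒳) :
    (∀ y : 𝒴.obj, Q (f.obj y)) ↔ Set.range (AlgSt.Points.map f) ⊆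
      Set.range (AlgSt.Points.map (AlgSt.subIncl 𝒳 Q)) := by
  have := hQ.1
  constructor
  · rintro h _ ⟨z, rfl⟩
    obtain ⟨q, rfl⟩ := Points.mk_surjective z
    exact ⟨Points.mk ⟨q.K, q.str, ⟨f.obj q.obj, h _⟩, (q.map f).lies⟩, rfl⟩
  · intro h y
    refine closedSubstack_eq_of_reduced h𝒴 hred (PB f Q)
      (isClosedSubstack_pb f Q h𝒳.isStack.1 h𝒴 hQ) ?_ y
    rw [range_map_subIncl_pb f Q h𝒳.isStack.1 h𝒴.isStack.1 hQ.2.1.isStack.1]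
    ext z
    simp only [Set.mem_preimage, Set.mem_univ, iff_true]
    exact h ⟨z, rfl⟩

end Groth.Agent.Lib.Helper24.AlgStClosedSub
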