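import Groth.Agent.Lib.Helper24.AlgStDescent
import Groth.Agent.Lib.Helper24.AlgStSmLoc
import Groth.Agent.Lib.Helper24.AlgStLocQ6
import Groth.Agent.Lib.Helper24.QuotAtlas
import Groth.Agent.Lib.Helper24.DescSubsheaf
set_option autoImplicit false
open CategoryTheory AlgebraicGeometry Opposite
universe w₁ v₁ w₂ v₂ w₃ v₃ u
set_option backward.isDefEq.respectTransparency false
set_option backward.isDefEq.respectTransparency.types false

/-! Descent of properties of representable morphisms along fppf covering families of the target. -/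

namespace Groth.Agent.Lib.Helper24.AlgStDescent2
open Groth.Agent.Lib.Helper24.FibCatFpGen Groth.Agent.Lib.Helper24.AlgStRep
open Groth.Agent.Lib.Helper24.AlgStRepS Groth.Agent.Lib.Helper24.AlgStEqv
open Groth.Agent.Lib.Helper24.AlgStIso Groth.Agent.Lib.Helper24.AlgStDescent
open Groth.Agent.Lib.Helper24.PshBridge Groth.Agent.Lib.Helper24.AlgStBridge
open Groth.Agent.Lib.Helper24.AlgStBoot Groth.Agent.Lib.Helper24.FibCatEquiv
open CategoryTheory.Limits

variable {S : Scheme.{u}} {P : MorphismProperty (AlgSp.Sp S)}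

/-- descent of `P` along an fppf covering family of the base -/
theorem hasP_of_family_cover (hPb : StableBC P) (hP : AlgSp.IsLocalOnBase AlgSp.IsFppfCover P)
    {𝒳 : BasedCategory.{v₁, w₁} (Over S)} {𝒴 : BasedCategory.{v₂, w₂} (Over S)}
    (f : 𝒳 ⥤ᵇ 𝒴) (G : AlgSp.Space S)
    (y : AlgSt.ofSp G.obj ⥤ᵇ 𝒴) (hf : AlgSt.RepByAlgSp (FibCat.fp y f))
    {ι : Type u} (W : ι → AlgSp.Space S) (q : ∀ i, (W i).obj ⟶ G.obj)
    (hq : AlgSp.IsFppfCover (fun i => (W i).obj) q)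
    (h : ∀ i, HasP P (FibCat.fpFst (BasedFunctor.comp (AlgSt.ofSpMap (q i)) y) f)) :
    HasP P (FibCat.fpFst y f) := by
  have hPi := phat_respectsIso P hPb
  obtain ⟨F, e, he⟩ := hf
  refine ⟨F, e, he, ?_⟩
  obtain ⟨φ, hφ⟩ : ∃ φ : F.obj ⟶ G.obj, φ = spMapOf (BasedFunctor.comp e (FibCat.fpFst y f)) :=
    ⟨_, rfl⟩
  rw [← hφ]
  have sq := fun i => IsPullback.of_hasPullback φ (q i)
  have hX : ∀ i, AlgSp.IsAlgSpace (pullback φ (q i)) := fun i =>
    Groth.Agent.Lib.Helper14.AS.isAlgSpace_of_isPullback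
      (Groth.Agent.Lib.Helper14.AS.repDiag_of_isAlgSpace G.property) F.property (W i).property
      (sq i)
  have key := hP (fun i => (W i).obj) q
    G.property (fun i => (W i).property) hq φ F.property (fun i => pullback φ (q i))
    (fun i => pullback.snd _ _) (fun i => pullback.fst _ _) hX sq
  rw [key]
  intro i
  let X : AlgSp.Space S := ⟨pullback φ (q i), hX i⟩
  have goal : HasP P (AlgSt.ofSpMap (F := X.obj) (G := (W i).obj) (pullback.snd φ (q i))) := by
    refine HasP.of_eqvOver ?_ (h i)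
    subst hφ
    refine (eqvOver_P f y (AlgSt.ofSpMap (q i))).symm.trans ?_
    have c3 : EqvOver (FibCat.fpFst (AlgSt.ofSpMap (q i)) (BasedFunctor.comp e (FibCat.fpFst y f)))
        (FibCat.fpFst (AlgSt.ofSpMap (q i)) (FibCat.fpFst y f)) :=
      eqvOver_fpFst_congr_right _ e he (Iso.refl _)
    refine c3.symm.trans ?_
    have c5 : EqvOver (FibCat.fpFst (AlgSt.ofSpMap (q i)) (BasedFunctor.comp e (FibCat.fpFst y f)))
        (FibCat.fpFst (AlgSt.ofSpMap (q i))
          (AlgSt.ofSpMap (spMapOf (BasedFunctor.comp e (FibCat.fpFst y f))))) :=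
      eqvOver_fpFst_congr_right _ (BasedFunctor.id _) (isEquivOver_id _)
        (isoOfPshMap (BasedFunctor.comp e (FibCat.fpFst y f)))
    refine c5.trans ?_
    exact (eqvOver_of_isPullback (sq i)).symm
  exact (hasP_ofSpMap_iff hPi (F := X) (G := W i) (pullback.snd φ (q i))).1 goal

/-- `P` descends along a morphism through which every object factors fppf locally -/
theorem repByAlgSpWith_of_local_factorization {𝒳 𝒴 𝒵 : AlgSt.Cat S}
    (P : MorphismProperty (AlgSp.Sp S)) (hPb : StableBC P)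
    (hP : AlgSp.IsLocalOnBase AlgSp.IsFppfCover P) (f : 𝒳 ⥤ᵇ 𝒴) (hf : AlgSt.RepByAlgSp1 f)
    (g : 𝒵 ⥤ᵇ 𝒴)
    (hg : ∀ (U : Over S) (y : FibCat.overCat U ⥤ᵇ 𝒴), ∃ R ∈ (QuotSh.J Scheme.fppfPrecoverage S) U,
      ∀ ⦃V : Over S⦄ (h : V ⟶ U), R.arrows h →
        ∃ z : FibCat.overCat V ⥤ᵇ 𝒵,
          Nonempty (BasedFunctor.comp z g ≅ BasedFunctor.comp (AlgSt.overMap h) y))
    (h' : AlgSt.RepByAlgSpWith P (FibCat.fpFst g f)) : AlgSt.RepByAlgSpWith P f := by
  rw [repByAlgSpWith_iff_hasP]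
  intro U y
  obtain ⟨R, hR, hRz⟩ := hg U y
  obtain ⟨R', hR', hle⟩ := (Groth.Agent.Lib.Helper14.AS.mem_J_iff R).1 hR
  have hsurj : ∀ x : U.left, ∃ (V : Over S) (h : V ⟶ U), R' h ∧ x ∈ Set.range h.left :=
    fun x => Groth.Agent.Lib.Helper24.DescSubsheaf.exists_mem_range_of_mem_KS R' hR' x
  choose V h hR'h hx using hsurj
  have hprop := fun x => Groth.Agent.Lib.Helper24.QuotAtlas.prop_of_mem_KS R' hR' (h x) (hR'h x)
  have h'' := (repByAlgSpWith_iff_hasP (FibCat.fpFst g f)).1 h'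
  refine hasP_of_family_cover hPb hP f ⟨(AlgSp.yon S).obj U, AlgSp.IsAlgSpace.yon_obj U⟩
    (BasedFunctor.comp (AlgSt.toOverCat U) y) (repByAlgSp_fp_toOverCat f hf U y)
    (fun x => ⟨(AlgSp.yon S).obj (V x), AlgSp.IsAlgSpace.yon_obj (V x)⟩)
    (fun x => (AlgSp.yon S).map (h x)) ⟨fun x => ⟨?_, ?_⟩, fun pt => ?_⟩ (fun x => ?_)
  · exact Groth.Agent.Lib.Helper24.AlgStLocQ6.locP_yon_map_of
      Groth.Agent.Lib.Helper14.AS.etLocal_flat (hprop x).1
  · exact Groth.Agent.Lib.Helper24.AlgStLocQ6.locP_yon_map_of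
      Groth.Agent.Lib.Helper14.AS.etLocal_lfp (hprop x).2
  · obtain ⟨t, rfl⟩ := (AlgSp.Points.schemeHomeo U).surjective pt
    obtain ⟨v, hv⟩ := hx t
    exact ⟨t, AlgSp.Points.schemeHomeo (V t) v, by rw [AlgSp.Points.map_yon_map_apply, hv]⟩
  · obtain ⟨z, ⟨i⟩⟩ := hRz (h x) (hle _ _ (hR'h x))
    have h1 := h'' (V x) z
    refine HasP.of_eqvOver ?_ h1
    refine (eqvOver_P f g (BasedFunctor.comp (AlgSt.toOverCat (V x)) z)).trans ?_
    exact eqvOver_fpFst_congr_left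
      (y' := BasedFunctor.comp (BasedFunctor.comp (AlgSt.toOverCat (V x)) z) g)
      (y := BasedFunctor.comp (AlgSt.ofSpMap ((AlgSp.yon S).map (h x)))
        (BasedFunctor.comp (AlgSt.toOverCat U) y))
      (whiskerLeftIso (AlgSt.toOverCat (V x)) i : _) f

end Groth.Agent.Lib.Helper24.AlgStDescent2
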