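import Groth.Agent.Lib.Helper24.AlgStDiagBC
set_option autoImplicit false
open CategoryTheory AlgebraicGeometry Opposite
universe w₁ v₁ w₂ v₂ w₃ v₃ w₄ v₄ w₅ v₅ u
set_option backward.isDefEq.respectTransparency false
set_option backward.isDefEq.respectTransparency.types false

/-! A property of the diagonal can be tested on the base changes to schemes. -/

namespace Groth.Agent.Lib.Helper24.AlgStDiagBC2
open Groth.Agent.Lib.Helper24.FibCatFpMap
open Groth.Agent.Lib.Helper24.FibCatEquiv Groth.Agent.Lib.Helper24.FibCatFpGen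
open Groth.Agent.Lib.Helper24.AlgStRep
open Groth.Agent.Lib.Helper24.AlgStBridge Groth.Agent.Lib.Helper24.AlgStBoot
open Groth.Agent.Lib.Helper24.AlgStEqv Groth.Agent.Lib.Helper24.FibCatDiagBC
open Groth.Agent.Lib.Helper24.AlgStDiagBC
open Groth.Agent.Lib.Helper24.FibCatDiag (mkIso)
open CategoryTheory.Limits

section General
variable {C : Type*} [Category C] {𝒳 : BasedCategory.{v₁, w₁} C} {𝒴 : BasedCategory.{v₂, w₂} C}
  {𝒲 : BasedCategory.{v₃, w₃} C} (f : 𝒳 ⥤ᵇ 𝒴) (t : 𝒲 ⥤ᵇ FibCat.fp f f)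

/-- the image in `𝒴` of a test object of `𝒳 ×_𝒴 𝒳` -/
def yOf : 𝒲 ⥤ᵇ 𝒴 := BasedFunctor.comp t (BasedFunctor.comp (FibCat.fpFst f f) f)

/-- first component of the lift -/
def a₁ : 𝒲 ⥤ᵇ FibCat.fp (yOf f t) f :=
  FibCat.fpLift (BasedFunctor.id 𝒲) (BasedFunctor.comp t (FibCat.fpFst f f)) (Iso.refl _)

/-- second component of the lift -/
def a₂ : 𝒲 ⥤ᵇ FibCat.fp (yOf f t) f :=
  FibCat.fpLift (BasedFunctor.id 𝒲) (BasedFunctor.comp t (FibCat.fpSnd f f))
    (whiskerLeftIso t (FibCat.fpIso f f))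

/-- the lift of a test object of `𝒳 ×_𝒴 𝒳` to `𝒳_𝒲 ×_𝒲 𝒳_𝒲` -/
def tLift : 𝒲 ⥤ᵇ FibCat.fp (FibCat.fpFst (yOf f t) f) (FibCat.fpFst (yOf f t) f) :=
  FibCat.fpLift (a₁ f t) (a₂ f t) (Iso.refl _)

/-- components of the comparison -/
def tLiftApp (w : 𝒲.obj) :
    (k f (yOf f t)).toFunctor.obj ((tLift f t).toFunctor.obj w) ≅ t.toFunctor.obj w :=
  mkIso (Iso.refl _) (Iso.refl _) (by
    rw [k_obj_iso_hom]
    change f.toFunctor.map (𝟙 _) ≫ (t.toFunctor.obj w).obj.iso.hom =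
      (𝟙 _ ≫ (yOf f t).toFunctor.map (𝟙 _) ≫ (t.toFunctor.obj w).obj.iso.hom) ≫
        f.toFunctor.map (𝟙 _)
    simp)

/-- the lift recovers the test object -/
def tLiftIso : BasedFunctor.comp (tLift f t) (k f (yOf f t)) ≅ t :=
  BasedNatIso.mkNatIso (NatIso.ofComponents (tLiftApp f t) (by
    intro w w' m
    apply hom_ext'
    · change (t.toFunctor.map m).hom.fst ≫ 𝟙 _ = 𝟙 _ ≫ (t.toFunctor.map m).hom.fst
      simp
    · change (t.toFunctor.map m).hom.snd ≫ 𝟙 _ = 𝟙 _ ≫ (t.toFunctor.map m).hom.snd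
      simp)) (by
    intro w
    rw [isHomLift_iff_fst]
    change 𝒳.p.IsHomLift (𝟙 _) (𝟙 ((t.toFunctor.obj w).obj.fst))
    have h1 : 𝒳.p.obj (t.toFunctor.obj w).obj.fst = 𝒲.p.obj w :=
      (BasedFunctor.comp t (FibCat.fpFst f f)).w_obj w
    rw [← h1]
    infer_instance)

/-- base change of an equivalence over the target -/
lemma eqvOver_fpFst_of_eqvOver {𝒜 : BasedCategory.{v₄, w₄} C} {𝒜' : BasedCategory.{v₅, w₅} C}
    {π : 𝒜 ⥤ᵇ 𝒴} {π' : 𝒜' ⥤ᵇ 𝒴} (h : EqvOver π π') (y : 𝒲 ⥤ᵇ 𝒴) :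
    EqvOver (FibCat.fpFst y π) (FibCat.fpFst y π') := by
  obtain ⟨k, hk, ⟨i⟩⟩ := h
  exact eqvOver_fpFst_congr_right y k hk i.symm

/-- the base change of the diagonal of `f` along a test object is the base change of the diagonal
of the base change of `f` along the lifted test object -/
lemma eqvOver_test {𝒲' : BasedCategory.{v₄, w₄} C} (c : 𝒲' ⥤ᵇ 𝒲) :
    EqvOver (FibCat.fpFst (BasedFunctor.comp c (tLift f t))
        (FibCat.diag (FibCat.fpFst (yOf f t) f)))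
      (FibCat.fpFst (BasedFunctor.comp c t) (FibCat.diag f)) :=
  ((eqvOver_fpFst_of_eqvOver (eqvOver_diag_baseChange f (yOf f t))
      (BasedFunctor.comp c (tLift f t))).trans
    (eqvOver_P (FibCat.diag f) (k f (yOf f t)) (BasedFunctor.comp c (tLift f t)))).trans
    (eqvOver_fpFst_congr_left (whiskerLeftIso c (tLiftIso f t)) (FibCat.diag f))

end General

variable {S : Scheme.{u}}

/-- the diagonal of `f` has `P` as soon as the diagonals of all base changes to schemes do -/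
theorem repByAlgSpWith_diag_of_baseChange {𝒳 : BasedCategory.{v₁, w₁} (Over S)}
    {𝒴 : BasedCategory.{v₂, w₂} (Over S)} (P : MorphismProperty (AlgSp.Sp S)) (f : 𝒳 ⥤ᵇ 𝒴)
    (H : ∀ (T : Over S) (y : FibCat.overCat T ⥤ᵇ 𝒴),
      AlgSt.RepByAlgSpWith P (FibCat.diag (FibCat.fpFst y f))) :
    AlgSt.RepByAlgSpWith P (FibCat.diag f) := by
  rw [repByAlgSpWith_iff_hasP]
  intro U t
  have h1 := (repByAlgSpWith_iff_hasP _).1 (H U (yOf f t)) U (tLift f t)
  exact HasP.of_eqvOver (eqvOver_test f t (AlgSt.toOverCat U)) h1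

theorem repByAlgSpWith_diag_iff_baseChange {𝒳 : BasedCategory.{v₁, w₁} (Over S)}
    {𝒴 : BasedCategory.{v₂, w₂} (Over S)} (P : MorphismProperty (AlgSp.Sp S)) (f : 𝒳 ⥤ᵇ 𝒴) :
    AlgSt.RepByAlgSpWith P (FibCat.diag f) ↔ ∀ (T : Over S) (y : FibCat.overCat T ⥤ᵇ 𝒴),
      AlgSt.RepByAlgSpWith P (FibCat.diag (FibCat.fpFst y f)) :=
  ⟨fun h _ y => repByAlgSpWith_diag_fpFst P f y h, repByAlgSpWith_diag_of_baseChange P f⟩

end Groth.Agent.Lib.Helper24.AlgStDiagBC2
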