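import Groth.Agent.Lib.Helper24.FibCatMagic
set_option autoImplicit false
set_option linter.unusedSectionVars false
open CategoryTheory
universe u v u₂ v₂ u₃ v₃ u₄ v₄ u₅ v₅
set_option backward.isDefEq.respectTransparency false
set_option backward.isDefEq.respectTransparency.types false

/-! The diagonal of a composite: `Δ_{g ∘ f} ≅ N ∘ Δ_f` with `N : 𝒳 ×_𝒴 𝒳 ⟶ 𝒳 ×_𝒵 𝒳` a base change
of `Δ_g`. -/

namespace Groth.Agent.Lib.Helper24.FibCatDiagComp
open Groth.Agent.Lib.Helper24.FibCatFpGen Groth.Agent.Lib.Helper24.FibCatEquiv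
open Groth.Agent.Lib.Helper24.FibCatDiag Groth.Agent.Lib.Helper24.FibCatMagic

variable {C : Type u} [Category.{v} C]
variable {𝒳 : BasedCategory.{v₂, u₂} C} {𝒴 : BasedCategory.{v₃, u₃} C}
  {𝒵 : BasedCategory.{v₄, u₄} C} (f : 𝒳 ⥤ᵇ 𝒴) (g : 𝒴 ⥤ᵇ 𝒵)

/-- component of the isomorphism `Δ_{g ∘ f} ≅ N ∘ Δ_f` -/
def diagCompApp (x : 𝒳.obj) :
    (FibCat.diag (BasedFunctor.comp f g)).toFunctor.obj x ≅
      (N f f g).toFunctor.obj ((FibCat.diag f).toFunctor.obj x) :=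
  mkIso (F := BasedFunctor.comp f g) (G := BasedFunctor.comp f g)
    (x := (FibCat.diag (BasedFunctor.comp f g)).toFunctor.obj x)
    (y := (N f f g).toFunctor.obj ((FibCat.diag f).toFunctor.obj x)) (Iso.refl _) (Iso.refl _) (by
      change g.toFunctor.map (f.toFunctor.map (𝟙 x)) ≫ g.toFunctor.map (𝟙 _) =
        𝟙 _ ≫ g.toFunctor.map (f.toFunctor.map (𝟙 x))
      simp)

/-- `Δ_{g ∘ f} ≅ N ∘ Δ_f` -/
def diagCompIso : FibCat.diag (BasedFunctor.comp f g) ≅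
    BasedFunctor.comp (FibCat.diag f) (N f f g) :=
  BasedNatIso.mkNatIso (NatIso.ofComponents (diagCompApp f g) (by
    intro x y m
    apply hom_ext'
    · change m ≫ 𝟙 _ = 𝟙 _ ≫ m
      simp
    · change m ≫ 𝟙 _ = 𝟙 _ ≫ m
      simp)) (by
    intro x
    rw [isHomLift_iff_fst]
    change 𝒳.p.IsHomLift (𝟙 _) (𝟙 x)
    infer_instance)

end Groth.Agent.Lib.Helper24.FibCatDiagComp
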