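import Groth.Agent.Lib.Helper24.AlgStDiagBC
import Groth.Agent.Lib.Helper24.FibCatDiagComp
import Groth.Agent.Lib.Helper24.AlgStSchLocal
set_option autoImplicit false
open CategoryTheory AlgebraicGeometry Opposite
universe w₁ v₁ w₂ v₂ w₃ v₃ w₄ v₄ w₅ v₅ u
set_option backward.isDefEq.respectTransparency false
set_option backward.isDefEq.respectTransparency.types false

/-! The diagonal of a composite of morphisms of categories over `(Sch/S)`. -/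

namespace Groth.Agent.Lib.Helper24.AlgStDiagComp
open Groth.Agent.Lib.Helper24.FibCatFpMap
open Groth.Agent.Lib.Helper24.FibCatEquiv Groth.Agent.Lib.Helper24.FibCatFpGen
open Groth.Agent.Lib.Helper24.AlgStRep
open Groth.Agent.Lib.Helper24.AlgStBridge Groth.Agent.Lib.Helper24.AlgStBoot
open Groth.Agent.Lib.Helper24.AlgStRepS
open Groth.Agent.Lib.Helper24.AlgStEqv Groth.Agent.Lib.Helper24.FibCatMagic
open Groth.Agent.Lib.Helper24.AlgStDiagBC Groth.Agent.Lib.Helper24.FibCatDiagComp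
open Groth.Agent.Lib.Helper24.AlgStSchLocal
open CategoryTheory.Limits

section General
variable {C : Type*} [Category C]

/-- `N : 𝒜 ×_𝒳 ℬ ⟶ 𝒜 ×_𝒴 ℬ` is equivalent over its target to a base change of the diagonal of
`j : 𝒳 ⟶ 𝒴` -/
lemma eqvOver_N {𝒜 : BasedCategory.{v₁, w₁} C} {ℬ : BasedCategory.{v₂, w₂} C}
    {𝒳 : BasedCategory.{v₃, w₃} C} {𝒴 : BasedCategory.{v₄, w₄} C}
    (a : 𝒜 ⥤ᵇ 𝒳) (b : ℬ ⥤ᵇ 𝒳) (j : 𝒳 ⥤ᵇ 𝒴) :
    EqvOver (N a b j) (FibCat.fpFst (M a b j) (FibCat.diag j)) :=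
  ⟨Ψ a b j, isEquivOver_Ψ a b j, ⟨Iso.refl _⟩⟩

end General

variable {S : Scheme.{u}}

/-- `N` inherits the properties of the diagonal of `j` -/
theorem repByAlgSpWith_N {𝒜 : BasedCategory.{v₁, w₁} (Over S)}
    {ℬ : BasedCategory.{v₂, w₂} (Over S)} {𝒳 : BasedCategory.{v₃, w₃} (Over S)}
    {𝒴 : BasedCategory.{v₄, w₄} (Over S)} (P : MorphismProperty (AlgSp.Sp S))
    (a : 𝒜 ⥤ᵇ 𝒳) (b : ℬ ⥤ᵇ 𝒳) (j : 𝒳 ⥤ᵇ 𝒴) (hj : AlgSt.RepByAlgSpWith P (FibCat.diag j)) :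
    AlgSt.RepByAlgSpWith P (N a b j) :=
  repByAlgSpWith_of_eqvOver P (eqvOver_N a b j) (repByAlgSpWith_fpFst P (FibCat.diag j) (M a b j) hj)

/-- the diagonal of a composite -/
theorem repByAlgSpWith_diag_comp {𝒳 𝒴 𝒵 : AlgSt.Cat S} (h𝒳 : FibCat.IsFibGrpd 𝒳.p)
    (h𝒴 : FibCat.IsFibGrpd 𝒴.p) (h𝒵 : FibCat.IsFibGrpd 𝒵.p) (P : MorphismProperty (AlgSp.Sp S))
    (hP : Nice P) (hPc : StableComp P) (f : 𝒳 ⥤ᵇ 𝒴) (g : 𝒴 ⥤ᵇ 𝒵)
    (hf : AlgSt.RepByAlgSpWith P (FibCat.diag f)) (hg : AlgSt.RepByAlgSpWith P (FibCat.diag g)) :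
    AlgSt.RepByAlgSpWith P (FibCat.diag (BasedFunctor.comp f g)) :=
  repByAlgSpWith_of_eqvOver P (EqvOver.of_iso (diagCompIso f g).symm)
    (repByAlgSpWith_comp h𝒳 (isFibGrpd_fp f f h𝒳 h𝒳 h𝒴)
      (isFibGrpd_fp (BasedFunctor.comp f g) (BasedFunctor.comp f g) h𝒳 h𝒳 h𝒵) P hP hPc
      (FibCat.diag f) (N f f g) hf (repByAlgSpWith_N P f f g hg))

end Groth.Agent.Lib.Helper24.AlgStDiagComp
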