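import Groth.Agent.Lib.Helper24.AlgStDiagComp
import Groth.Agent.Lib.Helper24.AlgStSchLocal
set_option autoImplicit false
open CategoryTheory AlgebraicGeometry Opposite
universe u
set_option backward.isDefEq.respectTransparency false
set_option backward.isDefEq.respectTransparency.types false

/-! Properties etale local on the base are testable on schemes. -/

namespace Groth.Agent.Lib.Helper24.AlgStEtLocal
open Groth.Agent.Lib.Helper24.AlgStRepS Groth.Agent.Lib.Helper24.AlgStSchLocal
open Groth.Agent.Lib.Helper14.AS AlgSp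
open CategoryTheory.Limits

variable {S : Scheme.{u}}

lemma isEtCover_atlas {G : AlgSp.Sp S} {V : Over S} (p : (AlgSp.yon S).obj V ⟶ G)
    (hpe : AlgSp.RepWith @Etale p) (hps : AlgSp.RepWith @Surjective p) :
    AlgSp.IsEtCover (ι := PUnit.{u + 1}) (fun _ => (AlgSp.yon S).obj V) (fun _ => p) := by
  refine ⟨fun _ => isEtaleMor_of_repWith_etale hpe, fun x => ⟨PUnit.unit, ?_⟩⟩
  exact points_map_surjective_of_repWith hps x

theorem schLocal_of_isLocalOnBase_et {P : MorphismProperty (Sp S)}
    (hP : IsLocalOnBase IsEtCover P) : SchLocal P := by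
  intro X Y hX hY φ H
  obtain ⟨V, p, hpe, hps⟩ := hY.atlas
  have sq := IsPullback.of_hasPullback φ p
  have hFV : IsAlgSpace (pullback φ p) :=
    isAlgSpace_of_isPullback (repDiag_of_isAlgSpace hY) hX (IsAlgSpace.yon_obj V) sq
  have key := hP (ι := PUnit.{u + 1}) (Y := Y) (fun _ => (yon S).obj V) (fun _ => p)
    hY (fun _ => IsAlgSpace.yon_obj V) (isEtCover_atlas p hpe hps) φ
    hX (fun _ => pullback φ p) (fun _ => pullback.snd _ _)
    (fun _ => pullback.fst _ _) (fun _ => hFV) (fun _ => sq)
  exact key.2 (fun _ => H p _ _ sq)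

theorem nice_of_et (P : MorphismProperty (Sp S)) (hPb : StableBC P)
    (hP : IsLocalOnBase IsEtCover P) : Nice P := ⟨hPb, schLocal_of_isLocalOnBase_et hP⟩

end Groth.Agent.Lib.Helper24.AlgStEtLocal
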