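import Groth.Agent.Lib.Helper24.AlgStSepDiag
import Groth.Agent.Lib.Helper24.AlgStFpAlg
import Groth.Agent.Lib.Helper24.AlgStEtLocal
set_option autoImplicit false
open CategoryTheory AlgebraicGeometry Opposite
universe w₁ v₁ w₂ v₂ w₃ v₃ w₄ v₄ w₅ v₅ u
set_option backward.isDefEq.respectTransparency false
set_option backward.isDefEq.respectTransparency.types false

/-! The diagonal of a product map `f ×_𝒵 g`. -/

namespace Groth.Agent.Lib.Helper24.AlgStDiagProd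
open Groth.Agent.Lib.Helper24.FibCatFpMap
open Groth.Agent.Lib.Helper24.FibCatEquiv Groth.Agent.Lib.Helper24.FibCatFpGen
open Groth.Agent.Lib.Helper24.AlgStRep
open Groth.Agent.Lib.Helper24.AlgStBridge Groth.Agent.Lib.Helper24.AlgStBoot
open Groth.Agent.Lib.Helper24.AlgStRepS
open Groth.Agent.Lib.Helper24.AlgStEqv Groth.Agent.Lib.Helper24.FibCatMagic
open Groth.Agent.Lib.Helper24.AlgStDiagBC
open Groth.Agent.Lib.Helper24.AlgStSchLocal Groth.Agent.Lib.Helper24.AlgStDiagComp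
open Groth.Agent.Lib.Helper24.AlgStSepDiag
open Groth.Agent.Lib.Helper24.FibCatFpFactor Groth.Agent.Lib.Helper24.FibCatFpMapL
open Groth.Agent.Lib.Helper24.FibCatDiag (mkIso)
open CategoryTheory.Limits

section General
variable {C : Type*} [Category C]
variable {𝒳 : BasedCategory.{v₁, w₁} C} {𝒳' : BasedCategory.{v₂, w₂} C}
  {𝒴 : BasedCategory.{v₃, w₃} C} {𝒴' : BasedCategory.{v₄, w₄} C} {𝒵 : BasedCategory.{v₅, w₅} C}
  (f : 𝒳 ⥤ᵇ 𝒳') (g : 𝒴 ⥤ᵇ 𝒴') (p' : 𝒳' ⥤ᵇ 𝒵) (q' : 𝒴' ⥤ᵇ 𝒵)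
  (e : BasedFunctor.comp (BasedFunctor.comp (FibCat.fpFst (BasedFunctor.comp f p')
      (BasedFunctor.comp g q')) f) p' ≅
    BasedFunctor.comp (BasedFunctor.comp (FibCat.fpSnd (BasedFunctor.comp f p')
      (BasedFunctor.comp g q')) g) q')
  (he : ∀ x, e.hom.toNatTrans.app x = x.obj.iso.hom)

/-- components of the comparison with the product map -/
def liftProdApp (s : (FibCat.fp (BasedFunctor.comp f p') (BasedFunctor.comp g q')).obj) :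
    (FibCat.fpLift (BasedFunctor.comp (FibCat.fpFst (BasedFunctor.comp f p')
        (BasedFunctor.comp g q')) f)
      (BasedFunctor.comp (FibCat.fpSnd (BasedFunctor.comp f p') (BasedFunctor.comp g q')) g)
      e).toFunctor.obj s ≅ (prodMap f g p' q').toFunctor.obj s :=
  mkIso (F := p') (G := q') (Iso.refl _) (Iso.refl _) (by
    change p'.toFunctor.map (𝟙 _) ≫ (𝟙 _ ≫ (𝟙 _ ≫ s.obj.iso.hom ≫ 𝟙 _) ≫ 𝟙 _) =
      e.hom.toNatTrans.app s ≫ q'.toFunctor.map (𝟙 _)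
    rw [he]
    simp
    exact (Category.comp_id s.obj.iso.hom).symm)

/-- the functor of the statement is the product map -/
def liftProdIso : FibCat.fpLift (BasedFunctor.comp (FibCat.fpFst (BasedFunctor.comp f p')
        (BasedFunctor.comp g q')) f)
      (BasedFunctor.comp (FibCat.fpSnd (BasedFunctor.comp f p') (BasedFunctor.comp g q')) g)
      e ≅ prodMap f g p' q' :=
  BasedNatIso.mkNatIso (NatIso.ofComponents (liftProdApp f g p' q' e he) (by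
    intro s s' m
    apply hom_ext'
    · change f.toFunctor.map m.hom.fst ≫ 𝟙 _ = 𝟙 _ ≫ f.toFunctor.map m.hom.fst
      simp
    · change g.toFunctor.map m.hom.snd ≫ 𝟙 _ = 𝟙 _ ≫ g.toFunctor.map m.hom.snd
      simp)) (by
    intro s
    rw [isHomLift_iff_fst]
    change 𝒳'.p.IsHomLift (𝟙 (𝒳.p.obj s.obj.fst)) (𝟙 (f.toFunctor.obj s.obj.fst))
    have h1 : 𝒳'.p.obj (f.toFunctor.obj s.obj.fst) = 𝒳.p.obj s.obj.fst := f.w_obj _
    rw [← h1]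
    infer_instance)

end General

variable {S : Scheme.{u}}

/-- the property of the diagonal is invariant under equivalences of the source -/
theorem repByAlgSpWith_diag_of_eqvOver (P : MorphismProperty (AlgSp.Sp S))
    {𝒜 : BasedCategory.{v₁, w₁} (Over S)} {𝒜' : BasedCategory.{v₂, w₂} (Over S)}
    {ℬ : BasedCategory.{v₃, w₃} (Over S)} {π : 𝒜 ⥤ᵇ ℬ} {π' : 𝒜' ⥤ᵇ ℬ} (h : EqvOver π π')
    (hπ' : AlgSt.RepByAlgSpWith P (FibCat.diag π')) : AlgSt.RepByAlgSpWith P (FibCat.diag π) := by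
  obtain ⟨k, hk, ⟨i⟩⟩ := h
  have : (BasedFunctor.id ℬ).toFunctor.Full := inferInstanceAs (𝟭 _).Full
  have : (BasedFunctor.id ℬ).toFunctor.Faithful := inferInstanceAs (𝟭 _).Faithful
  exact (repByAlgSpWith_diag_iff_of_isEquivOver P π' π k (BasedFunctor.id ℬ) hk i.symm).1 hπ'

theorem repByAlgSpWith_diag_fpSnd {𝒳 : BasedCategory.{v₁, w₁} (Over S)}
    {𝒴 : BasedCategory.{v₂, w₂} (Over S)} {𝒵 : BasedCategory.{v₃, w₃} (Over S)}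
    (P : MorphismProperty (AlgSp.Sp S)) (f : 𝒳 ⥤ᵇ 𝒴) (z : 𝒵 ⥤ᵇ 𝒴)
    (hf : AlgSt.RepByAlgSpWith P (FibCat.diag f)) :
    AlgSt.RepByAlgSpWith P (FibCat.diag (FibCat.fpSnd f z)) :=
  repByAlgSpWith_diag_of_eqvOver P (eqvOver_swap z f).symm (repByAlgSpWith_diag_fpFst P f z hf)

theorem repByAlgSpWith_diag_mapL {𝒜 : BasedCategory.{v₁, w₁} (Over S)}
    {𝒳 : BasedCategory.{v₂, w₂} (Over S)} {𝒴 : BasedCategory.{v₃, w₃} (Over S)}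
    {ℬ : BasedCategory.{v₄, w₄} (Over S)} (Q : MorphismProperty (AlgSp.Sp S))
    (a : 𝒜 ⥤ᵇ 𝒳) (j : 𝒳 ⥤ᵇ 𝒴) (h : ℬ ⥤ᵇ 𝒴) (ha : AlgSt.RepByAlgSpWith Q (FibCat.diag a)) :
    AlgSt.RepByAlgSpWith Q (FibCat.diag (mapL a j h)) :=
  repByAlgSpWith_diag_of_eqvOver Q
    (EqvOver.symm ⟨Groth.Agent.Lib.Helper24.FibCatFpPaste.P h j a,
      Groth.Agent.Lib.Helper24.FibCatFpPaste.isEquivOver_P, ⟨mapLIso a j h⟩⟩)
    (repByAlgSpWith_diag_fpSnd Q a (FibCat.fpFst j h) ha)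

theorem repByAlgSpWith_diag_mapR {ℬ : BasedCategory.{v₁, w₁} (Over S)}
    {𝒳 : BasedCategory.{v₂, w₂} (Over S)} {𝒴 : BasedCategory.{v₃, w₃} (Over S)}
    {𝒲 : BasedCategory.{v₄, w₄} (Over S)} (Q : MorphismProperty (AlgSp.Sp S))
    (b : ℬ ⥤ᵇ 𝒳) (j : 𝒳 ⥤ᵇ 𝒴) (h : 𝒲 ⥤ᵇ 𝒴) (hb : AlgSt.RepByAlgSpWith Q (FibCat.diag b)) :
    AlgSt.RepByAlgSpWith Q (FibCat.diag (mapR b j h)) :=
  repByAlgSpWith_diag_of_eqvOver Q
    (EqvOver.symm ⟨Groth.Agent.Lib.Helper24.FibCatFpPaste.Q b j h,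
      Groth.Agent.Lib.Helper24.FibCatFpPaste.isEquivOver_Q, ⟨mapRIso b j h⟩⟩)
    (repByAlgSpWith_diag_fpFst Q b (FibCat.fpSnd h j) hb)

/-- the diagonal of the product map -/
theorem repByAlgSpWith_diag_prodMap {𝒜 ℬ 𝒳 𝒴 𝒵 : AlgSt.Cat S} (h𝒜 : FibCat.IsFibGrpd 𝒜.p)
    (hℬ : FibCat.IsFibGrpd ℬ.p) (h𝒳 : FibCat.IsFibGrpd 𝒳.p) (h𝒴 : FibCat.IsFibGrpd 𝒴.p)
    (h𝒵 : FibCat.IsFibGrpd 𝒵.p)
    (Q : MorphismProperty (AlgSp.Sp S)) (hQ : Nice Q) (hQc : StableComp Q)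
    (a : 𝒜 ⥤ᵇ 𝒳) (b : ℬ ⥤ᵇ 𝒴) (f : 𝒳 ⥤ᵇ 𝒵) (g : 𝒴 ⥤ᵇ 𝒵)
    (ha : AlgSt.RepByAlgSpWith Q (FibCat.diag a))
    (hb : AlgSt.RepByAlgSpWith Q (FibCat.diag b)) :
    AlgSt.RepByAlgSpWith Q (FibCat.diag (prodMap a b f g)) :=
  repByAlgSpWith_diag_comp (isFibGrpd_fp _ _ h𝒜 hℬ h𝒵) (isFibGrpd_fp _ _ h𝒳 hℬ h𝒵)
    (isFibGrpd_fp _ _ h𝒳 h𝒴 h𝒵) Q hQ hQc _ _
    (repByAlgSpWith_diag_mapL Q a f (BasedFunctor.comp b g) ha)
    (repByAlgSpWith_diag_mapR Q b g f hb)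

end Groth.Agent.Lib.Helper24.AlgStDiagProd
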