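import Groth.Prelude.Def_AlgSt4
import Groth.Agent.Lib.Helper24.AlgStPts5
import Groth.Agent.Lib.Helper24.AlgStDiagLft
import Groth.Agent.Lib.Helper24.AlgStMono2
import Groth.Agent.Lib.Helper24.AlgStRelDiag
import Groth.Agent.Lib.Helper24.FibCatYoneda
import Groth.Agent.Lib.Helper24.FibCatFpGen
import Groth.Agent.Lib.Helper24.FibGrpd
import Groth.Agent.Lib.Helper14.AlgSpGeomPts
set_option autoImplicit false
set_option backward.isDefEq.respectTransparency false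
set_option backward.isDefEq.respectTransparency.types false
universe u
open CategoryTheory CategoryTheory.Limits AlgebraicGeometry Opposite
open Groth.Agent.Lib.Helper24.FibCatFpGen Groth.Agent.Lib.Helper24.FibCatYoneda
open Groth.Agent.Lib.Helper24.FibGrpd

namespace Groth.Agent.Lib.Helper24.AlgStDiagSurj

theorem bwd {S : Scheme.{u}} {𝒳 𝒴 : AlgSt.Cat S}
    (h𝒳 : AlgSt.IsAlgStack Scheme.fppfPrecoverage 𝒳) (h𝒴 : AlgSt.IsAlgStack Scheme.fppfPrecoverage 𝒴) (f : 𝒳 ⥤ᵇ 𝒴)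
    (H : ∀ (k : Type u) [Field k] [IsAlgClosed k] (s : Spec (CommRingCat.of k) ⟶ S) (a₁ a₂ : 𝒳.obj)
        (_ : 𝒳.p.obj a₁ = Over.mk s) (_ : 𝒳.p.obj a₂ = Over.mk s) (β : f.obj a₁ ⟶ f.obj a₂),
        𝒴.p.IsHomLift (𝟙 (Over.mk s)) β →
          ∃ α : a₁ ⟶ a₂, 𝒳.p.IsHomLift (𝟙 (Over.mk s)) α ∧ f.map α = β) :
    AlgSt.IsSurjective (FibCat.diag f) := by
  have h𝒫 : FibCat.IsFibGrpd (FibCat.fp f f).p :=
    isFibGrpd_fp f f h𝒳.isStack.1 h𝒳.isStack.1 h𝒴.isStack.1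
  intro z
  obtain ⟨q, rfl⟩ := AlgSt.Points.mk_surjective z
  let k := AlgebraicClosure q.K
  let s : Spec (CommRingCat.of k) ⟶ S :=
    Spec.map (CommRingCat.ofHom (algebraMap q.K k)) ≫ q.str
  let m : Over.mk s ⟶ (FibCat.fp f f).p.obj q.obj :=
    (Over.homMk (Spec.map (CommRingCat.ofHom (algebraMap q.K k))) rfl :
      Over.mk s ⟶ Over.mk q.str) ≫ eqToHom q.lies.symm
  obtain ⟨z', φ, hφ⟩ := h𝒫.exists_lift (x := q.obj) m
  have hz' : 𝒳.p.obj z'.obj.fst = Over.mk s := IsHomLift.domain_eq (FibCat.fp f f).p m φ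
  have hz'2 : 𝒳.p.obj z'.obj.snd = Over.mk s := (p_eq f f z').symm.trans hz'
  have hβ : 𝒴.p.IsHomLift (𝟙 (Over.mk s)) z'.obj.iso.hom := by
    have := iso_isHomLift f f z'
    rw [hz'] at this
    exact this
  obtain ⟨α, hα, hfα⟩ := H k s z'.obj.fst z'.obj.snd hz' hz'2 z'.obj.iso.hom hβ
  let p' : AlgSt.FPt 𝒳 := ⟨k, s, z'.obj.fst, hz'⟩
  refine ⟨AlgSt.Points.mk p', ?_⟩
  rw [AlgSt.Points.map_mk]
  refine AlgSt.Points.sound ⟨p'.map (FibCat.diag f), 𝟙 _, ?_, trivial⟩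
  refine ?_ ≫ φ
  refine mkHom (𝟙 _) α ?_
  change f.toFunctor.map (𝟙 _) ≫ z'.obj.iso.hom = 𝟙 _ ≫ f.toFunctor.map α
  rw [CategoryTheory.Functor.map_id, Category.id_comp, Category.id_comp]
  exact hfα.symm

theorem fwd {S : Scheme.{u}} {𝒳 𝒴 : AlgSt.Cat S}
    (h𝒳 : AlgSt.IsAlgStack Scheme.fppfPrecoverage 𝒳) (h𝒴 : AlgSt.IsAlgStack Scheme.fppfPrecoverage 𝒴) (f : 𝒳 ⥤ᵇ 𝒴)
    (hs : AlgSt.IsSurjective (FibCat.diag f))
    (k : Type u) [Field k] [IsAlgClosed k] (s : Spec (CommRingCat.of k) ⟶ S) (a₁ a₂ : 𝒳.obj)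
    (h₁ : 𝒳.p.obj a₁ = Over.mk s) (h₂ : 𝒳.p.obj a₂ = Over.mk s) (β : f.obj a₁ ⟶ f.obj a₂)
    (hβ : 𝒴.p.IsHomLift (𝟙 (Over.mk s)) β) :
    ∃ α : a₁ ⟶ a₂, 𝒳.p.IsHomLift (𝟙 (Over.mk s)) α ∧ f.map α = β := by
  have h𝒳f := h𝒳.isStack.1
  have h𝒴f := h𝒴.isStack.1
  have h𝒫 : FibCat.IsFibGrpd (FibCat.fp f f).p := isFibGrpd_fp f f h𝒳f h𝒳f h𝒴f
  haveI : (FibCat.fp f f).p.IsFibered := isFibered_of_isFibGrpd _ h𝒫
  have hΔ1 : AlgSt.RepByAlgSp1 (FibCat.diag f) :=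
    Groth.Agent.Lib.Helper24.AlgStRelDiag.repByAlgSp1_relDiag h𝒳f h𝒴f h𝒳.diag h𝒴.diag f
  have hΔs : AlgSt.RepByAlgSpWith AlgSp.IsSurjectiveMor (FibCat.diag f) :=
    (Groth.Agent.Lib.Helper24.AlgStPts5.isSurjective_iff_repByAlgSpWith h𝒳f h𝒫 _ hΔ1).1 hs
  have hΔl := Groth.Agent.Lib.Helper24.AlgStDiagLft.repByAlgSpWith_lft_relDiag h𝒳 h𝒴 f
  have hΔ := Groth.Agent.Lib.Helper24.AlgStMono.repByAlgSpWith_and _ _
    Groth.Agent.Lib.Helper24.AlgStProps.good_lft.respectsIso _ hΔs hΔl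
  let T : Over S := Over.mk s
  haveI hβi : IsIso β := isIso_of_isFibGrpd 𝒴.p h𝒴f (𝟙 (Over.mk s)) β
  let z : (FibCat.fp f f).obj := mkObj a₁ a₂ (asIso β) (by rw [h₁]; exact hβ)
  have hz : (FibCat.fp f f).p.obj z = T := h₁
  let ŷ : FibCat.overCat T ⥤ᵇ FibCat.fp f f := pbBased hz
  obtain ⟨F, e, he, hsurj, hlft⟩ := hΔ T ŷ
  let Φ : AlgSt.ofSp F.obj ⥤ᵇ FibCat.overCat T :=
    BasedFunctor.comp e (FibCat.fpFst ŷ (FibCat.diag f))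
  obtain ⟨x, hx⟩ := Groth.Agent.Lib.Helper14.AS.exists_geom_lift_of_surjective F.property
    (AlgSp.IsAlgSpace.yon_obj T) (AlgSt.spMapOfOver Φ) hlft hsurj s (𝟙 _)
  let ξ : F.obj.obj.obj (op T) := x.hom.app (op T) ⟨𝟙 T⟩
  have hξ : (AlgSt.spMapOfOver Φ).hom.app (op T) ξ = ⟨𝟙 T⟩ := by
    have h1 := congrArg (fun φ => φ.hom.app (op T) ⟨𝟙 T⟩) hx
    exact h1
  let a : (AlgSt.ofSp F.obj).obj := ⟨T, ξ⟩
  have hsec : AlgSt.secHom Φ a = 𝟙 T := by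
    have h2 := AlgSt.spMapOfOver_app Φ T ξ
    rw [hξ] at h2
    exact (congrArg ULift.down h2).symm
  let η := e.obj a
  have hw : (Φ.obj a).left = T := Φ.w_obj a
  let m : Over.mk (𝟙 T) ⟶ Φ.obj a := Over.homMk (eqToHom hw.symm) hsec
  haveI hpi : IsIso (pbMap hz (Over.mk (𝟙 T))) := pbMap_id_isIso hz
  haveI hmi : IsIso m := by
    haveI : IsIso m.left := by change IsIso (eqToHom hw.symm); infer_instance
    haveI : IsIso ((Over.forget T).map m) := this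
    exact isIso_of_reflects_iso m (Over.forget T)
  let γ : z ⟶ (FibCat.diag f).obj η.obj.snd :=
    CategoryTheory.inv (pbMap hz (Over.mk (𝟙 T))) ≫ ŷ.map m ≫ η.obj.iso.hom
  haveI hγ : IsIso γ := by
    haveI : IsIso (ŷ.map m) := by change IsIso (ŷ.toFunctor.map m); infer_instance
    infer_instance
  let θ := (FibCat.fp f f).p.map γ
  haveI hθ : IsIso θ := by change IsIso ((FibCat.fp f f).p.map γ); infer_instance
  have hl0 : (FibCat.fp f f).p.IsHomLift θ γ := inferInstance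
  let g₁ : a₁ ⟶ η.obj.snd := γ.hom.fst
  let g₂ : a₂ ⟶ η.obj.snd := γ.hom.snd
  haveI hl1 : 𝒳.p.IsHomLift θ g₁ := isHomLift_fst θ γ
  haveI hl2 : 𝒳.p.IsHomLift θ g₂ := isHomLift_snd θ γ
  haveI hg1 : IsIso g₁ := isIso_of_isFibGrpd 𝒳.p h𝒳f θ g₁
  haveI hg2 : IsIso g₂ := isIso_of_isFibGrpd 𝒳.p h𝒳f θ g₂
  have hw' : f.toFunctor.map g₁ ≫ 𝟙 _ = β ≫ f.toFunctor.map g₂ := hom_w γ
  refine ⟨g₁ ≫ CategoryTheory.inv g₂, ?_, ?_⟩
  · have h3 : 𝒳.p.IsHomLift (θ ≫ CategoryTheory.inv θ) (g₁ ≫ CategoryTheory.inv g₂) := inferInstance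
    rw [IsIso.hom_inv_id] at h3
    have h4 : (FibCat.fp f f).p.obj z = Over.mk s := h₁
    rw [h4] at h3
    exact h3
  · change f.toFunctor.map (g₁ ≫ CategoryTheory.inv g₂) = β
    rw [Category.comp_id] at hw'
    rw [Functor.map_comp, Functor.map_inv, hw', Category.assoc, IsIso.hom_inv_id, Category.comp_id]


end Groth.Agent.Lib.Helper24.AlgStDiagSurj
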