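import Groth.Agent.Lib.Helper24.FibCatFull
import Groth.Agent.Lib.Helper24.AlgStMono2
import Groth.Agent.Lib.Helper24.AlgStSetoid
set_option autoImplicit false
open CategoryTheory AlgebraicGeometry Opposite
universe w v w₁ v₁ w₂ v₂ w₃ v₃ u
set_option backward.isDefEq.respectTransparency false
set_option backward.isDefEq.respectTransparency.types false

/-! Monomorphisms of stacks are fully faithful. -/

namespace Groth.Agent.Lib.Helper24.AlgStMonoFull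
open Groth.Agent.Lib.Helper24.PshFun Groth.Agent.Lib.Helper24.PshBridge
open Groth.Agent.Lib.Helper24.AlgStRepS Groth.Agent.Lib.Helper24.PshMono
open Groth.Agent.Lib.Helper24.FibCatEquiv Groth.Agent.Lib.Helper24.AlgStBridge

section Psh
variable {C : Type u} [Category.{v} C] {P Q : Cᵒᵖ ⥤ Type w}

lemma ofPshMap_full (φ : P ⟶ Q) (h : ∀ T, Function.Injective (φ.app T)) :
    (Stk.ofPshMap φ).toFunctor.Full := by
  constructor
  intro a b n
  have hs : Q.map n.hom.op (φ.app _ b.sec) = φ.app _ a.sec := n.map_sec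
  rw [← NatTrans.naturality_apply] at hs
  exact ⟨⟨n.hom, h _ hs⟩, rfl⟩

end Psh

variable {S : Scheme.{u}}

theorem full_of_mono_spMapOf {F G : AlgSp.Sp S} (Φ : AlgSt.ofSp F ⥤ᵇ AlgSt.ofSp G)
    (hm : Mono (spMapOf Φ)) : Φ.toFunctor.Full := by
  have h1 : Mono ((sheafToPresheaf _ _).map (spMapOf Φ)) := inferInstance
  have h2 : Mono (pshMapOf Φ) := h1
  have h3 : ∀ T, Function.Injective ((pshMapOf Φ).app T) := fun T =>
    (mono_iff_injective _).1 ((NatTrans.mono_iff_mono_app _).1 h2 T)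
  have h4 : ((BasedNatTrans.forgetful (AlgSt.ofSp F) (AlgSt.ofSp G)).obj
      (Stk.ofPshMap (pshMapOf Φ))).Full := ofPshMap_full (pshMapOf Φ) h3
  exact Functor.Full.of_iso ((BasedNatTrans.forgetful _ _).mapIso (isoOfPshMap Φ)).symm

/-- the base change of a monomorphism to a scheme is full -/
theorem fpFst_full_of_isMono {𝒳 : BasedCategory.{v₁, w₁} (Over S)}
    {𝒴 : BasedCategory.{v₂, w₂} (Over S)} (j : 𝒳 ⥤ᵇ 𝒴) (hj : AlgSt.IsMono j) (U : Over S)
    (G : FibCat.overCat U ⥤ᵇ 𝒴) : (FibCat.fpFst G j).toFunctor.Full := by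
  obtain ⟨F, e, he, hm⟩ := hj U G
  rw [spMapOfOver_eq] at hm
  have h1 := full_of_mono_spMapOf _ hm
  obtain ⟨⟨_, _⟩, -⟩ := props_of_isEquivOver (AlgSt.ofOverCat U) (isEquivOver_ofOverCat U)
  obtain ⟨e', ⟨α⟩, ⟨β⟩⟩ := he
  obtain ⟨⟨_, _⟩, -⟩ := props_of_isEquivOver e' ⟨e, ⟨β⟩, ⟨α⟩⟩
  have h2 : ((e.toFunctor ⋙ (FibCat.fpFst G j).toFunctor) ⋙ (AlgSt.ofOverCat U).toFunctor).Full := h1
  have h3 : (e.toFunctor ⋙ (FibCat.fpFst G j).toFunctor).Full :=
    Functor.Full.of_comp_faithful _ (AlgSt.ofOverCat U).toFunctor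
  have h4 : (e'.toFunctor ⋙ e.toFunctor ⋙ (FibCat.fpFst G j).toFunctor).Full := inferInstance
  let β' : e'.toFunctor ⋙ e.toFunctor ≅ 𝟭 _ := (BasedNatTrans.forgetful _ _).mapIso β
  exact Functor.Full.of_iso
    ((Functor.associator _ _ _).symm ≪≫ Functor.isoWhiskerRight β' _ ≪≫ Functor.leftUnitor _)

/-- S12774: monomorphisms are fully faithful -/
theorem full_faithful_of_isMono {𝒳 𝒴 : AlgSt.Cat S} (h𝒳 : FibCat.IsFibGrpd 𝒳.p)
    (h𝒴 : FibCat.IsFibGrpd 𝒴.p) (j : 𝒳 ⥤ᵇ 𝒴) (hj : AlgSt.IsMono j) :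
    j.toFunctor.Full ∧ j.toFunctor.Faithful :=
  ⟨Groth.Agent.Lib.Helper24.FibCatFull.full_of_fpFst_full j h𝒴
      (fun U G => fpFst_full_of_isMono j hj U G),
    Groth.Agent.Lib.Helper24.AlgStSetoid.faithful_of_repByAlgSp1 h𝒳 h𝒴 j
      (repByAlgSp1_of_repByAlgSpWith _ j hj)⟩

end Groth.Agent.Lib.Helper24.AlgStMonoFull
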