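import Groth.Agent.Lib.Helper24.FibCatInertia
set_option autoImplicit false
set_option linter.unusedSectionVars false
open CategoryTheory
universe u v u₂ v₂ u₃ v₃

/-! The functor to the inertia defined by a 2-endomorphism of a functor over `C`. -/

namespace Groth.Agent.Lib.Helper24.FibCatEndAut
open Groth.Agent.Lib.Helper24.FibGrpd Groth.Agent.Lib.Helper24.FibCatInertia

variable {C : Type u} [Category.{v} C]
variable {𝒳 : BasedCategory.{v₂, u₂} C} {𝒴 : BasedCategory.{v₃, u₃} C}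

lemma isIso_app (h𝒴 : FibCat.IsFibGrpd 𝒴.p) {F : 𝒳 ⥤ᵇ 𝒴} (α : F ⟶ F) (x : 𝒳.obj) :
    IsIso (α.toNatTrans.app x) :=
  isIso_of_isFibGrpd 𝒴.p h𝒴 (𝟙 (𝒳.p.obj x)) (α.toNatTrans.app x)

lemma map_app (F : 𝒳 ⥤ᵇ 𝒴) (α : F ⟶ F) (x : 𝒳.obj) :
    𝒴.p.map (α.toNatTrans.app x) = 𝟙 (𝒴.p.obj (F.obj x)) := by
  have h := α.isHomLift (F.w_obj x).symm
  have := IsHomLift.fac' 𝒴.p (𝟙 (𝒴.p.obj (F.obj x))) (α.toNatTrans.app x)
  simpa using this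

/-- the object `(F x, α_x)` of the inertia of `𝒴` -/
noncomputable def autObj (h𝒴 : FibCat.IsFibGrpd 𝒴.p) {F : 𝒳 ⥤ᵇ 𝒴} (α : F ⟶ F) (x : 𝒳.obj) :
    FibCat.InertiaObj (FibCat.toSelf 𝒴) :=
  haveI := isIso_app h𝒴 α x
  ⟨F.obj x, asIso (α.toNatTrans.app x), map_app F α x⟩

@[simp] lemma autObj_pt (h𝒴 : FibCat.IsFibGrpd 𝒴.p) {F : 𝒳 ⥤ᵇ 𝒴} (α : F ⟶ F) (x : 𝒳.obj) :
    (autObj h𝒴 α x).pt = F.obj x := rfl

@[simp] lemma autObj_aut_hom (h𝒴 : FibCat.IsFibGrpd 𝒴.p) {F : 𝒳 ⥤ᵇ 𝒴} (α : F ⟶ F) (x : 𝒳.obj) :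
    (autObj h𝒴 α x).aut.hom = α.toNatTrans.app x := rfl

/-- the functor `x ↦ (F x, α_x)` to the inertia of `𝒴` -/
noncomputable def autFunctor (h𝒴 : FibCat.IsFibGrpd 𝒴.p) {F : 𝒳 ⥤ᵇ 𝒴} (α : F ⟶ F) :
    𝒳 ⥤ᵇ FibCat.inertia (FibCat.toSelf 𝒴) where
  toFunctor :=
    { obj := fun x => autObj h𝒴 α x
      map := fun f => ⟨F.map f, (α.toNatTrans.naturality f).symm⟩
      map_id := fun x => FibCat.InertiaObj.hom_ext (F.toFunctor.map_id x)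
      map_comp := fun f g => FibCat.InertiaObj.hom_ext (F.toFunctor.map_comp f g) }
  w := F.w

@[simp] lemma autFunctor_obj (h𝒴 : FibCat.IsFibGrpd 𝒴.p) {F : 𝒳 ⥤ᵇ 𝒴} (α : F ⟶ F) (x : 𝒳.obj) :
    (autFunctor h𝒴 α).obj x = autObj h𝒴 α x := rfl

/-- if `x` maps to an object in the image of the first projection of
`𝒳 ×_{I_𝒴} 𝒴`, then `α_x` is the identity -/
theorem app_eq_id_of_hom (h𝒴 : FibCat.IsFibGrpd 𝒴.p) {F : 𝒳 ⥤ᵇ 𝒴} (α : F ⟶ F) (x : 𝒳.obj)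
    (b : (FibCat.fp (autFunctor h𝒴 α) (FibCat.inertiaNeutral (FibCat.toSelf 𝒴))).obj)
    (m : x ⟶ (FibCat.fpFst (autFunctor h𝒴 α) (FibCat.inertiaNeutral (FibCat.toSelf 𝒴))).obj b) :
    α.toNatTrans.app x = 𝟙 (F.obj x) := by
  -- the component at the object of the fibre product
  have hb : α.toNatTrans.app b.obj.fst = 𝟙 (F.obj b.obj.fst) := by
    have hc := b.obj.iso.hom.comm
    have hiso : IsIso b.obj.iso.hom.hom :=
      ⟨b.obj.iso.inv.hom, by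
        rw [← FibCat.InertiaObj.comp_hom, Iso.hom_inv_id]; rfl, by
        rw [← FibCat.InertiaObj.comp_hom, Iso.inv_hom_id]; rfl⟩
    have h1 : α.toNatTrans.app b.obj.fst ≫ b.obj.iso.hom.hom = b.obj.iso.hom.hom := by
      have : α.toNatTrans.app b.obj.fst ≫ b.obj.iso.hom.hom = b.obj.iso.hom.hom ≫ 𝟙 _ := hc
      rw [this, Category.comp_id]
    exact (cancel_mono b.obj.iso.hom.hom).1 (h1.trans (Category.id_comp _).symm)
  have hn := α.toNatTrans.naturality m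
  have hm : F.map m ≫ α.toNatTrans.app b.obj.fst = F.map m := by
    rw [hb]; exact Category.comp_id _
  have hc : α.toNatTrans.app x ≫ F.map m = 𝟙 (F.obj x) ≫ F.map m := by
    rw [Category.id_comp]
    exact hn.symm.trans hm
  have hs : 𝒴.p.IsStronglyCartesian (𝒴.p.map (F.map m)) (F.map m) :=
    h𝒴.isStronglyCartesian (F.map m)
  have h1 : 𝒴.p.IsHomLift (𝟙 (𝒴.p.obj (F.obj x))) (α.toNatTrans.app x) :=
    α.isHomLift (F.w_obj x).symm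
  have h2 : 𝒴.p.IsHomLift (𝟙 (𝒴.p.obj (F.obj x))) (𝟙 (F.obj x)) := IsHomLift.id rfl
  exact Functor.IsStronglyCartesian.ext 𝒴.p (𝒴.p.map (F.map m)) (F.map m)
    (𝟙 (𝒴.p.obj (F.obj x))) hc

/-- an object at which `α` is the identity lifts to the fibre product `𝒳 ×_{I_𝒴} 𝒴` -/
noncomputable def liftObj (h𝒴 : FibCat.IsFibGrpd 𝒴.p) {F : 𝒳 ⥤ᵇ 𝒴} (α : F ⟶ F) (x : 𝒳.obj)
    (hx : α.toNatTrans.app x = 𝟙 (F.obj x)) :
    (FibCat.fp (autFunctor h𝒴 α) (FibCat.inertiaNeutral (FibCat.toSelf 𝒴))).obj :=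
  ⟨{ fst := x
     snd := F.obj x
     iso :=
      { hom := ⟨𝟙 (F.obj x), by
          change α.toNatTrans.app x ≫ 𝟙 _ = 𝟙 _ ≫ 𝟙 _
          rw [hx]⟩
        inv := ⟨𝟙 (F.obj x), by
          change 𝟙 _ ≫ 𝟙 _ = 𝟙 _ ≫ α.toNatTrans.app x
          rw [hx]⟩
        hom_inv_id := FibCat.InertiaObj.hom_ext (Category.comp_id _)
        inv_hom_id := FibCat.InertiaObj.hom_ext (Category.comp_id _) } },
    (isHomLift_iff _ _).2 (IsHomLift.id (F.w_obj x))⟩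

lemma fpFst_liftObj (h𝒴 : FibCat.IsFibGrpd 𝒴.p) {F : 𝒳 ⥤ᵇ 𝒴} (α : F ⟶ F) (x : 𝒳.obj)
    (hx : α.toNatTrans.app x = 𝟙 (F.obj x)) :
    (FibCat.fpFst (autFunctor h𝒴 α) (FibCat.inertiaNeutral (FibCat.toSelf 𝒴))).obj
      (liftObj h𝒴 α x hx) = x := rfl

end Groth.Agent.Lib.Helper24.FibCatEndAut
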