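import Groth.Agent.Lib.Helper24.AlgStAutInj
import Groth.Agent.Lib.Helper24.AlgStClosedRange
import Groth.Agent.Lib.Helper24.FibCatEndAut
import Groth.Agent.Lib.Helper24.AlgStQCProd
import Groth.Agent.Lib.Helper24.AlgStMonoFull
import Groth.Agent.Lib.Helper24.AlgStSetoid
import Groth.Agent.Lib.Helper24.FibSetoid
import Groth.Agent.Lib.Helper24.DeformIso
set_option autoImplicit false
open CategoryTheory AlgebraicGeometry Opposite
universe u
set_option backward.isDefEq.respectTransparency false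
set_option backward.isDefEq.respectTransparency.types false

/-! A 2-endomorphism of a functor between Deligne–Mumford stacks which is trivial on a dense
open substack is trivial. -/

namespace Groth.Agent.Lib.Helper24.AlgStEndTriv
open Groth.Agent.Lib.Helper24.FibCatEndAut
open Groth.Agent.Lib.Helper24.AlgStRep Groth.Agent.Lib.Helper24.AlgStRepS
open Groth.Agent.Lib.Helper24.AlgStSchLocal
open Groth.Agent.Lib.Helper24.AlgStBoot Groth.Agent.Lib.Helper24.AlgStProps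
open Groth.Agent.Lib.Helper24.AlgStInertia Groth.Agent.Lib.Helper24.AlgStInertia2
open Groth.Agent.Lib.Helper24.AlgStSepDiag Groth.Agent.Lib.Helper24.AlgStGC
open Groth.Agent.Lib.Helper24.AlgStMono Groth.Agent.Lib.Helper24.AlgStAutInj
open Groth.Agent.Lib.Helper24.FibCatFpGen
open Groth.Agent.Lib.Helper14.AS
open CategoryTheory.Limits AlgSt

variable {S : Scheme.{u}}

/-- the neutral section of the inertia of a Deligne–Mumford stack with separated diagonal is an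
open and closed immersion -/
theorem inertiaNeutral_open_closed {𝒴 : AlgSt.Cat S}
    (h𝒴 : AlgSt.IsDM Scheme.fppfPrecoverage 𝒴)
    (hΔ : AlgSt.RepByAlgSpWith AlgSp.IsSeparatedMor (FibCat.diag (FibCat.toSelf 𝒴))) :
    AlgSt.IsOpenImm (FibCat.inertiaNeutral (FibCat.toSelf 𝒴)) ∧
      AlgSt.IsClosedImm (FibCat.inertiaNeutral (FibCat.toSelf 𝒴)) := by
  obtain ⟨halg, hat⟩ := h𝒴
  have hself := Groth.Agent.Lib.Helper24.AlgStQCProd.isAlgStack_selfOver (S := S)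
  have hu := repByAlgSpWith_unramified_diag_of_etale_atlas halg.isStack.1 halg.diag hat
  exact ⟨((unramified_inertia_tfae halg hself (FibCat.toSelf 𝒴)).out 1 2).1 hu,
    ((separated_inertia_tfae halg hself (FibCat.toSelf 𝒴)).out 1 2).1 hΔ⟩

/-- if `F ∘ i` factors through a full and faithful functor from a category fibred in setoids,
a 2-endomorphism of `F` is trivial on the image of `i` -/
theorem app_eq_id_of_factor {𝒳 𝒴 𝒰 𝒱 : AlgSt.Cat S}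
    (h𝒱 : FibCat.IsFibSetoid 𝒱.p) (F : 𝒳 ⥤ᵇ 𝒴) (i : 𝒰 ⥤ᵇ 𝒳)
    (j : 𝒱 ⥤ᵇ 𝒴) (hfull : j.toFunctor.Full)
    (G : 𝒰 ⥤ᵇ 𝒱) (e : BasedFunctor.comp G j ≅ BasedFunctor.comp i F)
    (α : F ⟶ F) (u : 𝒰.obj) :
    α.toNatTrans.app (i.obj u) = 𝟙 (F.obj (i.obj u)) := by
  let e' : (BasedFunctor.comp G j).toFunctor ≅ (BasedFunctor.comp i F).toFunctor :=
    (BasedNatTrans.forgetful _ _).mapIso e
  let ε : j.obj (G.obj u) ≅ F.obj (i.obj u) := e'.app u
  have hε : 𝒴.p.IsHomLift (𝟙 (𝒰.p.obj u)) ε.hom := e.hom.isHomLift' u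
  have hε' : 𝒴.p.IsHomLift (𝟙 (𝒰.p.obj u)) ε.inv := e.inv.isHomLift' u
  have hα : 𝒴.p.IsHomLift (𝟙 (𝒰.p.obj u)) (α.toNatTrans.app (i.obj u)) :=
    α.isHomLift (i.w_obj u)
  let β : j.obj (G.obj u) ⟶ j.obj (G.obj u) := ε.hom ≫ α.toNatTrans.app (i.obj u) ≫ ε.inv
  have hβ : 𝒴.p.IsHomLift (𝟙 (𝒰.p.obj u)) β := by
    have h1 : 𝒴.p.IsHomLift (𝟙 (𝒰.p.obj u) ≫ 𝟙 (𝒰.p.obj u) ≫ 𝟙 (𝒰.p.obj u)) β :=
      inferInstance
    simpa using h1
  obtain ⟨γ, hγ⟩ := hfull.map_surjective β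
  have hγl : 𝒱.p.IsHomLift (𝟙 (𝒰.p.obj u)) γ := by
    rw [← BasedFunctor.isHomLift_iff j]
    rw [hγ]; exact hβ
  have hid : 𝒱.p.IsHomLift (𝟙 (𝒰.p.obj u)) (𝟙 (G.obj u)) := IsHomLift.id (G.w_obj u)
  have hγ1 : γ = 𝟙 (G.obj u) :=
    Groth.Agent.Lib.Helper24.FibSetoid.hom_ext_of_isFibSetoid 𝒱.p h𝒱 (𝟙 (𝒰.p.obj u)) γ (𝟙 _)
  have hβ1 : β = 𝟙 _ := by
    rw [← hγ, hγ1]; exact j.toFunctor.map_id _
  have h2 : ε.hom ≫ α.toNatTrans.app (i.obj u) = ε.hom := by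
    have h3 : (ε.hom ≫ α.toNatTrans.app (i.obj u) ≫ ε.inv) ≫ ε.hom = 𝟙 _ ≫ ε.hom := by
      rw [show ε.hom ≫ α.toNatTrans.app (i.obj u) ≫ ε.inv = 𝟙 _ from hβ1]
    simpa using h3
  exact (cancel_epi ε.hom).1 (h2.trans (Category.comp_id _).symm)

/-- S16338 -/
theorem endTrans_eq_id {𝒳 𝒴 𝒰 𝒱 : AlgSt.Cat S}
    (h𝒳 : AlgSt.IsAlgStack Scheme.fppfPrecoverage 𝒳)
    (h𝒴 : AlgSt.IsDM Scheme.fppfPrecoverage 𝒴)
    (hΔ : AlgSt.RepByAlgSpWith AlgSp.IsSeparatedMor (FibCat.diag (FibCat.toSelf 𝒴)))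
    (F : 𝒳 ⥤ᵇ 𝒴) (i : 𝒰 ⥤ᵇ 𝒳)
    (hdense : Dense (Set.range (AlgSt.Points.map i)))
    (j : 𝒱 ⥤ᵇ 𝒴) (hj : AlgSt.IsOpenImm j) (h𝒱 : AlgSt.RepByAlgSp 𝒱)
    (G : 𝒰 ⥤ᵇ 𝒱) (e : BasedFunctor.comp G j ≅ BasedFunctor.comp i F)
    (α : F ⟶ F) : α = 𝟙 F := by
  have hX := h𝒳.isStack.1
  have hY := h𝒴.1.isStack.1
  have hVs : FibCat.IsFibSetoid 𝒱.p :=
    Groth.Agent.Lib.Helper24.AlgStSetoid.isFibSetoid_of_repByAlgSp h𝒱
  have hjm : AlgSt.IsMono j :=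
    repByAlgSpWith_mono (fun X Y a ha => Groth.Agent.Lib.Helper24.ZarGlue.mono_of_repWith_mono a
      (repWith_mono Groth.Agent.Lib.Helper24.DeformIso.isOpenImmersion_le_mono ha)) j hj
  have hfull := (Groth.Agent.Lib.Helper24.AlgStMonoFull.full_faithful_of_isMono hVs.1 hY j hjm).1
  obtain ⟨hνo, hνc⟩ := inertiaNeutral_open_closed h𝒴 hΔ
  have hI : FibCat.IsFibGrpd (FibCat.inertia (FibCat.toSelf 𝒴)).p :=
    Groth.Agent.Lib.Helper24.FibCatInertia.isFibGrpd_inertia _ hY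
      Groth.Agent.Lib.Helper24.FibCatInertia.isFibGrpd_selfOver
  let A := autFunctor hY α
  let ν := FibCat.inertiaNeutral (FibCat.toSelf 𝒴)
  have hP : FibCat.IsFibGrpd (FibCat.fp A ν).p := isFibGrpd_fp A ν hX hY hI
  have hπo : AlgSt.IsOpenImm (FibCat.fpFst A ν) := repByAlgSpWith_fpFst _ ν A hνo
  have hπc : AlgSt.IsClosedImm (FibCat.fpFst A ν) := repByAlgSpWith_fpFst _ ν A hνc
  have hclosed := Groth.Agent.Lib.Helper24.AlgStClosedRange.isClosed_range_map_of_isClosedImm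
    hP hX (FibCat.fpFst A ν) hπc
  have hsub : Set.range (AlgSt.Points.map i) ⊆ Set.range (AlgSt.Points.map (FibCat.fpFst A ν)) := by
    rintro _ ⟨z, rfl⟩
    obtain ⟨p, rfl⟩ := Points.mk_surjective z
    have hp := app_eq_id_of_factor hVs F i j hfull G e α p.obj
    refine ⟨Points.mk ⟨p.K, p.str, liftObj hY α (i.obj p.obj) hp, (i.w_obj p.obj).trans p.lies⟩, ?_⟩
    rfl
  have hsurj : AlgSt.IsSurjective (FibCat.fpFst A ν) := by
    intro z
    have h1 : closure (Set.range (AlgSt.Points.map i)) ⊆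
        Set.range (AlgSt.Points.map (FibCat.fpFst A ν)) := hclosed.closure_subset_iff.2 hsub
    rw [hdense.closure_eq] at h1
    exact h1 (Set.mem_univ z)
  have hrep1 : AlgSt.RepByAlgSp1 (FibCat.fpFst A ν) := fun T y => by
    obtain ⟨F', e', he', -⟩ := hπo T y
    exact ⟨F', e', he'⟩
  have hsurj' : AlgSt.RepByAlgSpWith AlgSp.IsSurjectiveMor (FibCat.fpFst A ν) :=
    (Groth.Agent.Lib.Helper24.AlgStPts5.isSurjective_iff_repByAlgSpWith hP hX _ hrep1).1 hsurj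
  have h3 := repByAlgSpWith_and _ _ good_isSurjectiveMor.respectsIso _ hπo hsurj'
  have hiso : AlgSt.RepByAlgSpWith (MorphismProperty.isomorphisms (AlgSp.Sp S))
      (FibCat.fpFst A ν) :=
    repByAlgSpWith_mono (fun X Y a ha =>
      Groth.Agent.Lib.Helper14.AS.isIso_of_openImmersion_of_surjective ha.1 ha.2) _ h3
  apply BasedNatTrans.ext
  apply NatTrans.ext
  funext x
  obtain ⟨b, ⟨m⟩⟩ := exists_hom_of_repByAlgSpWith_iso hX (FibCat.fpFst A ν) hiso x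
  exact app_eq_id_of_hom hY α x b m

end Groth.Agent.Lib.Helper24.AlgStEndTriv
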