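import Groth.Agent.Lib.Helper24.AlgStPts6
set_option autoImplicit false
open CategoryTheory AlgebraicGeometry Opposite
universe w₁ v₁ w₂ v₂ w₃ v₃ u
set_option backward.isDefEq.respectTransparency false
set_option backward.isDefEq.respectTransparency.types false

/-! Flat locally finitely presented morphisms representable by algebraic spaces are open on
points; descent of quasi-compactness of morphisms along fppf coverings. -/

noncomputable section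

namespace Groth.Agent.Lib.Helper24.AlgStPts7
open AlgSt Groth.Agent.Lib.Helper24.AlgStPts1 Groth.Agent.Lib.Helper24.AlgStPts2
open Groth.Agent.Lib.Helper24.AlgStPts3 Groth.Agent.Lib.Helper24.AlgStPts4
open Groth.Agent.Lib.Helper24.AlgStPts5 Groth.Agent.Lib.Helper24.AlgStPts6
open Groth.Agent.Lib.Helper24.AlgStRepS Groth.Agent.Lib.Helper24.PshBridge
open Groth.Agent.Lib.Helper24.AlgStBridge Groth.Agent.Lib.Helper24.AlgStRep
open Groth.Agent.Lib.Helper24.FibCatFpMap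
open Groth.Agent.Lib.Helper24.FibCatEquiv Groth.Agent.Lib.Helper24.FibCatFpGen
open Groth.Agent.Lib.Helper24.AlgStBoot
open Groth.Agent.Lib.Helper24.AlgStSchLocal
open Groth.Agent.Lib.Helper24.AlgStGC
open Groth.Agent.Lib.Helper24.AlgStProps Groth.Agent.Lib.Helper24.AlgStSmooth
open Groth.Agent.Lib.Helper24.AlgStFpAlg Groth.Agent.Lib.Helper24.AlgStSmLoc
open Groth.Agent.Lib.Helper24.AlgStQC Groth.Agent.Lib.Helper24.AlgStCalc
open Groth.Agent.Lib.Helper24.AlgStDiag Groth.Agent.Lib.Helper24.FibCatOverMap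
open Groth.Agent.Lib.Helper24.AlgStAtlas Groth.Agent.Lib.Helper24.AlgStDiagLft
open Groth.Agent.Lib.Helper24.AlgStQCMor Groth.Agent.Lib.Helper24.FibCatFpMapL

variable {S : Scheme.{u}}

theorem isSurjective_fpSnd {𝒳 𝒴 𝒵 : AlgSt.Cat S} (h𝒳 : FibCat.IsFibGrpd 𝒳.p)
    (h𝒴 : FibCat.IsFibGrpd 𝒴.p) (h𝒵 : FibCat.IsFibGrpd 𝒵.p) (f : 𝒳 ⥤ᵇ 𝒴) (g : 𝒵 ⥤ᵇ 𝒴)
    (hf : AlgSt.IsSurjective f) : AlgSt.IsSurjective (FibCat.fpSnd f g) := by
  intro z
  obtain ⟨x, hx⟩ := hf (Points.map g z)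
  obtain ⟨w, -, h2⟩ := Groth.Agent.Lib.Helper26.StackPoints.exists_points_fp h𝒵 h𝒴 h𝒳 g f x z hx
  exact ⟨w, h2⟩

theorem isSurjective_mapL {𝒜 𝒳 𝒴 ℬ : AlgSt.Cat S} (h𝒜 : FibCat.IsFibGrpd 𝒜.p)
    (h𝒳 : FibCat.IsFibGrpd 𝒳.p) (h𝒴 : FibCat.IsFibGrpd 𝒴.p) (hℬ : FibCat.IsFibGrpd ℬ.p)
    (a : 𝒜 ⥤ᵇ 𝒳) (j : 𝒳 ⥤ᵇ 𝒴) (h : ℬ ⥤ᵇ 𝒴) (ha : AlgSt.IsSurjective a) :
    AlgSt.IsSurjective (mapL a j h) := by
  intro s
  obtain ⟨t, ht⟩ := isSurjective_fpSnd h𝒜 h𝒳 (isFibGrpd_fp _ _ h𝒳 hℬ h𝒴) a (FibCat.fpFst j h) ha s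
  refine ⟨Points.map (Groth.Agent.Lib.Helper24.FibCatFpPaste.P h j a) t, ?_⟩
  rw [← map_comp, map_congr (mapLIso a j h), ht]

/-- flat, locally finitely presented functors representable by algebraic spaces are open on points -/
theorem isOpenMap_map_of_repByAlgSpWith {𝒳 𝒴 : AlgSt.Cat S}
    (h𝒳 : AlgSt.IsAlgStack Scheme.fppfPrecoverage 𝒳)
    (h𝒴 : AlgSt.IsAlgStack Scheme.fppfPrecoverage 𝒴) (f : 𝒳 ⥤ᵇ 𝒴)
    (hf₁ : AlgSt.RepByAlgSpWith (AlgSp.LocP @Flat) f)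
    (hf₂ : AlgSt.RepByAlgSpWith (AlgSp.LocP @LocallyOfFinitePresentation) f) :
    IsOpenMap (Points.map f) := by
  intro O hO V y _
  have hV : FibCat.IsFibGrpd (FibCat.overCat V).p :=
    Groth.Agent.Lib.Helper24.StkFpCrit.isFibGrpd_overForget V
  have hValg : AlgSt.IsAlgStack Scheme.fppfPrecoverage (FibCat.overCat V) :=
    isAlgStack_of_repByAlgSp (repByAlgSp_overCat V)
  obtain ⟨F, e, he, -⟩ := hf₁ V y
  have h1 : AlgSt.RepByAlgSpWith (AlgSp.LocP @Flat) (BasedFunctor.comp e (FibCat.fpFst y f)) :=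
    (repByAlgSpWith_equiv_comp _ e _ he).2 (repByAlgSpWith_fpFst _ f y hf₁)
  have h2 : AlgSt.RepByAlgSpWith (AlgSp.LocP @LocallyOfFinitePresentation)
      (BasedFunctor.comp e (FibCat.fpFst y f)) :=
    (repByAlgSpWith_equiv_comp _ e _ he).2 (repByAlgSpWith_fpFst _ f y hf₂)
  have ho := isOpenMap_map_of_flat_lfp hValg F _ h1 h2
  have hc : Continuous (Points.map (BasedFunctor.comp e (FibCat.fpSnd y f))) :=
    continuous_map h𝒳 _
  have e1 : Points.ofChart y ⁻¹' (Points.map f '' O) =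
      sch V ⁻¹' (Points.map (BasedFunctor.comp e (FibCat.fpFst y f)) ''
        (Points.map (BasedFunctor.comp e (FibCat.fpSnd y f)) ⁻¹' O)) := by
    ext t
    constructor
    · rintro ⟨x, hx, hxt⟩
      obtain ⟨w, hw1, hw2⟩ := Groth.Agent.Lib.Helper26.StackPoints.exists_points_fp h𝒳.isStack.1
        h𝒴.isStack.1 hV f y (sch V t) x hxt.symm
      obtain ⟨w', rfl⟩ := (bijective_map_of_isEquivOver e he).2 w
      refine ⟨w', ?_, ?_⟩
      · change Points.map _ w' ∈ O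
        rw [map_comp, hw2]
        exact hx
      · rw [map_comp, hw1]
    · rintro ⟨w', hw', hw't⟩
      refine ⟨_, hw', ?_⟩
      change _ = Points.map y (sch V t)
      rw [← hw't, ← map_comp, ← map_comp]
      exact (congrFun (map_congr (whiskerLeftIso e (FibCat.fpIso y f))) w').symm
  rw [e1]
  have hsch : Continuous (sch V) := continuous_ofChart hValg (BasedFunctor.id _)
  exact hsch.isOpen_preimage _ (ho _ (hc.isOpen_preimage O hO))


/-- an open surjective map from the points of an algebraic stack onto a compact space is already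
surjective on a compact open subset -/
theorem exists_compact_open_image_univ {𝒵' 𝒵 : AlgSt.Cat S}
    (h𝒵' : AlgSt.IsAlgStack Scheme.fppfPrecoverage 𝒵') (π : 𝒵' ⥤ᵇ 𝒵)
    (ho : IsOpenMap (Points.map π)) (hs : AlgSt.IsSurjective π) (hq : CompactSpace (Points 𝒵)) :
    ∃ V : Set (Points 𝒵'), IsOpen V ∧ IsCompact V ∧ Points.map π '' V = Set.univ := by
  have hex : ∀ z' : Points 𝒵', ∃ V : Set (Points 𝒵'), IsOpen V ∧ IsCompact V ∧ z' ∈ V ∧
      V ⊆ Set.univ := fun z' => exists_compact_open_nhds h𝒵' z' Set.univ isOpen_univ trivial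
  choose A hA1 hA2 hA3 _ using hex
  have hopen : ∀ z', IsOpen (Points.map π '' A z') := fun z' => ho _ (hA1 z')
  have hcov : (Set.univ : Set (Points 𝒵)) ⊆ ⋃ z', Points.map π '' A z' := by
    intro z _
    obtain ⟨z', rfl⟩ := hs z
    exact Set.mem_iUnion.2 ⟨z', z', hA3 z', rfl⟩
  obtain ⟨t, ht⟩ := isCompact_univ.elim_finite_subcover _ hopen hcov
  refine ⟨⋃ z' ∈ t, A z', isOpen_biUnion fun z' _ => hA1 z',
    t.finite_toSet.isCompact_biUnion fun z' _ => hA2 z', ?_⟩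
  rw [Set.image_iUnion₂]
  exact Set.eq_univ_of_univ_subset ht

/-- S12989 -/
theorem isQuasiCompactMor_of_fppf_cover {𝒳 𝒴 : AlgSt.Cat S}
    (h𝒳 : AlgSt.IsAlgStack Scheme.fppfPrecoverage 𝒳)
    (h𝒴 : AlgSt.IsAlgStack Scheme.fppfPrecoverage 𝒴) (f : 𝒳 ⥤ᵇ 𝒴)
    {𝒲 : AlgSt.Cat S} (h𝒲 : AlgSt.IsAlgStack Scheme.fppfPrecoverage 𝒲) (w : 𝒲 ⥤ᵇ 𝒴)
    (hw₁ : AlgSt.RepByAlgSpWith (AlgSp.LocP @Flat) w)
    (hw₂ : AlgSt.RepByAlgSpWith (AlgSp.LocP @LocallyOfFinitePresentation) w)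
    (hw₃ : AlgSt.RepByAlgSpWith AlgSp.IsSurjectiveMor w)
    (hq : AlgSt.IsQuasiCompactMor Scheme.fppfPrecoverage (FibCat.fpFst w f)) :
    AlgSt.IsQuasiCompactMor Scheme.fppfPrecoverage f := by
  intro 𝒵 h𝒵 hqc g
  have h𝒵' : AlgSt.IsAlgStack Scheme.fppfPrecoverage (FibCat.fp g w) :=
    isAlgStack_fp h𝒴.isStack h𝒴.diag h𝒵 h𝒲 g w
  have ho := isOpenMap_map_of_repByAlgSpWith h𝒵' h𝒵 (FibCat.fpFst g w)
    (repByAlgSpWith_fpFst _ w g hw₁) (repByAlgSpWith_fpFst _ w g hw₂)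
  have hs : AlgSt.IsSurjective (FibCat.fpFst g w) :=
    surjective_map_of_repByAlgSpWith h𝒵.isStack.1 _ (repByAlgSpWith_fpFst _ w g hw₃)
  obtain ⟨V, hV, hVc, hVs⟩ := exists_compact_open_image_univ h𝒵' (FibCat.fpFst g w) ho hs
    ((isQuasiCompact_iff_compactSpace h𝒵).1 hqc)
  obtain ⟨T, c, hT, hc, hr⟩ := exists_compact_chart h𝒵' V hV hVc
  have hTfib : FibCat.IsFibGrpd (FibCat.overCat T).p :=
    Groth.Agent.Lib.Helper24.StkFpCrit.isFibGrpd_overForget T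
  have hTalg : AlgSt.IsAlgStack Scheme.fppfPrecoverage (FibCat.overCat T) :=
    isAlgStack_of_repByAlgSp (repByAlgSp_overCat T)
  have ha : AlgSt.IsSurjective (BasedFunctor.comp c (FibCat.fpFst g w)) := by
    intro z
    have hz : z ∈ Points.map (FibCat.fpFst g w) '' V := hVs ▸ Set.mem_univ z
    obtain ⟨v, hv, rfl⟩ := hz
    have hv' : v ∈ Set.range (Points.ofChart c) := hr ▸ hv
    obtain ⟨t, rfl⟩ := hv'
    exact ⟨sch T t, rfl⟩
  have hTqc : AlgSt.IsQuasiCompact (FibCat.overCat T) :=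
    (isQuasiCompact_iff_compact_atlas hTalg).2 ⟨T, BasedFunctor.id _, hT,
      repByAlgSpWith_id _ hasIsos_smooth, repByAlgSpWith_id _ hasIsos_isSurjectiveMor⟩
  have h1 := hq (FibCat.overCat T) hTalg hTqc (BasedFunctor.comp c (FibCat.fpSnd g w))
  have h2 := (isQuasiCompact_iff_of_isEquivOver _
    (Groth.Agent.Lib.Helper24.FibCatFpPaste.isEquivOver_P (f := f) (g := w)
      (G := BasedFunctor.comp c (FibCat.fpSnd g w)))).1 h1
  have i : BasedFunctor.comp (BasedFunctor.comp c (FibCat.fpSnd g w)) w ≅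
      BasedFunctor.comp (BasedFunctor.comp c (FibCat.fpFst g w)) g :=
    whiskerLeftIso c (FibCat.fpIso g w).symm
  have h3 := (isQuasiCompact_iff_of_eqvOver
    (Groth.Agent.Lib.Helper24.AlgStEqv.eqvOver_fpFst_congr_left i f)).1 h2
  have ha1 : AlgSt.IsAlgStack Scheme.fppfPrecoverage
      (FibCat.fp (BasedFunctor.comp (BasedFunctor.comp c (FibCat.fpFst g w)) g) f) :=
    isAlgStack_fp h𝒴.isStack h𝒴.diag hTalg h𝒳 _ f
  have ha2 : AlgSt.IsAlgStack Scheme.fppfPrecoverage (FibCat.fp g f) :=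
    isAlgStack_fp h𝒴.isStack h𝒴.diag h𝒵 h𝒳 g f
  exact isQuasiCompact_of_isSurjective ha1 ha2
    (mapL (BasedFunctor.comp c (FibCat.fpFst g w)) g f)
    (isSurjective_mapL hTfib h𝒵.isStack.1 h𝒴.isStack.1 h𝒳.isStack.1 _ g f ha) h3

end Groth.Agent.Lib.Helper24.AlgStPts7
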