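import Groth.Agent.Lib.Helper24.AlgStDescent2
import Groth.Agent.Lib.Helper24.AlgStPts7
set_option autoImplicit false
open CategoryTheory AlgebraicGeometry Opposite
universe u
set_option backward.isDefEq.respectTransparency false
set_option backward.isDefEq.respectTransparency.types false

/-! Descent of properties of representable morphisms along jointly surjective families of flat,
locally finitely presented functors to the target. -/

namespace Groth.Agent.Lib.Helper24.AlgStFamilyCover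
open Groth.Agent.Lib.Helper24.FibCatFpGen Groth.Agent.Lib.Helper24.AlgStRep
open Groth.Agent.Lib.Helper24.AlgStRepS Groth.Agent.Lib.Helper24.AlgStEqv
open Groth.Agent.Lib.Helper24.AlgStIso Groth.Agent.Lib.Helper24.AlgStDescent
open Groth.Agent.Lib.Helper24.AlgStDescent2
open Groth.Agent.Lib.Helper24.PshBridge Groth.Agent.Lib.Helper24.AlgStBridge
open Groth.Agent.Lib.Helper24.AlgStBoot Groth.Agent.Lib.Helper24.FibCatEquiv
open Groth.Agent.Lib.Helper24.AlgStPts1 Groth.Agent.Lib.Helper24.AlgStPts2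
open Groth.Agent.Lib.Helper24.AlgStPts3
open CategoryTheory.Limits AlgSt

variable {S : Scheme.{u}}

/-- `P` descends along a jointly surjective family of flat, locally finitely presented base
changes -/
theorem repByAlgSpWith_of_fpFst_family_cover {𝒳 𝒴 : AlgSt.Cat S} {K : Type u}
    (𝒵 : K → AlgSt.Cat S) (h𝒳 : FibCat.IsFibGrpd 𝒳.p)
    (h𝒴 : FibCat.IsFibGrpd 𝒴.p) (h𝒵 : ∀ k, FibCat.IsFibGrpd (𝒵 k).p)
    (P : MorphismProperty (AlgSp.Sp S)) (hPb : StableBC P)
    (hP : AlgSp.IsLocalOnBase AlgSp.IsFppfCover P) (f : 𝒳 ⥤ᵇ 𝒴) (hf : AlgSt.RepByAlgSp1 f)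
    (z : ∀ k, 𝒵 k ⥤ᵇ 𝒴) (hz₁ : ∀ k, AlgSt.RepByAlgSpWith (AlgSp.LocP @Flat) (z k))
    (hz₂ : ∀ k, AlgSt.RepByAlgSpWith (AlgSp.LocP @LocallyOfFinitePresentation) (z k))
    (hz₃ : ∀ y : Points 𝒴, ∃ k, y ∈ Set.range (Points.map (z k)))
    (h : ∀ k, AlgSt.RepByAlgSpWith P (FibCat.fpFst (z k) f)) : AlgSt.RepByAlgSpWith P f := by
  have h' : ∀ k, RepS P (FibCat.fpFst (z k) f) := fun k =>
    repS_of_repByAlgSpWith (isFibGrpd_fp (z k) f (h𝒵 k) h𝒳 h𝒴) (h𝒵 k) P hPb hP _ (h k)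
  rw [repByAlgSpWith_iff_hasP]
  intro U y
  let y' : AlgSt.ofSp ((AlgSp.yon S).obj U) ⥤ᵇ 𝒴 := BasedFunctor.comp (AlgSt.toOverCat U) y
  have hUfib : FibCat.IsFibGrpd (AlgSt.ofSp ((AlgSp.yon S).obj U)).p := Stk.isFibGrpd_ofPsh _
  have hex : ∀ k, ∃ (W : AlgSp.Space S) (eW : AlgSt.ofSp W.obj ⥤ᵇ FibCat.fp y' (z k)),
      FibCat.IsEquivOver eW ∧
        AlgSp.LocP @Flat (spMapOf (BasedFunctor.comp eW (FibCat.fpFst y' (z k)))) ∧
        AlgSp.LocP @LocallyOfFinitePresentation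
          (spMapOf (BasedFunctor.comp eW (FibCat.fpFst y' (z k)))) := by
    intro k
    have h1 := (repByAlgSpWith_iff_hasP (z k)).1 (hz₁ k) U y
    have h2 := (repByAlgSpWith_iff_hasP (z k)).1 (hz₂ k) U y
    obtain ⟨W, eW, heW, hfl⟩ := h1
    have hlfp := h2.forall (phat_respectsIso_of _) (AlgSp.IsAlgSpace.yon_obj U) W eW heW
    exact ⟨W, eW, heW, hfl, hlfp⟩
  choose W eW heW hfl hlfp using hex
  refine hasP_of_family_cover hPb hP f ⟨(AlgSp.yon S).obj U, AlgSp.IsAlgSpace.yon_obj U⟩ y'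
    (repByAlgSp_fp_toOverCat f hf U y) W
    (fun k => spMapOf (BasedFunctor.comp (eW k) (FibCat.fpFst y' (z k))))
    ⟨fun k => ⟨hfl k, hlfp k⟩, fun pt => ?_⟩ (fun k => ?_)
  · -- joint surjectivity
    obtain ⟨k, zz, hzz⟩ := hz₃ (Points.map y' (toPts _ pt))
    obtain ⟨w, hw1, -⟩ := Groth.Agent.Lib.Helper26.StackPoints.exists_points_fp (h𝒵 k) h𝒴 hUfib
      (z k) y' (toPts _ pt) zz hzz.symm
    obtain ⟨w', rfl⟩ := (bijective_map_of_isEquivOver (eW k) (heW k)).2 w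
    obtain ⟨w'', rfl⟩ := (ptsEquiv (W k).obj).surjective w'
    refine ⟨k, w'', ?_⟩
    apply (ptsEquiv _).injective
    change toPts _ _ = toPts _ pt
    rw [← map_ofSpMap_toPts, ← hw1, ← map_comp]
    exact (congrFun (map_congr (isoOfPshMap
      (BasedFunctor.comp (eW k) (FibCat.fpFst y' (z k))))) _).symm
  · -- the property over the members of the family
    have h1 : HasP P (FibCat.fpFst (BasedFunctor.comp (eW k) (FibCat.fpSnd y' (z k)))
        (FibCat.fpFst (z k) f)) := h' k (W k) _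
    refine HasP.of_eqvOver ?_ h1
    refine (eqvOver_P f (z k) (BasedFunctor.comp (eW k) (FibCat.fpSnd y' (z k)))).trans ?_
    refine eqvOver_fpFst_congr_left
      (y' := BasedFunctor.comp (BasedFunctor.comp (eW k) (FibCat.fpSnd y' (z k))) (z k))
      (y := BasedFunctor.comp (AlgSt.ofSpMap
        (spMapOf (BasedFunctor.comp (eW k) (FibCat.fpFst y' (z k))))) y') ?_ f
    exact (whiskerLeftIso (eW k) (FibCat.fpIso y' (z k)).symm : _) ≪≫
      (whiskerRightIso (isoOfPshMap (BasedFunctor.comp (eW k) (FibCat.fpFst y' (z k)))) y' : _)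

end Groth.Agent.Lib.Helper24.AlgStFamilyCover
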