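import Groth.Agent.Lib.Helper24.AlgStFpAlg
import Groth.Agent.Lib.Helper24.AlgStAtlas
set_option autoImplicit false
open CategoryTheory AlgebraicGeometry Opposite
universe w₁ v₁ w₂ v₂ w₃ v₃ w₄ v₄ w₅ v₅ u
set_option backward.isDefEq.respectTransparency false
set_option backward.isDefEq.respectTransparency.types false

/-! 2-fibre products of Deligne–Mumford stacks are Deligne–Mumford. -/

namespace Groth.Agent.Lib.Helper24.AlgStFpDM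
open Groth.Agent.Lib.Helper24.FibCatFpMap
open Groth.Agent.Lib.Helper24.FibCatEquiv Groth.Agent.Lib.Helper24.FibCatFpGen
open Groth.Agent.Lib.Helper24.AlgStRep
open Groth.Agent.Lib.Helper24.AlgStBridge Groth.Agent.Lib.Helper24.AlgStBoot
open Groth.Agent.Lib.Helper24.AlgStRepS
open Groth.Agent.Lib.Helper24.AlgStEqv Groth.Agent.Lib.Helper24.FibCatMagic
open Groth.Agent.Lib.Helper24.AlgStDiagBC
open Groth.Agent.Lib.Helper24.AlgStSchLocal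
open Groth.Agent.Lib.Helper24.AlgStGC Groth.Agent.Lib.Helper24.AlgStLC
open Groth.Agent.Lib.Helper24.FibCatFpFactor Groth.Agent.Lib.Helper24.AlgStProd
open Groth.Agent.Lib.Helper24.AlgStProps Groth.Agent.Lib.Helper24.AlgStSmooth
open Groth.Agent.Lib.Helper24.AlgStDiag Groth.Agent.Lib.Helper24.AlgStCalc
open Groth.Agent.Lib.Helper24.StkFp Groth.Agent.Lib.Helper24.AlgStFpAlg
open CategoryTheory.Limits

variable {S : Scheme.{u}}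

theorem stableComp_isEtaleMor : StableComp (AlgSp.IsEtaleMor (S := S)) :=
  fun _ _ _ _ _ _ a b ha hb U φ hφ => by
    rw [← Category.assoc]
    exact hb _ (ha φ hφ)

/-- the 2-fibre product of stacks with `P`-atlases has a `P`-atlas -/
theorem hasAtlas_fp_gen (P : MorphismProperty (AlgSp.Sp S)) (hP : Nice P) (hPc : StableComp P)
    (hPa : ∀ X : AlgSp.Space S, AlgSt.HasAtlas P (AlgSt.ofSp X.obj))
    {𝒳 𝒴 𝒵 : AlgSt.Cat S} (h𝒳 : FibCat.IsFibGrpd 𝒳.p)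
    (h𝒴 : FibCat.IsFibGrpd 𝒴.p) (h𝒵 : FibCat.IsFibGrpd 𝒵.p)
    (hΔ𝒵 : AlgSt.RepByAlgSp1 (FibCat.diag (FibCat.toSelf 𝒵)))
    (hA𝒳 : AlgSt.HasAtlas P 𝒳) (hA𝒴 : AlgSt.HasAtlas P 𝒴)
    (f : 𝒳 ⥤ᵇ 𝒵) (g : 𝒴 ⥤ᵇ 𝒵) : AlgSt.HasAtlas P (FibCat.fp f g) := by
  obtain ⟨U, x, hx, hx'⟩ := hA𝒳
  obtain ⟨V, y, hy, hy'⟩ := hA𝒴
  have hU : FibCat.IsFibGrpd (FibCat.overCat U).p := StkFpCrit.isFibGrpd_overForget U
  have hV : FibCat.IsFibGrpd (FibCat.overCat V).p := StkFpCrit.isFibGrpd_overForget V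
  have hF : AlgSt.RepByAlgSp (FibCat.fp (BasedFunctor.comp x f) (BasedFunctor.comp y g)) :=
    repByAlgSp1_of_diag h𝒵 hΔ𝒵 hU hV (repByAlgSp_overCat U) (repByAlgSp_overCat V) _ _
  obtain ⟨X, eX, heX⟩ := hF
  obtain ⟨W, p, hp, hp'⟩ := hPa X
  have hW : FibCat.IsFibGrpd (FibCat.overCat W).p := StkFpCrit.isFibGrpd_overForget W
  refine ⟨W, BasedFunctor.comp (BasedFunctor.comp p eX) (prodMap x y f g), ?_, ?_⟩
  · exact repByAlgSpWith_comp hW (isFibGrpd_fp _ _ hU hV h𝒵) (isFibGrpd_fp f g h𝒳 h𝒴 h𝒵) _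
      hP hPc _ _ (repByAlgSpWith_comp_equiv _ p eX heX hp)
      (repByAlgSpWith_prodMap' hU hV h𝒳 h𝒴 h𝒵 _ hP hPc x y f g hx hy)
  · exact repByAlgSpWith_comp hW (isFibGrpd_fp _ _ hU hV h𝒵) (isFibGrpd_fp f g h𝒳 h𝒴 h𝒵) _
      good_isSurjectiveMor.nice stableComp_isSurjectiveMor _ _
      (repByAlgSpWith_comp_equiv _ p eX heX hp')
      (repByAlgSpWith_prodMap' hU hV h𝒳 h𝒴 h𝒵 _ good_isSurjectiveMor.nice
        stableComp_isSurjectiveMor x y f g hx' hy')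

/-- the 2-fibre product of stacks with etale atlases has an etale atlas -/
theorem hasAtlas_etale_fp {𝒳 𝒴 𝒵 : AlgSt.Cat S} (h𝒳 : FibCat.IsFibGrpd 𝒳.p)
    (h𝒴 : FibCat.IsFibGrpd 𝒴.p) (h𝒵 : FibCat.IsFibGrpd 𝒵.p)
    (hΔ𝒵 : AlgSt.RepByAlgSp1 (FibCat.diag (FibCat.toSelf 𝒵)))
    (hA𝒳 : AlgSt.HasAtlas AlgSp.IsEtaleMor 𝒳) (hA𝒴 : AlgSt.HasAtlas AlgSp.IsEtaleMor 𝒴)
    (f : 𝒳 ⥤ᵇ 𝒵) (g : 𝒴 ⥤ᵇ 𝒵) : AlgSt.HasAtlas AlgSp.IsEtaleMor (FibCat.fp f g) :=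
  hasAtlas_fp_gen _ good_isEtaleMor.nice stableComp_isEtaleMor
    Groth.Agent.Lib.Helper24.AlgStAtlas.hasAtlas_etale_ofSp h𝒳 h𝒴 h𝒵 hΔ𝒵 hA𝒳 hA𝒴 f g

/-- the 2-fibre product of Deligne–Mumford stacks over a stack with representable diagonal -/
theorem isDM_fp {K : Precoverage Scheme.{u}} {𝒳 𝒴 𝒵 : AlgSt.Cat S}
    (h𝒵 : Stk.IsStack (QuotSh.J K S) 𝒵)
    (hΔ : AlgSt.RepByAlgSp1 (FibCat.diag (FibCat.toSelf 𝒵)))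
    (h𝒳 : AlgSt.IsDM K 𝒳) (h𝒴 : AlgSt.IsDM K 𝒴)
    (f : 𝒳 ⥤ᵇ 𝒵) (g : 𝒴 ⥤ᵇ 𝒵) : AlgSt.IsDM K (FibCat.fp f g) :=
  ⟨isAlgStack_fp h𝒵 hΔ h𝒳.1 h𝒴.1 f g,
    hasAtlas_etale_fp h𝒳.1.isStack.1 h𝒴.1.isStack.1 h𝒵.1 hΔ h𝒳.2 h𝒴.2 f g⟩

end Groth.Agent.Lib.Helper24.AlgStFpDM
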