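import Groth.Agent.Lib.Helper24.AlgStSmoothCover
import Groth.Agent.Lib.Helper24.Boot8
set_option autoImplicit false
open CategoryTheory AlgebraicGeometry Opposite
universe u
set_option backward.isDefEq.respectTransparency false
set_option backward.isDefEq.respectTransparency.types false

/-! A stack in groupoids with a flat, locally finitely presented, surjective cover, representable by
algebraic spaces, from an algebraic space has a diagonal representable by algebraic spaces. -/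

namespace Groth.Agent.Lib.Helper24.AlgStFppfCover
open Groth.Agent.Lib.Helper24.FibCatFpMap
open Groth.Agent.Lib.Helper24.FibCatEquiv Groth.Agent.Lib.Helper24.FibCatFpGen
open Groth.Agent.Lib.Helper24.AlgStRep Groth.Agent.Lib.Helper24.AlgStRepS
open Groth.Agent.Lib.Helper24.AlgStBridge Groth.Agent.Lib.Helper24.AlgStBoot
open Groth.Agent.Lib.Helper24.AlgStEqv Groth.Agent.Lib.Helper24.AlgStDiagBC
open Groth.Agent.Lib.Helper24.AlgStSchLocal
open Groth.Agent.Lib.Helper24.AlgStGC Groth.Agent.Lib.Helper24.AlgStLC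
open Groth.Agent.Lib.Helper24.AlgStProps Groth.Agent.Lib.Helper24.AlgStSmooth
open Groth.Agent.Lib.Helper24.AlgStDiag Groth.Agent.Lib.Helper24.AlgStCalc
open Groth.Agent.Lib.Helper24.AlgStFpAlg Groth.Agent.Lib.Helper24.AlgStAtlas
open Groth.Agent.Lib.Helper24.AlgStRepAlg Groth.Agent.Lib.Helper24.AlgStIso
open Groth.Agent.Lib.Helper24.PshBridge Groth.Agent.Lib.Helper24.PshFun
open Groth.Agent.Lib.Helper24.StkFp Groth.Agent.Lib.Helper24.AlgStSmoothCover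
open CategoryTheory.Limits AlgSt

variable {S : Scheme.{u}}

/-- a sheaf whose category of elements has a flat, locally finitely presented, surjective cover
from an algebraic space is an algebraic space -/
theorem isAlgSpace_of_fppf_cover_ofSp (F : AlgSp.Sp S) (W : AlgSp.Space S)
    (w : AlgSt.ofSp W.obj ⥤ᵇ AlgSt.ofSp F)
    (h1 : AlgSt.RepByAlgSpWith (AlgSp.LocP @Flat) w)
    (h2 : AlgSt.RepByAlgSpWith (AlgSp.LocP @LocallyOfFinitePresentation) w)
    (h3 : AlgSt.RepByAlgSpWith AlgSp.IsSurjectiveMor w) : AlgSp.IsAlgSpace F := by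
  let ξ : W.obj.obj ⟶ F.obj := pshMapOf w
  have i : w ≅ Stk.ofPshMap ξ := isoOfPshMap w
  have key : ∀ P : MorphismProperty (AlgSp.Sp S), AlgSt.RepByAlgSpWith P w →
      AlgSt.RepByAlgSpWith P (Stk.ofPshMap ξ) := fun P hP => repByAlgSpWith_of_iso P i hP
  have h1' := key _ h1
  have h2' := key _ h2
  have h3' := key _ h3
  have hrep : AlgSp.RepBySp ξ := by
    apply repBySp_of_repByAlgSp1_ofPshMap
    intro V y
    obtain ⟨X, e, he, -⟩ := h1' V y
    exact ⟨X, e, he⟩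
  have hs1 := repBySpWith_of_repByAlgSpWith_ofPshMap (AlgSp.LocP @Flat) ξ hrep h1'
  have hs2 := repBySpWith_of_repByAlgSpWith_ofPshMap
    (AlgSp.LocP @LocallyOfFinitePresentation) ξ hrep h2'
  have hs3 := repBySpWith_of_repByAlgSpWith_ofPshMap AlgSp.IsSurjectiveMor ξ hrep h3'
  have h123 : AlgSp.RepBySpWith (AlgSp.IsSurjectiveMor ⊓ AlgSp.LocP @Flat ⊓
      AlgSp.LocP @LocallyOfFinitePresentation) ξ := by
    intro V η F' fst snd hsq
    obtain ⟨hsh, hX, hQ1⟩ := hs1 η fst snd hsq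
    obtain ⟨_, _, hQ2⟩ := hs2 η fst snd hsq
    obtain ⟨_, _, hQ3⟩ := hs3 η fst snd hsq
    exact ⟨hsh, hX, ⟨hQ3, hQ1⟩, hQ2⟩
  let p : W.obj ⟶ F := ObjectProperty.homMk ξ
  exact Groth.Agent.Lib.Helper24.Boot8.isAlgSpace_of_fppf_cover p
    ((AlgSp.repBySpWith_hom_iff _ p).1 h123) W.property

/-- a stack in setoids with a flat, locally finitely presented, surjective cover from an algebraic
space is an algebraic space -/
theorem repByAlgSp_of_fppf_space_cover {𝒲 𝒵 : AlgSt.Cat S}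
    (h𝒵 : Stk.IsStack (QuotSh.J Scheme.fppfPrecoverage S) 𝒵) (hs : FibCat.IsFibSetoid 𝒵.p)
    (hW : AlgSt.RepByAlgSp 𝒲) (w : 𝒲 ⥤ᵇ 𝒵)
    (h1 : AlgSt.RepByAlgSpWith (AlgSp.LocP @Flat) w)
    (h2 : AlgSt.RepByAlgSpWith (AlgSp.LocP @LocallyOfFinitePresentation) w)
    (h3 : AlgSt.RepByAlgSpWith AlgSp.IsSurjectiveMor w) : AlgSt.RepByAlgSp 𝒵 := by
  obtain ⟨W, eW, heW⟩ := hW
  let F₀ : AlgSp.PSp S := SetoidPsh.clsPsh 𝒵 hs.1
  let e : 𝒵 ⥤ᵇ Stk.ofPsh F₀ := SetoidPsh.toPsh 𝒵 hs.1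
  have he : FibCat.IsEquivOver e := SetoidPsh.isEquivOver_toPsh hs
  have hsh : Presheaf.IsSheaf (AlgSp.J S) F₀ :=
    (isSheaf_iff_isSheaf_of_type _ _).2
      ((PshStack.isStack_ofPsh_iff _ _).1 ((StkEquiv.isStack_iff _ e he).1 h𝒵))
  let F : AlgSp.Sp S := ⟨F₀, hsh⟩
  have key : ∀ P : MorphismProperty (AlgSp.Sp S), AlgSt.RepByAlgSpWith P w →
      AlgSt.RepByAlgSpWith P (BasedFunctor.comp eW (BasedFunctor.comp w e) :
        AlgSt.ofSp W.obj ⥤ᵇ AlgSt.ofSp F) := fun P hP => by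
    have hA : AlgSt.RepByAlgSpWith P (BasedFunctor.comp w e) :=
      (repByAlgSpWith_iff_of_isEquivOver P (BasedFunctor.comp w e) w
        (BasedFunctor.id 𝒲) e (isEquivOver_id _) he (Iso.refl _)).2 hP
    exact (repByAlgSpWith_iff_of_isEquivOver P (BasedFunctor.comp w e)
      (BasedFunctor.comp eW (BasedFunctor.comp w e)) eW (BasedFunctor.id _) heW
      (isEquivOver_id _) (Iso.refl _)).1 hA
  have hF := isAlgSpace_of_fppf_cover_ofSp F W _ (key _ h1) (key _ h2) (key _ h3)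
  obtain ⟨e', he'⟩ := exists_inverse_isEquivOver e he
  exact ⟨⟨F, hF⟩, e', he'⟩

section
variable {𝒰 𝒳 : AlgSt.Cat S} (h𝒰 : FibCat.IsFibGrpd 𝒰.p)
  (h𝒳 : Stk.IsStack (QuotSh.J Scheme.fppfPrecoverage S) 𝒳)
  (hU : AlgSt.RepByAlgSp 𝒰) (u : 𝒰 ⥤ᵇ 𝒳) (hu1 : AlgSt.RepByAlgSp1 u)
  (hfl : AlgSt.RepByAlgSpWith (AlgSp.LocP @Flat) u)
  (hlfp : AlgSt.RepByAlgSpWith (AlgSp.LocP @LocallyOfFinitePresentation) u)
  (hsurj : AlgSt.RepByAlgSpWith AlgSp.IsSurjectiveMor u)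

include h𝒰 h𝒳 hU hu1 in
/-- fibre products over `𝒳` of algebraic spaces, one of which maps through the cover -/
theorem repByAlgSp_fp_of_factor' {𝒜 ℬ : AlgSt.Cat S} (h𝒜 : FibCat.IsFibGrpd 𝒜.p)
    (hℬ : FibCat.IsFibGrpd ℬ.p) (hA : AlgSt.RepByAlgSp 𝒜) (hB : AlgSt.RepByAlgSp ℬ)
    (a' : 𝒜 ⥤ᵇ 𝒰) (b : ℬ ⥤ᵇ 𝒳) : AlgSt.RepByAlgSp (FibCat.fp (BasedFunctor.comp a' u) b) := by
  have hfp : AlgSt.RepByAlgSp (FibCat.fp u b) := repByAlgSp_fp' h𝒰 h𝒳.1 hℬ u b hu1 hB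
  have hfpfib : FibCat.IsFibGrpd (FibCat.fp u b).p := isFibGrpd_fp u b h𝒰 hℬ h𝒳.1
  have e1 : EqvOver (FibCat.fpFst a' (FibCat.fpFst u b))
      (FibCat.fpFst (BasedFunctor.comp a' u) b) := eqvOver_P b u a'
  rw [← EqvOver.repByAlgSp e1]
  exact repByAlgSp1_of_diag h𝒰 (isAlgStack_of_repByAlgSp hU).diag h𝒜 hfpfib hA hfp a'
    (FibCat.fpFst u b)

include h𝒰 h𝒳 hU hu1 hfl hlfp hsurj in
/-- the diagonal of `𝒳` is representable by algebraic spaces -/
theorem repByAlgSp1_diag_of_fppf_cover :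
    AlgSt.RepByAlgSp1 (FibCat.diag (FibCat.toSelf 𝒳)) := by
  rw [repByAlgSp1_diag_iff h𝒳.1]
  intro U x T t
  have hT : FibCat.IsFibGrpd (FibCat.overCat T).p := StkFpCrit.isFibGrpd_overForget T
  have hUf : FibCat.IsFibGrpd (FibCat.overCat U).p := StkFpCrit.isFibGrpd_overForget U
  have hTs : FibCat.IsFibSetoid (FibCat.overCat T).p :=
    AlgStSetoid.isFibSetoid_of_repByAlgSp (repByAlgSp_overCat T)
  have hUs : FibCat.IsFibSetoid (FibCat.overCat U).p :=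
    AlgStSetoid.isFibSetoid_of_repByAlgSp (repByAlgSp_overCat U)
  have hPst : Stk.IsStack (QuotSh.J Scheme.fppfPrecoverage S) (FibCat.fp t x) :=
    isStack_fp t x _ (AlgStStack.isStack_overCat T) (AlgStStack.isStack_overCat U)
      (isPrestack_of_isStack _ h𝒳)
  have hPs : FibCat.IsFibSetoid (FibCat.fp t x).p :=
    Groth.Agent.S12811.isFibSetoid_fp t x hTs hUs h𝒳.1
  have hT' : AlgSt.RepByAlgSp (FibCat.fp t u) := hu1 T t
  have hT'fib : FibCat.IsFibGrpd (FibCat.fp t u).p := isFibGrpd_fp t u hT h𝒰 h𝒳.1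
  let π := FibCat.fpFst t u
  have hπ1 := repByAlgSpWith_fpFst _ u t hfl
  have hπ2 := repByAlgSpWith_fpFst _ u t hlfp
  have hπ3 := repByAlgSpWith_fpFst _ u t hsurj
  let q := FibCat.fpFst t x
  have hW : AlgSt.RepByAlgSp (FibCat.fp π q) := by
    have e1 : EqvOver (FibCat.fpFst π q) (FibCat.fpFst (BasedFunctor.comp π t) x) :=
      eqvOver_P x t π
    have e2 : EqvOver (FibCat.fpFst (BasedFunctor.comp π t) x)
        (FibCat.fpFst (BasedFunctor.comp (FibCat.fpSnd t u) u) x) :=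
      eqvOver_fpFst_congr_left (FibCat.fpIso t u) x
    rw [EqvOver.repByAlgSp e1, EqvOver.repByAlgSp e2]
    exact repByAlgSp_fp_of_factor' h𝒰 h𝒳 hU u hu1 hT'fib hUf hT' (repByAlgSp_overCat U) _ x
  exact repByAlgSp_of_fppf_space_cover hPst hPs hW (FibCat.fpSnd π q)
    (repByAlgSpWith_fpSnd _ π q hπ1) (repByAlgSpWith_fpSnd _ π q hπ2)
    (repByAlgSpWith_fpSnd _ π q hπ3)

end

end Groth.Agent.Lib.Helper24.AlgStFppfCover
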