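import Groth.Agent.Lib.Helper24.AlgStFppfLift
import Groth.Agent.Lib.Helper24.AlgStCalc2
import Groth.Agent.Lib.Helper24.FppfRep
import Groth.Agent.S10531
import Groth.Agent.S10534
import Groth.Agent.S10547
set_option autoImplicit false
open CategoryTheory AlgebraicGeometry Opposite
universe u
set_option backward.isDefEq.respectTransparency false
set_option backward.isDefEq.respectTransparency.types false

/-! A property of a morphism of algebraic stacks can be read off one flat, locally finitely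
presented, surjective chart from an algebraic space. -/

namespace Groth.Agent.Lib.Helper24.AlgStFppfCrit
open Groth.Agent.Lib.Helper24.FibCatFpGen Groth.Agent.Lib.Helper24.AlgStRep
open Groth.Agent.Lib.Helper24.AlgStRepS Groth.Agent.Lib.Helper24.AlgStEqv
open Groth.Agent.Lib.Helper24.AlgStIso Groth.Agent.Lib.Helper24.AlgStDescent
open Groth.Agent.Lib.Helper24.PshBridge Groth.Agent.Lib.Helper24.AlgStBridge
open Groth.Agent.Lib.Helper24.AlgStBoot Groth.Agent.Lib.Helper24.AlgStGC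
open Groth.Agent.Lib.Helper24.AlgStProps Groth.Agent.Lib.Helper24.AlgStSchLocal
open Groth.Agent.Lib.Helper24.AlgStCalc2 Groth.Agent.Lib.Helper24.AlgStAtlas
open Groth.Agent.Lib.Helper24.PshFun
open CategoryTheory.Limits AlgSp

variable {S : Scheme.{u}}

theorem repByAlgSpWith_iff_exists_of_fppf_cover {𝒳 𝒴 : AlgSt.Cat S}
    (h𝒳 : AlgSt.IsAlgStack Scheme.fppfPrecoverage 𝒳)
    (h𝒴 : AlgSt.IsAlgStack Scheme.fppfPrecoverage 𝒴)
    (f : 𝒳 ⥤ᵇ 𝒴) (W : AlgSp.Space S) (w : AlgSt.ofSp W.obj ⥤ᵇ 𝒴)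
    (hw₁ : AlgSt.RepByAlgSpWith (AlgSp.LocP @Flat) w)
    (hw₂ : AlgSt.RepByAlgSpWith (AlgSp.LocP @LocallyOfFinitePresentation) w)
    (hw₃ : AlgSt.RepByAlgSpWith AlgSp.IsSurjectiveMor w)
    (P : MorphismProperty (AlgSp.Sp S)) (hP : Good P) :
    AlgSt.RepByAlgSpWith P f ↔
      ∃ (V : AlgSp.Space S) (a : V ⟶ W) (e : AlgSt.ofSp V.obj ⥤ᵇ FibCat.fp w f),
        FibCat.IsEquivOver e ∧
          Nonempty (BasedFunctor.comp e (FibCat.fpFst w f) ≅ AlgSt.ofSpMap a.hom) ∧ P a.hom := by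
  have hWfib : FibCat.IsFibGrpd (AlgSt.ofSp W.obj).p := (AlgStStack.isStack_ofSp W.obj).1
  constructor
  · intro hf
    have hf1 : AlgSt.RepByAlgSp1 f := repByAlgSp1_of_repByAlgSpWith P f hf
    obtain ⟨V, e, he⟩ := repByAlgSp_fp h𝒳.isStack.1 h𝒴.isStack.1 hWfib f w hf1 (repByAlgSp_ofSp W)
    let Φ : AlgSt.ofSp V.obj ⥤ᵇ AlgSt.ofSp W.obj := BasedFunctor.comp e (FibCat.fpFst w f)
    refine ⟨V, ObjectProperty.homMk (spMapOf Φ), e, he, ⟨isoOfPshMap Φ⟩, ?_⟩
    have h1 : AlgSt.RepByAlgSpWith P (FibCat.fpFst w f) := repByAlgSpWith_fpFst P f w hf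
    have h2 : AlgSt.RepByAlgSpWith P Φ :=
      (repByAlgSpWith_iff_of_isEquivOver P (FibCat.fpFst w f) Φ e (BasedFunctor.id _) he
        (isEquivOver_id _) (Iso.refl _)).1 h1
    exact P_spMapOf_of_repByAlgSpWith' P hP.nice Φ h2
  · rintro ⟨V, a, e, he, ⟨i⟩, hPa⟩
    have hset : FibCat.IsFibSetoid (FibCat.fp w f).p :=
      AlgStSetoid.isFibSetoid_of_repByAlgSp ⟨V, e, he⟩
    have := AlgStFppfLift.faithful_of_fppf_cover h𝒳.isStack h𝒴.isStack.1 f w hw₁ hw₂ hw₃ hset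
    have hf1 : AlgSt.RepByAlgSp1 f := AlgStFaithRep.repByAlgSp1_of_faithful h𝒳 h𝒴 f
    refine repByAlgSpWith_of_fpFst_cover h𝒳.isStack.1 h𝒴.isStack.1 hWfib P hP.bc hP.loc f hf1 w
      hw₁ hw₂ hw₃ ?_
    have h1 : AlgSt.RepByAlgSpWith P (AlgSt.ofSpMap a.hom) :=
      (repByAlgSpWith_ofSpMap_iff P hP.bc hP.loc a.hom).2 hPa
    have h2 : AlgSt.RepByAlgSpWith P (BasedFunctor.comp e (FibCat.fpFst w f)) :=
      repByAlgSpWith_of_iso P i.symm h1
    exact (repByAlgSpWith_iff_of_isEquivOver P (FibCat.fpFst w f)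
      (BasedFunctor.comp e (FibCat.fpFst w f)) e (BasedFunctor.id _) he
        (isEquivOver_id _) (Iso.refl _)).2 h2

theorem good_repWith_isOpenImmersion : Good (RepWith @IsOpenImmersion (S := S)) :=
  ⟨(nice_repWith _).bc, isLocalOnBase_fppf_of_fpqc (Groth.Agent.S10531.result S)⟩

theorem good_repWith_isClosedImmersion : Good (RepWith @IsClosedImmersion (S := S)) :=
  ⟨(nice_repWith _).bc, isLocalOnBase_fppf_of_fpqc (Groth.Agent.S10534.result S)⟩

theorem good_repWith_isImmersion : Good (RepWith @IsImmersion (S := S)) :=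
  ⟨(nice_repWith _).bc, Groth.Agent.S10547.result S⟩

end Groth.Agent.Lib.Helper24.AlgStFppfCrit
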