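import Groth.Prelude.Def_AlgSt
import Groth.Agent.Lib.Helper24.FibCatYoneda
set_option autoImplicit false
open CategoryTheory
universe u v u₂ v₂
set_option backward.isDefEq.respectTransparency false
set_option backward.isDefEq.respectTransparency.types false

namespace Groth.Agent.Lib.Helper24.StkLocal
open Groth.Agent.Lib.Helper24.FibGrpd Groth.Agent.Lib.Helper24.FibCatYoneda
open Groth.Agent.Lib.Helper24.FibCatFpGen

variable {C : Type u} [Category.{v} C] {𝒳 : BasedCategory.{v₂, u₂} C}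

/-- In a category fibred in groupoids for which restriction to the sieve `R` is faithful, two
morphisms over `𝟙 T` which agree after composition with one morphism over each arrow of `R`
coincide. -/
theorem hom_ext_of_locally_eq (h𝒳 : FibCat.IsFibGrpd 𝒳.p) {T : C} (R : Sieve T)
    (hR : (Stk.resSieve R 𝒳).Faithful) {t t' : 𝒳.obj} (φ φ' : t ⟶ t')
    (hφ : 𝒳.p.IsHomLift (𝟙 T) φ) (hφ' : 𝒳.p.IsHomLift (𝟙 T) φ')
    (hloc : ∀ ⦃V : C⦄ (f : V ⟶ T), R f → ∃ (s : 𝒳.obj) (ψ : s ⟶ t),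
      𝒳.p.IsHomLift f ψ ∧ ψ ≫ φ = ψ ≫ φ') : φ = φ' := by
  have : 𝒳.p.IsFibered := isFibered_of_isFibGrpd 𝒳.p h𝒳
  have ht : 𝒳.p.obj t = T := IsHomLift.domain_eq 𝒳.p (𝟙 T) φ
  have ht' : 𝒳.p.obj t' = T := IsHomLift.codomain_eq 𝒳.p (𝟙 T) φ
  let Φ := pbBased ht
  let Φ' := pbBased ht'
  have hi : IsIso (pbMap ht (Over.mk (𝟙 T))) := pbMap_id_isIso ht
  have hi' : IsIso (pbMap ht' (Over.mk (𝟙 T))) := pbMap_id_isIso ht'
  have hil : 𝒳.p.IsHomLift (𝟙 T) (pbMap ht (Over.mk (𝟙 T))) := pbMap_id_lift ht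
  have hil' : 𝒳.p.IsHomLift (𝟙 T) (pbMap ht' (Over.mk (𝟙 T))) := pbMap_id_lift ht'
  have hinv : 𝒳.p.IsHomLift (𝟙 T) (inv (pbMap ht' (Over.mk (𝟙 T)))) := inferInstance
  let φt : Φ.toFunctor.obj (Over.mk (𝟙 T)) ⟶ Φ'.toFunctor.obj (Over.mk (𝟙 T)) :=
    pbMap ht (Over.mk (𝟙 T)) ≫ φ ≫ inv (pbMap ht' (Over.mk (𝟙 T)))
  let φt' : Φ.toFunctor.obj (Over.mk (𝟙 T)) ⟶ Φ'.toFunctor.obj (Over.mk (𝟙 T)) :=
    pbMap ht (Over.mk (𝟙 T)) ≫ φ' ≫ inv (pbMap ht' (Over.mk (𝟙 T)))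
  have hφt : 𝒳.p.IsHomLift (𝟙 T) φt := by
    have : 𝒳.p.IsHomLift (𝟙 T) (φ ≫ inv (pbMap ht' (Over.mk (𝟙 T)))) := inferInstance
    infer_instance
  have hφt' : 𝒳.p.IsHomLift (𝟙 T) φt' := by
    have : 𝒳.p.IsHomLift (𝟙 T) (φ' ≫ inv (pbMap ht' (Over.mk (𝟙 T)))) := inferInstance
    infer_instance
  have hc := cartOnT_of_isFibGrpd h𝒳 Φ'
  let α : Φ ⟶ Φ' := natTransOf hc φt hφt
  let α' : Φ ⟶ Φ' := natTransOf hc φt' hφt'
  have key : ∀ a : Over T, R a.hom → appOf hc φt hφt a = appOf hc φt' hφt' a := by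
    intro a ha
    obtain ⟨s, ψ, hψ, e⟩ := hloc a.hom ha
    have hsc : 𝒳.p.IsStronglyCartesian a.hom (pbMap ht a) := inferInstance
    obtain ⟨χ, ⟨hχl, hχ⟩, -⟩ := Functor.IsStronglyCartesian.universal_property 𝒳.p a.hom
      (pbMap ht a) (𝟙 _) a.hom (Category.id_comp _).symm ψ
    have hs : 𝒳.p.obj s = a.left := IsHomLift.domain_eq 𝒳.p a.hom ψ
    have hχl' : 𝒳.p.IsHomLift (𝟙 a.left) χ := hχl
    have hχiso : IsIso χ := isIso_of_isFibGrpd 𝒳.p h𝒳 (𝟙 a.left) χ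
    have e2 : pbMap ht a ≫ φ = pbMap ht a ≫ φ' := by
      rw [← cancel_epi χ, ← Category.assoc, ← Category.assoc, hχ, e]
    have hs' := hc a
    have l1 := appOf_lift hc φt hφt a
    have l2 := appOf_lift hc φt' hφt' a
    apply Functor.IsStronglyCartesian.ext 𝒳.p a.hom (Φ'.toFunctor.map (tOf a)) (𝟙 a.left)
    rw [appOf_fac, appOf_fac]
    have e3 : Φ.toFunctor.map (tOf a) ≫ pbMap ht (Over.mk (𝟙 T)) = pbMap ht a :=
      pbTrans_fac ht (tOf a)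
    calc Φ.toFunctor.map (tOf a) ≫ φt
        = (Φ.toFunctor.map (tOf a) ≫ pbMap ht (Over.mk (𝟙 T))) ≫ φ ≫
            inv (pbMap ht' (Over.mk (𝟙 T))) := by simp only [φt, Category.assoc]
      _ = (pbMap ht a ≫ φ) ≫ inv (pbMap ht' (Over.mk (𝟙 T))) := by rw [e3, Category.assoc]
      _ = (pbMap ht a ≫ φ') ≫ inv (pbMap ht' (Over.mk (𝟙 T))) := by rw [e2]
      _ = (Φ.toFunctor.map (tOf a) ≫ pbMap ht (Over.mk (𝟙 T))) ≫ φ' ≫
            inv (pbMap ht' (Over.mk (𝟙 T))) := by rw [e3, Category.assoc]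
      _ = Φ.toFunctor.map (tOf a) ≫ φt' := by simp only [φt', Category.assoc]
  have hαα' : (Stk.resSieve R 𝒳).map α = (Stk.resSieve R 𝒳).map α' := by
    apply BasedNatTrans.homCategory.ext
    ext a
    exact key a.obj a.property
  have h1 : α = α' := hR.map_injective hαα'
  have h2 : φt = φt' := by
    have e1 := natTransOf_app_id hc φt hφt
    have e2 := natTransOf_app_id hc φt' hφt'
    have e3 : α.toNatTrans.app (Over.mk (𝟙 T)) = α'.toNatTrans.app (Over.mk (𝟙 T)) := by rw [h1]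
    exact e1.symm.trans (e3.trans e2)
  have h3 : φ ≫ inv (pbMap ht' (Over.mk (𝟙 T))) = φ' ≫ inv (pbMap ht' (Over.mk (𝟙 T))) :=
    (cancel_epi (pbMap ht (Over.mk (𝟙 T)))).mp h2
  exact (cancel_mono (inv (pbMap ht' (Over.mk (𝟙 T))))).mp h3

end Groth.Agent.Lib.Helper24.StkLocal
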