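import Groth.Agent.Lib.Helper24.AlgStDescent
import Groth.Agent.Lib.Helper24.AlgStFaithRep
import Groth.Agent.Lib.Helper24.FibCatInertiaEquiv
import Groth.Agent.Lib.Helper24.StkLocal
import Groth.Agent.Lib.Helper24.AlgStSmLoc
set_option autoImplicit false
open CategoryTheory AlgebraicGeometry Opposite
universe u
set_option backward.isDefEq.respectTransparency false
set_option backward.isDefEq.respectTransparency.types false

/-! Objects lift fppf locally along a flat, locally finitely presented, surjective morphism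
representable by algebraic spaces; consequences for faithfulness. -/

namespace Groth.Agent.Lib.Helper24.AlgStFppfLift
open Groth.Agent.Lib.Helper24.FibCatFpGen Groth.Agent.Lib.Helper24.AlgStRep
open Groth.Agent.Lib.Helper24.AlgStRepS Groth.Agent.Lib.Helper24.AlgStEqv
open Groth.Agent.Lib.Helper24.AlgStIso Groth.Agent.Lib.Helper24.AlgStDescent
open Groth.Agent.Lib.Helper24.PshBridge Groth.Agent.Lib.Helper24.AlgStBridge
open Groth.Agent.Lib.Helper24.PshFun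
open Groth.Agent.Lib.Helper14.AS
open CategoryTheory.Limits AlgSp

variable {S : Scheme.{u}}

lemma transport_prop {V₀ V T : Over S} (e : V₀ = V) (h' : V₀ ⟶ T) (h : V ⟶ T)
    (hh : h' = eqToHom e ≫ h) (P : MorphismProperty Scheme.{u}) (hP : P h'.left) : P h.left := by
  subst e
  rw [eqToHom_refl, Category.id_comp] at hh
  subst hh
  exact hP

/-- objects lift along an fppf cover, fppf locally -/
theorem exists_fppf_lift {𝒲 𝒴 : AlgSt.Cat S} (w : 𝒲 ⥤ᵇ 𝒴)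
    (hw₁ : AlgSt.RepByAlgSpWith (AlgSp.LocP @Flat) w)
    (hw₂ : AlgSt.RepByAlgSpWith (AlgSp.LocP @LocallyOfFinitePresentation) w)
    (hw₃ : AlgSt.RepByAlgSpWith AlgSp.IsSurjectiveMor w) (T : Over S)
    (y : FibCat.overCat T ⥤ᵇ 𝒴) :
    ∃ (V : Over S) (h : V ⟶ T) (w₀ : 𝒲.obj) (ι : y.toFunctor.obj (Over.mk h) ≅ w.toFunctor.obj w₀),
      Flat h.left ∧ LocallyOfFinitePresentation h.left ∧ Surjective h.left ∧
        𝒴.p.IsHomLift (𝟙 V) ι.hom := by
  obtain ⟨F, eF, heF, hcov⟩ := exists_fppfCover w hw₁ hw₂ hw₃ T y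
  obtain ⟨V₀, p, hpe, hps⟩ := F.property.atlas
  let y' := BasedFunctor.comp (AlgSt.toOverCat T) y
  let Φ : AlgSt.ofSp F.obj ⥤ᵇ AlgSt.ofSch T := BasedFunctor.comp eF (FibCat.fpFst y' w)
  let f' : F.obj ⟶ (yon S).obj T := spMapOf Φ
  have hf'fl : LocP @Flat f' := (hcov.1 PUnit.unit).1
  have hf'lfp : LocP @LocallyOfFinitePresentation f' := (hcov.1 PUnit.unit).2
  have hf'surj : IsSurjectiveMor f' := fun x => by
    obtain ⟨_, hx⟩ := hcov.2 x
    exact hx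
  let h' : V₀ ⟶ T := (yon S).preimage (p ≫ f')
  have hh' : (yon S).map h' = p ≫ f' := (yon S).map_preimage _
  have hcomm : p ≫ f' = (yon S).map h' ≫ 𝟙 _ := by rw [Category.comp_id, hh']
  have h1 : Flat h'.left := hf'fl p (𝟙 _) h' hpe (repWith_id _ T) hcomm
  have h2 : LocallyOfFinitePresentation h'.left :=
    hf'lfp p (𝟙 _) h' hpe (repWith_id _ T) hcomm
  have h3 : Surjective h'.left := by
    apply Groth.Agent.Lib.Helper24.AlgStSmLoc.surjective_of_isSurjectiveMor_yon_map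
    rw [hh']
    have hp : IsSurjectiveMor p := points_map_surjective_of_repWith hps
    exact isSurjectiveMor_comp hp hf'surj
  let p₀ : F.obj.obj.obj (op V₀) := p.hom.app (op V₀) ⟨𝟙 V₀⟩
  let a₀ : (AlgSt.ofSp F.obj).obj := ⟨V₀, p₀⟩
  let ζ := eF.toFunctor.obj a₀
  have e : V₀ = ζ.obj.fst.base := (base_eq Φ a₀).symm
  have hsec : h' = eqToHom e ≫ ζ.obj.fst.sec.down := by
    have h4 := congrArg (fun t => (t.hom.app (op V₀) ⟨𝟙 V₀⟩).down) hh'
    have h5 : ((yon S).map h').hom.app (op V₀) ⟨𝟙 V₀⟩ = ⟨𝟙 V₀ ≫ h'⟩ := rfl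
    have h6 : (p ≫ f').hom.app (op V₀) ⟨𝟙 V₀⟩ = sec Φ a₀ := rfl
    simp only [h5, h6, Category.id_comp] at h4
    rw [h4]
    rfl
  refine ⟨ζ.obj.fst.base, ζ.obj.fst.sec.down, ζ.obj.snd, ζ.obj.iso, ?_, ?_, ?_, ζ.property⟩
  · exact transport_prop e h' _ hsec @Flat h1
  · exact transport_prop e h' _ hsec @LocallyOfFinitePresentation h2
  · exact transport_prop e h' _ hsec @Surjective h3

open Groth.Agent.Lib.Helper24.FibGrpd Groth.Agent.Lib.Helper24.FibCatYoneda in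
/-- a morphism whose base change along an fppf cover of the target has source fibred in setoids is
faithful -/
theorem faithful_of_fppf_cover {𝒳 𝒴 𝒲 : AlgSt.Cat S}
    (h𝒳 : Stk.IsStack (QuotSh.J Scheme.fppfPrecoverage S) 𝒳) (h𝒴 : FibCat.IsFibGrpd 𝒴.p)
    (f : 𝒳 ⥤ᵇ 𝒴) (w : 𝒲 ⥤ᵇ 𝒴)
    (hw₁ : AlgSt.RepByAlgSpWith (AlgSp.LocP @Flat) w)
    (hw₂ : AlgSt.RepByAlgSpWith (AlgSp.LocP @LocallyOfFinitePresentation) w)
    (hw₃ : AlgSt.RepByAlgSpWith AlgSp.IsSurjectiveMor w)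
    (hset : FibCat.IsFibSetoid (FibCat.fp w f).p) : f.toFunctor.Faithful := by
  have hX := h𝒳.1
  apply Groth.Agent.Lib.Helper24.FibCatFaithful.faithful_of_aut f hX h𝒴
  intro x u hu hfu
  have : 𝒳.p.IsFibered := isFibered_of_isFibGrpd 𝒳.p hX
  obtain ⟨T, hT⟩ : ∃ T, 𝒳.p.obj x = T := ⟨_, rfl⟩
  have hu' : 𝒳.p.IsHomLift (𝟙 T) u := by rw [← hT]; exact hu
  let G := pbBased hT
  obtain ⟨V, h, w₀, ι, hfl, hlfp, hsurj, hι⟩ :=
    exists_fppf_lift w hw₁ hw₂ hw₃ T (BasedFunctor.comp G f)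
  have hR : Sieve.generate (Presieve.singleton h) ∈ AlgSp.J S T := generate_singleton_mem_J h
  have hfaith : (Stk.resSieve (Sieve.generate (Presieve.singleton h)) 𝒳).Faithful := by
    have : (Stk.resSieve (Sieve.generate (Presieve.singleton h)) 𝒳).IsEquivalence := h𝒳.2 _ hR
    infer_instance
  have hid : 𝒳.p.IsHomLift (𝟙 T) (𝟙 x) := IsHomLift.id hT
  refine Groth.Agent.Lib.Helper24.StkLocal.hom_ext_of_locally_eq hX _ hfaith u (𝟙 x) hu' hid ?_
  intro V' g hg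
  obtain ⟨V'', k, h'', hh'', hk⟩ := hg
  obtain ⟨⟩ := hh''
  -- the pullback of `x` along `h`
  let s₀ := pbObj hT (Over.mk h)
  let ψ₀ : s₀ ⟶ x := pbMap hT (Over.mk h)
  have hψ₀ : 𝒳.p.IsStronglyCartesian h ψ₀ := pbMap_isStronglyCartesian hT (Over.mk h)
  have hs₀ : 𝒳.p.obj s₀ = V := pbObj_proj hT (Over.mk h)
  have claim : ψ₀ ≫ u = ψ₀ := by
    have hl : 𝒳.p.IsHomLift h (ψ₀ ≫ u) := by
      have : 𝒳.p.IsHomLift (h ≫ 𝟙 T) (ψ₀ ≫ u) := inferInstance
      rwa [Category.comp_id] at this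
    obtain ⟨us, ⟨husl, hus⟩, -⟩ := Functor.IsStronglyCartesian.universal_property 𝒳.p h ψ₀
      (𝟙 V) h (Category.id_comp _).symm (ψ₀ ≫ u)
    have husl' : 𝒳.p.IsHomLift (𝟙 V) us := husl
    -- `f us = 𝟙`
    have hfus : f.toFunctor.map us = 𝟙 _ := by
      have hsc' : 𝒴.p.IsStronglyCartesian h (f.toFunctor.map ψ₀) :=
        scart_of_isFibGrpd 𝒴.p h𝒴 _ _
      have e1 : f.toFunctor.map us ≫ f.toFunctor.map ψ₀ = f.toFunctor.map ψ₀ := by
        rw [← Functor.map_comp, hus, Functor.map_comp, hfu, Category.comp_id]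
      have hl1 : 𝒴.p.IsHomLift (𝟙 V) (f.toFunctor.map us) := inferInstance
      have hl2 : 𝒴.p.IsHomLift (𝟙 V) (𝟙 (f.toFunctor.obj s₀)) :=
        IsHomLift.id ((f.w_obj s₀).trans hs₀)
      obtain ⟨χ, -, hχ⟩ := Functor.IsStronglyCartesian.universal_property 𝒴.p h
        (f.toFunctor.map ψ₀) (𝟙 V) h (Category.id_comp _).symm (f.toFunctor.map ψ₀)
      rw [hχ (f.toFunctor.map us) ⟨hl1, e1⟩, hχ (𝟙 _) ⟨hl2, Category.id_comp _⟩]
    -- the object of the fibre product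
    have hw₀ : 𝒲.p.obj w₀ = V :=
      (w.w_obj w₀).symm.trans (IsHomLift.codomain_eq 𝒴.p (𝟙 V) ι.hom)
    have hιinv : 𝒴.p.IsHomLift (𝟙 (𝒲.p.obj w₀)) ι.inv := by
      rw [hw₀]; infer_instance
    let z : (FibCat.fp w f).obj := mkObj (F := w) (G := f) w₀ s₀ ι.symm hιinv
    let m : z ⟶ z := mkHom (x := z) (y := z) (𝟙 _) us (by
      rw [hfus, w.toFunctor.map_id]
      exact (Category.id_comp _).trans (Category.comp_id _).symm)
    have hm : (FibCat.fp w f).p.IsHomLift (𝟙 (𝒲.p.obj w₀)) m := by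
      rw [isHomLift_iff_fst]
      change 𝒲.p.IsHomLift (𝟙 (𝒲.p.obj w₀)) (𝟙 w₀)
      exact IsHomLift.id rfl
    have hidz : (FibCat.fp w f).p.IsHomLift (𝟙 (𝒲.p.obj w₀)) (𝟙 z) := IsHomLift.id rfl
    have hmid : m = 𝟙 z :=
      Groth.Agent.Lib.Helper24.FibSetoid.hom_ext_of_isFibSetoid _ hset (𝟙 (𝒲.p.obj w₀)) m (𝟙 z)
    have hus1 : us = 𝟙 s₀ := congrArg (fun t => t.hom.snd) hmid
    rw [← hus, hus1, Category.id_comp]
  subst hk
  let mk : Over.mk (k ≫ h) ⟶ Over.mk h := Over.homMk k rfl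
  refine ⟨pbObj hT (Over.mk (k ≫ h)), pbMap hT (Over.mk (k ≫ h)), ?_, ?_⟩
  · exact (pbMap_isStronglyCartesian hT (Over.mk (k ≫ h))).toIsHomLift
  · rw [← pbTrans_fac hT mk, Category.assoc, claim, Category.comp_id]

end Groth.Agent.Lib.Helper24.AlgStFppfLift
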