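import Groth.Agent.Lib.Helper24.FibCatFpMap
import Groth.Agent.Lib.Helper24.FibCatDiag
set_option autoImplicit false
set_option linter.unusedSectionVars false
open CategoryTheory CategoryTheory.Limits
universe u v u₂ v₂ u₃ v₃ u₄ v₄ u₅ v₅

/-! A criterion for a square of categories over `C` to be 2-cartesian. -/

namespace Groth.Agent.Lib.Helper24.FibCatTwoCart
open Groth.Agent.Lib.Helper24.FibCatFpGen Groth.Agent.Lib.Helper24.FibCatEquiv
open Groth.Agent.Lib.Helper24.FibCatDiag (mkIso)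

variable {C : Type u} [Category.{v} C]
variable {𝒳 : BasedCategory.{v₂, u₂} C} {𝒴 : BasedCategory.{v₃, u₃} C}
  {𝒮 : BasedCategory.{v₄, u₄} C} {𝒲 : BasedCategory.{v₅, u₅} C}
  {F : 𝒳 ⥤ᵇ 𝒮} {G : 𝒴 ⥤ᵇ 𝒮} (a : 𝒲 ⥤ᵇ 𝒳) (b : 𝒲 ⥤ᵇ 𝒴)
  (e : BasedFunctor.comp a F ≅ BasedFunctor.comp b G)

lemma fpLift_obj_fst (w : 𝒲.obj) : ((FibCat.fpLift a b e).toFunctor.obj w).obj.fst = a.toFunctor.obj w :=
  rfl
lemma fpLift_obj_snd (w : 𝒲.obj) : ((FibCat.fpLift a b e).toFunctor.obj w).obj.snd = b.toFunctor.obj w :=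
  rfl
lemma fpLift_obj_iso_hom (w : 𝒲.obj) :
    ((FibCat.fpLift a b e).toFunctor.obj w).obj.iso.hom = e.hom.toNatTrans.app w := rfl
lemma fpLift_map_fst {w w' : 𝒲.obj} (m : w ⟶ w') :
    ((FibCat.fpLift a b e).toFunctor.map m).hom.fst = a.toFunctor.map m := rfl
lemma fpLift_map_snd {w w' : 𝒲.obj} (m : w ⟶ w') :
    ((FibCat.fpLift a b e).toFunctor.map m).hom.snd = b.toFunctor.map m := rfl

/-- criterion for a 2-commutative square over `C` to be 2-cartesian -/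
theorem isEquivOver_fpLift_of
    (hfaith : ∀ ⦃w w' : 𝒲.obj⦄ (m m' : w ⟶ w'), a.toFunctor.map m = a.toFunctor.map m' →
      b.toFunctor.map m = b.toFunctor.map m' → m = m')
    (hfull : ∀ ⦃w w' : 𝒲.obj⦄ (u : a.toFunctor.obj w ⟶ a.toFunctor.obj w')
      (v : b.toFunctor.obj w ⟶ b.toFunctor.obj w'),
      F.toFunctor.map u ≫ e.hom.toNatTrans.app w' = e.hom.toNatTrans.app w ≫ G.toFunctor.map v →
      ∃ m : w ⟶ w', a.toFunctor.map m = u ∧ b.toFunctor.map m = v)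
    (hsurj : ∀ η : (FibCat.fp F G).obj, ∃ (w : 𝒲.obj) (α : a.toFunctor.obj w ≅ η.obj.fst)
      (β : b.toFunctor.obj w ≅ η.obj.snd), 𝒳.p.IsHomLift (𝟙 (𝒳.p.obj η.obj.fst)) α.hom ∧
      F.toFunctor.map α.hom ≫ η.obj.iso.hom = e.hom.toNatTrans.app w ≫ G.toFunctor.map β.hom) :
    FibCat.IsEquivOver (FibCat.fpLift a b e) := by
  have : (FibCat.fpLift a b e).toFunctor.Faithful := by
    constructor
    intro w w' m m' h
    exact hfaith m m' (congrArg (fun t => t.hom.fst) h) (congrArg (fun t => t.hom.snd) h)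
  have : (FibCat.fpLift a b e).toFunctor.Full := by
    constructor
    intro w w' φ
    obtain ⟨m, h1, h2⟩ := hfull φ.hom.fst φ.hom.snd (hom_w φ)
    exact ⟨m, hom_ext' h1 h2⟩
  choose ξ α β hα hw using hsurj
  refine isEquivOver_of_liftData ⟨ξ, fun η => mkIso (x := (FibCat.fpLift a b e).toFunctor.obj (ξ η))
    (y := η) (α η) (β η) (hw η), fun η => ?_⟩
  rw [isHomLift_iff_fst]
  exact hα η

end Groth.Agent.Lib.Helper24.FibCatTwoCart
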