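import Groth.Agent.Lib.Helper24.FibCatMagic
import Groth.Agent.Lib.Helper24.FibCatTwoCart
set_option autoImplicit false
set_option linter.unusedSectionVars false
open CategoryTheory
universe u v u₂ v₂ u₃ v₃ u₄ v₄ u₅ v₅
set_option backward.isDefEq.respectTransparency false
set_option backward.isDefEq.respectTransparency.types false

/-! The graph factorisation `f = pr₂ ∘ Γ_f` with `Γ_f : 𝒳 ⟶ 𝒳 ×_𝒵 𝒴` a base change of the diagonal
of `g : 𝒴 ⟶ 𝒵`. -/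

namespace Groth.Agent.Lib.Helper24.FibCatGraph
open Groth.Agent.Lib.Helper24.FibCatFpGen Groth.Agent.Lib.Helper24.FibCatEquiv
open Groth.Agent.Lib.Helper24.FibCatDiag Groth.Agent.Lib.Helper24.FibCatMagic
open Groth.Agent.Lib.Helper24.FibCatTwoCart

variable {C : Type u} [Category.{v} C]
variable {𝒳 : BasedCategory.{v₂, u₂} C} {𝒴 : BasedCategory.{v₃, u₃} C}
  {𝒵 : BasedCategory.{v₄, u₄} C} (f : 𝒳 ⥤ᵇ 𝒴) (g : 𝒴 ⥤ᵇ 𝒵)

/-- `𝒳 ⟶ 𝒳 ×_𝒴 𝒴`, `x ↦ (x, f x, 𝟙)` -/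
def graphEquiv : 𝒳 ⥤ᵇ FibCat.fp f (BasedFunctor.id 𝒴) :=
  FibCat.fpLift (BasedFunctor.id 𝒳) f (Iso.refl _)

theorem isEquivOver_graphEquiv : FibCat.IsEquivOver (graphEquiv f) := by
  apply isEquivOver_fpLift_of
  · intro w w' m m' h _
    exact h
  · intro w w' u v huv
    refine ⟨u, rfl, ?_⟩
    change f.toFunctor.map u ≫ 𝟙 _ = 𝟙 _ ≫ v at huv
    rw [Category.comp_id, Category.id_comp] at huv
    exact huv
  · intro η
    refine ⟨η.obj.fst, Iso.refl _, η.obj.iso, ?_, ?_⟩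
    · exact IsHomLift.id rfl
    · change f.toFunctor.map (𝟙 _) ≫ η.obj.iso.hom = 𝟙 _ ≫ η.obj.iso.hom
      rw [f.toFunctor.map_id]

/-- the graph factorisation -/
def graphIso : BasedFunctor.comp (graphEquiv f)
    (BasedFunctor.comp (N f (BasedFunctor.id 𝒴) g)
      (FibCat.fpSnd (BasedFunctor.comp f g) (BasedFunctor.comp (BasedFunctor.id 𝒴) g))) ≅ f :=
  BasedNatIso.mkNatIso (NatIso.ofComponents (fun x => Iso.refl _) (by
    intro x y m
    change f.toFunctor.map m ≫ 𝟙 _ = 𝟙 _ ≫ f.toFunctor.map m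
    simp)) (by
    intro x
    change 𝒴.p.IsHomLift (𝟙 _) (𝟙 (f.toFunctor.obj x))
    rw [← f.w_obj x]
    infer_instance)

end Groth.Agent.Lib.Helper24.FibCatGraph
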