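import Groth.Agent.Lib.Helper24.AlgStDiagComp
import Groth.Agent.Lib.Helper24.FibCatGraph
import Groth.Agent.Lib.Helper24.AlgStProps4
set_option autoImplicit false
open CategoryTheory AlgebraicGeometry Opposite
universe w₁ v₁ w₂ v₂ w₃ v₃ w₄ v₄ w₅ v₅ u
set_option backward.isDefEq.respectTransparency false
set_option backward.isDefEq.respectTransparency.types false

/-! General cancellation: `P(g ∘ f)` and `P(Δ_g)` imply `P(f)`; sections. -/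

namespace Groth.Agent.Lib.Helper24.AlgStGC
open Groth.Agent.Lib.Helper24.FibCatFpMap
open Groth.Agent.Lib.Helper24.FibCatEquiv Groth.Agent.Lib.Helper24.FibCatFpGen
open Groth.Agent.Lib.Helper24.AlgStRep
open Groth.Agent.Lib.Helper24.AlgStBridge Groth.Agent.Lib.Helper24.AlgStBoot
open Groth.Agent.Lib.Helper24.AlgStRepS
open Groth.Agent.Lib.Helper24.AlgStEqv Groth.Agent.Lib.Helper24.FibCatMagic
open Groth.Agent.Lib.Helper24.AlgStDiagBC Groth.Agent.Lib.Helper24.FibCatDiagComp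
open Groth.Agent.Lib.Helper24.AlgStSchLocal Groth.Agent.Lib.Helper24.AlgStDiagComp
open Groth.Agent.Lib.Helper24.FibCatGraph
open Groth.Agent.Lib.Helper24.AlgStProps Groth.Agent.Lib.Helper24.PshBridge
open CategoryTheory.Limits

variable {S : Scheme.{u}}

/-- base change along the other projection -/
theorem repByAlgSpWith_fpSnd {𝒳 : BasedCategory.{v₁, w₁} (Over S)}
    {𝒴 : BasedCategory.{v₂, w₂} (Over S)} {𝒵 : BasedCategory.{v₃, w₃} (Over S)}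
    (P : MorphismProperty (AlgSp.Sp S)) (f : 𝒳 ⥤ᵇ 𝒴) (g : 𝒵 ⥤ᵇ 𝒴) (hf : AlgSt.RepByAlgSpWith P f) :
    AlgSt.RepByAlgSpWith P (FibCat.fpSnd f g) :=
  repByAlgSpWith_of_eqvOver P (eqvOver_swap g f).symm (repByAlgSpWith_fpFst P f g hf)

/-- 2-isomorphic functors have the same properties -/
theorem repByAlgSpWith_of_iso {𝒳 : BasedCategory.{v₁, w₁} (Over S)}
    {𝒴 : BasedCategory.{v₂, w₂} (Over S)} (P : MorphismProperty (AlgSp.Sp S)) {f f' : 𝒳 ⥤ᵇ 𝒴}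
    (i : f' ≅ f) (hf' : AlgSt.RepByAlgSpWith P f') : AlgSt.RepByAlgSpWith P f :=
  repByAlgSpWith_of_eqvOver P (EqvOver.of_iso i) hf'

/-- general cancellation -/
theorem repByAlgSpWith_of_comp_of_diag {𝒳 𝒴 𝒵 : AlgSt.Cat S} (h𝒳 : FibCat.IsFibGrpd 𝒳.p)
    (h𝒴 : FibCat.IsFibGrpd 𝒴.p) (h𝒵 : FibCat.IsFibGrpd 𝒵.p) (P : MorphismProperty (AlgSp.Sp S))
    (hP : Nice P) (hPc : StableComp P) (f : 𝒳 ⥤ᵇ 𝒴) (g : 𝒴 ⥤ᵇ 𝒵)
    (hΔ : AlgSt.RepByAlgSpWith P (FibCat.diag g))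
    (hfg : AlgSt.RepByAlgSpWith P (BasedFunctor.comp f g)) : AlgSt.RepByAlgSpWith P f := by
  have h1 : AlgSt.RepByAlgSpWith P (N f (BasedFunctor.id 𝒴) g) :=
    repByAlgSpWith_N P f (BasedFunctor.id 𝒴) g hΔ
  have h2 : AlgSt.RepByAlgSpWith P
      (FibCat.fpSnd (BasedFunctor.comp f g) (BasedFunctor.comp (BasedFunctor.id 𝒴) g)) :=
    repByAlgSpWith_fpSnd P _ _ hfg
  have h3 := repByAlgSpWith_comp (isFibGrpd_fp f (BasedFunctor.id 𝒴) h𝒳 h𝒴 h𝒴)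
    (isFibGrpd_fp (BasedFunctor.comp f g) (BasedFunctor.comp (BasedFunctor.id 𝒴) g) h𝒳 h𝒴 h𝒵)
    h𝒴 P hP hPc _ _ h1 h2
  exact repByAlgSpWith_of_eqvOver P ⟨graphEquiv f, isEquivOver_graphEquiv f, ⟨graphIso f g⟩⟩ h3

/-- the identity has every property that isomorphisms have -/
theorem repByAlgSpWith_id {𝒯 : BasedCategory.{v₁, w₁} (Over S)} (P : MorphismProperty (AlgSp.Sp S))
    (hid : HasIsos P) : AlgSt.RepByAlgSpWith P (BasedFunctor.id 𝒯) := by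
  rw [repByAlgSpWith_iff_hasP]
  intro U y
  refine ⟨⟨(AlgSp.yon S).obj U, AlgSp.IsAlgSpace.yon_obj U⟩,
    graphEquiv (BasedFunctor.comp (AlgSt.toOverCat U) y), isEquivOver_graphEquiv _, ?_⟩
  have : spMapOf (BasedFunctor.comp (graphEquiv (BasedFunctor.comp (AlgSt.toOverCat U) y))
      (FibCat.fpFst (BasedFunctor.comp (AlgSt.toOverCat U) y) (BasedFunctor.id 𝒯))) = 𝟙 _ := by
    apply ObjectProperty.hom_ext
    exact pshMapOf_id
  rw [this]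
  exact hid _ inferInstance

/-- sections of a morphism inherit the properties of its diagonal -/
theorem repByAlgSpWith_section {𝒳 𝒯 : AlgSt.Cat S} (h𝒳 : FibCat.IsFibGrpd 𝒳.p)
    (h𝒯 : FibCat.IsFibGrpd 𝒯.p) (P : MorphismProperty (AlgSp.Sp S))
    (hP : Nice P) (hPc : StableComp P) (hid : HasIsos P) (f : 𝒳 ⥤ᵇ 𝒯) (s : 𝒯 ⥤ᵇ 𝒳)
    (e : BasedFunctor.comp s f ≅ BasedFunctor.id 𝒯)
    (hΔ : AlgSt.RepByAlgSpWith P (FibCat.diag f)) : AlgSt.RepByAlgSpWith P s :=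
  repByAlgSpWith_of_comp_of_diag h𝒯 h𝒳 h𝒯 P hP hPc s f hΔ
    (repByAlgSpWith_of_iso P e.symm (repByAlgSpWith_id P hid))

end Groth.Agent.Lib.Helper24.AlgStGC
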