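import Groth.Agent.Lib.Helper24.AlgStDiagComp
import Groth.Agent.Lib.Helper24.AlgStFpAlg
import Groth.Agent.Lib.Helper24.AlgStSmLoc
import Groth.Agent.Lib.Helper24.FibCatGraph
set_option autoImplicit false
set_option linter.unusedSectionVars false
open CategoryTheory CategoryTheory.Limits AlgebraicGeometry Opposite
universe u v u₂ v₂ u₃ v₃ u₄ v₄ u₅ v₅ w₁ v₁ w₂ w₃ w₄
set_option backward.isDefEq.respectTransparency false
set_option backward.isDefEq.respectTransparency.types false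

namespace Groth.Agent.Lib.Helper24.AlgStGraph
open Groth.Agent.Lib.Helper24.FibCatFpGen Groth.Agent.Lib.Helper24.FibCatEquiv
open Groth.Agent.Lib.Helper24.FibCatDiag (mkIso)
open Groth.Agent.Lib.Helper24.FibCatFpMap Groth.Agent.Lib.Helper24.FibCatMagic
open Groth.Agent.Lib.Helper24.FibCatTwoCart Groth.Agent.Lib.Helper24.FibCatGraph

section Generic
variable {C : Type u} [Category.{v} C]
variable {𝒳 : BasedCategory.{v₂, u₂} C} {𝒴 : BasedCategory.{v₃, u₃} C}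
  {𝒵 : BasedCategory.{v₄, u₄} C} {𝒯 : BasedCategory.{v₅, u₅} C}

/-- the canonical functor `𝒳 ×_𝒵 𝒴 ⟶ 𝒳 ×_𝒯 𝒴` is `N` -/
def liftIsoN (f : 𝒳 ⥤ᵇ 𝒵) (g : 𝒴 ⥤ᵇ 𝒵) (t : 𝒵 ⥤ᵇ 𝒯)
    (e : BasedFunctor.comp (FibCat.fpFst f g) (BasedFunctor.comp f t) ≅
      BasedFunctor.comp (FibCat.fpSnd f g) (BasedFunctor.comp g t))
    (he : ∀ x, e.hom.toNatTrans.app x = t.map x.obj.iso.hom) :
    FibCat.fpLift (FibCat.fpFst f g) (FibCat.fpSnd f g) e ≅ N f g t :=
  BasedNatIso.mkNatIso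
    (NatIso.ofComponents (fun x => mkIso (F := BasedFunctor.comp f t) (G := BasedFunctor.comp g t)
        (x := (FibCat.fpLift (FibCat.fpFst f g) (FibCat.fpSnd f g) e).toFunctor.obj x)
        (y := (N f g t).toFunctor.obj x) (Iso.refl _) (Iso.refl _) (by
      change t.toFunctor.map (f.toFunctor.map (𝟙 _)) ≫ t.toFunctor.map x.obj.iso.hom =
        e.hom.toNatTrans.app x ≫ t.toFunctor.map (g.toFunctor.map (𝟙 _))
      rw [he x, f.toFunctor.map_id, g.toFunctor.map_id, t.toFunctor.map_id, t.toFunctor.map_id,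
        Category.id_comp]
      exact (Category.comp_id (t.toFunctor.map x.obj.iso.hom)).symm))
      (by
        intro x y m
        apply hom_ext'
        · change m.hom.fst ≫ 𝟙 _ = 𝟙 _ ≫ m.hom.fst
          simp
        · change m.hom.snd ≫ 𝟙 _ = 𝟙 _ ≫ m.hom.snd
          simp))
    (by
      intro x
      rw [isHomLift_iff_fst]
      change 𝒳.p.IsHomLift (𝟙 _) (𝟙 x.obj.fst)
      rw [← (FibCat.fpFst f g).w_obj x]
      exact IsHomLift.id rfl)

variable (p : 𝒳 ⥤ᵇ 𝒯) (q : 𝒴 ⥤ᵇ 𝒯) (g : 𝒳 ⥤ᵇ 𝒴)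
  (e : BasedFunctor.comp (BasedFunctor.id 𝒳) p ≅ BasedFunctor.comp g q)

/-- change of the first leg along `e` -/
def κ : FibCat.fp (BasedFunctor.comp g q) (BasedFunctor.comp (BasedFunctor.id 𝒴) q) ⥤ᵇ
    FibCat.fp p q :=
  fpMap (F' := BasedFunctor.comp g q) (G' := BasedFunctor.comp (BasedFunctor.id 𝒴) q)
    (F := p) (G := q) (BasedFunctor.id 𝒳) (BasedFunctor.id 𝒴) (BasedFunctor.id 𝒯)
    (e.symm : BasedFunctor.comp (BasedFunctor.comp g q) (BasedFunctor.id 𝒯) ≅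
      BasedFunctor.comp (BasedFunctor.id 𝒳) p)
    (Iso.refl _ : BasedFunctor.comp (BasedFunctor.comp (BasedFunctor.id 𝒴) q) (BasedFunctor.id 𝒯) ≅
      BasedFunctor.comp (BasedFunctor.id 𝒴) q)

theorem isEquivOver_κ : FibCat.IsEquivOver (κ p q g e) := by
  have : (BasedFunctor.id 𝒯).toFunctor.Full := inferInstanceAs (𝟭 𝒯.obj).Full
  have : (BasedFunctor.id 𝒯).toFunctor.Faithful := inferInstanceAs (𝟭 𝒯.obj).Faithful
  exact isEquivOver_fpMap _ _ _ _ _ (Groth.Agent.Lib.Helper24.AlgStRep.isEquivOver_id _)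
    (Groth.Agent.Lib.Helper24.AlgStRep.isEquivOver_id _)

/-- the graph is a base change of the diagonal, up to equivalences -/
def graphFactorIso : FibCat.fpLift (BasedFunctor.id 𝒳) g e ≅
    BasedFunctor.comp (graphEquiv g)
      (BasedFunctor.comp (N g (BasedFunctor.id 𝒴) q) (κ p q g e)) :=
  BasedNatIso.mkNatIso
    (NatIso.ofComponents (fun x => mkIso (F := p) (G := q)
        (x := (FibCat.fpLift (BasedFunctor.id 𝒳) g e).toFunctor.obj x)
        (y := (BasedFunctor.comp (graphEquiv g)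
          (BasedFunctor.comp (N g (BasedFunctor.id 𝒴) q) (κ p q g e))).toFunctor.obj x)
        (Iso.refl _) (Iso.refl _) (by
      change p.toFunctor.map (𝟙 x) ≫ (mapIso (F' := BasedFunctor.comp g q)
          (G' := BasedFunctor.comp (BasedFunctor.id 𝒴) q) (F := p) (G := q) (BasedFunctor.id 𝒳)
          (BasedFunctor.id 𝒴) (BasedFunctor.id 𝒯) e.symm (Iso.refl _)
          ((N g (BasedFunctor.id 𝒴) q).toFunctor.obj ((graphEquiv g).toFunctor.obj x))).hom =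
        e.hom.toNatTrans.app x ≫ q.toFunctor.map (𝟙 (g.toFunctor.obj x))
      rw [mapIso_hom]
      change p.toFunctor.map (𝟙 x) ≫ e.hom.toNatTrans.app x ≫
        q.toFunctor.map (𝟙 (g.toFunctor.obj x)) ≫ 𝟙 _ = _
      rw [p.toFunctor.map_id, Category.id_comp, Category.comp_id]))
      (by
        intro x y m
        apply hom_ext'
        · change m ≫ 𝟙 _ = 𝟙 _ ≫ m
          simp
        · change g.toFunctor.map m ≫ 𝟙 _ = 𝟙 _ ≫ g.toFunctor.map m
          simp))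
    (by
      intro x
      rw [isHomLift_iff_fst]
      change 𝒳.p.IsHomLift (𝟙 _) (𝟙 x)
      exact IsHomLift.id rfl)

end Generic

section Main
open Groth.Agent.Lib.Helper24.AlgStDiagComp Groth.Agent.Lib.Helper24.AlgStGC
open Groth.Agent.Lib.Helper24.AlgStFpAlg Groth.Agent.Lib.Helper24.AlgStSmLoc
variable {S : Scheme.{u}}
variable {𝒳 : BasedCategory.{v₁, w₁} (Over S)} {𝒴 : BasedCategory.{v₂, w₂} (Over S)}
  {𝒵 : BasedCategory.{v₃, w₃} (Over S)} {𝒯 : BasedCategory.{v₄, w₄} (Over S)}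

/-- the canonical functor `𝒳 ×_𝒵 𝒴 ⟶ 𝒳 ×_𝒯 𝒴` has the properties of the diagonal of `𝒵 ⟶ 𝒯` -/
theorem repByAlgSpWith_fpLift_of_diag (P : MorphismProperty (AlgSp.Sp S))
    (f : 𝒳 ⥤ᵇ 𝒵) (g : 𝒴 ⥤ᵇ 𝒵) (t : 𝒵 ⥤ᵇ 𝒯)
    (e : BasedFunctor.comp (FibCat.fpFst f g) (BasedFunctor.comp f t) ≅
      BasedFunctor.comp (FibCat.fpSnd f g) (BasedFunctor.comp g t))
    (he : ∀ x, e.hom.toNatTrans.app x = t.map x.obj.iso.hom)
    (hΔ : AlgSt.RepByAlgSpWith P (FibCat.diag t)) :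
    AlgSt.RepByAlgSpWith P (FibCat.fpLift (FibCat.fpFst f g) (FibCat.fpSnd f g) e) :=
  repByAlgSpWith_of_iso P (liftIsoN f g t e he).symm (repByAlgSpWith_N P f g t hΔ)

/-- the graph of a morphism over `𝒯` has the properties of the diagonal of the target over `𝒯` -/
theorem repByAlgSpWith_graph (P : MorphismProperty (AlgSp.Sp S))
    (p : 𝒳 ⥤ᵇ 𝒯) (q : 𝒴 ⥤ᵇ 𝒯) (g : 𝒳 ⥤ᵇ 𝒴)
    (e : BasedFunctor.comp (BasedFunctor.id 𝒳) p ≅ BasedFunctor.comp g q)
    (hΔ : AlgSt.RepByAlgSpWith P (FibCat.diag q)) :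
    AlgSt.RepByAlgSpWith P (FibCat.fpLift (BasedFunctor.id 𝒳) g e) := by
  have h1 := repByAlgSpWith_N P g (BasedFunctor.id 𝒴) q hΔ
  have h2 := repByAlgSpWith_comp_equiv P _ (κ p q g e) (isEquivOver_κ p q g e) h1
  have h3 := (repByAlgSpWith_equiv_comp P (graphEquiv g) _ (isEquivOver_graphEquiv g)).2 h2
  exact repByAlgSpWith_of_iso P (graphFactorIso p q g e).symm h3

end Main

end Groth.Agent.Lib.Helper24.AlgStGraph
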