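import Groth.Prelude.Def_FibCat2
import Groth.Agent.Lib.Helper24.FibCatFpGen
import Groth.Agent.Lib.Helper24.FibCatEquiv2
import Groth.Agent.Lib.Helper24.FibCatDiag
set_option autoImplicit false
set_option linter.unusedSectionVars false
open CategoryTheory CategoryTheory.Limits
universe u v u₂ v₂ u₃ v₃ u₄ v₄ u₅ v₅ u₆ v₆ u₇ v₇

/-! Functoriality of the 2-fibre product over `C` in the cospan, and invariance under
equivalences. -/

namespace Groth.Agent.Lib.Helper24.FibCatFpMap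
open Groth.Agent.Lib.Helper24.FibCatFpGen Groth.Agent.Lib.Helper24.FibCatEquiv

variable {C : Type u} [Category.{v} C]

section AppIso
variable {𝒜 : BasedCategory.{v₂, u₂} C} {ℬ : BasedCategory.{v₃, u₃} C}

/-- component of a based natural isomorphism -/
def appIso {A B : 𝒜 ⥤ᵇ ℬ} (e : A ≅ B) (x : 𝒜.obj) : A.toFunctor.obj x ≅ B.toFunctor.obj x :=
  ((BasedNatTrans.forgetful _ _).mapIso e).app x

lemma appIso_hom {A B : 𝒜 ⥤ᵇ ℬ} (e : A ≅ B) (x : 𝒜.obj) :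
    (appIso e x).hom = e.hom.toNatTrans.app x := rfl

lemma appIso_inv {A B : 𝒜 ⥤ᵇ ℬ} (e : A ≅ B) (x : 𝒜.obj) :
    (appIso e x).inv = e.inv.toNatTrans.app x := rfl

@[reassoc]
lemma appIso_naturality {A B : 𝒜 ⥤ᵇ ℬ} (e : A ≅ B) {x y : 𝒜.obj} (f : x ⟶ y) :
    A.toFunctor.map f ≫ (appIso e y).hom = (appIso e x).hom ≫ B.toFunctor.map f :=
  e.hom.toNatTrans.naturality f

@[reassoc]
lemma appIso_inv_naturality {A B : 𝒜 ⥤ᵇ ℬ} (e : A ≅ B) {x y : 𝒜.obj} (f : x ⟶ y) :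
    B.toFunctor.map f ≫ (appIso e y).inv = (appIso e x).inv ≫ A.toFunctor.map f :=
  e.inv.toNatTrans.naturality f

lemma appIso_hom_isHomLift {A B : 𝒜 ⥤ᵇ ℬ} (e : A ≅ B) (x : 𝒜.obj) {S : C} (hx : 𝒜.p.obj x = S) :
    ℬ.p.IsHomLift (𝟙 S) (appIso e x).hom :=
  e.hom.isHomLift hx

lemma appIso_inv_isHomLift {A B : 𝒜 ⥤ᵇ ℬ} (e : A ≅ B) (x : 𝒜.obj) {S : C} (hx : 𝒜.p.obj x = S) :
    ℬ.p.IsHomLift (𝟙 S) (appIso e x).inv :=
  e.inv.isHomLift hx

variable {𝒞 : BasedCategory.{v₄, u₄} C} {𝒟 : BasedCategory.{v₅, u₅} C}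
  {A₁ : 𝒜 ⥤ᵇ ℬ} {A₂ : ℬ ⥤ᵇ 𝒞} {B₁ : 𝒜 ⥤ᵇ 𝒟} {B₂ : 𝒟 ⥤ᵇ 𝒞}

/-- component of a based natural isomorphism between composites, with unfolded types -/
def appIso₂ (e : BasedFunctor.comp A₁ A₂ ≅ BasedFunctor.comp B₁ B₂) (x : 𝒜.obj) :
    A₂.toFunctor.obj (A₁.toFunctor.obj x) ≅ B₂.toFunctor.obj (B₁.toFunctor.obj x) :=
  appIso e x

@[reassoc]
lemma appIso₂_naturality (e : BasedFunctor.comp A₁ A₂ ≅ BasedFunctor.comp B₁ B₂) {x y : 𝒜.obj}
    (f : x ⟶ y) :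
    A₂.toFunctor.map (A₁.toFunctor.map f) ≫ (appIso₂ e y).hom =
      (appIso₂ e x).hom ≫ B₂.toFunctor.map (B₁.toFunctor.map f) :=
  e.hom.toNatTrans.naturality f

@[reassoc]
lemma appIso₂_inv_naturality (e : BasedFunctor.comp A₁ A₂ ≅ BasedFunctor.comp B₁ B₂) {x y : 𝒜.obj}
    (f : x ⟶ y) :
    B₂.toFunctor.map (B₁.toFunctor.map f) ≫ (appIso₂ e y).inv =
      (appIso₂ e x).inv ≫ A₂.toFunctor.map (A₁.toFunctor.map f) :=
  e.inv.toNatTrans.naturality f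

lemma appIso₂_hom_isHomLift (e : BasedFunctor.comp A₁ A₂ ≅ BasedFunctor.comp B₁ B₂) (x : 𝒜.obj)
    {S : C} (hx : 𝒜.p.obj x = S) : 𝒞.p.IsHomLift (𝟙 S) (appIso₂ e x).hom :=
  e.hom.isHomLift hx

lemma appIso₂_inv_isHomLift (e : BasedFunctor.comp A₁ A₂ ≅ BasedFunctor.comp B₁ B₂) (x : 𝒜.obj)
    {S : C} (hx : 𝒜.p.obj x = S) : 𝒞.p.IsHomLift (𝟙 S) (appIso₂ e x).inv :=
  e.inv.isHomLift hx

end AppIso

section Map
variable {𝒳 : BasedCategory.{v₂, u₂} C} {𝒴 : BasedCategory.{v₃, u₃} C}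
  {𝒮 : BasedCategory.{v₄, u₄} C} {𝒳' : BasedCategory.{v₅, u₅} C} {𝒴' : BasedCategory.{v₆, u₆} C}
  {𝒮' : BasedCategory.{v₇, u₇} C}
  {F : 𝒳 ⥤ᵇ 𝒮} {G : 𝒴 ⥤ᵇ 𝒮} {F' : 𝒳' ⥤ᵇ 𝒮'} {G' : 𝒴' ⥤ᵇ 𝒮'}
  (a : 𝒳' ⥤ᵇ 𝒳) (b : 𝒴' ⥤ᵇ 𝒴) (s : 𝒮' ⥤ᵇ 𝒮)
  (eF : BasedFunctor.comp F' s ≅ BasedFunctor.comp a F)
  (eG : BasedFunctor.comp G' s ≅ BasedFunctor.comp b G)

/-- the structural isomorphism of the image object -/
def mapIso (z : (FibCat.fp F' G').obj) :
    F.toFunctor.obj (a.toFunctor.obj z.obj.fst) ≅ G.toFunctor.obj (b.toFunctor.obj z.obj.snd) :=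
  (appIso₂ eF z.obj.fst).symm ≪≫ s.toFunctor.mapIso z.obj.iso ≪≫ appIso₂ eG z.obj.snd

lemma mapIso_hom (z : (FibCat.fp F' G').obj) :
    (mapIso a b s eF eG z).hom =
      (appIso₂ eF z.obj.fst).inv ≫ s.toFunctor.map z.obj.iso.hom ≫ (appIso₂ eG z.obj.snd).hom := rfl

lemma mapIso_isHomLift (z : (FibCat.fp F' G').obj) :
    𝒮.p.IsHomLift (𝟙 (𝒳.p.obj (a.toFunctor.obj z.obj.fst))) (mapIso a b s eF eG z).hom := by
  rw [a.w_obj]
  have h1 : 𝒮.p.IsHomLift (𝟙 (𝒳'.p.obj z.obj.fst)) (appIso₂ eF z.obj.fst).inv :=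
    appIso₂_inv_isHomLift eF _ rfl
  have hz : 𝒮'.p.IsHomLift (𝟙 (𝒳'.p.obj z.obj.fst)) z.obj.iso.hom := iso_isHomLift F' G' z
  have h2 : 𝒮.p.IsHomLift (𝟙 (𝒳'.p.obj z.obj.fst)) (s.toFunctor.map z.obj.iso.hom) := inferInstance
  have h3 : 𝒮.p.IsHomLift (𝟙 (𝒳'.p.obj z.obj.fst)) (appIso₂ eG z.obj.snd).hom :=
    appIso₂_hom_isHomLift eG _ (p_eq F' G' z).symm
  rw [mapIso_hom]
  have h4 : 𝒮.p.IsHomLift (𝟙 (𝒳'.p.obj z.obj.fst))
      (s.toFunctor.map z.obj.iso.hom ≫ (appIso₂ eG z.obj.snd).hom) := inferInstance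
  infer_instance

/-- the object map -/
def mapObj (z : (FibCat.fp F' G').obj) : (FibCat.fp F G).obj :=
  mkObj (a.toFunctor.obj z.obj.fst) (b.toFunctor.obj z.obj.snd) (mapIso a b s eF eG z)
    (mapIso_isHomLift a b s eF eG z)

lemma map_w {z z' : (FibCat.fp F' G').obj} (φ : z ⟶ z') :
    F.toFunctor.map (a.toFunctor.map φ.hom.fst) ≫ (mapIso a b s eF eG z').hom =
      (mapIso a b s eF eG z).hom ≫ G.toFunctor.map (b.toFunctor.map φ.hom.snd) := by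
  rw [mapIso_hom, mapIso_hom]
  have n1 := appIso₂_inv_naturality eF φ.hom.fst
  have n2 := appIso₂_naturality eG φ.hom.snd
  have n3 := hom_w φ
  rw [reassoc_of% n1, Category.assoc, Category.assoc, ← n2, ← s.toFunctor.map_comp_assoc,
    ← s.toFunctor.map_comp_assoc, n3]

/-- the functor induced on 2-fibre products by a morphism of cospans -/
def fpMapFunctor : (FibCat.fp F' G').obj ⥤ (FibCat.fp F G).obj where
  obj z := mapObj a b s eF eG z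
  map {z z'} φ := mkHom (x := mapObj a b s eF eG z) (y := mapObj a b s eF eG z')
    (a.toFunctor.map φ.hom.fst) (b.toFunctor.map φ.hom.snd) (map_w a b s eF eG φ)
  map_id z := by
    apply hom_ext'
    · change a.toFunctor.map (𝟙 _) = 𝟙 _
      simp
    · change b.toFunctor.map (𝟙 _) = 𝟙 _
      simp
  map_comp φ ψ := by
    apply hom_ext'
    · change a.toFunctor.map (φ.hom.fst ≫ ψ.hom.fst) = a.toFunctor.map _ ≫ a.toFunctor.map _
      simp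
    · change b.toFunctor.map (φ.hom.snd ≫ ψ.hom.snd) = b.toFunctor.map _ ≫ b.toFunctor.map _
      simp

/-- the induced functor over `C` -/
def fpMap : FibCat.fp F' G' ⥤ᵇ FibCat.fp F G where
  toFunctor := fpMapFunctor a b s eF eG
  w := by
    refine CategoryTheory.Functor.ext (fun z => a.w_obj z.obj.fst) (fun z z' φ => ?_)
    exact Functor.congr_hom a.w φ.hom.fst

lemma fpMap_obj_fst (z : (FibCat.fp F' G').obj) :
    ((fpMap a b s eF eG).toFunctor.obj z).obj.fst = a.toFunctor.obj z.obj.fst := rfl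
lemma fpMap_obj_snd (z : (FibCat.fp F' G').obj) :
    ((fpMap a b s eF eG).toFunctor.obj z).obj.snd = b.toFunctor.obj z.obj.snd := rfl
lemma fpMap_obj_iso (z : (FibCat.fp F' G').obj) :
    ((fpMap a b s eF eG).toFunctor.obj z).obj.iso = mapIso a b s eF eG z := rfl
lemma fpMap_map_fst {z z' : (FibCat.fp F' G').obj} (φ : z ⟶ z') :
    ((fpMap a b s eF eG).toFunctor.map φ).hom.fst = a.toFunctor.map φ.hom.fst := rfl
lemma fpMap_map_snd {z z' : (FibCat.fp F' G').obj} (φ : z ⟶ z') :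
    ((fpMap a b s eF eG).toFunctor.map φ).hom.snd = b.toFunctor.map φ.hom.snd := rfl

instance fpMap_faithful [a.toFunctor.Faithful] [b.toFunctor.Faithful] :
    (fpMap a b s eF eG).toFunctor.Faithful := by
  constructor
  intro z z' φ ψ h
  apply hom_ext'
  · apply a.toFunctor.map_injective
    exact congrArg (fun t => t.hom.fst) h
  · apply b.toFunctor.map_injective
    exact congrArg (fun t => t.hom.snd) h

instance fpMap_full [a.toFunctor.Full] [b.toFunctor.Full] [s.toFunctor.Faithful] :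
    (fpMap a b s eF eG).toFunctor.Full := by
  constructor
  intro z z' ψ
  obtain ⟨α, hα⟩ := a.toFunctor.map_surjective
    (show a.toFunctor.obj z.obj.fst ⟶ a.toFunctor.obj z'.obj.fst from ψ.hom.fst)
  obtain ⟨β, hβ⟩ := b.toFunctor.map_surjective
    (show b.toFunctor.obj z.obj.snd ⟶ b.toFunctor.obj z'.obj.snd from ψ.hom.snd)
  have w : F'.toFunctor.map α ≫ z'.obj.iso.hom = z.obj.iso.hom ≫ G'.toFunctor.map β := by
    apply s.toFunctor.map_injective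
    have h0 : F.toFunctor.map (a.toFunctor.map α) ≫ (mapIso a b s eF eG z').hom =
        (mapIso a b s eF eG z).hom ≫ G.toFunctor.map (b.toFunctor.map β) := by
      rw [hα, hβ]; exact hom_w ψ
    rw [mapIso_hom, mapIso_hom] at h0
    have n1 := appIso₂_inv_naturality eF α
    have n2 := appIso₂_naturality eG β
    rw [reassoc_of% n1, Category.assoc, Category.assoc, ← n2] at h0
    rw [s.toFunctor.map_comp, s.toFunctor.map_comp]
    have h1 := (cancel_epi _).1 h0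
    rw [← Category.assoc, ← Category.assoc] at h1
    exact (cancel_mono _).1 h1
  refine ⟨mkHom α β w, ?_⟩
  apply hom_ext'
  · exact hα
  · exact hβ

/-- lift data for the induced functor -/
noncomputable def fpMapLiftData [s.toFunctor.Full] [s.toFunctor.Faithful]
    (Da : LiftData a) (Db : LiftData b) [a.toFunctor.Full] [a.toFunctor.Faithful]
    [b.toFunctor.Full] [b.toFunctor.Faithful] : LiftData (fpMap a b s eF eG) := by
  have key : ∀ w : (FibCat.fp F G).obj, ∃ (z : (FibCat.fp F' G').obj)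
      (e : (fpMap a b s eF eG).toFunctor.obj z ≅ w),
      (FibCat.fp F G).p.IsHomLift (𝟙 ((FibCat.fp F G).p.obj w)) e.hom := by
    intro w
    obtain ⟨S, hS⟩ : ∃ S : C, 𝒳.p.obj w.obj.fst = S := ⟨_, rfl⟩
    have hx' : 𝒳'.p.obj (Da.ξ w.obj.fst) = S := (p_obj_ξ Da w.obj.fst).trans hS
    have hy : 𝒴.p.obj w.obj.snd = S := (p_eq F G w).symm.trans hS
    have hy' : 𝒴'.p.obj (Db.ξ w.obj.snd) = S := (p_obj_ξ Db w.obj.snd).trans hy
    let θ'' : s.toFunctor.obj (F'.toFunctor.obj (Da.ξ w.obj.fst)) ≅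
        s.toFunctor.obj (G'.toFunctor.obj (Db.ξ w.obj.snd)) :=
      appIso₂ eF (Da.ξ w.obj.fst) ≪≫ F.toFunctor.mapIso (Da.e w.obj.fst) ≪≫ w.obj.iso ≪≫
        (G.toFunctor.mapIso (Db.e w.obj.snd)).symm ≪≫ (appIso₂ eG (Db.ξ w.obj.snd)).symm
    have l1 : 𝒮.p.IsHomLift (𝟙 S) (appIso₂ eF (Da.ξ w.obj.fst)).hom :=
      appIso₂_hom_isHomLift eF _ hx'
    have l2a : 𝒳.p.IsHomLift (𝟙 S) (Da.e w.obj.fst).hom := by
      have := Da.he w.obj.fst
      rw [← hS]; exact this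
    have l2 : 𝒮.p.IsHomLift (𝟙 S) (F.toFunctor.map (Da.e w.obj.fst).hom) := inferInstance
    have l3 : 𝒮.p.IsHomLift (𝟙 S) w.obj.iso.hom := by
      have := iso_isHomLift F G w
      rw [← hS]; exact this
    have l4a : 𝒴.p.IsHomLift (𝟙 S) (Db.e w.obj.snd).hom := by
      have := Db.he w.obj.snd
      rw [← hy]; exact this
    have l4b : 𝒴.p.IsHomLift (𝟙 S) (Db.e w.obj.snd).inv := inferInstance
    have l4 : 𝒮.p.IsHomLift (𝟙 S) (G.toFunctor.map (Db.e w.obj.snd).inv) := inferInstance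
    have l5 : 𝒮.p.IsHomLift (𝟙 S) (appIso₂ eG (Db.ξ w.obj.snd)).inv :=
      appIso₂_inv_isHomLift eG _ hy'
    have lθ'' : 𝒮.p.IsHomLift (𝟙 S) θ''.hom := by
      change 𝒮.p.IsHomLift (𝟙 S) ((appIso₂ eF (Da.ξ w.obj.fst)).hom ≫
        F.toFunctor.map (Da.e w.obj.fst).hom ≫ w.obj.iso.hom ≫
        G.toFunctor.map (Db.e w.obj.snd).inv ≫ (appIso₂ eG (Db.ξ w.obj.snd)).inv)
      have m1 : 𝒮.p.IsHomLift (𝟙 S) (G.toFunctor.map (Db.e w.obj.snd).inv ≫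
        (appIso₂ eG (Db.ξ w.obj.snd)).inv) := inferInstance
      have m2 : 𝒮.p.IsHomLift (𝟙 S) (w.obj.iso.hom ≫ G.toFunctor.map (Db.e w.obj.snd).inv ≫
        (appIso₂ eG (Db.ξ w.obj.snd)).inv) := inferInstance
      have m3 : 𝒮.p.IsHomLift (𝟙 S) (F.toFunctor.map (Da.e w.obj.fst).hom ≫ w.obj.iso.hom ≫
        G.toFunctor.map (Db.e w.obj.snd).inv ≫ (appIso₂ eG (Db.ξ w.obj.snd)).inv) := inferInstance
      infer_instance
    let θ' : F'.toFunctor.obj (Da.ξ w.obj.fst) ≅ G'.toFunctor.obj (Db.ξ w.obj.snd) :=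
      s.toFunctor.preimageIso θ''
    have hθ' : s.toFunctor.map θ'.hom = θ''.hom := by simp [θ']
    have lθ' : 𝒮'.p.IsHomLift (𝟙 (𝒳'.p.obj (Da.ξ w.obj.fst))) θ'.hom := by
      rw [hx', ← BasedFunctor.isHomLift_iff s, hθ']
      exact lθ''
    let z : (FibCat.fp F' G').obj := mkObj (Da.ξ w.obj.fst) (Db.ξ w.obj.snd) θ' lθ'
    have hw : F.toFunctor.map (Da.e w.obj.fst).hom ≫ w.obj.iso.hom =
        (mapIso a b s eF eG z).hom ≫ G.toFunctor.map (Db.e w.obj.snd).hom := by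
      rw [mapIso_hom]
      change _ = ((appIso₂ eF (Da.ξ w.obj.fst)).inv ≫ s.toFunctor.map θ'.hom ≫
        (appIso₂ eG (Db.ξ w.obj.snd)).hom) ≫ _
      rw [hθ']
      simp [θ'', ← Functor.map_comp]
    refine ⟨z, Groth.Agent.Lib.Helper24.FibCatDiag.mkIso
      (x := (fpMap a b s eF eG).toFunctor.obj z) (y := w) (Da.e w.obj.fst) (Db.e w.obj.snd) hw, ?_⟩
    rw [isHomLift_iff_fst]
    exact Da.he w.obj.fst
  choose ξ e he using key
  exact ⟨ξ, e, he⟩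

theorem isEquivOver_fpMap [s.toFunctor.Full] [s.toFunctor.Faithful]
    (ha : FibCat.IsEquivOver a) (hb : FibCat.IsEquivOver b) :
    FibCat.IsEquivOver (fpMap a b s eF eG) := by
  obtain ⟨⟨_, _⟩, -⟩ := props_of_isEquivOver a ha
  obtain ⟨⟨_, _⟩, -⟩ := props_of_isEquivOver b hb
  exact isEquivOver_of_liftData
    (fpMapLiftData a b s eF eG (liftDataOfIsEquivOver a ha) (liftDataOfIsEquivOver b hb))

end Map

end Groth.Agent.Lib.Helper24.FibCatFpMap
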