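import Groth.Prelude.Def_StGerb
import Groth.Agent.Lib.Helper24.FibCatFpMap
import Groth.Agent.Lib.Helper24.FibCatEquiv3
import Groth.Agent.Lib.Helper24.AlgStRep2
set_option autoImplicit false
open CategoryTheory
universe u v u₂ v₂ u₃ v₃ u₄ v₄
set_option backward.isDefEq.respectTransparency false
set_option backward.isDefEq.respectTransparency.types false

namespace Groth.Agent.Lib.Helper24.GerbFormal
open Groth.Agent.Lib.Helper24.FibCatFpMap Groth.Agent.Lib.Helper24.FibCatEquiv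
open Groth.Agent.Lib.Helper24.FibGrpd Groth.Agent.Lib.Helper24.FibCatFpGen

variable {C : Type u} [Category.{v} C] (J : GrothendieckTopology C)

section Transfer
variable {𝒳₁ : BasedCategory.{v₂, u₂} C} {𝒳₂ : BasedCategory.{v₃, u₃} C}
  {𝒴 : BasedCategory.{v₄, u₄} C}

/-- transport of a covering sieve along an equality of objects -/
lemma exists_sieve_of_eq {U U' : C} (h : U = U') {P : ∀ ⦃V : C⦄, (V ⟶ U') → Prop}
    (H : ∃ R ∈ J U, ∀ ⦃V : C⦄ (f : V ⟶ U), R f → P (f ≫ eqToHom h)) :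
    ∃ R ∈ J U', ∀ ⦃V : C⦄ (f : V ⟶ U'), R f → P f := by
  subst h
  obtain ⟨R, hR, hP⟩ := H
  refine ⟨R, hR, fun V f hf => ?_⟩
  have := hP f hf
  simpa using this

/-- being a gerbe over `𝒴` is invariant under equivalences of the source -/
theorem isGerbeOver_of_isEquivOver (F : 𝒳₁ ⥤ᵇ 𝒳₂) (hF : FibCat.IsEquivOver F) (G₁ : 𝒳₁ ⥤ᵇ 𝒴)
    (G₂ : 𝒳₂ ⥤ᵇ 𝒴) (e : BasedFunctor.comp F G₂ ≅ G₁) (h : Gerb.IsGerbeOver J G₂) :
    Gerb.IsGerbeOver J G₁ := by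
  obtain ⟨⟨_, _⟩, hess⟩ := props_of_isEquivOver F hF
  obtain ⟨h1, h2⟩ := h
  constructor
  · intro y
    obtain ⟨R, hR, hloc⟩ := h1 y
    refine ⟨R, hR, fun V f hf => ?_⟩
    obtain ⟨x₂, g, hg⟩ := hloc f hf
    obtain ⟨x₁, ε, hε⟩ := hess x₂
    have hV : 𝒴.p.obj (G₂.toFunctor.obj x₂) = V := IsHomLift.domain_eq 𝒴.p f g
    have hx₂ : 𝒳₂.p.obj x₂ = V := by rw [← G₂.w_obj x₂]; exact hV
    have hε' : 𝒳₂.p.IsHomLift (𝟙 V) ε.hom := by rw [← hx₂]; exact hε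
    have l1 : 𝒴.p.IsHomLift (𝟙 V) (G₂.toFunctor.map ε.hom) := inferInstance
    have hx₁ : 𝒳₁.p.obj x₁ = V := by
      rw [← F.w_obj x₁]; exact IsHomLift.domain_eq 𝒳₂.p (𝟙 V) ε.hom
    have l2 : 𝒴.p.IsHomLift (𝟙 V) (appIso e x₁).inv := appIso_inv_isHomLift e x₁ hx₁
    have l3 : 𝒴.p.IsHomLift f (G₂.toFunctor.map ε.hom ≫ g) :=
      IsHomLift.comp_lift_id_left' (p := 𝒴.p) V (G₂.toFunctor.map ε.hom) f g
    refine ⟨x₁, (appIso e x₁).inv ≫ G₂.toFunctor.map ε.hom ≫ g, ?_⟩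
    exact IsHomLift.comp_lift_id_left' (p := 𝒴.p) V (appIso e x₁).inv f _
  · intro x x' b hb
    -- transport b to 𝒳₂
    have hx : 𝒳₂.p.obj (F.toFunctor.obj x) = 𝒳₁.p.obj x := F.w_obj x
    have l1 : 𝒴.p.IsHomLift (𝟙 (𝒳₁.p.obj x)) (appIso e x).hom := appIso_hom_isHomLift e x rfl
    have hx' : 𝒳₁.p.obj x' = 𝒳₁.p.obj x := by
      rw [← G₁.w_obj x']; exact IsHomLift.codomain_eq 𝒴.p (𝟙 (𝒳₁.p.obj x)) b
    have l2 : 𝒴.p.IsHomLift (𝟙 (𝒳₁.p.obj x)) (appIso e x').inv := appIso_inv_isHomLift e x' hx'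
    let b' : G₂.toFunctor.obj (F.toFunctor.obj x) ⟶ G₂.toFunctor.obj (F.toFunctor.obj x') :=
      (appIso e x).hom ≫ b ≫ (appIso e x').inv
    have hb' : 𝒴.p.IsHomLift (𝟙 (𝒳₂.p.obj (F.toFunctor.obj x))) b' := by
      rw [hx]
      have : 𝒴.p.IsHomLift (𝟙 (𝒳₁.p.obj x)) (b ≫ (appIso e x').inv) := inferInstance
      infer_instance
    apply exists_sieve_of_eq J hx
    obtain ⟨R, hR, hloc⟩ := h2 (F.toFunctor.obj x) (F.toFunctor.obj x') b' hb'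
    refine ⟨R, hR, fun V f hf => ?_⟩
    obtain ⟨x₀', φ', ψ', hφ', hψ', hc⟩ := hloc f hf
    obtain ⟨x₀, ε, hε⟩ := hess x₀'
    have hV : 𝒳₂.p.obj x₀' = V := IsHomLift.domain_eq 𝒳₂.p f φ'
    have hε' : 𝒳₂.p.IsHomLift (𝟙 V) ε.hom := by rw [← hV]; exact hε
    have k1 : 𝒳₂.p.IsHomLift f (ε.hom ≫ φ') :=
      IsHomLift.comp_lift_id_left' (p := 𝒳₂.p) V ε.hom f φ'
    have k2 : 𝒳₂.p.IsHomLift f (ε.hom ≫ ψ') :=
      IsHomLift.comp_lift_id_left' (p := 𝒳₂.p) V ε.hom f ψ'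
    refine ⟨x₀, F.toFunctor.preimage (ε.hom ≫ φ'), F.toFunctor.preimage (ε.hom ≫ ψ'), ?_, ?_, ?_⟩
    · rw [IsHomLift.lift_comp_eqToHom_iff, ← BasedFunctor.isHomLift_iff F, Functor.map_preimage]
      exact k1
    · rw [IsHomLift.lift_comp_eqToHom_iff, ← BasedFunctor.isHomLift_iff F, Functor.map_preimage]
      exact k2
    · have n1 := appIso_inv_naturality e (F.toFunctor.preimage (ε.hom ≫ φ'))
      have n2 := appIso_inv_naturality e (F.toFunctor.preimage (ε.hom ≫ ψ'))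
      change G₁.toFunctor.map _ ≫ (appIso e x).inv =
        (appIso e x₀).inv ≫ G₂.toFunctor.map (F.toFunctor.map _) at n1
      change G₁.toFunctor.map _ ≫ (appIso e x').inv =
        (appIso e x₀).inv ≫ G₂.toFunctor.map (F.toFunctor.map _) at n2
      rw [Functor.map_preimage] at n1 n2
      have e1 : G₁.toFunctor.map (F.toFunctor.preimage (ε.hom ≫ φ')) =
          (appIso e x₀).inv ≫ G₂.toFunctor.map (ε.hom ≫ φ') ≫ (appIso e x).hom := by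
        rw [← Category.assoc, ← n1, Category.assoc, Iso.inv_hom_id, Category.comp_id]
      have e2 : G₁.toFunctor.map (F.toFunctor.preimage (ε.hom ≫ ψ')) =
          (appIso e x₀).inv ≫ G₂.toFunctor.map (ε.hom ≫ ψ') ≫ (appIso e x').hom := by
        rw [← Category.assoc, ← n2, Category.assoc, Iso.inv_hom_id, Category.comp_id]
      rw [e1, e2]
      simp only [Functor.map_comp, Category.assoc]
      congr 2
      have : G₂.toFunctor.map φ' ≫ (appIso e x).hom ≫ b ≫ (appIso e x').inv =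
          G₂.toFunctor.map ψ' := hc
      rw [← this]
      simp

end Transfer

end Groth.Agent.Lib.Helper24.GerbFormal

namespace Groth.Agent.Lib.Helper24.GerbFormal
open Groth.Agent.Lib.Helper24.FibCatFpMap Groth.Agent.Lib.Helper24.FibCatEquiv
open Groth.Agent.Lib.Helper24.FibGrpd Groth.Agent.Lib.Helper24.FibCatFpGen

variable {C : Type u} [Category.{v} C] (J : GrothendieckTopology C)

section Cart
variable {𝒳 : BasedCategory.{v₂, u₂} C} (h𝒳 : FibCat.IsFibGrpd 𝒳.p)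

include h𝒳 in
/-- in a category fibred in groupoids, a morphism factors through any morphism over the same base
arrow by an isomorphism over the identity -/
lemma exists_iso_factor {V U : C} (k : V ⟶ U) {a b t : 𝒳.obj} (m : a ⟶ t) (c : b ⟶ t)
    (hm : 𝒳.p.IsHomLift k m) (hc : 𝒳.p.IsHomLift k c) :
    ∃ χ : a ≅ b, 𝒳.p.IsHomLift (𝟙 V) χ.hom ∧ χ.hom ≫ c = m := by
  have hsc : 𝒳.p.IsStronglyCartesian k c := scart_of_isFibGrpd 𝒳.p h𝒳 k c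
  obtain ⟨χ, ⟨hχl, hχ⟩, -⟩ := Functor.IsStronglyCartesian.universal_property 𝒳.p k c (𝟙 V) k
    (Category.id_comp _).symm m
  have hχl' : 𝒳.p.IsHomLift (𝟙 V) χ := hχl
  have : IsIso χ := isIso_of_isFibGrpd 𝒳.p h𝒳 (𝟙 V) χ
  exact ⟨asIso χ, hχl', hχ⟩

include h𝒳 in
lemma exists_lift' {V U : C} (k : V ⟶ U) (t : 𝒳.obj) (ht : 𝒳.p.obj t = U) :
    ∃ (s : 𝒳.obj) (c : s ⟶ t), 𝒳.p.IsHomLift k c := by
  subst ht
  exact h𝒳.exists_lift k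

end Cart

section BaseChange
variable {𝒳 : BasedCategory.{v₂, u₂} C} {𝒴 : BasedCategory.{v₃, u₃} C}
  {𝒴' : BasedCategory.{v₄, u₄} C}

/-- the base change of a gerbe is a gerbe -/
theorem isGerbeOver_fpFst (h𝒴 : FibCat.IsFibGrpd 𝒴.p) (h𝒴' : FibCat.IsFibGrpd 𝒴'.p)
    (f : 𝒳 ⥤ᵇ 𝒴) (g : 𝒴' ⥤ᵇ 𝒴) (hf : Gerb.IsGerbeOver J f) :
    Gerb.IsGerbeOver J (FibCat.fpFst g f) := by
  obtain ⟨h1, h2⟩ := hf
  constructor
  · intro y'
    have hy : 𝒴.p.obj (g.toFunctor.obj y') = 𝒴'.p.obj y' := g.w_obj y'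
    apply exists_sieve_of_eq J hy
    obtain ⟨R, hR, hloc⟩ := h1 (g.toFunctor.obj y')
    refine ⟨R, hR, fun V k hk => ?_⟩
    obtain ⟨x, m, hm⟩ := hloc k hk
    obtain ⟨y'', c, hc⟩ := exists_lift' h𝒴' (k ≫ eqToHom hy) y' rfl
    have hgc : 𝒴.p.IsHomLift (k ≫ eqToHom hy) (g.toFunctor.map c) := inferInstance
    have hgc' : 𝒴.p.IsHomLift k (g.toFunctor.map c) :=
      (IsHomLift.lift_comp_eqToHom_iff _ _ _ _).mp hgc
    obtain ⟨χ, hχl, hχ⟩ := exists_iso_factor h𝒴 k m (g.toFunctor.map c) hm hgc'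
    have hV : 𝒴'.p.obj y'' = V := IsHomLift.domain_eq 𝒴'.p (k ≫ eqToHom hy) c
    have hχinv : 𝒴.p.IsHomLift (𝟙 (𝒴'.p.obj y'')) χ.symm.hom := by
      rw [hV]
      exact IsHomLift.lift_id_inv (p := 𝒴.p) V χ
    let z : (FibCat.fp g f).obj := mkObj (F := g) (G := f) y'' x χ.symm hχinv
    exact ⟨z, c, hc⟩
  · intro z z' b hb
    -- z = (y₁, x₁, ι₁), z' = (y₂, x₂, ι₂)
    have hι₁ := iso_isHomLift g f z
    have hι₂ := iso_isHomLift g f z'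
    have hb' : 𝒴'.p.IsHomLift (𝟙 (𝒴'.p.obj z.obj.fst)) b := hb
    have hU' : 𝒴'.p.obj z'.obj.fst = 𝒴'.p.obj z.obj.fst :=
      IsHomLift.codomain_eq 𝒴'.p (𝟙 (𝒴'.p.obj z.obj.fst)) b
    have hι₂' : 𝒴.p.IsHomLift (𝟙 (𝒴'.p.obj z.obj.fst)) z'.obj.iso.hom := by
      rw [← hU']; exact hι₂
    have hι₁inv : 𝒴.p.IsHomLift (𝟙 (𝒴'.p.obj z.obj.fst)) z.obj.iso.inv :=
      IsHomLift.lift_id_inv (p := 𝒴.p) _ z.obj.iso
    have hgb : 𝒴.p.IsHomLift (𝟙 (𝒴'.p.obj z.obj.fst)) (g.toFunctor.map b) := inferInstance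
    let β : f.toFunctor.obj z.obj.snd ⟶ f.toFunctor.obj z'.obj.snd :=
      z.obj.iso.inv ≫ g.toFunctor.map b ≫ z'.obj.iso.hom
    have hx₁ : 𝒳.p.obj z.obj.snd = 𝒴'.p.obj z.obj.fst := (p_eq g f z).symm
    have hβ : 𝒴.p.IsHomLift (𝟙 (𝒳.p.obj z.obj.snd)) β := by
      rw [hx₁]
      have : 𝒴.p.IsHomLift (𝟙 (𝒴'.p.obj z.obj.fst)) (g.toFunctor.map b ≫ z'.obj.iso.hom) :=
        inferInstance
      infer_instance
    apply exists_sieve_of_eq J hx₁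
    obtain ⟨R, hR, hloc⟩ := h2 z.obj.snd z'.obj.snd β hβ
    refine ⟨R, hR, fun V k hk => ?_⟩
    obtain ⟨x₀, φx, ψx, hφx, hψx, hc⟩ := hloc k hk
    obtain ⟨y₀, c, hc0⟩ := exists_lift' h𝒴' (k ≫ eqToHom hx₁) z.obj.fst rfl
    have hgc : 𝒴.p.IsHomLift (k ≫ eqToHom hx₁) (g.toFunctor.map c) := inferInstance
    have hfφ : 𝒴.p.IsHomLift k (f.toFunctor.map φx) := inferInstance
    have hfφ' : 𝒴.p.IsHomLift (k ≫ eqToHom hx₁) (f.toFunctor.map φx) :=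
      (IsHomLift.lift_comp_eqToHom_iff _ _ _ _).mpr hfφ
    have hgcι : 𝒴.p.IsHomLift (k ≫ eqToHom hx₁) (g.toFunctor.map c ≫ z.obj.iso.hom) :=
      IsHomLift.comp_lift_id_right' (p := 𝒴.p) (k ≫ eqToHom hx₁) (g.toFunctor.map c)
        (𝒴'.p.obj z.obj.fst) z.obj.iso.hom
    obtain ⟨ι₀, hι₀l, hι₀⟩ := exists_iso_factor h𝒴 (k ≫ eqToHom hx₁)
      (g.toFunctor.map c ≫ z.obj.iso.hom) (f.toFunctor.map φx) hgcι hfφ'
    have hV : 𝒴'.p.obj y₀ = V := IsHomLift.domain_eq 𝒴'.p (k ≫ eqToHom hx₁) c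
    have hι₀l' : 𝒴.p.IsHomLift (𝟙 (𝒴'.p.obj y₀)) ι₀.hom := by rw [hV]; exact hι₀l
    let z₀ : (FibCat.fp g f).obj := mkObj (F := g) (G := f) y₀ x₀ ι₀ hι₀l'
    let φ : z₀ ⟶ z := mkHom (x := z₀) (y := z) c φx hι₀.symm
    have hcb : 𝒴'.p.IsHomLift (k ≫ eqToHom hx₁) (c ≫ b) :=
      IsHomLift.comp_lift_id_right' (p := 𝒴'.p) (k ≫ eqToHom hx₁) c (𝒴'.p.obj z.obj.fst) b
    have hw : g.toFunctor.map (c ≫ b) ≫ z'.obj.iso.hom = ι₀.hom ≫ f.toFunctor.map ψx := by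
      rw [← hc, ← Category.assoc, hι₀]
      simp only [β, Functor.map_comp, Category.assoc, Iso.hom_inv_id_assoc]
    let ψ : z₀ ⟶ z' := mkHom (x := z₀) (y := z') (c ≫ b) ψx hw
    refine ⟨z₀, φ, ψ, ?_, ?_, rfl⟩
    · rw [isHomLift_iff_fst]; exact hc0
    · rw [isHomLift_iff_fst]; exact hcb

end BaseChange

end Groth.Agent.Lib.Helper24.GerbFormal

namespace Groth.Agent.Lib.Helper24.GerbFormal
open Groth.Agent.Lib.Helper24.FibCatFpMap Groth.Agent.Lib.Helper24.FibCatEquiv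
open Groth.Agent.Lib.Helper24.FibGrpd Groth.Agent.Lib.Helper24.FibCatFpGen

variable {C : Type u} [Category.{v} C] (J : GrothendieckTopology C)

/-- two-step localisation -/
lemma bind_lemma {U : C} {P : ∀ ⦃V : C⦄, (V ⟶ U) → Prop} (Q : ∀ ⦃V : C⦄, (V ⟶ U) → Prop)
    (h1 : ∃ R ∈ J U, ∀ ⦃V : C⦄ (k : V ⟶ U), R k → Q k)
    (h2 : ∀ ⦃V : C⦄ (k : V ⟶ U), Q k → ∃ R' ∈ J V, ∀ ⦃W : C⦄ (l : W ⟶ V), R' l → P (l ≫ k)) :
    ∃ R ∈ J U, ∀ ⦃W : C⦄ (h : W ⟶ U), R h → P h := by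
  obtain ⟨R, hR, hQ⟩ := h1
  choose R' hR' hP using fun (V : C) (k : V ⟶ U) (hk : R k) => h2 k (hQ k hk)
  refine ⟨Sieve.bind R (fun V k hk => R' V k hk), J.bind_covering hR (fun V k hk => hR' V k hk), ?_⟩
  rintro W h ⟨V, l, k, hk, hl, rfl⟩
  exact hP V k hk l hl

section Comp
variable {𝒳 : BasedCategory.{v₂, u₂} C} {𝒴 : BasedCategory.{v₃, u₃} C}
  {𝒵 : BasedCategory.{v₄, u₄} C}

/-- `LocSurjObj` with the covering sieve on a prescribed object equal to the base of `y` -/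
lemma locSurjObj_at {F : 𝒳 ⥤ᵇ 𝒴} (hF : Gerb.LocSurjObj J F) (y : 𝒴.obj) {V : C}
    (hV : 𝒴.p.obj y = V) :
    ∃ R ∈ J V, ∀ ⦃W : C⦄ (l : W ⟶ V), R l → ∃ (x : 𝒳.obj) (n : F.toFunctor.obj x ⟶ y),
      𝒴.p.IsHomLift l n := by
  subst hV
  exact hF y

/-- `LocSurjHom` with the covering sieve on a prescribed object -/
lemma locSurjHom_at {F : 𝒳 ⥤ᵇ 𝒴} (hF : Gerb.LocSurjHom J F) (x x' : 𝒳.obj) {V : C}
    (hV : 𝒳.p.obj x = V) (b : F.toFunctor.obj x ⟶ F.toFunctor.obj x')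
    (hb : 𝒴.p.IsHomLift (𝟙 V) b) :
    ∃ R ∈ J V, ∀ ⦃W : C⦄ (l : W ⟶ V), R l → ∃ (x₀ : 𝒳.obj) (φ : x₀ ⟶ x) (ψ : x₀ ⟶ x'),
      𝒳.p.IsHomLift l φ ∧ 𝒳.p.IsHomLift l ψ ∧ F.toFunctor.map φ ≫ b = F.toFunctor.map ψ := by
  subst hV
  exact hF x x' b hb

theorem isGerbeOver_comp (h𝒳 : FibCat.IsFibGrpd 𝒳.p) (h𝒴 : FibCat.IsFibGrpd 𝒴.p)
    (F : 𝒳 ⥤ᵇ 𝒴) (G : 𝒴 ⥤ᵇ 𝒵) (hF : Gerb.IsGerbeOver J F) (hG : Gerb.IsGerbeOver J G) :
    Gerb.IsGerbeOver J (BasedFunctor.comp F G) := by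
  constructor
  · intro z
    refine bind_lemma J (fun V k => ∃ (y : 𝒴.obj) (m : G.toFunctor.obj y ⟶ z), 𝒵.p.IsHomLift k m)
      (hG.1 z) ?_
    rintro V k ⟨y, m, hm⟩
    have hV : 𝒴.p.obj y = V := by
      rw [← G.w_obj y]; exact IsHomLift.domain_eq 𝒵.p k m
    obtain ⟨R', hR', hloc⟩ := locSurjObj_at J hF.1 y hV
    refine ⟨R', hR', fun W l hl => ?_⟩
    obtain ⟨x, n, hn⟩ := hloc l hl
    have : 𝒵.p.IsHomLift l (G.toFunctor.map n) := inferInstance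
    exact ⟨x, G.toFunctor.map n ≫ m, inferInstance⟩
  · intro x x' b hb
    have hx' : 𝒳.p.obj x' = 𝒳.p.obj x := by
      have := IsHomLift.codomain_eq 𝒵.p (𝟙 (𝒳.p.obj x)) b
      rw [← this]; exact ((BasedFunctor.comp F G).w_obj x').symm
    have hFx : 𝒴.p.obj (F.toFunctor.obj x) = 𝒳.p.obj x := F.w_obj x
    refine bind_lemma J (fun V k => ∃ (y₀ : 𝒴.obj) (φ₁ : y₀ ⟶ F.toFunctor.obj x)
        (ψ₁ : y₀ ⟶ F.toFunctor.obj x'), 𝒴.p.IsHomLift k φ₁ ∧ 𝒴.p.IsHomLift k ψ₁ ∧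
        G.toFunctor.map φ₁ ≫ b = G.toFunctor.map ψ₁)
      (locSurjHom_at J hG.2 (F.toFunctor.obj x) (F.toFunctor.obj x') hFx b hb) ?_
    rintro V k ⟨y₀, φ₁, ψ₁, hφ₁, hψ₁, hc⟩
    obtain ⟨xk, c, hcl⟩ := exists_lift' h𝒳 k x rfl
    obtain ⟨xk', c', hcl'⟩ := exists_lift' h𝒳 k x' hx'
    have hFc : 𝒴.p.IsHomLift k (F.toFunctor.map c) := inferInstance
    have hFc' : 𝒴.p.IsHomLift k (F.toFunctor.map c') := inferInstance
    obtain ⟨χ, hχl, hχ⟩ := exists_iso_factor h𝒴 k φ₁ (F.toFunctor.map c) hφ₁ hFc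
    obtain ⟨χ', hχl', hχ'⟩ := exists_iso_factor h𝒴 k ψ₁ (F.toFunctor.map c') hψ₁ hFc'
    have hχinv : 𝒴.p.IsHomLift (𝟙 V) χ.inv := IsHomLift.lift_id_inv (p := 𝒴.p) V χ
    have hb₁ : 𝒴.p.IsHomLift (𝟙 V) (χ.inv ≫ χ'.hom) := inferInstance
    have hxk : 𝒳.p.obj xk = V := IsHomLift.domain_eq 𝒳.p k c
    obtain ⟨R', hR', hloc⟩ := locSurjHom_at J hF.2 xk xk' hxk (χ.inv ≫ χ'.hom) hb₁
    refine ⟨R', hR', fun W l hl => ?_⟩
    obtain ⟨x₀, φ₂, ψ₂, hφ₂, hψ₂, hc₂⟩ := hloc l hl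
    refine ⟨x₀, φ₂ ≫ c, ψ₂ ≫ c', inferInstance, inferInstance, ?_⟩
    change G.toFunctor.map (F.toFunctor.map (φ₂ ≫ c)) ≫ b =
      G.toFunctor.map (F.toFunctor.map (ψ₂ ≫ c'))
    have e1 : F.toFunctor.map (φ₂ ≫ c) = (F.toFunctor.map φ₂ ≫ χ.inv) ≫ φ₁ := by
      rw [F.toFunctor.map_comp, ← hχ, Category.assoc, Iso.inv_hom_id_assoc]
    have e2 : F.toFunctor.map (ψ₂ ≫ c') = (F.toFunctor.map φ₂ ≫ χ.inv) ≫ ψ₁ := by
      rw [F.toFunctor.map_comp, ← hc₂, ← hχ']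
      simp only [Category.assoc]
    rw [e1, e2, G.toFunctor.map_comp, Category.assoc, hc, ← G.toFunctor.map_comp]

end Comp

end Groth.Agent.Lib.Helper24.GerbFormal

namespace Groth.Agent.Lib.Helper24.GerbFormal
open Groth.Agent.Lib.Helper24.FibCatFpMap Groth.Agent.Lib.Helper24.FibCatEquiv
open Groth.Agent.Lib.Helper24.FibGrpd Groth.Agent.Lib.Helper24.FibCatFpGen

variable {C : Type u} [Category.{v} C] (J : GrothendieckTopology C)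

section Descent
variable {𝒳 : BasedCategory.{v₂, u₂} C} {𝒴 : BasedCategory.{v₃, u₃} C}
  {𝒴' : BasedCategory.{v₄, u₄} C}

/-- being a gerbe descends along a base change which is locally surjective on objects -/
theorem isGerbeOver_of_fpFst (h𝒳 : FibCat.IsFibGrpd 𝒳.p) (h𝒴 : FibCat.IsFibGrpd 𝒴.p)
    (f : 𝒳 ⥤ᵇ 𝒴) (g : 𝒴' ⥤ᵇ 𝒴) (hg : Gerb.LocSurjObj J g)
    (h : Gerb.IsGerbeOver J (FibCat.fpFst g f)) : Gerb.IsGerbeOver J f := by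
  obtain ⟨h1, h2⟩ := h
  constructor
  · intro y
    refine bind_lemma J (fun V k => ∃ (y' : 𝒴'.obj) (m : g.toFunctor.obj y' ⟶ y),
      𝒴.p.IsHomLift k m) (hg y) ?_
    rintro V k ⟨y', m, hm⟩
    have hV : 𝒴'.p.obj y' = V := by
      rw [← g.w_obj y']; exact IsHomLift.domain_eq 𝒴.p k m
    obtain ⟨R', hR', hloc⟩ := locSurjObj_at J h1 y' hV
    refine ⟨R', hR', fun W l hl => ?_⟩
    obtain ⟨z, n, hn⟩ := hloc l hl
    have hn' : 𝒴'.p.IsHomLift l n := hn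
    have hW : 𝒴'.p.obj z.obj.fst = W := IsHomLift.domain_eq 𝒴'.p l n
    have hι : 𝒴.p.IsHomLift (𝟙 W) z.obj.iso.hom := by
      rw [← hW]; exact iso_isHomLift g f z
    have hιinv : 𝒴.p.IsHomLift (𝟙 W) z.obj.iso.inv :=
      IsHomLift.lift_id_inv (p := 𝒴.p) W z.obj.iso
    have hgn : 𝒴.p.IsHomLift l (g.toFunctor.map n) := inferInstance
    have hgnm : 𝒴.p.IsHomLift (l ≫ k) (g.toFunctor.map n ≫ m) := inferInstance
    refine ⟨z.obj.snd, z.obj.iso.inv ≫ g.toFunctor.map n ≫ m, ?_⟩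
    exact IsHomLift.comp_lift_id_left' (p := 𝒴.p) W z.obj.iso.inv (l ≫ k) _
  · intro x₁ x₂ b hb
    have hx₂ : 𝒳.p.obj x₂ = 𝒳.p.obj x₁ := by
      have := IsHomLift.codomain_eq 𝒴.p (𝟙 (𝒳.p.obj x₁)) b
      rw [← this]; exact (f.w_obj x₂).symm
    have hfx : 𝒴.p.obj (f.toFunctor.obj x₁) = 𝒳.p.obj x₁ := f.w_obj x₁
    refine bind_lemma J (fun V k => ∃ (y' : 𝒴'.obj) (m : g.toFunctor.obj y' ⟶ f.toFunctor.obj x₁),
      𝒴.p.IsHomLift k m) (locSurjObj_at J hg (f.toFunctor.obj x₁) hfx) ?_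
    rintro V k ⟨y', m, hm⟩
    have hV : 𝒴'.p.obj y' = V := by
      rw [← g.w_obj y']; exact IsHomLift.domain_eq 𝒴.p k m
    obtain ⟨x₁', c₁, hc₁⟩ := exists_lift' h𝒳 k x₁ rfl
    obtain ⟨x₂', c₂, hc₂⟩ := exists_lift' h𝒳 k x₂ hx₂
    have hfc₁ : 𝒴.p.IsHomLift k (f.toFunctor.map c₁) := inferInstance
    have hfc₂ : 𝒴.p.IsHomLift k (f.toFunctor.map c₂) := inferInstance
    have hmb : 𝒴.p.IsHomLift k (m ≫ b) :=
      IsHomLift.comp_lift_id_right' (p := 𝒴.p) k m (𝒳.p.obj x₁) b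
    obtain ⟨ι₁, hι₁l, hι₁⟩ := exists_iso_factor h𝒴 k m (f.toFunctor.map c₁) hm hfc₁
    obtain ⟨ι₂, hι₂l, hι₂⟩ := exists_iso_factor h𝒴 k (m ≫ b) (f.toFunctor.map c₂) hmb hfc₂
    have hι₁l' : 𝒴.p.IsHomLift (𝟙 (𝒴'.p.obj y')) ι₁.hom := by rw [hV]; exact hι₁l
    have hι₂l' : 𝒴.p.IsHomLift (𝟙 (𝒴'.p.obj y')) ι₂.hom := by rw [hV]; exact hι₂l
    let z₁ : (FibCat.fp g f).obj := mkObj (F := g) (G := f) y' x₁' ι₁ hι₁l'
    let z₂ : (FibCat.fp g f).obj := mkObj (F := g) (G := f) y' x₂' ι₂ hι₂l'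
    have hid : 𝒴'.p.IsHomLift (𝟙 V) (𝟙 y') := by
      rw [← hV]; infer_instance
    obtain ⟨R', hR', hloc⟩ := locSurjHom_at J h2 z₁ z₂ (V := V) hV (𝟙 y') hid
    refine ⟨R', hR', fun W l hl => ?_⟩
    obtain ⟨z₀, φ, ψ, hφ, hψ, hc⟩ := hloc l hl
    have hφs : 𝒳.p.IsHomLift l φ.hom.snd := isHomLift_snd l φ
    have hψs : 𝒳.p.IsHomLift l ψ.hom.snd := isHomLift_snd l ψ
    have hfst : φ.hom.fst = ψ.hom.fst := by
      have : φ.hom.fst ≫ 𝟙 y' = ψ.hom.fst := hc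
      rwa [Category.comp_id] at this
    refine ⟨z₀.obj.snd, φ.hom.snd ≫ c₁, ψ.hom.snd ≫ c₂, inferInstance, inferInstance, ?_⟩
    have wφ : g.toFunctor.map φ.hom.fst ≫ ι₁.hom = z₀.obj.iso.hom ≫ f.toFunctor.map φ.hom.snd :=
      hom_w φ
    have wψ : g.toFunctor.map ψ.hom.fst ≫ ι₂.hom = z₀.obj.iso.hom ≫ f.toFunctor.map ψ.hom.snd :=
      hom_w ψ
    have e1 : f.toFunctor.map φ.hom.snd = z₀.obj.iso.inv ≫ g.toFunctor.map φ.hom.fst ≫ ι₁.hom := by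
      rw [wφ, Iso.inv_hom_id_assoc]
    have e2 : f.toFunctor.map ψ.hom.snd = z₀.obj.iso.inv ≫ g.toFunctor.map ψ.hom.fst ≫ ι₂.hom := by
      rw [wψ, Iso.inv_hom_id_assoc]
    rw [f.toFunctor.map_comp, f.toFunctor.map_comp, e1, e2, hfst]
    simp only [Category.assoc]
    rw [hι₂, ← hι₁]
    simp only [Category.assoc]

end Descent

section Abs
variable {𝒮₁ : BasedCategory.{v₂, u₂} C} {𝒮₂ : BasedCategory.{v₃, u₃} C}

/-- `eqToHom` lies over the identity for the identity functor -/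
lemma isHomLift_id_eqToHom {a b : C} (h : a = b) : (𝟭 C).IsHomLift (𝟙 b) (eqToHom h) := by
  subst h
  simp only [eqToHom_refl]
  exact IsHomLift.id (p := 𝟭 C) rfl

/-- the structure functor is compatible with any based functor (strictly) -/
def compToSelfIso (F : 𝒮₁ ⥤ᵇ 𝒮₂) : BasedFunctor.comp F (FibCat.toSelf 𝒮₂) ≅ FibCat.toSelf 𝒮₁ :=
  BasedNatIso.mkNatIso
    (NatIso.ofComponents (fun x => eqToIso (F.w_obj x)) (fun {x y} φ => by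
      have := Functor.congr_hom F.w φ
      simp only [Functor.comp_map] at this
      change 𝒮₂.p.map (F.toFunctor.map φ) ≫ eqToHom (F.w_obj y) =
        eqToHom (F.w_obj x) ≫ 𝒮₁.p.map φ
      rw [this]; simp))
    (fun x => isHomLift_id_eqToHom (F.w_obj x))

theorem isGerbeOver_toSelf_of_isEquivOver (F : 𝒮₁ ⥤ᵇ 𝒮₂) (hF : FibCat.IsEquivOver F)
    (h : Gerb.IsGerbeOver J (FibCat.toSelf 𝒮₂)) : Gerb.IsGerbeOver J (FibCat.toSelf 𝒮₁) :=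
  isGerbeOver_of_isEquivOver J F hF _ _ (compToSelfIso F) h

end Abs

end Groth.Agent.Lib.Helper24.GerbFormal
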