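import Groth.Agent.Lib.Helper24.AlgStLocQ13
import Groth.Agent.Lib.Helper24.AlgStSepDiag
import Groth.Agent.Lib.Helper24.AlgStDiagComp
import Groth.Agent.Lib.Helper24.GerbFormal
import Groth.Agent.Lib.Helper14.AlgSpImm
set_option autoImplicit false
open CategoryTheory AlgebraicGeometry Opposite
universe w₁ v₁ w₂ v₂ w₃ v₃ w₄ v₄ u
set_option backward.isDefEq.respectTransparency false
set_option backward.isDefEq.respectTransparency.types false

/-! Immersions into locally Noetherian algebraic stacks (S13017, S13018). -/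

namespace Groth.Agent.Lib.Helper24.AlgStImmNoeth
open Groth.Agent.Lib.Helper24.FibCatFpMap
open Groth.Agent.Lib.Helper24.FibCatEquiv Groth.Agent.Lib.Helper24.FibCatFpGen
open Groth.Agent.Lib.Helper24.AlgStRep
open Groth.Agent.Lib.Helper24.AlgStBridge Groth.Agent.Lib.Helper24.AlgStBoot
open Groth.Agent.Lib.Helper24.AlgStRepS
open Groth.Agent.Lib.Helper24.AlgStSchLocal
open Groth.Agent.Lib.Helper24.AlgStGC
open Groth.Agent.Lib.Helper24.AlgStProps Groth.Agent.Lib.Helper24.AlgStSmooth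
open Groth.Agent.Lib.Helper24.AlgStFpAlg Groth.Agent.Lib.Helper24.AlgStSmLoc
open Groth.Agent.Lib.Helper24.AlgStEqv Groth.Agent.Lib.Helper24.PshBridge
open Groth.Agent.Lib.Helper24.AlgStLocQ1 Groth.Agent.Lib.Helper24.FibCatFpMapL
open Groth.Agent.Lib.Helper24.AlgStLocQ2 Groth.Agent.Lib.Helper24.FibCatFpLiftIso
open Groth.Agent.Lib.Helper24.AlgStLocQ3 Groth.Agent.Lib.Helper24.AlgStProdAlg
open Groth.Agent.Lib.Helper24.AlgStLocQ4 Groth.Agent.Lib.Helper24.AlgStLocQ5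
open Groth.Agent.Lib.Helper24.AlgStLocQ6 Groth.Agent.Lib.Helper24.AlgStLocQ7
open Groth.Agent.Lib.Helper24.AlgStLocQ8 Groth.Agent.Lib.Helper24.AlgStLocQ9
open Groth.Agent.Lib.Helper24.AlgStLocQ10 Groth.Agent.Lib.Helper24.AlgStLocQ12
open Groth.Agent.Lib.Helper24.AlgStLocQ13
open Groth.Agent.Lib.Helper24.AlgStCalc Groth.Agent.Lib.Helper24.AlgStDiag
open Groth.Agent.Lib.Helper24.AlgStCalc2 Groth.Agent.Lib.Helper24.AlgStDescent
open Groth.Agent.Lib.Helper24.FibCatOverMap Groth.Agent.Lib.Helper24.AlgStAtlas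
open Groth.Agent.Lib.Helper24.FibCatGraph Groth.Agent.Lib.Helper24.AlgStDiagLft
open Groth.Agent.Lib.Helper24.FibCatFpSwap Groth.Agent.Lib.Helper24.AlgStProd
open Groth.Agent.Lib.Helper24.AlgSpSmLocal
open Groth.Agent.Lib.Helper24.AlgStPts7
open Groth.Agent.Lib.Helper24.AlgStQCMor Groth.Agent.Lib.Helper24.AlgStSepDiag
open Groth.Agent.Lib.Helper14.AS
open CategoryTheory.Limits AlgSt

variable {S : Scheme.{u}}

/-- an immersion into a locally Noetherian scheme is quasi-compact -/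
theorem quasiCompact_of_isImmersion {X Y : Scheme.{u}} (f : X ⟶ Y) [IsImmersion f]
    [IsLocallyNoetherian Y] : QuasiCompact f := by
  rw [← f.liftCoborder_ι]
  infer_instance

/-- a representable immersion into a locally Noetherian scheme is quasi-compact -/
theorem isQuasiCompactMor_of_repWith_isImmersion {F : AlgSp.Sp S} {V : Over S}
    [IsLocallyNoetherian V.left] (a : F ⟶ (AlgSp.yon S).obj V)
    (ha : AlgSp.RepWith @IsImmersion a) : AlgSp.IsQuasiCompactMor a := by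
  apply isQuasiCompactMor_of_repWith
  have sq := ha.rep.isPullback (𝟙 ((AlgSp.yon S).obj V))
  have hi : IsImmersion (ha.rep.snd (𝟙 ((AlgSp.yon S).obj V))).left := ha.property_snd _
  have hq : QuasiCompact (ha.rep.snd (𝟙 ((AlgSp.yon S).obj V))).left :=
    quasiCompact_of_isImmersion _
  have h1 : AlgSp.RepWith @QuasiCompact ((AlgSp.yon S).map (ha.rep.snd (𝟙 ((AlgSp.yon S).obj V)))) :=
    (AlgSp.repWith_yon_map_iff _ _).2 hq
  have hiso : IsIso (ha.rep.fst (𝟙 ((AlgSp.yon S).obj V))) := sq.isIso_fst_of_isIso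
  have e : a = inv (ha.rep.fst (𝟙 ((AlgSp.yon S).obj V))) ≫
      (AlgSp.yon S).map (ha.rep.snd (𝟙 ((AlgSp.yon S).obj V))) := by
    rw [IsIso.eq_inv_comp, sq.w, Category.comp_id]
  rw [e]
  exact (MorphismProperty.cancel_left_of_respectsIso (AlgSp.RepWith @QuasiCompact) _ _).2 h1

/-- a monomorphism of sheaves is quasi-separated -/
theorem isQuasiSeparatedMor_of_mono {F G : AlgSp.Sp S} (f : F ⟶ G) [Mono f] :
    AlgSp.IsQuasiSeparatedMor f := by
  have : IsIso (pullback.diagonal f) := (pullback.isIso_diagonal_iff f).2 inferInstance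
  exact repWith_of_isIso _ _

theorem isQuasiSeparatedMor_of_repWith_isImmersion {F G : AlgSp.Sp S} {f : F ⟶ G}
    (hf : AlgSp.RepWith @IsImmersion f) : AlgSp.IsQuasiSeparatedMor f := by
  have : Mono f := mono_of_repWith_mono (repWith_mono immersion_le_mono hf)
  exact isQuasiSeparatedMor_of_mono f

section
variable {𝒳 𝒴 : AlgSt.Cat S} (h𝒳 : AlgSt.IsAlgStack Scheme.fppfPrecoverage 𝒳)
  (h𝒴 : AlgSt.IsAlgStack Scheme.fppfPrecoverage 𝒴) (j : 𝒳 ⥤ᵇ 𝒴)

include h𝒳 h𝒴 in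
theorem locQ_lft_of_isImm (hj : AlgSt.IsImm j) :
    AlgSt.LocQ (AlgSp.LocP @LocallyOfFiniteType) j :=
  locQ_of_repByAlgSpWith h𝒳 h𝒴 j isSmoothLocalST_lft
    (repByAlgSpWith_mono (fun _ _ _ ha => locP_of_repWith etale_le_lft
      (repWith_mono isImmersion_le_lft ha)) j hj)

include h𝒳 h𝒴 in
/-- S13017, second half -/
theorem isQuasiCompactMor_of_isImm_noeth (hj : AlgSt.IsImm j)
    (hN : AlgSt.SmoothLocally (fun T ↦ IsLocallyNoetherian T) 𝒴) :
    AlgSt.IsQuasiCompactMor Scheme.fppfPrecoverage j := by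
  obtain ⟨V, y, hy, hy'⟩ := h𝒴.atlas
  have hV : IsLocallyNoetherian V.left := hN V y hy
  have hValg : AlgSt.IsAlgStack Scheme.fppfPrecoverage (FibCat.overCat V) :=
    isAlgStack_of_repByAlgSp (repByAlgSp_overCat V)
  have hfp : AlgSt.IsAlgStack Scheme.fppfPrecoverage (FibCat.fp y j) :=
    isAlgStack_fp h𝒴.isStack h𝒴.diag hValg h𝒳 y j
  refine isQuasiCompactMor_of_fppf_cover h𝒳 h𝒴 j hValg y
    (repByAlgSpWith_locP_mono Groth.Agent.Lib.Helper24.AlgStDiagLft.smooth_le_flat y hy)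
    (repByAlgSpWith_locP_mono Groth.Agent.Lib.Helper24.AlgStDiagLft.smooth_le_lfp y hy) hy' ?_
  apply isQuasiCompactMor_of_repByAlgSpWith hfp hValg
  obtain ⟨F, e, he, hp⟩ := hj V y
  have hpt : PT AlgSp.IsQuasiCompactMor (FibCat.fpFst y j) := by
    refine ⟨F, ⟨(AlgSp.yon S).obj V, AlgSp.IsAlgSpace.yon_obj V⟩, e, AlgSt.ofOverCat V, he,
      isEquivOver_ofOverCat V, ?_⟩
    rw [spMapOfOver_eq] at hp
    exact isQuasiCompactMor_of_repWith_isImmersion _ hp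
  exact PT.repByAlgSpWith good_isQuasiCompactMor.bc hpt

include h𝒳 h𝒴 in
/-- S13017 -/
theorem noeth_and_qc_of_isImm (hj : AlgSt.IsImm j)
    (hN : AlgSt.SmoothLocally (fun T ↦ IsLocallyNoetherian T) 𝒴) :
    AlgSt.SmoothLocally (fun T ↦ IsLocallyNoetherian T) 𝒳 ∧
      AlgSt.IsQuasiCompactMor Scheme.fppfPrecoverage j :=
  ⟨smoothLocally_noeth_of_locQ_lft h𝒳 h𝒴 j (locQ_lft_of_isImm h𝒳 h𝒴 j hj) hN,
    isQuasiCompactMor_of_isImm_noeth h𝒳 h𝒴 j hj hN⟩

include h𝒴 in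
/-- the source of a quasi-compact morphism to a quasi-compact stack is quasi-compact -/
theorem isQuasiCompact_of_isQuasiCompactMor
    (hq : AlgSt.IsQuasiCompactMor Scheme.fppfPrecoverage j) (h : AlgSt.IsQuasiCompact 𝒴) :
    AlgSt.IsQuasiCompact 𝒳 := by
  have h1 := hq 𝒴 h𝒴 h (BasedFunctor.id 𝒴)
  have hk : FibCat.IsEquivOver (BasedFunctor.comp (graphEquiv j) (swap j (BasedFunctor.id 𝒴))) :=
    isEquivOver_comp _ _ (isEquivOver_graphEquiv j) (isEquivOver_swap j (BasedFunctor.id 𝒴))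
  exact (isQuasiCompact_iff_of_isEquivOver _ hk).2 h1

include h𝒳 h𝒴 in
theorem isQuasiSeparatedMor_of_isImm (hj : AlgSt.IsImm j) : AlgSt.IsQuasiSeparatedMor j := by
  have hrep : AlgSt.RepByAlgSp1 j := (repByAlgSp1_iff_with_top _).2
    (repByAlgSpWith_mono (fun _ _ _ _ => trivial) _ hj)
  exact (isQuasiSeparatedMor_iff h𝒳 h𝒴 j hrep).2
    (repByAlgSpWith_mono (fun _ _ _ h => isQuasiSeparatedMor_of_repWith_isImmersion h) j hj)

include h𝒳 h𝒴 in
/-- S13018 -/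
theorem noetherian_of_isImm (hj : AlgSt.IsImm j) (hq : AlgSt.IsQuasiCompact 𝒴)
    (hs : AlgSt.IsQuasiSeparatedOver 𝒴)
    (hN : AlgSt.SmoothLocally (fun T ↦ IsLocallyNoetherian T) 𝒴) :
    AlgSt.IsQuasiCompact 𝒳 ∧ AlgSt.IsQuasiSeparatedOver 𝒳 ∧
      AlgSt.SmoothLocally (fun T ↦ IsLocallyNoetherian T) 𝒳 := by
  obtain ⟨h1, h2⟩ := noeth_and_qc_of_isImm h𝒳 h𝒴 j hj hN
  refine ⟨isQuasiCompact_of_isQuasiCompactMor h𝒴 j h2 hq, ?_, h1⟩
  have hc : AlgSt.IsQuasiSeparatedMor (BasedFunctor.comp j (FibCat.toSelf 𝒴)) :=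
    Groth.Agent.Lib.Helper24.AlgStDiagComp.repByAlgSpWith_diag_comp
      h𝒳.isStack.1 h𝒴.isStack.1 Groth.Agent.Lib.Helper24.FibCatInertia.isFibGrpd_selfOver _ good_qcqs.nice
      Groth.Agent.Lib.Helper24.AlgStProps.stableComp_qcqs j (FibCat.toSelf 𝒴)
      (isQuasiSeparatedMor_of_isImm h𝒳 h𝒴 j hj) hs
  have : (BasedFunctor.id (FibCat.selfOver (Over S))).toFunctor.Full := by
    change (𝟭 _ : _ ⥤ _).Full; infer_instance
  have : (BasedFunctor.id (FibCat.selfOver (Over S))).toFunctor.Faithful := by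
    change (𝟭 _ : _ ⥤ _).Faithful; infer_instance
  exact (repByAlgSpWith_diag_iff_of_isEquivOver _ (BasedFunctor.comp j (FibCat.toSelf 𝒴))
    (FibCat.toSelf 𝒳) (BasedFunctor.id 𝒳) (BasedFunctor.id _) (isEquivOver_id _)
    (Groth.Agent.Lib.Helper24.GerbFormal.compToSelfIso j).symm).1 hc

end

end Groth.Agent.Lib.Helper24.AlgStImmNoeth
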