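import Groth.Agent.Lib.Helper24.FibCatTwoCart
set_option autoImplicit false
set_option linter.unusedSectionVars false
open CategoryTheory CategoryTheory.Limits
universe u v u₂ v₂ u₃ v₃ u₄ v₄ u₅ v₅

namespace Groth.Agent.Lib.Helper24.FibCatDiagBC
open Groth.Agent.Lib.Helper24.FibCatFpGen Groth.Agent.Lib.Helper24.FibCatEquiv
open Groth.Agent.Lib.Helper24.FibCatDiag (mkIso)
open Groth.Agent.Lib.Helper24.FibCatFpMap Groth.Agent.Lib.Helper24.FibCatTwoCart

variable {C : Type u} [Category.{v} C]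

section Iso
variable {𝒳 : BasedCategory.{v₂, u₂} C} {𝒴 : BasedCategory.{v₃, u₃} C}
  {𝒮 : BasedCategory.{v₄, u₄} C} {F : 𝒳 ⥤ᵇ 𝒮} {G : 𝒴 ⥤ᵇ 𝒮}

/-- first component of an isomorphism of the fibre product -/
def fstIso {x y : (FibCat.fp F G).obj} (i : x ≅ y) : x.obj.fst ≅ y.obj.fst where
  hom := i.hom.hom.fst
  inv := i.inv.hom.fst
  hom_inv_id := congrArg (fun t => t.hom.fst) i.hom_inv_id
  inv_hom_id := congrArg (fun t => t.hom.fst) i.inv_hom_id

/-- second component of an isomorphism of the fibre product -/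
def sndIso {x y : (FibCat.fp F G).obj} (i : x ≅ y) : x.obj.snd ≅ y.obj.snd where
  hom := i.hom.hom.snd
  inv := i.inv.hom.snd
  hom_inv_id := congrArg (fun t => t.hom.snd) i.hom_inv_id
  inv_hom_id := congrArg (fun t => t.hom.snd) i.inv_hom_id

lemma fstIso_hom {x y : (FibCat.fp F G).obj} (i : x ≅ y) : (fstIso i).hom = i.hom.hom.fst := rfl
lemma sndIso_hom {x y : (FibCat.fp F G).obj} (i : x ≅ y) : (sndIso i).hom = i.hom.hom.snd := rfl

lemma iso_w {x y : (FibCat.fp F G).obj} (i : x ≅ y) :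
    F.toFunctor.map (fstIso i).hom ≫ y.obj.iso.hom = x.obj.iso.hom ≫ G.toFunctor.map (sndIso i).hom :=
  hom_w i.hom

lemma mkIso_hom_fst {x y : (FibCat.fp F G).obj} (a : x.obj.fst ≅ y.obj.fst)
    (b : x.obj.snd ≅ y.obj.snd) (w) : (mkIso (x := x) (y := y) a b w).hom.hom.fst = a.hom := rfl
lemma mkIso_hom_snd {x y : (FibCat.fp F G).obj} (a : x.obj.fst ≅ y.obj.fst)
    (b : x.obj.snd ≅ y.obj.snd) (w) : (mkIso (x := x) (y := y) a b w).hom.hom.snd = b.hom := rfl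

end Iso

lemma aux_iso {D : Type*} [Category D] {X Y Z : D} (a : X ≅ Y) (b : Z ≅ Y) :
    (a ≪≫ b.symm).hom ≫ b.hom = 𝟙 X ≫ a.hom := by simp

variable {𝒳 : BasedCategory.{v₂, u₂} C} {𝒴 : BasedCategory.{v₃, u₃} C}
  {𝒵 : BasedCategory.{v₄, u₄} C} (f : 𝒳 ⥤ᵇ 𝒴) (z : 𝒵 ⥤ᵇ 𝒴)

lemma fpSnd_map {w w' : (FibCat.fp z f).obj} (m : w ⟶ w') :
    (FibCat.fpSnd z f).toFunctor.map m = m.hom.snd := rfl
lemma fpFst_map {w w' : (FibCat.fp z f).obj} (m : w ⟶ w') :
    (FibCat.fpFst z f).toFunctor.map m = m.hom.fst := rfl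
lemma fpSnd_obj (w : (FibCat.fp z f).obj) :
    (FibCat.fpSnd z f).toFunctor.obj w = w.obj.snd := rfl
lemma fpFst_obj (w : (FibCat.fp z f).obj) :
    (FibCat.fpFst z f).toFunctor.obj w = w.obj.fst := rfl

/-- `p × p : 𝒳' ×_𝒵 𝒳' ⟶ 𝒳 ×_𝒴 𝒳` for `𝒳' = 𝒵 ×_𝒴 𝒳` -/
def k : FibCat.fp (FibCat.fpFst z f) (FibCat.fpFst z f) ⥤ᵇ FibCat.fp f f :=
  fpMap (FibCat.fpSnd z f) (FibCat.fpSnd z f) z (FibCat.fpIso z f) (FibCat.fpIso z f)

lemma k_obj_iso_hom (η : (FibCat.fp (FibCat.fpFst z f) (FibCat.fpFst z f)).obj) :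
    ((k f z).toFunctor.obj η).obj.iso.hom =
      η.obj.fst.obj.iso.inv ≫ z.toFunctor.map η.obj.iso.hom ≫ η.obj.snd.obj.iso.hom := rfl

lemma k_map_fst {η η' : (FibCat.fp (FibCat.fpFst z f) (FibCat.fpFst z f)).obj} (u : η ⟶ η') :
    ((k f z).toFunctor.map u).hom.fst = u.hom.fst.hom.snd := rfl
lemma k_map_snd {η η' : (FibCat.fp (FibCat.fpFst z f) (FibCat.fpFst z f)).obj} (u : η ⟶ η') :
    ((k f z).toFunctor.map u).hom.snd = u.hom.snd.hom.snd := rfl

/-- the component of the 2-isomorphism filling the square -/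
def eApp (w : (FibCat.fp z f).obj) :
    (k f z).toFunctor.obj ((FibCat.diag (FibCat.fpFst z f)).toFunctor.obj w) ≅
      (FibCat.diag f).toFunctor.obj ((FibCat.fpSnd z f).toFunctor.obj w) :=
  mkIso (Iso.refl _) (Iso.refl _) (by
    rw [k_obj_iso_hom]
    change f.toFunctor.map (𝟙 _) ≫ 𝟙 _ = (w.obj.iso.inv ≫ z.toFunctor.map (𝟙 _) ≫ w.obj.iso.hom) ≫
      f.toFunctor.map (𝟙 _)
    simp)

lemma eApp_hom_fst (w : (FibCat.fp z f).obj) : (eApp f z w).hom.hom.fst = 𝟙 w.obj.snd := rfl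
lemma eApp_hom_snd (w : (FibCat.fp z f).obj) : (eApp f z w).hom.hom.snd = 𝟙 w.obj.snd := rfl

/-- the 2-isomorphism filling the square -/
def e : BasedFunctor.comp (FibCat.diag (FibCat.fpFst z f)) (k f z) ≅
    BasedFunctor.comp (FibCat.fpSnd z f) (FibCat.diag f) :=
  BasedNatIso.mkNatIso (NatIso.ofComponents (eApp f z) (by
    intro w w' m
    apply hom_ext'
    · change (FibCat.fpSnd z f).toFunctor.map m ≫ 𝟙 _ = 𝟙 _ ≫ (FibCat.fpSnd z f).toFunctor.map m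
      simp
    · change (FibCat.fpSnd z f).toFunctor.map m ≫ 𝟙 _ = 𝟙 _ ≫ (FibCat.fpSnd z f).toFunctor.map m
      simp)) (by
    intro w
    rw [isHomLift_iff_fst]
    change 𝒳.p.IsHomLift (𝟙 _) (𝟙 ((FibCat.fpSnd z f).toFunctor.obj w))
    rw [← (FibCat.fpSnd z f).w_obj w]
    infer_instance)

lemma e_hom_app (w : (FibCat.fp z f).obj) :
    (e f z).hom.toNatTrans.app w = (eApp f z w).hom := rfl

/-- the diagonal of the base change is the base change of the diagonal -/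
theorem isEquivOver_diag_baseChange :
    FibCat.IsEquivOver (FibCat.fpLift (FibCat.diag (FibCat.fpFst z f)) (FibCat.fpSnd z f) (e f z)) := by
  apply isEquivOver_fpLift_of
  · intro w w' m m' h _
    exact congrArg (fun t => t.hom.fst) h
  · intro w w' u v huv
    obtain ⟨u₁, hu₁⟩ : ∃ u₁ : w ⟶ w', u₁ = u.hom.fst := ⟨_, rfl⟩
    obtain ⟨u₂, hu₂⟩ : ∃ u₂ : w ⟶ w', u₂ = u.hom.snd := ⟨_, rfl⟩
    have h1 : u₁.hom.snd = v := by
      have := congrArg (fun t => t.hom.fst) huv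
      subst hu₁
      change u.hom.fst.hom.snd ≫ 𝟙 _ = 𝟙 _ ≫ v at this
      rw [Category.comp_id, Category.id_comp] at this
      exact this
    have h2 : u₂.hom.snd = v := by
      have := congrArg (fun t => t.hom.snd) huv
      subst hu₂
      change u.hom.snd.hom.snd ≫ 𝟙 _ = 𝟙 _ ≫ v at this
      rw [Category.comp_id, Category.id_comp] at this
      exact this
    have h3 : u₁.hom.fst = u₂.hom.fst := by
      have := hom_w u
      subst hu₁ hu₂
      change u.hom.fst.hom.fst ≫ 𝟙 _ = 𝟙 _ ≫ u.hom.snd.hom.fst at this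
      rw [Category.comp_id, Category.id_comp] at this
      exact this
    have h12 : u₁ = u₂ := hom_ext' h3 (h1.trans h2.symm)
    refine ⟨u₁, ?_, h1⟩
    apply hom_ext'
    · exact hu₁
    · rw [← hu₂, ← h12]; rfl
  · intro η
    obtain ⟨ι, hι⟩ : ∃ ι : (k f z).toFunctor.obj η.obj.fst ≅ (FibCat.diag f).toFunctor.obj η.obj.snd,
      ι = η.obj.iso := ⟨_, rfl⟩
    obtain ⟨γ, hγ⟩ : ∃ γ : η.obj.fst.obj.fst.obj.fst ≅ η.obj.fst.obj.snd.obj.fst,
      γ = η.obj.fst.obj.iso := ⟨_, rfl⟩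
    obtain ⟨a, ha⟩ : ∃ a : η.obj.fst.obj.fst.obj.snd ≅ η.obj.snd, a = fstIso ι := ⟨_, rfl⟩
    obtain ⟨b, hb⟩ : ∃ b : η.obj.fst.obj.snd.obj.snd ≅ η.obj.snd, b = sndIso ι := ⟨_, rfl⟩
    have hw : f.toFunctor.map a.hom = η.obj.fst.obj.fst.obj.iso.inv ≫ z.toFunctor.map γ.hom ≫
        η.obj.fst.obj.snd.obj.iso.hom ≫ f.toFunctor.map b.hom := by
      have := iso_w ι
      rw [k_obj_iso_hom] at this
      change f.toFunctor.map (fstIso ι).hom ≫ 𝟙 _ = _ at this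
      rw [Category.comp_id] at this
      subst ha hb hγ
      refine this.trans ?_
      exact (Category.assoc _ _ _).trans (congrArg (_ ≫ ·) (Category.assoc _ _ _))
    have hμ : z.toFunctor.map γ.hom ≫ η.obj.fst.obj.snd.obj.iso.hom =
        η.obj.fst.obj.fst.obj.iso.hom ≫ f.toFunctor.map (a ≪≫ b.symm).hom := by
      rw [Iso.trans_hom, Iso.symm_hom, f.toFunctor.map_comp, hw]
      simp only [Category.assoc, Iso.hom_inv_id_assoc]
      rw [← f.toFunctor.map_comp, Iso.hom_inv_id, f.toFunctor.map_id, Category.comp_id]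
    obtain ⟨μ, hμ'⟩ : ∃ μ : η.obj.fst.obj.fst ≅ η.obj.fst.obj.snd,
      μ = mkIso γ (a ≪≫ b.symm) hμ := ⟨_, rfl⟩
    have hα : (FibCat.fpFst z f).toFunctor.map (Iso.refl η.obj.fst.obj.fst).hom ≫
        η.obj.fst.obj.iso.hom =
        ((FibCat.diag (FibCat.fpFst z f)).toFunctor.obj η.obj.fst.obj.fst).obj.iso.hom ≫
          (FibCat.fpFst z f).toFunctor.map μ.hom := by
      subst hγ hμ'
      change (FibCat.fpFst z f).toFunctor.map (𝟙 _) ≫ η.obj.fst.obj.iso.hom =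
        𝟙 _ ≫ η.obj.fst.obj.iso.hom
      rw [(FibCat.fpFst z f).toFunctor.map_id]
    refine ⟨η.obj.fst.obj.fst, mkIso (x := (FibCat.diag (FibCat.fpFst z f)).toFunctor.obj
      η.obj.fst.obj.fst) (y := η.obj.fst) (Iso.refl _) μ hα, a, ?_, ?_⟩
    · rw [isHomLift_iff_fst]
      exact IsHomLift.id rfl
    · apply hom_ext'
      · subst hι
        change (𝟙 _ : η.obj.fst.obj.fst.obj.snd ⟶ _) ≫ (fstIso η.obj.iso).hom = 𝟙 _ ≫ a.hom
        rw [ha]
        rfl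
      · subst hι
        change μ.hom.hom.snd ≫ (sndIso η.obj.iso).hom = 𝟙 _ ≫ a.hom
        rw [hμ', mkIso_hom_snd, ← hb]
        exact aux_iso a b

end Groth.Agent.Lib.Helper24.FibCatDiagBC
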