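import Groth.Agent.Lib.Helper24.FibCatInertia
import Groth.Agent.Lib.Helper24.FibCatTwoCart
import Groth.Agent.Lib.Helper24.FibCatDiag
import Groth.Agent.Lib.Helper24.FibCatDiagBC
set_option autoImplicit false
set_option linter.unusedSectionVars false
open CategoryTheory
universe u v u₂ v₂ u₃ v₃
set_option backward.isDefEq.respectTransparency false
set_option backward.isDefEq.respectTransparency.types false

/-! The relative inertia is the 2-fibre product of the diagonal with itself. -/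

namespace Groth.Agent.Lib.Helper24.FibCatInertiaFp
open Groth.Agent.Lib.Helper24.FibCatFpGen Groth.Agent.Lib.Helper24.FibCatEquiv
open Groth.Agent.Lib.Helper24.FibCatDiag Groth.Agent.Lib.Helper24.FibCatTwoCart
open Groth.Agent.Lib.Helper24.FibCatInertia

variable {C : Type u} [Category.{v} C]
variable {𝒳 : BasedCategory.{v₂, u₂} C} {𝒴 : BasedCategory.{v₃, u₃} C} (f : 𝒳 ⥤ᵇ 𝒴)

/-- the automorphism `(α, 𝟙)` of `Δ x` -/
def autIso (x : FibCat.InertiaObj f) :
    (FibCat.diag f).toFunctor.obj x.pt ≅ (FibCat.diag f).toFunctor.obj x.pt :=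
  mkIso (F := f) (G := f) (x := (FibCat.diag f).toFunctor.obj x.pt)
    (y := (FibCat.diag f).toFunctor.obj x.pt) x.aut (Iso.refl _) (by
      change f.toFunctor.map x.aut.hom ≫ 𝟙 _ = 𝟙 _ ≫ f.toFunctor.map (𝟙 _)
      have := x.map_aut
      change f.toFunctor.map x.aut.hom = 𝟙 _ at this
      rw [this, f.toFunctor.map_id])

lemma autIso_hom_fst (x : FibCat.InertiaObj f) : (autIso f x).hom.hom.fst = x.aut.hom := rfl
lemma autIso_hom_snd (x : FibCat.InertiaObj f) : (autIso f x).hom.hom.snd = 𝟙 x.pt := rfl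

/-- the 2-isomorphism `(α, 𝟙)` -/
def autNatIso : BasedFunctor.comp (FibCat.inertiaToBase f) (FibCat.diag f) ≅
    BasedFunctor.comp (FibCat.inertiaToBase f) (FibCat.diag f) :=
  BasedNatIso.mkNatIso (NatIso.ofComponents (fun x => autIso f x) (by
    intro x y m
    apply hom_ext'
    · change m.hom ≫ y.aut.hom = x.aut.hom ≫ m.hom
      exact m.comm.symm
    · change m.hom ≫ 𝟙 _ = 𝟙 _ ≫ m.hom
      simp)) (by
    intro x
    rw [isHomLift_iff_fst]
    exact aut_isHomLift f x)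

/-- the comparison functor `I_{𝒳/𝒴} ⟶ 𝒳 ×_{𝒳 ×_𝒴 𝒳} 𝒳` -/
def E : FibCat.inertia f ⥤ᵇ FibCat.fp (FibCat.diag f) (FibCat.diag f) :=
  FibCat.fpLift (FibCat.inertiaToBase f) (FibCat.inertiaToBase f) (autNatIso f)

lemma E_fst : BasedFunctor.comp (E f) (FibCat.fpFst _ _) = FibCat.inertiaToBase f := rfl

open Groth.Agent.Lib.Helper24.FibCatDiagBC (fstIso sndIso iso_w fstIso_hom sndIso_hom)

/-- first component of an isomorphism between diagonal objects -/
def θ₁ {x x' : 𝒳.obj} (θ : (FibCat.diag f).toFunctor.obj x ≅ (FibCat.diag f).toFunctor.obj x') :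
    x ≅ x' :=
  fstIso (F := f) (G := f) (x := (FibCat.diag f).toFunctor.obj x)
    (y := (FibCat.diag f).toFunctor.obj x') θ

/-- second component of an isomorphism between diagonal objects -/
def θ₂ {x x' : 𝒳.obj} (θ : (FibCat.diag f).toFunctor.obj x ≅ (FibCat.diag f).toFunctor.obj x') :
    x ≅ x' :=
  sndIso (F := f) (G := f) (x := (FibCat.diag f).toFunctor.obj x)
    (y := (FibCat.diag f).toFunctor.obj x') θ

lemma θ₁_hom {x x' : 𝒳.obj}
    (θ : (FibCat.diag f).toFunctor.obj x ≅ (FibCat.diag f).toFunctor.obj x') :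
    (θ₁ f θ).hom = θ.hom.hom.fst := rfl
lemma θ₂_hom {x x' : 𝒳.obj}
    (θ : (FibCat.diag f).toFunctor.obj x ≅ (FibCat.diag f).toFunctor.obj x') :
    (θ₂ f θ).hom = θ.hom.hom.snd := rfl

lemma map_fst_eq_map_snd {x x' : 𝒳.obj}
    (θ : (FibCat.diag f).toFunctor.obj x ≅ (FibCat.diag f).toFunctor.obj x') :
    f.toFunctor.map (θ₁ f θ).hom = f.toFunctor.map (θ₂ f θ).hom := by
  have h : f.toFunctor.map (θ₁ f θ).hom ≫ 𝟙 (f.toFunctor.obj x') =
      𝟙 (f.toFunctor.obj x) ≫ f.toFunctor.map (θ₂ f θ).hom :=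
    iso_w (F := f) (G := f) (x := (FibCat.diag f).toFunctor.obj x)
      (y := (FibCat.diag f).toFunctor.obj x') θ
  rw [Category.comp_id, Category.id_comp] at h
  exact h

/-- the inertia object attached to an object of the iterated fibre product -/
def preObj (η : (FibCat.fp (FibCat.diag f) (FibCat.diag f)).obj) : FibCat.InertiaObj f where
  pt := η.obj.fst
  aut := θ₁ f η.obj.iso ≪≫ (θ₂ f η.obj.iso).symm
  map_aut := by
    change f.toFunctor.map ((θ₁ f η.obj.iso).hom ≫ (θ₂ f η.obj.iso).inv) = 𝟙 _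
    rw [f.toFunctor.map_comp, map_fst_eq_map_snd, ← f.toFunctor.map_comp, Iso.hom_inv_id,
      f.toFunctor.map_id]

theorem isEquivOver_E : FibCat.IsEquivOver (E f) := by
  apply isEquivOver_fpLift_of
  · intro w w' m m' h _
    exact FibCat.InertiaObj.hom_ext h
  · intro w w' u v huv
    have h1 := congrArg (fun t => t.hom.fst) huv
    have h2 := congrArg (fun t => t.hom.snd) huv
    change u ≫ w'.aut.hom = w.aut.hom ≫ v at h1
    change u ≫ 𝟙 _ = 𝟙 _ ≫ v at h2
    rw [Category.comp_id, Category.id_comp] at h2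
    subst h2
    exact ⟨⟨u, h1.symm⟩, rfl, rfl⟩
  · intro η
    refine ⟨preObj f η, Iso.refl _, θ₂ f η.obj.iso, IsHomLift.id rfl, ?_⟩
    apply hom_ext'
    · change 𝟙 _ ≫ (θ₁ f η.obj.iso).hom =
        ((θ₁ f η.obj.iso).hom ≫ (θ₂ f η.obj.iso).inv) ≫ (θ₂ f η.obj.iso).hom
      simp
    · change 𝟙 _ ≫ (θ₂ f η.obj.iso).hom = 𝟙 _ ≫ (θ₂ f η.obj.iso).hom
      rfl

/-- the neutral section is the second diagonal -/
def neutralIso : BasedFunctor.comp (FibCat.inertiaNeutral f) (E f) ≅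
    FibCat.diag (FibCat.diag f) :=
  BasedNatIso.mkNatIso (NatIso.ofComponents (fun x =>
    mkIso (F := FibCat.diag f) (G := FibCat.diag f)
      (x := (BasedFunctor.comp (FibCat.inertiaNeutral f) (E f)).toFunctor.obj x)
      (y := (FibCat.diag (FibCat.diag f)).toFunctor.obj x) (Iso.refl _) (Iso.refl _) (by
        apply hom_ext'
        · change 𝟙 x ≫ 𝟙 x = 𝟙 x ≫ 𝟙 x
          rfl
        · change 𝟙 x ≫ 𝟙 x = 𝟙 x ≫ 𝟙 x
          rfl)) (by
    intro x y m
    apply hom_ext'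
    · change m ≫ 𝟙 _ = 𝟙 _ ≫ m
      simp
    · change m ≫ 𝟙 _ = 𝟙 _ ≫ m
      simp)) (by
    intro x
    rw [isHomLift_iff_fst]
    change 𝒳.p.IsHomLift (𝟙 _) (𝟙 x)
    exact IsHomLift.id rfl)

end Groth.Agent.Lib.Helper24.FibCatInertiaFp
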