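import Groth.Agent.Lib.Helper24.AlgStSep2
import Groth.Agent.Lib.Helper24.FibCatInertiaFp
set_option autoImplicit false
set_option linter.unusedSectionVars false
open CategoryTheory CategoryTheory.Limits AlgebraicGeometry Opposite
universe u
set_option backward.isDefEq.respectTransparency false
set_option backward.isDefEq.respectTransparency.types false

namespace Groth.Agent.Lib.Helper24.AlgStInertia
open AlgSp Groth.Agent.Lib.Helper14.AS
open Groth.Agent.Lib.Helper24.AlgStSchLocal Groth.Agent.Lib.Helper24.AlgStRepS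
open Groth.Agent.Lib.Helper24.AlgStProps Groth.Agent.Lib.Helper24.AlgStGC
open Groth.Agent.Lib.Helper24.AlgStSepDiag Groth.Agent.Lib.Helper24.AlgStSep2
open Groth.Agent.Lib.Helper24.AlgStRep Groth.Agent.Lib.Helper24.AlgStSmLoc
open Groth.Agent.Lib.Helper24.FibCatInertiaFp Groth.Agent.Lib.Helper24.AlgStBoot

variable {S : Scheme.{u}} {𝒳 𝒴 : AlgSt.Cat S}

/-- properties of the structure functor of the inertia are those of a base change of the
diagonal -/
theorem repByAlgSpWith_inertiaToBase_iff (Q : MorphismProperty (Sp S)) (f : 𝒳 ⥤ᵇ 𝒴) :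
    AlgSt.RepByAlgSpWith Q (FibCat.inertiaToBase f) ↔
      AlgSt.RepByAlgSpWith Q (FibCat.fpFst (FibCat.diag f) (FibCat.diag f)) := by
  rw [← E_fst f]
  exact repByAlgSpWith_equiv_comp Q (E f) _ (isEquivOver_E f)

theorem repByAlgSpWith_inertiaToBase (Q : MorphismProperty (Sp S)) (f : 𝒳 ⥤ᵇ 𝒴)
    (h : AlgSt.RepByAlgSpWith Q (FibCat.diag f)) :
    AlgSt.RepByAlgSpWith Q (FibCat.inertiaToBase f) :=
  (repByAlgSpWith_inertiaToBase_iff Q f).2 (repByAlgSpWith_fpFst Q _ _ h)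

/-- properties of the neutral section are those of the second diagonal -/
theorem repByAlgSpWith_inertiaNeutral_iff (Q : MorphismProperty (Sp S)) (f : 𝒳 ⥤ᵇ 𝒴) :
    AlgSt.RepByAlgSpWith Q (FibCat.inertiaNeutral f) ↔
      AlgSt.RepByAlgSpWith Q (FibCat.diag (FibCat.diag f)) := by
  have h1 := repByAlgSpWith_iff_of_isEquivOver Q
    (BasedFunctor.comp (FibCat.inertiaNeutral f) (E f)) (FibCat.inertiaNeutral f)
    (BasedFunctor.id _) (E f) (isEquivOver_id _) (isEquivOver_E f) (Iso.refl _)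
  rw [← h1]
  exact ⟨repByAlgSpWith_of_iso Q (neutralIso f), repByAlgSpWith_of_iso Q (neutralIso f).symm⟩

theorem repByAlgSp1_inertiaToBase (h𝒳 : AlgSt.IsAlgStack Scheme.fppfPrecoverage 𝒳)
    (h𝒴 : AlgSt.IsAlgStack Scheme.fppfPrecoverage 𝒴) (f : 𝒳 ⥤ᵇ 𝒴) :
    AlgSt.RepByAlgSp1 (FibCat.inertiaToBase f) := by
  rw [repByAlgSp1_iff_with_top]
  exact repByAlgSpWith_inertiaToBase ⊤ f
    ((repByAlgSp1_iff_with_top _).1 (repByAlgSp1_diag h𝒳 h𝒴 f))

/-- a section of the structure functor of the inertia -/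
theorem repByAlgSpWith_inertiaNeutral_of_diag (h𝒳 : AlgSt.IsAlgStack Scheme.fppfPrecoverage 𝒳)
    (h𝒴 : AlgSt.IsAlgStack Scheme.fppfPrecoverage 𝒴) (f : 𝒳 ⥤ᵇ 𝒴)
    (P : MorphismProperty (Sp S)) (hP : Nice P) (hPc : StableComp P) (hid : HasIsos P)
    (hΔ : AlgSt.RepByAlgSpWith P (FibCat.diag (FibCat.inertiaToBase f))) :
    AlgSt.RepByAlgSpWith P (FibCat.inertiaNeutral f) :=
  repByAlgSpWith_section (𝒳 := FibCat.inertia f) (𝒯 := 𝒳)
    (Groth.Agent.Lib.Helper24.FibCatInertia.isFibGrpd_inertia f h𝒳.isStack.1 h𝒴.isStack.1)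
    h𝒳.isStack.1 P hP hPc hid (FibCat.inertiaToBase f) (FibCat.inertiaNeutral f) (Iso.refl _) hΔ

/-- S12972 -/
theorem separated_inertia_tfae (h𝒳 : AlgSt.IsAlgStack Scheme.fppfPrecoverage 𝒳)
    (h𝒴 : AlgSt.IsAlgStack Scheme.fppfPrecoverage 𝒴) (f : 𝒳 ⥤ᵇ 𝒴) :
    [AlgSt.RepByAlgSpWith AlgSp.IsSeparatedMor (FibCat.inertiaToBase f),
      AlgSt.RepByAlgSpWith AlgSp.IsSeparatedMor (FibCat.diag f),
      AlgSt.IsClosedImm (FibCat.inertiaNeutral f)].TFAE := by
  have hΔ := repByAlgSp1_diag h𝒳 h𝒴 f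
  tfae_have 2 → 1 := fun h => repByAlgSpWith_inertiaToBase _ f h
  tfae_have 1 → 3 := fun h => by
    have h1 : AlgSt.RepByAlgSpWith (RepWith @IsClosedImmersion)
        (FibCat.diag (FibCat.inertiaToBase f)) :=
      (repByAlgSpWith_diag_iff_diagonal (RepWith @IsClosedImmersion) (nice_repWith _) _
        (repByAlgSp1_inertiaToBase h𝒳 h𝒴 f)).2 h
    exact repByAlgSpWith_inertiaNeutral_of_diag h𝒳 h𝒴 f _ (nice_repWith _)
      (stableComp_repWith _) (hasIsos_repWith _) h1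
  tfae_have 3 → 2 := fun h => by
    have h1 : AlgSt.IsClosedImm (FibCat.diag (FibCat.diag f)) :=
      (repByAlgSpWith_inertiaNeutral_iff _ f).1 h
    exact ((separated_tfae (FibCat.diag f) hΔ).out 1 0).1 h1
  tfae_finish

/-- S12973 -/
theorem quasiSeparated_inertia_tfae (h𝒳 : AlgSt.IsAlgStack Scheme.fppfPrecoverage 𝒳)
    (h𝒴 : AlgSt.IsAlgStack Scheme.fppfPrecoverage 𝒴) (f : 𝒳 ⥤ᵇ 𝒴) :
    [AlgSt.RepByAlgSpWith AlgSp.IsQuasiSeparatedMor (FibCat.inertiaToBase f),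
      AlgSt.RepByAlgSpWith AlgSp.IsQuasiSeparatedMor (FibCat.diag f),
      AlgSt.RepByAlgSpWith AlgSp.IsQuasiCompactMor (FibCat.inertiaNeutral f)].TFAE := by
  have hΔ := repByAlgSp1_diag h𝒳 h𝒴 f
  tfae_have 2 → 1 := fun h => repByAlgSpWith_inertiaToBase _ f h
  tfae_have 1 → 3 := fun h => by
    have h1 : AlgSt.RepByAlgSpWith IsQuasiCompactMor (FibCat.diag (FibCat.inertiaToBase f)) :=
      (quasiSeparated_iff_diag_qc _ (repByAlgSp1_inertiaToBase h𝒳 h𝒴 f)).1 h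
    exact repByAlgSpWith_inertiaNeutral_of_diag h𝒳 h𝒴 f _ good_isQuasiCompactMor.nice
      stableComp_isQuasiCompactMor hasIsos_isQuasiCompactMor h1
  tfae_have 3 → 2 := fun h => by
    have h1 := (repByAlgSpWith_inertiaNeutral_iff _ f).1 h
    exact (quasiSeparated_iff_diag_qc (FibCat.diag f) hΔ).2 h1
  tfae_finish

end Groth.Agent.Lib.Helper24.AlgStInertia
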