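import Groth.Agent.Lib.Helper24.NoethQCSp3
import Groth.Agent.Lib.Helper14.AlgSpGeomPts
set_option autoImplicit false
universe u
open CategoryTheory CategoryTheory.Limits AlgebraicGeometry Opposite Topology TopologicalSpace

namespace Groth.Agent.Lib.Helper24.NoethQCSp4
open Groth.Agent.Lib.Helper14.AS
open AlgSp

variable {S : Scheme.{u}}

/-- a point of a scheme over the target lying (as a point of the target) in the image of `g` is hit
by a field-valued point of the scheme which lifts to the source of `g` -/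
theorem exists_fieldPt_of_mem_range {F : Sp S} {V T : Over S} (g : F ⟶ (yon S).obj V) (c : T ⟶ V)
    (t : ↥T.left) (ht : Points.schemeHomeo V (c.left t) ∈ Set.range (Points.map g)) :
    ∃ (L : Type u) (_ : Field L) (gL : Spec (CommRingCat.of L) ⟶ T.left)
      (ρ : (yon S).obj (Over.mk (gL ≫ T.hom)) ⟶ F),
      Set.range gL = {t} ∧
        ρ ≫ g = (yon S).map ((Over.homMk gL rfl : Over.mk (gL ≫ T.hom) ⟶ T) ≫ c) := by
  obtain ⟨r, hr⟩ := ht
  have sq := IsPullback.of_hasPullback g ((yon S).map c)
  obtain ⟨w, -, hw⟩ := points_exists_of_isPullback sq r (Points.schemeHomeo T t)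
    (by rw [hr, Points.map_yon_map_apply])
  obtain ⟨L, _, str, a, ha⟩ := exists_fpt_eq w
  obtain ⟨gLo, hgLo⟩ : ∃ gLo : Over.mk str ⟶ T,
      (yon S).map gLo = a ≫ pullback.snd g ((yon S).map c) :=
    ⟨(yon S).preimage _, (yon S).map_preimage _⟩
  have hstr : gLo.left ≫ T.hom = str := Over.w gLo
  have hpt : gLo.left (IsLocalRing.closedPoint L) = t := by
    have h1 : Points.map (pullback.snd g ((yon S).map c)) w =
        Points.ofScheme T (gLo.left (IsLocalRing.closedPoint L)) := by
      rw [← ha, map_fpt, ← hgLo, ← Category.comp_id ((yon S).map gLo), fpt_yon_map_comp]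
    rw [hw] at h1
    exact ((Points.schemeEquiv T).injective h1).symm
  let isoinv : Over.mk (gLo.left ≫ T.hom) ⟶ Over.mk str := Over.homMk (𝟙 _) (by
    change 𝟙 _ ≫ str = gLo.left ≫ T.hom
    rw [Category.id_comp, hstr])
  have hiso : isoinv ≫ gLo = (Over.homMk gLo.left rfl : Over.mk (gLo.left ≫ T.hom) ⟶ T) :=
    Over.OverMorphism.ext (Category.id_comp _)
  refine ⟨L, inferInstance, gLo.left,
    (yon S).map isoinv ≫ a ≫ pullback.fst g ((yon S).map c), ?_, ?_⟩
  · ext x
    simp only [Set.mem_range, Set.mem_singleton_iff]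
    constructor
    · rintro ⟨s, rfl⟩
      rw [← hpt]
      congr 1
      exact Subsingleton.elim _ _
    · rintro rfl
      exact ⟨IsLocalRing.closedPoint L, hpt⟩
  · rw [Category.assoc, Category.assoc, sq.w, ← Category.assoc a, ← hgLo, ← Functor.map_comp,
      ← Functor.map_comp, ← Category.assoc, hiso]

end Groth.Agent.Lib.Helper24.NoethQCSp4
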