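import Groth.Agent.Lib.Helper24.AlgStSecBridge
import Groth.Agent.Lib.Helper24.AlgStImmNoeth
import Groth.Agent.Lib.Helper24.NoethQCSp4
set_option autoImplicit false
open CategoryTheory AlgebraicGeometry Opposite
universe u
set_option backward.isDefEq.respectTransparency false
set_option backward.isDefEq.respectTransparency.types false

/-! Quasi-compactness of the diagonal from quasi-compact automorphism sheaves and generic
isomorphisms (Noetherian induction). -/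

namespace Groth.Agent.Lib.Helper24.AlgStIsomQC
open Groth.Agent.Lib.Helper24.FibCatFpMap
open Groth.Agent.Lib.Helper24.FibCatEquiv Groth.Agent.Lib.Helper24.FibCatFpGen
open Groth.Agent.Lib.Helper24.AlgStRep
open Groth.Agent.Lib.Helper24.AlgStBridge Groth.Agent.Lib.Helper24.AlgStBoot
open Groth.Agent.Lib.Helper24.AlgStRepS Groth.Agent.Lib.Helper24.PshBridge
open Groth.Agent.Lib.Helper24.AlgStTrivStab Groth.Agent.Lib.Helper24.AlgStSecBridge
open Groth.Agent.Lib.Helper24.AlgStEqv Groth.Agent.Lib.Helper24.AlgStLocQ1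
open Groth.Agent.Lib.Helper24.FibCatFpLiftIso
open CategoryTheory.Limits AlgSt

variable {S : Scheme.{u}}

/-- two 2-isomorphisms between functors to the base category over itself are equal -/
theorem iso_toSelf_ext {𝒲 : AlgSt.Cat S} {a b : 𝒲 ⥤ᵇ FibCat.selfOver (Over S)} (e₁ e₂ : a ≅ b) :
    e₁ = e₂ := by
  apply Iso.ext
  apply BasedNatTrans.homCategory.ext
  ext w
  have h1 : (FibCat.selfOver (Over S)).p.IsHomLift (𝟙 (𝒲.p.obj w)) (e₁.hom.toNatTrans.app w) :=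
    e₁.hom.isHomLift' w
  have h2 : (FibCat.selfOver (Over S)).p.IsHomLift (𝟙 (𝒲.p.obj w)) (e₂.hom.toNatTrans.app w) :=
    e₂.hom.isHomLift' w
  have f1 := IsHomLift.fac' (FibCat.selfOver (Over S)).p (𝟙 (𝒲.p.obj w)) (e₁.hom.toNatTrans.app w)
  have f2 := IsHomLift.fac' (FibCat.selfOver (Over S)).p (𝟙 (𝒲.p.obj w)) (e₂.hom.toNatTrans.app w)
  exact f1.trans f2.symm

/-- `PT` transfers along equivalences over the target -/
theorem PT.of_eqvOver {P : MorphismProperty (AlgSp.Sp S)} {𝒜 𝒜' ℬ : AlgSt.Cat S}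
    {π : 𝒜 ⥤ᵇ ℬ} {π' : 𝒜' ⥤ᵇ ℬ} (h : EqvOver π π') (hp : PT P π) : PT P π' := by
  obtain ⟨k, hk, ⟨i⟩⟩ := h
  exact PT.of_equiv_comp k hk (PT.of_iso i.symm hp)

/-- a section of the representing space over a scheme gives a lift of the chart -/
theorem exists_lift_of_section_gen {𝒜 : AlgSt.Cat S} {V : Over S} (Φ : 𝒜 ⥤ᵇ FibCat.overCat V)
    {F : AlgSp.Sp S} (e : AlgSt.ofSp F ⥤ᵇ 𝒜) {T : Over S} (c : T ⟶ V)
    (l : (AlgSp.yon S).obj T ⟶ F)
    (hl : l ≫ AlgSt.spMapOfOver (BasedFunctor.comp e Φ) = (AlgSp.yon S).map c) :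
    ∃ ρ : FibCat.overCat T ⥤ᵇ 𝒜, Nonempty (BasedFunctor.comp ρ Φ ≅ AlgSt.overMap c) := by
  let Φ₁ : AlgSt.ofSp ((AlgSp.yon S).obj T) ⥤ᵇ FibCat.overCat V :=
    BasedFunctor.comp (AlgSt.ofSpMap l) (BasedFunctor.comp e Φ)
  let Φ₂ : AlgSt.ofSp ((AlgSp.yon S).obj T) ⥤ᵇ FibCat.overCat V :=
    BasedFunctor.comp (AlgSt.toOverCat T) (AlgSt.overMap c)
  have h12 : AlgSt.spMapOfOver Φ₁ = AlgSt.spMapOfOver Φ₂ := by
    rw [spMapOfOver_eq, spMapOfOver_eq]
    have h1 : spMapOf (BasedFunctor.comp Φ₁ (AlgSt.ofOverCat V)) =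
        l ≫ spMapOf (BasedFunctor.comp (BasedFunctor.comp e Φ) (AlgSt.ofOverCat V)) := by
      have h0 : spMapOf (BasedFunctor.comp Φ₁ (AlgSt.ofOverCat V)) =
          spMapOf (BasedFunctor.comp (AlgSt.ofSpMap l)
            (BasedFunctor.comp (BasedFunctor.comp e Φ) (AlgSt.ofOverCat V))) :=
        spMapOf_congr (Iso.refl _)
      rw [h0, spMapOf_comp, spMapOf_ofSpMap l]
    rw [h1, ← spMapOfOver_eq, hl]
    exact (spMapOf_overMap c).symm
  obtain ⟨i⟩ := iso_of_spMapOfOver_eq Φ₁ Φ₂ h12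
  exact ⟨BasedFunctor.comp (AlgSt.ofOverCat T) (BasedFunctor.comp (AlgSt.ofSpMap l) e),
    ⟨whiskerLeftIso (AlgSt.ofOverCat T) i⟩⟩

section Diag
variable {𝒳 𝒲 : AlgSt.Cat S}

/-- a functor to `𝒳 ×_S 𝒳` isomorphic to one through the diagonal has isomorphic components -/
def compIsoOfDiag (z : 𝒲 ⥤ᵇ FibCat.fp (FibCat.toSelf 𝒳) (FibCat.toSelf 𝒳)) (w : 𝒲 ⥤ᵇ 𝒳)
    (i : z ≅ BasedFunctor.comp w (FibCat.diag (FibCat.toSelf 𝒳))) :
    BasedFunctor.comp z (FibCat.fpFst _ _) ≅ BasedFunctor.comp z (FibCat.fpSnd _ _) :=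
  (whiskerRightIso i (FibCat.fpFst _ _)) ≪≫ (whiskerRightIso i (FibCat.fpSnd _ _)).symm

/-- a functor to `𝒳 ×_S 𝒳` with isomorphic components is isomorphic to the pair of its first
component with itself -/
def isoPairSelf (z : 𝒲 ⥤ᵇ FibCat.fp (FibCat.toSelf 𝒳) (FibCat.toSelf 𝒳))
    (θ : BasedFunctor.comp z (FibCat.fpFst _ _) ≅ BasedFunctor.comp z (FibCat.fpSnd _ _)) :
    z ≅ FibCat.fpLift (BasedFunctor.comp z (FibCat.fpFst _ _))
      (BasedFunctor.comp z (FibCat.fpFst _ _)) (Iso.refl _) :=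
  (liftIso z (BasedFunctor.comp z (FibCat.fpFst _ _)) θ.symm).symm ≪≫
    eqToIso (congrArg (FibCat.fpLift (BasedFunctor.comp z (FibCat.fpFst _ _))
      (BasedFunctor.comp z (FibCat.fpFst _ _))) (iso_toSelf_ext _ _))

end Diag

/-- `overMap` of a composite, with the composite given by an equation -/
def overMapCompIso {U V W : Over S} (h : U ⟶ V) (k : V ⟶ W) (l : U ⟶ W) (hl : h ≫ k = l) :
    AlgSt.overMap l ≅ BasedFunctor.comp (AlgSt.overMap h) (AlgSt.overMap k) :=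
  eqToIso (by rw [hl]) ≪≫ Groth.Agent.Lib.Helper24.AlgStLocQ9.overMapComp h k

open Groth.Agent.Lib.Helper24.NoethQCSp3 Groth.Agent.Lib.Helper14.AS in
/-- quasi-compactness of the chosen base change to a quasi-compact scheme gives quasi-compactness
of all base changes -/
theorem qcBaseChange_of_snd {F : AlgSp.Sp S} {W T : Over S} [CompactSpace ↥T.left]
    (g : F ⟶ (AlgSp.yon S).obj W) (c : T ⟶ W)
    (h : AlgSp.IsQuasiCompactMor (pullback.snd g ((AlgSp.yon S).map c))) : QCBaseChange g c := by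
  intro P fst snd sqP
  refine h (AlgSp.IsAlgSpace.yon_obj T) ((isQuasiCompactSp_yon_iff T).2 inferInstance)
    (𝟙 _) sqP.isoPullback.hom snd ?_
  exact IsPullback.of_horiz_isIso ⟨by rw [sqP.isoPullback_hom_snd, Category.comp_id]⟩

open Groth.Agent.Lib.Helper24.NoethQCSp3 Groth.Agent.Lib.Helper24.NoethQCSp4
  Groth.Agent.Lib.Helper24.AlgStProps Groth.Agent.Lib.Helper24.AlgStLocQ7
  Groth.Agent.Lib.Helper14.AS in
/-- the base change of the diagonal of `𝒳` over `S` to a locally Noetherian scheme is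
quasi-compact, when automorphism sheaves are quasi-compact and generic isomorphisms spread out -/
theorem pt_isQuasiCompactMor_fpFst_diag {𝒳 : AlgSt.Cat S}
    (h𝒳 : AlgSt.IsAlgStack Scheme.fppfPrecoverage 𝒳)
    (hi : ∀ (U : Over S), IsAffine U.left → ∀ (x : FibCat.overCat U ⥤ᵇ 𝒳),
      ∃ (F : AlgSp.Space S) (e : AlgSt.ofSp F.obj ⥤ᵇ FibCat.fp (FibCat.fpLift x x (Iso.refl _)) (FibCat.diag (FibCat.toSelf 𝒳))),
        FibCat.IsEquivOver e ∧
          AlgSp.IsQuasiCompactMor (AlgSt.spMapOfOver (BasedFunctor.comp e (FibCat.fpFst _ _))))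
    (hii : ∀ (U : Over S), IsAffine U.left → IsIntegral U.left → ∀ (x y : FibCat.overCat U ⥤ᵇ 𝒳)
      (D : Set ↥U.left), Dense D →
      (∀ t ∈ D, ∃ (L : Type u) (_ : Field L) (g : Spec (CommRingCat.of L) ⟶ U.left), Set.range g.base = {t} ∧
        Nonempty (BasedFunctor.comp (AlgSt.overMap (Over.homMk g rfl : Over.mk (g ≫ U.hom) ⟶ U)) x ≅
          BasedFunctor.comp (AlgSt.overMap (Over.homMk g rfl : Over.mk (g ≫ U.hom) ⟶ U)) y)) →
      ∃ V : U.left.Opens, Dense (V : Set ↥U.left) ∧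
        Nonempty (BasedFunctor.comp (AlgSt.overMap (Over.homMk V.ι rfl : Over.mk (V.ι ≫ U.hom) ⟶ U)) x ≅
          BasedFunctor.comp (AlgSt.overMap (Over.homMk V.ι rfl : Over.mk (V.ι ≫ U.hom) ⟶ U)) y))
    (Pr : Over S) [IsLocallyNoetherian Pr.left]
    (zP : FibCat.overCat Pr ⥤ᵇ FibCat.fp (FibCat.toSelf 𝒳) (FibCat.toSelf 𝒳)) :
    PT AlgSp.IsQuasiCompactMor (FibCat.fpFst zP (FibCat.diag (FibCat.toSelf 𝒳))) := by
  obtain ⟨F, e, he⟩ := h𝒳.diag Pr zP
  have hPi : (Phat (AlgSp.IsQuasiCompactMor (S := S))).RespectsIso :=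
    good_isQuasiCompactMor.respectsIso
  have key : AlgSp.IsQuasiCompactMor (AlgSt.spMapOfOver
      (BasedFunctor.comp e (FibCat.fpFst zP (FibCat.diag (FibCat.toSelf 𝒳))))) := by
    refine isQuasiCompactMor_of_locNoeth F.property _ ?_
    intro A _ _ _ cA hdense
    obtain ⟨sA, hsA⟩ : ∃ sA : Spec (CommRingCat.of A) ⟶ S, sA = cA ≫ Pr.hom := ⟨_, rfl⟩
    obtain ⟨T₀, hT₀⟩ : ∃ T₀ : Over S, T₀ = Over.mk sA := ⟨_, rfl⟩
    have hT₀aff : IsAffine T₀.left := by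
      rw [hT₀]; exact (inferInstance : IsAffine (Spec (CommRingCat.of A)))
    have hT₀int : IsIntegral T₀.left := by
      rw [hT₀]; exact (inferInstance : IsIntegral (Spec (CommRingCat.of A)))
    subst hT₀
    let c₀ : Over.mk sA ⟶ Pr := Over.homMk cA hsA.symm
    obtain ⟨V₀, hV₀, ⟨θ⟩⟩ := hii (Over.mk sA) hT₀aff hT₀int
      (BasedFunctor.comp (BasedFunctor.comp (AlgSt.overMap c₀) zP) (FibCat.fpFst _ _))
      (BasedFunctor.comp (BasedFunctor.comp (AlgSt.overMap c₀) zP) (FibCat.fpSnd _ _))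
      _ hdense (by
      intro t ht
      obtain ⟨L, hL, gL, ρ, hrange, hρ⟩ := exists_fieldPt_of_mem_range
        (AlgSt.spMapOfOver (BasedFunctor.comp e (FibCat.fpFst zP (FibCat.diag (FibCat.toSelf 𝒳)))))
        c₀ t ht
      refine ⟨L, hL, gL, hrange, ?_⟩
      obtain ⟨ρ', ⟨γ⟩⟩ := exists_lift_of_section_gen
        (FibCat.fpFst zP (FibCat.diag (FibCat.toSelf 𝒳))) e _ ρ hρ
      have i : BasedFunctor.comp (AlgSt.overMap
            (Over.homMk gL rfl : Over.mk (gL ≫ (Over.mk sA).hom) ⟶ Over.mk sA))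
            (BasedFunctor.comp (AlgSt.overMap c₀) zP) ≅
          BasedFunctor.comp (BasedFunctor.comp ρ' (FibCat.fpSnd zP (FibCat.diag (FibCat.toSelf 𝒳))))
            (FibCat.diag (FibCat.toSelf 𝒳)) :=
        (whiskerRightIso (Groth.Agent.Lib.Helper24.AlgStLocQ9.overMapComp _ c₀).symm zP) ≪≫
          (whiskerRightIso γ.symm zP) ≪≫
          whiskerLeftIso ρ' (FibCat.fpIso zP (FibCat.diag (FibCat.toSelf 𝒳)))
      exact ⟨compIsoOfDiag _ _ i⟩)
    -- a nonempty affine open inside `V₀`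
    have hne : Nonempty ↥(Over.mk sA).left := inferInstance
    obtain ⟨v, hv⟩ := hV₀.nonempty
    obtain ⟨V', hV'aff, hvV', hle⟩ := exists_isAffineOpen_mem_and_subset (x := v) (U := V₀) hv
    have hle' : V' ≤ V₀ := hle
    let ι₀ : Over.mk (V₀.ι ≫ (Over.mk sA).hom) ⟶ Over.mk sA := Over.homMk V₀.ι rfl
    let ι' : Over.mk (V'.ι ≫ (Over.mk sA).hom) ⟶ Over.mk sA := Over.homMk V'.ι rfl
    let κ : Over.mk (V'.ι ≫ (Over.mk sA).hom) ⟶ Over.mk (V₀.ι ≫ (Over.mk sA).hom) :=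
      Over.homMk ((Over.mk sA).left.homOfLE hle') (by
        change (Over.mk sA).left.homOfLE hle' ≫ V₀.ι ≫ (Over.mk sA).hom = V'.ι ≫ (Over.mk sA).hom
        rw [Scheme.homOfLE_ι_assoc])
    have hκ : κ ≫ ι₀ = ι' := Over.OverMorphism.ext (Scheme.homOfLE_ι _ hle')
    have hT'aff : IsAffine (Over.mk (V'.ι ≫ (Over.mk sA).hom)).left := hV'aff
    have hT'c : CompactSpace ↥(Over.mk (V'.ι ≫ (Over.mk sA).hom)).left := by
      have : IsAffine (Over.mk (V'.ι ≫ (Over.mk sA).hom)).left := hT'aff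
      infer_instance
    obtain ⟨z, hz⟩ : ∃ z : FibCat.overCat (Over.mk sA) ⥤ᵇ
        FibCat.fp (FibCat.toSelf 𝒳) (FibCat.toSelf 𝒳),
        z = BasedFunctor.comp (AlgSt.overMap c₀) zP := ⟨_, rfl⟩
    rw [← hz] at θ
    -- the restricted isomorphism
    have θ' : BasedFunctor.comp (BasedFunctor.comp (AlgSt.overMap ι') z) (FibCat.fpFst _ _) ≅
        BasedFunctor.comp (BasedFunctor.comp (AlgSt.overMap ι') z) (FibCat.fpSnd _ _) :=
      (whiskerRightIso (overMapCompIso κ ι₀ ι' hκ)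
          (BasedFunctor.comp z (FibCat.fpFst _ _))) ≪≫
        whiskerLeftIso (AlgSt.overMap κ) θ ≪≫
        (whiskerRightIso (overMapCompIso κ ι₀ ι' hκ)
          (BasedFunctor.comp z (FibCat.fpSnd _ _))).symm
    obtain ⟨c', hc'⟩ : ∃ c' : Over.mk (V'.ι ≫ (Over.mk sA).hom) ⟶ Pr, c' = ι' ≫ c₀ := ⟨_, rfl⟩
    have iz' : BasedFunctor.comp (AlgSt.overMap c') zP ≅ BasedFunctor.comp (AlgSt.overMap ι') z := by
      rw [hz]
      exact whiskerRightIso (overMapCompIso ι' c₀ c' hc'.symm) zP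
    have θ'' : BasedFunctor.comp (BasedFunctor.comp (AlgSt.overMap c') zP) (FibCat.fpFst _ _) ≅
        BasedFunctor.comp (BasedFunctor.comp (AlgSt.overMap c') zP) (FibCat.fpSnd _ _) :=
      whiskerRightIso iz' (FibCat.fpFst _ _) ≪≫ θ' ≪≫ (whiskerRightIso iz' (FibCat.fpSnd _ _)).symm
    have ipair := isoPairSelf (BasedFunctor.comp (AlgSt.overMap c') zP) θ''
    obtain ⟨F', e', he', hq'⟩ := hi (Over.mk (V'.ι ≫ (Over.mk sA).hom)) hT'aff
      (BasedFunctor.comp (BasedFunctor.comp (AlgSt.overMap c') zP) (FibCat.fpFst _ _))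
    have hpt' : PT AlgSp.IsQuasiCompactMor (FibCat.fpFst
        (FibCat.fpLift (BasedFunctor.comp (BasedFunctor.comp (AlgSt.overMap c') zP) (FibCat.fpFst _ _))
          (BasedFunctor.comp (BasedFunctor.comp (AlgSt.overMap c') zP) (FibCat.fpFst _ _))
          (Iso.refl _)) (FibCat.diag (FibCat.toSelf 𝒳))) := by
      refine ⟨F', ⟨(AlgSp.yon S).obj _, AlgSp.IsAlgSpace.yon_obj _⟩, e', AlgSt.ofOverCat _, he',
        isEquivOver_ofOverCat _, ?_⟩
      rw [spMapOfOver_eq] at hq'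
      exact hq'
    have hpt'' : PT AlgSp.IsQuasiCompactMor (FibCat.fpFst (AlgSt.overMap c')
        (FibCat.fpFst zP (FibCat.diag (FibCat.toSelf 𝒳)))) :=
      PT.of_eqvOver ((eqvOver_fpFst_congr_left ipair.symm (FibCat.diag (FibCat.toSelf 𝒳))).trans
        (eqvOver_P (FibCat.diag (FibCat.toSelf 𝒳)) zP (AlgSt.overMap c')).symm) hpt'
    have hsnd := (pt_fpFst_iff hPi (G := ⟨(AlgSp.yon S).obj Pr, AlgSp.IsAlgSpace.yon_obj Pr⟩)
      (G' := ⟨(AlgSp.yon S).obj (Over.mk (V'.ι ≫ (Over.mk sA).hom)), AlgSp.IsAlgSpace.yon_obj _⟩)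
      e (AlgSt.ofOverCat Pr) (AlgSt.toOverCat _) he
      (isEquivOver_ofOverCat Pr) (isEquivOver_toOverCat _) (AlgSt.overMap c')
      (FibCat.fpFst zP (FibCat.diag (FibCat.toSelf 𝒳)))).1 hpt''
    rw [spMapOf_overMap c'] at hsnd
    have hsnd' : AlgSp.IsQuasiCompactMor (pullback.snd (AlgSt.spMapOfOver
        (BasedFunctor.comp e (FibCat.fpFst zP (FibCat.diag (FibCat.toSelf 𝒳)))))
        ((AlgSp.yon S).map c')) := by
      rw [spMapOfOver_eq]
      exact hsnd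
    refine ⟨_, c', V', qcBaseChange_of_snd _ c' hsnd', ⟨v, hvV'⟩, ?_⟩
    rw [hc']
    change Set.range (V'.ι ≫ cA) = _
    rw [Scheme.Hom.comp_base, TopCat.coe_comp, Set.range_comp, Scheme.Opens.range_ι]
    rfl
  refine ⟨F, ⟨(AlgSp.yon S).obj Pr, AlgSp.IsAlgSpace.yon_obj Pr⟩, e, AlgSt.ofOverCat Pr, he,
    isEquivOver_ofOverCat Pr, ?_⟩
  rw [spMapOfOver_eq] at key
  exact key

end Groth.Agent.Lib.Helper24.AlgStIsomQC
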