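import Groth.Agent.Lib.Helper24.AlgStGC
import Groth.Agent.Lib.Helper24.AlgStCalc2
import Groth.Agent.Lib.Helper24.AlgStCalc
set_option autoImplicit false
open CategoryTheory AlgebraicGeometry Opposite
universe w₁ v₁ w₂ v₂ w₃ v₃ w₄ v₄ w₅ v₅ u
set_option backward.isDefEq.respectTransparency false
set_option backward.isDefEq.respectTransparency.types false

/-! Left cancellation: `P(g ∘ f)` and `Pc(g)` imply `P(f)`, for `g` representable by algebraic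
spaces. -/

namespace Groth.Agent.Lib.Helper24.AlgStLC
open Groth.Agent.Lib.Helper24.FibCatFpMap
open Groth.Agent.Lib.Helper24.FibCatEquiv Groth.Agent.Lib.Helper24.FibCatFpGen
open Groth.Agent.Lib.Helper24.AlgStRep
open Groth.Agent.Lib.Helper24.AlgStBridge Groth.Agent.Lib.Helper24.AlgStBoot
open Groth.Agent.Lib.Helper24.AlgStRepS
open Groth.Agent.Lib.Helper24.AlgStEqv Groth.Agent.Lib.Helper24.FibCatMagic
open Groth.Agent.Lib.Helper24.AlgStDiagBC Groth.Agent.Lib.Helper24.FibCatDiagComp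
open Groth.Agent.Lib.Helper24.AlgStSchLocal Groth.Agent.Lib.Helper24.AlgStDiagComp
open Groth.Agent.Lib.Helper24.FibCatGraph Groth.Agent.Lib.Helper24.AlgStGC
open Groth.Agent.Lib.Helper24.AlgStProps Groth.Agent.Lib.Helper24.PshBridge
open Groth.Agent.Lib.Helper24.AlgStCalc2
open CategoryTheory.Limits

variable {S : Scheme.{u}}

/-- conjugation by equivalences -/
theorem repByAlgSpWith_conj {𝒜 : BasedCategory.{v₁, w₁} (Over S)}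
    {ℬ : BasedCategory.{v₂, w₂} (Over S)} {𝒜' : BasedCategory.{v₃, w₃} (Over S)}
    {ℬ' : BasedCategory.{v₄, w₄} (Over S)} (P : MorphismProperty (AlgSp.Sp S))
    (π : 𝒜 ⥤ᵇ ℬ) (a : 𝒜' ⥤ᵇ 𝒜) (b' : ℬ ⥤ᵇ ℬ') (ha : FibCat.IsEquivOver a)
    (hb' : FibCat.IsEquivOver b') :
    AlgSt.RepByAlgSpWith P π ↔
      AlgSt.RepByAlgSpWith P (BasedFunctor.comp a (BasedFunctor.comp π b')) := by
  obtain ⟨b, ⟨α⟩, ⟨β⟩⟩ := hb'
  have hb : FibCat.IsEquivOver b := ⟨b', ⟨β⟩, ⟨α⟩⟩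
  exact repByAlgSpWith_iff_of_isEquivOver P π (BasedFunctor.comp a (BasedFunctor.comp π b')) a b
    ha hb (whiskerLeftIso (BasedFunctor.comp a π) α)

/-- the trivial property is nice -/
theorem nice_top : Nice (⊤ : MorphismProperty (AlgSp.Sp S)) :=
  ⟨fun _ _ _ _ _ _ _ _ _ _ _ _ _ _ => trivial, fun _ _ _ _ _ _ => trivial⟩

/-- left cancellation for categories representable by algebraic spaces -/
theorem repByAlgSpWith_of_comp_rep {𝒜 : BasedCategory.{v₁, w₁} (Over S)}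
    {ℬ : BasedCategory.{v₂, w₂} (Over S)} {𝒞 : BasedCategory.{v₃, w₃} (Over S)}
    (P Pc : MorphismProperty (AlgSp.Sp S)) (hP : Nice P) (hPc : Nice Pc)
    (hc : ∀ ⦃X Y Z : AlgSp.Sp S⦄, AlgSp.IsAlgSpace X → AlgSp.IsAlgSpace Y → AlgSp.IsAlgSpace Z →
      ∀ (a : X ⟶ Y) (b : Y ⟶ Z), P (a ≫ b) → Pc b → P a)
    (hA : AlgSt.RepByAlgSp 𝒜) (hB : AlgSt.RepByAlgSp ℬ) (hC : AlgSt.RepByAlgSp 𝒞)
    (π₁ : 𝒜 ⥤ᵇ ℬ) (π₂ : ℬ ⥤ᵇ 𝒞) (h₂ : AlgSt.RepByAlgSpWith Pc π₂)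
    (h : AlgSt.RepByAlgSpWith P (BasedFunctor.comp π₁ π₂)) : AlgSt.RepByAlgSpWith P π₁ := by
  obtain ⟨A, eA, heA⟩ := hA
  obtain ⟨B, eB, heB⟩ := hB
  obtain ⟨C', eC, heC⟩ := hC
  obtain ⟨eB', ⟨αB⟩, ⟨βB⟩⟩ := heB
  have heB' : FibCat.IsEquivOver eB' := ⟨eB, ⟨βB⟩, ⟨αB⟩⟩
  obtain ⟨eC', ⟨αC⟩, ⟨βC⟩⟩ := heC
  have heC' : FibCat.IsEquivOver eC' := ⟨eC, ⟨βC⟩, ⟨αC⟩⟩
  let Φ₁ : AlgSt.ofSp A.obj ⥤ᵇ AlgSt.ofSp B.obj := BasedFunctor.comp eA (BasedFunctor.comp π₁ eB')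
  let Φ₂ : AlgSt.ofSp B.obj ⥤ᵇ AlgSt.ofSp C'.obj := BasedFunctor.comp eB (BasedFunctor.comp π₂ eC')
  have h12 : AlgSt.RepByAlgSpWith P (BasedFunctor.comp Φ₁ Φ₂) := by
    have h0 := (repByAlgSpWith_conj P (BasedFunctor.comp π₁ π₂) eA eC' heA heC').1 h
    refine repByAlgSpWith_of_iso P ?_ h0
    exact whiskerLeftIso (BasedFunctor.comp eA π₁)
      (whiskerRightIso βB (BasedFunctor.comp π₂ eC')).symm
  have p12 : P (spMapOf Φ₁ ≫ spMapOf Φ₂) := by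
    rw [← spMapOf_comp]
    exact P_spMapOf_of_repByAlgSpWith' P hP _ h12
  have p2 : Pc (spMapOf Φ₂) :=
    P_spMapOf_of_repByAlgSpWith' Pc hPc _
      ((repByAlgSpWith_conj Pc π₂ eB eC' ⟨eB', ⟨αB⟩, ⟨βB⟩⟩ heC').1 h₂)
  have p1 : P (spMapOf Φ₁) := hc A.property B.property C'.property _ _ p12 p2
  have r1 : AlgSt.RepByAlgSpWith P Φ₁ :=
    repByAlgSpWith_of_iso P (isoOfPshMap Φ₁).symm
      (repByAlgSpWith_ofSpMap P hP.bc (V := A) (W := B) (spMapOf Φ₁) p1)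
  exact (repByAlgSpWith_conj P π₁ eA eB' heA heB').2 r1

/-- left cancellation, pointwise form -/
theorem hasP_of_comp {𝒳 𝒴 𝒵 : AlgSt.Cat S} (h𝒳 : FibCat.IsFibGrpd 𝒳.p)
    (h𝒴 : FibCat.IsFibGrpd 𝒴.p) (h𝒵 : FibCat.IsFibGrpd 𝒵.p)
    (P Pc : MorphismProperty (AlgSp.Sp S)) (hP : Nice P) (hPc : Nice Pc)
    (hc : ∀ ⦃X Y Z : AlgSp.Sp S⦄, AlgSp.IsAlgSpace X → AlgSp.IsAlgSpace Y → AlgSp.IsAlgSpace Z →
      ∀ (a : X ⟶ Y) (b : Y ⟶ Z), P (a ≫ b) → Pc b → P a)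
    (f : 𝒳 ⥤ᵇ 𝒴) (g : 𝒴 ⥤ᵇ 𝒵) (hg : AlgSt.RepByAlgSpWith Pc g)
    (hfg : AlgSt.RepByAlgSpWith P (BasedFunctor.comp f g)) (Y : AlgSp.Space S)
    (y : AlgSt.ofSp Y.obj ⥤ᵇ 𝒴) : HasP P (FibCat.fpFst y f) := by
  have hT : FibCat.IsFibGrpd (AlgSt.ofSp Y.obj).p := Stk.isFibGrpd_ofPsh _
  have hTr : AlgSt.RepByAlgSp (AlgSt.ofSp Y.obj) :=
    Groth.Agent.Lib.Helper24.AlgStAtlas.repByAlgSp_ofSp Y
  let u : AlgSt.ofSp Y.obj ⥤ᵇ 𝒵 := BasedFunctor.comp y g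
  have hg1 : AlgSt.RepByAlgSp1 g := repByAlgSp1_of_repByAlgSpWith Pc g hg
  have hfg1 : AlgSt.RepByAlgSp1 (BasedFunctor.comp f g) := repByAlgSp1_of_repByAlgSpWith P _ hfg
  have hCfib : FibCat.IsFibGrpd (FibCat.fp u g).p := isFibGrpd_fp u g hT h𝒴 h𝒵
  have hC : AlgSt.RepByAlgSp (FibCat.fp u g) := repByAlgSp_fp h𝒴 h𝒵 hT g u hg1 hTr
  have hB : AlgSt.RepByAlgSp (FibCat.fp u (BasedFunctor.comp f g)) :=
    repByAlgSp_fp h𝒳 h𝒵 hT (BasedFunctor.comp f g) u hfg1 hTr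
  have hQ : FibCat.IsEquivOver (Groth.Agent.Lib.Helper24.FibCatFpPaste.Q f g u) :=
    Groth.Agent.Lib.Helper24.FibCatFpPaste.isEquivOver_Q
  have hA'fib : FibCat.IsFibGrpd (FibCat.fp (FibCat.fpSnd u g) f).p :=
    isFibGrpd_fp _ _ hCfib h𝒳 h𝒴
  have hA' : AlgSt.RepByAlgSp (FibCat.fp (FibCat.fpSnd u g) f) :=
    (Groth.Agent.Lib.Helper24.AlgStCalc.repByAlgSp_iff_of_isEquivOver _ hQ).2 hB
  -- the two projections
  have h12 : AlgSt.RepByAlgSpWith P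
      (BasedFunctor.comp (FibCat.fpFst (FibCat.fpSnd u g) f) (FibCat.fpFst u g)) :=
    repByAlgSpWith_of_eqvOver P
      ⟨Groth.Agent.Lib.Helper24.FibCatFpPaste.Q f g u, hQ, ⟨Iso.refl _⟩⟩
      (repByAlgSpWith_fpFst P (BasedFunctor.comp f g) u hfg)
  have h2 : AlgSt.RepByAlgSpWith Pc (FibCat.fpFst u g) := repByAlgSpWith_fpFst Pc g u hg
  have h1 : AlgSt.RepByAlgSpWith P (FibCat.fpFst (FibCat.fpSnd u g) f) :=
    repByAlgSpWith_of_comp_rep P Pc hP hPc hc hA' hC hTr _ _ h2 h12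
  -- the section
  let σ : AlgSt.ofSp Y.obj ⥤ᵇ FibCat.fp u g :=
    FibCat.fpLift (BasedFunctor.id _) y (Iso.refl _)
  have h3 : AlgSt.RepByAlgSpWith P (FibCat.fpFst σ (FibCat.fpFst (FibCat.fpSnd u g) f)) :=
    repByAlgSpWith_fpFst P _ σ h1
  have h4 : AlgSt.RepByAlgSpWith P (FibCat.fpFst y f) :=
    repByAlgSpWith_of_eqvOver P (eqvOver_P f (FibCat.fpSnd u g) σ).symm h3
  -- conclude
  have hyf : AlgSt.RepByAlgSp (FibCat.fp y f) := by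
    have := repByAlgSp_fp hA'fib hCfib hT (FibCat.fpFst (FibCat.fpSnd u g) f) σ
      (Groth.Agent.Lib.Helper24.AlgStBridge.repByAlgSp1_of_repByAlgSp hA' hC _) hTr
    exact Groth.Agent.Lib.Helper24.AlgStCalc.repByAlgSp_of_isEquivOver _
      (Groth.Agent.Lib.Helper24.FibCatFpPaste.isEquivOver_P (f := f) (g := FibCat.fpSnd u g)
        (G := σ)) this
  obtain ⟨F, e, he⟩ := hyf
  refine ⟨F, e, he, ?_⟩
  apply P_spMapOf_of_repByAlgSpWith' P hP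
  exact (repByAlgSpWith_conj P (FibCat.fpFst y f) e (BasedFunctor.id _) he (isEquivOver_id _)).1 h4

/-- left cancellation -/
theorem repByAlgSpWith_of_comp {𝒳 𝒴 𝒵 : AlgSt.Cat S} (h𝒳 : FibCat.IsFibGrpd 𝒳.p)
    (h𝒴 : FibCat.IsFibGrpd 𝒴.p) (h𝒵 : FibCat.IsFibGrpd 𝒵.p)
    (P Pc : MorphismProperty (AlgSp.Sp S)) (hP : Nice P) (hPc : Nice Pc)
    (hc : ∀ ⦃X Y Z : AlgSp.Sp S⦄, AlgSp.IsAlgSpace X → AlgSp.IsAlgSpace Y → AlgSp.IsAlgSpace Z →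
      ∀ (a : X ⟶ Y) (b : Y ⟶ Z), P (a ≫ b) → Pc b → P a)
    (f : 𝒳 ⥤ᵇ 𝒴) (g : 𝒴 ⥤ᵇ 𝒵) (hg : AlgSt.RepByAlgSpWith Pc g)
    (hfg : AlgSt.RepByAlgSpWith P (BasedFunctor.comp f g)) : AlgSt.RepByAlgSpWith P f := by
  rw [repByAlgSpWith_iff_hasP]
  intro U y
  exact hasP_of_comp h𝒳 h𝒴 h𝒵 P Pc hP hPc hc f g hg hfg
    ⟨(AlgSp.yon S).obj U, AlgSp.IsAlgSpace.yon_obj U⟩ _

end Groth.Agent.Lib.Helper24.AlgStLC
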