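import Groth.Agent.Lib.Helper24.AlgStDiagLC
set_option autoImplicit false
open CategoryTheory AlgebraicGeometry Opposite
universe w₁ v₁ w₂ v₂ w₃ v₃ w₄ v₄ w₅ v₅ u
set_option backward.isDefEq.respectTransparency false
set_option backward.isDefEq.respectTransparency.types false

/-! Left cancellation without locality of the property: scheme test objects only. -/

namespace Groth.Agent.Lib.Helper24.AlgStLC2
open Groth.Agent.Lib.Helper24.FibCatFpMap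
open Groth.Agent.Lib.Helper24.FibCatEquiv Groth.Agent.Lib.Helper24.FibCatFpGen
open Groth.Agent.Lib.Helper24.AlgStRep
open Groth.Agent.Lib.Helper24.AlgStBridge Groth.Agent.Lib.Helper24.AlgStBoot
open Groth.Agent.Lib.Helper24.AlgStRepS
open Groth.Agent.Lib.Helper24.AlgStEqv Groth.Agent.Lib.Helper24.FibCatMagic
open Groth.Agent.Lib.Helper24.AlgStDiagBC Groth.Agent.Lib.Helper24.FibCatDiagComp
open Groth.Agent.Lib.Helper24.AlgStSchLocal Groth.Agent.Lib.Helper24.AlgStDiagComp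
open Groth.Agent.Lib.Helper24.FibCatGraph Groth.Agent.Lib.Helper24.AlgStGC
open Groth.Agent.Lib.Helper24.AlgStProps Groth.Agent.Lib.Helper24.PshBridge
open Groth.Agent.Lib.Helper24.AlgStCalc2 Groth.Agent.Lib.Helper24.AlgStLC
open Groth.Agent.Lib.Helper24.AlgStDiagLC
open CategoryTheory.Limits

variable {S : Scheme.{u}}

/-- left cancellation over an algebraic space, from `HasP` data -/
theorem repByAlgSpWith_of_comp_hasP {𝒜 : BasedCategory.{v₁, w₁} (Over S)}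
    {ℬ : BasedCategory.{v₂, w₂} (Over S)} {G : AlgSp.Space S}
    (P Pc : MorphismProperty (AlgSp.Sp S)) (hPb : StableBC P)
    (hc : LeftCancel P Pc)
    (π₁ : 𝒜 ⥤ᵇ ℬ) (π₂ : ℬ ⥤ᵇ AlgSt.ofSp G.obj) (h₂ : HasP Pc π₂)
    (h : HasP P (BasedFunctor.comp π₁ π₂)) : AlgSt.RepByAlgSpWith P π₁ := by
  obtain ⟨A, eA, heA, p12⟩ := h
  obtain ⟨B, eB, heB, p2⟩ := h₂
  obtain ⟨eB', ⟨αB⟩, ⟨βB⟩⟩ := heB
  have heB' : FibCat.IsEquivOver eB' := ⟨eB, ⟨βB⟩, ⟨αB⟩⟩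
  let Φ₁ : AlgSt.ofSp A.obj ⥤ᵇ AlgSt.ofSp B.obj := BasedFunctor.comp eA (BasedFunctor.comp π₁ eB')
  have e12 : spMapOf Φ₁ ≫ spMapOf (BasedFunctor.comp eB π₂) =
      spMapOf (BasedFunctor.comp eA (BasedFunctor.comp π₁ π₂)) := by
    rw [← spMapOf_comp]
    apply spMapOf_congr
    exact whiskerLeftIso (BasedFunctor.comp eA π₁) (whiskerRightIso βB π₂)
  have p1 : P (spMapOf Φ₁) := by
    refine hc A.property B.property G.property _ _ ?_ p2
    rw [e12]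
    exact p12
  have r1 : AlgSt.RepByAlgSpWith P Φ₁ :=
    repByAlgSpWith_of_iso P (isoOfPshMap Φ₁).symm
      (repByAlgSpWith_ofSpMap P hPb (V := A) (W := B) (spMapOf Φ₁) p1)
  exact (repByAlgSpWith_conj P π₁ eA eB' heA heB').2 r1

/-- left cancellation, pointwise form for scheme test objects -/
theorem hasP_of_comp_sch {𝒳 𝒴 𝒵 : AlgSt.Cat S}
    (P Pc : MorphismProperty (AlgSp.Sp S)) (hPb : StableBC P)
    (hc : LeftCancel P Pc)
    (f : 𝒳 ⥤ᵇ 𝒴) (g : 𝒴 ⥤ᵇ 𝒵) (hg : AlgSt.RepByAlgSpWith Pc g)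
    (hfg : AlgSt.RepByAlgSpWith P (BasedFunctor.comp f g)) (U : Over S)
    (y₀ : FibCat.overCat U ⥤ᵇ 𝒴) :
    HasP P (FibCat.fpFst (BasedFunctor.comp (AlgSt.toOverCat U) y₀) f) := by
  let y : AlgSt.ofSch U ⥤ᵇ 𝒴 := BasedFunctor.comp (AlgSt.toOverCat U) y₀
  change HasP P (FibCat.fpFst y f)
  let Y : AlgSp.Space S := ⟨(AlgSp.yon S).obj U, AlgSp.IsAlgSpace.yon_obj U⟩
  let u : AlgSt.ofSp Y.obj ⥤ᵇ 𝒵 := BasedFunctor.comp y g
  have h2 : HasP Pc (FibCat.fpFst u g) := by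
    exact (repByAlgSpWith_iff_hasP g).1 hg U (BasedFunctor.comp y₀ g)
  have h12 : HasP P
      (BasedFunctor.comp (FibCat.fpFst (FibCat.fpSnd u g) f) (FibCat.fpFst u g)) := by
    have h0 : HasP P (FibCat.fpFst u (BasedFunctor.comp f g)) := by
      exact (repByAlgSpWith_iff_hasP (BasedFunctor.comp f g)).1 hfg U (BasedFunctor.comp y₀ g)
    exact HasP.of_eqvOver (EqvOver.symm
      ⟨Groth.Agent.Lib.Helper24.FibCatFpPaste.Q f g u,
        Groth.Agent.Lib.Helper24.FibCatFpPaste.isEquivOver_Q, ⟨Iso.refl _⟩⟩) h0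
  have h1 : AlgSt.RepByAlgSpWith P (FibCat.fpFst (FibCat.fpSnd u g) f) :=
    repByAlgSpWith_of_comp_hasP (G := Y) P Pc hPb hc _ _ h2 h12
  let σ : AlgSt.ofSp Y.obj ⥤ᵇ FibCat.fp u g :=
    FibCat.fpLift (BasedFunctor.id _) y (Iso.refl _)
  have h3 : HasP P (FibCat.fpFst σ (FibCat.fpFst (FibCat.fpSnd u g) f)) :=
    (repByAlgSpWith_iff_hasP _).1 h1 U (BasedFunctor.comp (AlgSt.ofOverCat U) σ)
  exact HasP.of_eqvOver (eqvOver_P f (FibCat.fpSnd u g) σ) h3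

/-- left cancellation without locality -/
theorem repByAlgSpWith_of_comp_sch {𝒳 𝒴 𝒵 : AlgSt.Cat S}
    (P Pc : MorphismProperty (AlgSp.Sp S)) (hPb : StableBC P)
    (hc : LeftCancel P Pc)
    (f : 𝒳 ⥤ᵇ 𝒴) (g : 𝒴 ⥤ᵇ 𝒵) (hg : AlgSt.RepByAlgSpWith Pc g)
    (hfg : AlgSt.RepByAlgSpWith P (BasedFunctor.comp f g)) : AlgSt.RepByAlgSpWith P f := by
  rw [repByAlgSpWith_iff_hasP]
  intro U y
  exact hasP_of_comp_sch P Pc hPb hc f g hg hfg U y

/-- if the diagonals of `g` and `g ∘ f` have `P` and `P` cancels on the left, the diagonal of `f`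
has `P`; no locality needed -/
theorem repByAlgSpWith_diag_of_comp_sch {𝒳 𝒴 𝒵 : AlgSt.Cat S}
    (P Pc : MorphismProperty (AlgSp.Sp S)) (hPb : StableBC P) (hc : LeftCancel P Pc)
    (f : 𝒳 ⥤ᵇ 𝒴) (g : 𝒴 ⥤ᵇ 𝒵) (hg : AlgSt.RepByAlgSpWith Pc (FibCat.diag g))
    (hfg : AlgSt.RepByAlgSpWith P (FibCat.diag (BasedFunctor.comp f g))) :
    AlgSt.RepByAlgSpWith P (FibCat.diag f) :=
  repByAlgSpWith_of_comp_sch P Pc hPb hc
    (FibCat.diag f) (N f f g) (repByAlgSpWith_N Pc f f g hg)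
    (repByAlgSpWith_of_iso P (diagCompIso f g) hfg)

end Groth.Agent.Lib.Helper24.AlgStLC2
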