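import Groth.Prelude.Def_AlgSpCov
import Groth.Agent.Lib.Helper24.AlgStEqv
import Groth.Agent.Lib.Helper24.AlgStSmLoc
import Groth.Agent.Lib.Helper14.AlgSpImm
import Groth.Agent.Lib.Helper14.AlgSpLocP3
set_option autoImplicit false
open CategoryTheory AlgebraicGeometry Opposite
universe w₁ v₁ w₂ v₂ w₃ v₃ w₄ v₄ u
set_option backward.isDefEq.respectTransparency false
set_option backward.isDefEq.respectTransparency.types false

/-! Properties smooth local on the source-and-target: sheaf level consequences, and the transported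
property of functors between categories representable by algebraic spaces. -/

namespace Groth.Agent.Lib.Helper24.AlgStLocQ1
open Groth.Agent.Lib.Helper24.FibCatFpMap
open Groth.Agent.Lib.Helper24.FibCatEquiv Groth.Agent.Lib.Helper24.FibCatFpGen
open Groth.Agent.Lib.Helper24.AlgStRep
open Groth.Agent.Lib.Helper24.AlgStBridge Groth.Agent.Lib.Helper24.AlgStBoot
open Groth.Agent.Lib.Helper24.AlgStRepS
open Groth.Agent.Lib.Helper24.AlgStSchLocal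
open Groth.Agent.Lib.Helper24.AlgStGC
open Groth.Agent.Lib.Helper24.AlgStProps Groth.Agent.Lib.Helper24.AlgStSmooth
open Groth.Agent.Lib.Helper24.AlgStFpAlg Groth.Agent.Lib.Helper24.AlgStSmLoc
open Groth.Agent.Lib.Helper24.AlgStEqv Groth.Agent.Lib.Helper24.PshBridge
open CategoryTheory.Limits

variable {S : Scheme.{u}}

section sheaf
variable {P : MorphismProperty (AlgSp.Sp S)} (hP : AlgSp.IsSmoothLocalST P)

instance : MorphismProperty.ContainsIdentities (@Smooth : MorphismProperty Scheme.{u}) :=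
  ⟨fun _ => inferInstance⟩

theorem locP_smooth_of_isIso {X Y : AlgSp.Sp S} (e : X ⟶ Y) [IsIso e] : AlgSp.LocP @Smooth e :=
  Groth.Agent.Lib.Helper14.AS.locP_of_repWith Groth.Agent.Lib.Helper14.AS.etale_le_smooth
    (Groth.Agent.Lib.Helper14.AS.repWith_of_isIso @Smooth e)

include hP

/-- postcomposition with a smooth morphism -/
theorem comp_smooth {X Y Z : AlgSp.Sp S} (hX : AlgSp.IsAlgSpace X) (hY : AlgSp.IsAlgSpace Y)
    (hZ : AlgSp.IsAlgSpace Z) (f : X ⟶ Y) (b : Y ⟶ Z) (hb : AlgSp.LocP @Smooth b) (hf : P f) :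
    P (f ≫ b) :=
  (hP.locality hX hZ (f ≫ b)).2 fun x =>
    ⟨X, Y, 𝟙 X, b, f, x, hX, hY, locP_smooth_of_isIso (𝟙 X), hb, by simp, by simp, hf⟩

/-- smooth descent on the source -/
theorem of_smooth_surjective_comp {X' X Y : AlgSp.Sp S} (hX' : AlgSp.IsAlgSpace X')
    (hX : AlgSp.IsAlgSpace X) (hY : AlgSp.IsAlgSpace Y) (a : X' ⟶ X) (f : X ⟶ Y)
    (ha : AlgSp.LocP @Smooth a) (hs : AlgSp.IsSurjectiveMor a) (h : P (a ≫ f)) : P f :=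
  (hP.locality hX hY f).2 fun x => by
    obtain ⟨v, hv⟩ := hs x
    exact ⟨X', Y, a, 𝟙 Y, a ≫ f, v, hX', hY, ha, locP_smooth_of_isIso (𝟙 Y), by simp, hv, h⟩

theorem respectsIso_left {X' X Y : AlgSp.Sp S} (hX' : AlgSp.IsAlgSpace X')
    (hX : AlgSp.IsAlgSpace X) (hY : AlgSp.IsAlgSpace Y) (i : X' ⟶ X) [IsIso i] (f : X ⟶ Y)
    (h : P f) : P (i ≫ f) :=
  hP.precomp hX' hX hY i f (locP_smooth_of_isIso i) h

theorem respectsIso_right {X Y Y' : AlgSp.Sp S} (hX : AlgSp.IsAlgSpace X)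
    (hY : AlgSp.IsAlgSpace Y) (hY' : AlgSp.IsAlgSpace Y') (f : X ⟶ Y) (j : Y ⟶ Y') [IsIso j]
    (h : P f) : P (f ≫ j) :=
  comp_smooth hP hX hY hY' f j (locP_smooth_of_isIso j) h

theorem phat_respectsIso' : (Phat P).RespectsIso := by
  apply MorphismProperty.RespectsIso.mk
  · intro X Y Z e f hf hX hZ
    have hY : AlgSp.IsAlgSpace Y := hX.of_iso e
    exact respectsIso_left hP hX hY hZ e.hom f (hf hY hZ)
  · intro X Y Z e f hf hX hZ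
    have hY : AlgSp.IsAlgSpace Y := hZ.of_iso e.symm
    exact respectsIso_right hP hX hY hZ f e.hom (hf hX hY)

end sheaf


section PT
variable {𝒜 : BasedCategory.{v₁, w₁} (Over S)} {ℬ : BasedCategory.{v₂, w₂} (Over S)}

/-- the property `P` transported to functors between categories representable by algebraic
spaces -/
def PT (P : MorphismProperty (AlgSp.Sp S)) (Φ : 𝒜 ⥤ᵇ ℬ) : Prop :=
  ∃ (F G : AlgSp.Space S) (eA : AlgSt.ofSp F.obj ⥤ᵇ 𝒜) (eB : ℬ ⥤ᵇ AlgSt.ofSp G.obj),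
    FibCat.IsEquivOver eA ∧ FibCat.IsEquivOver eB ∧
      P (spMapOf (BasedFunctor.comp eA (BasedFunctor.comp Φ eB)))

variable {P : MorphismProperty (AlgSp.Sp S)}

theorem PT.of_iso {Φ Φ' : 𝒜 ⥤ᵇ ℬ} (i : Φ ≅ Φ') (h : PT P Φ) : PT P Φ' := by
  obtain ⟨F, G, eA, eB, hA, hB, hp⟩ := h
  refine ⟨F, G, eA, eB, hA, hB, ?_⟩
  rwa [spMapOf_congr (whiskerLeftIso eA (whiskerRightIso i eB)).symm]

theorem PT.forall (hPi : (Phat P).RespectsIso) {Φ : 𝒜 ⥤ᵇ ℬ} (h : PT P Φ)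
    (F' G' : AlgSp.Space S) (eA' : AlgSt.ofSp F'.obj ⥤ᵇ 𝒜) (eB' : ℬ ⥤ᵇ AlgSt.ofSp G'.obj)
    (hA' : FibCat.IsEquivOver eA') (hB' : FibCat.IsEquivOver eB') :
    P (spMapOf (BasedFunctor.comp eA' (BasedFunctor.comp Φ eB'))) := by
  obtain ⟨F, G, eA, eB, hA, hB, hp⟩ := h
  obtain ⟨eAi, ⟨α⟩, ⟨α'⟩⟩ := hA
  obtain ⟨eBi, ⟨β⟩, ⟨β'⟩⟩ := hB
  -- j : ofSp F' ≃ ofSp F, k : ofSp G ≃ ofSp G'
  let j : AlgSt.ofSp F'.obj ⥤ᵇ AlgSt.ofSp F.obj := BasedFunctor.comp eA' eAi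
  let k : AlgSt.ofSp G.obj ⥤ᵇ AlgSt.ofSp G'.obj := BasedFunctor.comp eBi eB'
  have hj : FibCat.IsEquivOver j := isEquivOver_comp _ _ hA' ⟨eA, ⟨α'⟩, ⟨α⟩⟩
  have hk : FibCat.IsEquivOver k := isEquivOver_comp _ _ ⟨eB, ⟨β'⟩, ⟨β⟩⟩ hB'
  have := isIso_spMapOf j hj
  have := isIso_spMapOf k hk
  have i1 : BasedFunctor.comp eA' (BasedFunctor.comp Φ eB') ≅
      BasedFunctor.comp j (BasedFunctor.comp (BasedFunctor.comp eA (BasedFunctor.comp Φ eB)) k) := by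
    have a1 : BasedFunctor.comp eA' (BasedFunctor.comp Φ eB') ≅
        BasedFunctor.comp eA' (BasedFunctor.comp (BasedFunctor.comp eAi eA)
          (BasedFunctor.comp Φ (BasedFunctor.comp (BasedFunctor.comp eB eBi) eB'))) :=
      whiskerLeftIso eA' ((whiskerRightIso α'
        (BasedFunctor.comp Φ (BasedFunctor.comp (BasedFunctor.comp eB eBi) eB'))).trans
        (whiskerLeftIso Φ (whiskerRightIso β eB'))).symm
    exact a1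
  rw [spMapOf_congr i1, spMapOf_comp, spMapOf_comp]
  have h0 : Phat P (spMapOf (BasedFunctor.comp eA (BasedFunctor.comp Φ eB))) := fun _ _ => hp
  have h1 := hPi.postcomp _ (spMapOf k) _ h0
  exact hPi.precomp _ (spMapOf j) _ h1 F'.property G'.property


theorem PT.rep_left {Φ : 𝒜 ⥤ᵇ ℬ} (h : PT P Φ) : AlgSt.RepByAlgSp 𝒜 := by
  obtain ⟨F, G, eA, eB, hA, hB, -⟩ := h
  exact ⟨F, eA, hA⟩

theorem PT.rep_right {Φ : 𝒜 ⥤ᵇ ℬ} (h : PT P Φ) : AlgSt.RepByAlgSp ℬ := by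
  obtain ⟨F, G, eA, eB, hA, hB, -⟩ := h
  obtain ⟨eBi, hBi⟩ := exists_inverse_isEquivOver eB hB
  exact ⟨G, eBi, hBi⟩

/-- precomposition with an equivalence -/
theorem PT.equiv_comp {𝒜' : BasedCategory.{v₃, w₃} (Over S)} (e : 𝒜' ⥤ᵇ 𝒜)
    (he : FibCat.IsEquivOver e) {Φ : 𝒜 ⥤ᵇ ℬ} (h : PT P Φ) : PT P (BasedFunctor.comp e Φ) := by
  obtain ⟨F, G, eA, eB, hA, hB, hp⟩ := h
  obtain ⟨ei, ⟨α⟩, ⟨α'⟩⟩ := he
  refine ⟨F, G, BasedFunctor.comp eA ei, eB, isEquivOver_comp _ _ hA ⟨e, ⟨α'⟩, ⟨α⟩⟩, hB, ?_⟩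
  have i1 : BasedFunctor.comp (BasedFunctor.comp eA ei) (BasedFunctor.comp (BasedFunctor.comp e Φ) eB) ≅
      BasedFunctor.comp eA (BasedFunctor.comp Φ eB) :=
    whiskerLeftIso eA (whiskerRightIso α' (BasedFunctor.comp Φ eB))
  rwa [spMapOf_congr i1]

theorem PT.of_equiv_comp {𝒜' : BasedCategory.{v₃, w₃} (Over S)} (e : 𝒜' ⥤ᵇ 𝒜)
    (he : FibCat.IsEquivOver e) {Φ : 𝒜 ⥤ᵇ ℬ} (h : PT P (BasedFunctor.comp e Φ)) : PT P Φ := by
  obtain ⟨ei, ⟨α⟩, ⟨α'⟩⟩ := he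
  have h1 := PT.equiv_comp ei ⟨e, ⟨α'⟩, ⟨α⟩⟩ h
  exact PT.of_iso (whiskerRightIso α' Φ) h1

/-- postcomposition with an equivalence -/
theorem PT.comp_equiv {ℬ' : BasedCategory.{v₃, w₃} (Over S)} (e : ℬ ⥤ᵇ ℬ')
    (he : FibCat.IsEquivOver e) {Φ : 𝒜 ⥤ᵇ ℬ} (h : PT P Φ) : PT P (BasedFunctor.comp Φ e) := by
  obtain ⟨F, G, eA, eB, hA, hB, hp⟩ := h
  obtain ⟨ei, ⟨α⟩, ⟨α'⟩⟩ := he
  refine ⟨F, G, eA, BasedFunctor.comp ei eB, hA, isEquivOver_comp _ _ ⟨e, ⟨α'⟩, ⟨α⟩⟩ hB, ?_⟩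
  have i1 : BasedFunctor.comp eA (BasedFunctor.comp (BasedFunctor.comp Φ e) (BasedFunctor.comp ei eB)) ≅
      BasedFunctor.comp eA (BasedFunctor.comp Φ eB) :=
    whiskerLeftIso eA (whiskerLeftIso Φ (whiskerRightIso α eB))
  rwa [spMapOf_congr i1]

theorem PT.of_comp_equiv {ℬ' : BasedCategory.{v₃, w₃} (Over S)} (e : ℬ ⥤ᵇ ℬ')
    (he : FibCat.IsEquivOver e) {Φ : 𝒜 ⥤ᵇ ℬ} (h : PT P (BasedFunctor.comp Φ e)) : PT P Φ := by
  obtain ⟨ei, ⟨α⟩, ⟨α'⟩⟩ := he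
  have h1 := PT.comp_equiv ei ⟨e, ⟨α'⟩, ⟨α⟩⟩ h
  exact PT.of_iso (whiskerLeftIso Φ α) h1

theorem pt_ofSpMap {F G : AlgSp.Space S} (a : F.obj ⟶ G.obj) (h : P a) : PT P (AlgSt.ofSpMap a) := by
  refine ⟨F, G, BasedFunctor.id _, BasedFunctor.id _, isEquivOver_id _, isEquivOver_id _, ?_⟩
  have : spMapOf (BasedFunctor.comp (BasedFunctor.id _)
      (BasedFunctor.comp (AlgSt.ofSpMap a) (BasedFunctor.id _))) = a :=
    (spMapOf_congr (Iso.refl _)).trans (spMapOf_ofSpMap a)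
  rwa [this]

theorem pt_ofSpMap_iff (hPi : (Phat P).RespectsIso) {F G : AlgSp.Space S} (a : F.obj ⟶ G.obj) :
    PT P (AlgSt.ofSpMap a) ↔ P a := by
  refine ⟨fun h => ?_, pt_ofSpMap a⟩
  have := h.forall hPi F G (BasedFunctor.id _) (BasedFunctor.id _) (isEquivOver_id _)
    (isEquivOver_id _)
  have e : spMapOf (BasedFunctor.comp (BasedFunctor.id _)
      (BasedFunctor.comp (AlgSt.ofSpMap a) (BasedFunctor.id _))) = a :=
    (spMapOf_congr (Iso.refl _)).trans (spMapOf_ofSpMap a)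
  rwa [e] at this

theorem pt_overMap_iff (hPi : (Phat P).RespectsIso) {U V : Over S} (h : U ⟶ V) :
    PT P (AlgSt.overMap h) ↔ P ((AlgSp.yon S).map h) := by
  rw [← pt_ofSpMap_iff hPi (F := ⟨(AlgSp.yon S).obj U, AlgSp.IsAlgSpace.yon_obj U⟩)
    (G := ⟨(AlgSp.yon S).obj V, AlgSp.IsAlgSpace.yon_obj V⟩)]
  constructor
  · intro h1
    have h2 := PT.comp_equiv (AlgSt.ofOverCat V) (isEquivOver_ofOverCat V)
      (PT.equiv_comp (AlgSt.toOverCat U) (isEquivOver_toOverCat U) h1)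
    exact PT.of_iso (Iso.refl _) h2
  · intro h1
    have h2 := PT.comp_equiv (AlgSt.toOverCat V) (isEquivOver_toOverCat V)
      (PT.equiv_comp (AlgSt.ofOverCat U) (isEquivOver_ofOverCat U) h1)
    exact PT.of_iso (Iso.refl _) h2


/-- the sheaf map of a transported functor with a nice property has the property -/
theorem q_spMapOf_of_repByAlgSpWith {𝒜' : BasedCategory.{v₃, w₃} (Over S)}
    (Q : MorphismProperty (AlgSp.Sp S)) (hQ : Nice Q) (Ψ : 𝒜' ⥤ᵇ 𝒜)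
    (hΨ : AlgSt.RepByAlgSpWith Q Ψ) {F' F : AlgSp.Space S} (e' : AlgSt.ofSp F'.obj ⥤ᵇ 𝒜')
    (ei : 𝒜 ⥤ᵇ AlgSt.ofSp F.obj) (he' : FibCat.IsEquivOver e') (hei : FibCat.IsEquivOver ei) :
    Q (spMapOf (BasedFunctor.comp e' (BasedFunctor.comp Ψ ei))) :=
  P_spMapOf_of_repByAlgSpWith' Q hQ _
    ((repByAlgSpWith_equiv_comp Q e' _ he').2 (repByAlgSpWith_comp_equiv Q Ψ ei hei hΨ))

variable (hP : AlgSp.IsSmoothLocalST P)
include hP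

/-- precomposition with a smooth functor -/
theorem PT.smooth_comp {𝒜' : BasedCategory.{v₃, w₃} (Over S)} (h𝒜' : AlgSt.RepByAlgSp 𝒜')
    (Ψ : 𝒜' ⥤ᵇ 𝒜) (hΨ : AlgSt.RepByAlgSpWith (AlgSp.LocP @Smooth) Ψ) {Φ : 𝒜 ⥤ᵇ ℬ}
    (h : PT P Φ) : PT P (BasedFunctor.comp Ψ Φ) := by
  obtain ⟨F, G, eA, eB, hA, hB, hp⟩ := h
  obtain ⟨F', e', he'⟩ := h𝒜'
  obtain ⟨eAi, ⟨α⟩, ⟨α'⟩⟩ := hA
  refine ⟨F', G, e', eB, he', hB, ?_⟩
  have hs := q_spMapOf_of_repByAlgSpWith _ good_smooth.nice Ψ hΨ e' eAi he' ⟨eA, ⟨α'⟩, ⟨α⟩⟩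
  have i1 : BasedFunctor.comp e' (BasedFunctor.comp (BasedFunctor.comp Ψ Φ) eB) ≅
      BasedFunctor.comp (BasedFunctor.comp e' (BasedFunctor.comp Ψ eAi))
        (BasedFunctor.comp eA (BasedFunctor.comp Φ eB)) :=
    (whiskerLeftIso e' (whiskerLeftIso Ψ (whiskerRightIso α' (BasedFunctor.comp Φ eB)))).symm
  rw [spMapOf_congr i1, spMapOf_comp]
  exact hP.precomp F'.property F.property G.property _ _ hs hp

/-- descent along a smooth surjective functor to the source -/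
theorem PT.of_smooth_surjective_comp {𝒜' : BasedCategory.{v₃, w₃} (Over S)}
    (h𝒜 : AlgSt.RepByAlgSp 𝒜)
    (Ψ : 𝒜' ⥤ᵇ 𝒜) (hΨ : AlgSt.RepByAlgSpWith (AlgSp.LocP @Smooth) Ψ)
    (hΨ' : AlgSt.RepByAlgSpWith AlgSp.IsSurjectiveMor Ψ) {Φ : 𝒜 ⥤ᵇ ℬ}
    (h : PT P (BasedFunctor.comp Ψ Φ)) : PT P Φ := by
  obtain ⟨F', G, e', eB, he', hB, hp⟩ := h
  obtain ⟨F, eA, hA⟩ := h𝒜
  obtain ⟨eAi, ⟨α⟩, ⟨α'⟩⟩ := hA
  refine ⟨F, G, eA, eB, ⟨eAi, ⟨α⟩, ⟨α'⟩⟩, hB, ?_⟩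
  have hs := q_spMapOf_of_repByAlgSpWith _ good_smooth.nice Ψ hΨ e' eAi he' ⟨eA, ⟨α'⟩, ⟨α⟩⟩
  have hs' := q_spMapOf_of_repByAlgSpWith _ good_isSurjectiveMor.nice Ψ hΨ' e' eAi he'
    ⟨eA, ⟨α'⟩, ⟨α⟩⟩
  have i1 : BasedFunctor.comp e' (BasedFunctor.comp (BasedFunctor.comp Ψ Φ) eB) ≅
      BasedFunctor.comp (BasedFunctor.comp e' (BasedFunctor.comp Ψ eAi))
        (BasedFunctor.comp eA (BasedFunctor.comp Φ eB)) :=
    (whiskerLeftIso e' (whiskerLeftIso Ψ (whiskerRightIso α' (BasedFunctor.comp Φ eB)))).symm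
  rw [spMapOf_congr i1, spMapOf_comp] at hp
  exact Groth.Agent.Lib.Helper24.AlgStLocQ1.of_smooth_surjective_comp hP F'.property F.property
    G.property _ _ hs hs' hp

/-- postcomposition with a smooth functor -/
theorem PT.comp_smooth {ℬ' : BasedCategory.{v₃, w₃} (Over S)} (hℬ' : AlgSt.RepByAlgSp ℬ')
    (β : ℬ ⥤ᵇ ℬ') (hβ : AlgSt.RepByAlgSpWith (AlgSp.LocP @Smooth) β) {Φ : 𝒜 ⥤ᵇ ℬ}
    (h : PT P Φ) : PT P (BasedFunctor.comp Φ β) := by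
  obtain ⟨F, G, eA, eB, hA, hB, hp⟩ := h
  obtain ⟨G', e', he'⟩ := hℬ'
  obtain ⟨eBi, ⟨b⟩, ⟨b'⟩⟩ := hB
  obtain ⟨e'i, ⟨c⟩, ⟨c'⟩⟩ := he'
  refine ⟨F, G', eA, e'i, hA, ⟨e', ⟨c'⟩, ⟨c⟩⟩, ?_⟩
  have hs := q_spMapOf_of_repByAlgSpWith _ good_smooth.nice β hβ eBi e'i ⟨eB, ⟨b'⟩, ⟨b⟩⟩
    ⟨e', ⟨c'⟩, ⟨c⟩⟩
  have i1 : BasedFunctor.comp eA (BasedFunctor.comp (BasedFunctor.comp Φ β) e'i) ≅
      BasedFunctor.comp (BasedFunctor.comp eA (BasedFunctor.comp Φ eB))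
        (BasedFunctor.comp eBi (BasedFunctor.comp β e'i)) :=
    (whiskerLeftIso eA (whiskerLeftIso Φ (whiskerRightIso b (BasedFunctor.comp β e'i)))).symm
  rw [spMapOf_congr i1, spMapOf_comp]
  exact Groth.Agent.Lib.Helper24.AlgStLocQ1.comp_smooth hP F.property G.property G'.property _ _
    hs hp


/-- smooth base change -/
theorem PT.fpFst {ℬ' : BasedCategory.{v₃, w₃} (Over S)} (hℬ' : AlgSt.RepByAlgSp ℬ')
    (β : ℬ' ⥤ᵇ ℬ) (hβ : AlgSt.RepByAlgSpWith (AlgSp.LocP @Smooth) β) {Φ : 𝒜 ⥤ᵇ ℬ}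
    (h : PT P Φ) : PT P (FibCat.fpFst β Φ) := by
  obtain ⟨F, G, eA, eB, hA, hB, hp⟩ := h
  obtain ⟨G', e', he'⟩ := hℬ'
  have hbb := q_spMapOf_of_repByAlgSpWith _ good_smooth.nice β hβ e' eB he' hB
  obtain ⟨eBi, ⟨b⟩, ⟨b'⟩⟩ := hB
  obtain ⟨e'i, ⟨c⟩, ⟨c'⟩⟩ := he'
  obtain ⟨φ, hφ⟩ : ∃ φ : F.obj ⟶ G.obj,
      φ = spMapOf (BasedFunctor.comp eA (BasedFunctor.comp Φ eB)) := ⟨_, rfl⟩
  obtain ⟨bb, hbb'⟩ : ∃ bb : G'.obj ⟶ G.obj,
      bb = spMapOf (BasedFunctor.comp e' (BasedFunctor.comp β eB)) := ⟨_, rfl⟩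
  rw [← hφ] at hp
  rw [← hbb'] at hbb
  have sq := IsPullback.of_hasPullback φ bb
  have hX : AlgSp.IsAlgSpace (pullback φ bb) :=
    Groth.Agent.Lib.Helper14.AS.isAlgSpace_of_isPullback
      (Groth.Agent.Lib.Helper14.AS.repDiag_of_isAlgSpace G.property) F.property G'.property sq
  have hsnd : P (pullback.snd φ bb) :=
    hP.baseChange F.property G.property hX G'.property φ bb _ _ sq hbb hp
  let X : AlgSp.Space S := ⟨pullback φ bb, hX⟩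
  have c0 := eqvOver_of_isPullback sq
  obtain ⟨⟨_, _⟩, -⟩ := props_of_isEquivOver eBi ⟨eB, ⟨b'⟩, ⟨b⟩⟩
  let eF : BasedFunctor.comp (AlgSt.ofSpMap bb) eBi ≅ BasedFunctor.comp e' β := by
    subst hbb'
    exact (whiskerRightIso (isoOfPshMap (BasedFunctor.comp e' (BasedFunctor.comp β eB))).symm
      eBi).trans (whiskerLeftIso e' (whiskerLeftIso β b))
  let eG : BasedFunctor.comp (AlgSt.ofSpMap φ) eBi ≅ BasedFunctor.comp eA Φ := by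
    subst hφ
    exact (whiskerRightIso (isoOfPshMap (BasedFunctor.comp eA (BasedFunctor.comp Φ eB))).symm
      eBi).trans (whiskerLeftIso eA (whiskerLeftIso Φ b))
  have hk := isEquivOver_fpMap e' eA eBi eF eG ⟨e'i, ⟨c⟩, ⟨c'⟩⟩ hA
  obtain ⟨k0, hk0, ⟨i0⟩⟩ := c0
  refine ⟨X, G', BasedFunctor.comp k0 (fpMap e' eA eBi eF eG), e'i,
    isEquivOver_comp _ _ hk0 hk, ⟨e', ⟨c'⟩, ⟨c⟩⟩, ?_⟩
  have i1 : BasedFunctor.comp (BasedFunctor.comp k0 (fpMap e' eA eBi eF eG))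
      (BasedFunctor.comp (FibCat.fpFst β Φ) e'i) ≅ AlgSt.ofSpMap (pullback.snd φ bb) :=
    ((whiskerRightIso i0 (BasedFunctor.comp e' e'i) : _)).trans
      (whiskerLeftIso (AlgSt.ofSpMap (pullback.snd φ bb)) c)
  rw [spMapOf_congr i1, spMapOf_ofSpMap]
  exact hsnd

end PT

end Groth.Agent.Lib.Helper24.AlgStLocQ1
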