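import Groth.Agent.Lib.Helper24.AlgStLocQ9
set_option autoImplicit false
open CategoryTheory AlgebraicGeometry Opposite
universe w₁ v₁ w₂ v₂ w₃ v₃ w₄ v₄ u
set_option backward.isDefEq.respectTransparency false
set_option backward.isDefEq.respectTransparency.types false

/-! Base change of `LocQ` (smooth base change; arbitrary base change for `P` stable under base
change); the diagonal of a morphism locally of finite type (S13006). -/

namespace Groth.Agent.Lib.Helper24.AlgStLocQ10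
open Groth.Agent.Lib.Helper24.FibCatFpMap
open Groth.Agent.Lib.Helper24.FibCatEquiv Groth.Agent.Lib.Helper24.FibCatFpGen
open Groth.Agent.Lib.Helper24.AlgStRep
open Groth.Agent.Lib.Helper24.AlgStBridge Groth.Agent.Lib.Helper24.AlgStBoot
open Groth.Agent.Lib.Helper24.AlgStRepS
open Groth.Agent.Lib.Helper24.AlgStSchLocal
open Groth.Agent.Lib.Helper24.AlgStGC
open Groth.Agent.Lib.Helper24.AlgStProps Groth.Agent.Lib.Helper24.AlgStSmooth
open Groth.Agent.Lib.Helper24.AlgStFpAlg Groth.Agent.Lib.Helper24.AlgStSmLoc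
open Groth.Agent.Lib.Helper24.AlgStEqv Groth.Agent.Lib.Helper24.PshBridge
open Groth.Agent.Lib.Helper24.AlgStLocQ1 Groth.Agent.Lib.Helper24.FibCatFpMapL
open Groth.Agent.Lib.Helper24.AlgStLocQ2 Groth.Agent.Lib.Helper24.FibCatFpLiftIso
open Groth.Agent.Lib.Helper24.AlgStLocQ3 Groth.Agent.Lib.Helper24.AlgStProdAlg
open Groth.Agent.Lib.Helper24.AlgStLocQ4 Groth.Agent.Lib.Helper24.AlgStLocQ5
open Groth.Agent.Lib.Helper24.AlgStLocQ6 Groth.Agent.Lib.Helper24.AlgStLocQ7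
open Groth.Agent.Lib.Helper24.AlgStLocQ8 Groth.Agent.Lib.Helper24.AlgStLocQ9
open Groth.Agent.Lib.Helper24.AlgStCalc Groth.Agent.Lib.Helper24.AlgStDiag
open Groth.Agent.Lib.Helper24.AlgStCalc2 Groth.Agent.Lib.Helper24.AlgStDescent
open Groth.Agent.Lib.Helper24.FibCatOverMap Groth.Agent.Lib.Helper24.AlgStAtlas
open Groth.Agent.Lib.Helper24.FibCatGraph Groth.Agent.Lib.Helper24.AlgStDiagLft
open Groth.Agent.Lib.Helper24.FibCatFpSwap Groth.Agent.Lib.Helper24.AlgStProd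
open Groth.Agent.Lib.Helper24.AlgSpSmLocal
open CategoryTheory.Limits

variable {S : Scheme.{u}}

section PTbc
variable {𝒜 : BasedCategory.{v₁, w₁} (Over S)} {ℬ : BasedCategory.{v₂, w₂} (Over S)}
  {ℬ' : BasedCategory.{v₃, w₃} (Over S)}
variable {P : MorphismProperty (AlgSp.Sp S)}

/-- base change of `PT` for `P` stable under base change -/
theorem PT.fpFst_bc (hPi : (Phat P).RespectsIso) (hPb : StableBC P)
    (hℬ' : AlgSt.RepByAlgSp ℬ') (β : ℬ' ⥤ᵇ ℬ) {Φ : 𝒜 ⥤ᵇ ℬ} (h : PT P Φ) :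
    PT P (FibCat.fpFst β Φ) := by
  obtain ⟨F, G, eA, eB, hA, hB, hp⟩ := h
  obtain ⟨G', e', he'⟩ := hℬ'
  rw [pt_fpFst_iff hPi eA eB e' hA hB he' β Φ]
  have sq := IsPullback.of_hasPullback (spMapOf (BasedFunctor.comp eA (BasedFunctor.comp Φ eB)))
    (spMapOf (BasedFunctor.comp e' (BasedFunctor.comp β eB)))
  have hX := Groth.Agent.Lib.Helper14.AS.isAlgSpace_of_isPullback
      (Groth.Agent.Lib.Helper14.AS.repDiag_of_isAlgSpace G.property) F.property G'.property sq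
  exact hPb F.property G.property hX G'.property _ _ _ _ sq hp

end PTbc

section BC
variable {P : MorphismProperty (AlgSp.Sp S)}
variable {𝒳 𝒴 : AlgSt.Cat S} (h𝒳 : AlgSt.IsAlgStack Scheme.fppfPrecoverage 𝒳)
  (h𝒴 : AlgSt.IsAlgStack Scheme.fppfPrecoverage 𝒴) (f : 𝒳 ⥤ᵇ 𝒴)

include h𝒳 h𝒴 in
/-- smooth base change of `LocQ` -/
theorem locQ_fpFst_of_smooth (hP : AlgSp.IsSmoothLocalST P) {𝒯 : AlgSt.Cat S}
    (h𝒯 : AlgSt.IsAlgStack Scheme.fppfPrecoverage 𝒯) (t : 𝒯 ⥤ᵇ 𝒴)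
    (ht : AlgSt.RepByAlgSpWith (AlgSp.LocP @Smooth) t) (H : AlgSt.LocQ P f) :
    AlgSt.LocQ P (FibCat.fpFst t f) := by
  obtain ⟨V, v, hv, hv'⟩ := h𝒯.atlas
  have hfV : FibCat.IsFibGrpd (FibCat.overCat V).p := StkFpCrit.isFibGrpd_overForget V
  have hf𝒳 := h𝒳.isStack.1
  have hf𝒴 := h𝒴.isStack.1
  have hf𝒯 := h𝒯.isStack.1
  have hy : AlgSt.RepByAlgSpWith (AlgSp.LocP @Smooth) (BasedFunctor.comp v t) :=
    repByAlgSpWith_comp hfV hf𝒯 hf𝒴 _ good_smooth.nice stableComp_smooth _ _ hv ht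
  obtain ⟨U, c, hc, hc', -⟩ :=
    exists_square_gen h𝒳 h𝒴 f (repByAlgSp_overCat V) (BasedFunctor.comp v t) hy
  have hfU : FibCat.IsFibGrpd (FibCat.overCat U).p := StkFpCrit.isFibGrpd_overForget U
  have hpt := pt_of_locQ h𝒳 h𝒴 f hP H (repByAlgSp_overCat U) (repByAlgSp_overCat V)
    (BasedFunctor.comp v t) hy c hc
  have hfp : AlgSt.IsAlgStack Scheme.fppfPrecoverage (FibCat.fp t f) :=
    isAlgStack_fp h𝒴.isStack h𝒴.diag h𝒯 h𝒳 t f
  let m : FibCat.fp f (BasedFunctor.comp v t) ⥤ᵇ FibCat.fp t f :=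
    BasedFunctor.comp (mapR v t f) (swap f t)
  have hm : AlgSt.RepByAlgSpWith (AlgSp.LocP @Smooth) m :=
    repByAlgSpWith_comp_equiv _ _ _ (isEquivOver_swap f t) (repByAlgSpWith_mapR _ v t f hv)
  have hm' : AlgSt.RepByAlgSpWith AlgSp.IsSurjectiveMor m :=
    repByAlgSpWith_comp_equiv _ _ _ (isEquivOver_swap f t) (repByAlgSpWith_mapR _ v t f hv')
  have hf1 : FibCat.IsFibGrpd (FibCat.fp f (BasedFunctor.comp v t)).p :=
    isFibGrpd_fp _ _ hf𝒳 hfV hf𝒴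
  refine locQ_of_PT_witness hfp h𝒯 (FibCat.fpFst t f) hP (repByAlgSp_overCat U)
    (repByAlgSp_overCat V) (BasedFunctor.comp c m) v
    (BasedFunctor.comp c (FibCat.fpSnd f (BasedFunctor.comp v t))) (Iso.refl _) ?_ ?_ hv hpt
  · exact repByAlgSpWith_comp hfU hf1 hfp.isStack.1 _ good_smooth.nice stableComp_smooth _ _ hc hm
  · exact repByAlgSpWith_comp hfU hf1 hfp.isStack.1 _ good_isSurjectiveMor.nice
      stableComp_isSurjectiveMor _ _ hc' hm'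

/-- base change of `LocQ` for a morphism to a category representable by an algebraic space -/
theorem locQ_fpFst_rep (hP : AlgSp.IsSmoothLocalST P) (hPb : StableBC P) {ℱ ℬ 𝒲 : AlgSt.Cat S}
    (hℱ : AlgSt.IsAlgStack Scheme.fppfPrecoverage ℱ) (hℬ : AlgSt.RepByAlgSp ℬ)
    (h𝒲 : AlgSt.RepByAlgSp 𝒲) (φ : ℱ ⥤ᵇ ℬ) (Ψ : 𝒲 ⥤ᵇ ℬ) (H : AlgSt.LocQ P φ) :
    AlgSt.LocQ P (FibCat.fpFst Ψ φ) := by
  have hPi := phat_respectsIso' hP
  have hℬalg := isAlgStack_of_repByAlgSp hℬ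
  have h𝒲alg := isAlgStack_of_repByAlgSp h𝒲
  obtain ⟨U, c, hc, hc'⟩ := hℱ.atlas
  have hfU : FibCat.IsFibGrpd (FibCat.overCat U).p := StkFpCrit.isFibGrpd_overForget U
  have hc1 : AlgSt.RepByAlgSpWith (AlgSp.LocP @Smooth) (BasedFunctor.comp c (graphEquiv φ)) :=
    repByAlgSpWith_comp_equiv _ c _ (isEquivOver_graphEquiv φ) hc
  have h0 := pt_of_locQ hℱ hℬalg φ hP H (repByAlgSp_overCat U) hℬ
      (BasedFunctor.id ℬ) (smooth_of_isEquivOver _ (isEquivOver_id _)) _ hc1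
  have i0 : BasedFunctor.comp (BasedFunctor.comp c (graphEquiv φ))
      (FibCat.fpSnd φ (BasedFunctor.id ℬ)) ≅ BasedFunctor.comp c φ := Iso.refl _
  have h1 : PT P (BasedFunctor.comp c φ) := PT.of_iso i0 h0
  have h2 : PT P (FibCat.fpFst Ψ (BasedFunctor.comp c φ)) := PT.fpFst_bc hPi hPb h𝒲 Ψ h1
  have hfp : AlgSt.IsAlgStack Scheme.fppfPrecoverage (FibCat.fp Ψ φ) :=
    isAlgStack_fp hℬalg.isStack hℬalg.diag h𝒲alg hℱ Ψ φ
  have hrep : AlgSt.RepByAlgSp (FibCat.fp Ψ (BasedFunctor.comp c φ)) :=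
    repByAlgSp1_of_diag hℬalg.isStack.1 hℬalg.diag h𝒲alg.isStack.1 hfU h𝒲
      (repByAlgSp_overCat U) Ψ (BasedFunctor.comp c φ)
  have i1 : BasedFunctor.comp (mapR c φ Ψ) (FibCat.fpFst Ψ φ) ≅
      BasedFunctor.comp (FibCat.fpFst Ψ (BasedFunctor.comp c φ)) (BasedFunctor.id 𝒲) := Iso.refl _
  exact locQ_of_PT_witness hfp h𝒲alg (FibCat.fpFst Ψ φ) hP hrep h𝒲 (mapR c φ Ψ)
    (BasedFunctor.id 𝒲) (FibCat.fpFst Ψ (BasedFunctor.comp c φ)) i1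
    (repByAlgSpWith_mapR _ c φ Ψ hc) (repByAlgSpWith_mapR _ c φ Ψ hc')
    (smooth_of_isEquivOver _ (isEquivOver_id _)) h2

include h𝒳 h𝒴 in
/-- base change of `LocQ`, for `P` stable under base change -/
theorem locQ_fpFst (hP : AlgSp.IsSmoothLocalST P) (hPb : StableBC P) {𝒵 : AlgSt.Cat S}
    (h𝒵 : AlgSt.IsAlgStack Scheme.fppfPrecoverage 𝒵) (g : 𝒵 ⥤ᵇ 𝒴) (H : AlgSt.LocQ P f) :
    AlgSt.LocQ P (FibCat.fpFst g f) := by
  obtain ⟨V, y, hy, hy'⟩ := h𝒴.atlas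
  have hfV : FibCat.IsFibGrpd (FibCat.overCat V).p := StkFpCrit.isFibGrpd_overForget V
  have hValg : AlgSt.IsAlgStack Scheme.fppfPrecoverage (FibCat.overCat V) :=
    isAlgStack_of_repByAlgSp (repByAlgSp_overCat V)
  have hB : AlgSt.LocQ P (FibCat.fpFst y f) := locQ_fpFst_of_smooth h𝒳 h𝒴 f hP hValg y hy H
  have hgy : AlgSt.IsAlgStack Scheme.fppfPrecoverage (FibCat.fp g y) :=
    isAlgStack_fp h𝒴.isStack h𝒴.diag h𝒵 hValg g y
  have hyf : AlgSt.IsAlgStack Scheme.fppfPrecoverage (FibCat.fp y f) :=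
    isAlgStack_fp h𝒴.isStack h𝒴.diag hValg h𝒳 y f
  have hgf : AlgSt.IsAlgStack Scheme.fppfPrecoverage (FibCat.fp g f) :=
    isAlgStack_fp h𝒴.isStack h𝒴.diag h𝒵 h𝒳 g f
  obtain ⟨W, w, hw, hw'⟩ := hgy.atlas
  have hfW : FibCat.IsFibGrpd (FibCat.overCat W).p := StkFpCrit.isFibGrpd_overForget W
  let y' : FibCat.overCat W ⥤ᵇ 𝒵 := BasedFunctor.comp w (FibCat.fpFst g y)
  let Ψ : FibCat.overCat W ⥤ᵇ FibCat.overCat V := BasedFunctor.comp w (FibCat.fpSnd g y)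
  have hy'1 : AlgSt.RepByAlgSpWith (AlgSp.LocP @Smooth) y' :=
    repByAlgSpWith_comp hfW hgy.isStack.1 h𝒵.isStack.1 _ good_smooth.nice stableComp_smooth _ _ hw
      (repByAlgSpWith_fpFst _ y g hy)
  have hy'2 : AlgSt.RepByAlgSpWith AlgSp.IsSurjectiveMor y' :=
    repByAlgSpWith_comp hfW hgy.isStack.1 h𝒵.isStack.1 _ good_isSurjectiveMor.nice
      stableComp_isSurjectiveMor _ _ hw' (repByAlgSpWith_fpFst _ y g hy')
  have hC : AlgSt.LocQ P (FibCat.fpFst Ψ (FibCat.fpFst y f)) :=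
    locQ_fpFst_rep hP hPb hyf (repByAlgSp_overCat V) (repByAlgSp_overCat W) (FibCat.fpFst y f) Ψ hB
  have e1 : EqvOver (FibCat.fpFst Ψ (FibCat.fpFst y f)) (FibCat.fpFst (BasedFunctor.comp Ψ y) f) :=
    eqvOver_P f y Ψ
  have e2 : EqvOver (FibCat.fpFst (BasedFunctor.comp Ψ y) f)
      (FibCat.fpFst (BasedFunctor.comp y' g) f) :=
    eqvOver_fpFst_congr_left (whiskerLeftIso w (FibCat.fpIso g y).symm) f
  have e3 : EqvOver (FibCat.fpFst (BasedFunctor.comp y' g) f)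
      (FibCat.fpFst y' (FibCat.fpFst g f)) := (eqvOver_P f g y').symm
  have hD : AlgSt.LocQ P (FibCat.fpFst y' (FibCat.fpFst g f)) :=
    locQ_of_eqvOver (e1.trans (e2.trans e3)) hC
  exact locQ_of_fpFst hfW hgf.isStack.1 h𝒵.isStack.1 y' hy'1 hy'2 (FibCat.fpFst g f) hD

end BC

section Diag
variable {𝒳 𝒴 : AlgSt.Cat S} (h𝒳 : AlgSt.IsAlgStack Scheme.fppfPrecoverage 𝒳)
  (h𝒴 : AlgSt.IsAlgStack Scheme.fppfPrecoverage 𝒴) (f : 𝒳 ⥤ᵇ 𝒴)
open Groth.Agent.Lib.Helper14.AS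

include h𝒳 in
theorem locQ_id {P : MorphismProperty (AlgSp.Sp S)} (hP : AlgSp.IsSmoothLocalST P)
    (hid : HasIsos P) : AlgSt.LocQ P (BasedFunctor.id 𝒳) :=
  locQ_of_repByAlgSpWith h𝒳 h𝒳 _ hP (repByAlgSpWith_id P hid)

include h𝒳 h𝒴 in
/-- S13006 -/
theorem locQ_lfp_diag (H : AlgSt.LocQ (AlgSp.LocP @LocallyOfFiniteType) f) :
    AlgSt.LocQ (AlgSp.LocP @LocallyOfFinitePresentation) (FibCat.diag f) := by
  have hff : AlgSt.IsAlgStack Scheme.fppfPrecoverage (FibCat.fp f f) :=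
    isAlgStack_fp h𝒴.isStack h𝒴.diag h𝒳 h𝒳 f f
  have h1 : AlgSt.LocQ (AlgSp.LocP @LocallyOfFiniteType) (FibCat.fpFst f f) :=
    locQ_fpFst h𝒳 h𝒴 f isSmoothLocalST_lft good_lft.bc h𝒳 f H
  have i0 : BasedFunctor.id 𝒳 ≅ BasedFunctor.comp (FibCat.diag f) (FibCat.fpFst f f) := Iso.refl _
  have h2 : AlgSt.LocQ (AlgSp.LocP @LocallyOfFinitePresentation)
      (BasedFunctor.comp (FibCat.diag f) (FibCat.fpFst f f)) :=
    locQ_of_iso i0 (locQ_id h𝒳 isSmoothLocalST_lfp (hasIsos_locP etale_le_lfp))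
  exact locQ_lfp_of_comp h𝒳 hff h𝒳 (FibCat.diag f) (FibCat.fpFst f f) h2 h1

end Diag

end Groth.Agent.Lib.Helper24.AlgStLocQ10
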