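import Groth.Agent.Lib.Helper24.AlgStLocQ10
set_option autoImplicit false
open CategoryTheory AlgebraicGeometry Opposite
universe w₁ v₁ w₂ v₂ w₃ v₃ w₄ v₄ u
set_option backward.isDefEq.respectTransparency false
set_option backward.isDefEq.respectTransparency.types false

/-! Flat and locally finitely presented morphisms of algebraic stacks are open (S13008). -/

namespace Groth.Agent.Lib.Helper24.AlgStLocQ11
open Groth.Agent.Lib.Helper24.FibCatFpMap
open Groth.Agent.Lib.Helper24.FibCatEquiv Groth.Agent.Lib.Helper24.FibCatFpGen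
open Groth.Agent.Lib.Helper24.AlgStRep
open Groth.Agent.Lib.Helper24.AlgStBridge Groth.Agent.Lib.Helper24.AlgStBoot
open Groth.Agent.Lib.Helper24.AlgStRepS
open Groth.Agent.Lib.Helper24.AlgStSchLocal
open Groth.Agent.Lib.Helper24.AlgStGC
open Groth.Agent.Lib.Helper24.AlgStProps Groth.Agent.Lib.Helper24.AlgStSmooth
open Groth.Agent.Lib.Helper24.AlgStFpAlg Groth.Agent.Lib.Helper24.AlgStSmLoc
open Groth.Agent.Lib.Helper24.AlgStEqv Groth.Agent.Lib.Helper24.PshBridge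
open Groth.Agent.Lib.Helper24.AlgStLocQ1 Groth.Agent.Lib.Helper24.FibCatFpMapL
open Groth.Agent.Lib.Helper24.AlgStLocQ2 Groth.Agent.Lib.Helper24.FibCatFpLiftIso
open Groth.Agent.Lib.Helper24.AlgStLocQ3 Groth.Agent.Lib.Helper24.AlgStProdAlg
open Groth.Agent.Lib.Helper24.AlgStLocQ4 Groth.Agent.Lib.Helper24.AlgStLocQ5
open Groth.Agent.Lib.Helper24.AlgStLocQ6 Groth.Agent.Lib.Helper24.AlgStLocQ7
open Groth.Agent.Lib.Helper24.AlgStLocQ8 Groth.Agent.Lib.Helper24.AlgStLocQ9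
open Groth.Agent.Lib.Helper24.AlgStLocQ10
open Groth.Agent.Lib.Helper24.AlgStCalc Groth.Agent.Lib.Helper24.AlgStDiag
open Groth.Agent.Lib.Helper24.AlgStCalc2 Groth.Agent.Lib.Helper24.AlgStDescent
open Groth.Agent.Lib.Helper24.FibCatOverMap Groth.Agent.Lib.Helper24.AlgStAtlas
open Groth.Agent.Lib.Helper24.FibCatGraph Groth.Agent.Lib.Helper24.AlgStDiagLft
open Groth.Agent.Lib.Helper24.FibCatFpSwap Groth.Agent.Lib.Helper24.AlgStProd
open Groth.Agent.Lib.Helper24.AlgSpSmLocal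
open Groth.Agent.Lib.Helper24.AlgStPts1 Groth.Agent.Lib.Helper24.AlgStPts4
open Groth.Agent.Lib.Helper24.AlgStPts5
open CategoryTheory.Limits AlgSt

variable {S : Scheme.{u}}
variable {𝒳 𝒴 : AlgSt.Cat S} (h𝒳 : AlgSt.IsAlgStack Scheme.fppfPrecoverage 𝒳)
  (h𝒴 : AlgSt.IsAlgStack Scheme.fppfPrecoverage 𝒴) (f : 𝒳 ⥤ᵇ 𝒴)

include h𝒳 h𝒴 in
/-- S13008 -/
theorem isOpenMor_of_locQ_flat_lfp (hf₁ : AlgSt.LocQ (AlgSp.LocP @Flat) f)
    (hf₂ : AlgSt.LocQ (AlgSp.LocP @LocallyOfFinitePresentation) f) : AlgSt.IsOpenMor f := by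
  obtain ⟨V, y, hy, hy'⟩ := h𝒴.atlas
  obtain ⟨U, x, h, α, hx, hℓ, -, hxs⟩ := exists_square h𝒳 h𝒴 f y hy
  have hx' := hxs hy'
  have h1 : Flat h.left := AlgSp.locP_yon_map
    ((locQ_iff_forall h𝒳 h𝒴 f isSmoothLocalST_flat).1 hf₁ U V x y h α hx hy hℓ)
  have h2 : LocallyOfFinitePresentation h.left := AlgSp.locP_yon_map
    ((locQ_iff_forall h𝒳 h𝒴 f isSmoothLocalST_lfp).1 hf₂ U V x y h α hx hy hℓ)
  have hho : IsOpenMap h.left := by
    have : UniversallyOpen h.left := UniversallyOpen.of_flat h.left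
    exact h.left.isOpenMap
  have hyo : IsOpenMap (Points.ofChart y) :=
    isOpenMap_ofChart h𝒴 y (repByAlgSpWith_locP_mono AlgStDiagLft.smooth_le_flat y hy)
      (repByAlgSpWith_locP_mono AlgStDiagLft.smooth_le_lfp y hy)
  have hxc : Continuous (Points.ofChart x) := continuous_ofChart h𝒳 x
  have hxsurj : Function.Surjective (Points.ofChart x) := surjective_ofChart h𝒳.isStack.1 x hx'
  have nat : ∀ u, Points.map f (Points.ofChart x u) = Points.ofChart y (h.left u) := by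
    intro u
    rw [← ofChart_comp, ofChart_congr α, ofChart_overMap]
  intro O hO
  have e : Points.map f '' O = Points.ofChart y '' (h.left '' (Points.ofChart x ⁻¹' O)) := by
    apply Set.Subset.antisymm
    · rintro _ ⟨p, hp, rfl⟩
      obtain ⟨u, rfl⟩ := hxsurj p
      exact ⟨h.left u, ⟨u, hp, rfl⟩, (nat u).symm⟩
    · rintro _ ⟨_, ⟨u, hu, rfl⟩, rfl⟩
      exact ⟨Points.ofChart x u, hu, nat u⟩
  rw [e]
  exact hyo _ (hho _ (hO.preimage hxc))

end Groth.Agent.Lib.Helper24.AlgStLocQ11
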