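import Groth.Agent.Lib.Helper24.AlgStPts7
import Mathlib.AlgebraicGeometry.Noetherian
set_option autoImplicit false
open CategoryTheory AlgebraicGeometry Opposite TopologicalSpace
universe w₁ v₁ w₂ v₂ w₃ v₃ u
set_option backward.isDefEq.respectTransparency false
set_option backward.isDefEq.respectTransparency.types false

/-! Topology of the space of points of a locally Noetherian algebraic stack. -/

noncomputable section

namespace Groth.Agent.Lib.Helper24.AlgStNoeth
open AlgSt Groth.Agent.Lib.Helper24.AlgStPts1 Groth.Agent.Lib.Helper24.AlgStPts2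
open Groth.Agent.Lib.Helper24.AlgStPts3 Groth.Agent.Lib.Helper24.AlgStPts4
open Groth.Agent.Lib.Helper24.AlgStPts5 Groth.Agent.Lib.Helper24.AlgStPts6
open Groth.Agent.Lib.Helper24.AlgStPts7
open Groth.Agent.Lib.Helper24.AlgStDiagLft

section Top

variable {X Y : Type*} [TopologicalSpace X] [TopologicalSpace Y]

/-- image of a Noetherian subspace under a continuous map is a Noetherian subspace -/
theorem noetherianSpace_image {f : X → Y} (hf : Continuous f) (V : Set X) [NoetherianSpace V] :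
    NoetherianSpace (f '' V) := by
  rw [noetherianSpace_set_iff]
  intro t ht
  have h1 : t = f '' (V ∩ f ⁻¹' t) := by
    ext y
    constructor
    · intro hy
      obtain ⟨x, hx, rfl⟩ := ht hy
      exact ⟨x, ⟨hx, hy⟩, rfl⟩
    · rintro ⟨x, ⟨-, hx⟩, rfl⟩
      exact hx
  rw [h1]
  exact (((noetherianSpace_set_iff V).mp inferInstance _ Set.inter_subset_left)).image hf

/-- open continuous surjective image of a locally Noetherian quasi-sober space is quasi-sober -/
theorem quasiSober_of_open_surjective {f : X → Y} (hf : Continuous f) (hfo : IsOpenMap f)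
    (hfs : Function.Surjective f) [QuasiSober X]
    (hX : ∀ x : X, ∃ V : Set X, IsOpen V ∧ x ∈ V ∧ NoetherianSpace V) : QuasiSober Y := by
  constructor
  intro T hTi hTc
  obtain ⟨t, ht⟩ := hTi.1
  obtain ⟨x, rfl⟩ := hfs t
  obtain ⟨V, hVo, hxV, hVn⟩ := hX x
  -- W := V ∩ f⁻¹ T as closed subset of V
  let W : Set V := Subtype.val ⁻¹' (f ⁻¹' T)
  have hWc : IsClosed W := (hTc.preimage hf).preimage continuous_subtype_val
  obtain ⟨Sset, hfin, hcl, hirr, hW⟩ := NoetherianSpace.exists_finite_set_isClosed_irreducible hWc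
  -- T ∩ f(V) ⊆ ⋃ closure (f '' (val '' Z))
  have hTV : T ∩ f '' V ⊆ ⋃₀ ((fun Z : Set V => closure (f '' (Subtype.val '' Z))) '' Sset) := by
    rintro y ⟨hyT, v, hv, rfl⟩
    have : (⟨v, hv⟩ : V) ∈ W := hyT
    rw [hW] at this
    obtain ⟨Z, hZ, hvZ⟩ := this
    exact ⟨_, ⟨Z, hZ, rfl⟩, subset_closure ⟨v, ⟨⟨v, hv⟩, hvZ, rfl⟩, rfl⟩⟩
  have hTsub : T ⊆ ⋃₀ ((fun Z : Set V => closure (f '' (Subtype.val '' Z))) '' Sset) := by
    have hd : T ⊆ closure (T ∩ f '' V) := by
      exact subset_closure_inter_of_isPreirreducible_of_isOpen hTi.2 (hfo V hVo)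
        ⟨f x, ht, ⟨x, hxV, rfl⟩⟩
    refine hd.trans (closure_minimal hTV ?_)
    rw [Set.sUnion_image]
    exact hfin.isClosed_biUnion (fun Z _ => isClosed_closure)
  obtain ⟨C, hC, hTZ⟩ :=
    (isIrreducible_iff_sUnion_isClosed.mp hTi)
      (hfin.image (fun Z : Set V => closure (f '' (Subtype.val '' Z)))).toFinset
      (by intro z hz; rw [Set.Finite.mem_toFinset] at hz; obtain ⟨Z, -, rfl⟩ := hz
          exact isClosed_closure)
      (by rw [Set.Finite.coe_toFinset]; exact hTsub)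
  rw [Set.Finite.mem_toFinset] at hC
  obtain ⟨Z, hZ, rfl⟩ := hC
  · -- Z irreducible closed in V has generic point
    have hVqs : QuasiSober V := hVo.isOpenEmbedding_subtypeVal.quasiSober
    obtain ⟨ξ, hξ⟩ := QuasiSober.sober (hirr Z hZ) (hcl Z hZ)
    refine ⟨f ξ.1, ?_⟩
    have hZT : f '' (Subtype.val '' Z) ⊆ T := by
      rintro _ ⟨_, ⟨z, hz, rfl⟩, rfl⟩
      have : z ∈ W := by rw [hW]; exact ⟨Z, hZ, hz⟩
      exact this
    have hξZ : ξ ∈ Z := hξ.mem
    rw [IsGenericPoint]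
    apply subset_antisymm
    · exact closure_minimal (Set.singleton_subset_iff.mpr (hZT ⟨ξ.1, ⟨ξ, hξZ, rfl⟩, rfl⟩)) hTc
    · refine hTZ.trans (closure_minimal ?_ isClosed_closure)
      rintro _ ⟨_, ⟨z, hz, rfl⟩, rfl⟩
      -- z ∈ Z = closure {ξ} in V; so f z ∈ closure {f ξ}
      have hz' : z ∈ closure ({ξ} : Set V) := by rw [hξ.def]; exact hz
      have hc : Continuous (fun v : V => f v.1) := hf.comp continuous_subtype_val
      have := image_closure_subset_closure_image hc ⟨z, hz', rfl⟩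
      simpa using this

end Top

variable {S : Scheme.{u}}

/-- every point of a locally Noetherian scheme has a Noetherian open neighbourhood -/
theorem scheme_exists_noeth_nhds (X : Scheme.{u}) [IsLocallyNoetherian X] (x : X) :
    ∃ V : Set X, IsOpen V ∧ x ∈ V ∧ NoetherianSpace V := by
  obtain ⟨_, ⟨V, hV, rfl⟩, hxV, -⟩ :=
    (X.isBasis_affineOpens).exists_subset_of_mem_open (Set.mem_univ x) isOpen_univ
  have : IsNoetherianRing Γ(X, V) := IsLocallyNoetherian.component_noetherian ⟨V, hV⟩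
  exact ⟨V, V.isOpen, hxV, noetherianSpace_of_isAffineOpen V hV⟩

theorem atlas_flat_lfp {𝒳 : AlgSt.Cat S} {U : Over S} (a : FibCat.overCat U ⥤ᵇ 𝒳)
    (ha : AlgSt.RepByAlgSpWith (AlgSp.LocP @Smooth) a) :
    AlgSt.RepByAlgSpWith (AlgSp.LocP @Flat) a ∧
      AlgSt.RepByAlgSpWith (AlgSp.LocP @LocallyOfFinitePresentation) a :=
  ⟨repByAlgSpWith_locP_mono Groth.Agent.Lib.Helper24.AlgStDiagLft.smooth_le_flat a ha,
    repByAlgSpWith_locP_mono Groth.Agent.Lib.Helper24.AlgStDiagLft.smooth_le_lfp a ha⟩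

/-- S13019 -/
theorem exists_noeth_nhds {𝒳 : AlgSt.Cat S} (h𝒳 : AlgSt.IsAlgStack Scheme.fppfPrecoverage 𝒳)
    (hN : AlgSt.SmoothLocally (fun T ↦ IsLocallyNoetherian T) 𝒳) (x : AlgSt.Points 𝒳) :
    ∃ U : Set (AlgSt.Points 𝒳), IsOpen U ∧ x ∈ U ∧ NoetherianSpace U := by
  obtain ⟨U, a, ha1, ha2⟩ := h𝒳.atlas
  have hU : IsLocallyNoetherian U.left := hN U a ha1
  obtain ⟨u, rfl⟩ := surjective_ofChart h𝒳.isStack.1 a ha2 x
  obtain ⟨V, hVo, huV, hVn⟩ := scheme_exists_noeth_nhds U.left u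
  obtain ⟨h1, h2⟩ := atlas_flat_lfp a ha1
  exact ⟨Points.ofChart a '' V, isOpenMap_ofChart h𝒳 a h1 h2 V hVo, ⟨u, huV, rfl⟩,
    noetherianSpace_image (continuous_ofChart h𝒳 a) V⟩

/-- S13020 -/
theorem noetherianSpace_points {𝒳 : AlgSt.Cat S}
    (h𝒳 : AlgSt.IsAlgStack Scheme.fppfPrecoverage 𝒳) (hqc : AlgSt.IsQuasiCompact 𝒳)
    (hN : AlgSt.SmoothLocally (fun T ↦ IsLocallyNoetherian T) 𝒳) :
    NoetherianSpace (AlgSt.Points 𝒳) := by
  obtain ⟨U, a, hUa, ha1, ha2⟩ := hqc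
  have hU : IsLocallyNoetherian U.left := hN U a ha1
  have : IsNoetherianRing Γ(U.left, ⊤) :=
    IsLocallyNoetherian.component_noetherian ⟨⊤, isAffineOpen_top U.left⟩
  have : NoetherianSpace U.left := noetherianSpace_of_isAffine
  exact noetherianSpace_of_surjective _ (continuous_ofChart h𝒳 a)
    (surjective_ofChart h𝒳.isStack.1 a ha2)

/-- S13021 -/
theorem quasiSober_points {𝒳 : AlgSt.Cat S}
    (h𝒳 : AlgSt.IsAlgStack Scheme.fppfPrecoverage 𝒳)
    (hN : AlgSt.SmoothLocally (fun T ↦ IsLocallyNoetherian T) 𝒳) :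
    QuasiSober (AlgSt.Points 𝒳) := by
  obtain ⟨U, a, ha1, ha2⟩ := h𝒳.atlas
  have hU : IsLocallyNoetherian U.left := hN U a ha1
  obtain ⟨h1, h2⟩ := atlas_flat_lfp a ha1
  exact quasiSober_of_open_surjective (continuous_ofChart h𝒳 a) (isOpenMap_ofChart h𝒳 a h1 h2)
    (surjective_ofChart h𝒳.isStack.1 a ha2) (fun u => scheme_exists_noeth_nhds U.left u)

end Groth.Agent.Lib.Helper24.AlgStNoeth
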