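import Groth.Agent.Lib.Helper24.AlgStLocQ11
import Groth.Agent.Lib.Helper24.AlgStNoeth
set_option autoImplicit false
open CategoryTheory AlgebraicGeometry Opposite
universe w₁ v₁ w₂ v₂ w₃ v₃ w₄ v₄ u
set_option backward.isDefEq.respectTransparency false
set_option backward.isDefEq.respectTransparency.types false

/-! Charts of the fibre product over an arbitrary object of the target; fppf-local lifting along
jointly surjective flat lfp families (S13022). -/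

namespace Groth.Agent.Lib.Helper24.AlgStLocQ12
open Groth.Agent.Lib.Helper24.FibCatFpMap
open Groth.Agent.Lib.Helper24.FibCatEquiv Groth.Agent.Lib.Helper24.FibCatFpGen
open Groth.Agent.Lib.Helper24.AlgStRep
open Groth.Agent.Lib.Helper24.AlgStBridge Groth.Agent.Lib.Helper24.AlgStBoot
open Groth.Agent.Lib.Helper24.AlgStRepS
open Groth.Agent.Lib.Helper24.AlgStSchLocal
open Groth.Agent.Lib.Helper24.AlgStGC
open Groth.Agent.Lib.Helper24.AlgStProps Groth.Agent.Lib.Helper24.AlgStSmooth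
open Groth.Agent.Lib.Helper24.AlgStFpAlg Groth.Agent.Lib.Helper24.AlgStSmLoc
open Groth.Agent.Lib.Helper24.AlgStEqv Groth.Agent.Lib.Helper24.PshBridge
open Groth.Agent.Lib.Helper24.AlgStLocQ1 Groth.Agent.Lib.Helper24.FibCatFpMapL
open Groth.Agent.Lib.Helper24.AlgStLocQ2 Groth.Agent.Lib.Helper24.FibCatFpLiftIso
open Groth.Agent.Lib.Helper24.AlgStLocQ3 Groth.Agent.Lib.Helper24.AlgStProdAlg
open Groth.Agent.Lib.Helper24.AlgStLocQ4 Groth.Agent.Lib.Helper24.AlgStLocQ5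
open Groth.Agent.Lib.Helper24.AlgStLocQ6 Groth.Agent.Lib.Helper24.AlgStLocQ7
open Groth.Agent.Lib.Helper24.AlgStLocQ8 Groth.Agent.Lib.Helper24.AlgStLocQ9
open Groth.Agent.Lib.Helper24.AlgStLocQ10
open Groth.Agent.Lib.Helper24.AlgStCalc Groth.Agent.Lib.Helper24.AlgStDiag
open Groth.Agent.Lib.Helper24.AlgStCalc2 Groth.Agent.Lib.Helper24.AlgStDescent
open Groth.Agent.Lib.Helper24.FibCatOverMap Groth.Agent.Lib.Helper24.AlgStAtlas
open Groth.Agent.Lib.Helper24.FibCatGraph Groth.Agent.Lib.Helper24.AlgStDiagLft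
open Groth.Agent.Lib.Helper24.FibCatFpSwap Groth.Agent.Lib.Helper24.AlgStProd
open Groth.Agent.Lib.Helper24.AlgSpSmLocal
open Groth.Agent.Lib.Helper24.AlgStPts1 Groth.Agent.Lib.Helper24.AlgStPts3
open Groth.Agent.Lib.Helper24.AlgStPts5
open CategoryTheory.Limits AlgSt

variable {S : Scheme.{u}}

section Rep
variable {P : MorphismProperty (AlgSp.Sp S)}

/-- `LocQ P φ` for a morphism to a category representable by an algebraic space, read on a smooth
chart of the source -/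
theorem pt_chart_of_locQ_rep (hP : AlgSp.IsSmoothLocalST P) {ℱ ℬ 𝒜 : AlgSt.Cat S}
    (hℱ : AlgSt.IsAlgStack Scheme.fppfPrecoverage ℱ) (hℬ : AlgSt.RepByAlgSp ℬ)
    (h𝒜 : AlgSt.RepByAlgSp 𝒜) (φ : ℱ ⥤ᵇ ℬ) (H : AlgSt.LocQ P φ) (c : 𝒜 ⥤ᵇ ℱ)
    (hc : AlgSt.RepByAlgSpWith (AlgSp.LocP @Smooth) c) : PT P (BasedFunctor.comp c φ) := by
  have hℬalg := isAlgStack_of_repByAlgSp hℬ
  have hc1 : AlgSt.RepByAlgSpWith (AlgSp.LocP @Smooth) (BasedFunctor.comp c (graphEquiv φ)) :=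
    repByAlgSpWith_comp_equiv _ c _ (isEquivOver_graphEquiv φ) hc
  have h0 := pt_of_locQ hℱ hℬalg φ hP H h𝒜 hℬ
      (BasedFunctor.id ℬ) (smooth_of_isEquivOver _ (isEquivOver_id _)) _ hc1
  have i0 : BasedFunctor.comp (BasedFunctor.comp c (graphEquiv φ))
      (FibCat.fpSnd φ (BasedFunctor.id ℬ)) ≅ BasedFunctor.comp c φ := Iso.refl _
  exact PT.of_iso i0 h0

end Rep

section Any
variable {P : MorphismProperty (AlgSp.Sp S)}
variable {𝒳 𝒴 : AlgSt.Cat S} (h𝒳 : AlgSt.IsAlgStack Scheme.fppfPrecoverage 𝒳)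
  (h𝒴 : AlgSt.IsAlgStack Scheme.fppfPrecoverage 𝒴) (f : 𝒳 ⥤ᵇ 𝒴)

include h𝒳 h𝒴 in
/-- a chart square over an ARBITRARY object `y` of the target, with smooth surjective comparison -/
theorem exists_square_any {V : Over S} (y : FibCat.overCat V ⥤ᵇ 𝒴) :
    ∃ (U : Over S) (x : FibCat.overCat U ⥤ᵇ 𝒳) (h : U ⟶ V)
      (α : BasedFunctor.comp x f ≅ BasedFunctor.comp (AlgSt.overMap h) y),
      AlgSt.RepByAlgSpWith (AlgSp.LocP @Smooth) (FibCat.fpLift x (AlgSt.overMap h) α) ∧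
      AlgSt.RepByAlgSpWith AlgSp.IsSurjectiveMor (FibCat.fpLift x (AlgSt.overMap h) α) := by
  have hValg : AlgSt.IsAlgStack Scheme.fppfPrecoverage (FibCat.overCat V) :=
    isAlgStack_of_repByAlgSp (repByAlgSp_overCat V)
  have hfp : AlgSt.IsAlgStack Scheme.fppfPrecoverage (FibCat.fp f y) :=
    isAlgStack_fp h𝒴.isStack h𝒴.diag h𝒳 hValg f y
  obtain ⟨U, c, hc, hc'⟩ := hfp.atlas
  obtain ⟨g, ⟨i⟩⟩ := exists_iso_overMapC (BasedFunctor.comp c (FibCat.fpSnd f y))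
  refine ⟨U, BasedFunctor.comp c (FibCat.fpFst f y), g, liftE c (AlgSt.overMap g) i, ?_, ?_⟩
  · exact repByAlgSpWith_of_iso _ (liftIso c (AlgSt.overMap g) i).symm hc
  · exact repByAlgSpWith_of_iso _ (liftIso c (AlgSt.overMap g) i).symm hc'

include h𝒳 h𝒴 in
/-- `LocQ P f` (for `P` stable under base change) read on a chart square over an arbitrary object -/
theorem P_of_square_any (hP : AlgSp.IsSmoothLocalST P) (hPb : StableBC P) (H : AlgSt.LocQ P f)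
    {U V : Over S} (x : FibCat.overCat U ⥤ᵇ 𝒳) (y : FibCat.overCat V ⥤ᵇ 𝒴) (h : U ⟶ V)
    (α : BasedFunctor.comp x f ≅ BasedFunctor.comp (AlgSt.overMap h) y)
    (hℓ : AlgSt.RepByAlgSpWith (AlgSp.LocP @Smooth) (FibCat.fpLift x (AlgSt.overMap h) α)) :
    P ((AlgSp.yon S).map h) := by
  have hPi := phat_respectsIso' hP
  have hValg : AlgSt.IsAlgStack Scheme.fppfPrecoverage (FibCat.overCat V) :=
    isAlgStack_of_repByAlgSp (repByAlgSp_overCat V)
  have hyf : AlgSt.IsAlgStack Scheme.fppfPrecoverage (FibCat.fp y f) :=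
    isAlgStack_fp h𝒴.isStack h𝒴.diag hValg h𝒳 y f
  have h1 : AlgSt.LocQ P (FibCat.fpFst y f) := locQ_fpFst h𝒳 h𝒴 f hP hPb hValg y H
  have hc : AlgSt.RepByAlgSpWith (AlgSp.LocP @Smooth)
      (BasedFunctor.comp (FibCat.fpLift x (AlgSt.overMap h) α) (swap f y)) :=
    repByAlgSpWith_comp_equiv _ _ _ (isEquivOver_swap f y) hℓ
  have h2 := pt_chart_of_locQ_rep hP hyf (repByAlgSp_overCat V) (repByAlgSp_overCat U)
    (FibCat.fpFst y f) h1 _ hc
  have i0 : BasedFunctor.comp (BasedFunctor.comp (FibCat.fpLift x (AlgSt.overMap h) α) (swap f y))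
      (FibCat.fpFst y f) ≅ AlgSt.overMap h := Iso.refl _
  exact (pt_overMap_iff hPi h).1 (PT.of_iso i0 h2)

end Any

section Fppf
variable {𝒳 : AlgSt.Cat S} (h𝒳 : AlgSt.IsAlgStack Scheme.fppfPrecoverage 𝒳)

include h𝒳 in
/-- S13022 -/
theorem exists_fppf_lifts (J : Type u) (𝒳' : J → AlgSt.Cat S)
    (h𝒳' : ∀ j, AlgSt.IsAlgStack Scheme.fppfPrecoverage (𝒳' j))
    (f : ∀ j, 𝒳' j ⥤ᵇ 𝒳)
    (hf₁ : ∀ j, AlgSt.LocQ (AlgSp.LocP @Flat) (f j))
    (hf₂ : ∀ j, AlgSt.LocQ (AlgSp.LocP @LocallyOfFinitePresentation) (f j))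
    (hf₃ : ∀ p : AlgSt.Points 𝒳, ∃ j, p ∈ Set.range (AlgSt.Points.map (f j)))
    (U : Over S) (x : FibCat.overCat U ⥤ᵇ 𝒳) :
    ∃ (ι : Type u) (V : ι → Over S) (g : ∀ i, V i ⟶ U) (c : ι → J),
      (Presieve.ofArrows (fun i ↦ (V i).left) fun i ↦ (g i).left) ∈ Scheme.fppfPrecoverage U.left ∧
      ∀ i, ∃ x' : FibCat.overCat (V i) ⥤ᵇ 𝒳' (c i),
        Nonempty (BasedFunctor.comp x' (f (c i)) ≅ BasedFunctor.comp (AlgSt.overMap (g i)) x) := by
  choose W x' g α hℓ hℓ' using fun j => exists_square_any (h𝒳' j) h𝒳 (f j) x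
  refine ⟨J, W, g, id, ?_, fun j => ⟨x' j, ⟨α j⟩⟩⟩
  rw [Scheme.fppfPrecoverage, Scheme.ofArrows_mem_precoverage_iff]
  constructor
  · intro u
    obtain ⟨j, p, hp⟩ := hf₃ (Points.ofChart x u)
    have hfU : FibCat.IsFibGrpd (FibCat.overCat U).p := StkFpCrit.isFibGrpd_overForget U
    have hfW : FibCat.IsFibGrpd (FibCat.overCat (W j)).p := StkFpCrit.isFibGrpd_overForget (W j)
    -- point of the fibre product `fp (f j) x` over `p` and `u`
    obtain ⟨w, hw1, hw2⟩ := Groth.Agent.Lib.Helper26.StackPoints.exists_points_fp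
      hfU h𝒳.isStack.1 (h𝒳' j).isStack.1 x (f j) p (sch U u) (by rw [hp, ofChart_eq])
    have hffp : FibCat.IsFibGrpd (FibCat.fp (f j) x).p :=
      isFibGrpd_fp _ _ (h𝒳' j).isStack.1 hfU h𝒳.isStack.1
    obtain ⟨t, ht⟩ := surjective_ofChart hffp _ (hℓ' j) w
    refine ⟨j, t, ?_⟩
    apply (bijective_sch U).1
    rw [← sch_overMap]
    have i0 : BasedFunctor.comp (FibCat.fpLift (x' j) (AlgSt.overMap (g j)) (α j))
        (FibCat.fpSnd (f j) x) ≅ AlgSt.overMap (g j) := Iso.refl _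
    rw [← ofChart_eq, ← ofChart_congr i0, ofChart_comp, ht, hw2]
  · intro j
    exact ⟨AlgSp.locP_yon_map (P_of_square_any (h𝒳' j) h𝒳 (f j) isSmoothLocalST_flat good_flat.bc
        (hf₁ j) (x' j) x (g j) (α j) (hℓ j)),
      AlgSp.locP_yon_map (P_of_square_any (h𝒳' j) h𝒳 (f j) isSmoothLocalST_lfp good_lfp.bc
        (hf₂ j) (x' j) x (g j) (α j) (hℓ j))⟩

end Fppf

end Groth.Agent.Lib.Helper24.AlgStLocQ12
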