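import Groth.Agent.Lib.Helper24.AlgStLocQ12
set_option autoImplicit false
open CategoryTheory AlgebraicGeometry Opposite
universe w₁ v₁ w₂ v₂ w₃ v₃ w₄ v₄ u
set_option backward.isDefEq.respectTransparency false
set_option backward.isDefEq.respectTransparency.types false

/-! Composition of `LocQ`; `LocQ P f ⟹ RepByAlgSpWith P f` for representable `f` without fppf
locality; replacing an fppf covering morphism of stacks by a representable one (S12995, S13009). -/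

namespace Groth.Agent.Lib.Helper24.AlgStLocQ13
open Groth.Agent.Lib.Helper24.FibCatFpMap
open Groth.Agent.Lib.Helper24.FibCatEquiv Groth.Agent.Lib.Helper24.FibCatFpGen
open Groth.Agent.Lib.Helper24.AlgStRep
open Groth.Agent.Lib.Helper24.AlgStBridge Groth.Agent.Lib.Helper24.AlgStBoot
open Groth.Agent.Lib.Helper24.AlgStRepS
open Groth.Agent.Lib.Helper24.AlgStSchLocal
open Groth.Agent.Lib.Helper24.AlgStGC
open Groth.Agent.Lib.Helper24.AlgStProps Groth.Agent.Lib.Helper24.AlgStSmooth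
open Groth.Agent.Lib.Helper24.AlgStFpAlg Groth.Agent.Lib.Helper24.AlgStSmLoc
open Groth.Agent.Lib.Helper24.AlgStEqv Groth.Agent.Lib.Helper24.PshBridge
open Groth.Agent.Lib.Helper24.AlgStLocQ1 Groth.Agent.Lib.Helper24.FibCatFpMapL
open Groth.Agent.Lib.Helper24.AlgStLocQ2 Groth.Agent.Lib.Helper24.FibCatFpLiftIso
open Groth.Agent.Lib.Helper24.AlgStLocQ3 Groth.Agent.Lib.Helper24.AlgStProdAlg
open Groth.Agent.Lib.Helper24.AlgStLocQ4 Groth.Agent.Lib.Helper24.AlgStLocQ5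
open Groth.Agent.Lib.Helper24.AlgStLocQ6 Groth.Agent.Lib.Helper24.AlgStLocQ7
open Groth.Agent.Lib.Helper24.AlgStLocQ8 Groth.Agent.Lib.Helper24.AlgStLocQ9
open Groth.Agent.Lib.Helper24.AlgStLocQ10 Groth.Agent.Lib.Helper24.AlgStLocQ12
open Groth.Agent.Lib.Helper24.AlgStCalc Groth.Agent.Lib.Helper24.AlgStDiag
open Groth.Agent.Lib.Helper24.AlgStCalc2 Groth.Agent.Lib.Helper24.AlgStDescent
open Groth.Agent.Lib.Helper24.FibCatOverMap Groth.Agent.Lib.Helper24.AlgStAtlas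
open Groth.Agent.Lib.Helper24.FibCatGraph Groth.Agent.Lib.Helper24.AlgStDiagLft
open Groth.Agent.Lib.Helper24.FibCatFpSwap Groth.Agent.Lib.Helper24.AlgStProd
open Groth.Agent.Lib.Helper24.AlgSpSmLocal
open Groth.Agent.Lib.Helper24.AlgStPts1 Groth.Agent.Lib.Helper24.AlgStPts3
open Groth.Agent.Lib.Helper24.AlgStPts5 Groth.Agent.Lib.Helper24.AlgStPts7
open Groth.Agent.Lib.Helper24.AlgStQCMor
open CategoryTheory.Limits AlgSt

variable {S : Scheme.{u}}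

section Comp
variable {P : MorphismProperty (AlgSp.Sp S)}
variable {𝒳 𝒴 𝒵 : AlgSt.Cat S} (h𝒳 : AlgSt.IsAlgStack Scheme.fppfPrecoverage 𝒳)
  (h𝒴 : AlgSt.IsAlgStack Scheme.fppfPrecoverage 𝒴)
  (h𝒵 : AlgSt.IsAlgStack Scheme.fppfPrecoverage 𝒵) (f : 𝒳 ⥤ᵇ 𝒴) (g : 𝒴 ⥤ᵇ 𝒵)

include h𝒳 h𝒴 h𝒵 in
/-- S13038 -/
theorem locQ_comp (hP : AlgSp.IsSmoothLocalST P) (hPc : StableComp P)
    (Hf : AlgSt.LocQ P f) (Hg : AlgSt.LocQ P g) : AlgSt.LocQ P (BasedFunctor.comp f g) := by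
  obtain ⟨U, V, W, x, y, z, h, k, α, β, ⟨hx, hx'⟩, ⟨hy, -⟩, ⟨hz, -⟩, ⟨hℓf, -⟩, ⟨hℓg, -⟩⟩ :=
    exists_two_squares h𝒳 h𝒴 h𝒵 f g
  have h1 := (locQ_iff_forall h𝒳 h𝒴 f hP).1 Hf U V x y h α hx hy hℓf
  have h2 := (locQ_iff_forall h𝒴 h𝒵 g hP).1 Hg V W y z k β hy hz hℓg
  have h3 : P ((AlgSp.yon S).map (h ≫ k)) := by
    rw [Functor.map_comp]
    exact hPc (AlgSp.IsAlgSpace.yon_obj U) (AlgSp.IsAlgSpace.yon_obj V) (AlgSp.IsAlgSpace.yon_obj W)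
      _ _ h1 h2
  exact ⟨U, W, x, z, h ≫ k,
    (whiskerRightIso α g).trans ((whiskerLeftIso (AlgSt.overMap h) β).trans
      (whiskerRightIso (overMapComp h k).symm z)), hx, hx', hz, h3⟩

end Comp

section Rep
variable {P : MorphismProperty (AlgSp.Sp S)}
variable {𝒳 𝒴 : AlgSt.Cat S} (h𝒳 : AlgSt.IsAlgStack Scheme.fppfPrecoverage 𝒳)
  (h𝒴 : AlgSt.IsAlgStack Scheme.fppfPrecoverage 𝒴) (f : 𝒳 ⥤ᵇ 𝒴)

include h𝒳 h𝒴 in
/-- S12993 (⟹) without fppf locality on the base -/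
theorem repByAlgSpWith_of_locQ' (hP : AlgSp.IsSmoothLocalST P) (hPb : StableBC P)
    (hf : AlgSt.RepByAlgSp1 f) (h : AlgSt.LocQ P f) : AlgSt.RepByAlgSpWith P f := by
  have hPi := phat_respectsIso' hP
  intro V y
  obtain ⟨F, e, he⟩ := hf V y
  refine ⟨F, e, he, ?_⟩
  rw [spMapOfOver_eq]
  have hValg : AlgSt.IsAlgStack Scheme.fppfPrecoverage (FibCat.overCat V) :=
    isAlgStack_of_repByAlgSp (repByAlgSp_overCat V)
  have hyf : AlgSt.IsAlgStack Scheme.fppfPrecoverage (FibCat.fp y f) :=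
    isAlgStack_fp h𝒴.isStack h𝒴.diag hValg h𝒳 y f
  have h1 : AlgSt.LocQ P (FibCat.fpFst y f) := locQ_fpFst h𝒳 h𝒴 f hP hPb hValg y h
  have h2 : PT P (FibCat.fpFst y f) :=
    PT.of_iso (Iso.refl _ : BasedFunctor.comp (BasedFunctor.id _) (FibCat.fpFst y f) ≅ _)
      (pt_chart_of_locQ_rep hP hyf (repByAlgSp_overCat V) ⟨F, e, he⟩ (FibCat.fpFst y f) h1
        (BasedFunctor.id _) (smooth_of_isEquivOver _ (isEquivOver_id _)))
  exact h2.forall hPi F ⟨(AlgSp.yon S).obj V, AlgSp.IsAlgSpace.yon_obj V⟩ e (AlgSt.ofOverCat V) he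
    (isEquivOver_ofOverCat V)

end Rep

section Cover
variable {𝒴 𝒵 : AlgSt.Cat S} (h𝒴 : AlgSt.IsAlgStack Scheme.fppfPrecoverage 𝒴)
  (h𝒵 : AlgSt.IsAlgStack Scheme.fppfPrecoverage 𝒵) (z : 𝒵 ⥤ᵇ 𝒴)

include h𝒴 h𝒵 in
/-- replacing a flat lfp surjective morphism of algebraic stacks by a representable one from a
scheme -/
theorem exists_rep_cover (hz₁ : AlgSt.LocQ (AlgSp.LocP @Flat) z)
    (hz₂ : AlgSt.LocQ (AlgSp.LocP @LocallyOfFinitePresentation) z) (hz₃ : AlgSt.IsSurjective z) :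
    ∃ (T : Over S) (t : FibCat.overCat T ⥤ᵇ 𝒵),
      AlgSt.RepByAlgSpWith (AlgSp.LocP @Smooth) t ∧ AlgSt.RepByAlgSpWith AlgSp.IsSurjectiveMor t ∧
      AlgSt.RepByAlgSpWith (AlgSp.LocP @Flat) (BasedFunctor.comp t z) ∧
      AlgSt.RepByAlgSpWith (AlgSp.LocP @LocallyOfFinitePresentation) (BasedFunctor.comp t z) ∧
      AlgSt.RepByAlgSpWith AlgSp.IsSurjectiveMor (BasedFunctor.comp t z) := by
  obtain ⟨T, t, ht, ht'⟩ := h𝒵.atlas
  have hfT : FibCat.IsFibGrpd (FibCat.overCat T).p := StkFpCrit.isFibGrpd_overForget T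
  have hTalg : AlgSt.IsAlgStack Scheme.fppfPrecoverage (FibCat.overCat T) :=
    isAlgStack_of_repByAlgSp (repByAlgSp_overCat T)
  have hrep : AlgSt.RepByAlgSp1 (BasedFunctor.comp t z) := fun V y =>
    repByAlgSp1_of_diag h𝒴.isStack.1 h𝒴.diag
      (StkFpCrit.isFibGrpd_overForget V) hfT (repByAlgSp_overCat V) (repByAlgSp_overCat T) y _
  have ht1 : AlgSt.LocQ (AlgSp.LocP @Flat) t :=
    locQ_of_repByAlgSpWith hTalg h𝒵 t isSmoothLocalST_flat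
      (repByAlgSpWith_locP_mono Groth.Agent.Lib.Helper24.AlgStDiagLft.smooth_le_flat t ht)
  have ht2 : AlgSt.LocQ (AlgSp.LocP @LocallyOfFinitePresentation) t :=
    locQ_of_repByAlgSpWith hTalg h𝒵 t isSmoothLocalST_lfp
      (repByAlgSpWith_locP_mono Groth.Agent.Lib.Helper24.AlgStDiagLft.smooth_le_lfp t ht)
  have hw1 := locQ_comp hTalg h𝒵 h𝒴 t z isSmoothLocalST_flat stableComp_flat ht1 hz₁
  have hw2 := locQ_comp hTalg h𝒵 h𝒴 t z isSmoothLocalST_lfp stableComp_lfp ht2 hz₂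
  refine ⟨T, t, ht, ht', repByAlgSpWith_of_locQ' hTalg h𝒴 _ isSmoothLocalST_flat good_flat.bc hrep hw1,
    repByAlgSpWith_of_locQ' hTalg h𝒴 _ isSmoothLocalST_lfp good_lfp.bc hrep hw2, ?_⟩
  rw [← isSurjective_iff_repByAlgSpWith hfT h𝒴.isStack.1 _ hrep]
  intro p
  obtain ⟨q, rfl⟩ := hz₃ p
  obtain ⟨r, rfl⟩ := surjective_map_of_repByAlgSpWith h𝒵.isStack.1 t ht' q
  exact ⟨r, map_comp t z r⟩

variable {𝒳 : AlgSt.Cat S} (h𝒳 : AlgSt.IsAlgStack Scheme.fppfPrecoverage 𝒳) (f : 𝒳 ⥤ᵇ 𝒴)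

/-- the pasting equivalence `𝒯 ×_𝒵 (𝒵 ×_𝒴 𝒳) ≃ 𝒯 ×_𝒴 𝒳` over `𝒯` -/
theorem eqvOver_paste {𝒯 : AlgSt.Cat S} (t : 𝒯 ⥤ᵇ 𝒵) :
    EqvOver (FibCat.fpFst t (FibCat.fpFst z f)) (FibCat.fpFst (BasedFunctor.comp t z) f) :=
  ⟨Groth.Agent.Lib.Helper24.FibCatFpPaste.P f z t,
    Groth.Agent.Lib.Helper24.FibCatFpPaste.isEquivOver_P, ⟨Iso.refl _⟩⟩

include h𝒳 h𝒴 h𝒵 in
/-- S12995 -/
theorem repByAlgSpWith_iff_fpFst_fppf {P : MorphismProperty (AlgSp.Sp S)} (hPb : StableBC P)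
    (hloc : AlgSp.IsLocalOnBase AlgSp.IsFppfCover P) (hf : AlgSt.RepByAlgSp1 f)
    (hz₁ : AlgSt.LocQ (AlgSp.LocP @Flat) z)
    (hz₂ : AlgSt.LocQ (AlgSp.LocP @LocallyOfFinitePresentation) z) (hz₃ : AlgSt.IsSurjective z) :
    AlgSt.RepByAlgSpWith P f ↔ AlgSt.RepByAlgSpWith P (FibCat.fpFst z f) := by
  refine ⟨repByAlgSpWith_fpFst P f z, fun h => ?_⟩
  obtain ⟨T, t, -, -, hw1, hw2, hw3⟩ := exists_rep_cover h𝒴 h𝒵 z hz₁ hz₂ hz₃
  have hfT : FibCat.IsFibGrpd (FibCat.overCat T).p := StkFpCrit.isFibGrpd_overForget T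
  have h1 : AlgSt.RepByAlgSpWith P (FibCat.fpFst t (FibCat.fpFst z f)) :=
    repByAlgSpWith_fpFst P (FibCat.fpFst z f) t h
  have h2 : AlgSt.RepByAlgSpWith P (FibCat.fpFst (BasedFunctor.comp t z) f) :=
    Groth.Agent.Lib.Helper24.AlgStDiagBC.repByAlgSpWith_of_eqvOver P (eqvOver_paste z f t).symm h1
  exact repByAlgSpWith_of_fpFst_cover h𝒳.isStack.1 h𝒴.isStack.1 hfT P hPb hloc f hf
    (BasedFunctor.comp t z) hw1 hw2 hw3 h2

include h𝒳 h𝒴 h𝒵 in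
/-- S13009 -/
theorem isQuasiCompactMor_of_fpFst_fppf
    (hz₁ : AlgSt.LocQ (AlgSp.LocP @Flat) z)
    (hz₂ : AlgSt.LocQ (AlgSp.LocP @LocallyOfFinitePresentation) z) (hz₃ : AlgSt.IsSurjective z)
    (hq : AlgSt.IsQuasiCompactMor Scheme.fppfPrecoverage (FibCat.fpFst z f)) :
    AlgSt.IsQuasiCompactMor Scheme.fppfPrecoverage f := by
  obtain ⟨T, t, -, -, hw1, hw2, hw3⟩ := exists_rep_cover h𝒴 h𝒵 z hz₁ hz₂ hz₃
  have hTalg : AlgSt.IsAlgStack Scheme.fppfPrecoverage (FibCat.overCat T) :=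
    isAlgStack_of_repByAlgSp (repByAlgSp_overCat T)
  have h1 : AlgSt.IsQuasiCompactMor Scheme.fppfPrecoverage (FibCat.fpFst t (FibCat.fpFst z f)) :=
    isQuasiCompactMor_fpFst (FibCat.fpFst z f) t hq
  have h2 : AlgSt.IsQuasiCompactMor Scheme.fppfPrecoverage
      (FibCat.fpFst (BasedFunctor.comp t z) f) :=
    isQuasiCompactMor_of_eqvOver (eqvOver_paste z f t).symm h1
  exact isQuasiCompactMor_of_fppf_cover h𝒳 h𝒴 f hTalg (BasedFunctor.comp t z) hw1 hw2 hw3 h2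

end Cover

end Groth.Agent.Lib.Helper24.AlgStLocQ13
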