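import Groth.Agent.Lib.Helper24.AlgStSmLoc
set_option autoImplicit false
open CategoryTheory AlgebraicGeometry Opposite
universe w₁ v₁ w₂ v₂ w₃ v₃ w₄ v₄ w₅ v₅ u
set_option backward.isDefEq.respectTransparency false
set_option backward.isDefEq.respectTransparency.types false

/-! Quasi-compact algebraic stacks: affine, quasi-compact scheme and quasi-compact space atlases. -/

namespace Groth.Agent.Lib.Helper24.AlgStQC
open Groth.Agent.Lib.Helper24.FibCatFpMap
open Groth.Agent.Lib.Helper24.FibCatEquiv Groth.Agent.Lib.Helper24.FibCatFpGen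
open Groth.Agent.Lib.Helper24.AlgStRep
open Groth.Agent.Lib.Helper24.AlgStBridge Groth.Agent.Lib.Helper24.AlgStBoot
open Groth.Agent.Lib.Helper24.AlgStRepS
open Groth.Agent.Lib.Helper24.AlgStSchLocal
open Groth.Agent.Lib.Helper24.AlgStGC
open Groth.Agent.Lib.Helper24.AlgStProps Groth.Agent.Lib.Helper24.AlgStSmooth
open Groth.Agent.Lib.Helper24.AlgStFpAlg Groth.Agent.Lib.Helper24.AlgStSmLoc
open CategoryTheory.Limits

theorem exists_affine_etale_surjective (U : Scheme.{u}) [CompactSpace U] :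
    ∃ (U' : Scheme.{u}) (g : U' ⟶ U), IsAffine U' ∧ Etale g ∧ Surjective g := by
  let 𝒰 := U.affineCover.finiteSubcover
  have : ∀ i, IsAffine (𝒰.X i) := fun i => by
    dsimp [𝒰]
    infer_instance
  have hloc : IsZariskiLocalAtSource @Etale.{u} := HasRingHomProperty.instIsZariskiLocalAtSource
  refine ⟨∐ 𝒰.X, Sigma.desc 𝒰.f, inferInstance, ?_, ?_⟩
  · exact IsZariskiLocalAtSource.sigmaDesc (P := @Etale) (fun i => inferInstance)
  · constructor
    intro s
    obtain ⟨i, y, rfl⟩ := 𝒰.exists_eq s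
    exact ⟨Sigma.ι 𝒰.X i y, by simp [← Scheme.Hom.comp_apply]⟩

variable {S : Scheme.{u}}

theorem repByAlgSpWith_overMap_of_smooth {W U : Over S} (g : W ⟶ U) (hg : Smooth g.left) :
    AlgSt.RepByAlgSpWith (AlgSp.LocP @Smooth) (AlgSt.overMap g) :=
  (repByAlgSpWith_overMap_iff _ good_smooth g).2
    (Groth.Agent.Lib.Helper14.AS.locP_of_repWith Groth.Agent.Lib.Helper14.AS.etale_le_smooth
      ((AlgSp.repWith_yon_map_iff @Smooth g).2 hg))

theorem repByAlgSpWith_overMap_of_surjective {W U : Over S} (g : W ⟶ U) (hg : Surjective g.left) :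
    AlgSt.RepByAlgSpWith AlgSp.IsSurjectiveMor (AlgSt.overMap g) :=
  (repByAlgSpWith_overMap_iff _ good_isSurjectiveMor g).2 (isSurjectiveMor_yon_map_of_surjective g hg)

/-- S12857 -/
theorem isQuasiCompact_iff_compact_atlas {𝒳 : AlgSt.Cat S}
    (h𝒳 : AlgSt.IsAlgStack Scheme.fppfPrecoverage 𝒳) :
    AlgSt.IsQuasiCompact 𝒳 ↔
      ∃ (U : Over S) (x : FibCat.overCat U ⥤ᵇ 𝒳), CompactSpace ↥U.left ∧
        AlgSt.RepByAlgSpWith (AlgSp.LocP @Smooth) x ∧ AlgSt.RepByAlgSpWith AlgSp.IsSurjectiveMor x := by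
  constructor
  · rintro ⟨U, x, hU, hx, hx'⟩
    exact ⟨U, x, inferInstance, hx, hx'⟩
  · rintro ⟨U, x, hU, hx, hx'⟩
    obtain ⟨U', g, hU', hg, hgs⟩ := exists_affine_etale_surjective U.left
    let W : Over S := Over.mk (g ≫ U.hom)
    let gW : W ⟶ U := Over.homMk g rfl
    have hW : FibCat.IsFibGrpd (FibCat.overCat W).p :=
      Groth.Agent.Lib.Helper24.StkFpCrit.isFibGrpd_overForget W
    have hUf : FibCat.IsFibGrpd (FibCat.overCat U).p :=
      Groth.Agent.Lib.Helper24.StkFpCrit.isFibGrpd_overForget U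
    refine ⟨W, BasedFunctor.comp (AlgSt.overMap gW) x, hU', ?_, ?_⟩
    · exact repByAlgSpWith_comp hW hUf h𝒳.isStack.1 _ good_smooth.nice stableComp_smooth _ _
        (repByAlgSpWith_overMap_of_smooth gW (inferInstanceAs (Smooth g))) hx
    · exact repByAlgSpWith_comp hW hUf h𝒳.isStack.1 _ good_isSurjectiveMor.nice
        stableComp_isSurjectiveMor _ _ (repByAlgSpWith_overMap_of_surjective gW hgs) hx'

/-- S12856 -/
theorem isQuasiCompact_iff_space_atlas {𝒳 : AlgSt.Cat S}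
    (h𝒳 : AlgSt.IsAlgStack Scheme.fppfPrecoverage 𝒳) :
    AlgSt.IsQuasiCompact 𝒳 ↔
      ∃ (U : AlgSp.Space S) (x : AlgSt.ofSp U.obj ⥤ᵇ 𝒳), AlgSp.IsQuasiCompactSp U.obj ∧
        AlgSt.RepByAlgSpWith (AlgSp.LocP @Smooth) x ∧ AlgSt.RepByAlgSpWith AlgSp.IsSurjectiveMor x := by
  constructor
  · rintro ⟨U, x, hU, hx, hx'⟩
    refine ⟨⟨(AlgSp.yon S).obj U, AlgSp.IsAlgSpace.yon_obj U⟩,
      BasedFunctor.comp (AlgSt.toOverCat U) x, ?_,
      (repByAlgSpWith_equiv_comp _ (AlgSt.toOverCat U) x (isEquivOver_toOverCat U)).2 hx,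
      (repByAlgSpWith_equiv_comp _ (AlgSt.toOverCat U) x (isEquivOver_toOverCat U)).2 hx'⟩
    exact ⟨U, 𝟙 _, AlgSp.repWith_id _ U, AlgSp.repWith_id _ U, inferInstance⟩
  · rintro ⟨U, x, ⟨V, p, h1, h2, hV⟩, hx, hx'⟩
    exact (isQuasiCompact_iff_compact_atlas h𝒳).2 ⟨V, _, hV,
      smooth_chart_comp h𝒳.isStack.1 U x p h1 hx, surjective_chart_comp h𝒳.isStack.1 U x p h2 hx'⟩

end Groth.Agent.Lib.Helper24.AlgStQC
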