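import Groth.Agent.Lib.Helper24.AlgStPts3
import Groth.Agent.Lib.Helper24.AlgStQC
import Groth.Agent.Lib.Helper26.StackPoints
import Mathlib.AlgebraicGeometry.Morphisms.UniversallyOpen
set_option autoImplicit false
open CategoryTheory AlgebraicGeometry Opposite
universe w₁ v₁ w₂ v₂ w₃ v₃ u
set_option backward.isDefEq.respectTransparency false
set_option backward.isDefEq.respectTransparency.types false

/-! Topology of the points of an algebraic stack: charts are continuous, flat lfp charts are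
open. -/

noncomputable section

namespace Groth.Agent.Lib.Helper24.AlgStPts4
open AlgSt Groth.Agent.Lib.Helper24.AlgStPts1 Groth.Agent.Lib.Helper24.AlgStPts2
open Groth.Agent.Lib.Helper24.AlgStPts3
open Groth.Agent.Lib.Helper24.AlgStRepS Groth.Agent.Lib.Helper24.PshBridge
open Groth.Agent.Lib.Helper24.AlgStBridge Groth.Agent.Lib.Helper24.AlgStRep
open Groth.Agent.Lib.Helper24.FibCatFpMap
open Groth.Agent.Lib.Helper24.FibCatEquiv Groth.Agent.Lib.Helper24.FibCatFpGen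
open Groth.Agent.Lib.Helper24.AlgStBoot
open Groth.Agent.Lib.Helper24.AlgStSchLocal
open Groth.Agent.Lib.Helper24.AlgStGC
open Groth.Agent.Lib.Helper24.AlgStProps Groth.Agent.Lib.Helper24.AlgStSmooth
open Groth.Agent.Lib.Helper24.AlgStFpAlg Groth.Agent.Lib.Helper24.AlgStSmLoc
open Groth.Agent.Lib.Helper24.AlgStQC Groth.Agent.Lib.Helper24.AlgStCalc
open Groth.Agent.Lib.Helper24.AlgStDiag Groth.Agent.Lib.Helper24.FibCatOverMap

variable {S : Scheme.{u}}

/-- a common refinement of two scheme charts of an algebraic stack: a smooth surjective chart of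
their 2-fibre product -/
theorem exists_refinement {𝒳 : AlgSt.Cat S} (h𝒳 : FibCat.IsFibGrpd 𝒳.p)
    (hΔ : AlgSt.RepByAlgSp1 (FibCat.diag (FibCat.toSelf 𝒳))) {U U' : Over S}
    (x : FibCat.overCat U ⥤ᵇ 𝒳) (x' : FibCat.overCat U' ⥤ᵇ 𝒳) :
    ∃ (W : Over S) (g : W ⟶ U) (g' : W ⟶ U') (c : FibCat.overCat W ⥤ᵇ FibCat.fp x x'),
      Nonempty (BasedFunctor.comp c (FibCat.fpFst x x') ≅ AlgSt.overMap g) ∧
      Nonempty (BasedFunctor.comp c (FibCat.fpSnd x x') ≅ AlgSt.overMap g') ∧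
      AlgSt.RepByAlgSpWith (AlgSp.LocP @Smooth) c ∧ AlgSt.RepByAlgSpWith AlgSp.IsSurjectiveMor c := by
  have hU : FibCat.IsFibGrpd (FibCat.overCat U).p :=
    Groth.Agent.Lib.Helper24.StkFpCrit.isFibGrpd_overForget U
  have hU' : FibCat.IsFibGrpd (FibCat.overCat U').p :=
    Groth.Agent.Lib.Helper24.StkFpCrit.isFibGrpd_overForget U'
  have hF : AlgSt.RepByAlgSp (FibCat.fp x x') :=
    repByAlgSp1_of_diag h𝒳 hΔ hU hU' (repByAlgSp_overCat U) (repByAlgSp_overCat U') _ _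
  obtain ⟨X, eX, heX⟩ := hF
  obtain ⟨W, p, hp, hp'⟩ := Groth.Agent.Lib.Helper24.AlgStAtlas.hasAtlas_smooth_ofSp X
  obtain ⟨g, ⟨i⟩⟩ := exists_iso_overMapC
    (BasedFunctor.comp (BasedFunctor.comp p eX) (FibCat.fpFst x x'))
  obtain ⟨g', ⟨i'⟩⟩ := exists_iso_overMapC
    (BasedFunctor.comp (BasedFunctor.comp p eX) (FibCat.fpSnd x x'))
  exact ⟨W, g, g', BasedFunctor.comp p eX, ⟨i⟩, ⟨i'⟩, repByAlgSpWith_comp_equiv _ p eX heX hp,
    repByAlgSpWith_comp_equiv _ p eX heX hp'⟩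


section refine
variable {𝒳 : AlgSt.Cat S} {U U' W : Over S} {x : FibCat.overCat U ⥤ᵇ 𝒳}
  {x' : FibCat.overCat U' ⥤ᵇ 𝒳} {g : W ⟶ U} {g' : W ⟶ U'}
  {c : FibCat.overCat W ⥤ᵇ FibCat.fp x x'}
  (i : BasedFunctor.comp c (FibCat.fpFst x x') ≅ AlgSt.overMap g)
  (i' : BasedFunctor.comp c (FibCat.fpSnd x x') ≅ AlgSt.overMap g')

/-- the 2-isomorphism of a refinement -/
def refineIso : BasedFunctor.comp (AlgSt.overMap g) x ≅ BasedFunctor.comp (AlgSt.overMap g') x' :=
  ((whiskerRightIso i x).symm.trans (whiskerLeftIso c (FibCat.fpIso x x'))).trans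
    (whiskerRightIso i' x')

include i i' in
theorem ofChart_refine (w : ↥W.left) :
    Points.ofChart x (g.left w) = Points.ofChart x' (g'.left w) := by
  rw [← ofChart_overMap, ← ofChart_overMap, ofChart_congr (refineIso i i')]

include i i' in
theorem exists_of_ofChart_eq (h𝒳 : FibCat.IsFibGrpd 𝒳.p)
    (hc : AlgSt.RepByAlgSpWith AlgSp.IsSurjectiveMor c) (u : ↥U.left) (u' : ↥U'.left)
    (h : Points.ofChart x u = Points.ofChart x' u') : ∃ w : ↥W.left, g.left w = u ∧ g'.left w = u' := by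
  have hU : FibCat.IsFibGrpd (FibCat.overCat U).p :=
    Groth.Agent.Lib.Helper24.StkFpCrit.isFibGrpd_overForget U
  have hU' : FibCat.IsFibGrpd (FibCat.overCat U').p :=
    Groth.Agent.Lib.Helper24.StkFpCrit.isFibGrpd_overForget U'
  obtain ⟨ω, h1, h2⟩ := Groth.Agent.Lib.Helper26.StackPoints.exists_points_fp hU' h𝒳 hU x' x
    (sch U u) (sch U' u') h
  obtain ⟨β, rfl⟩ := surjective_map_of_repByAlgSpWith (isFibGrpd_fp _ _ hU hU' h𝒳) c hc ω
  obtain ⟨w, rfl⟩ := (bijective_sch W).2 β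
  refine ⟨w, (bijective_sch U).1 ?_, (bijective_sch U').1 ?_⟩
  · rw [← sch_overMap, ← map_congr i, map_comp, h1]
  · rw [← sch_overMap, ← map_congr i', map_comp, h2]

include i in
theorem prop_of_refine (Q : MorphismProperty (AlgSp.Sp S)) (hQ : Good Q) (hQc : StableComp Q)
    (h𝒳 : FibCat.IsFibGrpd 𝒳.p) (hc : AlgSt.RepByAlgSpWith Q c) (hx' : AlgSt.RepByAlgSpWith Q x') :
    Q ((AlgSp.yon S).map g) := by
  have hU : FibCat.IsFibGrpd (FibCat.overCat U).p :=
    Groth.Agent.Lib.Helper24.StkFpCrit.isFibGrpd_overForget U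
  have hU' : FibCat.IsFibGrpd (FibCat.overCat U').p :=
    Groth.Agent.Lib.Helper24.StkFpCrit.isFibGrpd_overForget U'
  have hW : FibCat.IsFibGrpd (FibCat.overCat W).p :=
    Groth.Agent.Lib.Helper24.StkFpCrit.isFibGrpd_overForget W
  exact (repByAlgSpWith_overMap_iff Q hQ g).1 (repByAlgSpWith_of_iso Q i
    (repByAlgSpWith_comp hW (isFibGrpd_fp _ _ hU hU' h𝒳) hU Q hQ.nice hQc c (FibCat.fpFst x x') hc
      (repByAlgSpWith_fpFst Q x' x hx')))

end refine


section top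
variable {𝒳 : AlgSt.Cat S}

/-- every scheme chart of an algebraic stack is continuous on points -/
theorem continuous_ofChart (h𝒳 : AlgSt.IsAlgStack Scheme.fppfPrecoverage 𝒳) {U : Over S}
    (x : FibCat.overCat U ⥤ᵇ 𝒳) : Continuous (Points.ofChart x) := by
  rw [continuous_def]
  intro O hO
  obtain ⟨U', x', hx', hx''⟩ := h𝒳.atlas
  obtain ⟨W, g, g', c, ⟨i⟩, ⟨i'⟩, hc, hc'⟩ := exists_refinement h𝒳.isStack.1 h𝒳.diag x x'
  have hg1 : Smooth g.left :=
    AlgSp.locP_yon_map (prop_of_refine i _ good_smooth stableComp_smooth h𝒳.isStack.1 hc hx')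
  have hg2 : Surjective g.left := surjective_of_isSurjectiveMor_yon_map g
    (prop_of_refine i _ good_isSurjectiveMor stableComp_isSurjectiveMor h𝒳.isStack.1 hc' hx'')
  have e1 : g.left ⁻¹' (Points.ofChart x ⁻¹' O) = g'.left ⁻¹' (Points.ofChart x' ⁻¹' O) := by
    ext w
    simp only [Set.mem_preimage]
    rw [ofChart_refine i i' w]
  have h1 : IsOpen (g.left ⁻¹' (Points.ofChart x ⁻¹' O)) := by
    rw [e1]
    exact (hO U' x' hx').preimage g'.left.continuous
  have h2 := g.left.isOpenMap _ h1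
  rwa [Set.image_preimage_eq _ hg2.surj] at h2

/-- S12820 -/
theorem continuous_map {𝒴 : AlgSt.Cat S} (h𝒴 : AlgSt.IsAlgStack Scheme.fppfPrecoverage 𝒴)
    (f : 𝒳 ⥤ᵇ 𝒴) : Continuous (Points.map f) := by
  rw [continuous_def]
  intro O hO U x _
  exact (continuous_ofChart h𝒴 (BasedFunctor.comp x f)).isOpen_preimage O hO

/-- a flat, locally finitely presented scheme chart of an algebraic stack is open on points -/
theorem isOpenMap_ofChart (h𝒳 : AlgSt.IsAlgStack Scheme.fppfPrecoverage 𝒳) {U : Over S}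
    (x : FibCat.overCat U ⥤ᵇ 𝒳) (hx₁ : AlgSt.RepByAlgSpWith (AlgSp.LocP @Flat) x)
    (hx₂ : AlgSt.RepByAlgSpWith (AlgSp.LocP @LocallyOfFinitePresentation) x) :
    IsOpenMap (Points.ofChart x) := by
  intro V hV A a ha
  obtain ⟨W, g, g', c, ⟨i⟩, ⟨i'⟩, hc, hc'⟩ := exists_refinement h𝒳.isStack.1 h𝒳.diag a x
  have hg1 : Flat g.left :=
    AlgSp.locP_yon_map (prop_of_refine i _ good_flat stableComp_flat h𝒳.isStack.1
      (Groth.Agent.Lib.Helper24.AlgStDiagLft.repByAlgSpWith_locP_mono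
        Groth.Agent.Lib.Helper24.AlgStDiagLft.smooth_le_flat c hc) hx₁)
  have hg2 : LocallyOfFinitePresentation g.left :=
    AlgSp.locP_yon_map (prop_of_refine i _ good_lfp stableComp_lfp h𝒳.isStack.1
      (Groth.Agent.Lib.Helper24.AlgStDiagLft.repByAlgSpWith_locP_mono
        Groth.Agent.Lib.Helper24.AlgStDiagLft.smooth_le_lfp c hc) hx₂)
  have e1 : Points.ofChart a ⁻¹' (Points.ofChart x '' V) = g.left '' (g'.left ⁻¹' V) := by
    ext t
    constructor
    · rintro ⟨v, hv, hvt⟩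
      obtain ⟨w, rfl, rfl⟩ := exists_of_ofChart_eq i i' h𝒳.isStack.1 hc' t v hvt.symm
      exact ⟨w, hv, rfl⟩
    · rintro ⟨w, hw, rfl⟩
      exact ⟨g'.left w, hw, (ofChart_refine i i' w).symm⟩
  rw [e1]
  exact g.left.isOpenMap _ (hV.preimage g'.left.continuous)

end top

end Groth.Agent.Lib.Helper24.AlgStPts4
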