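import Groth.Agent.Lib.Helper24.AlgStLocQ1
import Groth.Agent.Lib.Helper24.AlgStPts4
import Groth.Agent.Lib.Helper24.AlgStProd
set_option autoImplicit false
open CategoryTheory AlgebraicGeometry Opposite
universe w₁ v₁ w₂ v₂ w₃ v₃ w₄ v₄ u
set_option backward.isDefEq.respectTransparency false
set_option backward.isDefEq.respectTransparency.types false

/-! Independence of `LocQ P f` of the chart square (S12990). -/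

namespace Groth.Agent.Lib.Helper24.AlgStLocQ2
open Groth.Agent.Lib.Helper24.FibCatFpMap
open Groth.Agent.Lib.Helper24.FibCatEquiv Groth.Agent.Lib.Helper24.FibCatFpGen
open Groth.Agent.Lib.Helper24.AlgStRep
open Groth.Agent.Lib.Helper24.AlgStBridge Groth.Agent.Lib.Helper24.AlgStBoot
open Groth.Agent.Lib.Helper24.AlgStRepS
open Groth.Agent.Lib.Helper24.AlgStSchLocal
open Groth.Agent.Lib.Helper24.AlgStGC
open Groth.Agent.Lib.Helper24.AlgStProps Groth.Agent.Lib.Helper24.AlgStSmooth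
open Groth.Agent.Lib.Helper24.AlgStFpAlg Groth.Agent.Lib.Helper24.AlgStSmLoc
open Groth.Agent.Lib.Helper24.AlgStEqv Groth.Agent.Lib.Helper24.PshBridge
open Groth.Agent.Lib.Helper24.AlgStLocQ1 Groth.Agent.Lib.Helper24.FibCatFpMapL
open Groth.Agent.Lib.Helper24.AlgStCalc Groth.Agent.Lib.Helper24.AlgStDiag
open Groth.Agent.Lib.Helper24.FibCatOverMap
open CategoryTheory.Limits

variable {S : Scheme.{u}}

section chase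
variable {P : MorphismProperty (AlgSp.Sp S)} (hP : AlgSp.IsSmoothLocalST P)
variable {𝒳 𝒴 : AlgSt.Cat S} (h𝒳 : AlgSt.IsAlgStack Scheme.fppfPrecoverage 𝒳)
  (h𝒴 : AlgSt.IsAlgStack Scheme.fppfPrecoverage 𝒴) (f : 𝒳 ⥤ᵇ 𝒴)

theorem isFibGrpd_of_repByAlgSp {𝒜 : AlgSt.Cat S} (h : AlgSt.RepByAlgSp 𝒜) :
    FibCat.IsFibGrpd 𝒜.p := by
  obtain ⟨F, e, he⟩ := h
  obtain ⟨e', he'⟩ := exists_inverse_isEquivOver e he
  exact Groth.Agent.Lib.Helper24.FibSetoid.isFibGrpd_of_isEquivOver e' he' (Stk.isFibGrpd_ofPsh _)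

include hP h𝒳 h𝒴 in
/-- the main step, for charts from categories representable by algebraic spaces:
a witness square and a test square with smooth comparison -/
theorem PT_of_witness {𝒜₀ ℬ₀ 𝒜 ℬ : AlgSt.Cat S}
    (h𝒜₀ : AlgSt.RepByAlgSp 𝒜₀) (hℬ₀ : AlgSt.RepByAlgSp ℬ₀)
    (h𝒜 : AlgSt.RepByAlgSp 𝒜) (hℬ : AlgSt.RepByAlgSp ℬ)
    (x₀ : 𝒜₀ ⥤ᵇ 𝒳) (y₀ : ℬ₀ ⥤ᵇ 𝒴) (Φ₀ : 𝒜₀ ⥤ᵇ ℬ₀)
    (α₀ : BasedFunctor.comp x₀ f ≅ BasedFunctor.comp Φ₀ y₀)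
    (hx₀ : AlgSt.RepByAlgSpWith (AlgSp.LocP @Smooth) x₀)
    (hx₀' : AlgSt.RepByAlgSpWith AlgSp.IsSurjectiveMor x₀)
    (hy₀ : AlgSt.RepByAlgSpWith (AlgSp.LocP @Smooth) y₀) (hP₀ : PT P Φ₀)
    (x : 𝒜 ⥤ᵇ 𝒳) (y : ℬ ⥤ᵇ 𝒴) (Φ : 𝒜 ⥤ᵇ ℬ)
    (α : BasedFunctor.comp x f ≅ BasedFunctor.comp Φ y)
    (hy : AlgSt.RepByAlgSpWith (AlgSp.LocP @Smooth) y)
    (hℓ : AlgSt.RepByAlgSpWith (AlgSp.LocP @Smooth) (FibCat.fpLift x Φ α)) :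
    PT P Φ := by
  have hfU₀ : FibCat.IsFibGrpd 𝒜₀.p := isFibGrpd_of_repByAlgSp h𝒜₀
  have hfV₀ : FibCat.IsFibGrpd ℬ₀.p := isFibGrpd_of_repByAlgSp hℬ₀
  have hfU : FibCat.IsFibGrpd 𝒜.p := isFibGrpd_of_repByAlgSp h𝒜
  have hfV : FibCat.IsFibGrpd ℬ.p := isFibGrpd_of_repByAlgSp hℬ
  have hf𝒳 := h𝒳.isStack.1
  have hf𝒴 := h𝒴.isStack.1
  -- notation
  let ℓ := FibCat.fpLift x Φ α
  let π₁ := FibCat.fpFst f y
  let π₂ := FibCat.fpSnd f y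
  let σ := FibCat.fpSnd x₀ π₁
  let p₁ := FibCat.fpFst σ ℓ
  let p₂ := FibCat.fpSnd σ ℓ
  let q₁ := FibCat.fpFst y₀ y
  let q₂ := FibCat.fpSnd y₀ y
  have hffy : FibCat.IsFibGrpd (FibCat.fp f y).p := isFibGrpd_fp _ _ hf𝒳 hfV hf𝒴
  have hfC : FibCat.IsFibGrpd (FibCat.fp x₀ π₁).p := isFibGrpd_fp _ _ hfU₀ hffy hf𝒳
  -- representability
  have hB : AlgSt.RepByAlgSp (FibCat.fp y₀ y) :=
    repByAlgSp1_of_diag hf𝒴 h𝒴.diag hfV₀ hfV hℬ₀ hℬ y₀ y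
  have hy1 : AlgSt.RepByAlgSp1 y := (repByAlgSp1_iff_with_top y).2
    (repByAlgSpWith_mono (fun _ _ _ _ => trivial) y hy)
  have hC : AlgSt.RepByAlgSp (FibCat.fp x₀ π₁) :=
    repByAlgSp_fp hffy hf𝒳 hfU₀ π₁ x₀ (repByAlgSp1_fpFst y f hy1) h𝒜₀
  have hℓ1 : AlgSt.RepByAlgSp1 ℓ := (repByAlgSp1_iff_with_top ℓ).2
    (repByAlgSpWith_mono (fun _ _ _ _ => trivial) ℓ hℓ)
  have hA : AlgSt.RepByAlgSp (FibCat.fp σ ℓ) := repByAlgSp_fp hfU hffy hfC ℓ σ hℓ1 hC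
  -- step 1-3
  have s1 : PT P Φ₀ := hP₀
  have s2 : PT P (FibCat.fpFst q₁ Φ₀) :=
    PT.fpFst hP hB q₁ (repByAlgSpWith_fpFst _ y y₀ hy) s1
  have s3 : PT P (FibCat.fpSnd Φ₀ q₁) :=
    PT.of_equiv_comp _ (Groth.Agent.Lib.Helper24.FibCatFpSwap.isEquivOver_swap q₁ Φ₀)
      (PT.of_iso (Iso.refl _) s2)
  have s4 : PT P (mapL Φ₀ y₀ y) :=
    PT.of_equiv_comp _ (Groth.Agent.Lib.Helper24.FibCatFpPaste.isEquivOver_P
      (f := y) (g := y₀) (G := Φ₀))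
      (PT.of_iso (mapLIso Φ₀ y₀ y).symm s3)
  -- the comparison `C' ⟶ B`
  let eF : BasedFunctor.comp (BasedFunctor.comp x₀ f) (BasedFunctor.id 𝒴) ≅
      BasedFunctor.comp (BasedFunctor.id 𝒜₀)
        (BasedFunctor.comp Φ₀ y₀) := α₀
  let eG : BasedFunctor.comp y (BasedFunctor.id 𝒴) ≅
      BasedFunctor.comp (BasedFunctor.id ℬ) y := Iso.refl _
  let cg : FibCat.fp (BasedFunctor.comp x₀ f) y ⥤ᵇ
      FibCat.fp (BasedFunctor.comp Φ₀ y₀) y :=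
    fpMap (BasedFunctor.id 𝒜₀) (BasedFunctor.id ℬ)
      (BasedFunctor.id 𝒴) eF eG
  have hcg : FibCat.IsEquivOver cg :=
    isEquivOver_fpMap _ _ _ eF eG (isEquivOver_id _) (isEquivOver_id _)
  let m' : FibCat.fp x₀ π₁ ⥤ᵇ FibCat.fp y₀ y :=
    BasedFunctor.comp (BasedFunctor.comp (Groth.Agent.Lib.Helper24.FibCatFpPaste.P y f x₀) cg)
      (mapL Φ₀ y₀ y)
  have s5 : PT P m' :=
    PT.equiv_comp _ (isEquivOver_comp _ _ Groth.Agent.Lib.Helper24.FibCatFpPaste.isEquivOver_P hcg) s4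
  have s6 : PT P (BasedFunctor.comp p₁ m') :=
    PT.smooth_comp hP hA p₁ (repByAlgSpWith_fpFst _ ℓ σ hℓ) s5
  have s7 : PT P (BasedFunctor.comp (BasedFunctor.comp p₁ m') q₂) :=
    PT.comp_smooth hP hℬ q₂ (repByAlgSpWith_fpSnd _ y₀ y hy₀) s6
  have iso7 : BasedFunctor.comp (BasedFunctor.comp p₁ m') q₂ ≅
      BasedFunctor.comp p₂ Φ :=
    ((whiskerLeftIso p₁ (Iso.refl _ : BasedFunctor.comp m' q₂ ≅ BasedFunctor.comp σ π₂)).trans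
      (whiskerRightIso (FibCat.fpIso σ ℓ) π₂)).trans
      (whiskerLeftIso p₂ (Iso.refl _ : BasedFunctor.comp ℓ π₂ ≅ Φ))
  have s8 : PT P (BasedFunctor.comp p₂ Φ) := PT.of_iso iso7 s7
  have hσ1 : AlgSt.RepByAlgSpWith (AlgSp.LocP @Smooth) σ := repByAlgSpWith_fpSnd _ x₀ π₁ hx₀
  have hσ2 : AlgSt.RepByAlgSpWith AlgSp.IsSurjectiveMor σ := repByAlgSpWith_fpSnd _ x₀ π₁ hx₀'
  exact PT.of_smooth_surjective_comp hP h𝒜 p₂ (repByAlgSpWith_fpSnd _ σ ℓ hσ1)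
      (repByAlgSpWith_fpSnd _ σ ℓ hσ2) s8

include hP h𝒳 h𝒴 in
/-- the main step: a witness square and a test square with smooth comparison -/
theorem P_of_witness {U₀ V₀ U V : Over S}
    (x₀ : FibCat.overCat U₀ ⥤ᵇ 𝒳) (y₀ : FibCat.overCat V₀ ⥤ᵇ 𝒴) (h₀ : U₀ ⟶ V₀)
    (α₀ : BasedFunctor.comp x₀ f ≅ BasedFunctor.comp (AlgSt.overMap h₀) y₀)
    (hx₀ : AlgSt.RepByAlgSpWith (AlgSp.LocP @Smooth) x₀)
    (hx₀' : AlgSt.RepByAlgSpWith AlgSp.IsSurjectiveMor x₀)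
    (hy₀ : AlgSt.RepByAlgSpWith (AlgSp.LocP @Smooth) y₀) (hP₀ : P ((AlgSp.yon S).map h₀))
    (x : FibCat.overCat U ⥤ᵇ 𝒳) (y : FibCat.overCat V ⥤ᵇ 𝒴) (h : U ⟶ V)
    (α : BasedFunctor.comp x f ≅ BasedFunctor.comp (AlgSt.overMap h) y)
    (hy : AlgSt.RepByAlgSpWith (AlgSp.LocP @Smooth) y)
    (hℓ : AlgSt.RepByAlgSpWith (AlgSp.LocP @Smooth) (FibCat.fpLift x (AlgSt.overMap h) α)) :
    P ((AlgSp.yon S).map h) := by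
  have hPi := phat_respectsIso' hP
  exact (pt_overMap_iff hPi h).1 (PT_of_witness hP h𝒳 h𝒴 f (repByAlgSp_overCat U₀)
    (repByAlgSp_overCat V₀) (repByAlgSp_overCat U) (repByAlgSp_overCat V) x₀ y₀ (AlgSt.overMap h₀) α₀
    hx₀ hx₀' hy₀ ((pt_overMap_iff hPi h₀).2 hP₀) x y (AlgSt.overMap h) α hy hℓ)

end chase

end Groth.Agent.Lib.Helper24.AlgStLocQ2
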