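import Groth.Agent.Lib.Helper24.FibCatFpFactor
import Groth.Agent.Lib.Helper24.AlgStRep2
import Groth.Agent.Lib.Helper24.AlgStBridge
set_option autoImplicit false
set_option linter.unusedSectionVars false
open CategoryTheory CategoryTheory.Limits
universe u v u₂ v₂ u₃ v₃ u₄ v₄ u₅ v₅ u₆ v₆
set_option backward.isDefEq.respectTransparency false
set_option backward.isDefEq.respectTransparency.types false

/-! A functor into a 2-fibre product is the lift of its projections. -/

namespace Groth.Agent.Lib.Helper24.FibCatFpLiftIso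
open Groth.Agent.Lib.Helper24.FibCatFpGen Groth.Agent.Lib.Helper24.FibCatEquiv
open Groth.Agent.Lib.Helper24.FibCatDiag (mkIso)
open Groth.Agent.Lib.Helper24.FibCatFpMap
open Groth.Agent.Lib.Helper24.AlgStRep Groth.Agent.Lib.Helper24.AlgStBridge

variable {C : Type u} [Category.{v} C]
variable {𝒳 : BasedCategory.{v₂, u₂} C} {𝒴 : BasedCategory.{v₂, u₂} C}
  {𝒮 : BasedCategory.{v₂, u₂} C} {𝒲 : BasedCategory.{v₂, u₂} C}
  {F : 𝒳 ⥤ᵇ 𝒮} {G : 𝒴 ⥤ᵇ 𝒮} (c : 𝒲 ⥤ᵇ FibCat.fp F G) (b : 𝒲 ⥤ᵇ 𝒴)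
  (i : BasedFunctor.comp c (FibCat.fpSnd F G) ≅ b)

/-- the 2-isomorphism of the lift -/
def liftE : BasedFunctor.comp (BasedFunctor.comp c (FibCat.fpFst F G)) F ≅ BasedFunctor.comp b G :=
  (whiskerLeftIso c (FibCat.fpIso F G)).trans (whiskerRightIso i G)

def liftApp (w : 𝒲.obj) :
    (FibCat.fpLift (BasedFunctor.comp c (FibCat.fpFst F G)) b (liftE c b i)).toFunctor.obj w ≅
      c.toFunctor.obj w :=
  mkIso (F := F) (G := G) (Iso.refl _) (appIso i w).symm (by
    change F.toFunctor.map (𝟙 _) ≫ (c.toFunctor.obj w).obj.iso.hom =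
      ((c.toFunctor.obj w).obj.iso.hom ≫ G.toFunctor.map (i.hom.toNatTrans.app w)) ≫
        G.toFunctor.map (i.inv.toNatTrans.app w)
    have h1 : i.hom.toNatTrans.app w ≫ i.inv.toNatTrans.app w = 𝟙 _ :=
      congrArg (fun t => t.toNatTrans.app w) i.hom_inv_id
    have h2 : G.toFunctor.map (i.hom.toNatTrans.app w) ≫ G.toFunctor.map (i.inv.toNatTrans.app w) =
        𝟙 _ := by
      rw [← G.toFunctor.map_comp, h1]
      exact G.toFunctor.map_id _
    rw [F.toFunctor.map_id, Category.id_comp, Category.assoc, h2]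
    exact (Category.comp_id _).symm)

/-- a functor into a 2-fibre product is the lift of its projections -/
def liftIso :
    FibCat.fpLift (BasedFunctor.comp c (FibCat.fpFst F G)) b (liftE c b i) ≅ c :=
  BasedNatIso.mkNatIso (NatIso.ofComponents (liftApp c b i) (by
    intro w w' m
    apply hom_ext'
    · change (c.toFunctor.map m).hom.fst ≫ 𝟙 _ = 𝟙 _ ≫ (c.toFunctor.map m).hom.fst
      simp
    · exact (i.inv.toNatTrans.naturality m))) (by
    intro w
    rw [isHomLift_iff_fst]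
    change 𝒳.p.IsHomLift (𝟙 (𝒲.p.obj w)) (𝟙 ((BasedFunctor.comp c (FibCat.fpFst F G)).toFunctor.obj w))
    rw [← (BasedFunctor.comp c (FibCat.fpFst F G)).w_obj w]
    infer_instance)

end Groth.Agent.Lib.Helper24.FibCatFpLiftIso
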