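import Groth.Agent.Lib.Helper24.AlgStLocQ2
import Groth.Agent.Lib.Helper24.FibCatFpLiftIso
import Groth.Agent.Lib.Helper24.AlgStAtlas
set_option autoImplicit false
open CategoryTheory AlgebraicGeometry Opposite
universe w₁ v₁ w₂ v₂ w₃ v₃ w₄ v₄ u
set_option backward.isDefEq.respectTransparency false
set_option backward.isDefEq.respectTransparency.types false

/-! Independence of `LocQ P f` of the chart square (S12990), converse and iff. -/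

namespace Groth.Agent.Lib.Helper24.AlgStLocQ3
open Groth.Agent.Lib.Helper24.FibCatFpMap
open Groth.Agent.Lib.Helper24.FibCatEquiv Groth.Agent.Lib.Helper24.FibCatFpGen
open Groth.Agent.Lib.Helper24.AlgStRep
open Groth.Agent.Lib.Helper24.AlgStBridge Groth.Agent.Lib.Helper24.AlgStBoot
open Groth.Agent.Lib.Helper24.AlgStRepS
open Groth.Agent.Lib.Helper24.AlgStSchLocal
open Groth.Agent.Lib.Helper24.AlgStGC
open Groth.Agent.Lib.Helper24.AlgStProps Groth.Agent.Lib.Helper24.AlgStSmooth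
open Groth.Agent.Lib.Helper24.AlgStFpAlg Groth.Agent.Lib.Helper24.AlgStSmLoc
open Groth.Agent.Lib.Helper24.AlgStEqv Groth.Agent.Lib.Helper24.PshBridge
open Groth.Agent.Lib.Helper24.AlgStLocQ1 Groth.Agent.Lib.Helper24.FibCatFpMapL
open Groth.Agent.Lib.Helper24.AlgStLocQ2 Groth.Agent.Lib.Helper24.FibCatFpLiftIso
open Groth.Agent.Lib.Helper24.AlgStCalc Groth.Agent.Lib.Helper24.AlgStDiag
open Groth.Agent.Lib.Helper24.FibCatOverMap Groth.Agent.Lib.Helper24.AlgStAtlas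
open CategoryTheory.Limits

variable {S : Scheme.{u}}

section
variable {P : MorphismProperty (AlgSp.Sp S)}
variable {𝒳 𝒴 : AlgSt.Cat S} (h𝒳 : AlgSt.IsAlgStack Scheme.fppfPrecoverage 𝒳)
  (h𝒴 : AlgSt.IsAlgStack Scheme.fppfPrecoverage 𝒴) (f : 𝒳 ⥤ᵇ 𝒴)

include h𝒳 h𝒴 in
/-- existence of a chart square with smooth surjective comparison, over a given smooth chart of the
target from a representable category -/
theorem exists_square_gen {ℬ : AlgSt.Cat S} (hℬ : AlgSt.RepByAlgSp ℬ) (y : ℬ ⥤ᵇ 𝒴)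
    (hy : AlgSt.RepByAlgSpWith (AlgSp.LocP @Smooth) y) :
    ∃ (U : Over S) (c : FibCat.overCat U ⥤ᵇ FibCat.fp f y),
      AlgSt.RepByAlgSpWith (AlgSp.LocP @Smooth) c ∧ AlgSt.RepByAlgSpWith AlgSp.IsSurjectiveMor c ∧
      AlgSt.RepByAlgSpWith (AlgSp.LocP @Smooth) (BasedFunctor.comp c (FibCat.fpFst f y)) := by
  have hfV : FibCat.IsFibGrpd ℬ.p := isFibGrpd_of_repByAlgSp hℬ
  have hf𝒳 := h𝒳.isStack.1
  have hValg : AlgSt.IsAlgStack Scheme.fppfPrecoverage ℬ := isAlgStack_of_repByAlgSp hℬ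
  have hfp : AlgSt.IsAlgStack Scheme.fppfPrecoverage (FibCat.fp f y) :=
    isAlgStack_fp h𝒴.isStack h𝒴.diag h𝒳 hValg f y
  obtain ⟨U, c, hc, hc'⟩ := hfp.atlas
  have hfU : FibCat.IsFibGrpd (FibCat.overCat U).p := StkFpCrit.isFibGrpd_overForget U
  exact ⟨U, c, hc, hc', repByAlgSpWith_comp hfU hfp.isStack.1 hf𝒳 _ good_smooth.nice
    stableComp_smooth _ _ hc (repByAlgSpWith_fpFst _ y f hy)⟩

include h𝒳 h𝒴 in
/-- existence of a chart square with smooth comparison, over a given smooth scheme chart of the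
target -/
theorem exists_square {V : Over S} (y : FibCat.overCat V ⥤ᵇ 𝒴)
    (hy : AlgSt.RepByAlgSpWith (AlgSp.LocP @Smooth) y) :
    ∃ (U : Over S) (x : FibCat.overCat U ⥤ᵇ 𝒳) (h : U ⟶ V)
      (α : BasedFunctor.comp x f ≅ BasedFunctor.comp (AlgSt.overMap h) y),
      AlgSt.RepByAlgSpWith (AlgSp.LocP @Smooth) x ∧
      AlgSt.RepByAlgSpWith (AlgSp.LocP @Smooth) (FibCat.fpLift x (AlgSt.overMap h) α) ∧
      AlgSt.RepByAlgSpWith AlgSp.IsSurjectiveMor (FibCat.fpLift x (AlgSt.overMap h) α) ∧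
      (AlgSt.RepByAlgSpWith AlgSp.IsSurjectiveMor y → AlgSt.RepByAlgSpWith AlgSp.IsSurjectiveMor x) := by
  have hfV : FibCat.IsFibGrpd (FibCat.overCat V).p := StkFpCrit.isFibGrpd_overForget V
  have hf𝒳 := h𝒳.isStack.1
  have hf𝒴 := h𝒴.isStack.1
  obtain ⟨U, c, hc, hc', hx⟩ := exists_square_gen h𝒳 h𝒴 f (repByAlgSp_overCat V) y hy
  have hfU : FibCat.IsFibGrpd (FibCat.overCat U).p := StkFpCrit.isFibGrpd_overForget U
  have hffy : FibCat.IsFibGrpd (FibCat.fp f y).p := isFibGrpd_fp _ _ hf𝒳 hfV hf𝒴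
  obtain ⟨g, ⟨i⟩⟩ := exists_iso_overMapC (BasedFunctor.comp c (FibCat.fpSnd f y))
  refine ⟨U, BasedFunctor.comp c (FibCat.fpFst f y), g, liftE c (AlgSt.overMap g) i, hx, ?_, ?_, ?_⟩
  · exact repByAlgSpWith_of_iso _ (liftIso c (AlgSt.overMap g) i).symm hc
  · exact repByAlgSpWith_of_iso _ (liftIso c (AlgSt.overMap g) i).symm hc'
  · intro hy'
    exact repByAlgSpWith_comp hfU hffy hf𝒳 _ good_isSurjectiveMor.nice
      stableComp_isSurjectiveMor _ _ hc' (repByAlgSpWith_fpFst _ y f hy')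

include h𝒳 h𝒴 in
/-- (⟸) of S12990 -/
theorem locQ_of_forall
    (H : ∀ (U V : Over S) (x : FibCat.overCat U ⥤ᵇ 𝒳) (y : FibCat.overCat V ⥤ᵇ 𝒴) (h : U ⟶ V)
        (α : BasedFunctor.comp x f ≅ BasedFunctor.comp (AlgSt.overMap h) y),
        AlgSt.RepByAlgSpWith (AlgSp.LocP @Smooth) x → AlgSt.RepByAlgSpWith (AlgSp.LocP @Smooth) y →
        AlgSt.RepByAlgSpWith (AlgSp.LocP @Smooth) (FibCat.fpLift x (AlgSt.overMap h) α) →
          P ((AlgSp.yon S).map h)) : AlgSt.LocQ P f := by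
  obtain ⟨V, y, hy, hy'⟩ := h𝒴.atlas
  obtain ⟨U, x, h, α, hx, hℓ, -, hx'⟩ := exists_square h𝒳 h𝒴 f y hy
  exact ⟨U, V, x, y, h, α, hx, hx' hy', hy, H U V x y h α hx hy hℓ⟩

include h𝒳 h𝒴 in
/-- S12990 -/
theorem locQ_iff_forall (hP : AlgSp.IsSmoothLocalST P) :
    AlgSt.LocQ P f ↔
      ∀ (U V : Over S) (x : FibCat.overCat U ⥤ᵇ 𝒳) (y : FibCat.overCat V ⥤ᵇ 𝒴) (h : U ⟶ V)
        (α : BasedFunctor.comp x f ≅ BasedFunctor.comp (AlgSt.overMap h) y),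
        AlgSt.RepByAlgSpWith (AlgSp.LocP @Smooth) x → AlgSt.RepByAlgSpWith (AlgSp.LocP @Smooth) y →
        AlgSt.RepByAlgSpWith (AlgSp.LocP @Smooth) (FibCat.fpLift x (AlgSt.overMap h) α) →
          P ((AlgSp.yon S).map h) := by
  constructor
  · rintro ⟨U₀, V₀, x₀, y₀, h₀, α₀, hx₀, hx₀', hy₀, hP₀⟩ U V x y h α - hy hℓ
    exact P_of_witness hP h𝒳 h𝒴 f x₀ y₀ h₀ α₀ hx₀ hx₀' hy₀ hP₀ x y h α hy hℓ
  · exact locQ_of_forall h𝒳 h𝒴 f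

include h𝒳 h𝒴 in
/-- a witness square with charts from categories representable by algebraic spaces gives `LocQ` -/
theorem locQ_of_PT_witness (hP : AlgSp.IsSmoothLocalST P) {𝒜₀ ℬ₀ : AlgSt.Cat S}
    (h𝒜₀ : AlgSt.RepByAlgSp 𝒜₀) (hℬ₀ : AlgSt.RepByAlgSp ℬ₀)
    (x₀ : 𝒜₀ ⥤ᵇ 𝒳) (y₀ : ℬ₀ ⥤ᵇ 𝒴) (Φ₀ : 𝒜₀ ⥤ᵇ ℬ₀)
    (α₀ : BasedFunctor.comp x₀ f ≅ BasedFunctor.comp Φ₀ y₀)
    (hx₀ : AlgSt.RepByAlgSpWith (AlgSp.LocP @Smooth) x₀)
    (hx₀' : AlgSt.RepByAlgSpWith AlgSp.IsSurjectiveMor x₀)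
    (hy₀ : AlgSt.RepByAlgSpWith (AlgSp.LocP @Smooth) y₀) (hP₀ : PT P Φ₀) :
    AlgSt.LocQ P f := by
  have hPi := phat_respectsIso' hP
  have hf𝒜₀ : FibCat.IsFibGrpd 𝒜₀.p := isFibGrpd_of_repByAlgSp h𝒜₀
  have hfℬ₀ : FibCat.IsFibGrpd ℬ₀.p := isFibGrpd_of_repByAlgSp hℬ₀
  have hf𝒳 := h𝒳.isStack.1
  have hf𝒴 := h𝒴.isStack.1
  have hℬalg : AlgSt.IsAlgStack Scheme.fppfPrecoverage ℬ₀ := isAlgStack_of_repByAlgSp hℬ₀
  obtain ⟨V, v, hv, hv'⟩ := hℬalg.atlas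
  have hfV : FibCat.IsFibGrpd (FibCat.overCat V).p := StkFpCrit.isFibGrpd_overForget V
  have h𝒞 : AlgSt.RepByAlgSp (FibCat.fp v Φ₀) :=
    repByAlgSp1_of_diag hfℬ₀ hℬalg.diag hfV hf𝒜₀ (repByAlgSp_overCat V) h𝒜₀ v Φ₀
  have hf𝒞 : FibCat.IsFibGrpd (FibCat.fp v Φ₀).p := isFibGrpd_of_repByAlgSp h𝒞
  obtain ⟨U, u, hu, hu'⟩ := (isAlgStack_of_repByAlgSp h𝒞).atlas
  have hfU : FibCat.IsFibGrpd (FibCat.overCat U).p := StkFpCrit.isFibGrpd_overForget U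
  have s1 : PT P (FibCat.fpFst v Φ₀) := PT.fpFst hP (repByAlgSp_overCat V) v hv hP₀
  have s2 : PT P (BasedFunctor.comp u (FibCat.fpFst v Φ₀)) :=
    PT.smooth_comp hP (repByAlgSp_overCat U) u hu s1
  obtain ⟨h, ⟨i⟩⟩ := exists_iso_overMapC (BasedFunctor.comp u (FibCat.fpFst v Φ₀))
  have s3 : P ((AlgSp.yon S).map h) := (pt_overMap_iff hPi h).1 (PT.of_iso i s2)
  have hσ : AlgSt.RepByAlgSpWith (AlgSp.LocP @Smooth) (FibCat.fpSnd v Φ₀) :=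
    repByAlgSpWith_fpSnd _ v Φ₀ hv
  have hσ' : AlgSt.RepByAlgSpWith AlgSp.IsSurjectiveMor (FibCat.fpSnd v Φ₀) :=
    repByAlgSpWith_fpSnd _ v Φ₀ hv'
  let x : FibCat.overCat U ⥤ᵇ 𝒳 := BasedFunctor.comp u (BasedFunctor.comp (FibCat.fpSnd v Φ₀) x₀)
  have hx : AlgSt.RepByAlgSpWith (AlgSp.LocP @Smooth) x :=
    repByAlgSpWith_comp hfU hf𝒞 hf𝒳 _ good_smooth.nice stableComp_smooth _ _ hu
      (repByAlgSpWith_comp hf𝒞 hf𝒜₀ hf𝒳 _ good_smooth.nice stableComp_smooth _ _ hσ hx₀)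
  have hx' : AlgSt.RepByAlgSpWith AlgSp.IsSurjectiveMor x :=
    repByAlgSpWith_comp hfU hf𝒞 hf𝒳 _ good_isSurjectiveMor.nice stableComp_isSurjectiveMor _ _ hu'
      (repByAlgSpWith_comp hf𝒞 hf𝒜₀ hf𝒳 _ good_isSurjectiveMor.nice stableComp_isSurjectiveMor
        _ _ hσ' hx₀')
  have hy : AlgSt.RepByAlgSpWith (AlgSp.LocP @Smooth) (BasedFunctor.comp v y₀) :=
    repByAlgSpWith_comp hfV hfℬ₀ hf𝒴 _ good_smooth.nice stableComp_smooth _ _ hv hy₀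
  let α : BasedFunctor.comp x f ≅ BasedFunctor.comp (AlgSt.overMap h) (BasedFunctor.comp v y₀) :=
    ((whiskerLeftIso u (whiskerLeftIso (FibCat.fpSnd v Φ₀) α₀)).trans
      (whiskerLeftIso u (whiskerRightIso (FibCat.fpIso v Φ₀).symm y₀))).trans
      (whiskerRightIso i (BasedFunctor.comp v y₀))
  exact ⟨U, V, x, BasedFunctor.comp v y₀, h, α, hx, hx', hy, s3⟩

include h𝒳 h𝒴 in
/-- characterisation of `LocQ` by all squares with charts from representable categories -/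
theorem locQ_iff_PT_forall (hP : AlgSp.IsSmoothLocalST P) :
    AlgSt.LocQ P f ↔
      ∀ (𝒜 ℬ : AlgSt.Cat S), AlgSt.RepByAlgSp 𝒜 → AlgSt.RepByAlgSp ℬ →
        ∀ (x : 𝒜 ⥤ᵇ 𝒳) (y : ℬ ⥤ᵇ 𝒴) (Φ : 𝒜 ⥤ᵇ ℬ)
        (α : BasedFunctor.comp x f ≅ BasedFunctor.comp Φ y),
        AlgSt.RepByAlgSpWith (AlgSp.LocP @Smooth) y →
        AlgSt.RepByAlgSpWith (AlgSp.LocP @Smooth) (FibCat.fpLift x Φ α) → PT P Φ := by
  have hPi := phat_respectsIso' hP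
  constructor
  · rintro ⟨U₀, V₀, x₀, y₀, h₀, α₀, hx₀, hx₀', hy₀, hP₀⟩ 𝒜 ℬ h𝒜 hℬ x y Φ α hy hℓ
    exact PT_of_witness hP h𝒳 h𝒴 f (repByAlgSp_overCat U₀) (repByAlgSp_overCat V₀) h𝒜 hℬ x₀ y₀
      (AlgSt.overMap h₀) α₀ hx₀ hx₀' hy₀ ((pt_overMap_iff hPi h₀).2 hP₀) x y Φ α hy hℓ
  · intro H
    refine locQ_of_forall h𝒳 h𝒴 f fun U V x y h α _ hy hℓ => ?_
    exact (pt_overMap_iff hPi h).1
      (H _ _ (repByAlgSp_overCat U) (repByAlgSp_overCat V) x y (AlgSt.overMap h) α hy hℓ)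

end

end Groth.Agent.Lib.Helper24.AlgStLocQ3
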