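import Groth.Agent.Lib.Helper24.AlgStLocQ3
import Groth.Agent.Lib.Helper24.AlgStProdAlg
import Groth.Agent.Lib.Helper24.FibCatGraph
set_option autoImplicit false
open CategoryTheory AlgebraicGeometry Opposite
universe w₁ v₁ w₂ v₂ w₃ v₃ w₄ v₄ u
set_option backward.isDefEq.respectTransparency false
set_option backward.isDefEq.respectTransparency.types false

/-! `LocQ` for algebraic spaces (S12992) and first permanence properties. -/

namespace Groth.Agent.Lib.Helper24.AlgStLocQ4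
open Groth.Agent.Lib.Helper24.FibCatFpMap
open Groth.Agent.Lib.Helper24.FibCatEquiv Groth.Agent.Lib.Helper24.FibCatFpGen
open Groth.Agent.Lib.Helper24.AlgStRep
open Groth.Agent.Lib.Helper24.AlgStBridge Groth.Agent.Lib.Helper24.AlgStBoot
open Groth.Agent.Lib.Helper24.AlgStRepS
open Groth.Agent.Lib.Helper24.AlgStSchLocal
open Groth.Agent.Lib.Helper24.AlgStGC
open Groth.Agent.Lib.Helper24.AlgStProps Groth.Agent.Lib.Helper24.AlgStSmooth
open Groth.Agent.Lib.Helper24.AlgStFpAlg Groth.Agent.Lib.Helper24.AlgStSmLoc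
open Groth.Agent.Lib.Helper24.AlgStEqv Groth.Agent.Lib.Helper24.PshBridge
open Groth.Agent.Lib.Helper24.AlgStLocQ1 Groth.Agent.Lib.Helper24.FibCatFpMapL
open Groth.Agent.Lib.Helper24.AlgStLocQ2 Groth.Agent.Lib.Helper24.FibCatFpLiftIso
open Groth.Agent.Lib.Helper24.AlgStLocQ3 Groth.Agent.Lib.Helper24.AlgStProdAlg
open Groth.Agent.Lib.Helper24.AlgStCalc Groth.Agent.Lib.Helper24.AlgStDiag
open Groth.Agent.Lib.Helper24.FibCatOverMap Groth.Agent.Lib.Helper24.AlgStAtlas
open Groth.Agent.Lib.Helper24.FibCatGraph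
open CategoryTheory.Limits

variable {S : Scheme.{u}}

theorem hasIsos_smooth : HasIsos (AlgSp.LocP @Smooth (S := S)) :=
  hasIsos_locP etale_le_smooth

theorem hasIsos_isSurjectiveMor : HasIsos (AlgSp.IsSurjectiveMor (S := S)) := by
  intro X Y e he y
  refine ⟨AlgSp.Points.map (inv e) y, ?_⟩
  rw [← AlgSp.Points.map_comp, IsIso.inv_hom_id, AlgSp.Points.map_id]

theorem smooth_of_isEquivOver {𝒳 : BasedCategory.{v₁, w₁} (Over S)}
    {𝒴 : BasedCategory.{v₂, w₂} (Over S)} (e : 𝒳 ⥤ᵇ 𝒴) (he : FibCat.IsEquivOver e) :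
    AlgSt.RepByAlgSpWith (AlgSp.LocP @Smooth) e :=
  repByAlgSpWith_of_isEquivOver _ hasIsos_smooth e he

theorem surjective_of_isEquivOver {𝒳 : BasedCategory.{v₁, w₁} (Over S)}
    {𝒴 : BasedCategory.{v₂, w₂} (Over S)} (e : 𝒳 ⥤ᵇ 𝒴) (he : FibCat.IsEquivOver e) :
    AlgSt.RepByAlgSpWith AlgSp.IsSurjectiveMor e :=
  repByAlgSpWith_of_isEquivOver _ hasIsos_isSurjectiveMor e he

section
variable {P : MorphismProperty (AlgSp.Sp S)} (hP : AlgSp.IsSmoothLocalST P)
include hP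

/-- S12992 -/
theorem locQ_ofSpMap_iff {F G : AlgSp.Space S} (a : F.obj ⟶ G.obj) :
    AlgSt.LocQ P (AlgSt.ofSpMap a) ↔ P a := by
  have hPi := phat_respectsIso' hP
  constructor
  · intro h
    have := (locQ_iff_PT_forall (isAlgStack_ofSp F) (isAlgStack_ofSp G) (AlgSt.ofSpMap a) hP).1 h
      _ _ (repByAlgSp_ofSp F) (repByAlgSp_ofSp G) (BasedFunctor.id _) (BasedFunctor.id _)
      (AlgSt.ofSpMap a) (Iso.refl _) (smooth_of_isEquivOver _ (isEquivOver_id _))
      (smooth_of_isEquivOver _ (isEquivOver_graphEquiv (AlgSt.ofSpMap a)))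
    exact (pt_ofSpMap_iff hPi a).1 this
  · intro h
    exact locQ_of_PT_witness (isAlgStack_ofSp F) (isAlgStack_ofSp G) (AlgSt.ofSpMap a) hP
      (repByAlgSp_ofSp F) (repByAlgSp_ofSp G) (BasedFunctor.id _) (BasedFunctor.id _)
      (AlgSt.ofSpMap a) (Iso.refl _) (smooth_of_isEquivOver _ (isEquivOver_id _))
      (surjective_of_isEquivOver _ (isEquivOver_id _))
      (smooth_of_isEquivOver _ (isEquivOver_id _)) (pt_ofSpMap a h)

end

end Groth.Agent.Lib.Helper24.AlgStLocQ4
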