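import Groth.Agent.Lib.Helper24.AlgStLocQ6
import Groth.Agent.Lib.Helper24.AlgStPts7
set_option autoImplicit false
open CategoryTheory AlgebraicGeometry Opposite
universe w₁ v₁ w₂ v₂ w₃ v₃ w₄ v₄ u
set_option backward.isDefEq.respectTransparency false
set_option backward.isDefEq.respectTransparency.types false

/-! fppf descent on the base for `PT`, invariance of `LocQ` under equivalences. -/

namespace Groth.Agent.Lib.Helper24.AlgStLocQ7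
open Groth.Agent.Lib.Helper24.FibCatFpMap
open Groth.Agent.Lib.Helper24.FibCatEquiv Groth.Agent.Lib.Helper24.FibCatFpGen
open Groth.Agent.Lib.Helper24.AlgStRep
open Groth.Agent.Lib.Helper24.AlgStBridge Groth.Agent.Lib.Helper24.AlgStBoot
open Groth.Agent.Lib.Helper24.AlgStRepS
open Groth.Agent.Lib.Helper24.AlgStSchLocal
open Groth.Agent.Lib.Helper24.AlgStGC
open Groth.Agent.Lib.Helper24.AlgStProps Groth.Agent.Lib.Helper24.AlgStSmooth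
open Groth.Agent.Lib.Helper24.AlgStFpAlg Groth.Agent.Lib.Helper24.AlgStSmLoc
open Groth.Agent.Lib.Helper24.AlgStEqv Groth.Agent.Lib.Helper24.PshBridge
open Groth.Agent.Lib.Helper24.AlgStLocQ1 Groth.Agent.Lib.Helper24.FibCatFpMapL
open Groth.Agent.Lib.Helper24.AlgStLocQ2 Groth.Agent.Lib.Helper24.FibCatFpLiftIso
open Groth.Agent.Lib.Helper24.AlgStLocQ3 Groth.Agent.Lib.Helper24.AlgStProdAlg
open Groth.Agent.Lib.Helper24.AlgStLocQ4 Groth.Agent.Lib.Helper24.AlgStLocQ5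
open Groth.Agent.Lib.Helper24.AlgStLocQ6
open Groth.Agent.Lib.Helper24.AlgStCalc Groth.Agent.Lib.Helper24.AlgStDiag
open Groth.Agent.Lib.Helper24.AlgStCalc2 Groth.Agent.Lib.Helper24.AlgStDescent
open Groth.Agent.Lib.Helper24.FibCatOverMap Groth.Agent.Lib.Helper24.AlgStAtlas
open Groth.Agent.Lib.Helper24.FibCatGraph Groth.Agent.Lib.Helper24.AlgStDiagLft
open Groth.Agent.Lib.Helper24.FibCatFpSwap Groth.Agent.Lib.Helper24.AlgStProd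
open Groth.Agent.Lib.Helper24.AlgSpSmLocal
open CategoryTheory.Limits

variable {S : Scheme.{u}}

section PTfp
variable {𝒜 : BasedCategory.{v₁, w₁} (Over S)} {ℬ : BasedCategory.{v₂, w₂} (Over S)}
  {ℬ' : BasedCategory.{v₃, w₃} (Over S)}
variable {P : MorphismProperty (AlgSp.Sp S)}

/-- `PT` of a base change, computed on a pullback of sheaves -/
theorem pt_fpFst_iff (hPi : (Phat P).RespectsIso) {F G G' : AlgSp.Space S}
    (eA : AlgSt.ofSp F.obj ⥤ᵇ 𝒜) (eB : ℬ ⥤ᵇ AlgSt.ofSp G.obj) (e' : AlgSt.ofSp G'.obj ⥤ᵇ ℬ')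
    (hA : FibCat.IsEquivOver eA) (hB : FibCat.IsEquivOver eB) (he' : FibCat.IsEquivOver e')
    (β : ℬ' ⥤ᵇ ℬ) (Φ : 𝒜 ⥤ᵇ ℬ) :
    PT P (FibCat.fpFst β Φ) ↔
      P (pullback.snd (spMapOf (BasedFunctor.comp eA (BasedFunctor.comp Φ eB)))
        (spMapOf (BasedFunctor.comp e' (BasedFunctor.comp β eB)))) := by
  obtain ⟨eBi, ⟨b⟩, ⟨b'⟩⟩ := hB
  obtain ⟨e'i, ⟨c⟩, ⟨c'⟩⟩ := he'
  obtain ⟨φ, hφ⟩ : ∃ φ : F.obj ⟶ G.obj,
      φ = spMapOf (BasedFunctor.comp eA (BasedFunctor.comp Φ eB)) := ⟨_, rfl⟩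
  obtain ⟨bb, hbb'⟩ : ∃ bb : G'.obj ⟶ G.obj,
      bb = spMapOf (BasedFunctor.comp e' (BasedFunctor.comp β eB)) := ⟨_, rfl⟩
  rw [← hφ, ← hbb']
  have sq := IsPullback.of_hasPullback φ bb
  have hX : AlgSp.IsAlgSpace (pullback φ bb) :=
    Groth.Agent.Lib.Helper14.AS.isAlgSpace_of_isPullback
      (Groth.Agent.Lib.Helper14.AS.repDiag_of_isAlgSpace G.property) F.property G'.property sq
  let X : AlgSp.Space S := ⟨pullback φ bb, hX⟩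
  have c0 := eqvOver_of_isPullback sq
  obtain ⟨⟨_, _⟩, -⟩ := props_of_isEquivOver eBi ⟨eB, ⟨b'⟩, ⟨b⟩⟩
  let eF : BasedFunctor.comp (AlgSt.ofSpMap bb) eBi ≅ BasedFunctor.comp e' β := by
    subst hbb'
    exact (whiskerRightIso (isoOfPshMap (BasedFunctor.comp e' (BasedFunctor.comp β eB))).symm
      eBi).trans (whiskerLeftIso e' (whiskerLeftIso β b))
  let eG : BasedFunctor.comp (AlgSt.ofSpMap φ) eBi ≅ BasedFunctor.comp eA Φ := by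
    subst hφ
    exact (whiskerRightIso (isoOfPshMap (BasedFunctor.comp eA (BasedFunctor.comp Φ eB))).symm
      eBi).trans (whiskerLeftIso eA (whiskerLeftIso Φ b))
  have hk := isEquivOver_fpMap e' eA eBi eF eG ⟨e'i, ⟨c⟩, ⟨c'⟩⟩ hA
  obtain ⟨k0, hk0, ⟨i0⟩⟩ := c0
  have i1 : BasedFunctor.comp (BasedFunctor.comp k0 (fpMap e' eA eBi eF eG))
      (BasedFunctor.comp (FibCat.fpFst β Φ) e'i) ≅ AlgSt.ofSpMap (pullback.snd φ bb) :=
    ((whiskerRightIso i0 (BasedFunctor.comp e' e'i) : _)).trans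
      (whiskerLeftIso (AlgSt.ofSpMap (pullback.snd φ bb)) c)
  constructor
  · intro h
    have := h.forall hPi X G' (BasedFunctor.comp k0 (fpMap e' eA eBi eF eG)) e'i
      (isEquivOver_comp _ _ hk0 hk) ⟨e', ⟨c'⟩, ⟨c⟩⟩
    rwa [spMapOf_congr i1, spMapOf_ofSpMap] at this
  · intro hsnd
    refine ⟨X, G', BasedFunctor.comp k0 (fpMap e' eA eBi eF eG), e'i,
      isEquivOver_comp _ _ hk0 hk, ⟨e', ⟨c'⟩, ⟨c⟩⟩, ?_⟩
    rw [spMapOf_congr i1, spMapOf_ofSpMap]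
    exact hsnd

/-- fppf descent on the base for `PT` -/
theorem PT.of_fpFst_fppf (hPi : (Phat P).RespectsIso)
    (hloc : AlgSp.IsLocalOnBase AlgSp.IsFppfCover P)
    (h𝒜 : AlgSt.RepByAlgSp 𝒜) (hℬ : AlgSt.RepByAlgSp ℬ) (hℬ' : AlgSt.RepByAlgSp ℬ')
    (β : ℬ' ⥤ᵇ ℬ) (hβ₁ : AlgSt.RepByAlgSpWith (AlgSp.LocP @Flat) β)
    (hβ₂ : AlgSt.RepByAlgSpWith (AlgSp.LocP @LocallyOfFinitePresentation) β)
    (hβ₃ : AlgSt.RepByAlgSpWith AlgSp.IsSurjectiveMor β) {Φ : 𝒜 ⥤ᵇ ℬ}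
    (h : PT P (FibCat.fpFst β Φ)) : PT P Φ := by
  obtain ⟨F, eA, hA⟩ := h𝒜
  obtain ⟨G, eB', hB'⟩ := hℬ
  obtain ⟨eB, hB⟩ := exists_inverse_isEquivOver eB' hB'
  obtain ⟨G', e', he'⟩ := hℬ'
  have h1 := (pt_fpFst_iff hPi eA eB e' hA hB he' β Φ).1 h
  have hb1 := q_spMapOf_of_repByAlgSpWith _ good_flat.nice β hβ₁ e' eB he' hB
  have hb2 := q_spMapOf_of_repByAlgSpWith _ good_lfp.nice β hβ₂ e' eB he' hB
  have hb3 := q_spMapOf_of_repByAlgSpWith _ good_isSurjectiveMor.nice β hβ₃ e' eB he' hB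
  refine ⟨F, G, eA, eB, hA, hB, ?_⟩
  obtain ⟨φ, hφ⟩ : ∃ φ : F.obj ⟶ G.obj,
      φ = spMapOf (BasedFunctor.comp eA (BasedFunctor.comp Φ eB)) := ⟨_, rfl⟩
  obtain ⟨bb, hbb'⟩ : ∃ bb : G'.obj ⟶ G.obj,
      bb = spMapOf (BasedFunctor.comp e' (BasedFunctor.comp β eB)) := ⟨_, rfl⟩
  rw [← hφ, ← hbb'] at h1
  rw [← hbb'] at hb1 hb2 hb3
  rw [← hφ]
  have sq := IsPullback.of_hasPullback φ bb
  have hX : AlgSp.IsAlgSpace (pullback φ bb) :=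
    Groth.Agent.Lib.Helper14.AS.isAlgSpace_of_isPullback
      (Groth.Agent.Lib.Helper14.AS.repDiag_of_isAlgSpace G.property) F.property G'.property sq
  have hcov : AlgSp.IsFppfCover (ι := PUnit.{u + 1}) (fun _ => G'.obj) (fun _ => bb) :=
    ⟨fun _ => ⟨hb1, hb2⟩, fun x => ⟨PUnit.unit, hb3 x⟩⟩
  have key := hloc (ι := PUnit.{u + 1}) (Y := G.obj) (fun _ => G'.obj) (fun _ => bb)
    G.property (fun _ => G'.property) hcov φ F.property (fun _ => pullback φ bb)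
    (fun _ => pullback.snd _ _) (fun _ => pullback.fst _ _) (fun _ => hX) (fun _ => sq)
  exact key.2 fun _ => h1

end PTfp

section Inv
variable {P : MorphismProperty (AlgSp.Sp S)}

/-- `LocQ` is invariant under equivalences of the source over the target -/
theorem locQ_of_eqvOver {𝒜 : BasedCategory.{v₁, w₁} (Over S)} {𝒜' : BasedCategory.{v₂, w₂} (Over S)}
    {ℬ : BasedCategory.{v₃, w₃} (Over S)} {φ : 𝒜 ⥤ᵇ ℬ} {φ' : 𝒜' ⥤ᵇ ℬ} (h : EqvOver φ φ')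
    (hφ : AlgSt.LocQ P φ) : AlgSt.LocQ P φ' := by
  obtain ⟨k, hk, ⟨i⟩⟩ := h
  obtain ⟨U, V, x, y, g, α, hx, hx', hy, hp⟩ := hφ
  exact ⟨U, V, BasedFunctor.comp x k, y, g, (whiskerLeftIso x i).trans α,
    repByAlgSpWith_comp_equiv _ x k hk hx, repByAlgSpWith_comp_equiv _ x k hk hx', hy, hp⟩

theorem locQ_of_iso {𝒜 : BasedCategory.{v₁, w₁} (Over S)} {ℬ : BasedCategory.{v₃, w₃} (Over S)}
    {φ φ' : 𝒜 ⥤ᵇ ℬ} (i : φ ≅ φ') (hφ : AlgSt.LocQ P φ) : AlgSt.LocQ P φ' :=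
  locQ_of_eqvOver (EqvOver.of_iso i.symm) hφ

/-- `LocQ` descends along a smooth surjective base change (no hypothesis on `P`) -/
theorem locQ_of_fpFst {𝒱 𝒳 𝒴 : AlgSt.Cat S} (h𝒱 : FibCat.IsFibGrpd 𝒱.p)
    (h𝒳 : FibCat.IsFibGrpd 𝒳.p) (h𝒴 : FibCat.IsFibGrpd 𝒴.p) (y : 𝒱 ⥤ᵇ 𝒴)
    (hy : AlgSt.RepByAlgSpWith (AlgSp.LocP @Smooth) y)
    (hy' : AlgSt.RepByAlgSpWith AlgSp.IsSurjectiveMor y) (f : 𝒳 ⥤ᵇ 𝒴)
    (h : AlgSt.LocQ P (FibCat.fpFst y f)) : AlgSt.LocQ P f := by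
  obtain ⟨U, V, x₀, y₀, g, α₀, hx₀, hx₀', hy₀, hp⟩ := h
  have hfU : FibCat.IsFibGrpd (FibCat.overCat U).p := StkFpCrit.isFibGrpd_overForget U
  have hfV : FibCat.IsFibGrpd (FibCat.overCat V).p := StkFpCrit.isFibGrpd_overForget V
  have hfp : FibCat.IsFibGrpd (FibCat.fp y f).p := isFibGrpd_fp _ _ h𝒱 h𝒳 h𝒴
  refine ⟨U, V, BasedFunctor.comp x₀ (FibCat.fpSnd y f), BasedFunctor.comp y₀ y, g,
    (whiskerLeftIso x₀ (FibCat.fpIso y f).symm).trans (whiskerRightIso α₀ y), ?_, ?_, ?_, hp⟩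
  · exact repByAlgSpWith_comp hfU hfp h𝒳 _ good_smooth.nice stableComp_smooth _ _ hx₀
      (repByAlgSpWith_fpSnd _ y f hy)
  · exact repByAlgSpWith_comp hfU hfp h𝒳 _ good_isSurjectiveMor.nice stableComp_isSurjectiveMor
      _ _ hx₀' (repByAlgSpWith_fpSnd _ y f hy')
  · exact repByAlgSpWith_comp hfV h𝒱 h𝒴 _ good_smooth.nice stableComp_smooth _ _ hy₀ hy

end Inv

section Descent
variable {P : MorphismProperty (AlgSp.Sp S)}
variable {𝒳 𝒴 𝒵 : AlgSt.Cat S} (h𝒳 : AlgSt.IsAlgStack Scheme.fppfPrecoverage 𝒳)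
  (h𝒴 : AlgSt.IsAlgStack Scheme.fppfPrecoverage 𝒴)
  (h𝒵 : AlgSt.IsAlgStack Scheme.fppfPrecoverage 𝒵) (f : 𝒳 ⥤ᵇ 𝒴) (z : 𝒵 ⥤ᵇ 𝒴)

include h𝒴 h𝒵 in
/-- an fppf chart of a flat, locally finitely presented, surjective morphism over a smooth chart of
the target -/
theorem exists_fppf_chart (hz₁ : AlgSt.LocQ (AlgSp.LocP @Flat) z)
    (hz₂ : AlgSt.LocQ (AlgSp.LocP @LocallyOfFinitePresentation) z) (hz₃ : AlgSt.IsSurjective z)
    {V : Over S} (y : FibCat.overCat V ⥤ᵇ 𝒴)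
    (hy : AlgSt.RepByAlgSpWith (AlgSp.LocP @Smooth) y) :
    ∃ (T : Over S) (t : FibCat.overCat T ⥤ᵇ 𝒵) (q : T ⟶ V)
      (_ : BasedFunctor.comp t z ≅ BasedFunctor.comp (AlgSt.overMap q) y),
      AlgSt.RepByAlgSpWith (AlgSp.LocP @Smooth) t ∧
      AlgSt.RepByAlgSpWith (AlgSp.LocP @Flat) (AlgSt.overMap q) ∧
      AlgSt.RepByAlgSpWith (AlgSp.LocP @LocallyOfFinitePresentation) (AlgSt.overMap q) ∧
      AlgSt.RepByAlgSpWith AlgSp.IsSurjectiveMor (AlgSt.overMap q) := by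
  obtain ⟨T, t, q, γ, ht, hℓ, hℓ', -⟩ := exists_square h𝒵 h𝒴 z y hy
  have hfT : FibCat.IsFibGrpd (FibCat.overCat T).p := StkFpCrit.isFibGrpd_overForget T
  have hfV : FibCat.IsFibGrpd (FibCat.overCat V).p := StkFpCrit.isFibGrpd_overForget V
  have hq₁ : AlgSp.LocP @Flat ((AlgSp.yon S).map q) :=
    (locQ_iff_forall h𝒵 h𝒴 z isSmoothLocalST_flat).1 hz₁ T V t y q γ ht hy hℓ
  have hq₂ : AlgSp.LocP @LocallyOfFinitePresentation ((AlgSp.yon S).map q) :=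
    (locQ_iff_forall h𝒵 h𝒴 z isSmoothLocalST_lfp).1 hz₂ T V t y q γ ht hy hℓ
  have hβ₁ := (repByAlgSpWith_overMap_iff _ good_flat q).2 hq₁
  have hβ₂ := (repByAlgSpWith_overMap_iff _ good_lfp q).2 hq₂
  refine ⟨T, t, q, γ, ht, hβ₁, hβ₂, ?_⟩
  have hrep : AlgSt.RepByAlgSp1 (AlgSt.overMap q) := (repByAlgSp1_iff_with_top _).2
    (repByAlgSpWith_mono (fun _ _ _ _ => trivial) _ hβ₁)
  rw [← Groth.Agent.Lib.Helper24.AlgStPts5.isSurjective_iff_repByAlgSpWith hfT hfV _ hrep]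
  have hffp : FibCat.IsFibGrpd (FibCat.fp z y).p :=
    isFibGrpd_fp _ _ h𝒵.isStack.1 hfV h𝒴.isStack.1
  have h1 : AlgSt.IsSurjective (FibCat.fpLift t (AlgSt.overMap q) γ) :=
    Groth.Agent.Lib.Helper24.AlgStPts3.surjective_map_of_repByAlgSpWith hffp _ hℓ'
  have h2 : AlgSt.IsSurjective (FibCat.fpSnd z y) :=
    Groth.Agent.Lib.Helper24.AlgStPts7.isSurjective_fpSnd h𝒵.isStack.1 h𝒴.isStack.1 hfV z y hz₃
  intro v
  obtain ⟨w, hw⟩ := h2 v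
  obtain ⟨τ, hτ⟩ := h1 w
  refine ⟨τ, ?_⟩
  have : AlgSt.overMap q = BasedFunctor.comp (FibCat.fpLift t (AlgSt.overMap q) γ)
      (FibCat.fpSnd z y) := rfl
  rw [this, Groth.Agent.Lib.Helper24.AlgStPts1.map_comp, hτ, hw]

include h𝒳 h𝒴 h𝒵 in
/-- S12994 -/
theorem locQ_of_fpFst_fppf (hP : AlgSp.IsSmoothLocalST P)
    (hP₂ : AlgSp.IsLocalOnBase AlgSp.IsFppfCover P)
    (hz₁ : AlgSt.LocQ (AlgSp.LocP @Flat) z)
    (hz₂ : AlgSt.LocQ (AlgSp.LocP @LocallyOfFinitePresentation) z) (hz₃ : AlgSt.IsSurjective z)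
    (H : AlgSt.LocQ P (FibCat.fpFst z f)) : AlgSt.LocQ P f := by
  have hPi := phat_respectsIso' hP
  obtain ⟨V, y, hy, hy'⟩ := h𝒴.atlas
  obtain ⟨U, c, hc, hc', -⟩ := exists_square_gen h𝒳 h𝒴 f (repByAlgSp_overCat V) y hy
  refine locQ_of_pt h𝒳 h𝒴 f hP (repByAlgSp_overCat U) (repByAlgSp_overCat V) y hy hy' c hc hc' ?_
  obtain ⟨T, t, q, γ, ht, hβ₁, hβ₂, hβ₃⟩ := exists_fppf_chart h𝒴 h𝒵 z hz₁ hz₂ hz₃ y hy
  have hfT : FibCat.IsFibGrpd (FibCat.overCat T).p := StkFpCrit.isFibGrpd_overForget T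
  have hfU : FibCat.IsFibGrpd (FibCat.overCat U).p := StkFpCrit.isFibGrpd_overForget U
  have hfV : FibCat.IsFibGrpd (FibCat.overCat V).p := StkFpCrit.isFibGrpd_overForget V
  refine PT.of_fpFst_fppf hPi hP₂ (repByAlgSp_overCat U) (repByAlgSp_overCat V)
    (repByAlgSp_overCat T) (AlgSt.overMap q) hβ₁ hβ₂ hβ₃ ?_
  -- notation
  let π₂ := FibCat.fpSnd f y
  let φ := FibCat.fpFst z f
  have hφalg : AlgSt.IsAlgStack Scheme.fppfPrecoverage (FibCat.fp z f) :=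
    isAlgStack_fp h𝒴.isStack h𝒴.diag h𝒵 h𝒳 z f
  -- the chain of equivalences over `T`
  have e1 : EqvOver (FibCat.fpFst (AlgSt.overMap q) π₂)
      (FibCat.fpFst (AlgSt.overMap q) (FibCat.fpFst y f)) :=
    eqvOver_fpFst_congr_right (AlgSt.overMap q) (swap f y) (isEquivOver_swap f y) (Iso.refl _)
  have e2 : EqvOver (FibCat.fpFst (AlgSt.overMap q) (FibCat.fpFst y f))
      (FibCat.fpFst (BasedFunctor.comp (AlgSt.overMap q) y) f) := eqvOver_P f y (AlgSt.overMap q)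
  have e3 : EqvOver (FibCat.fpFst (BasedFunctor.comp (AlgSt.overMap q) y) f)
      (FibCat.fpFst (BasedFunctor.comp t z) f) := eqvOver_fpFst_congr_left γ.symm f
  have e4 : EqvOver (FibCat.fpFst (BasedFunctor.comp t z) f) (FibCat.fpFst t φ) :=
    (eqvOver_P f z t).symm
  have e5 : EqvOver (FibCat.fpFst t φ) (FibCat.fpSnd φ t) := eqvOver_swap t φ
  obtain ⟨k, hk, ⟨i⟩⟩ := e1.trans (e2.trans (e3.trans (e4.trans e5)))
  -- the chart of `fp φ t`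
  let c' := BasedFunctor.comp (mapR c π₂ (AlgSt.overMap q)) k
  have hc'sm : AlgSt.RepByAlgSpWith (AlgSp.LocP @Smooth) c' :=
    repByAlgSpWith_comp_equiv _ _ k hk (repByAlgSpWith_mapR _ c π₂ (AlgSt.overMap q) hc)
  have h𝒜 : AlgSt.RepByAlgSp (FibCat.fp (AlgSt.overMap q) (BasedFunctor.comp c π₂)) :=
    repByAlgSp1_of_diag hfV (isAlgStack_of_repByAlgSp (repByAlgSp_overCat V)).diag hfT hfU
      (repByAlgSp_overCat T) (repByAlgSp_overCat U) _ _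
  have key := pt_of_locQ hφalg h𝒵 φ hP H h𝒜 (repByAlgSp_overCat T) t ht c' hc'sm
  exact PT.of_iso (whiskerLeftIso (mapR c π₂ (AlgSt.overMap q)) i) key

end Descent

end Groth.Agent.Lib.Helper24.AlgStLocQ7
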