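import Groth.Agent.Lib.Helper24.AlgStLocQ7
import Groth.Agent.Lib.Helper14.FpqcCover
import Groth.Agent.Lib.Helper24.AlgStMono2
set_option autoImplicit false
open CategoryTheory AlgebraicGeometry Opposite
universe w₁ v₁ w₂ v₂ w₃ v₃ w₄ v₄ u
set_option backward.isDefEq.respectTransparency false
set_option backward.isDefEq.respectTransparency.types false

/-! Descent of `LocQ` along base change by a covering morphism, abstract form; flat descent
(S13003). -/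

namespace Groth.Agent.Lib.Helper24.AlgStLocQ8
open Groth.Agent.Lib.Helper24.FibCatFpMap
open Groth.Agent.Lib.Helper24.FibCatEquiv Groth.Agent.Lib.Helper24.FibCatFpGen
open Groth.Agent.Lib.Helper24.AlgStRep
open Groth.Agent.Lib.Helper24.AlgStBridge Groth.Agent.Lib.Helper24.AlgStBoot
open Groth.Agent.Lib.Helper24.AlgStRepS
open Groth.Agent.Lib.Helper24.AlgStSchLocal
open Groth.Agent.Lib.Helper24.AlgStGC
open Groth.Agent.Lib.Helper24.AlgStProps Groth.Agent.Lib.Helper24.AlgStSmooth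
open Groth.Agent.Lib.Helper24.AlgStFpAlg Groth.Agent.Lib.Helper24.AlgStSmLoc
open Groth.Agent.Lib.Helper24.AlgStEqv Groth.Agent.Lib.Helper24.PshBridge
open Groth.Agent.Lib.Helper24.AlgStLocQ1 Groth.Agent.Lib.Helper24.FibCatFpMapL
open Groth.Agent.Lib.Helper24.AlgStLocQ2 Groth.Agent.Lib.Helper24.FibCatFpLiftIso
open Groth.Agent.Lib.Helper24.AlgStLocQ3 Groth.Agent.Lib.Helper24.AlgStProdAlg
open Groth.Agent.Lib.Helper24.AlgStLocQ4 Groth.Agent.Lib.Helper24.AlgStLocQ5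
open Groth.Agent.Lib.Helper24.AlgStLocQ6 Groth.Agent.Lib.Helper24.AlgStLocQ7
open Groth.Agent.Lib.Helper24.AlgStCalc Groth.Agent.Lib.Helper24.AlgStDiag
open Groth.Agent.Lib.Helper24.AlgStCalc2 Groth.Agent.Lib.Helper24.AlgStDescent
open Groth.Agent.Lib.Helper24.FibCatOverMap Groth.Agent.Lib.Helper24.AlgStAtlas
open Groth.Agent.Lib.Helper24.FibCatGraph Groth.Agent.Lib.Helper24.AlgStDiagLft
open Groth.Agent.Lib.Helper24.FibCatFpSwap Groth.Agent.Lib.Helper24.AlgStProd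
open Groth.Agent.Lib.Helper24.AlgSpSmLocal
open CategoryTheory.Limits

variable {S : Scheme.{u}}

/-- descent datum: `P` descends along base change by morphisms in `Qc` -/
def Desc (P Qc : MorphismProperty (AlgSp.Sp S)) : Prop :=
  ∀ ⦃F G G' : AlgSp.Sp S⦄, AlgSp.IsAlgSpace F → AlgSp.IsAlgSpace G → AlgSp.IsAlgSpace G' →
    ∀ (φ : F ⟶ G) (bb : G' ⟶ G), Qc bb → P (pullback.snd φ bb) → P φ

/-- the fppf coverings by one morphism -/
def Fppf : MorphismProperty (AlgSp.Sp S) := fun _ _ a =>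
  AlgSp.LocP @Flat a ∧ (AlgSp.LocP @LocallyOfFinitePresentation a ∧ AlgSp.IsSurjectiveMor a)

/-- the flat surjective morphisms -/
def FlatSurj : MorphismProperty (AlgSp.Sp S) := fun _ _ a =>
  AlgSp.LocP @Flat a ∧ AlgSp.IsSurjectiveMor a

theorem nice_fppf : Nice (Fppf (S := S)) :=
  good_flat.nice.and (good_lfp.nice.and good_isSurjectiveMor.nice)

theorem nice_flatSurj : Nice (FlatSurj (S := S)) := good_flat.nice.and good_isSurjectiveMor.nice

theorem desc_fppf {P : MorphismProperty (AlgSp.Sp S)}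
    (hloc : AlgSp.IsLocalOnBase AlgSp.IsFppfCover P) : Desc P Fppf := by
  intro F G G' hF hG hG' φ bb hbb h1
  have sq := IsPullback.of_hasPullback φ bb
  have hX : AlgSp.IsAlgSpace (pullback φ bb) :=
    Groth.Agent.Lib.Helper14.AS.isAlgSpace_of_isPullback
      (Groth.Agent.Lib.Helper14.AS.repDiag_of_isAlgSpace hG) hF hG' sq
  have hcov : AlgSp.IsFppfCover (ι := PUnit.{u + 1}) (fun _ => G') (fun _ => bb) :=
    ⟨fun _ => ⟨hbb.1, hbb.2.1⟩, fun x => ⟨PUnit.unit, hbb.2.2 x⟩⟩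
  have key := hloc (ι := PUnit.{u + 1}) (Y := G) (fun _ => G') (fun _ => bb)
    hG (fun _ => hG') hcov φ hF (fun _ => pullback φ bb)
    (fun _ => pullback.snd _ _) (fun _ => pullback.fst _ _) (fun _ => hX) (fun _ => sq)
  exact key.2 fun _ => h1

section flat
open Groth.Agent.Lib.Helper14.AS AlgSp

set_option backward.isDefEq.respectTransparency.types false in
/-- flatness can be checked after precomposing with a flat surjective morphism -/
theorem locP_flat_of_comp_surjective {X' X Y : Sp S} (hX' : IsAlgSpace X') (hX : IsAlgSpace X)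
    (hY : IsAlgSpace Y) (g : X' ⟶ X) (hg : LocP @Flat g) (hs : IsSurjectiveMor g) (f : X ⟶ Y)
    (H : LocP @Flat (g ≫ f)) : LocP @Flat f := by
  obtain ⟨V, b, hbe, hbs⟩ := hY.atlas
  obtain ⟨U, a, k, hae, has, comm⟩ := exists_chart_diagram hX f b hbe hbs
  refine locP_of_chart etLocal_flat f a b k hae has hbe comm ?_
  obtain ⟨U', a', p, ha'e, hcomm, hsurj⟩ := exists_chart_family hX (ι := PUnit.{u + 1})
    (fun _ => X') (fun _ => g) (fun _ => hX') (fun x => ⟨PUnit.unit, hs x⟩) a hae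
  refine flat_of_flat_family k.left (fun i => (U' i).left) (fun i => (p i).left)
    (fun i => ?_) hsurj fun i => ?_
  · exact hg (a' i) a (p i) (ha'e i) hae (hcomm i)
  · have := H (a' i) b (p i ≫ k) (ha'e i) hbe (by
      rw [← Category.assoc, hcomm i, Category.assoc, comm, Functor.map_comp, Category.assoc])
    exact this

theorem desc_flat : Desc (LocP @Flat (S := S)) FlatSurj := by
  intro F G G' hF hG hG' φ bb hbb h1
  have sq := IsPullback.of_hasPullback φ bb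
  have hX : IsAlgSpace (pullback φ bb) :=
    isAlgSpace_of_isPullback (repDiag_of_isAlgSpace hG) hF hG' sq
  have h2 : LocP @Flat (pullback.fst φ bb) :=
    locP_baseChange etLocal_flat hG' hG hF bb φ (pullback.snd φ bb) (pullback.fst φ bb) sq.flip
      hbb.1
  have h3 : IsSurjectiveMor (pullback.fst φ bb) := isSurjectiveMor_of_isPullback sq.flip hbb.2
  refine locP_flat_of_comp_surjective hX hF hG (pullback.fst φ bb) h2 h3 φ ?_
  rw [sq.w]
  exact locP_comp etLocal_flat hX hG' hG _ _ h1 hbb.1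

end flat

section PTfp
variable {𝒜 : BasedCategory.{v₁, w₁} (Over S)} {ℬ : BasedCategory.{v₂, w₂} (Over S)}
  {ℬ' : BasedCategory.{v₃, w₃} (Over S)}
variable {P Qc : MorphismProperty (AlgSp.Sp S)}

/-- descent on the base for `PT` -/
theorem PT.of_fpFst_desc (hPi : (Phat P).RespectsIso) (hQc : Nice Qc) (hD : Desc P Qc)
    (h𝒜 : AlgSt.RepByAlgSp 𝒜) (hℬ : AlgSt.RepByAlgSp ℬ) (hℬ' : AlgSt.RepByAlgSp ℬ')
    (β : ℬ' ⥤ᵇ ℬ) (hβ : AlgSt.RepByAlgSpWith Qc β) {Φ : 𝒜 ⥤ᵇ ℬ}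
    (h : PT P (FibCat.fpFst β Φ)) : PT P Φ := by
  obtain ⟨F, eA, hA⟩ := h𝒜
  obtain ⟨G, eB', hB'⟩ := hℬ
  obtain ⟨eB, hB⟩ := exists_inverse_isEquivOver eB' hB'
  obtain ⟨G', e', he'⟩ := hℬ'
  have h1 := (pt_fpFst_iff hPi eA eB e' hA hB he' β Φ).1 h
  have hb := q_spMapOf_of_repByAlgSpWith _ hQc β hβ e' eB he' hB
  exact ⟨F, G, eA, eB, hA, hB, hD F.property G.property G'.property _ _ hb h1⟩

end PTfp

section Descent
variable {P Qc : MorphismProperty (AlgSp.Sp S)}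
variable {𝒳 𝒴 𝒵 : AlgSt.Cat S} (h𝒳 : AlgSt.IsAlgStack Scheme.fppfPrecoverage 𝒳)
  (h𝒴 : AlgSt.IsAlgStack Scheme.fppfPrecoverage 𝒴)
  (h𝒵 : AlgSt.IsAlgStack Scheme.fppfPrecoverage 𝒵) (f : 𝒳 ⥤ᵇ 𝒴) (z : 𝒵 ⥤ᵇ 𝒴)

include h𝒳 h𝒴 h𝒵 in
/-- descent of `LocQ` along base change by `z`, given charts of `z` in `Qc` -/
theorem locQ_of_fpFst_chart (hP : AlgSp.IsSmoothLocalST P) (hQc : Nice Qc) (hD : Desc P Qc)
    (hchart : ∀ {V : Over S} (y : FibCat.overCat V ⥤ᵇ 𝒴),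
      AlgSt.RepByAlgSpWith (AlgSp.LocP @Smooth) y →
      ∃ (T : Over S) (t : FibCat.overCat T ⥤ᵇ 𝒵) (q : T ⟶ V)
        (_ : BasedFunctor.comp t z ≅ BasedFunctor.comp (AlgSt.overMap q) y),
        AlgSt.RepByAlgSpWith (AlgSp.LocP @Smooth) t ∧ AlgSt.RepByAlgSpWith Qc (AlgSt.overMap q))
    (H : AlgSt.LocQ P (FibCat.fpFst z f)) : AlgSt.LocQ P f := by
  have hPi := phat_respectsIso' hP
  obtain ⟨V, y, hy, hy'⟩ := h𝒴.atlas
  obtain ⟨U, c, hc, hc', -⟩ := exists_square_gen h𝒳 h𝒴 f (repByAlgSp_overCat V) y hy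
  refine locQ_of_pt h𝒳 h𝒴 f hP (repByAlgSp_overCat U) (repByAlgSp_overCat V) y hy hy' c hc hc' ?_
  obtain ⟨T, t, q, γ, ht, hβ⟩ := hchart y hy
  have hfT : FibCat.IsFibGrpd (FibCat.overCat T).p := StkFpCrit.isFibGrpd_overForget T
  have hfU : FibCat.IsFibGrpd (FibCat.overCat U).p := StkFpCrit.isFibGrpd_overForget U
  have hfV : FibCat.IsFibGrpd (FibCat.overCat V).p := StkFpCrit.isFibGrpd_overForget V
  refine PT.of_fpFst_desc hPi hQc hD (repByAlgSp_overCat U) (repByAlgSp_overCat V)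
    (repByAlgSp_overCat T) (AlgSt.overMap q) hβ ?_
  let π₂ := FibCat.fpSnd f y
  let φ := FibCat.fpFst z f
  have hφalg : AlgSt.IsAlgStack Scheme.fppfPrecoverage (FibCat.fp z f) :=
    isAlgStack_fp h𝒴.isStack h𝒴.diag h𝒵 h𝒳 z f
  have e1 : EqvOver (FibCat.fpFst (AlgSt.overMap q) π₂)
      (FibCat.fpFst (AlgSt.overMap q) (FibCat.fpFst y f)) :=
    eqvOver_fpFst_congr_right (AlgSt.overMap q) (swap f y) (isEquivOver_swap f y) (Iso.refl _)
  have e2 : EqvOver (FibCat.fpFst (AlgSt.overMap q) (FibCat.fpFst y f))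
      (FibCat.fpFst (BasedFunctor.comp (AlgSt.overMap q) y) f) := eqvOver_P f y (AlgSt.overMap q)
  have e3 : EqvOver (FibCat.fpFst (BasedFunctor.comp (AlgSt.overMap q) y) f)
      (FibCat.fpFst (BasedFunctor.comp t z) f) := eqvOver_fpFst_congr_left γ.symm f
  have e4 : EqvOver (FibCat.fpFst (BasedFunctor.comp t z) f) (FibCat.fpFst t φ) :=
    (eqvOver_P f z t).symm
  have e5 : EqvOver (FibCat.fpFst t φ) (FibCat.fpSnd φ t) := eqvOver_swap t φ
  obtain ⟨k, hk, ⟨i⟩⟩ := e1.trans (e2.trans (e3.trans (e4.trans e5)))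
  let c' := BasedFunctor.comp (mapR c π₂ (AlgSt.overMap q)) k
  have hc'sm : AlgSt.RepByAlgSpWith (AlgSp.LocP @Smooth) c' :=
    repByAlgSpWith_comp_equiv _ _ k hk (repByAlgSpWith_mapR _ c π₂ (AlgSt.overMap q) hc)
  have h𝒜 : AlgSt.RepByAlgSp (FibCat.fp (AlgSt.overMap q) (BasedFunctor.comp c π₂)) :=
    repByAlgSp1_of_diag hfV (isAlgStack_of_repByAlgSp (repByAlgSp_overCat V)).diag hfT hfU
      (repByAlgSp_overCat T) (repByAlgSp_overCat U) _ _
  have key := pt_of_locQ hφalg h𝒵 φ hP H h𝒜 (repByAlgSp_overCat T) t ht c' hc'sm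
  exact PT.of_iso (whiskerLeftIso (mapR c π₂ (AlgSt.overMap q)) i) key

include h𝒴 h𝒵 in
/-- a flat surjective chart of a flat surjective morphism over a smooth chart of the target -/
theorem exists_flat_chart (hz₁ : AlgSt.LocQ (AlgSp.LocP @Flat) z) (hz₃ : AlgSt.IsSurjective z)
    {V : Over S} (y : FibCat.overCat V ⥤ᵇ 𝒴)
    (hy : AlgSt.RepByAlgSpWith (AlgSp.LocP @Smooth) y) :
    ∃ (T : Over S) (t : FibCat.overCat T ⥤ᵇ 𝒵) (q : T ⟶ V)
      (_ : BasedFunctor.comp t z ≅ BasedFunctor.comp (AlgSt.overMap q) y),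
      AlgSt.RepByAlgSpWith (AlgSp.LocP @Smooth) t ∧
      AlgSt.RepByAlgSpWith FlatSurj (AlgSt.overMap q) := by
  obtain ⟨T, t, q, γ, ht, hℓ, hℓ', -⟩ := exists_square h𝒵 h𝒴 z y hy
  have hfT : FibCat.IsFibGrpd (FibCat.overCat T).p := StkFpCrit.isFibGrpd_overForget T
  have hfV : FibCat.IsFibGrpd (FibCat.overCat V).p := StkFpCrit.isFibGrpd_overForget V
  have hq₁ : AlgSp.LocP @Flat ((AlgSp.yon S).map q) :=
    (locQ_iff_forall h𝒵 h𝒴 z isSmoothLocalST_flat).1 hz₁ T V t y q γ ht hy hℓ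
  have hβ₁ := (repByAlgSpWith_overMap_iff _ good_flat q).2 hq₁
  refine ⟨T, t, q, γ, ht, ?_⟩
  have hrep : AlgSt.RepByAlgSp1 (AlgSt.overMap q) := (repByAlgSp1_iff_with_top _).2
    (repByAlgSpWith_mono (fun _ _ _ _ => trivial) _ hβ₁)
  refine Groth.Agent.Lib.Helper24.AlgStMono.repByAlgSpWith_and _ _
    good_isSurjectiveMor.nice.respectsIso _ hβ₁ ?_
  rw [← Groth.Agent.Lib.Helper24.AlgStPts5.isSurjective_iff_repByAlgSpWith hfT hfV _ hrep]
  have hffp : FibCat.IsFibGrpd (FibCat.fp z y).p :=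
    isFibGrpd_fp _ _ h𝒵.isStack.1 hfV h𝒴.isStack.1
  have h1 : AlgSt.IsSurjective (FibCat.fpLift t (AlgSt.overMap q) γ) :=
    Groth.Agent.Lib.Helper24.AlgStPts3.surjective_map_of_repByAlgSpWith hffp _ hℓ'
  have h2 : AlgSt.IsSurjective (FibCat.fpSnd z y) :=
    Groth.Agent.Lib.Helper24.AlgStPts7.isSurjective_fpSnd h𝒵.isStack.1 h𝒴.isStack.1 hfV z y hz₃
  intro v
  obtain ⟨w, hw⟩ := h2 v
  obtain ⟨τ, hτ⟩ := h1 w
  refine ⟨τ, ?_⟩
  have : AlgSt.overMap q = BasedFunctor.comp (FibCat.fpLift t (AlgSt.overMap q) γ)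
      (FibCat.fpSnd z y) := rfl
  rw [this, Groth.Agent.Lib.Helper24.AlgStPts1.map_comp, hτ, hw]

include h𝒳 h𝒴 h𝒵 in
/-- S13003 -/
theorem locQ_flat_of_fpFst (hz₁ : AlgSt.LocQ (AlgSp.LocP @Flat) z) (hz₃ : AlgSt.IsSurjective z)
    (H : AlgSt.LocQ (AlgSp.LocP @Flat) (FibCat.fpFst z f)) : AlgSt.LocQ (AlgSp.LocP @Flat) f :=
  locQ_of_fpFst_chart h𝒳 h𝒴 h𝒵 f z isSmoothLocalST_flat nice_flatSurj desc_flat
    (fun y hy => exists_flat_chart h𝒴 h𝒵 z hz₁ hz₃ y hy) H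

end Descent

end Groth.Agent.Lib.Helper24.AlgStLocQ8
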