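import Groth.Agent.Lib.Helper24.AlgStLocQ8
import Groth.Agent.Lib.Helper14.LfpOfComp
set_option autoImplicit false
open CategoryTheory AlgebraicGeometry Opposite
universe w₁ v₁ w₂ v₂ w₃ v₃ w₄ v₄ u
set_option backward.isDefEq.respectTransparency false
set_option backward.isDefEq.respectTransparency.types false

/-! Compatible chart squares for a composite; cancellation rows (S13002, S13004, S13005). -/

namespace Groth.Agent.Lib.Helper24.AlgStLocQ9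
open Groth.Agent.Lib.Helper24.FibCatFpMap
open Groth.Agent.Lib.Helper24.FibCatEquiv Groth.Agent.Lib.Helper24.FibCatFpGen
open Groth.Agent.Lib.Helper24.AlgStRep
open Groth.Agent.Lib.Helper24.AlgStBridge Groth.Agent.Lib.Helper24.AlgStBoot
open Groth.Agent.Lib.Helper24.AlgStRepS
open Groth.Agent.Lib.Helper24.AlgStSchLocal
open Groth.Agent.Lib.Helper24.AlgStGC
open Groth.Agent.Lib.Helper24.AlgStProps Groth.Agent.Lib.Helper24.AlgStSmooth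
open Groth.Agent.Lib.Helper24.AlgStFpAlg Groth.Agent.Lib.Helper24.AlgStSmLoc
open Groth.Agent.Lib.Helper24.AlgStEqv Groth.Agent.Lib.Helper24.PshBridge
open Groth.Agent.Lib.Helper24.AlgStLocQ1 Groth.Agent.Lib.Helper24.FibCatFpMapL
open Groth.Agent.Lib.Helper24.AlgStLocQ2 Groth.Agent.Lib.Helper24.FibCatFpLiftIso
open Groth.Agent.Lib.Helper24.AlgStLocQ3 Groth.Agent.Lib.Helper24.AlgStProdAlg
open Groth.Agent.Lib.Helper24.AlgStLocQ4 Groth.Agent.Lib.Helper24.AlgStLocQ5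
open Groth.Agent.Lib.Helper24.AlgStLocQ6 Groth.Agent.Lib.Helper24.AlgStLocQ7
open Groth.Agent.Lib.Helper24.AlgStLocQ8
open Groth.Agent.Lib.Helper24.AlgStCalc Groth.Agent.Lib.Helper24.AlgStDiag
open Groth.Agent.Lib.Helper24.AlgStCalc2 Groth.Agent.Lib.Helper24.AlgStDescent
open Groth.Agent.Lib.Helper24.FibCatOverMap Groth.Agent.Lib.Helper24.AlgStAtlas
open Groth.Agent.Lib.Helper24.FibCatGraph Groth.Agent.Lib.Helper24.AlgStDiagLft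
open Groth.Agent.Lib.Helper24.FibCatFpSwap Groth.Agent.Lib.Helper24.AlgStProd
open Groth.Agent.Lib.Helper24.AlgSpSmLocal
open CategoryTheory.Limits

variable {S : Scheme.{u}}

/-- `overMap` of a composite -/
def overMapComp {U V W : Over S} (h : U ⟶ V) (k : V ⟶ W) :
    AlgSt.overMap (h ≫ k) ≅ BasedFunctor.comp (AlgSt.overMap h) (AlgSt.overMap k) :=
  BasedNatIso.mkNatIso (Over.mapComp h k) (fun a => by
    apply IsHomLift.of_fac _ _ _ rfl rfl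
    apply Over.OverMorphism.ext
    simp only [eqToHom_refl, Category.comp_id, Category.id_comp]
    rfl)

section Comp
variable {P : MorphismProperty (AlgSp.Sp S)}
variable {𝒳 𝒴 𝒵 : AlgSt.Cat S} (h𝒳 : AlgSt.IsAlgStack Scheme.fppfPrecoverage 𝒳)
  (h𝒴 : AlgSt.IsAlgStack Scheme.fppfPrecoverage 𝒴)
  (h𝒵 : AlgSt.IsAlgStack Scheme.fppfPrecoverage 𝒵) (f : 𝒳 ⥤ᵇ 𝒴) (g : 𝒴 ⥤ᵇ 𝒵)

include h𝒳 h𝒴 h𝒵 in
/-- `LocQ P (f ≫ g)` read on a pair of compatible chart squares with smooth comparisons -/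
theorem pt_comp_of_locQ (hP : AlgSp.IsSmoothLocalST P)
    (H : AlgSt.LocQ P (BasedFunctor.comp f g)) {𝒜 ℬ 𝒞 : AlgSt.Cat S}
    (h𝒜 : AlgSt.RepByAlgSp 𝒜) (hℬ : AlgSt.RepByAlgSp ℬ) (h𝒞 : AlgSt.RepByAlgSp 𝒞)
    (x : 𝒜 ⥤ᵇ 𝒳) (y : ℬ ⥤ᵇ 𝒴) (z : 𝒞 ⥤ᵇ 𝒵) (Φ : 𝒜 ⥤ᵇ ℬ) (Ψ : ℬ ⥤ᵇ 𝒞)
    (α : BasedFunctor.comp x f ≅ BasedFunctor.comp Φ y)
    (β : BasedFunctor.comp y g ≅ BasedFunctor.comp Ψ z)
    (hz : AlgSt.RepByAlgSpWith (AlgSp.LocP @Smooth) z)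
    (hℓf : AlgSt.RepByAlgSpWith (AlgSp.LocP @Smooth) (FibCat.fpLift x Φ α))
    (hℓg : AlgSt.RepByAlgSpWith (AlgSp.LocP @Smooth) (FibCat.fpLift y Ψ β)) :
    PT P (BasedFunctor.comp Φ Ψ) := by
  have hf𝒜 : FibCat.IsFibGrpd 𝒜.p := isFibGrpd_of_repByAlgSp h𝒜
  have hfℬ : FibCat.IsFibGrpd ℬ.p := isFibGrpd_of_repByAlgSp hℬ
  have hf𝒞 : FibCat.IsFibGrpd 𝒞.p := isFibGrpd_of_repByAlgSp h𝒞
  have hf𝒳 := h𝒳.isStack.1
  have hf𝒴 := h𝒴.isStack.1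
  have hf𝒵 := h𝒵.isStack.1
  let ℓf := FibCat.fpLift x Φ α
  let ℓg := FibCat.fpLift y Ψ β
  let m : FibCat.fp f y ⥤ᵇ FibCat.fp f (FibCat.fpFst g z) := mapR ℓg (FibCat.fpFst g z) f
  have hm : AlgSt.RepByAlgSpWith (AlgSp.LocP @Smooth) m :=
    repByAlgSpWith_mapR _ ℓg (FibCat.fpFst g z) f hℓg
  let Pz := Groth.Agent.Lib.Helper24.FibCatFpPaste.P z g f
  have hPz : FibCat.IsEquivOver Pz := Groth.Agent.Lib.Helper24.FibCatFpPaste.isEquivOver_P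
  have hfgz : FibCat.IsFibGrpd (FibCat.fp g z).p := isFibGrpd_fp _ _ hf𝒴 hf𝒞 hf𝒵
  have hc : AlgSt.RepByAlgSpWith (AlgSp.LocP @Smooth)
      (BasedFunctor.comp ℓf (BasedFunctor.comp m Pz)) :=
    repByAlgSpWith_comp hf𝒜 (isFibGrpd_fp _ _ hf𝒳 hfℬ hf𝒴)
      (isFibGrpd_fp _ _ hf𝒳 hf𝒞 hf𝒵) _ good_smooth.nice stableComp_smooth _ _ hℓf
      (repByAlgSpWith_comp_equiv _ m Pz hPz hm)
  have key := pt_of_locQ h𝒳 h𝒵 (BasedFunctor.comp f g) hP H h𝒜 h𝒞 z hz _ hc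
  exact PT.of_iso (Iso.refl _) key

include h𝒳 h𝒴 h𝒵 in
/-- compatible chart squares for `f` and `g` with smooth surjective comparisons -/
theorem exists_two_squares :
    ∃ (U V W : Over S) (x : FibCat.overCat U ⥤ᵇ 𝒳) (y : FibCat.overCat V ⥤ᵇ 𝒴)
      (z : FibCat.overCat W ⥤ᵇ 𝒵) (h : U ⟶ V) (k : V ⟶ W)
      (α : BasedFunctor.comp x f ≅ BasedFunctor.comp (AlgSt.overMap h) y)
      (β : BasedFunctor.comp y g ≅ BasedFunctor.comp (AlgSt.overMap k) z),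
      (AlgSt.RepByAlgSpWith (AlgSp.LocP @Smooth) x ∧ AlgSt.RepByAlgSpWith AlgSp.IsSurjectiveMor x) ∧
      (AlgSt.RepByAlgSpWith (AlgSp.LocP @Smooth) y ∧ AlgSt.RepByAlgSpWith AlgSp.IsSurjectiveMor y) ∧
      (AlgSt.RepByAlgSpWith (AlgSp.LocP @Smooth) z ∧ AlgSt.RepByAlgSpWith AlgSp.IsSurjectiveMor z) ∧
      (AlgSt.RepByAlgSpWith (AlgSp.LocP @Smooth) (FibCat.fpLift x (AlgSt.overMap h) α) ∧
        AlgSt.RepByAlgSpWith AlgSp.IsSurjectiveMor (FibCat.fpLift x (AlgSt.overMap h) α)) ∧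
      (AlgSt.RepByAlgSpWith (AlgSp.LocP @Smooth) (FibCat.fpLift y (AlgSt.overMap k) β) ∧
        AlgSt.RepByAlgSpWith AlgSp.IsSurjectiveMor (FibCat.fpLift y (AlgSt.overMap k) β)) := by
  obtain ⟨W, z, hz, hz'⟩ := h𝒵.atlas
  obtain ⟨V, y, k, β, hy, hℓg, hℓg', hys⟩ := exists_square h𝒴 h𝒵 g z hz
  obtain ⟨U, x, h, α, hx, hℓf, hℓf', hxs⟩ := exists_square h𝒳 h𝒴 f y hy
  exact ⟨U, V, W, x, y, z, h, k, α, β, ⟨hx, hxs (hys hz')⟩, ⟨hy, hys hz'⟩, ⟨hz, hz'⟩,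
    ⟨hℓf, hℓf'⟩, ⟨hℓg, hℓg'⟩⟩

include h𝒳 h𝒴 h𝒵 in
/-- `LocQ P (f ≫ g)` read on compatible scheme chart squares -/
theorem P_comp_of_locQ (hP : AlgSp.IsSmoothLocalST P)
    (H : AlgSt.LocQ P (BasedFunctor.comp f g)) {U V W : Over S}
    (x : FibCat.overCat U ⥤ᵇ 𝒳) (y : FibCat.overCat V ⥤ᵇ 𝒴) (z : FibCat.overCat W ⥤ᵇ 𝒵)
    (h : U ⟶ V) (k : V ⟶ W)
    (α : BasedFunctor.comp x f ≅ BasedFunctor.comp (AlgSt.overMap h) y)
    (β : BasedFunctor.comp y g ≅ BasedFunctor.comp (AlgSt.overMap k) z)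
    (hz : AlgSt.RepByAlgSpWith (AlgSp.LocP @Smooth) z)
    (hℓf : AlgSt.RepByAlgSpWith (AlgSp.LocP @Smooth) (FibCat.fpLift x (AlgSt.overMap h) α))
    (hℓg : AlgSt.RepByAlgSpWith (AlgSp.LocP @Smooth) (FibCat.fpLift y (AlgSt.overMap k) β)) :
    P ((AlgSp.yon S).map (h ≫ k)) := by
  have hPi := phat_respectsIso' hP
  have := pt_comp_of_locQ h𝒳 h𝒴 h𝒵 f g hP H (repByAlgSp_overCat U) (repByAlgSp_overCat V)
    (repByAlgSp_overCat W) x y z (AlgSt.overMap h) (AlgSt.overMap k) α β hz hℓf hℓg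
  exact (pt_overMap_iff hPi (h ≫ k)).1 (PT.of_iso (overMapComp h k).symm this)

end Comp

section Rows
variable {𝒳 𝒴 𝒵 : AlgSt.Cat S} (h𝒳 : AlgSt.IsAlgStack Scheme.fppfPrecoverage 𝒳)
  (h𝒴 : AlgSt.IsAlgStack Scheme.fppfPrecoverage 𝒴)
  (h𝒵 : AlgSt.IsAlgStack Scheme.fppfPrecoverage 𝒵) (f : 𝒳 ⥤ᵇ 𝒴) (g : 𝒴 ⥤ᵇ 𝒵)
open Groth.Agent.Lib.Helper14.AS

include h𝒳 h𝒴 h𝒵 in
/-- S13002 -/
theorem locQ_lft_of_comp (H : AlgSt.LocQ (AlgSp.LocP @LocallyOfFiniteType) (BasedFunctor.comp f g)) :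
    AlgSt.LocQ (AlgSp.LocP @LocallyOfFiniteType) f := by
  obtain ⟨U, V, W, x, y, z, h, k, α, β, ⟨hx, hx'⟩, ⟨hy, -⟩, ⟨hz, -⟩, ⟨hℓf, -⟩, ⟨hℓg, -⟩⟩ :=
    exists_two_squares h𝒳 h𝒴 h𝒵 f g
  have h1 := P_comp_of_locQ h𝒳 h𝒴 h𝒵 f g isSmoothLocalST_lft H x y z h k α β hz hℓf hℓg
  have h2 : LocallyOfFiniteType (h ≫ k).left := AlgSp.locP_yon_map h1
  rw [Over.comp_left] at h2
  have h3 : LocallyOfFiniteType h.left := locallyOfFiniteType_of_comp h.left k.left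
  exact ⟨U, V, x, y, h, α, hx, hx', hy, locP_yon_map_of etLocal_lft h3⟩

include h𝒳 h𝒴 h𝒵 in
/-- S13005 -/
theorem locQ_lfp_of_comp
    (H : AlgSt.LocQ (AlgSp.LocP @LocallyOfFinitePresentation) (BasedFunctor.comp f g))
    (Hg : AlgSt.LocQ (AlgSp.LocP @LocallyOfFiniteType) g) :
    AlgSt.LocQ (AlgSp.LocP @LocallyOfFinitePresentation) f := by
  obtain ⟨U, V, W, x, y, z, h, k, α, β, ⟨hx, hx'⟩, ⟨hy, -⟩, ⟨hz, -⟩, ⟨hℓf, -⟩, ⟨hℓg, -⟩⟩ :=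
    exists_two_squares h𝒳 h𝒴 h𝒵 f g
  have h1 := P_comp_of_locQ h𝒳 h𝒴 h𝒵 f g isSmoothLocalST_lfp H x y z h k α β hz hℓf hℓg
  have h2 : LocallyOfFinitePresentation (h ≫ k).left := AlgSp.locP_yon_map h1
  rw [Over.comp_left] at h2
  have h3 : LocallyOfFiniteType k.left := AlgSp.locP_yon_map
    ((locQ_iff_forall h𝒴 h𝒵 g isSmoothLocalST_lft).1 Hg V W y z k β hy hz hℓg)
  have h4 : LocallyOfFinitePresentation h.left :=
    locallyOfFinitePresentation_of_comp h.left k.left h2 h3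
  exact ⟨U, V, x, y, h, α, hx, hx', hy, locP_yon_map_of etLocal_lfp h4⟩

include h𝒳 h𝒴 h𝒵 in
/-- S13004 -/
theorem locQ_flat_of_comp_surjective (hf₁ : AlgSt.LocQ (AlgSp.LocP @Flat) f)
    (hf₂ : AlgSt.IsSurjective f)
    (H : AlgSt.LocQ (AlgSp.LocP @Flat) (BasedFunctor.comp f g)) :
    AlgSt.LocQ (AlgSp.LocP @Flat) g := by
  obtain ⟨U, V, W, x, y, z, h, k, α, β, ⟨hx, hx'⟩, ⟨hy, hy'⟩, ⟨hz, -⟩, ⟨hℓf, hℓf'⟩, ⟨hℓg, -⟩⟩ :=
    exists_two_squares h𝒳 h𝒴 h𝒵 f g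
  have hfU : FibCat.IsFibGrpd (FibCat.overCat U).p := StkFpCrit.isFibGrpd_overForget U
  have hfV : FibCat.IsFibGrpd (FibCat.overCat V).p := StkFpCrit.isFibGrpd_overForget V
  have h1 := P_comp_of_locQ h𝒳 h𝒴 h𝒵 f g isSmoothLocalST_flat H x y z h k α β hz hℓf hℓg
  have h2 : Flat (h ≫ k).left := AlgSp.locP_yon_map h1
  rw [Over.comp_left] at h2
  have h3 : Flat h.left := AlgSp.locP_yon_map
    ((locQ_iff_forall h𝒳 h𝒴 f isSmoothLocalST_flat).1 hf₁ U V x y h α hx hy hℓf)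
  -- `h` is surjective
  have h4 : AlgSt.IsSurjective (AlgSt.overMap h) := by
    have hffp : FibCat.IsFibGrpd (FibCat.fp f y).p :=
      isFibGrpd_fp _ _ h𝒳.isStack.1 hfV h𝒴.isStack.1
    have a1 : AlgSt.IsSurjective (FibCat.fpLift x (AlgSt.overMap h) α) :=
      Groth.Agent.Lib.Helper24.AlgStPts3.surjective_map_of_repByAlgSpWith hffp _ hℓf'
    have a2 : AlgSt.IsSurjective (FibCat.fpSnd f y) :=
      Groth.Agent.Lib.Helper24.AlgStPts7.isSurjective_fpSnd h𝒳.isStack.1 h𝒴.isStack.1 hfV f y hf₂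
    intro v
    obtain ⟨w, hw⟩ := a2 v
    obtain ⟨τ, hτ⟩ := a1 w
    refine ⟨τ, ?_⟩
    have : AlgSt.overMap h = BasedFunctor.comp (FibCat.fpLift x (AlgSt.overMap h) α)
        (FibCat.fpSnd f y) := rfl
    rw [this, Groth.Agent.Lib.Helper24.AlgStPts1.map_comp, hτ, hw]
  have hrep : AlgSt.RepByAlgSp1 (AlgSt.overMap h) := (repByAlgSp1_iff_with_top _).2
    (repByAlgSpWith_mono (fun _ _ _ _ => trivial) _
      ((repByAlgSpWith_overMap_iff _ good_flat h).2 (locP_yon_map_of etLocal_flat h3)))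
  have h5 : Surjective h.left := surjective_of_isSurjectiveMor_yon_map h
    ((repByAlgSpWith_overMap_iff _ good_isSurjectiveMor h).1
      ((Groth.Agent.Lib.Helper24.AlgStPts5.isSurjective_iff_repByAlgSpWith hfU hfV _ hrep).1 h4))
  have h6 : Flat k.left :=
    flat_of_flat_family k.left (ι := PUnit.{1}) (fun _ => U.left) (fun _ => h.left) (fun _ => h3)
      (fun v => ⟨PUnit.unit, h5.surj v⟩) (fun _ => h2)
  exact ⟨V, W, y, z, k, β, hy, hy', hz, locP_yon_map_of etLocal_flat h6⟩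

end Rows

end Groth.Agent.Lib.Helper24.AlgStLocQ9
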