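import Groth.Agent.Lib.Helper24.SlqfDesc
import Groth.Agent.Lib.Helper24.AtlasDiag
set_option autoImplicit false
set_option linter.unusedSectionVars false
universe u
open CategoryTheory CategoryTheory.Limits AlgebraicGeometry

/-! A sheaf with an fppf atlas representable by algebraic spaces has representable diagonal. -/

namespace Groth.Agent.Lib.Helper24.Slqf
open AlgSp Groth.Agent.Lib.Helper14.AS Groth.Agent.Lib.Helper24.ZarGlueRep
open Groth.Agent.Lib.Helper24.DescSL

section SchemeLevel

set_option backward.isDefEq.respectTransparency.types false in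
/-- a morphism locally of finite type whose kernel pair has an étale projection is locally
quasi-finite -/
theorem locallyQuasiFinite_of_etale_kernelPair {V T Q : Scheme.{u}} (k : V ⟶ T)
    [LocallyOfFiniteType k] {q₁ q₂ : Q ⟶ V} (sq : IsPullback q₁ q₂ k k) [Etale q₂] :
    LocallyQuasiFinite k := by
  refine LocallyQuasiFinite.of_fiberToSpecResidueField k fun t => ?_
  let j := T.fromSpecResidueField t
  let ι : k.fiber t ⟶ V := k.fiberι t
  let kt : k.fiber t ⟶ Spec (T.residueField t) := k.fiberToSpecResidueField t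
  have sqA : IsPullback ι kt k j := IsPullback.of_hasPullback k j
  by_cases hne : Nonempty (k.fiber t)
  · have sqB : IsPullback (pullback.fst kt kt) (pullback.snd kt kt) kt kt :=
      IsPullback.of_hasPullback kt kt
    have big : IsPullback (pullback.fst kt kt ≫ ι) (pullback.snd kt kt) k (kt ≫ j) :=
      sqB.paste_horiz sqA
    have hw : (pullback.fst kt kt ≫ ι) ≫ k = (pullback.snd kt kt ≫ ι) ≫ k := by
      rw [big.w, Category.assoc, sqA.w]
    let l : pullback kt kt ⟶ Q := sq.lift (pullback.fst kt kt ≫ ι) (pullback.snd kt kt ≫ ι) hw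
    have hl1 : l ≫ q₁ = pullback.fst kt kt ≫ ι := sq.lift_fst _ _ _
    have hl2 : l ≫ q₂ = pullback.snd kt kt ≫ ι := sq.lift_snd _ _ _
    have sqC : IsPullback l (pullback.snd kt kt) q₂ ι := by
      refine IsPullback.of_right ?_ hl2 sq
      rw [hl1, sqA.w]
      exact big
    have hsnd : Etale (pullback.snd kt kt) :=
      MorphismProperty.of_isPullback (P := @Etale) sqC inferInstance
    have hflat : Flat kt := inferInstance
    have hlft : LocallyOfFiniteType kt :=
      MorphismProperty.of_isPullback (P := @LocallyOfFiniteType) sqA inferInstance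
    have hlfp : LocallyOfFinitePresentation kt := inferInstance
    have hsurj : Surjective kt := by
      obtain ⟨z⟩ := hne
      exact ⟨fun x => ⟨z, Subsingleton.elim _ _⟩⟩
    have het : Etale kt :=
      MorphismProperty.of_pullback_snd_of_descendsAlong (P := @Etale)
        (Q := @Surjective ⊓ @Flat ⊓ @LocallyOfFinitePresentation) (f := kt) (g := kt)
        ⟨⟨hsurj, hflat⟩, hlfp⟩ hsnd
    exact etale_locallyQuasiFinite kt
  · have : IsEmpty (k.fiber t) := not_nonempty_iff.1 hne
    infer_instance

end SchemeLevel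

variable {S : Scheme.{u}}

/-- composing both legs of a pullback square with a monomorphism -/
theorem isPullback_comp_mono {C : Type*} [Category C] {P X Y Z Z' : C} {a : P ⟶ X} {b : P ⟶ Y}
    {f : X ⟶ Z} {g : Y ⟶ Z} (m : Z ⟶ Z') [Mono m] (h : IsPullback a b f g) :
    IsPullback a b (f ≫ m) (g ≫ m) := by
  refine isPullback_of_exists_unique ?_ (fun T₁ x y hxy => ?_) (fun T₁ z z' h1 h2 => ?_)
  · rw [← Category.assoc, h.w, Category.assoc]
  · have : x ≫ f = y ≫ g := by
      rw [← cancel_mono m, Category.assoc, Category.assoc, hxy]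
    exact ⟨h.lift x y this, h.lift_fst _ _ _, h.lift_snd _ _ _⟩
  · exact h.hom_ext h1 h2

set_option backward.isDefEq.respectTransparency.types false in
/-- a monomorphism locally of finite type from an algebraic space to a scheme is locally
quasi-finite -/
theorem locP_lqf_of_mono {A : Sp S} {T : Over S} (m : A ⟶ (yon S).obj T) [Mono m]
    (h : LocP @LocallyOfFiniteType m) :
    LocP (@LocallyQuasiFinite ⊓ @LocallyOfFiniteType) m := by
  intro V W a b h₀ ha hb comm
  obtain ⟨b₀, rfl⟩ := (yon S).map_surjective b
  let k : V ⟶ T := h₀ ≫ b₀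
  have hak : a ≫ m = (yon S).map k := by rw [comm, ← Functor.map_comp]
  have hk : LocallyOfFiniteType k.left :=
    h a (𝟙 _) k ha (repWith_id _ T) (by rw [hak, Category.comp_id])
  have sqR := ha.rep.isPullback a
  let p₁ := ha.rep.snd a
  obtain ⟨p₂, hp₂⟩ := (yon S).map_surjective (ha.rep.fst a)
  rw [← hp₂] at sqR
  have hp₁e : Etale p₁.left := ha.property_snd a
  have sqR' := isPullback_comp_mono m sqR
  rw [hak] at sqR'
  have sq₀ : IsPullback p₂ p₁ k k := IsPullback.of_map (yon S) (by
    apply (yon S).map_injective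
    rw [Functor.map_comp, Functor.map_comp]
    exact sqR'.w) sqR'
  have sq₁ : IsPullback p₂.left p₁.left k.left k.left := sq₀.map (Over.forget S)
  have hq : LocallyQuasiFinite k.left := locallyQuasiFinite_of_etale_kernelPair k.left sq₁
  have hq' : LocallyQuasiFinite (h₀.left ≫ b₀.left) := hq
  have hk' : LocallyOfFiniteType (h₀.left ≫ b₀.left) := hk
  exact ⟨LocallyQuasiFinite.of_comp h₀.left b₀.left, locallyOfFiniteType_of_comp h₀.left b₀.left⟩

section SpaceAtlas
variable {F : Sp S} {U : Over S} (q : (yon S).obj U ⟶ F)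
  (hq : ∀ ⦃T : Over S⦄ (ξ : (yon S).obj T ⟶ F) ⦃F' : Sp S⦄ (fst : F' ⟶ (yon S).obj U)
    (snd : F' ⟶ (yon S).obj T), IsPullback fst snd q ξ → IsAlgSpace F' ∧
      (IsSurjectiveMor ⊓ LocP @Flat ⊓ LocP @LocallyOfFinitePresentation) snd)

include hq in
set_option backward.isDefEq.respectTransparency.types false in
set_option maxHeartbeats 800000 in
/-- the base change of the diagonal along a map whose two components lift to the atlas -/
theorem exists_isPullback_diag_of_lifts' {T' : Over S}
    (g' : (yon S).obj T' ⟶ F ⨯ F) (α β : T' ⟶ U) (hα : g' ≫ prod.fst = (yon S).map α ≫ q)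
    (hβ : g' ≫ prod.snd = (yon S).map β ≫ q) :
    ∃ (V' : Over S) (r : V' ⟶ T') (fstW : (yon S).obj V' ⟶ F),
      IsPullback fstW ((yon S).map r) (Limits.diag F) g' ∧ LocallyOfFiniteType r.left := by
  let p₂ := pullback.fst q ((yon S).map β ≫ q)
  let p₁ := pullback.snd q ((yon S).map β ≫ q)
  have sqP : IsPullback p₂ p₁ q ((yon S).map β ≫ q) := IsPullback.of_hasPullback _ _
  obtain ⟨hP, -, hlfp⟩ := hq ((yon S).map β ≫ q) p₂ p₁ sqP
  have hp₁T : LocP @LocallyOfFiniteType p₁ := fun V W a b h ha hb c => by
    have : LocallyOfFinitePresentation h.left := hlfp a b h ha hb c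
    infer_instance
  have hk : RepWith @LocallyOfFiniteType (Limits.diag ((yon S).obj U)) :=
    (repWith_diag_yon_iff @LocallyOfFiniteType U).2 inferInstance
  let d : pullback q ((yon S).map β ≫ q) ⟶ (yon S).obj U ⨯ (yon S).obj U :=
    prod.lift p₂ (p₁ ≫ (yon S).map α)
  let fk := pullback.fst (Limits.diag ((yon S).obj U)) d
  let k := pullback.snd (Limits.diag ((yon S).obj U)) d
  have sqV : IsPullback fk k (Limits.diag ((yon S).obj U)) d := IsPullback.of_hasPullback _ _
  have hkrep : RepWith @LocallyOfFiniteType k :=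
    MorphismProperty.of_isPullback (P := RepWith @LocallyOfFiniteType) sqV hk
  have hE' : IsAlgSpace (pullback (Limits.diag ((yon S).obj U)) d) :=
    isAlgSpace_of_representable_to hP k hkrep.rep
  have e1 : fk = k ≫ p₂ := by
    have := congrArg (· ≫ prod.fst) sqV.w
    simp only [Category.assoc, Limits.diag, prod.lift_fst, Category.comp_id, d] at this
    exact this
  have e2 : fk = k ≫ p₁ ≫ (yon S).map α := by
    have := congrArg (· ≫ prod.snd) sqV.w
    simp only [Category.assoc, Limits.diag, prod.lift_snd, Category.comp_id, d] at this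
    exact this
  let μ := k ≫ p₁
  have hμm : Mono μ := by
    constructor
    intro Z x y hxy
    have hxy' : (x ≫ k) ≫ p₁ = (y ≫ k) ≫ p₁ := by
      rw [Category.assoc, Category.assoc]; exact hxy
    have hk' : x ≫ k = y ≫ k := by
      apply sqP.hom_ext
      · rw [Category.assoc, Category.assoc, ← e1, e2, ← Category.assoc, ← Category.assoc,
          ← Category.assoc, ← Category.assoc, hxy']
      · exact hxy'
    apply sqV.hom_ext
    · rw [e1, ← Category.assoc, ← Category.assoc, hk']
    · exact hk'
  have hμT : LocP @LocallyOfFiniteType μ :=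
    locP_comp etLocal_lft hE' hP (IsAlgSpace.yon_obj T') k p₁
      (locP_of_repWith etale_le_lft hkrep) hp₁T
  have hμQ := locP_lqf_of_mono μ hμT
  have hμsep : IsSeparatedMor μ := by
    change (RepWith (S := S) @IsClosedImmersion).diagonal μ
    rw [MorphismProperty.diagonal_iff]
    have : IsIso (pullback.diagonal μ) := (pullback.isIso_diagonal_iff μ).2 inferInstance
    exact MorphismProperty.of_isIso _ _
  have hG : Good μ := ⟨hE', hμsep, hμQ⟩
  obtain ⟨V', ⟨ε⟩⟩ := exists_iso_yon_of_good μ hG
  obtain ⟨r, hr⟩ := (yon S).map_surjective (ε.hom ≫ μ)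
  have hεe : RepWith @Etale ε.hom := MorphismProperty.of_isIso _ _
  have hrT : LocallyOfFiniteType r.left :=
    hμT ε.hom (𝟙 _) r hεe (repWith_id _ T') (by rw [hr, Category.comp_id])
  have sqE : IsPullback (fk ≫ q) μ (Limits.diag F) g' := by
    rw [isPullback_iff_yon]
    constructor
    · apply Limits.prod.hom_ext
      · simp only [Category.assoc, Limits.diag, prod.lift_fst, Category.comp_id]
        rw [hα, e2]
        simp only [μ, Category.assoc]
      · simp only [Category.assoc, Limits.diag, prod.lift_snd, Category.comp_id]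
        rw [hβ, e1]
        simp only [μ, Category.assoc]
        rw [sqP.w]
    · intro W x y hxy
      have hx1 : x = y ≫ (yon S).map α ≫ q := by
        have := congrArg (· ≫ prod.fst) hxy
        simp only [Category.assoc, Limits.diag, prod.lift_fst, Category.comp_id, hα] at this
        exact this
      have hx2 : x = y ≫ (yon S).map β ≫ q := by
        have := congrArg (· ≫ prod.snd) hxy
        simp only [Category.assoc, Limits.diag, prod.lift_snd, Category.comp_id, hβ] at this
        exact this
      let z₁ := sqP.lift (y ≫ (yon S).map α) y (by rw [Category.assoc, ← hx1, hx2])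
      have hz₁1 : z₁ ≫ p₂ = y ≫ (yon S).map α := sqP.lift_fst _ _ _
      have hz₁2 : z₁ ≫ p₁ = y := sqP.lift_snd _ _ _
      let z := sqV.lift (y ≫ (yon S).map α) z₁ (by
        apply Limits.prod.hom_ext
        · simp only [Category.assoc, Limits.diag, prod.lift_fst, Category.comp_id, d]
          exact hz₁1.symm
        · simp only [Category.assoc, Limits.diag, prod.lift_snd, Category.comp_id, d]
          rw [reassoc_of% hz₁2])
      have hz1 : z ≫ fk = y ≫ (yon S).map α := sqV.lift_fst _ _ _
      have hz2 : z ≫ k = z₁ := sqV.lift_snd _ _ _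
      have hzμ : z ≫ μ = y := by
        change z ≫ k ≫ p₁ = y
        rw [reassoc_of% hz2, hz₁2]
      refine ⟨z, ⟨?_, hzμ⟩, ?_⟩
      · rw [reassoc_of% hz1, ← hx1]
      · rintro z' ⟨-, h2⟩
        rw [← cancel_mono μ, h2, hzμ]
  refine ⟨V', r, ε.hom ≫ fk ≫ q, ?_, hrT⟩
  rw [hr]
  exact IsPullback.of_iso sqE ε.symm (Iso.refl _) (Iso.refl _) (Iso.refl _) (by simp) (by simp)
    (by simp) (by simp)

include hq in
set_option backward.isDefEq.respectTransparency.types false in
/-- an fppf cover of a test scheme over which a point of `F` lifts to the atlas -/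
theorem exists_cover_lift_atlas {T : Over S} (a : (yon S).obj T ⟶ F) :
    ∃ (Ta : Over S) (wa : Ta ⟶ T) (a' : Ta ⟶ U), (yon S).map a' ≫ q = (yon S).map wa ≫ a ∧
      Flat wa.left ∧ LocallyOfFinitePresentation wa.left ∧ Surjective wa.left := by
  obtain ⟨hPa, ⟨hsurj, hflat⟩, hlfp⟩ := hq a (pullback.fst q a) (pullback.snd q a)
    (IsPullback.of_hasPullback q a)
  obtain ⟨Ta, c, hce, hcs⟩ := hPa.atlas
  obtain ⟨wa, hwa⟩ := (yon S).map_surjective (c ≫ pullback.snd q a)
  obtain ⟨a', ha'⟩ := (yon S).map_surjective (c ≫ pullback.fst q a)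
  refine ⟨Ta, wa, a', ?_, ?_, ?_, ?_⟩
  · rw [ha', hwa, Category.assoc, Category.assoc, pullback.condition]
  · exact hflat c (𝟙 _) wa hce (repWith_id _ T) (by rw [hwa, Category.comp_id])
  · exact hlfp c (𝟙 _) wa hce (repWith_id _ T) (by rw [hwa, Category.comp_id])
  · have h2 : IsSurjectiveMor ((yon S).map wa) := by
      rw [hwa]
      intro y
      obtain ⟨z, hz⟩ := hsurj y
      obtain ⟨z', hz'⟩ := points_map_surjective_of_repWith hcs z
      exact ⟨z', by rw [Points.map_comp, hz', hz]⟩
    exact (repWith_yon_map_iff @Surjective _).1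
      (repWith_surjective_of_isSurjectiveMor (representable_yon_map wa) h2)

include hq in
set_option backward.isDefEq.respectTransparency.types false in
/-- **A sheaf with an fppf atlas representable by algebraic spaces has representable diagonal.** -/
theorem representable_diag_of_space_atlas : Representable (Limits.diag F) := by
  intro T g
  let a : (yon S).obj T ⟶ F := g ≫ prod.fst
  let b : (yon S).obj T ⟶ F := g ≫ prod.snd
  obtain ⟨Ta, wa, a', sqa, hwa1, hwa2, hwa3⟩ := exists_cover_lift_atlas q hq a
  obtain ⟨Tb, wb, b', sqb, hwb1, hwb2, hwb3⟩ := exists_cover_lift_atlas q hq b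
  let T' : Over S := pullback wa wb
  let c : T' ⟶ T := pullback.fst wa wb ≫ wa
  have sqT : IsPullback (pullback.snd wa wb).left (pullback.fst wa wb).left wb.left wa.left :=
    ((IsPullback.of_hasPullback wa wb).map (Over.forget S)).flip
  have hf1 : Flat (pullback.fst wa wb).left := MorphismProperty.of_isPullback sqT hwb1
  have hf2 : LocallyOfFinitePresentation (pullback.fst wa wb).left :=
    MorphismProperty.of_isPullback sqT hwb2
  have hf3 : Surjective (pullback.fst wa wb).left := MorphismProperty.of_isPullback sqT hwb3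
  have hc1 : Flat c.left := by
    change Flat ((pullback.fst wa wb).left ≫ wa.left)
    infer_instance
  have hc2 : LocallyOfFinitePresentation c.left := by
    change LocallyOfFinitePresentation ((pullback.fst wa wb).left ≫ wa.left)
    infer_instance
  have hc3 : Surjective c.left := by
    change Surjective ((pullback.fst wa wb).left ≫ wa.left)
    infer_instance
  let α : T' ⟶ U := pullback.fst wa wb ≫ a'
  let β : T' ⟶ U := pullback.snd wa wb ≫ b'
  have hα : ((yon S).map c ≫ g) ≫ prod.fst = (yon S).map α ≫ q := by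
    rw [Category.assoc, Functor.map_comp, Functor.map_comp, Category.assoc, Category.assoc]
    exact congrArg (_ ≫ ·) sqa.symm
  have hβ : ((yon S).map c ≫ g) ≫ prod.snd = (yon S).map β ≫ q := by
    have hc' : c = pullback.snd wa wb ≫ wb := pullback.condition
    rw [hc', Category.assoc, Functor.map_comp, Functor.map_comp, Category.assoc, Category.assoc]
    exact congrArg (_ ≫ ·) sqb.symm
  obtain ⟨V', r, fstW, sqW, hrT⟩ :=
    exists_isPullback_diag_of_lifts' q hq ((yon S).map c ≫ g) α β hα hβ
  have hmd : Mono (Limits.diag F) := AtlasDiag.mono_diag F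
  have hm1 : Mono ((yon S).map r) := sqW.mono_snd_of_mono
  have hm2 : Mono r := (yon S).mono_of_mono_map hm1
  have hm3 : Mono r.left := inferInstance
  have sq₀ := isPullback_lift_of_isPullback (Limits.diag F) g c r fstW sqW
  obtain ⟨U₁, ρ, e, he⟩ := exists_rep_of_chart (pullback.snd (Limits.diag F) g) (fun x =>
    ⟨T', V', c, r, _, sq₀, hc1, hc2, hc3.surj x, inferInstance, inferInstance, hrT⟩)
  exact ⟨U₁, ρ, e.hom ≫ pullback.fst _ _, isPullback_of_iso_pullback (Limits.diag F) g ρ e he⟩

end SpaceAtlas

end Groth.Agent.Lib.Helper24.Slqf
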