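import Groth.Agent.Lib.Helper24.AlgStSecBridge
import Groth.Agent.Lib.Helper24.AlgStImmNoeth
import Groth.Agent.Lib.Helper24.SpaceAtlasDiag
import Groth.Agent.Lib.Helper14.Birat6
import Groth.Agent.S10260
import Groth.Agent.S15348
set_option autoImplicit false
open CategoryTheory AlgebraicGeometry Opposite
universe u
set_option backward.isDefEq.respectTransparency false
set_option backward.isDefEq.respectTransparency.types false

/-! A monomorphism locally of finite presentation into a locally Noetherian scheme, represented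
by an algebraic space, with the discrete valuation ring and dense lifting properties, is a
quasi-compact immersion. -/

namespace Groth.Agent.Lib.Helper24.AlgStMonoImm
open Groth.Agent.Lib.Helper24.FibCatFpMap
open Groth.Agent.Lib.Helper24.FibCatEquiv Groth.Agent.Lib.Helper24.FibCatFpGen
open Groth.Agent.Lib.Helper24.AlgStRep
open Groth.Agent.Lib.Helper24.AlgStBridge Groth.Agent.Lib.Helper24.AlgStBoot
open Groth.Agent.Lib.Helper24.AlgStRepS Groth.Agent.Lib.Helper24.PshBridge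
open Groth.Agent.Lib.Helper24.AlgStSecBridge Groth.Agent.Lib.Helper24.AlgStLocQ9
open Groth.Agent.Lib.Helper24.AlgStImmNoeth Groth.Agent.Lib.Helper24.Slqf
open Groth.Agent.Lib.Helper14.AS
open CategoryTheory.Limits AlgSt

variable {S : Scheme.{u}}

section
variable {𝒳 𝒴 : AlgSt.Cat S} {U : Over S} (u : FibCat.overCat U ⥤ᵇ 𝒳) (f : 𝒴 ⥤ᵇ 𝒳)
  {Y : AlgSp.Sp S} (e : AlgSt.ofSp Y ⥤ᵇ FibCat.fp u f) (he : FibCat.IsEquivOver e)
  {Y₀ : Over S} (φ : (AlgSp.yon S).obj Y₀ ≅ Y) (g₀ : Y₀ ⟶ U)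
  (hφ : φ.hom ≫ AlgSt.spMapOfOver (BasedFunctor.comp e (FibCat.fpFst u f)) = (AlgSp.yon S).map g₀)

include hφ in
/-- a morphism of schemes to the representing scheme gives a lift of the chart -/
theorem exists_lift_of_schemeMap {T : Over S} (c : T ⟶ U) (l₀ : T.left ⟶ Y₀.left)
    (hl₀ : l₀ ≫ g₀.left = c.left) :
    ∃ yT : FibCat.overCat T ⥤ᵇ 𝒴,
      Nonempty (BasedFunctor.comp yT f ≅ BasedFunctor.comp (AlgSt.overMap c) u) := by
  let l₀' : T ⟶ Y₀ := Over.homMk l₀ (by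
    have h1 : Y₀.hom = g₀.left ≫ U.hom := (Over.w g₀).symm
    rw [h1, ← Category.assoc, hl₀]
    exact Over.w c)
  have h2 : l₀' ≫ g₀ = c := Over.OverMorphism.ext hl₀
  refine exists_lift_of_section u f e c ((AlgSp.yon S).map l₀' ≫ φ.hom) ?_
  rw [Category.assoc, hφ, ← Functor.map_comp, h2]

include he hφ in
/-- a lift of the chart gives a morphism of schemes to the representing scheme -/
theorem exists_schemeMap_of_lift {T : Over S} (c : T ⟶ U) (yT : FibCat.overCat T ⥤ᵇ 𝒴)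
    (α : BasedFunctor.comp yT f ≅ BasedFunctor.comp (AlgSt.overMap c) u) :
    ∃ l₀ : T.left ⟶ Y₀.left, l₀ ≫ g₀.left = c.left := by
  obtain ⟨l, hl⟩ := exists_section_of_lift u f e he c yT α
  obtain ⟨l₀', hl₀'⟩ : ∃ l₀' : T ⟶ Y₀, (AlgSp.yon S).map l₀' = l ≫ φ.inv :=
    ⟨(AlgSp.yon S).preimage _, (AlgSp.yon S).map_preimage _⟩
  have h2 : l₀' ≫ g₀ = c := by
    apply (AlgSp.yon S).map_injective
    rw [Functor.map_comp, hl₀', ← hφ, Category.assoc, Iso.inv_hom_id_assoc, hl]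
  exact ⟨l₀'.left, congrArg (fun m => m.left) h2⟩

end

/-- the base change of `f` to a locally Noetherian chart is a quasi-compact immersion -/
theorem repWith_immersion_of_mono_dvr {𝒳 𝒴 : AlgSt.Cat S} {U : Over S}
    [IsLocallyNoetherian U.left] (u : FibCat.overCat U ⥤ᵇ 𝒳) (f : 𝒴 ⥤ᵇ 𝒳)
    (Y : AlgSp.Space S) (e : AlgSt.ofSp Y.obj ⥤ᵇ FibCat.fp u f) (he : FibCat.IsEquivOver e)
    (hmono : Mono (AlgSt.spMapOfOver (BasedFunctor.comp e (FibCat.fpFst u f))))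
    (hlfp : AlgSp.LocP @LocallyOfFinitePresentation
      (AlgSt.spMapOfOver (BasedFunctor.comp e (FibCat.fpFst u f))))
    (hb : ∀ (A : Type u) [CommRing A] [IsDomain A] [IsDiscreteValuationRing A] (K : Type u) [Field K] [Algebra A K]
      [IsFractionRing A K] (sA : Spec (CommRingCat.of A) ⟶ S) (a : FibCat.overCat (Over.mk sA) ⥤ᵇ 𝒳),
      (∃ yK : FibCat.overCat (Over.mk (Spec.map (CommRingCat.ofHom (algebraMap A K)) ≫ sA)) ⥤ᵇ 𝒴,
          Nonempty (BasedFunctor.comp yK f ≅ BasedFunctor.comp (AlgSt.overMap (Over.homMk (Spec.map (CommRingCat.ofHom (algebraMap A K))) rfl : Over.mk ((Spec.map (CommRingCat.ofHom (algebraMap A K))) ≫ sA) ⟶ Over.mk sA)) a)) →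
      (∃ yk : FibCat.overCat (Over.mk (Spec.map (CommRingCat.ofHom (IsLocalRing.residue A)) ≫ sA)) ⥤ᵇ 𝒴,
          Nonempty (BasedFunctor.comp yk f ≅ BasedFunctor.comp (AlgSt.overMap (Over.homMk (Spec.map (CommRingCat.ofHom (IsLocalRing.residue A))) rfl : Over.mk ((Spec.map (CommRingCat.ofHom (IsLocalRing.residue A))) ≫ sA) ⟶ Over.mk sA)) a)) →
      ∃ y : FibCat.overCat (Over.mk sA) ⥤ᵇ 𝒴, Nonempty (BasedFunctor.comp y f ≅ a))
    (hc : ∀ (A : Type u) [CommRing A] [IsDomain A] (sA : Spec (CommRingCat.of A) ⟶ S)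
      (a : FibCat.overCat (Over.mk sA) ⥤ᵇ 𝒳) (D : Set ↥(Spec (CommRingCat.of A))), Dense D →
      (∀ p ∈ D, ∃ yp : FibCat.overCat (Over.mk ((Spec (CommRingCat.of A)).fromSpecResidueField p ≫ sA)) ⥤ᵇ 𝒴,
          Nonempty (BasedFunctor.comp yp f ≅ BasedFunctor.comp (AlgSt.overMap (Over.homMk ((Spec (CommRingCat.of A)).fromSpecResidueField p) rfl : Over.mk (((Spec (CommRingCat.of A)).fromSpecResidueField p) ≫ sA) ⟶ Over.mk sA)) a)) →
      ∃ U : (Spec (CommRingCat.of A)).Opens, (U : Set ↥(Spec (CommRingCat.of A))).Nonempty ∧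
        ∃ yU : FibCat.overCat (Over.mk (U.ι ≫ sA)) ⥤ᵇ 𝒴,
          Nonempty (BasedFunctor.comp yU f ≅ BasedFunctor.comp (AlgSt.overMap (Over.homMk (U.ι) rfl : Over.mk ((U.ι) ≫ sA) ⟶ Over.mk sA)) a)) :
    AlgSp.RepWith (@IsImmersion ⊓ @QuasiCompact)
      (AlgSt.spMapOfOver (BasedFunctor.comp e (FibCat.fpFst u f))) := by
  obtain ⟨g, hg⟩ : ∃ g : Y.obj ⟶ (AlgSp.yon S).obj U,
      g = AlgSt.spMapOfOver (BasedFunctor.comp e (FibCat.fpFst u f)) := ⟨_, rfl⟩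
  rw [← hg] at hmono hlfp ⊢
  have hlft : AlgSp.LocP @LocallyOfFiniteType g := locP_mono' lfp_le_lft hlfp
  have hlqf := locP_lqf_of_mono g hlft
  have hsep : AlgSp.IsSeparatedMor g := by
    have : IsIso (pullback.diagonal g) := (pullback.isIso_diagonal_iff g).2 inferInstance
    exact repWith_of_isIso _ _
  have hrep : AlgSp.Representable g :=
    Groth.Agent.S10260.result (X := Y)
      (Y := ⟨(AlgSp.yon S).obj U, AlgSp.IsAlgSpace.yon_obj U⟩) (ObjectProperty.homMk g) hlqf hsep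
  -- the representing scheme
  have sq := hrep.isPullback (𝟙 ((AlgSp.yon S).obj U))
  have hiso : IsIso (hrep.fst (𝟙 ((AlgSp.yon S).obj U))) := sq.isIso_fst_of_isIso
  obtain ⟨Y₀, hY₀⟩ : ∃ Y₀ : Over S, Y₀ = hrep.pullback (𝟙 ((AlgSp.yon S).obj U)) := ⟨_, rfl⟩
  obtain ⟨g₀, hg₀⟩ : ∃ g₀ : hrep.pullback (𝟙 ((AlgSp.yon S).obj U)) ⟶ U,
      g₀ = hrep.snd (𝟙 ((AlgSp.yon S).obj U)) := ⟨_, rfl⟩
  rw [← hg₀] at sq
  let φ : (AlgSp.yon S).obj (hrep.pullback (𝟙 ((AlgSp.yon S).obj U))) ≅ Y.obj :=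
    asIso (hrep.fst (𝟙 ((AlgSp.yon S).obj U)))
  have hφ : φ.hom ≫ g = (AlgSp.yon S).map g₀ := by
    have := sq.w
    rw [Category.comp_id] at this
    exact this
  have hφ' : φ.hom ≫ AlgSt.spMapOfOver (BasedFunctor.comp e (FibCat.fpFst u f)) =
      (AlgSp.yon S).map g₀ := by rw [← hg]; exact hφ
  -- properties of `g₀`
  have hm₀ : Mono ((AlgSp.yon S).map g₀) := by
    rw [← hφ]
    infer_instance
  have hm₁ : Mono g₀ := (AlgSp.yon S).mono_of_mono_map hm₀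
  have hm₂ : Mono g₀.left := inferInstance
  have hlfp₀ : LocallyOfFinitePresentation g₀.left :=
    hlfp φ.hom (𝟙 _) g₀ (repWith_of_isIso _ _) (AlgSp.repWith_id _ U)
      (by rw [hφ, Category.comp_id])
  have himm : IsImmersion g₀.left := by
    refine Groth.Agent.S15348.result g₀.left ?_ ?_
    · intro S' hdvr hl₀
      obtain ⟨l₀, hl₀⟩ := hl₀
      obtain ⟨sA, hsA⟩ : ∃ sA : Spec (CommRingCat.of S'.R) ⟶ S, sA = S'.i₂ ≫ U.hom := ⟨_, rfl⟩
      let cA : Over.mk sA ⟶ U := Over.homMk S'.i₂ hsA.symm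
      let iK : Over.mk (Spec.map (CommRingCat.ofHom (algebraMap S'.R S'.K)) ≫ sA) ⟶ Over.mk sA :=
        Over.homMk (Spec.map (CommRingCat.ofHom (algebraMap S'.R S'.K))) rfl
      let ik : Over.mk (Spec.map (CommRingCat.ofHom (IsLocalRing.residue S'.R)) ≫ sA) ⟶
          Over.mk sA :=
        Over.homMk (Spec.map (CommRingCat.ofHom (IsLocalRing.residue S'.R))) rfl
      obtain ⟨yK, ⟨αK⟩⟩ := exists_lift_of_schemeMap u f e φ g₀ hφ' (iK ≫ cA) S'.i₁ S'.commSq.w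
      obtain ⟨yk, ⟨αk⟩⟩ := exists_lift_of_schemeMap u f e φ g₀ hφ' (ik ≫ cA) l₀ hl₀
      obtain ⟨y, ⟨α⟩⟩ := hb S'.R S'.K sA (BasedFunctor.comp (AlgSt.overMap cA) u)
        ⟨yK, ⟨αK ≪≫ whiskerRightIso (overMapComp iK cA) u⟩⟩
        ⟨yk, ⟨αk ≪≫ whiskerRightIso (overMapComp ik cA) u⟩⟩
      obtain ⟨l', hl'⟩ := exists_schemeMap_of_lift u f e he φ g₀ hφ' cA y α
      refine CommSq.HasLift.mk' ⟨l', ?_, hl'⟩
      rw [← cancel_mono g₀.left, Category.assoc, hl']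
      exact S'.commSq.w.symm
    · intro A _ _ s D hD hpts
      obtain ⟨sA, hsA⟩ : ∃ sA : Spec (CommRingCat.of A) ⟶ S, sA = s ≫ U.hom := ⟨_, rfl⟩
      let cA : Over.mk sA ⟶ U := Over.homMk s hsA.symm
      obtain ⟨V, hV, yV, ⟨α⟩⟩ := hc A sA (BasedFunctor.comp (AlgSt.overMap cA) u) D hD (by
        intro p hp
        obtain ⟨l, hl⟩ := hpts p hp
        let ip : Over.mk ((Spec (CommRingCat.of A)).fromSpecResidueField p ≫ sA) ⟶ Over.mk sA :=
          Over.homMk ((Spec (CommRingCat.of A)).fromSpecResidueField p) rfl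
        obtain ⟨yp, ⟨β⟩⟩ := exists_lift_of_schemeMap u f e φ g₀ hφ' (ip ≫ cA) l hl
        exact ⟨yp, ⟨β ≪≫ whiskerRightIso (overMapComp ip cA) u⟩⟩)
      let iV : Over.mk (V.ι ≫ sA) ⟶ Over.mk sA := Over.homMk V.ι rfl
      obtain ⟨l₀, hl₀⟩ := exists_schemeMap_of_lift u f e he φ g₀ hφ' (iV ≫ cA) yV
        (α ≪≫ whiskerRightIso (overMapComp iV cA).symm u)
      exact ⟨V, hV, l₀, hl₀⟩
  have hqc : QuasiCompact g₀.left := quasiCompact_of_isImmersion g₀.left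
  have h1 : AlgSp.RepWith (@IsImmersion ⊓ @QuasiCompact) ((AlgSp.yon S).map g₀) :=
    (AlgSp.repWith_yon_map_iff _ _).2 ⟨himm, hqc⟩
  have e1 : g = φ.inv ≫ (AlgSp.yon S).map g₀ := by rw [← hφ, Iso.inv_hom_id_assoc]
  rw [e1]
  exact (MorphismProperty.cancel_left_of_respectsIso
    (AlgSp.RepWith (@IsImmersion ⊓ @QuasiCompact)) _ _).2 h1

end Groth.Agent.Lib.Helper24.AlgStMonoImm
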