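import Groth.Agent.Lib.Helper24.AlgStOpenSub2
import Groth.Agent.Lib.Helper24.AlgStPts7
set_option autoImplicit false
open CategoryTheory AlgebraicGeometry Opposite
universe w₁ v₁ w₂ v₂ w₃ v₃ w₄ v₄ u
set_option backward.isDefEq.respectTransparency false
set_option backward.isDefEq.respectTransparency.types false

/-! Open substacks of an algebraic stack correspond to open subsets of its space of points. -/

namespace Groth.Agent.Lib.Helper24.AlgStOpenSub3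
open Groth.Agent.Lib.Helper24.FibCatFpMap
open Groth.Agent.Lib.Helper24.FibCatEquiv Groth.Agent.Lib.Helper24.FibCatFpGen
open Groth.Agent.Lib.Helper24.AlgStPts1 Groth.Agent.Lib.Helper24.AlgStPts3
open Groth.Agent.Lib.Helper24.AlgStPts4 Groth.Agent.Lib.Helper24.AlgStPts7
open Groth.Agent.Lib.Helper24.AlgStOpenSub1 Groth.Agent.Lib.Helper24.AlgStOpenSub2
open Groth.Agent.Lib.Helper24.AlgStRepAlg
open Groth.Agent.Lib.Helper24.AlgStRep Groth.Agent.Lib.Helper24.AlgStRepS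
open Groth.Agent.Lib.Helper24.AlgStSchLocal Groth.Agent.Lib.Helper24.AlgStLocQ1
open Groth.Agent.Lib.Helper24.AlgStEqv Groth.Agent.Lib.Helper24.AlgStCalc
open Groth.Agent.Lib.Helper24.AlgStBridge Groth.Agent.Lib.Helper24.AlgStSmLoc
open Groth.Agent.Lib.Helper24.AlgStBoot Groth.Agent.Lib.Helper24.AlgStProps
open Groth.Agent.Lib.Helper24.FibCatYoneda Groth.Agent.Lib.Helper24.FibGrpd
open Groth.Agent.Lib.Helper26.StackPoints Groth.Agent.Lib.Helper24.AlgStDiagLft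
open CategoryTheory.Limits AlgSt

variable {S : Scheme.{u}} {𝒳 : AlgSt.Cat S}

/-- a strictly full subcategory fibred in groupoids is closed under sources of morphisms -/
theorem prop_of_hom (h𝒳 : FibCat.IsFibGrpd 𝒳.p) (Q : 𝒳.obj → Prop)
    [ObjectProperty.IsClosedUnderIsomorphisms Q] (hfib : FibCat.IsFibGrpd (AlgSt.fullSub 𝒳 Q).p)
    {y' y : 𝒳.obj} (φ : y' ⟶ y) (hy : Q y) : Q y' := by
  obtain ⟨z', ψ, hψ⟩ := hfib.exists_lift (x := (⟨y, hy⟩ : (AlgSt.fullSub 𝒳 Q).obj)) (𝒳.p.map φ)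
  have h1 : 𝒳.p.IsHomLift (𝒳.p.map φ) ψ.hom :=
    (Groth.Agent.Lib.Helper24.StkSub.isHomLift_sub_iff Q _ ψ).1 hψ
  have c1 : 𝒳.p.IsStronglyCartesian (𝒳.p.map φ) ψ.hom := scart_of_isFibGrpd 𝒳.p h𝒳 _ _
  have c2 : 𝒳.p.IsStronglyCartesian (𝒳.p.map φ) φ := scart_of_isFibGrpd 𝒳.p h𝒳 _ _
  exact ObjectProperty.prop_of_iso Q
    (Functor.IsCartesian.domainUniqueUpToIso 𝒳.p (𝒳.p.map φ) φ ψ.hom) z'.property

theorem qW_range_of_prop (h𝒳 : FibCat.IsFibGrpd 𝒳.p) (Q : 𝒳.obj → Prop)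
    [ObjectProperty.IsClosedUnderIsomorphisms Q] (hfib : FibCat.IsFibGrpd (AlgSt.fullSub 𝒳 Q).p)
    {y : 𝒳.obj} (hy : Q y) : QW (Set.range (Points.map (AlgSt.subIncl 𝒳 Q))) y := by
  rintro p ⟨m⟩
  have := prop_of_hom h𝒳 Q hfib m hy
  exact ⟨Points.mk ⟨p.K, p.str, ⟨p.obj, this⟩, p.lies⟩, rfl⟩

section Main
variable (h𝒳 : AlgSt.IsAlgStack Scheme.fppfPrecoverage 𝒳) {Q : 𝒳.obj → Prop}
  (hQ : AlgSt.IsOpenSubstack 𝒳 Q Scheme.fppfPrecoverage)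

include h𝒳 hQ in
theorem prop_of_qW_range {y : 𝒳.obj}
    (hy : QW (Set.range (Points.map (AlgSt.subIncl 𝒳 Q))) y) : Q y := by
  obtain ⟨hcl, halg, himm⟩ := hQ
  have hG := h𝒳.isStack.1
  haveI : 𝒳.p.IsFibered := isFibered_of_isFibGrpd 𝒳.p hG
  let T : Over S := 𝒳.p.obj y
  have hT : FibCat.IsFibGrpd (FibCat.overCat T).p :=
    Groth.Agent.Lib.Helper24.StkFpCrit.isFibGrpd_overForget T
  let ŷ : FibCat.overCat T ⥤ᵇ 𝒳 := pbBased (rfl : 𝒳.p.obj y = T)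
  obtain ⟨F, e, he, hp⟩ := himm T ŷ
  let Φ : AlgSt.ofSp F.obj ⥤ᵇ FibCat.overCat T :=
    BasedFunctor.comp e (FibCat.fpFst ŷ (AlgSt.subIncl 𝒳 Q))
  have hsurj : AlgSp.IsSurjectiveMor (AlgSt.spMapOfOver Φ) := by
    rw [← surjective_map_iff]
    intro z
    obtain ⟨t, rfl⟩ := (bijective_sch T).2 z
    obtain ⟨p, ⟨m⟩, hp⟩ := exists_fpt_ofChart ŷ (Over.mk (𝟙 T)) t
    have h1 : Points.ofChart ŷ t ∈ Set.range (Points.map (AlgSt.subIncl 𝒳 Q)) := by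
      have := hy p ⟨m ≫ pbMap (rfl : 𝒳.p.obj y = T) (Over.mk (𝟙 T))⟩
      rwa [hp] at this
    obtain ⟨x, hx⟩ := h1
    obtain ⟨ω, hω1, -⟩ := exists_points_fp halg.isStack.1 hG hT (AlgSt.subIncl 𝒳 Q) ŷ
      (sch T t) x (by rw [← ofChart_eq]; exact hx.symm)
    obtain ⟨ω', rfl⟩ := (bijective_map_of_isEquivOver e he).2 ω
    exact ⟨ω', by rw [map_comp]; exact hω1⟩
  obtain ⟨hrep, hP⟩ := (AlgSp.repWith_iff @IsOpenImmersion (AlgSt.spMapOfOver Φ)).1 hp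
  obtain ⟨V, snd, fst, sq⟩ := hrep (𝟙 ((AlgSp.yon S).obj T))
  have ho : IsOpenImmersion snd.left := hP (𝟙 _) fst snd sq
  have hs : Surjective snd.left := surjective_of_isSurjectiveMor_yon_map snd
    (good_isSurjectiveMor.bc F.property (AlgSp.IsAlgSpace.yon_obj T) (AlgSp.IsAlgSpace.yon_obj V)
      (AlgSp.IsAlgSpace.yon_obj T) _ _ _ _ sq hsurj)
  have hiso : IsIso snd.left := (isIso_iff_isOpenImmersion_and_surjective _).2 ⟨ho, hs⟩
  have hiso' : IsIso snd := by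
    have : IsIso ((Over.forget S).map snd) := hiso
    exact isIso_of_reflects_iso snd (Over.forget S)
  let s : T ⟶ V := inv snd
  let x : F.obj.obj.obj (op T) := fst.hom.app (op T) ⟨s⟩
  have hx : (AlgSt.spMapOfOver Φ).hom.app (op T) x = ⟨𝟙 T⟩ := by
    have h1 := congrArg (fun φ => φ.hom.app (op T) ⟨s⟩) sq.w
    change (AlgSt.spMapOfOver Φ).hom.app (op T) x = _ at h1
    rw [h1]
    change (⟨s ≫ snd⟩ : ULift (T ⟶ T)) = ⟨𝟙 T⟩
    rw [IsIso.inv_hom_id]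
  let a : (AlgSt.ofSp F.obj).obj := ⟨T, x⟩
  have hsec : AlgSt.secHom Φ a = 𝟙 T := by
    have h2 := AlgSt.spMapOfOver_app Φ T x
    rw [hx] at h2
    exact (congrArg ULift.down h2).symm
  let η := e.obj a
  have hw : (Φ.obj a).left = T := Φ.w_obj a
  let m : Over.mk (𝟙 T) ⟶ Φ.obj a := Over.homMk (eqToHom hw.symm) hsec
  have hpi : IsIso (pbMap (rfl : 𝒳.p.obj y = T) (Over.mk (𝟙 T))) :=
    pbMap_id_isIso (rfl : 𝒳.p.obj y = T)
  exact prop_of_hom hG Q halg.isStack.1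
    (CategoryTheory.inv (pbMap (rfl : 𝒳.p.obj y = T) (Over.mk (𝟙 T))) ≫ ŷ.map m ≫ η.obj.iso.hom)
    η.obj.snd.property

include h𝒳 hQ in
theorem eq_qW_range : Q = QW (Set.range (Points.map (AlgSt.subIncl 𝒳 Q))) := by
  have := hQ.1
  funext y
  exact propext ⟨qW_range_of_prop h𝒳.isStack.1 Q hQ.2.1.isStack.1, prop_of_qW_range h𝒳 hQ⟩

theorem openImm_le_smooth :
    (@IsOpenImmersion : MorphismProperty Scheme.{u}) ≤ @Smooth := fun _ _ _ _ => inferInstance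

theorem smooth_of_isOpenImm {𝒴 : AlgSt.Cat S} (f : 𝒴 ⥤ᵇ 𝒳) (hf : AlgSt.IsOpenImm f) :
    AlgSt.RepByAlgSpWith (AlgSp.LocP @Smooth) f :=
  repByAlgSpWith_mono (fun _ _ _ h => Groth.Agent.Lib.Helper14.AS.locP_of_repWith
    Groth.Agent.Lib.Helper14.AS.etale_le_smooth
    (Groth.Agent.Lib.Helper14.AS.repWith_mono openImm_le_smooth h)) f hf

include h𝒳 hQ in
theorem isOpen_range_of_isOpenSubstack :
    IsOpen (Set.range (Points.map (AlgSt.subIncl 𝒳 Q))) := by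
  have hsm := smooth_of_isOpenImm _ hQ.2.2
  exact (isOpenMap_map_of_repByAlgSpWith hQ.2.1 h𝒳 _
    (repByAlgSpWith_locP_mono Groth.Agent.Lib.Helper24.AlgStDiagLft.smooth_le_flat _ hsm)
    (repByAlgSpWith_locP_mono Groth.Agent.Lib.Helper24.AlgStDiagLft.smooth_le_lfp _ hsm)).isOpen_range

end Main

/-- S12859 -/
theorem openSubstack_bijOn (h𝒳 : AlgSt.IsAlgStack Scheme.fppfPrecoverage 𝒳) :
    Set.BijOn (fun Q : 𝒳.obj → Prop => Set.range (AlgSt.Points.map (AlgSt.subIncl 𝒳 Q)))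
        {Q | AlgSt.IsOpenSubstack 𝒳 Q Scheme.fppfPrecoverage} {T | IsOpen T} ∧
      ∀ (Q Q' : 𝒳.obj → Prop), AlgSt.IsOpenSubstack 𝒳 Q Scheme.fppfPrecoverage →
        AlgSt.IsOpenSubstack 𝒳 Q' Scheme.fppfPrecoverage →
        ((∀ y, Q y → Q' y) ↔ Set.range (AlgSt.Points.map (AlgSt.subIncl 𝒳 Q)) ⊆
          Set.range (AlgSt.Points.map (AlgSt.subIncl 𝒳 Q'))) := by
  refine ⟨⟨fun Q hQ => isOpen_range_of_isOpenSubstack h𝒳 hQ, ?_, ?_⟩, ?_⟩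
  · intro Q hQ Q' hQ' h
    change Set.range (AlgSt.Points.map (AlgSt.subIncl 𝒳 Q)) =
      Set.range (AlgSt.Points.map (AlgSt.subIncl 𝒳 Q')) at h
    rw [eq_qW_range h𝒳 hQ, eq_qW_range h𝒳 hQ', h]
  · intro W hW
    exact ⟨QW W, isOpenSubstack_qW h𝒳 hW, range_map_subIncl_qW W⟩
  · intro Q Q' hQ hQ'
    constructor
    · rintro h _ ⟨z, rfl⟩
      obtain ⟨q, rfl⟩ := Points.mk_surjective z
      exact ⟨Points.mk ⟨q.K, q.str, ⟨q.obj.obj, h _ q.obj.property⟩, q.lies⟩, rfl⟩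
    · intro h y hy
      rw [eq_qW_range h𝒳 hQ'] 
      rw [eq_qW_range h𝒳 hQ] at hy
      exact qW_mono h hy

end Groth.Agent.Lib.Helper24.AlgStOpenSub3
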