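import Groth.Agent.Lib.Helper24.LocSubsheaf
import Groth.Agent.Lib.Helper24.DescSubsheaf
import Groth.Agent.Lib.Helper24.QuotAtlas
import Groth.Prelude.Def_AlgSpRep
set_option autoImplicit false
set_option linter.unusedSectionVars false
universe u
open CategoryTheory CategoryTheory.Limits AlgebraicGeometry Opposite

/-! Geometric input for `LocSubsheaf` on the big fppf site: the Zariski topology is coarser, and
an fppf covering by a union of sieves is Zariski locally refined by one of them. -/

namespace Groth.Agent.Lib.Helper24.ZarFppf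
open AlgSp Groth.Agent.Lib.Helper14.AS Groth.Agent.Lib.Helper24.ZarGlue
open Groth.Agent.Lib.Helper24.LocSubsheaf

variable {S : Scheme.{u}}

/-- the big Zariski topology over `S` -/
abbrev Jz (S : Scheme.{u}) : GrothendieckTopology (Over S) := QuotSh.J Scheme.zariskiPrecoverage S

/-- the Zariski precoverage on `Over S` -/
abbrev KZ (S : Scheme.{u}) : Precoverage (Over S) :=
  (Scheme.zariskiPrecoverage.{u}).comap (Over.forget S)

theorem Jz_eq (S : Scheme.{u}) : Jz S = (KZ S).toGrothendieck :=
  over_toGrothendieck_eq_toGrothendieck_comap_forget _ S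

theorem Jz_le (S : Scheme.{u}) : Jz S ≤ AlgSp.J S := by
  rw [Jz_eq, J_eq_toGrothendieck]
  refine Precoverage.toGrothendieck_mono ?_
  intro T R hR
  rw [Precoverage.mem_comap_iff] at hR ⊢
  exact Scheme.zariskiPrecoverage_le_fppfPrecoverage _ hR

/-- a sieve containing open neighbourhoods of all points is Zariski covering -/
theorem mem_Jz_of_opens {T : Over S} (Z : Sieve T)
    (h : ∀ τ : T.left, ∃ O : T.left.Opens, τ ∈ O ∧ Z (resOpenι T O)) : Z ∈ Jz S T := by
  choose O hO hZ using h
  rw [Jz_eq]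
  have hmem : Presieve.ofArrows (fun τ : T.left => resOpen T (O τ)) (fun τ => resOpenι T (O τ)) ∈
      KZ S T := by
    rw [Precoverage.mem_comap_iff, Presieve.map_ofArrows, Scheme.ofArrows_mem_precoverage_iff]
    refine ⟨fun x => ⟨x, ?_⟩, fun τ => ?_⟩
    · change x ∈ Set.range (O x).ι
      rw [Scheme.Opens.range_ι]
      exact hO x
    · change IsOpenImmersion (O τ).ι
      infer_instance
  refine (KZ S).toGrothendieck.superset_covering ?_ (Precoverage.generate_mem_toGrothendieck hmem)
  rw [Sieve.generate_le_iff]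
  rintro W f ⟨τ⟩
  exact hZ τ

set_option backward.isDefEq.respectTransparency.types false in
/-- an fppf morphism factors as an fppf covering of its open image -/
theorem exists_factor_open {T W : Over S} (w : W ⟶ T) [Flat w.left]
    [LocallyOfFinitePresentation w.left] :
    ∃ (O : T.left.Opens) (w₀ : W ⟶ resOpen T O), w₀ ≫ resOpenι T O = w ∧
      (O : Set T.left) = Set.range w.left ∧
      Sieve.generate (Presieve.singleton w₀) ∈ AlgSp.J S (resOpen T O) := by
  have hopen : IsOpen (Set.range w.left) := w.left.isOpenMap.isOpen_range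
  let O : T.left.Opens := ⟨Set.range w.left, hopen⟩
  have hsub : Set.range w.left ⊆ Set.range O.ι := by
    rw [Scheme.Opens.range_ι]
    exact subset_rfl
  let w₀l : W.left ⟶ O.toScheme := IsOpenImmersion.lift O.ι w.left hsub
  have hw₀l : w₀l ≫ O.ι = w.left := IsOpenImmersion.lift_fac _ _ _
  let w₀ : W ⟶ resOpen T O := Over.homMk w₀l (by
    change w₀l ≫ O.ι ≫ T.hom = W.hom
    rw [← Category.assoc, hw₀l]; exact Over.w w)
  have hw₀ : w₀ ≫ resOpenι T O = w := by
    ext
    exact hw₀l
  have hflat : Flat w₀.left := by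
    have h1 : Flat (w₀l ≫ O.ι) := by rw [hw₀l]; infer_instance
    exact MorphismProperty.of_postcomp (W := @Flat) (W' := @IsOpenImmersion) w₀l O.ι
      inferInstance h1
  have hlfp : LocallyOfFinitePresentation w₀.left := by
    have h1 : LocallyOfFinitePresentation (w₀l ≫ O.ι) := by rw [hw₀l]; infer_instance
    exact MorphismProperty.of_postcomp (W := @LocallyOfFinitePresentation)
      (W' := @IsOpenImmersion) w₀l O.ι inferInstance h1
  have hsurj : Surjective w₀.left := by
    refine ⟨fun x => ?_⟩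
    obtain ⟨y, hy⟩ : (O.ι x) ∈ Set.range w.left := x.2
    refine ⟨y, ?_⟩
    apply O.ι.injective
    rw [← hy, ← hw₀l]
    rfl
  refine ⟨O, w₀, hw₀, rfl, ?_⟩
  rw [J_eq_toGrothendieck]
  exact Precoverage.generate_mem_toGrothendieck (singleton_mem_KS w₀)

/-- the geometric input -/
theorem geo {ι : Type*} {T : Over S} (Ri : ι → Sieve T) (h : unionSieve Ri ∈ AlgSp.J S T) :
    locSieve (AlgSp.J S) Ri ∈ Jz S T := by
  obtain ⟨R', hR', hle⟩ := (mem_J_iff _).1 h
  refine mem_Jz_of_opens _ fun τ => ?_
  obtain ⟨W, w, hw, hτ⟩ := Groth.Agent.Lib.Helper24.DescSubsheaf.exists_mem_range_of_mem_KS R' hR' τ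
  obtain ⟨hwF, hwL⟩ := Groth.Agent.Lib.Helper24.QuotAtlas.prop_of_mem_KS R' hR' w hw
  obtain ⟨i, hi⟩ := hle _ _ hw
  obtain ⟨O, w₀, hw₀, hO, hcov⟩ := exists_factor_open w
  refine ⟨O, ?_, i, ?_⟩
  · change τ ∈ (O : Set T.left)
    rw [hO]; exact hτ
  · refine (AlgSp.J S).superset_covering ?_ hcov
    rw [Sieve.generate_le_iff]
    rintro W' f ⟨⟩
    change Ri i (w₀ ≫ resOpenι T O)
    rw [hw₀]
    exact hi

/-- membership in a subpresheaf whose inclusion is representable by algebraic spaces descends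
along fppf coverings -/
theorem desc_of_repBySp {F Fi : PSp S} (m : Fi ⟶ F) (hinj : ∀ T, Function.Injective (m.app T))
    (hb : RepBySp m) {T : Over S} (x : F.obj (op T)) (R : Sieve T) (hR : R ∈ AlgSp.J S T)
    (h : ∀ ⦃W : Over S⦄ (c : W ⟶ T), R c → F.map c.op x ∈ Set.range (m.app (op W))) :
    x ∈ Set.range (m.app (op T)) := by
  let ξ : (pyon S).obj T ⟶ F := uliftYonedaEquiv.symm x
  have hξ : ∀ {W : Over S} (c : W ⟶ T), ξ.app (op W) ⟨c⟩ = F.map c.op x := fun c => by
    simp [ξ]
  let P : PSp S := pullback m ξ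
  have sqP : IsPullback (pullback.fst m ξ) (pullback.snd m ξ) m ξ := IsPullback.of_hasPullback _ _
  obtain ⟨hP, -⟩ := hb ξ _ _ sqP
  have hPs : Presieve.IsSheaf (AlgSp.J S) P := (isSheaf_iff_isSheaf_of_type _ _).1 hP
  have hel : ∀ ⦃W : Over S⦄ (c : W ⟶ T) (hc : R c), ∃ p : P.obj (op W),
      (pullback.snd m ξ).app (op W) p = ⟨c⟩ := by
    intro W c hc
    obtain ⟨a, ha⟩ := h c hc
    obtain ⟨p, -, hp⟩ := Types.exists_of_isPullback (sqP.app (op W)) a ⟨c⟩ (by rw [ha, hξ])
    exact ⟨p, hp⟩
  choose pf hpf using hel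
  let pE : Presieve.FamilyOfElements P R.arrows := fun W c hc => pf c hc
  have hcompat : pE.Compatible := by
    refine (Presieve.compatible_iff_sieveCompatible pE).2 ?_
    intro W W' c g hc
    change pf (g ≫ c) _ = P.map g.op (pf c hc)
    have h2 : (pullback.snd m ξ).app (op W') (pf (g ≫ c) (R.downward_closed hc g)) =
        (pullback.snd m ξ).app (op W') (P.map g.op (pf c hc)) := by
      rw [hpf, NatTrans.naturality_apply, hpf]
      rfl
    refine Types.ext_of_isPullback (sqP.app (op W')) ?_ h2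
    apply hinj
    have e1 := congrFun (congrArg (fun f => (ConcreteCategory.hom f : _ → _)) (sqP.app (op W')).w)
      (pf (g ≫ c) (R.downward_closed hc g))
    have e2 := congrFun (congrArg (fun f => (ConcreteCategory.hom f : _ → _)) (sqP.app (op W')).w)
      (P.map g.op (pf c hc))
    simp only [CategoryTheory.comp_apply] at e1 e2
    rw [e1, e2, h2]
  let p := (hPs R hR).amalgamate pE hcompat
  have hp : ∀ ⦃W : Over S⦄ (c : W ⟶ T) (hc : R c), P.map c.op p = pf c hc :=
    fun W c hc => (hPs R hR).valid_glue hcompat c hc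
  have hsnd : (pullback.snd m ξ).app (op T) p = ⟨𝟙 T⟩ := by
    have hsep := ((isSheaf_iff_isSheaf_of_type _ _).1 ((yon S).obj T).property).isSeparated
    refine (hsep R hR).ext ?_
    intro W c hc
    change ((pyon S).obj T).map c.op _ = ((pyon S).obj T).map c.op _
    rw [← NatTrans.naturality_apply, hp c hc, hpf]
    apply ULift.ext
    change c = c ≫ 𝟙 T
    rw [Category.comp_id]
  refine ⟨(pullback.fst m ξ).app (op T) p, ?_⟩
  have e1 := congrFun (congrArg (fun f => (ConcreteCategory.hom f : _ → _)) (sqP.app (op T)).w) p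
  simp only [CategoryTheory.comp_apply] at e1
  rw [e1, hsnd, hξ, op_id, Functor.map_id_apply]

end Groth.Agent.Lib.Helper24.ZarFppf
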