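import Groth.Agent.Lib.Helper24.AlgStFaithRep
import Groth.Agent.Lib.Helper24.FibCatInertiaEquiv
import Groth.Agent.Lib.Helper24.AlgStOpenSub3
import Groth.Agent.Lib.Helper24.ZarFppf
import Groth.Agent.Lib.Helper24.StkLocal
set_option autoImplicit false
open CategoryTheory AlgebraicGeometry Opposite
universe w u
set_option backward.isDefEq.respectTransparency false
set_option backward.isDefEq.respectTransparency.types false

/-! An algebraic stack covered by open substacks which are algebraic spaces is an algebraic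
space. -/

namespace Groth.Agent.Lib.Helper24.AlgStOpenCover
open Groth.Agent.Lib.Helper24.FibCatFpGen Groth.Agent.Lib.Helper24.FibGrpd
open Groth.Agent.Lib.Helper24.FibCatYoneda
open Groth.Agent.Lib.Helper24.AlgStPts1 Groth.Agent.Lib.Helper24.AlgStPts4
open Groth.Agent.Lib.Helper24.AlgStOpenSub2 Groth.Agent.Lib.Helper24.AlgStOpenSub3
open Groth.Agent.Lib.Helper24.ZarGlue Groth.Agent.Lib.Helper24.ZarFppf
open CategoryTheory.Limits AlgSt

variable {S : Scheme.{u}} {𝒳 : AlgSt.Cat S}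

theorem isFibSetoid_of_open_cover (h𝒳 : AlgSt.IsAlgStack Scheme.fppfPrecoverage 𝒳) {ι : Type w}
    (Q : ι → 𝒳.obj → Prop)
    (hQ : ∀ i, AlgSt.IsOpenSubstack 𝒳 (Q i) Scheme.fppfPrecoverage)
    (hcov : ⋃ i, Set.range (AlgSt.Points.map (AlgSt.subIncl 𝒳 (Q i))) = Set.univ)
    (hsp : ∀ i, FibCat.IsFibSetoid (AlgSt.fullSub 𝒳 (Q i)).p) : FibCat.IsFibSetoid 𝒳.p := by
  have hX := h𝒳.isStack.1
  apply FibCatInertia.isFibSetoid_of_isEquivOver_inertiaToBase hX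
  rw [FibCatInertiaEquiv.isEquivOver_inertiaToBase_iff]
  intro x
  have : 𝒳.p.IsFibered := isFibered_of_isFibGrpd 𝒳.p hX
  obtain ⟨a, α, hα⟩ := x
  change α.hom = 𝟙 a
  obtain ⟨T, hT⟩ : ∃ T, 𝒳.p.obj a = T := ⟨_, rfl⟩
  have hαl : 𝒳.p.IsHomLift (𝟙 T) α.hom := by
    have := FibCatInertia.aut_isHomLift (FibCat.toSelf 𝒳) ⟨a, α, hα⟩
    rw [← hT]; exact this
  have hid : 𝒳.p.IsHomLift (𝟙 T) (𝟙 a) := IsHomLift.id hT
  let y := pbBased hT
  -- the sieve of arrows along which `a` lands in some open substack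
  let R : Sieve T :=
    { arrows := fun V h => ∃ (i : ι) (s : 𝒳.obj) (ψ : s ⟶ a), 𝒳.p.IsHomLift h ψ ∧ Q i s
      downward_closed := by
        rintro V V' h ⟨i, s, ψ, hψ, hs⟩ g
        have hsV : 𝒳.p.obj s = V := IsHomLift.domain_eq 𝒳.p h ψ
        have hcl := (hQ i).1
        have hl : 𝒳.p.IsHomLift g (pbMap hsV (Over.mk g)) :=
          (pbMap_isStronglyCartesian hsV (Over.mk g)).toIsHomLift
        refine ⟨i, pbObj hsV (Over.mk g), pbMap hsV (Over.mk g) ≫ ψ, inferInstance, ?_⟩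
        exact prop_of_hom hX (Q i) (hQ i).2.1.isStack.1 (pbMap hsV (Over.mk g)) hs }
  have hR : R ∈ AlgSp.J S T := by
    apply Jz_le S
    apply mem_Jz_of_opens
    intro τ
    have hmem : Points.ofChart y τ ∈ ⋃ i, Set.range (AlgSt.Points.map (AlgSt.subIncl 𝒳 (Q i))) := by
      rw [hcov]; trivial
    obtain ⟨i, hi⟩ := Set.mem_iUnion.1 hmem
    have hW : IsOpen (Set.range (AlgSt.Points.map (AlgSt.subIncl 𝒳 (Q i)))) :=
      isOpen_range_of_isOpenSubstack h𝒳 (hQ i)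
    refine ⟨chartOpen h𝒳 hW y, hi, ?_⟩
    let c : (FibCat.overCat (chartV h𝒳 hW y)).obj := Over.mk (𝟙 (chartV h𝒳 hW y))
    have hq := qW_chart h𝒳 hW y c
    have hq' : Q i (y.obj ((AlgSt.overMap (chartι h𝒳 hW y)).obj c)) := prop_of_qW_range h𝒳 (hQ i) hq
    refine ⟨i, pbObj hT ((AlgSt.overMap (chartι h𝒳 hW y)).obj c),
      pbMap hT ((AlgSt.overMap (chartι h𝒳 hW y)).obj c), ?_, hq'⟩
    have := (pbMap_isStronglyCartesian hT ((AlgSt.overMap (chartι h𝒳 hW y)).obj c)).toIsHomLift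
    have e : ((AlgSt.overMap (chartι h𝒳 hW y)).obj c).hom = resOpenι T (chartOpen h𝒳 hW y) := by
      change 𝟙 _ ≫ chartι h𝒳 hW y = _
      rw [Category.id_comp]; rfl
    rw [← e]
    exact this
  have hfaith : (Stk.resSieve R 𝒳).Faithful := by
    have : (Stk.resSieve R 𝒳).IsEquivalence := h𝒳.isStack.2 _ hR
    infer_instance
  refine Groth.Agent.Lib.Helper24.StkLocal.hom_ext_of_locally_eq hX R hfaith α.hom (𝟙 a) hαl hid ?_
  rintro V h ⟨i, s, ψ, hψ, hs⟩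
  refine ⟨s, ψ, hψ, ?_⟩
  have hsV : 𝒳.p.obj s = V := IsHomLift.domain_eq 𝒳.p h ψ
  have hsc : 𝒳.p.IsStronglyCartesian h ψ := scart_of_isFibGrpd 𝒳.p hX _ _
  have hl : 𝒳.p.IsHomLift h (ψ ≫ α.hom) := by
    have : 𝒳.p.IsHomLift (h ≫ 𝟙 T) (ψ ≫ α.hom) := inferInstance
    rwa [Category.comp_id] at this
  obtain ⟨us, ⟨husl, hus⟩, -⟩ := Functor.IsStronglyCartesian.universal_property 𝒳.p h ψ
    (𝟙 V) h (Category.id_comp _).symm (ψ ≫ α.hom)
  have husl' : 𝒳.p.IsHomLift (𝟙 V) us := husl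
  let z : (AlgSt.fullSub 𝒳 (Q i)).obj := ⟨s, hs⟩
  let m : z ⟶ z := ObjectProperty.homMk us
  have hm : (AlgSt.fullSub 𝒳 (Q i)).p.IsHomLift (𝟙 V) m :=
    (Groth.Agent.Lib.Helper24.StkSub.isHomLift_sub_iff (Q i) _ m).2 husl'
  have hidz : (AlgSt.fullSub 𝒳 (Q i)).p.IsHomLift (𝟙 V) (𝟙 z) := IsHomLift.id hsV
  have hmid : m = 𝟙 z :=
    Groth.Agent.Lib.Helper24.FibSetoid.hom_ext_of_isFibSetoid _ (hsp i) (𝟙 V) m (𝟙 z)
  have hus1 : us = 𝟙 s := congrArg (fun t => t.hom) hmid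
  rw [← hus, hus1, Category.id_comp, Category.comp_id]

/-- S12863 -/
theorem repByAlgSp_of_open_cover (h𝒳 : AlgSt.IsAlgStack Scheme.fppfPrecoverage 𝒳) {ι : Type w}
    (Q : ι → 𝒳.obj → Prop)
    (hQ : ∀ i, AlgSt.IsOpenSubstack 𝒳 (Q i) Scheme.fppfPrecoverage)
    (hcov : ⋃ i, Set.range (AlgSt.Points.map (AlgSt.subIncl 𝒳 (Q i))) = Set.univ)
    (hsp : ∀ i, AlgSt.RepByAlgSp (AlgSt.fullSub 𝒳 (Q i))) : AlgSt.RepByAlgSp 𝒳 :=
  AlgStFaithRep.repByAlgSp_of_isAlgStack_of_isFibSetoid h𝒳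
    (isFibSetoid_of_open_cover h𝒳 Q hQ hcov
      (fun i => AlgStSetoid.isFibSetoid_of_repByAlgSp (hsp i)))

end Groth.Agent.Lib.Helper24.AlgStOpenCover
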