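import Groth.Agent.Lib.Helper24.AlgStOpenCover
import Groth.Agent.Lib.Helper24.ZarGlue
import Groth.Agent.Lib.Helper24.FibCatOverMap
import Groth.Agent.Lib.Helper24.AlgStSmLoc
import Groth.Agent.Lib.Helper24.FibCatEquiv3
import Groth.Agent.Lib.Helper24.AlgStPts5
set_option autoImplicit false
open CategoryTheory AlgebraicGeometry Opposite
universe w u
set_option backward.isDefEq.respectTransparency false
set_option backward.isDefEq.respectTransparency.types false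

/-! An algebraic stack covered by open substacks which are schemes is a scheme. -/

namespace Groth.Agent.Lib.Helper24.AlgStOpenCoverSch
open Groth.Agent.Lib.Helper24.FibCatFpGen Groth.Agent.Lib.Helper24.FibGrpd
open Groth.Agent.Lib.Helper24.FibCatYoneda Groth.Agent.Lib.Helper24.FibCatEquiv
open Groth.Agent.Lib.Helper24.AlgStPts1 Groth.Agent.Lib.Helper24.AlgStPts4
open Groth.Agent.Lib.Helper24.AlgStPts5
open Groth.Agent.Lib.Helper24.AlgStOpenSub2 Groth.Agent.Lib.Helper24.AlgStOpenSub3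
open Groth.Agent.Lib.Helper24.ZarGlue Groth.Agent.Lib.Helper24.ZarFppf
open Groth.Agent.Lib.Helper24.AlgStRepS Groth.Agent.Lib.Helper24.AlgStRep
open Groth.Agent.Lib.Helper24.AlgStBridge Groth.Agent.Lib.Helper24.PshBridge
open Groth.Agent.Lib.Helper24.AlgStSmLoc Groth.Agent.Lib.Helper24.AlgStFpAlg
open Groth.Agent.Lib.Helper24.AlgStCalc Groth.Agent.Lib.Helper24.FibCatOverMap
open Groth.Agent.Lib.Helper24.AlgStProps Groth.Agent.Lib.Helper24.AlgStSchLocal
open Groth.Agent.Lib.Helper24.AlgStOpenCover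
open CategoryTheory.Limits AlgSt

variable {S : Scheme.{u}} {𝒳 : AlgSt.Cat S}

section fOf
variable {F : AlgSp.Space S} (e' : 𝒳 ⥤ᵇ AlgSt.ofSp F.obj)

/-- the map of sheaves attached to a chart, through a quasi-inverse of a presentation -/
def fOf {U : Over S} (x : FibCat.overCat U ⥤ᵇ 𝒳) : (AlgSp.yon S).obj U ⟶ F.obj :=
  spMapOf (BasedFunctor.comp (AlgSt.toOverCat U) (BasedFunctor.comp x e'))

lemma fOf_congr {U : Over S} {x x' : FibCat.overCat U ⥤ᵇ 𝒳} (i : x ≅ x') :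
    fOf e' x = fOf e' x' :=
  spMapOf_congr (whiskerLeftIso _ (whiskerRightIso i e'))

lemma fOf_overMap {V U : Over S} (l : V ⟶ U) (x : FibCat.overCat U ⥤ᵇ 𝒳) :
    fOf e' (BasedFunctor.comp (AlgSt.overMap l) x) = (AlgSp.yon S).map l ≫ fOf e' x := by
  unfold fOf
  rw [← spMapOf_ofSpMap ((AlgSp.yon S).map l), ← spMapOf_comp]
  rfl

lemma fOf_repWith (he' : FibCat.IsEquivOver e') {U : Over S} (x : FibCat.overCat U ⥤ᵇ 𝒳)
    (hx : AlgSt.IsOpenImm x) : AlgSp.RepWith @IsOpenImmersion (fOf e' x) := by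
  apply P_spMapOf_of_repByAlgSpWith' _ (nice_repWith (S := S) @IsOpenImmersion)
    (F := ⟨(AlgSp.yon S).obj U, AlgSp.IsAlgSpace.yon_obj U⟩) (G := F)
  exact (repByAlgSpWith_equiv_comp _ (AlgSt.toOverCat U) _ (isEquivOver_toOverCat U)).2
    (repByAlgSpWith_comp_equiv _ x e' he' hx)

lemma fOf_chart (e : AlgSt.ofSp F.obj ⥤ᵇ 𝒳) (α : BasedFunctor.comp e e' ≅ BasedFunctor.id _)
    {T : Over S} (t : (AlgSp.yon S).obj T ⟶ F.obj) :
    fOf e' (BasedFunctor.comp (AlgSt.ofOverCat T) (BasedFunctor.comp (AlgSt.ofSpMap t) e)) = t := by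
  unfold fOf
  rw [← spMapOf_ofSpMap t]
  apply spMapOf_congr
  rw [spMapOf_ofSpMap t]
  exact whiskerLeftIso (AlgSt.ofSpMap t) α

end fOf

/-- S12864 -/
theorem isRepresentable_of_open_cover (h𝒳 : AlgSt.IsAlgStack Scheme.fppfPrecoverage 𝒳) {ι : Type w}
    (Q : ι → 𝒳.obj → Prop)
    (hQ : ∀ i, AlgSt.IsOpenSubstack 𝒳 (Q i) Scheme.fppfPrecoverage)
    (hcov : ⋃ i, Set.range (AlgSt.Points.map (AlgSt.subIncl 𝒳 (Q i))) = Set.univ)
    (hsch : ∀ i, FibCat.IsRepresentable (AlgSt.fullSub 𝒳 (Q i))) : FibCat.IsRepresentable 𝒳 := by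
  have hX := h𝒳.isStack.1
  have hsp : ∀ i, AlgSt.RepByAlgSp (AlgSt.fullSub 𝒳 (Q i)) := fun i => by
    obtain ⟨U, G, hG⟩ := hsch i
    exact (repByAlgSp_iff_of_isEquivOver G hG).2 (repByAlgSp_overCat U)
  obtain ⟨F, e, e', ⟨α⟩, ⟨β⟩⟩ := repByAlgSp_of_open_cover h𝒳 Q hQ hcov hsp
  have he' : FibCat.IsEquivOver e' := ⟨e, ⟨β⟩, ⟨α⟩⟩
  choose U G hG using hsch
  choose H hH using fun i => hG i
  have γ : ∀ i, BasedFunctor.comp (G i) (H i) ≅ BasedFunctor.id _ := fun i => (hH i).1.some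
  have hHe : ∀ i, FibCat.IsEquivOver (H i) := fun i => ⟨G i, (hH i).2, (hH i).1⟩
  let x : ∀ i, FibCat.overCat (U i) ⥤ᵇ 𝒳 := fun i =>
    BasedFunctor.comp (H i) (AlgSt.subIncl 𝒳 (Q i))
  have hx : ∀ i, AlgSt.IsOpenImm (x i) := fun i =>
    (repByAlgSpWith_equiv_comp _ (H i) (AlgSt.subIncl 𝒳 (Q i)) (hHe i)).2 (hQ i).2.2
  -- reindex by the points of an atlas
  obtain ⟨A, xA, -, hxA⟩ := h𝒳.atlas
  have hsurjA := surjective_ofChart hX xA hxA
  have hidx : ∀ a : ↥A.left, ∃ i, Points.ofChart xA a ∈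
      Set.range (AlgSt.Points.map (AlgSt.subIncl 𝒳 (Q i))) := fun a => by
    have : Points.ofChart xA a ∈ ⋃ i, Set.range (AlgSt.Points.map (AlgSt.subIncl 𝒳 (Q i))) := by
      rw [hcov]; trivial
    exact Set.mem_iUnion.1 this
  choose idx hidx' using hidx
  obtain ⟨V, φ, -, -, -, -⟩ := exists_iso_yon_of_open_cover (E := F.obj) (ι := ↥A.left)
    (X := fun a => U (idx a)) (f := fun a => fOf e' (x (idx a)))
    (fun a => fOf_repWith e' he' _ (hx (idx a))) (by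
    intro T t pt
    let y : FibCat.overCat T ⥤ᵇ 𝒳 :=
      BasedFunctor.comp (AlgSt.ofOverCat T) (BasedFunctor.comp (AlgSt.ofSpMap t) e)
    obtain ⟨a, ha⟩ := hsurjA (Points.ofChart y pt)
    have hW : IsOpen (Set.range (AlgSt.Points.map (AlgSt.subIncl 𝒳 (Q (idx a))))) :=
      isOpen_range_of_isOpenSubstack h𝒳 (hQ (idx a))
    have hpt : pt ∈ chartOpen h𝒳 hW y := by
      change Points.ofChart y pt ∈ Set.range (AlgSt.Points.map (AlgSt.subIncl 𝒳 (Q (idx a))))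
      rw [← ha]; exact hidx' a
    refine ⟨a, chartOpen h𝒳 hW y, hpt, ?_⟩
    have hq : ∀ c : (FibCat.overCat (chartV h𝒳 hW y)).obj,
        Q (idx a) ((BasedFunctor.comp (AlgSt.overMap (chartι h𝒳 hW y)) y).obj c) := fun c =>
      prop_of_qW_range h𝒳 (hQ (idx a)) (qW_chart h𝒳 hW y c)
    let c' : FibCat.overCat (chartV h𝒳 hW y) ⥤ᵇ AlgSt.fullSub 𝒳 (Q (idx a)) :=
      { toFunctor := ObjectProperty.lift (Q (idx a))
          (BasedFunctor.comp (AlgSt.overMap (chartι h𝒳 hW y)) y).toFunctor hq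
        w := (BasedFunctor.comp (AlgSt.overMap (chartι h𝒳 hW y)) y).w }
    obtain ⟨l, ⟨κ⟩⟩ := exists_iso_overMapC (BasedFunctor.comp c' (G (idx a)))
    refine ⟨l, ?_⟩
    have i1 : BasedFunctor.comp (AlgSt.overMap l) (x (idx a)) ≅
        BasedFunctor.comp (BasedFunctor.comp c' (G (idx a))) (x (idx a)) :=
      whiskerRightIso κ.symm (x (idx a))
    have i2 : BasedFunctor.comp (BasedFunctor.comp c' (G (idx a))) (x (idx a)) ≅
        BasedFunctor.comp (AlgSt.overMap (chartι h𝒳 hW y)) y :=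
      whiskerLeftIso c' (whiskerRightIso (γ (idx a)) (AlgSt.subIncl 𝒳 (Q (idx a))))
    have key := fOf_congr e' (i1 ≪≫ i2)
    rw [fOf_overMap, fOf_overMap, fOf_chart e' e α] at key
    exact key)
  have : IsIso φ.inv.hom := by
    have : IsIso ((sheafToPresheaf (AlgSp.J S) (Type (u + 1))).map φ.inv) := inferInstance
    exact this
  have h2 : FibCat.IsEquivOver (AlgSt.ofSpMap φ.inv) := isEquivOver_ofPshMap_of_isIso _
  exact ⟨V, BasedFunctor.comp e' (BasedFunctor.comp (AlgSt.ofSpMap φ.inv) (AlgSt.toOverCat V)),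
    isEquivOver_comp _ _ he' (isEquivOver_comp _ _ h2 (isEquivOver_toOverCat V))⟩

end Groth.Agent.Lib.Helper24.AlgStOpenCoverSch
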