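import Groth.Agent.Lib.Helper24.AlgStPts7
import Groth.Agent.Lib.Helper26.StackPoints
set_option autoImplicit false
open CategoryTheory AlgebraicGeometry Opposite
universe w₁ v₁ w₂ v₂ w₃ v₃ w₄ v₄ u
set_option backward.isDefEq.respectTransparency false
set_option backward.isDefEq.respectTransparency.types false

/-! Points of objects: a field-valued point mapping to the value of a chart is a chart point. -/

namespace Groth.Agent.Lib.Helper24.AlgStOpenSub1
open Groth.Agent.Lib.Helper24.FibCatFpMap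
open Groth.Agent.Lib.Helper24.FibCatEquiv Groth.Agent.Lib.Helper24.FibCatFpGen
open Groth.Agent.Lib.Helper24.AlgStPts1 Groth.Agent.Lib.Helper24.AlgStPts3
open Groth.Agent.Lib.Helper26.StackPoints
open CategoryTheory.Limits AlgSt

variable {S : Scheme.{u}} {𝒳 : AlgSt.Cat S}

/-- a field-valued point with a morphism to the value `y(a)` of a chart is the chart point of a
point in the image of `a` -/
theorem mk_eq_ofChart (h𝒳 : FibCat.IsFibGrpd 𝒳.p) {U : Over S} (y : FibCat.overCat U ⥤ᵇ 𝒳)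
    (a : (FibCat.overCat U).obj) (p : FPt 𝒳) (m : p.obj ⟶ y.obj a) :
    ∃ t : ↥a.left.left, Points.mk p = Points.ofChart y (a.hom.left t) := by
  have : FibCat.IsFibGrpd 𝒳.p := h𝒳
  -- the base morphism of `m`
  let g : (Over.mk p.str : Over S) ⟶ a.left := eqToHom p.lies.symm ≫ 𝒳.p.map m ≫ eqToHom (y.w_obj a)
  have hm : 𝒳.p.IsHomLift g m := IsHomLift.of_fac _ _ _ p.lies (y.w_obj a) rfl
  -- the object of `(Sch/U)` over `Spec K`
  let aK : (FibCat.overCat U).obj := Over.mk (g ≫ a.hom)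
  let mK : aK ⟶ a := Over.homMk g rfl
  have hmK : 𝒳.p.IsHomLift g (y.map mK) := by
    have : (FibCat.overCat U).p.IsHomLift g mK := IsHomLift.of_fac _ _ _ rfl rfl (by
      rw [eqToHom_refl, eqToHom_refl, Category.id_comp, Category.comp_id]; rfl)
    infer_instance
  have hc := isStronglyCartesian_of_isHomLift 𝒳.p g (y.map mK)
  let χ : p.obj ⟶ y.obj aK :=
    Functor.IsStronglyCartesian.map 𝒳.p g (y.map mK) (g := 𝟙 _) (f' := g) (by simp) m
  -- the point of `(Sch/U)`
  let pa : FPt (FibCat.overCat U) := ⟨p.K, p.str, aK, rfl⟩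
  have h1 : Points.mk p = Points.map y (Points.mk pa) :=
    Points.sound ⟨p, 𝟙 _, χ, trivial⟩
  -- the tautological point of `(Sch/Spec K)`
  let XK : Over S := Over.mk p.str
  let q0 : FPt (FibCat.overCat XK) := ⟨p.K, p.str, Over.mk (𝟙 XK), rfl⟩
  obtain ⟨t₀, ht₀⟩ := (bijective_sch XK).2 (Points.mk q0)
  have h2 : Points.mk pa = Points.map (AlgSt.overMap (g ≫ a.hom)) (Points.mk q0) :=
    Points.sound ⟨pa, 𝟙 _, (Over.isoMk (Iso.refl _) (by
      change 𝟙 _ ≫ (𝟙 XK ≫ (g ≫ a.hom)) = g ≫ a.hom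
      simp) :
      aK ≅ (AlgSt.overMap (g ≫ a.hom)).obj q0.obj).hom, trivial⟩
  refine ⟨g.left t₀, ?_⟩
  rw [h1, h2, ← ht₀, sch_overMap, ofChart_eq]
  rfl

end Groth.Agent.Lib.Helper24.AlgStOpenSub1
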