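import Groth.Agent.Lib.Helper24.AlgStFpAlg
import Groth.Agent.Lib.Helper24.AlgStStack
import Groth.Agent.Lib.Helper24.AlgStSepDiag
import Groth.Agent.Lib.Helper24.AlgStAtlas
set_option autoImplicit false
open CategoryTheory AlgebraicGeometry Opposite
universe w₁ v₁ w₂ v₂ w₃ v₃ w₄ v₄ u
set_option backward.isDefEq.respectTransparency false
set_option backward.isDefEq.respectTransparency.types false

/-! The source of a morphism representable by algebraic spaces to an algebraic stack is an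
algebraic stack (S12768). -/

namespace Groth.Agent.Lib.Helper24.AlgStRepAlg
open Groth.Agent.Lib.Helper24.FibCatFpMap
open Groth.Agent.Lib.Helper24.FibCatEquiv Groth.Agent.Lib.Helper24.FibCatFpGen
open Groth.Agent.Lib.Helper24.AlgStRep Groth.Agent.Lib.Helper24.AlgStRepS
open Groth.Agent.Lib.Helper24.AlgStBridge Groth.Agent.Lib.Helper24.AlgStBoot
open Groth.Agent.Lib.Helper24.AlgStEqv Groth.Agent.Lib.Helper24.AlgStDiagBC
open Groth.Agent.Lib.Helper24.AlgStSchLocal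
open Groth.Agent.Lib.Helper24.AlgStGC Groth.Agent.Lib.Helper24.AlgStLC
open Groth.Agent.Lib.Helper24.AlgStProps Groth.Agent.Lib.Helper24.AlgStSmooth
open Groth.Agent.Lib.Helper24.AlgStDiag Groth.Agent.Lib.Helper24.AlgStCalc
open Groth.Agent.Lib.Helper24.AlgStFpAlg Groth.Agent.Lib.Helper24.AlgStAtlas
open Groth.Agent.Lib.Helper24.StkFp
open CategoryTheory.Limits AlgSt

variable {S : Scheme.{u}}

lemma EqvOver.repByAlgSp {𝒜 𝒜' ℬ : AlgSt.Cat S} {π : 𝒜 ⥤ᵇ ℬ} {π' : 𝒜' ⥤ᵇ ℬ}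
    (h : EqvOver π π') : AlgSt.RepByAlgSp 𝒜 ↔ AlgSt.RepByAlgSp 𝒜' := by
  obtain ⟨k, hk, -⟩ := h
  exact repByAlgSp_iff_of_isEquivOver k hk

section
variable {𝒳 𝒴 : AlgSt.Cat S} (h𝒳 : FibCat.IsFibGrpd 𝒳.p) (h𝒴 : FibCat.IsFibGrpd 𝒴.p)
  (hΔ : AlgSt.RepByAlgSp1 (FibCat.diag (FibCat.toSelf 𝒴))) (j : 𝒳 ⥤ᵇ 𝒴)
  (hj : AlgSt.RepByAlgSp1 j)

include h𝒳 h𝒴 hΔ hj in
/-- the diagonal of the source of a representable morphism is representable -/
theorem repByAlgSp1_diag_of_rep : AlgSt.RepByAlgSp1 (FibCat.diag (FibCat.toSelf 𝒳)) := by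
  rw [repByAlgSp1_diag_iff h𝒳]
  intro U x T t
  have hT : FibCat.IsFibGrpd (FibCat.overCat T).p := StkFpCrit.isFibGrpd_overForget T
  have hU : FibCat.IsFibGrpd (FibCat.overCat U).p := StkFpCrit.isFibGrpd_overForget U
  -- `E = 𝒳 ×_𝒴 T`
  let tj := BasedFunctor.comp t j
  have hE : AlgSt.RepByAlgSp (FibCat.fp j tj) :=
    repByAlgSp_fp' h𝒳 h𝒴 hT j tj hj (repByAlgSp_overCat T)
  have hEfib : FibCat.IsFibGrpd (FibCat.fp j tj).p := isFibGrpd_fp j tj h𝒳 hT h𝒴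
  have hEalg := isAlgStack_of_repByAlgSp hE
  let π := FibCat.fpFst j tj
  let σ : FibCat.overCat T ⥤ᵇ FibCat.fp j tj :=
    FibCat.fpLift t (BasedFunctor.id _) (Iso.refl _)
  have i₁ : BasedFunctor.comp σ π ≅ t := Iso.refl _
  -- `E ×_𝒳 U` is an algebraic space
  have hC : AlgSt.RepByAlgSp (FibCat.fp π x) := by
    have e1 : EqvOver (FibCat.fpFst π x) (FibCat.fpSnd x π) := eqvOver_swap π x
    have e2 : EqvOver (FibCat.fpFst x π) (FibCat.fpFst (BasedFunctor.comp x j) tj) :=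
      eqvOver_P tj j x
    rw [EqvOver.repByAlgSp e1, EqvOver.repByAlgSp e2]
    exact repByAlgSp1_of_diag h𝒴 hΔ hU hT (repByAlgSp_overCat U) (repByAlgSp_overCat T) _ _
  have hCfib : FibCat.IsFibGrpd (FibCat.fp π x).p := isFibGrpd_fp π x hEfib hU h𝒳
  have hB : AlgSt.RepByAlgSp (FibCat.fp σ (FibCat.fpFst π x)) :=
    repByAlgSp1_of_diag hEfib hEalg.diag hT hCfib (repByAlgSp_overCat T) hC _ _
  have e3 : EqvOver (FibCat.fpFst σ (FibCat.fpFst π x)) (FibCat.fpFst (BasedFunctor.comp σ π) x) :=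
    eqvOver_P x π σ
  have e4 : EqvOver (FibCat.fpFst (BasedFunctor.comp σ π) x) (FibCat.fpFst t x) :=
    eqvOver_fpFst_congr_left i₁.symm x
  rw [← EqvOver.repByAlgSp e4, ← EqvOver.repByAlgSp e3]
  exact hB

include h𝒳 h𝒴 hj in
theorem hasAtlas_of_rep (hA : AlgSt.HasAtlas (AlgSp.LocP @Smooth) 𝒴) :
    AlgSt.HasAtlas (AlgSp.LocP @Smooth) 𝒳 := by
  obtain ⟨V, v, hv, hv'⟩ := hA
  have hV : FibCat.IsFibGrpd (FibCat.overCat V).p := StkFpCrit.isFibGrpd_overForget V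
  obtain ⟨X, eX, heX⟩ := hj V v
  obtain ⟨W, p, hp, hp'⟩ := hasAtlas_smooth_ofSp X
  have hW : FibCat.IsFibGrpd (FibCat.overCat W).p := StkFpCrit.isFibGrpd_overForget W
  have hfp : FibCat.IsFibGrpd (FibCat.fp v j).p := isFibGrpd_fp v j hV h𝒳 h𝒴
  refine ⟨W, BasedFunctor.comp (BasedFunctor.comp p eX) (FibCat.fpSnd v j), ?_, ?_⟩
  · exact repByAlgSpWith_comp hW hfp h𝒳 _ good_smooth.nice stableComp_smooth _ _
      (repByAlgSpWith_comp_equiv _ p eX heX hp) (repByAlgSpWith_fpSnd _ v j hv)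
  · exact repByAlgSpWith_comp hW hfp h𝒳 _ good_isSurjectiveMor.nice stableComp_isSurjectiveMor _ _
      (repByAlgSpWith_comp_equiv _ p eX heX hp') (repByAlgSpWith_fpSnd _ v j hv')

end

/-- S12768 -/
theorem isAlgStack_of_repByAlgSp1 {𝒳 𝒴 : AlgSt.Cat S} (h𝒳 : FibCat.IsFibGrpd 𝒳.p)
    (h𝒴 : AlgSt.IsAlgStack Scheme.fppfPrecoverage 𝒴) (j : 𝒳 ⥤ᵇ 𝒴) (hj : AlgSt.RepByAlgSp1 j) :
    AlgSt.IsAlgStack Scheme.fppfPrecoverage 𝒳 where
  isStack := AlgStStack.isStack_of_repByAlgSp1 h𝒳 h𝒴.isStack j hj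
  diag := repByAlgSp1_diag_of_rep h𝒳 h𝒴.isStack.1 h𝒴.diag j hj
  atlas := hasAtlas_of_rep h𝒳 h𝒴.isStack.1 j hj h𝒴.atlas

end Groth.Agent.Lib.Helper24.AlgStRepAlg
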