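import Groth.Prelude.Def_AlgSt
import Groth.Prelude.Def_FibCat2
import Groth.Agent.Lib.Helper24.StkEquiv
import Groth.Agent.Lib.Helper24.FibCatYoneda
import Groth.Agent.Lib.Helper24.FibCatFpMap
set_option autoImplicit false
set_option linter.unusedSectionVars false
open CategoryTheory
universe v₅ u₅ v₄ u₄ v₃ u₃ v₂ u₂ v u

/-!
# Full subcategories of a category over `C`, and the stack condition
-/

set_option backward.isDefEq.respectTransparency false
set_option backward.isDefEq.respectTransparency.types false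

namespace Groth.Agent.Lib.Helper24.StkSub
open Groth.Agent.Lib.Helper24.FibCatEquiv Groth.Agent.Lib.Helper24.StkEquiv
  Groth.Agent.Lib.Helper24.FibCatFpGen Groth.Agent.Lib.Helper24.FibGrpd

variable {C : Type u} [Category.{v} C] {𝒳 : BasedCategory.{v₂, u₂} C} (Q : ObjectProperty 𝒳.obj)

/-- the full subcategory on `Q` as a category over `C` -/
abbrev sub : BasedCategory.{v₂, u₂} C := BasedCategory.ofFunctor (Q.ι ⋙ 𝒳.p)

/-- the inclusion -/
def incl : sub Q ⥤ᵇ 𝒳 := ⟨Q.ι, rfl⟩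

instance : (incl Q).toFunctor.Full := inferInstanceAs Q.ι.Full
instance : (incl Q).toFunctor.Faithful := inferInstanceAs Q.ι.Faithful

lemma incl_obj (q : (sub Q).obj) : (incl Q).toFunctor.obj q = q.obj := rfl
lemma incl_map {q q' : (sub Q).obj} (m : q ⟶ q') : (incl Q).toFunctor.map m = m.hom := rfl

/-- `x` is isomorphic, over an identity, to an object satisfying `Q` -/
def IsoQ (x : 𝒳.obj) : Prop :=
  ∃ (x' : 𝒳.obj) (e : x ≅ x'), Q x' ∧ 𝒳.p.IsHomLift (𝟙 (𝒳.p.obj x)) e.hom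

lemma isoQ_of_iso {x y : 𝒳.obj} (e : x ≅ y) (he : 𝒳.p.IsHomLift (𝟙 (𝒳.p.obj x)) e.hom)
    (hy : IsoQ Q y) : IsoQ Q x := by
  obtain ⟨y', e', hQ, he'⟩ := hy
  refine ⟨y', e ≪≫ e', hQ, ?_⟩
  have hxy : 𝒳.p.obj x = 𝒳.p.obj y := by
    have h1 := IsHomLift.codomain_eq 𝒳.p (𝟙 (𝒳.p.obj x)) e.hom
    exact h1.symm
  rw [← hxy] at he'
  exact IsHomLift.comp_lift_id_left' (p := 𝒳.p) (𝒳.p.obj x) e.hom (𝟙 _) e'.hom

lemma lift_of_eq {𝒵 : Type u₃} [Category.{v₃} 𝒵] (p : 𝒵 ⥤ C) {R S : C} (hRS : R = S) {a b : 𝒵}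
    (φ : a ⟶ b) (h : p.IsHomLift (𝟙 R) φ) : p.IsHomLift (𝟙 S) φ := by
  subst hRS; exact h

section factor
variable {Q} {𝒟 : BasedCategory.{v₄, u₄} C} (H : 𝒟 ⥤ᵇ 𝒳) (h : ∀ d, IsoQ Q (H.toFunctor.obj d))

noncomputable def qOf (d : 𝒟.obj) : 𝒳.obj := (h d).choose
noncomputable def eOf (d : 𝒟.obj) : H.toFunctor.obj d ≅ qOf H h d := (h d).choose_spec.choose
lemma qOf_prop (d : 𝒟.obj) : Q (qOf H h d) := (h d).choose_spec.choose_spec.1
lemma eOf_lift (d : 𝒟.obj) : 𝒳.p.IsHomLift (𝟙 (𝒟.p.obj d)) (eOf H h d).hom := by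
  exact lift_of_eq 𝒳.p (H.w_obj d) _ (h d).choose_spec.choose_spec.2

lemma eOf_inv_lift (d : 𝒟.obj) : 𝒳.p.IsHomLift (𝟙 (𝒟.p.obj d)) (eOf H h d).inv := by
  have := eOf_lift H h d
  exact IsHomLift.lift_id_inv (p := 𝒳.p) _ (eOf H h d)

/-- the transported morphisms -/
noncomputable def fMap {d d' : 𝒟.obj} (m : d ⟶ d') : qOf H h d ⟶ qOf H h d' :=
  (eOf H h d).inv ≫ H.toFunctor.map m ≫ (eOf H h d').hom

lemma fMap_lift {d d' : 𝒟.obj} (m : d ⟶ d') : 𝒳.p.IsHomLift (𝒟.p.map m) (fMap H h m) := by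
  have h1 := eOf_inv_lift H h d
  have h2 := eOf_lift H h d'
  have h3 : 𝒳.p.IsHomLift (𝒟.p.map m) (H.toFunctor.map m) := inferInstance
  have h4 : 𝒳.p.IsHomLift (𝒟.p.map m) (H.toFunctor.map m ≫ (eOf H h d').hom) :=
    IsHomLift.comp_lift_id_right' (p := 𝒳.p) (𝒟.p.map m) (H.toFunctor.map m) (𝒟.p.obj d')
      (eOf H h d').hom
  exact IsHomLift.comp_lift_id_left' (p := 𝒳.p) (𝒟.p.obj d) (eOf H h d).inv (𝒟.p.map m)
    (H.toFunctor.map m ≫ (eOf H h d').hom)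

/-- the factorisation through the full subcategory -/
noncomputable def factor : 𝒟 ⥤ᵇ sub Q where
  toFunctor :=
    { obj := fun d => ⟨qOf H h d, qOf_prop H h d⟩
      map := fun m => ObjectProperty.homMk (fMap H h m)
      map_id := fun d => by
        apply ObjectProperty.hom_ext
        change fMap H h (𝟙 d) = 𝟙 _
        simp [fMap]
      map_comp := fun m n => by
        apply ObjectProperty.hom_ext
        change fMap H h (m ≫ n) = fMap H h m ≫ fMap H h n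
        simp [fMap] }
  w := by
    refine CategoryTheory.Functor.ext (fun d => ?_) (fun d d' m => ?_)
    · have := eOf_inv_lift H h d
      exact IsHomLift.domain_eq 𝒳.p (𝟙 (𝒟.p.obj d)) (eOf H h d).inv
    · have := fMap_lift H h m
      exact IsHomLift.fac' 𝒳.p (𝒟.p.map m) (fMap H h m)

/-- the factorisation composed with the inclusion is isomorphic to the given functor -/
noncomputable def factorIso : BasedFunctor.comp (factor H h) (incl Q) ≅ H :=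
  BasedNatIso.mkNatIso
    (NatIso.ofComponents (fun d => (eOf H h d).symm) (fun {d d'} m => by
      change fMap H h m ≫ (eOf H h d').inv = (eOf H h d).inv ≫ H.toFunctor.map m
      simp [fMap]))
    (fun d => eOf_inv_lift H h d)

end factor


lemma isHomLift_sub_iff {R S : C} (f : R ⟶ S) {a b : (sub Q).obj} (m : a ⟶ b) :
    (sub Q).p.IsHomLift f m ↔ 𝒳.p.IsHomLift f m.hom := by
  constructor
  · intro h
    exact IsHomLift.of_fac 𝒳.p f m.hom (IsHomLift.domain_eq (sub Q).p f m)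
      (IsHomLift.codomain_eq (sub Q).p f m) (IsHomLift.fac (sub Q).p f m)
  · intro h
    exact IsHomLift.of_fac (sub Q).p f m (IsHomLift.domain_eq 𝒳.p f m.hom)
      (IsHomLift.codomain_eq 𝒳.p f m.hom) (IsHomLift.fac 𝒳.p f m.hom)

section fibgrpd
variable {Q} (h𝒳 : FibCat.IsFibGrpd 𝒳.p) (h1 : ∀ ⦃y x : 𝒳.obj⦄ (_ : y ⟶ x), Q x → IsoQ Q y)

include h𝒳 h1 in
theorem isFibGrpd_sub : FibCat.IsFibGrpd (sub Q).p := by
  constructor
  · intro x V f
    obtain ⟨y, φ, hφ⟩ := h𝒳.exists_lift (x := x.obj) f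
    obtain ⟨y', e, hQ, he⟩ := h1 φ x.property
    have hy : 𝒳.p.obj y = V := IsHomLift.domain_eq 𝒳.p f φ
    have he' : 𝒳.p.IsHomLift (𝟙 V) e.hom := lift_of_eq 𝒳.p hy _ he
    have he'' : 𝒳.p.IsHomLift (𝟙 V) e.inv := IsHomLift.lift_id_inv (p := 𝒳.p) V e
    refine ⟨⟨y', hQ⟩, ObjectProperty.homMk (e.inv ≫ φ), ?_⟩
    rw [isHomLift_sub_iff]
    exact IsHomLift.comp_lift_id_left' (p := 𝒳.p) V e.inv f φ
  · intro y x φ
    have hs : 𝒳.p.IsStronglyCartesian (𝒳.p.map φ.hom) φ.hom := h𝒳.isStronglyCartesian φ.hom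
    refine { toIsHomLift := IsHomLift.map (sub Q).p φ, universal_property' := ?_ }
    intro a' g φ' hφ'
    have hφ'' : 𝒳.p.IsHomLift (g ≫ 𝒳.p.map φ.hom) φ'.hom := (isHomLift_sub_iff Q _ φ').mp hφ'
    obtain ⟨χ, ⟨hχ1, hχ2⟩, hu⟩ := hs.universal_property' g φ'.hom
    refine ⟨ObjectProperty.homMk χ, ⟨(isHomLift_sub_iff Q g _).mpr hχ1, ?_⟩, ?_⟩
    · apply ObjectProperty.hom_ext
      exact hχ2
    · rintro χ' ⟨h1', h2'⟩
      apply ObjectProperty.hom_ext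
      apply hu
      exact ⟨(isHomLift_sub_iff Q g χ').mp h1', congrArg (fun t => t.hom) h2'⟩

end fibgrpd

section restr
variable {𝒜 : BasedCategory.{v₄, u₄} C} {ℬ : BasedCategory.{v₅, u₅} C} (ι : 𝒜 ⥤ᵇ ℬ)

theorem restr_sub_faithful [(Stk.restr ι 𝒳).Faithful] : (Stk.restr ι (sub Q)).Faithful := by
  have : (Stk.restr ι (sub Q) ⋙ postcompF 𝒜 (incl Q)).Faithful :=
    Functor.Faithful.of_iso (sqIso ι (incl Q)).symm
  exact Functor.Faithful.of_comp (Stk.restr ι (sub Q)) (postcompF 𝒜 (incl Q))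

theorem restr_sub_full [(Stk.restr ι 𝒳).Full] : (Stk.restr ι (sub Q)).Full := by
  have : (Stk.restr ι (sub Q) ⋙ postcompF 𝒜 (incl Q)).Full :=
    Functor.Full.of_iso (sqIso ι (incl Q)).symm
  exact Functor.Full.of_comp_faithful (Stk.restr ι (sub Q)) (postcompF 𝒜 (incl Q))

/-- essential surjectivity, given that glued objects stay in the subcategory -/
theorem restr_sub_essSurj [(Stk.restr ι 𝒳).EssSurj]
    (hglue : ∀ (H : ℬ ⥤ᵇ 𝒳), (∀ a : 𝒜.obj, IsoQ Q (H.toFunctor.obj (ι.toFunctor.obj a))) →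
      ∀ b : ℬ.obj, IsoQ Q (H.toFunctor.obj b)) :
    (Stk.restr ι (sub Q)).EssSurj := by
  constructor
  intro K
  let H : ℬ ⥤ᵇ 𝒳 := (Stk.restr ι 𝒳).objPreimage (BasedFunctor.comp K (incl Q))
  let θ : (Stk.restr ι 𝒳).obj H ≅ BasedFunctor.comp K (incl Q) :=
    (Stk.restr ι 𝒳).objObjPreimageIso _
  have hH : ∀ b : ℬ.obj, IsoQ Q (H.toFunctor.obj b) := by
    apply hglue
    intro a
    let ea := Groth.Agent.Lib.Helper24.FibCatFpMap.appIso θ a
    refine ⟨(K.toFunctor.obj a).obj, ea, (K.toFunctor.obj a).property, ?_⟩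
    have := Groth.Agent.Lib.Helper24.FibCatFpMap.appIso_hom_isHomLift θ a rfl
    have e1 : 𝒳.p.obj (H.toFunctor.obj (ι.toFunctor.obj a)) = 𝒜.p.obj a :=
      ((Stk.restr ι 𝒳).obj H).w_obj a
    exact lift_of_eq 𝒳.p e1.symm _ this
  let H' : ℬ ⥤ᵇ sub Q := factor H hH
  let φ : BasedFunctor.comp H' (incl Q) ≅ H := factorIso H hH
  refine ⟨H', ⟨?_⟩⟩
  -- postcomposition with the inclusion is fully faithful
  let e1 : (postcompF 𝒜 (incl Q)).obj ((Stk.restr ι (sub Q)).obj H') ≅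
      (postcompF 𝒜 (incl Q)).obj K :=
    (sqIso ι (incl Q)).app H' ≪≫ (Stk.restr ι 𝒳).mapIso φ ≪≫ θ
  exact (postcompF 𝒜 (incl Q)).preimageIso e1

end restr

end Groth.Agent.Lib.Helper24.StkSub
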