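import Groth.Agent.Lib.Helper24.AlgStOpenSub1
import Groth.Agent.Lib.Helper24.AlgStRepAlg
import Groth.Agent.Lib.Helper24.AlgStLocQ1
import Groth.Agent.Lib.Helper24.StkSub
import Groth.Agent.Lib.Helper24.FibCatTwoCart
set_option autoImplicit false
open CategoryTheory AlgebraicGeometry Opposite
universe w₁ v₁ w₂ v₂ w₃ v₃ w₄ v₄ u
set_option backward.isDefEq.respectTransparency false
set_option backward.isDefEq.respectTransparency.types false

/-! The open substack of an algebraic stack attached to an open subset of its space of points. -/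

namespace Groth.Agent.Lib.Helper24.AlgStOpenSub2
open Groth.Agent.Lib.Helper24.FibCatFpMap
open Groth.Agent.Lib.Helper24.FibCatEquiv Groth.Agent.Lib.Helper24.FibCatFpGen
open Groth.Agent.Lib.Helper24.AlgStPts1 Groth.Agent.Lib.Helper24.AlgStPts3
open Groth.Agent.Lib.Helper24.AlgStPts4
open Groth.Agent.Lib.Helper24.AlgStOpenSub1 Groth.Agent.Lib.Helper24.AlgStRepAlg
open Groth.Agent.Lib.Helper24.AlgStRep Groth.Agent.Lib.Helper24.AlgStRepS
open Groth.Agent.Lib.Helper24.AlgStSchLocal Groth.Agent.Lib.Helper24.AlgStLocQ1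
open Groth.Agent.Lib.Helper24.AlgStEqv Groth.Agent.Lib.Helper24.AlgStCalc
open Groth.Agent.Lib.Helper24.FibCatTwoCart Groth.Agent.Lib.Helper24.AlgStBridge
open Groth.Agent.Lib.Helper24.AlgStBoot Groth.Agent.Lib.Helper24.AlgStProps
open Groth.Agent.Lib.Helper26.StackPoints
open CategoryTheory.Limits AlgSt

variable {S : Scheme.{u}} {𝒳 : AlgSt.Cat S}

/-- the objects all of whose field-valued points lie in `W` -/
def QW (W : Set (Points 𝒳)) : 𝒳.obj → Prop :=
  fun y => ∀ p : FPt 𝒳, Nonempty (p.obj ⟶ y) → Points.mk p ∈ W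

instance qW_closed (W : Set (Points 𝒳)) : ObjectProperty.IsClosedUnderIsomorphisms (QW W) where
  of_iso := by
    rintro y y' e hy p ⟨m⟩
    exact hy p ⟨m ≫ e.inv⟩

lemma qW_of_hom {W : Set (Points 𝒳)} {y x : 𝒳.obj} (φ : y ⟶ x) (hx : QW W x) : QW W y :=
  fun p ⟨m⟩ => hx p ⟨m ≫ φ⟩

lemma qW_mono {W W' : Set (Points 𝒳)} (h : W ⊆ W') {y : 𝒳.obj} (hy : QW W y) : QW W' y :=
  fun p hp => h (hy p hp)

theorem isFibGrpd_fullSub_qW (h𝒳 : FibCat.IsFibGrpd 𝒳.p) (W : Set (Points 𝒳)) :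
    FibCat.IsFibGrpd (AlgSt.fullSub 𝒳 (QW W)).p :=
  Groth.Agent.Lib.Helper24.StkSub.isFibGrpd_sub h𝒳
    (fun y _ φ hx => ⟨y, Iso.refl _, qW_of_hom φ hx, IsHomLift.id rfl⟩)

/-- criterion for representability with a property, via `PT` -/
theorem repByAlgSpWith_of_forall_pt {𝒴 : AlgSt.Cat S} {P : MorphismProperty (AlgSp.Sp S)}
    (hPi : (Phat P).RespectsIso) (f : 𝒴 ⥤ᵇ 𝒳)
    (h : ∀ (U : Over S) (y : FibCat.overCat U ⥤ᵇ 𝒳), PT P (FibCat.fpFst y f)) :
    AlgSt.RepByAlgSpWith P f := by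
  intro U y
  obtain ⟨F, e, he⟩ := (h U y).rep_left
  refine ⟨F, e, he, ?_⟩
  rw [spMapOfOver_eq]
  exact (h U y).forall hPi F ⟨(AlgSp.yon S).obj U, AlgSp.IsAlgSpace.yon_obj U⟩ e
    (AlgSt.ofOverCat U) he (isEquivOver_ofOverCat U)

/-- a point of the source of an object of `(Sch/U)` gives a field-valued point mapping to the
value of a chart -/
theorem exists_fpt_ofChart {U : Over S} (y : FibCat.overCat U ⥤ᵇ 𝒳) (a : (FibCat.overCat U).obj)
    (t : ↥a.left.left) :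
    ∃ p : FPt 𝒳, Nonempty (p.obj ⟶ y.obj a) ∧ Points.mk p = Points.ofChart y (a.hom.left t) := by
  rw [← ofChart_overMap a.hom y t]
  refine ⟨(ptOf a.left t).map (BasedFunctor.comp (AlgSt.overMap a.hom) y), ⟨y.map ?_⟩, rfl⟩
  exact Over.homMk (ptOf a.left t).obj.hom rfl

section Chart
variable (h𝒳 : AlgSt.IsAlgStack Scheme.fppfPrecoverage 𝒳) {W : Set (Points 𝒳)} (hW : IsOpen W)
  {U : Over S} (y : FibCat.overCat U ⥤ᵇ 𝒳)

/-- the open subscheme of a chart lying over `W` -/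
def chartOpen : U.left.Opens := ⟨Points.ofChart y ⁻¹' W, hW.preimage (continuous_ofChart h𝒳 y)⟩

/-- the open subscheme as a scheme over `S` -/
def chartV : Over S := Over.mk ((chartOpen h𝒳 hW y).ι ≫ U.hom)

/-- the inclusion of the open subscheme -/
def chartι : chartV h𝒳 hW y ⟶ U := Over.homMk (chartOpen h𝒳 hW y).ι rfl

lemma chartι_mem (z : ↥(chartV h𝒳 hW y).left) :
    Points.ofChart y ((chartι h𝒳 hW y).left z) ∈ W := by
  have h : (chartOpen h𝒳 hW y).ι z ∈ Set.range (chartOpen h𝒳 hW y).ι := ⟨z, rfl⟩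
  rw [Scheme.Opens.range_ι] at h
  exact h

lemma qW_chart (a : (FibCat.overCat (chartV h𝒳 hW y)).obj) :
    QW W (y.obj ((AlgSt.overMap (chartι h𝒳 hW y)).obj a)) := by
  rintro p ⟨m⟩
  obtain ⟨t, ht⟩ := mk_eq_ofChart h𝒳.isStack.1 y _ p m
  rw [ht]
  exact chartι_mem h𝒳 hW y (a.hom.left t)

/-- the chart of the open substack -/
def chartC : FibCat.overCat (chartV h𝒳 hW y) ⥤ᵇ AlgSt.fullSub 𝒳 (QW W) where
  toFunctor := ObjectProperty.lift (QW W)
    (BasedFunctor.comp (AlgSt.overMap (chartι h𝒳 hW y)) y).toFunctor (qW_chart h𝒳 hW y)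
  w := (BasedFunctor.comp (AlgSt.overMap (chartι h𝒳 hW y)) y).w

/-- the comparison functor -/
def chartK : FibCat.overCat (chartV h𝒳 hW y) ⥤ᵇ FibCat.fp y (AlgSt.subIncl 𝒳 (QW W)) :=
  FibCat.fpLift (AlgSt.overMap (chartι h𝒳 hW y)) (chartC h𝒳 hW y) (Iso.refl _)

instance mono_chartι : Mono (chartι h𝒳 hW y) := by
  have : Mono (chartι h𝒳 hW y).left := inferInstanceAs (Mono (chartOpen h𝒳 hW y).ι)
  exact Over.mono_of_mono_left _

theorem isEquivOver_chartK : FibCat.IsEquivOver (chartK h𝒳 hW y) := by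
  apply isEquivOver_fpLift_of
  · intro w w' m m' h _
    apply Over.OverMorphism.ext
    exact congrArg (fun t => t.left) h
  · intro w w' u v huv
    have huv' : y.map u ≫ 𝟙 _ = 𝟙 _ ≫ v.hom := huv
    rw [Category.comp_id, Category.id_comp] at huv'
    have hu : u.left ≫ w'.hom = w.hom := by
      rw [← cancel_mono (chartι h𝒳 hW y), Category.assoc]
      exact Over.w u
    refine ⟨Over.homMk u.left hu, ?_, ?_⟩
    · apply Over.OverMorphism.ext
      rfl
    · apply ObjectProperty.hom_ext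
      change y.map ((AlgSt.overMap (chartι h𝒳 hW y)).map (Over.homMk u.left hu)) = v.hom
      rw [← huv']
      congr 1
  · intro η
    let b : Over U := η.obj.fst
    have hmem : ∀ t : ↥b.left.left, b.hom.left t ∈ (chartOpen h𝒳 hW y : Set ↥U.left) := by
      intro t
      obtain ⟨p, ⟨m⟩, hp⟩ := exists_fpt_ofChart y b t
      change Points.ofChart y (b.hom.left t) ∈ W
      rw [← hp]
      exact η.obj.snd.property p ⟨m ≫ η.obj.iso.hom⟩
    have hr : Set.range b.hom.left ⊆ Set.range (chartOpen h𝒳 hW y).ι := by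
      rw [Scheme.Opens.range_ι]
      rintro _ ⟨t, rfl⟩
      exact hmem t
    let ℓ : b.left.left ⟶ (chartOpen h𝒳 hW y).toScheme :=
      IsOpenImmersion.lift (chartOpen h𝒳 hW y).ι b.hom.left hr
    have hℓ : ℓ ≫ (chartOpen h𝒳 hW y).ι = b.hom.left := IsOpenImmersion.lift_fac _ _ hr
    let ℓS : b.left ⟶ chartV h𝒳 hW y := Over.homMk ℓ (by
      change ℓ ≫ (chartOpen h𝒳 hW y).ι ≫ U.hom = b.left.hom
      rw [← Category.assoc, hℓ]
      exact Over.w b.hom)
    have hℓS : ℓS ≫ chartι h𝒳 hW y = b.hom := by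
      apply Over.OverMorphism.ext
      exact hℓ
    let w : (FibCat.overCat (chartV h𝒳 hW y)).obj := Over.mk ℓS
    let α : (AlgSt.overMap (chartι h𝒳 hW y)).obj w ≅ b := Over.isoMk (Iso.refl b.left) (by
      change 𝟙 _ ≫ b.hom = ℓS ≫ chartι h𝒳 hW y
      rw [Category.id_comp, hℓS])
    refine ⟨w, α, ObjectProperty.isoMk (X := (chartC h𝒳 hW y).obj w) (Y := η.obj.snd) _
      (y.mapIso α ≪≫ η.obj.iso), ?_, ?_⟩
    · exact IsHomLift.of_fac _ _ _ rfl rfl (by
        change 𝟙 b.left = 𝟙 b.left ≫ 𝟙 b.left ≫ 𝟙 b.left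
        simp)
    · exact (Category.id_comp _).symm

end Chart

section Main
variable (h𝒳 : AlgSt.IsAlgStack Scheme.fppfPrecoverage 𝒳) {W : Set (Points 𝒳)} (hW : IsOpen W)

include h𝒳 hW in
theorem isOpenImm_subIncl_qW : AlgSt.IsOpenImm (AlgSt.subIncl 𝒳 (QW W)) := by
  have hPi := (nice_repWith (S := S) @IsOpenImmersion).respectsIso
  apply repByAlgSpWith_of_forall_pt hPi
  intro U y
  have h0 : IsOpenImmersion (chartι h𝒳 hW y).left :=
    inferInstanceAs (IsOpenImmersion (chartOpen h𝒳 hW y).ι)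
  have h1 : PT (AlgSp.RepWith @IsOpenImmersion) (AlgSt.overMap (chartι h𝒳 hW y)) :=
    (pt_overMap_iff hPi _).2 ((AlgSp.repWith_yon_map_iff @IsOpenImmersion _).2 h0)
  have i : AlgSt.overMap (chartι h𝒳 hW y) ≅
      BasedFunctor.comp (chartK h𝒳 hW y) (FibCat.fpFst y (AlgSt.subIncl 𝒳 (QW W))) := Iso.refl _
  exact PT.of_equiv_comp (chartK h𝒳 hW y) (isEquivOver_chartK h𝒳 hW y) (PT.of_iso i h1)

include h𝒳 hW in
theorem isAlgStack_fullSub_qW :
    AlgSt.IsAlgStack Scheme.fppfPrecoverage (AlgSt.fullSub 𝒳 (QW W)) :=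
  isAlgStack_of_repByAlgSp1 (isFibGrpd_fullSub_qW h𝒳.isStack.1 W) h𝒳 (AlgSt.subIncl 𝒳 (QW W))
    (repByAlgSp1_of_repByAlgSpWith _ _ (isOpenImm_subIncl_qW h𝒳 hW))

include h𝒳 hW in
theorem isOpenSubstack_qW : AlgSt.IsOpenSubstack 𝒳 (QW W) Scheme.fppfPrecoverage :=
  ⟨qW_closed W, isAlgStack_fullSub_qW h𝒳 hW, isOpenImm_subIncl_qW h𝒳 hW⟩

theorem range_map_subIncl_qW (W : Set (Points 𝒳)) :
    Set.range (Points.map (AlgSt.subIncl 𝒳 (QW W))) = W := by
  apply Set.Subset.antisymm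
  · rintro _ ⟨z, rfl⟩
    obtain ⟨q, rfl⟩ := Points.mk_surjective z
    exact q.obj.property (q.map (AlgSt.subIncl 𝒳 (QW W))) ⟨𝟙 _⟩
  · intro w hw
    obtain ⟨p, rfl⟩ := Points.mk_surjective w
    have hQ : QW W p.obj := by
      rintro p' ⟨m⟩
      have : Points.mk p' = Points.mk p := Points.sound ⟨p', 𝟙 _, m, trivial⟩
      rw [this]
      exact hw
    exact ⟨Points.mk ⟨p.K, p.str, ⟨p.obj, hQ⟩, p.lies⟩, rfl⟩

end Main

end Groth.Agent.Lib.Helper24.AlgStOpenSub2
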