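import Groth.Prelude.Def_AlgSt4
import Groth.Agent.Lib.Helper24.AlgStQC
import Groth.Agent.Lib.Helper24.AlgStProd
import Groth.Agent.Lib.Helper24.AlgStEqv
import Groth.Agent.Lib.Helper24.AlgStAtlas
import Groth.Agent.Lib.Helper24.AlgStGraph
import Groth.Agent.Lib.Helper14.AlgSpImm
import Groth.Agent.Lib.Helper14.AlgSpQCMor
set_option autoImplicit false
open CategoryTheory AlgebraicGeometry Opposite
universe w₁ v₁ w₂ v₂ w₃ v₃ w₄ v₄ w₅ v₅ u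
set_option backward.isDefEq.respectTransparency false
set_option backward.isDefEq.respectTransparency.types false

/-! Quasi-compact morphisms of algebraic stacks. -/

namespace Groth.Agent.Lib.Helper24.AlgStQCMor
open Groth.Agent.Lib.Helper24.FibCatFpMap
open Groth.Agent.Lib.Helper24.FibCatEquiv Groth.Agent.Lib.Helper24.FibCatFpGen
open Groth.Agent.Lib.Helper24.AlgStRep
open Groth.Agent.Lib.Helper24.AlgStBridge Groth.Agent.Lib.Helper24.AlgStBoot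
open Groth.Agent.Lib.Helper24.AlgStRepS
open Groth.Agent.Lib.Helper24.AlgStSchLocal
open Groth.Agent.Lib.Helper24.AlgStGC
open Groth.Agent.Lib.Helper24.AlgStProps Groth.Agent.Lib.Helper24.AlgStSmooth
open Groth.Agent.Lib.Helper24.AlgStFpAlg Groth.Agent.Lib.Helper24.AlgStSmLoc
open Groth.Agent.Lib.Helper24.AlgStQC Groth.Agent.Lib.Helper24.AlgStEqv
open Groth.Agent.Lib.Helper24.AlgStProd Groth.Agent.Lib.Helper24.FibCatFpMapL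
open Groth.Agent.Lib.Helper24.AlgStAtlas Groth.Agent.Lib.Helper24.AlgStCalc Groth.Agent.Lib.Helper24.PshBridge
open CategoryTheory.Limits

variable {S : Scheme.{u}}

theorem isQuasiCompact_of_isEquivOver {𝒜 : BasedCategory.{v₁, w₁} (Over S)}
    {ℬ : BasedCategory.{v₂, w₂} (Over S)} (e : 𝒜 ⥤ᵇ ℬ) (he : FibCat.IsEquivOver e)
    (h : AlgSt.IsQuasiCompact 𝒜) : AlgSt.IsQuasiCompact ℬ := by
  obtain ⟨U, x, hU, hx, hx'⟩ := h
  exact ⟨U, BasedFunctor.comp x e, hU, repByAlgSpWith_comp_equiv _ x e he hx,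
    repByAlgSpWith_comp_equiv _ x e he hx'⟩

theorem isQuasiCompact_iff_of_isEquivOver {𝒜 : BasedCategory.{v₁, w₁} (Over S)}
    {ℬ : BasedCategory.{v₂, w₂} (Over S)} (e : 𝒜 ⥤ᵇ ℬ) (he : FibCat.IsEquivOver e) :
    AlgSt.IsQuasiCompact 𝒜 ↔ AlgSt.IsQuasiCompact ℬ := by
  obtain ⟨e', he'⟩ := exists_inverse_isEquivOver e he
  exact ⟨isQuasiCompact_of_isEquivOver e he, isQuasiCompact_of_isEquivOver e' he'⟩

theorem isQuasiCompact_iff_of_eqvOver {𝒜 : BasedCategory.{v₁, w₁} (Over S)}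
    {𝒜' : BasedCategory.{v₂, w₂} (Over S)} {ℬ : BasedCategory.{v₃, w₃} (Over S)}
    {π : 𝒜 ⥤ᵇ ℬ} {π' : 𝒜' ⥤ᵇ ℬ} (h : EqvOver π π') :
    AlgSt.IsQuasiCompact 𝒜 ↔ AlgSt.IsQuasiCompact 𝒜' := by
  obtain ⟨k, hk, -⟩ := h
  exact isQuasiCompact_iff_of_isEquivOver k hk

/-- S12982 -/
theorem isQuasiCompactMor_fpFst {K : Precoverage Scheme.{u}} {𝒳 𝒴 𝒴' : AlgSt.Cat S}
    (f : 𝒳 ⥤ᵇ 𝒴) (g : 𝒴' ⥤ᵇ 𝒴) (hf : AlgSt.IsQuasiCompactMor K f) :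
    AlgSt.IsQuasiCompactMor K (FibCat.fpFst g f) := by
  intro 𝒵 h𝒵 hq t
  exact (isQuasiCompact_iff_of_isEquivOver _
    (Groth.Agent.Lib.Helper24.FibCatFpPaste.isEquivOver_P (f := f) (g := g) (G := t))).2
    (hf 𝒵 h𝒵 hq (BasedFunctor.comp t g))

/-- S12983 -/
theorem isQuasiCompactMor_comp {𝒳 𝒴 𝒵 : AlgSt.Cat S}
    (h𝒴 : AlgSt.IsAlgStack Scheme.fppfPrecoverage 𝒴)
    (h𝒵 : AlgSt.IsAlgStack Scheme.fppfPrecoverage 𝒵)
    (f : 𝒳 ⥤ᵇ 𝒴) (g : 𝒴 ⥤ᵇ 𝒵) (hf : AlgSt.IsQuasiCompactMor Scheme.fppfPrecoverage f)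
    (hg : AlgSt.IsQuasiCompactMor Scheme.fppfPrecoverage g) :
    AlgSt.IsQuasiCompactMor Scheme.fppfPrecoverage (BasedFunctor.comp f g) := by
  intro 𝒲 h𝒲 hq t
  have h1 := hg 𝒲 h𝒲 hq t
  have h2 : AlgSt.IsAlgStack Scheme.fppfPrecoverage (FibCat.fp t g) :=
    isAlgStack_fp h𝒵.isStack h𝒵.diag h𝒲 h𝒴 t g
  have h3 := hf (FibCat.fp t g) h2 h1 (FibCat.fpSnd t g)
  exact (isQuasiCompact_iff_of_isEquivOver _
    (Groth.Agent.Lib.Helper24.FibCatFpPaste.isEquivOver_Q (f := f) (g := g) (G := t))).1 h3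

/-- a quasi-compact algebraic space, seen as a stack, is quasi-compact -/
theorem isQuasiCompact_ofSp_iff (X : AlgSp.Space S) :
    AlgSt.IsQuasiCompact (AlgSt.ofSp X.obj) ↔ AlgSp.IsQuasiCompactSp X.obj := by
  rw [isQuasiCompact_iff_space_atlas (isAlgStack_ofSp X)]
  constructor
  · rintro ⟨W, x, hW, -, hx⟩
    have hs : AlgSp.IsSurjectiveMor (spMapOf x) :=
      P_spMapOf_of_repByAlgSpWith' _ good_isSurjectiveMor.nice x hx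
    exact Groth.Agent.Lib.Helper14.AS.isQuasiCompactSp_of_isSurjectiveMor X.property _ hs hW
  · intro h
    exact ⟨X, BasedFunctor.id _, h, repByAlgSpWith_id _ hasIsos_smooth,
      repByAlgSpWith_id _ hasIsos_isSurjectiveMor⟩


theorem isQuasiCompact_overCat (Z : Over S) (hZ : IsAffine Z.left) :
    AlgSt.IsQuasiCompact (FibCat.overCat Z) :=
  ⟨Z, BasedFunctor.id _, hZ, repByAlgSpWith_id _ hasIsos_smooth,
    repByAlgSpWith_id _ hasIsos_isSurjectiveMor⟩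

/-- S12981 (⟹) -/
theorem isQuasiCompactMor_of_repByAlgSpWith {𝒳 𝒴 : AlgSt.Cat S}
    (h𝒳 : AlgSt.IsAlgStack Scheme.fppfPrecoverage 𝒳)
    (h𝒴 : AlgSt.IsAlgStack Scheme.fppfPrecoverage 𝒴) (f : 𝒳 ⥤ᵇ 𝒴)
    (h : AlgSt.RepByAlgSpWith AlgSp.IsQuasiCompactMor f) :
    AlgSt.IsQuasiCompactMor Scheme.fppfPrecoverage f := by
  intro 𝒵 h𝒵 hq g
  obtain ⟨V, z, hV, hz, hz'⟩ := hq
  obtain ⟨F, e, he, hP⟩ := h V (BasedFunctor.comp z g)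
  have hF : AlgSp.IsQuasiCompactSp F.obj := by
    have hV' : AlgSp.IsQuasiCompactSp ((AlgSp.yon S).obj V) :=
      (Groth.Agent.Lib.Helper14.AS.isQuasiCompactSp_yon_iff V).2 inferInstance
    exact hP (AlgSp.IsAlgSpace.yon_obj V) hV' (𝟙 _) (𝟙 _) _ IsPullback.of_id_fst
  have halg : AlgSt.IsAlgStack Scheme.fppfPrecoverage (FibCat.fp g f) :=
    isAlgStack_fp h𝒴.isStack h𝒴.diag h𝒵 h𝒳 g f
  rw [isQuasiCompact_iff_space_atlas halg]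
  refine ⟨F, BasedFunctor.comp e (mapL z g f), hF, ?_, ?_⟩
  · exact (repByAlgSpWith_equiv_comp _ e _ he).2 (repByAlgSpWith_mapL _ z g f hz)
  · exact (repByAlgSpWith_equiv_comp _ e _ he).2 (repByAlgSpWith_mapL _ z g f hz')

/-- S12981 (⟸) -/
theorem repByAlgSpWith_of_isQuasiCompactMor {𝒳 𝒴 : AlgSt.Cat S} (f : 𝒳 ⥤ᵇ 𝒴)
    (hf : AlgSt.RepByAlgSp1 f) (hq : AlgSt.IsQuasiCompactMor Scheme.fppfPrecoverage f) :
    AlgSt.RepByAlgSpWith AlgSp.IsQuasiCompactMor f := by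
  rw [repByAlgSpWith_iff_hasP]
  intro U y
  obtain ⟨F, e, he, -⟩ := (repByAlgSpWith_iff_hasP (P := ⊤) f).1
    ((repByAlgSp1_iff_with_top f).1 hf) U y
  refine ⟨F, e, he, ?_⟩
  rw [Groth.Agent.Lib.Helper14.AS.isQuasiCompactMor_iff_affine F.property
    (AlgSp.IsAlgSpace.yon_obj U)]
  intro Z hZ g' P fst snd sq
  have hP : AlgSp.IsAlgSpace P :=
    Groth.Agent.Lib.Helper14.AS.isAlgSpace_of_isPullback
      (Groth.Agent.Lib.Helper14.AS.repDiag_of_isAlgSpace (AlgSp.IsAlgSpace.yon_obj U))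
      F.property (AlgSp.IsAlgSpace.yon_obj Z) sq
  let X : AlgSp.Space S := ⟨P, hP⟩
  refine (isQuasiCompact_ofSp_iff X).1 ?_
  set π := FibCat.fpFst (BasedFunctor.comp (AlgSt.toOverCat U) y) f with hπ
  have c0 := eqvOver_of_isPullback sq
  have c1 : EqvOver (FibCat.fpFst (AlgSt.ofSpMap g') (BasedFunctor.comp e π))
      (FibCat.fpFst (AlgSt.ofSpMap g') (AlgSt.ofSpMap (spMapOf (BasedFunctor.comp e π)))) :=
    eqvOver_fpFst_congr_right _ (BasedFunctor.id _) (isEquivOver_id _)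
      (isoOfPshMap (BasedFunctor.comp e π))
  have c2 : EqvOver (FibCat.fpFst (AlgSt.ofSpMap g') (BasedFunctor.comp e π))
      (FibCat.fpFst (AlgSt.ofSpMap g') π) :=
    eqvOver_fpFst_congr_right _ e he (Iso.refl _)
  have c3 := eqvOver_P f (BasedFunctor.comp (AlgSt.toOverCat U) y) (AlgSt.ofSpMap g')
  have c4 := eqvOver_fpFst_precomp (AlgSt.ofOverCat Z) (isEquivOver_ofOverCat Z)
    (BasedFunctor.comp (AlgSt.ofSpMap g') (BasedFunctor.comp (AlgSt.toOverCat U) y)) f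
  have h0 := hq (FibCat.overCat Z) (isAlgStack_of_repByAlgSp (repByAlgSp_overCat Z))
    (isQuasiCompact_overCat Z hZ)
    (BasedFunctor.comp (AlgSt.ofOverCat Z)
      (BasedFunctor.comp (AlgSt.ofSpMap g') (BasedFunctor.comp (AlgSt.toOverCat U) y)))
  have h1 := (isQuasiCompact_iff_of_eqvOver c4).1 h0
  have h2 := (isQuasiCompact_iff_of_eqvOver c3).2 h1
  have h3 := (isQuasiCompact_iff_of_eqvOver c2).2 h2
  have h4 := (isQuasiCompact_iff_of_eqvOver c1).1 h3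
  exact (isQuasiCompact_iff_of_eqvOver c0).2 h4


/-- S12981 -/
theorem repByAlgSpWith_isQuasiCompactMor_iff {𝒳 𝒴 : AlgSt.Cat S}
    (h𝒳 : AlgSt.IsAlgStack Scheme.fppfPrecoverage 𝒳)
    (h𝒴 : AlgSt.IsAlgStack Scheme.fppfPrecoverage 𝒴) (f : 𝒳 ⥤ᵇ 𝒴) (hf : AlgSt.RepByAlgSp1 f) :
    AlgSt.RepByAlgSpWith AlgSp.IsQuasiCompactMor f ↔
      AlgSt.IsQuasiCompactMor Scheme.fppfPrecoverage f :=
  ⟨isQuasiCompactMor_of_repByAlgSpWith h𝒳 h𝒴 f, repByAlgSpWith_of_isQuasiCompactMor f hf⟩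

/-- S12984 -/
theorem isQuasiCompactMor_of_isClosedImm {𝒳 𝒴 : AlgSt.Cat S}
    (h𝒳 : AlgSt.IsAlgStack Scheme.fppfPrecoverage 𝒳)
    (h𝒴 : AlgSt.IsAlgStack Scheme.fppfPrecoverage 𝒴) (f : 𝒳 ⥤ᵇ 𝒴) (hf : AlgSt.IsClosedImm f) :
    AlgSt.IsQuasiCompactMor Scheme.fppfPrecoverage f :=
  isQuasiCompactMor_of_repByAlgSpWith h𝒳 h𝒴 f
    (repByAlgSpWith_mono
      (fun _ _ _ h => Groth.Agent.Lib.Helper14.AS.isQuasiCompactMor_of_repWith_isClosedImmersion h)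
      f hf)

theorem isQuasiCompactMor_of_eqvOver {K : Precoverage Scheme.{u}} {𝒳 𝒳' 𝒴 : AlgSt.Cat S}
    {f : 𝒳 ⥤ᵇ 𝒴} {f' : 𝒳' ⥤ᵇ 𝒴} (h : EqvOver f f') (hf : AlgSt.IsQuasiCompactMor K f') :
    AlgSt.IsQuasiCompactMor K f := by
  obtain ⟨k, hk, ⟨i⟩⟩ := h
  intro 𝒵 h𝒵 hq t
  exact (isQuasiCompact_iff_of_eqvOver (eqvOver_fpFst_congr_right t k hk i.symm)).2 (hf 𝒵 h𝒵 hq t)

theorem isQuasiCompactMor_iff_of_eqvOver {K : Precoverage Scheme.{u}} {𝒳 𝒳' 𝒴 : AlgSt.Cat S}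
    {f : 𝒳 ⥤ᵇ 𝒴} {f' : 𝒳' ⥤ᵇ 𝒴} (h : EqvOver f f') :
    AlgSt.IsQuasiCompactMor K f ↔ AlgSt.IsQuasiCompactMor K f' :=
  ⟨isQuasiCompactMor_of_eqvOver h.symm, isQuasiCompactMor_of_eqvOver h⟩

theorem isQuasiCompactMor_fpSnd {K : Precoverage Scheme.{u}} {𝒳 𝒴 𝒴' : AlgSt.Cat S}
    (f : 𝒳 ⥤ᵇ 𝒴) (g : 𝒴' ⥤ᵇ 𝒴) (hf : AlgSt.IsQuasiCompactMor K f) :
    AlgSt.IsQuasiCompactMor K (FibCat.fpSnd f g) :=
  isQuasiCompactMor_of_eqvOver (eqvOver_swap g f).symm (isQuasiCompactMor_fpFst f g hf)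

/-- S12986 -/
theorem isQuasiCompactMor_of_comp {𝒳 𝒴 𝒵 : AlgSt.Cat S}
    (h𝒳 : AlgSt.IsAlgStack Scheme.fppfPrecoverage 𝒳)
    (h𝒴 : AlgSt.IsAlgStack Scheme.fppfPrecoverage 𝒴)
    (h𝒵 : AlgSt.IsAlgStack Scheme.fppfPrecoverage 𝒵)
    (f : 𝒳 ⥤ᵇ 𝒴) (g : 𝒴 ⥤ᵇ 𝒵)
    (hc : AlgSt.IsQuasiCompactMor Scheme.fppfPrecoverage (BasedFunctor.comp f g))
    (hg : AlgSt.IsQuasiSeparatedMor g) : AlgSt.IsQuasiCompactMor Scheme.fppfPrecoverage f := by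
  have hΔ : AlgSt.RepByAlgSpWith AlgSp.IsQuasiCompactMor (FibCat.diag g) :=
    repByAlgSpWith_mono (fun _ _ _ h => h.1) _ hg
  have hΓ := Groth.Agent.Lib.Helper24.AlgStGraph.repByAlgSpWith_graph _ (BasedFunctor.comp f g) g f
    (Iso.refl _) hΔ
  have halg : AlgSt.IsAlgStack Scheme.fppfPrecoverage (FibCat.fp (BasedFunctor.comp f g) g) :=
    isAlgStack_fp h𝒵.isStack h𝒵.diag h𝒳 h𝒴 _ _
  have h1 := isQuasiCompactMor_of_repByAlgSpWith h𝒳 halg _ hΓ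
  have h2 := isQuasiCompactMor_fpSnd (BasedFunctor.comp f g) g hc
  exact isQuasiCompactMor_comp halg h𝒴 _ _ h1 h2

end Groth.Agent.Lib.Helper24.AlgStQCMor
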