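import Groth.Agent.Lib.Helper24.AlgStPts5
import Groth.Agent.Lib.Helper24.AlgStQCMor
import Groth.Agent.Lib.Helper24.AlgStMonoFull
import Groth.Agent.Lib.Helper14.AlgSpQC
set_option autoImplicit false
open CategoryTheory AlgebraicGeometry Opposite
universe w₁ v₁ w₂ v₂ w₃ v₃ u
set_option backward.isDefEq.respectTransparency false
set_option backward.isDefEq.respectTransparency.types false

/-! Quasi-compactness of algebraic stacks on points; monomorphisms are injective on points. -/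

noncomputable section

namespace Groth.Agent.Lib.Helper24.AlgStPts6
open AlgSt Groth.Agent.Lib.Helper24.AlgStPts1 Groth.Agent.Lib.Helper24.AlgStPts2
open Groth.Agent.Lib.Helper24.AlgStPts3 Groth.Agent.Lib.Helper24.AlgStPts4
open Groth.Agent.Lib.Helper24.AlgStPts5
open Groth.Agent.Lib.Helper24.AlgStRepS Groth.Agent.Lib.Helper24.PshBridge
open Groth.Agent.Lib.Helper24.AlgStBridge Groth.Agent.Lib.Helper24.AlgStRep
open Groth.Agent.Lib.Helper24.FibCatFpMap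
open Groth.Agent.Lib.Helper24.FibCatEquiv Groth.Agent.Lib.Helper24.FibCatFpGen
open Groth.Agent.Lib.Helper24.AlgStBoot
open Groth.Agent.Lib.Helper24.AlgStSchLocal
open Groth.Agent.Lib.Helper24.AlgStGC
open Groth.Agent.Lib.Helper24.AlgStProps Groth.Agent.Lib.Helper24.AlgStSmooth
open Groth.Agent.Lib.Helper24.AlgStFpAlg Groth.Agent.Lib.Helper24.AlgStSmLoc
open Groth.Agent.Lib.Helper24.AlgStQC Groth.Agent.Lib.Helper24.AlgStCalc
open Groth.Agent.Lib.Helper24.AlgStDiag Groth.Agent.Lib.Helper24.FibCatOverMap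
open Groth.Agent.Lib.Helper24.AlgStAtlas Groth.Agent.Lib.Helper24.AlgStDiagLft
open Groth.Agent.Lib.Helper24.AlgStQCMor
open Groth.Agent.Lib.Helper14.AS (openSub openSubι range_openSubι)

variable {S : Scheme.{u}}

/-- a compact open subset of `|𝒳|` is the image of a smooth chart from a quasi-compact scheme -/
theorem exists_compact_chart {𝒳 : AlgSt.Cat S} (h𝒳 : AlgSt.IsAlgStack Scheme.fppfPrecoverage 𝒳)
    (V : Set (Points 𝒳)) (hV : IsOpen V) (hVc : IsCompact V) :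
    ∃ (T : Over S) (c : FibCat.overCat T ⥤ᵇ 𝒳), CompactSpace ↥T.left ∧
      AlgSt.RepByAlgSpWith (AlgSp.LocP @Smooth) c ∧ Set.range (Points.ofChart c) = V := by
  obtain ⟨U, p, hp, hps⟩ := h𝒳.atlas
  have hc := continuous_ofChart h𝒳 p
  have ho := isOpenMap_ofChart h𝒳 p (repByAlgSpWith_locP_mono smooth_le_flat p hp)
    (repByAlgSpWith_locP_mono smooth_le_lfp p hp)
  let V' : U.left.Opens := ⟨Points.ofChart p ⁻¹' V, hc.isOpen_preimage V hV⟩
  have hex : ∀ u : V', ∃ W : U.left.Opens, IsAffineOpen W ∧ u.1 ∈ W ∧ W.1 ⊆ V' := fun u =>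
    exists_isAffineOpen_mem_and_subset (x := u.1) (U := V') u.2
  choose A hA1 hA2 hA3 using hex
  have hopen : ∀ u, IsOpen (Points.ofChart p '' (A u : Set U.left)) := fun u => ho _ (A u).isOpen
  have hcov : V ⊆ ⋃ u, Points.ofChart p '' (A u : Set U.left) := by
    intro y hy
    obtain ⟨u, rfl⟩ := surjective_ofChart h𝒳.isStack.1 p hps y
    exact Set.mem_iUnion.2 ⟨⟨u, hy⟩, u, hA2 ⟨u, hy⟩, rfl⟩
  obtain ⟨t, ht⟩ := hVc.elim_finite_subcover _ hopen hcov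
  let W : U.left.Opens := ⨆ u ∈ t, A u
  have hWset : (W : Set U.left) = ⋃ u ∈ t, (A u : Set U.left) := by
    simp [W]
  have hWc : IsCompact (W : Set U.left) := by
    rw [hWset]
    exact t.finite_toSet.isCompact_biUnion fun u _ => (hA1 u).isCompact
  have hU : FibCat.IsFibGrpd (FibCat.overCat U).p :=
    Groth.Agent.Lib.Helper24.StkFpCrit.isFibGrpd_overForget U
  have hT : FibCat.IsFibGrpd (FibCat.overCat (openSub U W)).p :=
    Groth.Agent.Lib.Helper24.StkFpCrit.isFibGrpd_overForget _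
  refine ⟨openSub U W, BasedFunctor.comp (AlgSt.overMap (openSubι U W)) p,
    isCompact_iff_compactSpace.mp hWc, ?_, ?_⟩
  · exact repByAlgSpWith_comp hT hU h𝒳.isStack.1 _ good_smooth.nice stableComp_smooth _ _
      (repByAlgSpWith_overMap_of_smooth (openSubι U W) inferInstance) hp
  · have e1 : Points.ofChart (BasedFunctor.comp (AlgSt.overMap (openSubι U W)) p) =
        Points.ofChart p ∘ (openSubι U W).left := by
      funext v
      exact ofChart_overMap _ _ _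
    rw [e1, Set.range_comp, range_openSubι, hWset, Set.image_iUnion₂]
    apply Set.Subset.antisymm
    · intro y hy
      simp only [Set.mem_iUnion] at hy
      obtain ⟨u, _, v, hv, rfl⟩ := hy
      exact hA3 u hv
    · exact ht

/-- S12847 -/
theorem isQuasiCompact_iff_compactSpace {𝒳 : AlgSt.Cat S}
    (h𝒳 : AlgSt.IsAlgStack Scheme.fppfPrecoverage 𝒳) :
    AlgSt.IsQuasiCompact 𝒳 ↔ CompactSpace (Points 𝒳) := by
  constructor
  · rintro ⟨A, a, hA, ha, ha'⟩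
    constructor
    have := (isCompact_univ (X := ↥A.left)).image (continuous_ofChart h𝒳 a)
    rwa [Set.image_univ, Set.range_eq_univ.2 (surjective_ofChart h𝒳.isStack.1 a ha')] at this
  · intro h
    obtain ⟨T, c, hT, hc, hr⟩ := exists_compact_chart h𝒳 Set.univ isOpen_univ isCompact_univ
    rw [isQuasiCompact_iff_compact_atlas h𝒳]
    refine ⟨T, c, hT, hc, ?_⟩
    have hT' : FibCat.IsFibGrpd (FibCat.overCat T).p :=
      Groth.Agent.Lib.Helper24.StkFpCrit.isFibGrpd_overForget _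
    refine (isSurjective_iff_repByAlgSpWith hT' h𝒳.isStack.1 c
      ((repByAlgSp1_iff_with_top c).2 (repByAlgSpWith_mono (fun _ _ _ _ => trivial) c hc))).1 ?_
    intro z
    obtain ⟨t, rfl⟩ := Set.range_eq_univ.1 hr z
    exact ⟨sch T t, rfl⟩

/-- S12858 -/
theorem isQuasiCompact_of_isSurjective {𝒰 𝒳 : AlgSt.Cat S}
    (h𝒰 : AlgSt.IsAlgStack Scheme.fppfPrecoverage 𝒰)
    (h𝒳 : AlgSt.IsAlgStack Scheme.fppfPrecoverage 𝒳) (f : 𝒰 ⥤ᵇ 𝒳) (hf : AlgSt.IsSurjective f)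
    (h𝒰' : AlgSt.IsQuasiCompact 𝒰) : AlgSt.IsQuasiCompact 𝒳 := by
  rw [isQuasiCompact_iff_compactSpace h𝒳]
  have := (isQuasiCompact_iff_compactSpace h𝒰).1 h𝒰'
  constructor
  have h := (isCompact_univ (X := Points 𝒰)).image (continuous_map h𝒳 f)
  rwa [Set.image_univ, Set.range_eq_univ.2 hf] at h

/-- S12985 -/
theorem isQuasiCompactMor_of_surjective_triangle {𝒳 𝒴 𝒵 : AlgSt.Cat S}
    (h𝒳 : AlgSt.IsAlgStack Scheme.fppfPrecoverage 𝒳)
    (h𝒴 : AlgSt.IsAlgStack Scheme.fppfPrecoverage 𝒴)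
    (h𝒵 : AlgSt.IsAlgStack Scheme.fppfPrecoverage 𝒵)
    (f : 𝒳 ⥤ᵇ 𝒴) (p : 𝒳 ⥤ᵇ 𝒵) (q : 𝒴 ⥤ᵇ 𝒵) (e : BasedFunctor.comp f q ≅ p)
    (hf : AlgSt.IsSurjective f) (hp : AlgSt.IsQuasiCompactMor Scheme.fppfPrecoverage p) :
    AlgSt.IsQuasiCompactMor Scheme.fppfPrecoverage q := by
  intro 𝒲 h𝒲 hq t
  have h1 : AlgSt.IsQuasiCompactMor Scheme.fppfPrecoverage (BasedFunctor.comp f q) :=
    isQuasiCompactMor_of_eqvOver (Groth.Agent.Lib.Helper24.AlgStEqv.EqvOver.of_iso e.symm) hp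
  have h2 := h1 𝒲 h𝒲 hq t
  have h3 := (isQuasiCompact_iff_of_isEquivOver _
    (Groth.Agent.Lib.Helper24.FibCatFpPaste.isEquivOver_Q (f := f) (g := q) (G := t))).2 h2
  have ha1 : AlgSt.IsAlgStack Scheme.fppfPrecoverage (FibCat.fp t q) :=
    isAlgStack_fp h𝒵.isStack h𝒵.diag h𝒲 h𝒴 t q
  have ha2 : AlgSt.IsAlgStack Scheme.fppfPrecoverage (FibCat.fp (FibCat.fpSnd t q) f) :=
    isAlgStack_fp h𝒴.isStack h𝒴.diag ha1 h𝒳 _ f
  exact isQuasiCompact_of_isSurjective ha2 ha1 (FibCat.fpFst (FibCat.fpSnd t q) f)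
    (isSurjective_fpFst h𝒳.isStack.1 h𝒴.isStack.1 ha1.isStack.1 f _ hf) h3


open Groth.Agent.Lib.Helper26.StackPoints in
/-- a full functor between categories fibred in groupoids is injective on points -/
theorem injective_map_of_full {𝒳 𝒴 : AlgSt.Cat S} (h𝒳 : FibCat.IsFibGrpd 𝒳.p)
    (h𝒴 : FibCat.IsFibGrpd 𝒴.p) (f : 𝒳 ⥤ᵇ 𝒴) [f.toFunctor.Full] :
    Function.Injective (Points.map f) := by
  intro x₁ x₂ h
  obtain ⟨p₁, rfl⟩ := Points.mk_surjective x₁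
  obtain ⟨p₂, rfl⟩ := Points.mk_surjective x₂
  have h' : FPt.Rel (p₁.map f) (p₂.map f) :=
    (rel_equivalence 𝒴 h𝒴).eqvGen_iff.1 (Quot.eqvGen_exact h)
  obtain ⟨r, a₀, b₀, -⟩ := h'
  let α : (Over.mk r.str : Over S) ⟶ Over.mk p₁.str := FPt.baseHom a₀
  let a : r.obj ⟶ f.obj p₁.obj := a₀
  let b : r.obj ⟶ f.obj p₂.obj := b₀
  have ha : 𝒴.p.IsHomLift α a := baseHom_isHomLift a₀
  have := h𝒳
  have := h𝒴
  obtain ⟨p', e, φ, hφ⟩ := exists_pullback_pt p₁ α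
  have hfφ : 𝒴.p.IsHomLift α (f.map φ) := inferInstance
  have c1 := isStronglyCartesian_of_isHomLift 𝒴.p α (f.map φ)
  let χ : r.obj ⟶ f.obj p' := Functor.IsStronglyCartesian.map 𝒴.p α (f.map φ) (g := 𝟙 _) (f' := α)
    (by simp) a
  have h1 : 𝒴.p.IsHomLift (𝟙 (Over.mk r.str)) χ := inferInstance
  have i1 : IsIso χ := isIso_of_lift_id 𝒴.p (R := Over.mk r.str) χ
  obtain ⟨ψ, -⟩ := f.toFunctor.map_surjective (inv χ ≫ b)
  exact Points.sound ⟨⟨r.K, r.str, p', e⟩, φ, ψ, trivial⟩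

/-- S12848 -/
theorem injective_map_of_isMono {𝒳 𝒴 : AlgSt.Cat S} (h𝒳 : FibCat.IsFibGrpd 𝒳.p)
    (h𝒴 : FibCat.IsFibGrpd 𝒴.p) (f : 𝒳 ⥤ᵇ 𝒴) (hf : AlgSt.IsMono f) :
    Function.Injective (Points.map f) := by
  obtain ⟨h1, -⟩ := Groth.Agent.Lib.Helper24.AlgStMonoFull.full_faithful_of_isMono h𝒳 h𝒴 f hf
  exact injective_map_of_full h𝒳 h𝒴 f

end Groth.Agent.Lib.Helper24.AlgStPts6
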