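import Groth.Agent.Lib.Helper24.AlgStOpenSub3
import Groth.Agent.Lib.Helper24.AlgStPts6
set_option autoImplicit false
open CategoryTheory AlgebraicGeometry Opposite
universe w u
set_option backward.isDefEq.respectTransparency false
set_option backward.isDefEq.respectTransparency.types false

/-! Unions of open substacks and quasi-compactness (S12861, S12862). -/

namespace Groth.Agent.Lib.Helper24.AlgStOpenSub4
open Groth.Agent.Lib.Helper24.AlgStPts1 Groth.Agent.Lib.Helper24.AlgStPts4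
open Groth.Agent.Lib.Helper24.AlgStPts6
open Groth.Agent.Lib.Helper24.AlgStOpenSub2 Groth.Agent.Lib.Helper24.AlgStOpenSub3
open CategoryTheory.Limits AlgSt

variable {S : Scheme.{u}} {𝒳 : AlgSt.Cat S}

/-- S12861 -/
theorem exists_union (h𝒳 : AlgSt.IsAlgStack Scheme.fppfPrecoverage 𝒳) {ι : Type w}
    (Q : ι → 𝒳.obj → Prop) (hQ : ∀ i, AlgSt.IsOpenSubstack 𝒳 (Q i) Scheme.fppfPrecoverage) :
    ∃ Q' : 𝒳.obj → Prop, AlgSt.IsOpenSubstack 𝒳 Q' Scheme.fppfPrecoverage ∧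
      (∀ i y, Q i y → Q' y) ∧
      Set.range (AlgSt.Points.map (AlgSt.subIncl 𝒳 Q')) =
        ⋃ i, Set.range (AlgSt.Points.map (AlgSt.subIncl 𝒳 (Q i))) := by
  refine ⟨QW (⋃ i, Set.range (AlgSt.Points.map (AlgSt.subIncl 𝒳 (Q i)))),
    isOpenSubstack_qW h𝒳 (isOpen_iUnion fun i => isOpen_range_of_isOpenSubstack h𝒳 (hQ i)), ?_,
    range_map_subIncl_qW _⟩
  intro i y hy
  rw [eq_qW_range h𝒳 (hQ i)] at hy
  exact qW_mono (Set.subset_iUnion _ i) hy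

/-- S12862 -/
theorem exists_finite_subcover (h𝒳 : AlgSt.IsAlgStack Scheme.fppfPrecoverage 𝒳)
    (Q' : 𝒳.obj → Prop) (hQ' : AlgSt.IsOpenSubstack 𝒳 Q' Scheme.fppfPrecoverage)
    (hqc : AlgSt.IsQuasiCompact (AlgSt.fullSub 𝒳 Q'))
    {ι : Type w} (Q : ι → 𝒳.obj → Prop)
    (hQ : ∀ i, AlgSt.IsOpenSubstack 𝒳 (Q i) Scheme.fppfPrecoverage)
    (hcov : Set.range (AlgSt.Points.map (AlgSt.subIncl 𝒳 Q')) ⊆
      ⋃ i, Set.range (AlgSt.Points.map (AlgSt.subIncl 𝒳 (Q i)))) :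
    ∃ I' : Finset ι, Set.range (AlgSt.Points.map (AlgSt.subIncl 𝒳 Q')) ⊆
      ⋃ i ∈ I', Set.range (AlgSt.Points.map (AlgSt.subIncl 𝒳 (Q i))) := by
  have hc : CompactSpace (Points (AlgSt.fullSub 𝒳 Q')) :=
    (isQuasiCompact_iff_compactSpace hQ'.2.1).1 hqc
  have hK : IsCompact (Set.range (AlgSt.Points.map (AlgSt.subIncl 𝒳 Q'))) :=
    isCompact_range (continuous_map h𝒳 _)
  exact hK.elim_finite_subcover _ (fun i => isOpen_range_of_isOpenSubstack h𝒳 (hQ i)) hcov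

end Groth.Agent.Lib.Helper24.AlgStOpenSub4
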