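import Groth.Agent.Lib.Helper24.AlgStOpenSub4
set_option autoImplicit false
open CategoryTheory AlgebraicGeometry Opposite
universe w u
set_option backward.isDefEq.respectTransparency false
set_option backward.isDefEq.respectTransparency.types false

/-! The image of an open part of an atlas is an open substack (S12860); cancellation of fully
faithful functors. -/

namespace Groth.Agent.Lib.Helper24.AlgStOpenSub5
open Groth.Agent.Lib.Helper24.FibCatFpMap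
open Groth.Agent.Lib.Helper24.FibCatEquiv Groth.Agent.Lib.Helper24.FibCatFpGen
open Groth.Agent.Lib.Helper24.AlgStPts1 Groth.Agent.Lib.Helper24.AlgStPts4
open Groth.Agent.Lib.Helper24.AlgStPts6 Groth.Agent.Lib.Helper24.AlgStPts7
open Groth.Agent.Lib.Helper24.AlgStOpenSub2 Groth.Agent.Lib.Helper24.AlgStOpenSub3
open Groth.Agent.Lib.Helper24.AlgStRep Groth.Agent.Lib.Helper24.AlgStRepS
open Groth.Agent.Lib.Helper24.AlgStSchLocal Groth.Agent.Lib.Helper24.AlgStProps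
open Groth.Agent.Lib.Helper24.AlgStSmooth Groth.Agent.Lib.Helper24.AlgStAtlas
open Groth.Agent.Lib.Helper24.AlgStCalc2 Groth.Agent.Lib.Helper24.AlgStDiagLft
open Groth.Agent.Lib.Helper26.StackPoints
open CategoryTheory.Limits AlgSt

variable {S : Scheme.{u}}

/-- a field-valued point with a morphism to a value of `c` is in the image of `c` -/
theorem mk_mem_range_of_hom {𝒜 𝒳 : AlgSt.Cat S} (h𝒜 : FibCat.IsFibGrpd 𝒜.p)
    (h𝒳 : FibCat.IsFibGrpd 𝒳.p) (c : 𝒜 ⥤ᵇ 𝒳) (a : 𝒜.obj) (p : FPt 𝒳) (m : p.obj ⟶ c.obj a) :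
    Points.mk p ∈ Set.range (Points.map c) := by
  have : FibCat.IsFibGrpd 𝒳.p := h𝒳
  let g : (Over.mk p.str : Over S) ⟶ 𝒜.p.obj a :=
    eqToHom p.lies.symm ≫ 𝒳.p.map m ≫ eqToHom (c.w_obj a)
  have hm : 𝒳.p.IsHomLift g m := IsHomLift.of_fac _ _ _ p.lies (c.w_obj a) rfl
  obtain ⟨a', φ, hφ⟩ := h𝒜.exists_lift (x := a) g
  have ha' : 𝒜.p.obj a' = Over.mk p.str := IsHomLift.domain_eq 𝒜.p g φ
  have hcφ : 𝒳.p.IsHomLift g (c.map φ) := inferInstance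
  have hc := isStronglyCartesian_of_isHomLift 𝒳.p g (c.map φ)
  let χ : p.obj ⟶ c.obj a' :=
    Functor.IsStronglyCartesian.map 𝒳.p g (c.map φ) (g := 𝟙 _) (f' := g) (by simp) m
  exact ⟨Points.mk ⟨p.K, p.str, a', ha'⟩, (Points.sound ⟨p, 𝟙 _, χ, trivial⟩).symm⟩

/-- cancellation of a fully faithful functor -/
theorem repByAlgSpWith_of_comp_full_faithful {𝒜 𝒴 𝒳 : AlgSt.Cat S}
    (P : MorphismProperty (AlgSp.Sp S)) (g : 𝒜 ⥤ᵇ 𝒴) (i : 𝒴 ⥤ᵇ 𝒳) [i.toFunctor.Full]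
    [i.toFunctor.Faithful] (h : AlgSt.RepByAlgSpWith P (BasedFunctor.comp g i)) :
    AlgSt.RepByAlgSpWith P g := by
  intro U y
  let eF : BasedFunctor.comp y i ≅ BasedFunctor.comp (BasedFunctor.id _) (BasedFunctor.comp y i) :=
    Iso.refl _
  let eG : BasedFunctor.comp g i ≅ BasedFunctor.comp (BasedFunctor.id _) (BasedFunctor.comp g i) :=
    Iso.refl _
  exact (exists_rep_iff_of_isEquivOver P (fpMap (BasedFunctor.id _) (BasedFunctor.id _) i eF eG)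
    (isEquivOver_fpMap _ _ _ eF eG (isEquivOver_id _) (isEquivOver_id _))
    (FibCat.fpFst (BasedFunctor.comp y i) (BasedFunctor.comp g i)) (FibCat.fpFst y g)
    (Iso.refl _)).1 (h U (BasedFunctor.comp y i))

instance subIncl_full {𝒳 : AlgSt.Cat S} (Q : 𝒳.obj → Prop) :
    (AlgSt.subIncl 𝒳 Q).toFunctor.Full := inferInstanceAs (ObjectProperty.ι Q).Full
instance subIncl_faithful {𝒳 : AlgSt.Cat S} (Q : 𝒳.obj → Prop) :
    (AlgSt.subIncl 𝒳 Q).toFunctor.Faithful := inferInstanceAs (ObjectProperty.ι Q).Faithful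

/-- factorisation through the open substack of the image -/
def toImage {𝒜 𝒳 : AlgSt.Cat S} (c : 𝒜 ⥤ᵇ 𝒳) (W : Set (Points 𝒳))
    (h : ∀ a, QW W (c.obj a)) : 𝒜 ⥤ᵇ AlgSt.fullSub 𝒳 (QW W) where
  toFunctor := ObjectProperty.lift (QW W) c.toFunctor h
  w := c.w

def toImageIso {𝒜 𝒳 : AlgSt.Cat S} (c : 𝒜 ⥤ᵇ 𝒳) (W : Set (Points 𝒳))
    (h : ∀ a, QW W (c.obj a)) :
    BasedFunctor.comp (toImage c W h) (AlgSt.subIncl 𝒳 (QW W)) ≅ c := Iso.refl _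

theorem qW_range {𝒜 𝒳 : AlgSt.Cat S} (h𝒜 : FibCat.IsFibGrpd 𝒜.p)
    (h𝒳 : FibCat.IsFibGrpd 𝒳.p) (c : 𝒜 ⥤ᵇ 𝒳) (a : 𝒜.obj) :
    QW (Set.range (Points.map c)) (c.obj a) := by
  rintro p ⟨m⟩
  exact mk_mem_range_of_hom h𝒜 h𝒳 c a p m

/-- the image of a smooth morphism from an algebraic stack, as an open substack -/
theorem exists_image_of_smooth {𝒜 𝒳 : AlgSt.Cat S}
    (h𝒜 : AlgSt.IsAlgStack Scheme.fppfPrecoverage 𝒜)
    (h𝒳 : AlgSt.IsAlgStack Scheme.fppfPrecoverage 𝒳) (c : 𝒜 ⥤ᵇ 𝒳)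
    (hc : AlgSt.RepByAlgSpWith (AlgSp.LocP @Smooth) c) :
    ∃ (W : Set (Points 𝒳)) (h : ∀ a, QW W (c.obj a)), IsOpen W ∧ W = Set.range (Points.map c) ∧
      AlgSt.RepByAlgSpWith (AlgSp.LocP @Smooth) (toImage c W h) ∧
      AlgSt.RepByAlgSpWith AlgSp.IsSurjectiveMor (toImage c W h) := by
  have hW : IsOpen (Set.range (Points.map c)) :=
    (isOpenMap_map_of_repByAlgSpWith h𝒜 h𝒳 c
      (repByAlgSpWith_locP_mono Groth.Agent.Lib.Helper24.AlgStDiagLft.smooth_le_flat _ hc)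
      (repByAlgSpWith_locP_mono Groth.Agent.Lib.Helper24.AlgStDiagLft.smooth_le_lfp _ hc)).isOpen_range
  have hq := qW_range h𝒜.isStack.1 h𝒳.isStack.1 c
  have hsm : AlgSt.RepByAlgSpWith (AlgSp.LocP @Smooth) (toImage c _ hq) :=
    repByAlgSpWith_of_comp_full_faithful _ (toImage c _ hq) (AlgSt.subIncl 𝒳 _) hc
  refine ⟨_, hq, hW, rfl, hsm, ?_⟩
  have hYfib := isFibGrpd_fullSub_qW h𝒳.isStack.1 (Set.range (Points.map c))
  rw [← Groth.Agent.Lib.Helper24.AlgStPts5.isSurjective_iff_repByAlgSpWith h𝒜.isStack.1 hYfib _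
    (repByAlgSp1_of_repByAlgSpWith _ _ hsm)]
  intro z
  have hz : Points.map (AlgSt.subIncl 𝒳 (QW (Set.range (Points.map c)))) z ∈
      Set.range (Points.map c) := by
    have := range_map_subIncl_qW (Set.range (Points.map c))
    exact this.subset ⟨z, rfl⟩
  obtain ⟨v, hv⟩ := hz
  refine ⟨v, injective_map_of_full hYfib h𝒳.isStack.1 (AlgSt.subIncl 𝒳 _) ?_⟩
  rw [← hv, ← map_comp]
  rfl

/-- S12860 -/
theorem exists_image_substack {𝒳 : AlgSt.Cat S}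
    (h𝒳 : AlgSt.IsAlgStack Scheme.fppfPrecoverage 𝒳) (U : AlgSp.Space S)
    (u : AlgSt.ofSp U.obj ⥤ᵇ 𝒳) (hu₁ : AlgSt.RepByAlgSpWith (AlgSp.LocP @Smooth) u)
    (V : AlgSp.Space S) (j : V ⟶ U) (hj : AlgSp.RepWith @IsOpenImmersion j.hom) :
    ∃ (𝒴 : AlgSt.Cat S) (i : 𝒴 ⥤ᵇ 𝒳) (g : AlgSt.ofSp V.obj ⥤ᵇ 𝒴),
      AlgSt.IsAlgStack Scheme.fppfPrecoverage 𝒴 ∧ AlgSt.IsOpenImm i ∧
        AlgSt.RepByAlgSpWith (AlgSp.LocP @Smooth) g ∧ AlgSt.RepByAlgSpWith AlgSp.IsSurjectiveMor g ∧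
          Nonempty (BasedFunctor.comp g i ≅ BasedFunctor.comp (AlgSt.ofSpMap j.hom) u) := by
  have hV : FibCat.IsFibGrpd (AlgSt.ofSp V.obj).p := Stk.isFibGrpd_ofPsh _
  have hU : FibCat.IsFibGrpd (AlgSt.ofSp U.obj).p := Stk.isFibGrpd_ofPsh _
  have hj' : AlgSt.RepByAlgSpWith (AlgSp.LocP @Smooth) (AlgSt.ofSpMap j.hom) :=
    repByAlgSpWith_ofSpMap _ good_smooth.bc j.hom
      (Groth.Agent.Lib.Helper14.AS.locP_of_repWith Groth.Agent.Lib.Helper14.AS.etale_le_smooth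
        (Groth.Agent.Lib.Helper14.AS.repWith_mono openImm_le_smooth hj))
  have hc : AlgSt.RepByAlgSpWith (AlgSp.LocP @Smooth)
      (BasedFunctor.comp (AlgSt.ofSpMap j.hom) u) :=
    repByAlgSpWith_comp hV hU h𝒳.isStack.1 _ good_smooth.nice stableComp_smooth _ _ hj' hu₁
  obtain ⟨W, h, hW, -, h1, h2⟩ := exists_image_of_smooth (isAlgStack_ofSp V) h𝒳 _ hc
  exact ⟨AlgSt.fullSub 𝒳 (QW W), AlgSt.subIncl 𝒳 (QW W), toImage _ W h,
    isAlgStack_fullSub_qW h𝒳 hW, isOpenImm_subIncl_qW h𝒳 hW, h1, h2, ⟨toImageIso _ W h⟩⟩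

end Groth.Agent.Lib.Helper24.AlgStOpenSub5
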