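import Groth.Agent.Lib.Helper24.AlgStLocQ13
set_option autoImplicit false
open CategoryTheory AlgebraicGeometry Opposite
universe w₁ v₁ w₂ v₂ w₃ v₃ w₄ v₄ u
set_option backward.isDefEq.respectTransparency false
set_option backward.isDefEq.respectTransparency.types false

/-! Universally (open / closed / injective / submersive / homeomorphic) morphisms of algebraic
stacks representable by algebraic spaces, read on points (S12826–S12830). -/

namespace Groth.Agent.Lib.Helper24.AlgStUniv1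
open Groth.Agent.Lib.Helper24.FibCatFpMap
open Groth.Agent.Lib.Helper24.FibCatEquiv Groth.Agent.Lib.Helper24.FibCatFpGen
open Groth.Agent.Lib.Helper24.AlgStRep
open Groth.Agent.Lib.Helper24.AlgStBridge Groth.Agent.Lib.Helper24.AlgStBoot
open Groth.Agent.Lib.Helper24.AlgStRepS
open Groth.Agent.Lib.Helper24.AlgStSchLocal
open Groth.Agent.Lib.Helper24.AlgStGC
open Groth.Agent.Lib.Helper24.AlgStProps Groth.Agent.Lib.Helper24.AlgStSmooth
open Groth.Agent.Lib.Helper24.AlgStFpAlg Groth.Agent.Lib.Helper24.AlgStSmLoc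
open Groth.Agent.Lib.Helper24.AlgStEqv Groth.Agent.Lib.Helper24.PshBridge
open Groth.Agent.Lib.Helper24.AlgStLocQ1 Groth.Agent.Lib.Helper24.FibCatFpMapL
open Groth.Agent.Lib.Helper24.AlgStLocQ2 Groth.Agent.Lib.Helper24.FibCatFpLiftIso
open Groth.Agent.Lib.Helper24.AlgStLocQ3 Groth.Agent.Lib.Helper24.AlgStProdAlg
open Groth.Agent.Lib.Helper24.AlgStLocQ4 Groth.Agent.Lib.Helper24.AlgStLocQ5
open Groth.Agent.Lib.Helper24.AlgStLocQ6 Groth.Agent.Lib.Helper24.AlgStLocQ7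
open Groth.Agent.Lib.Helper24.AlgStLocQ8 Groth.Agent.Lib.Helper24.AlgStLocQ9
open Groth.Agent.Lib.Helper24.AlgStLocQ10 Groth.Agent.Lib.Helper24.AlgStLocQ12
open Groth.Agent.Lib.Helper24.AlgStLocQ13
open Groth.Agent.Lib.Helper24.AlgStCalc Groth.Agent.Lib.Helper24.AlgStDiag
open Groth.Agent.Lib.Helper24.AlgStCalc2 Groth.Agent.Lib.Helper24.AlgStDescent
open Groth.Agent.Lib.Helper24.FibCatOverMap Groth.Agent.Lib.Helper24.AlgStAtlas
open Groth.Agent.Lib.Helper24.FibCatGraph Groth.Agent.Lib.Helper24.AlgStDiagLft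
open Groth.Agent.Lib.Helper24.FibCatFpSwap Groth.Agent.Lib.Helper24.AlgStProd
open Groth.Agent.Lib.Helper24.AlgSpSmLocal
open Groth.Agent.Lib.Helper24.AlgStPts1 Groth.Agent.Lib.Helper24.AlgStPts2
open Groth.Agent.Lib.Helper24.AlgStPts3 Groth.Agent.Lib.Helper24.AlgStPts4
open Groth.Agent.Lib.Helper24.AlgStPts5 Groth.Agent.Lib.Helper24.AlgStPts7
open CategoryTheory.Limits AlgSt

variable {S : Scheme.{u}}

section Homeo

/-- `|F| → |ofSp F|` is continuous -/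
theorem continuous_toPts (F : AlgSp.Space S) : Continuous (toPts F.obj) := by
  rw [continuous_def]
  intro W hW
  rw [AlgSp.Points.isOpen_iff]
  intro T g
  have h1 := (continuous_ofChart (isAlgStack_ofSp F)
    (BasedFunctor.comp (AlgSt.ofOverCat T) (AlgSt.ofSpMap g))).isOpen_preimage W hW
  exact h1

/-- `|ofSp F| → |F|` is continuous -/
theorem continuous_ofPts (F : AlgSp.Space S) : Continuous (ofPts F.obj) := by
  rw [continuous_def]
  intro W hW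
  rw [Points.isOpen_iff]
  intro U x _
  -- `x ≅ ofOverCat U ≫ ofSpMap g`
  let Φ : AlgSt.ofSp ((AlgSp.yon S).obj U) ⥤ᵇ AlgSt.ofSp F.obj :=
    BasedFunctor.comp (AlgSt.toOverCat U) x
  have i1 : x ≅ BasedFunctor.comp (AlgSt.ofOverCat U) (AlgSt.ofSpMap (spMapOf Φ)) :=
    (Iso.refl _ : x ≅ BasedFunctor.comp (AlgSt.ofOverCat U) Φ).trans
      (whiskerLeftIso (AlgSt.ofOverCat U) (isoOfPshMap Φ))
  rw [ofChart_congr i1]
  have h1 := (AlgSp.Points.isOpen_iff.1 hW) U (spMapOf Φ)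
  have h2 : Points.ofChart (BasedFunctor.comp (AlgSt.ofOverCat U) (AlgSt.ofSpMap (spMapOf Φ))) ⁻¹'
      (ofPts F.obj ⁻¹' W) = AlgSp.Points.ofPt (spMapOf Φ) ⁻¹' W := by
    ext t
    simp only [Set.mem_preimage]
    rw [← toPts_ofPt, ofPts_toPts]
  rw [h2]
  exact h1

/-- `|F| ≃ₜ |ofSp F|` -/
noncomputable def ptsHomeo (F : AlgSp.Space S) : AlgSp.Points F.obj ≃ₜ Points (AlgSt.ofSp F.obj) where
  toEquiv := ptsEquiv F.obj
  continuous_toFun := continuous_toPts F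
  continuous_invFun := continuous_ofPts F

/-- an equivalence of algebraic stacks induces a homeomorphism on points -/
theorem exists_homeo_of_isEquivOver {𝒜 ℬ : AlgSt.Cat S}
    (h𝒜 : AlgSt.IsAlgStack Scheme.fppfPrecoverage 𝒜)
    (hℬ : AlgSt.IsAlgStack Scheme.fppfPrecoverage ℬ) (e : 𝒜 ⥤ᵇ ℬ) (he : FibCat.IsEquivOver e) :
    ∃ h : Points 𝒜 ≃ₜ Points ℬ, ∀ x, h x = Points.map e x := by
  obtain ⟨e', ⟨α⟩, ⟨β⟩⟩ := he
  refine ⟨⟨⟨Points.map e, Points.map e', fun x => ?_, fun x => ?_⟩, continuous_map hℬ e,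
    continuous_map h𝒜 e'⟩, fun _ => rfl⟩
  · rw [← map_comp, map_congr α, map_id]
  · rw [← map_comp, map_congr β, map_id]

end Homeo

section TopProps

/-- a property of maps of topological spaces, invariant under homeomorphisms of source and target -/
structure TopInv (Q : ∀ (X Y : Type (u + 1)) [TopologicalSpace X] [TopologicalSpace Y],
    (X → Y) → Prop) : Prop where
  homeo : ∀ {X X' Y Y' : Type (u + 1)} [TopologicalSpace X] [TopologicalSpace X']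
    [TopologicalSpace Y] [TopologicalSpace Y'] (h₁ : X' ≃ₜ X) (h₂ : Y ≃ₜ Y') (φ : X → Y),
    Q X Y φ → Q X' Y' (h₂ ∘ φ ∘ h₁)

/-- ... which moreover descends along squares with open continuous surjective horizontal maps that
are surjective on fibre products -/
structure TopDesc (Q : ∀ (X Y : Type (u + 1)) [TopologicalSpace X] [TopologicalSpace Y],
    (X → Y) → Prop) : Prop extends TopInv Q where
  desc : ∀ {A B C D : Type (u + 1)} [TopologicalSpace A] [TopologicalSpace B]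
    [TopologicalSpace C] [TopologicalSpace D] (p : A → B) (q : C → D) (a : A → C) (b : B → D),
    Continuous p → Function.Surjective p → Continuous q → IsOpenMap q →
    Function.Surjective q → Continuous a → Continuous b → (∀ x, b (p x) = q (a x)) →
    (∀ c b', q c = b b' → ∃ x, a x = c ∧ p x = b') → Q A C a → Q B D b

variable {Q : ∀ (X Y : Type (u + 1)) [TopologicalSpace X] [TopologicalSpace Y], (X → Y) → Prop}

theorem TopInv.iff (hQ : TopInv Q) {X X' Y Y' : Type (u + 1)} [TopologicalSpace X]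
    [TopologicalSpace X'] [TopologicalSpace Y] [TopologicalSpace Y'] (h₁ : X' ≃ₜ X)
    (h₂ : Y ≃ₜ Y') (φ : X → Y) (ψ : X' → Y') (hψ : ∀ x, ψ x = h₂ (φ (h₁ x))) :
    Q X Y φ ↔ Q X' Y' ψ := by
  have e1 : ψ = h₂ ∘ φ ∘ h₁ := funext hψ
  have e2 : φ = h₂.symm ∘ ψ ∘ h₁.symm := by
    funext x
    simp [hψ]
  constructor
  · intro h
    rw [e1]
    exact hQ.homeo h₁ h₂ φ h
  · intro h
    rw [e2]
    exact hQ.homeo h₁.symm h₂.symm ψ h

theorem topDesc_isOpenMap : TopDesc.{u} (fun _ _ _ _ φ => IsOpenMap φ) where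
  homeo h₁ h₂ φ h := h₂.isOpenMap.comp (h.comp h₁.isOpenMap)
  desc p q a b hp hps _ hqo _ _ _ hcomm _ ha := by
    intro W hW
    have : b '' W = q '' (a '' (p ⁻¹' W)) := by
      ext d
      constructor
      · rintro ⟨w, hw, rfl⟩
        obtain ⟨x, rfl⟩ := hps w
        exact ⟨a x, ⟨x, hw, rfl⟩, (hcomm x).symm⟩
      · rintro ⟨_, ⟨x, hx, rfl⟩, rfl⟩
        exact ⟨p x, hx, hcomm x⟩
    rw [this]
    exact hqo _ (ha _ (hW.preimage hp))

theorem topDesc_isClosedMap : TopDesc.{u} (fun _ _ _ _ φ => IsClosedMap φ) where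
  homeo h₁ h₂ φ h := h₂.isClosedMap.comp (h.comp h₁.isClosedMap)
  desc p q a b hp _ hq hqo hqs _ _ hcomm hfib ha := by
    intro W hW
    have hquot : Topology.IsQuotientMap q := (IsOpenQuotientMap.mk hqs hq hqo).isQuotientMap
    rw [← hquot.isClosed_preimage]
    have : q ⁻¹' (b '' W) = a '' (p ⁻¹' W) := by
      ext c
      constructor
      · rintro ⟨w, hw, hwc⟩
        obtain ⟨x, rfl, rfl⟩ := hfib c w hwc.symm
        exact ⟨x, hw, rfl⟩
      · rintro ⟨x, hx, rfl⟩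
        exact ⟨p x, hx, hcomm x⟩
    rw [this]
    exact ha _ (hW.preimage hp)

theorem topDesc_injective : TopDesc.{u} (fun _ _ _ _ φ => Function.Injective φ) where
  homeo h₁ h₂ φ h := h₂.injective.comp (h.comp h₁.injective)
  desc p q a b _ _ _ _ hqs _ _ _ hfib ha := by
    intro w₁ w₂ h
    obtain ⟨c, hc⟩ := hqs (b w₁)
    obtain ⟨x₁, h1, rfl⟩ := hfib c w₁ hc
    obtain ⟨x₂, h2, rfl⟩ := hfib c w₂ (hc.trans h)
    rw [ha (h1.trans h2.symm)]

theorem topDesc_isQuotientMap : TopDesc.{u} (fun _ _ _ _ φ => Topology.IsQuotientMap φ) where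
  homeo h₁ h₂ φ h := h₂.isQuotientMap.comp (h.comp h₁.isQuotientMap)
  desc p q a b hp _ hq hqo hqs _ hb hcomm _ ha := by
    have hquot : Topology.IsQuotientMap q := (IsOpenQuotientMap.mk hqs hq hqo).isQuotientMap
    have h1 : Topology.IsQuotientMap (b ∘ p) := by
      have : b ∘ p = q ∘ a := funext hcomm
      rw [this]
      exact hquot.comp ha
    exact Topology.IsQuotientMap.of_comp hp hb h1

theorem topDesc_isHomeomorph : TopDesc.{u} (fun _ _ _ _ φ => IsHomeomorph φ) where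
  homeo h₁ h₂ φ h := h₂.isHomeomorph.comp (h.comp h₁.isHomeomorph)
  desc p q a b hp hps hq hqo hqs hac hb hcomm hfib ha := by
    refine ⟨hb, topDesc_isOpenMap.desc p q a b hp hps hq hqo hqs hac hb hcomm hfib ha.isOpenMap,
      topDesc_injective.desc p q a b hp hps hq hqo hqs hac hb hcomm hfib ha.injective, ?_⟩
    intro d
    obtain ⟨c, rfl⟩ := hqs d
    obtain ⟨x, rfl⟩ := ha.surjective c
    exact ⟨p x, hcomm x⟩

end TopProps

section Main
variable {Q : ∀ (X Y : Type (u + 1)) [TopologicalSpace X] [TopologicalSpace Y], (X → Y) → Prop}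

/-- the property of morphisms of sheaves read on points -/
def Qsp (Q : ∀ (X Y : Type (u + 1)) [TopologicalSpace X] [TopologicalSpace Y], (X → Y) → Prop) :
    MorphismProperty (AlgSp.Sp S) := fun F G m => Q (AlgSp.Points F) (AlgSp.Points G) (AlgSp.Points.map m)

/-- transfer between points of stacks and points of sheaves -/
theorem q_map_iff (hQ : TopInv Q) {𝒜 ℬ : AlgSt.Cat S}
    (h𝒜 : AlgSt.IsAlgStack Scheme.fppfPrecoverage 𝒜)
    (hℬ : AlgSt.IsAlgStack Scheme.fppfPrecoverage ℬ) (Φ : 𝒜 ⥤ᵇ ℬ) {A B : AlgSp.Space S}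
    (eA : AlgSt.ofSp A.obj ⥤ᵇ 𝒜) (eB : ℬ ⥤ᵇ AlgSt.ofSp B.obj) (hA : FibCat.IsEquivOver eA)
    (hB : FibCat.IsEquivOver eB) :
    Q _ _ (Points.map Φ) ↔
      Qsp Q (spMapOf (BasedFunctor.comp eA (BasedFunctor.comp Φ eB))) := by
  obtain ⟨k₁, hk₁⟩ := exists_homeo_of_isEquivOver (isAlgStack_ofSp A) h𝒜 eA hA
  obtain ⟨k₂, hk₂⟩ := exists_homeo_of_isEquivOver hℬ (isAlgStack_ofSp B) eB hB
  refine hQ.iff ((ptsHomeo A).trans k₁) (k₂.trans (ptsHomeo B).symm) _ _ fun x => ?_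
  change _ = ofPts B.obj (k₂ (Points.map Φ (k₁ (toPts A.obj x))))
  rw [hk₁, hk₂, ← map_comp, ← map_comp]
  have h1 : Points.map (BasedFunctor.comp eA (BasedFunctor.comp Φ eB)) (toPts A.obj x) =
      Points.map (AlgSt.ofSpMap (spMapOf (BasedFunctor.comp eA (BasedFunctor.comp Φ eB))))
        (toPts A.obj x) :=
    congrFun (map_congr (isoOfPshMap (BasedFunctor.comp eA (BasedFunctor.comp Φ eB)))) _
  rw [h1, map_ofSpMap_toPts, ofPts_toPts]

theorem qsp_respectsIso (hQ : TopInv Q) : (Qsp (S := S) Q).RespectsIso := by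
  have key : ∀ {X Y : AlgSp.Sp S} (e : X ≅ Y), ∃ h : AlgSp.Points X ≃ₜ AlgSp.Points Y,
      ∀ x, h x = AlgSp.Points.map e.hom x := fun e =>
    ⟨⟨⟨AlgSp.Points.map e.hom, AlgSp.Points.map e.inv,
      fun x => by rw [← AlgSp.Points.map_comp, e.hom_inv_id, AlgSp.Points.map_id],
      fun x => by rw [← AlgSp.Points.map_comp, e.inv_hom_id, AlgSp.Points.map_id]⟩,
      AlgSp.Points.continuous_map _, AlgSp.Points.continuous_map _⟩, fun _ => rfl⟩
  apply MorphismProperty.RespectsIso.mk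
  · intro X Y Z e f hf
    obtain ⟨h, hh⟩ := key e
    exact (hQ.iff h (Homeomorph.refl _) (AlgSp.Points.map f) (AlgSp.Points.map (e.hom ≫ f))
      (fun x => by rw [AlgSp.Points.map_comp, hh]; rfl)).1 hf
  · intro X Y Z e f hf
    obtain ⟨h, hh⟩ := key e
    exact (hQ.iff (Homeomorph.refl _) h (AlgSp.Points.map f) (AlgSp.Points.map (f ≫ e.hom))
      (fun x => by rw [AlgSp.Points.map_comp, hh]; rfl)).1 hf

theorem phat_qsp_respectsIso (hQ : TopInv Q) : (Phat (Qsp (S := S) Q)).RespectsIso := by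
  have h0 := qsp_respectsIso (S := S) hQ
  apply MorphismProperty.RespectsIso.mk
  · intro X Y Z e f hf _ _
    exact h0.precomp _ e.hom f (hf (AlgSp.IsAlgSpace.of_iso ‹_› e) ‹_›)
  · intro X Y Z e f hf _ _
    exact h0.postcomp _ e.hom f (hf ‹_› (AlgSp.IsAlgSpace.of_iso ‹_› e.symm))

/-- `PT (Qsp Q) Φ` is `Q` on points -/
theorem pt_qsp_iff (hQ : TopInv Q) {𝒜 ℬ : AlgSt.Cat S} (h𝒜 : AlgSt.RepByAlgSp 𝒜)
    (hℬ : AlgSt.RepByAlgSp ℬ) (Φ : 𝒜 ⥤ᵇ ℬ) : PT (Qsp Q) Φ ↔ Q _ _ (Points.map Φ) := by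
  have h𝒜' := isAlgStack_of_repByAlgSp h𝒜
  have hℬ' := isAlgStack_of_repByAlgSp hℬ
  constructor
  · rintro ⟨F, G, eA, eB, hA, hB, hp⟩
    exact (q_map_iff hQ h𝒜' hℬ' Φ eA eB hA hB).2 hp
  · intro h
    obtain ⟨F, eA, hA⟩ := h𝒜
    obtain ⟨G, eB', hB'⟩ := hℬ
    obtain ⟨eB, hB⟩ := exists_inverse_isEquivOver eB' hB'
    exact ⟨F, G, eA, eB, hA, hB, (q_map_iff hQ h𝒜' hℬ' Φ eA eB hA hB).1 h⟩

variable {𝒳 𝒴 : AlgSt.Cat S} (h𝒳 : AlgSt.IsAlgStack Scheme.fppfPrecoverage 𝒳)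
  (h𝒴 : AlgSt.IsAlgStack Scheme.fppfPrecoverage 𝒴) (f : 𝒳 ⥤ᵇ 𝒴)

/-- `Q` on points is invariant under equivalences of the source over the target -/
theorem q_of_eqvOver (hQ : TopInv Q) {𝒜 𝒜' ℬ : AlgSt.Cat S}
    (h𝒜 : AlgSt.IsAlgStack Scheme.fppfPrecoverage 𝒜)
    (h𝒜' : AlgSt.IsAlgStack Scheme.fppfPrecoverage 𝒜') {φ : 𝒜 ⥤ᵇ ℬ} {φ' : 𝒜' ⥤ᵇ ℬ}
    (h : EqvOver φ φ') : Q _ _ (Points.map φ) ↔ Q _ _ (Points.map φ') := by
  obtain ⟨k, hk, ⟨i⟩⟩ := h
  obtain ⟨κ, hκ⟩ := exists_homeo_of_isEquivOver h𝒜 h𝒜' k hk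
  refine (hQ.iff κ (Homeomorph.refl _) (Points.map φ') (Points.map φ) fun x => ?_).symm
  rw [hκ, ← map_comp, map_congr i]
  rfl

include h𝒳 h𝒴 in
/-- S12826–S12830, (⟹) -/
theorem q_of_repByAlgSpWith (hQ : TopDesc Q)
    (H : AlgSt.RepByAlgSpWith (AlgSp.UnivSp (Qsp Q)) f) (𝒵 : AlgSt.Cat S)
    (h𝒵 : AlgSt.IsAlgStack Scheme.fppfPrecoverage 𝒵) (g : 𝒵 ⥤ᵇ 𝒴) :
    Q _ _ (Points.map (FibCat.fpFst g f)) := by
  obtain ⟨V, z, hz, hz'⟩ := h𝒵.atlas
  have hfV : FibCat.IsFibGrpd (FibCat.overCat V).p := StkFpCrit.isFibGrpd_overForget V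
  have hValg : AlgSt.IsAlgStack Scheme.fppfPrecoverage (FibCat.overCat V) :=
    isAlgStack_of_repByAlgSp (repByAlgSp_overCat V)
  have hfp : AlgSt.IsAlgStack Scheme.fppfPrecoverage (FibCat.fp g f) :=
    isAlgStack_fp h𝒴.isStack h𝒴.diag h𝒵 h𝒳 g f
  have hfp2 : AlgSt.IsAlgStack Scheme.fppfPrecoverage (FibCat.fp z (FibCat.fpFst g f)) :=
    isAlgStack_fp h𝒵.isStack h𝒵.diag hValg hfp z (FibCat.fpFst g f)
  have hfp3 : AlgSt.IsAlgStack Scheme.fppfPrecoverage (FibCat.fp (BasedFunctor.comp z g) f) :=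
    isAlgStack_fp h𝒴.isStack h𝒴.diag hValg h𝒳 (BasedFunctor.comp z g) f
  obtain ⟨F, e, he, hp⟩ := H V (BasedFunctor.comp z g)
  have hq : Qsp Q (AlgSt.spMapOfOver (BasedFunctor.comp e (FibCat.fpFst (BasedFunctor.comp z g) f))) :=
    hp (AlgSp.IsAlgSpace.yon_obj V) (𝟙 _) (𝟙 _) _ (IsPullback.id_horiz _)
  rw [spMapOfOver_eq] at hq
  have h1 : Q _ _ (Points.map (FibCat.fpFst (BasedFunctor.comp z g) f)) :=
    (q_map_iff hQ.toTopInv hfp3 hValg _
      (B := ⟨(AlgSp.yon S).obj V, AlgSp.IsAlgSpace.yon_obj V⟩) e (AlgSt.ofOverCat V) he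
      (isEquivOver_ofOverCat V)).2 hq
  have h2 : Q _ _ (Points.map (FibCat.fpFst z (FibCat.fpFst g f))) :=
    (q_of_eqvOver hQ.toTopInv hfp2 hfp3 (eqvOver_paste g f z)).2 h1
  have hsm := repByAlgSpWith_fpSnd _ z (FibCat.fpFst g f) hz
  refine hQ.desc (Points.map (FibCat.fpSnd z (FibCat.fpFst g f))) (Points.map z)
    (Points.map (FibCat.fpFst z (FibCat.fpFst g f))) (Points.map (FibCat.fpFst g f))
    (continuous_map hfp _)
    (isSurjective_fpSnd hfV h𝒵.isStack.1 hfp.isStack.1 z (FibCat.fpFst g f)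
      (surjective_map_of_repByAlgSpWith h𝒵.isStack.1 z hz'))
    (continuous_map h𝒵 _)
    (isOpenMap_map_of_repByAlgSpWith hValg h𝒵 z
      (repByAlgSpWith_locP_mono Groth.Agent.Lib.Helper24.AlgStDiagLft.smooth_le_flat z hz)
      (repByAlgSpWith_locP_mono Groth.Agent.Lib.Helper24.AlgStDiagLft.smooth_le_lfp z hz))
    (surjective_map_of_repByAlgSpWith h𝒵.isStack.1 z hz')
    (continuous_map hValg _) (continuous_map h𝒵 _) (fun x => ?_) (fun c b' hcb => ?_) h2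
  · rw [← map_comp, ← map_comp]
    exact congrFun (map_congr (FibCat.fpIso z (FibCat.fpFst g f)).symm) x
  · obtain ⟨w, hw1, hw2⟩ := Groth.Agent.Lib.Helper26.StackPoints.exists_points_fp
      hfp.isStack.1 h𝒵.isStack.1 hfV (FibCat.fpFst g f) z c b' hcb
    exact ⟨w, hw1, hw2⟩

include h𝒳 h𝒴 in
/-- S12826–S12830, (⟸) -/
theorem repByAlgSpWith_of_q (hQ : TopInv Q) (hf : AlgSt.RepByAlgSp1 f)
    (H : ∀ (𝒵 : AlgSt.Cat S), AlgSt.IsAlgStack Scheme.fppfPrecoverage 𝒵 → ∀ (g : 𝒵 ⥤ᵇ 𝒴),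
      Q _ _ (Points.map (FibCat.fpFst g f))) :
    AlgSt.RepByAlgSpWith (AlgSp.UnivSp (Qsp Q)) f := by
  have hPi := phat_qsp_respectsIso (S := S) hQ
  have hQi := qsp_respectsIso (S := S) hQ
  intro U y
  obtain ⟨F, e, he⟩ := hf U y
  refine ⟨F, e, he, ?_⟩
  intro Z Z' hZ g fst snd sq
  rw [spMapOfOver_eq] at sq
  have hUalg : AlgSt.IsAlgStack Scheme.fppfPrecoverage (FibCat.overCat U) :=
    isAlgStack_of_repByAlgSp (repByAlgSp_overCat U)
  have hZalg := isAlgStack_ofSp ⟨Z, hZ⟩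
  have hyf : AlgSt.IsAlgStack Scheme.fppfPrecoverage (FibCat.fp y f) :=
    isAlgStack_fp h𝒴.isStack h𝒴.diag hUalg h𝒳 y f
  let β : AlgSt.ofSp Z ⥤ᵇ FibCat.overCat U :=
    BasedFunctor.comp (AlgSt.ofSpMap g) (AlgSt.toOverCat U)
  have hβf : AlgSt.IsAlgStack Scheme.fppfPrecoverage (FibCat.fp β (FibCat.fpFst y f)) :=
    isAlgStack_fp hUalg.isStack hUalg.diag hZalg hyf β (FibCat.fpFst y f)
  have hβyf : AlgSt.IsAlgStack Scheme.fppfPrecoverage (FibCat.fp (BasedFunctor.comp β y) f) :=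
    isAlgStack_fp h𝒴.isStack h𝒴.diag hZalg h𝒳 (BasedFunctor.comp β y) f
  -- `Q` on the base change to `ofSp Z`
  have h1 : Q _ _ (Points.map (FibCat.fpFst β (FibCat.fpFst y f))) :=
    (q_of_eqvOver hQ hβf hβyf (eqvOver_paste y f β)).2 (H _ hZalg (BasedFunctor.comp β y))
  have hrep : AlgSt.RepByAlgSp (FibCat.fp β (FibCat.fpFst y f)) :=
    repByAlgSp1_of_diag hUalg.isStack.1 hUalg.diag hZalg.isStack.1 hyf.isStack.1
      (repByAlgSp_ofSp ⟨Z, hZ⟩) ⟨F, e, he⟩ β (FibCat.fpFst y f)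
  have h2 : PT (Qsp Q) (FibCat.fpFst β (FibCat.fpFst y f)) :=
    (pt_qsp_iff hQ hrep (repByAlgSp_ofSp ⟨Z, hZ⟩) _).2 h1
  have h3 := (pt_fpFst_iff hPi (F := F) (G := ⟨(AlgSp.yon S).obj U, AlgSp.IsAlgSpace.yon_obj U⟩)
    (G' := ⟨Z, hZ⟩) e (AlgSt.ofOverCat U) (BasedFunctor.id _) he (isEquivOver_ofOverCat U)
    (isEquivOver_id _) β (FibCat.fpFst y f)).1 h2
  have e2 : spMapOf (BasedFunctor.comp (BasedFunctor.id (AlgSt.ofSp Z))
      (BasedFunctor.comp β (AlgSt.ofOverCat U))) = g :=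
    (spMapOf_congr (Iso.refl _ : _ ≅ AlgSt.ofSpMap g)).trans (spMapOf_ofSpMap g)
  rw [e2] at h3
  -- compare the two pullbacks
  have i0 : (sq.isoPullback).hom ≫ pullback.snd _ _ = snd := sq.isoPullback_hom_snd
  rw [← i0]
  exact hQi.precomp _ _ _ h3

end Main

end Groth.Agent.Lib.Helper24.AlgStUniv1
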