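import Groth.Agent.Lib.Helper24.GerbRes2
import Groth.Agent.Lib.Helper24.AlgStFppfCrit
import Groth.Agent.Lib.Helper24.AlgStClosedSub
import Groth.Agent.Lib.Helper24.AlgStMonoFull
import Groth.Agent.Lib.Helper24.AlgStPts7
set_option autoImplicit false
open CategoryTheory AlgebraicGeometry Opposite
universe u
set_option backward.isDefEq.respectTransparency false
set_option backward.isDefEq.respectTransparency.types false

/-! Morphisms representable by isomorphisms are equivalences; monomorphisms into stacks covered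
by the spectrum of a field. -/

namespace Groth.Agent.Lib.Helper24.GerbRes3
open Groth.Agent.Lib.Helper24.GerbRes1 Groth.Agent.Lib.Helper24.GerbRes2
open Groth.Agent.Lib.Helper24.FibCatFpGen Groth.Agent.Lib.Helper24.FibGrpd
open Groth.Agent.Lib.Helper24.FibCatYoneda Groth.Agent.Lib.Helper24.FibCatEquiv
open Groth.Agent.Lib.Helper24.FibCatInertiaEquiv
open Groth.Agent.Lib.Helper24.AlgStPts1 Groth.Agent.Lib.Helper24.AlgStPts2
open Groth.Agent.Lib.Helper24.AlgStPts3 Groth.Agent.Lib.Helper24.AlgStPts5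
open Groth.Agent.Lib.Helper24.AlgStPts7
open Groth.Agent.Lib.Helper24.AlgStRepS Groth.Agent.Lib.Helper24.AlgStRep
open Groth.Agent.Lib.Helper24.AlgStBridge Groth.Agent.Lib.Helper24.PshBridge
open Groth.Agent.Lib.Helper24.AlgStCalc Groth.Agent.Lib.Helper24.AlgStAtlas
open Groth.Agent.Lib.Helper24.AlgStProps Groth.Agent.Lib.Helper24.AlgStSchLocal
open Groth.Agent.Lib.Helper24.AlgStClosedSub Groth.Agent.Lib.Helper24.AlgStMonoFull
open Groth.Agent.Lib.Helper24.AlgStFppfCrit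
open CategoryTheory.Limits AlgSt

variable {S : Scheme.{u}}

theorem iso_le_mono :
    MorphismProperty.isomorphisms (AlgSp.Sp S) ≤ MorphismProperty.monomorphisms (AlgSp.Sp S) :=
  fun _ _ f (_ : IsIso f) => (inferInstance : Mono f)

/-- a functor whose structure map to a slice is an isomorphism of sheaves is an equivalence -/
theorem isEquivOver_of_isIso_spMapOfOver {F : AlgSp.Sp S} {T : Over S}
    (Φ : AlgSt.ofSp F ⥤ᵇ FibCat.overCat T) (h : IsIso (AlgSt.spMapOfOver Φ)) :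
    FibCat.IsEquivOver Φ := by
  rw [spMapOfOver_eq] at h
  let Ψ := BasedFunctor.comp Φ (AlgSt.ofOverCat T)
  have h1 : IsIso (pshMapOf Ψ) := by
    have : IsIso ((sheafToPresheaf (AlgSp.J S) (Type (u + 1))).map (spMapOf Ψ)) := inferInstance
    exact this
  have h2 : FibCat.IsEquivOver (Stk.ofPshMap (pshMapOf Ψ)) := isEquivOver_ofPshMap_of_isIso _
  have h3 : FibCat.IsEquivOver Ψ := isEquivOver_of_iso (isoOfPshMap Ψ).symm h2
  exact isEquivOver_of_comp_right Φ (AlgSt.ofOverCat T) (isEquivOver_ofOverCat T) h3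

/-- a morphism representable by isomorphisms is an equivalence -/
theorem isEquivOver_of_repByAlgSpWith_iso {𝒳 𝒴 : AlgSt.Cat S} (h𝒳 : FibCat.IsFibGrpd 𝒳.p)
    (h𝒴 : FibCat.IsFibGrpd 𝒴.p) (f : 𝒳 ⥤ᵇ 𝒴)
    (hf : AlgSt.RepByAlgSpWith (MorphismProperty.isomorphisms (AlgSp.Sp S)) f) :
    FibCat.IsEquivOver f := by
  have hmono : AlgSt.IsMono f := repByAlgSpWith_mono iso_le_mono f hf
  obtain ⟨_, _⟩ := full_faithful_of_isMono h𝒳 h𝒴 f hmono
  have : 𝒴.p.IsFibered := isFibered_of_isFibGrpd 𝒴.p h𝒴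
  have key : ∀ y : 𝒴.obj, ∃ (ξ : 𝒳.obj) (e : f.toFunctor.obj ξ ≅ y),
      𝒴.p.IsHomLift (𝟙 (𝒴.p.obj y)) e.hom := by
    intro y
    obtain ⟨T, hT⟩ : ∃ T, 𝒴.p.obj y = T := ⟨_, rfl⟩
    rw [hT]
    let ŷ : FibCat.overCat T ⥤ᵇ 𝒴 := pbBased hT
    obtain ⟨F, e, he, hp⟩ := hf T ŷ
    have hΦ := isEquivOver_of_isIso_spMapOfOver _ hp
    have hfst : FibCat.IsEquivOver (FibCat.fpFst ŷ f) := isEquivOver_of_comp_left e _ he hΦ
    obtain ⟨-, hess⟩ := props_of_isEquivOver _ hfst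
    obtain ⟨η, θ, hθ⟩ := hess (Over.mk (𝟙 T))
    have hθ' : (FibCat.overCat T).p.IsHomLift (𝟙 T) θ.hom := hθ
    have hcl : (FibCat.overCat T).p.obj η.obj.fst = T := IsHomLift.domain_eq _ (𝟙 T) θ.hom
    have h1 : 𝒴.p.IsHomLift (𝟙 T) η.obj.iso.inv := by
      have h0 : 𝒴.p.IsHomLift (𝟙 ((FibCat.overCat T).p.obj η.obj.fst)) η.obj.iso.hom := η.property
      have h0' : 𝒴.p.IsHomLift (𝟙 T) η.obj.iso.hom :=
        Eq.mp (congrArg (fun Z => 𝒴.p.IsHomLift (𝟙 Z) η.obj.iso.hom) hcl) h0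
      infer_instance
    have h2 : 𝒴.p.IsHomLift (𝟙 T) (ŷ.toFunctor.map θ.hom) := inferInstance
    have h3 : 𝒴.p.IsHomLift (𝟙 T) (pbMap hT (Over.mk (𝟙 T))) := pbMap_id_lift hT
    have hiso : IsIso (pbMap hT (Over.mk (𝟙 T))) := pbMap_id_isIso hT
    refine ⟨η.obj.snd, η.obj.iso.symm ≪≫ ŷ.toFunctor.mapIso θ ≪≫ asIso (pbMap hT (Over.mk (𝟙 T))), ?_⟩
    change 𝒴.p.IsHomLift (𝟙 T) (η.obj.iso.inv ≫ ŷ.toFunctor.map θ.hom ≫ pbMap hT (Over.mk (𝟙 T)))
    have h4 : 𝒴.p.IsHomLift (𝟙 T ≫ 𝟙 T ≫ 𝟙 T)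
        (η.obj.iso.inv ≫ ŷ.toFunctor.map θ.hom ≫ pbMap hT (Over.mk (𝟙 T))) := inferInstance
    simpa using h4
  choose ξ e he using key
  exact isEquivOver_of_liftData ⟨ξ, e, he⟩

/-- S16807 -/
theorem isEmpty_or_isEquivOver_of_isMono {𝒵' 𝒵 : AlgSt.Cat S}
    (h𝒵' : AlgSt.IsAlgStack Scheme.fppfPrecoverage 𝒵')
    (h𝒵 : AlgSt.IsAlgStack Scheme.fppfPrecoverage 𝒵) (f : 𝒵' ⥤ᵇ 𝒵) (hf : AlgSt.IsMono f)
    {k : Type u} [Field k] {a : Spec (CommRingCat.of k) ⟶ S}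
    (z : FibCat.overCat (Over.mk a) ⥤ᵇ 𝒵)
    (hzp : AlgSt.RepByAlgSpWith (AlgSp.LocP @LocallyOfFinitePresentation) z)
    (hzs : AlgSt.RepByAlgSpWith AlgSp.IsSurjectiveMor z)
    (hzf : AlgSt.RepByAlgSpWith (AlgSp.LocP @Flat) z) :
    IsEmpty (AlgSt.Points 𝒵') ∨ FibCat.IsEquivOver f := by
  by_cases hne : Nonempty (AlgSt.Points 𝒵')
  swap
  · exact Or.inl (not_nonempty_iff.1 hne)
  right
  have hT : FibCat.IsFibGrpd (FibCat.overCat (Over.mk a)).p := StkFpCrit.isFibGrpd_overForget _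
  obtain ⟨F, e, he, hm⟩ := hf (Over.mk a) z
  have hmono : Mono (AlgSt.spMapOfOver (BasedFunctor.comp e (FibCat.fpFst z f))) := hm
  have hneF : Nonempty (AlgSp.Points F.obj) := by
    obtain ⟨p⟩ := hne
    have hzsurj : AlgSt.IsSurjective z := surjective_map_of_repByAlgSpWith h𝒵.isStack.1 z hzs
    obtain ⟨w, -⟩ := isSurjective_fpSnd hT h𝒵.isStack.1 h𝒵'.isStack.1 z f hzsurj p
    obtain ⟨w', -⟩ := (bijective_map_of_isEquivOver e he).2 w
    exact ⟨(ptsEquiv F.obj).symm w'⟩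
  have hiso : IsIso (AlgSt.spMapOfOver (BasedFunctor.comp e (FibCat.fpFst z f))) :=
    isIso_of_mono_to_field F.property a _ hneF
  have hpt : AlgStLocQ1.PT (MorphismProperty.isomorphisms (AlgSp.Sp S)) (FibCat.fpFst z f) := by
    refine ⟨F, ⟨(AlgSp.yon S).obj (Over.mk a), AlgSp.IsAlgSpace.yon_obj _⟩, e,
      AlgSt.ofOverCat (Over.mk a), he, isEquivOver_ofOverCat _, ?_⟩
    have : MorphismProperty.isomorphisms (AlgSp.Sp S)
        (AlgSt.spMapOfOver (BasedFunctor.comp e (FibCat.fpFst z f))) := hiso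
    rw [spMapOfOver_eq] at this
    exact this
  have h1 : AlgSt.RepByAlgSpWith (MorphismProperty.isomorphisms (AlgSp.Sp S))
      (FibCat.fpFst z f) := AlgStLocQ5.PT.repByAlgSpWith good_iso.bc hpt
  have hrep1 : AlgSt.RepByAlgSp1 f := repByAlgSp1_of_repByAlgSpWith _ f hf
  have h2 := AlgStDescent.repByAlgSpWith_of_fpFst_cover h𝒵'.isStack.1 h𝒵.isStack.1 hT _
    good_iso.bc good_iso.loc f hrep1 z hzf hzp hzs h1
  exact isEquivOver_of_repByAlgSpWith_iso h𝒵'.isStack.1 h𝒵.isStack.1 f h2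

end Groth.Agent.Lib.Helper24.GerbRes3
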