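import Groth.Agent.Lib.Helper24.AlgStClosedSub
import Groth.Agent.Lib.Helper24.GerbRes3
import Groth.Agent.Lib.Helper24.AlgStMono2
import Groth.Agent.Lib.Helper24.AlgStUniv1
import Groth.Agent.Lib.Helper14.Birat4
set_option autoImplicit false
open CategoryTheory AlgebraicGeometry Opposite
universe u
set_option backward.isDefEq.respectTransparency false
set_option backward.isDefEq.respectTransparency.types false

/-! The largest open substack on which a morphism has a property: abstract calculus. -/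

namespace Groth.Agent.Lib.Helper24.AlgStPMax1
open Groth.Agent.Lib.Helper24.FibCatFpMap
open Groth.Agent.Lib.Helper24.FibCatEquiv Groth.Agent.Lib.Helper24.FibCatFpGen
open Groth.Agent.Lib.Helper24.AlgStPts1 Groth.Agent.Lib.Helper24.AlgStPts3
open Groth.Agent.Lib.Helper24.AlgStPts4 Groth.Agent.Lib.Helper24.AlgStPts5 Groth.Agent.Lib.Helper24.AlgStPts7
open Groth.Agent.Lib.Helper24.AlgStOpenSub1 Groth.Agent.Lib.Helper24.AlgStOpenSub2
open Groth.Agent.Lib.Helper24.AlgStOpenSub3 Groth.Agent.Lib.Helper24.AlgStOpenSub5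
open Groth.Agent.Lib.Helper24.AlgStRepAlg
open Groth.Agent.Lib.Helper24.AlgStRep Groth.Agent.Lib.Helper24.AlgStRepS
open Groth.Agent.Lib.Helper24.AlgStSchLocal Groth.Agent.Lib.Helper24.AlgStLocQ1
open Groth.Agent.Lib.Helper24.AlgStLocQ5 Groth.Agent.Lib.Helper24.AlgStDescent
open Groth.Agent.Lib.Helper24.AlgStEqv Groth.Agent.Lib.Helper24.AlgStCalc
open Groth.Agent.Lib.Helper24.AlgStBridge Groth.Agent.Lib.Helper24.AlgStSmLoc
open Groth.Agent.Lib.Helper24.AlgStBoot Groth.Agent.Lib.Helper24.AlgStProps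
open Groth.Agent.Lib.Helper24.AlgStClosedSub Groth.Agent.Lib.Helper24.AlgStUniv1
open Groth.Agent.Lib.Helper24.GerbRes3 Groth.Agent.Lib.Helper24.AlgStMono
open Groth.Agent.Lib.Helper24.AlgStDiagLft Groth.Agent.Lib.Helper24.AlgStFpAlg
open Groth.Agent.Lib.Helper26.StackPoints
open CategoryTheory.Limits AlgSt

variable {S : Scheme.{u}}

/-- the preimage of the open substack of an open set of points -/
theorem pb_qW {𝒜 𝒳 : AlgSt.Cat S} (h𝒜 : AlgSt.IsAlgStack Scheme.fppfPrecoverage 𝒜)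
    (h𝒳 : AlgSt.IsAlgStack Scheme.fppfPrecoverage 𝒳) (g : 𝒜 ⥤ᵇ 𝒳) {T : Set (Points 𝒳)}
    (hT : IsOpen T) : PB g (QW T) = QW (Points.map g ⁻¹' T) := by
  have h1 := isOpenSubstack_qW h𝒳 hT
  have h2 := isOpenSubstack_pb g (QW T) h𝒳.isStack.1 h𝒜 h1
  refine (eq_qW_range h𝒜 h2).trans ?_
  rw [range_map_subIncl_pb g (QW T) h𝒳.isStack.1 h𝒜.isStack.1 h1.2.1.isStack.1,
    range_map_subIncl_qW]

/-- restriction of an equivalence to a strictly full subcategory and its preimage -/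
theorem isEquivOver_pbSub {𝒳 𝒴 : AlgSt.Cat S} (f : 𝒴 ⥤ᵇ 𝒳) (hf : FibCat.IsEquivOver f)
    (Q : 𝒳.obj → Prop) [ObjectProperty.IsClosedUnderIsomorphisms Q] :
    FibCat.IsEquivOver (pbSub f Q) := by
  obtain ⟨⟨_, _⟩, hess⟩ := props_of_isEquivOver f hf
  have : (pbSub f Q).toFunctor.Faithful := by
    constructor
    intro x y m m' h
    apply ObjectProperty.hom_ext
    apply f.toFunctor.map_injective
    exact congrArg (fun t => t.hom) h
  have : (pbSub f Q).toFunctor.Full := by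
    constructor
    intro x y m
    obtain ⟨n, hn⟩ := f.toFunctor.map_surjective
      (show f.toFunctor.obj x.obj ⟶ f.toFunctor.obj y.obj from m.hom)
    exact ⟨ObjectProperty.homMk n, ObjectProperty.hom_ext _ hn⟩
  have key : ∀ y : (AlgSt.fullSub 𝒳 Q).obj, ∃ (ξ : (AlgSt.fullSub 𝒴 (PB f Q)).obj)
      (e : (pbSub f Q).toFunctor.obj ξ ≅ y),
      (AlgSt.fullSub 𝒳 Q).p.IsHomLift (𝟙 ((AlgSt.fullSub 𝒳 Q).p.obj y)) e.hom := by
    intro y
    obtain ⟨x, θ, hθ⟩ := hess y.obj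
    have hx : Q (f.toFunctor.obj x) := ObjectProperty.prop_of_iso Q θ.symm y.property
    refine ⟨⟨x, hx⟩, ObjectProperty.isoMk (X := (⟨f.toFunctor.obj x, hx⟩ : (AlgSt.fullSub 𝒳 Q).obj))
      (Y := y) _ θ, ?_⟩
    have : 𝒳.p.IsHomLift (𝟙 ((AlgSt.fullSub 𝒳 Q).p.obj y)) θ.hom := hθ
    exact IsHomLift.of_fac (AlgSt.fullSub 𝒳 Q).p (𝟙 ((AlgSt.fullSub 𝒳 Q).p.obj y)) _
      (IsHomLift.domain_eq 𝒳.p (𝟙 ((AlgSt.fullSub 𝒳 Q).p.obj y)) θ.hom)
      (IsHomLift.codomain_eq 𝒳.p (𝟙 ((AlgSt.fullSub 𝒳 Q).p.obj y)) θ.hom)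
      (IsHomLift.fac 𝒳.p (𝟙 ((AlgSt.fullSub 𝒳 Q).p.obj y)) θ.hom)
  choose ξ e he using key
  exact isEquivOver_of_liftData ⟨ξ, e, he⟩

section Defs
variable (P : MorphismProperty (AlgSp.Sp S)) {𝒜 ℬ : AlgSt.Cat S} (φ : 𝒜 ⥤ᵇ ℬ)

/-- the open set `T` of points of the source is such that `φ` restricted to it has `P` -/
def PGood (T : Set (Points 𝒜)) : Prop :=
  IsOpen T ∧ AlgSt.RepByAlgSpWith P (BasedFunctor.comp (AlgSt.subIncl 𝒜 (QW T)) φ)

/-- `T` is the largest open set of points on which `φ` has `P` -/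
def PMax (T : Set (Points 𝒜)) : Prop :=
  PGood P φ T ∧ ∀ T' : Set (Points 𝒜), PGood P φ T' → T' ⊆ T

variable {P φ}

theorem PMax.unique {T T' : Set (Points 𝒜)} (h : PMax P φ T) (h' : PMax P φ T') : T = T' :=
  Set.Subset.antisymm (h'.2 _ h.1) (h.2 _ h'.1)

end Defs

/-- an open immersion is an equivalence onto the open substack of its image -/
theorem isEquivOver_toImage {𝒜 𝒳 : AlgSt.Cat S} (h𝒜 : AlgSt.IsAlgStack Scheme.fppfPrecoverage 𝒜)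
    (h𝒳 : AlgSt.IsAlgStack Scheme.fppfPrecoverage 𝒳) (c : 𝒜 ⥤ᵇ 𝒳) (hc : AlgSt.IsOpenImm c) :
    FibCat.IsEquivOver (toImage c (Set.range (Points.map c))
      (qW_range h𝒜.isStack.1 h𝒳.isStack.1 c)) := by
  have hsm := smooth_of_isOpenImm c hc
  obtain ⟨W, h, hW, rfl, h1, h2⟩ := exists_image_of_smooth h𝒜 h𝒳 c hsm
  have ho : AlgSt.IsOpenImm (toImage c _ h) :=
    repByAlgSpWith_of_comp_full_faithful _ (toImage c _ h) (AlgSt.subIncl 𝒳 _) hc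
  have h3 := repByAlgSpWith_and _ _ good_isSurjectiveMor.respectsIso _ ho h2
  have hiso : AlgSt.RepByAlgSpWith (MorphismProperty.isomorphisms (AlgSp.Sp S))
      (toImage c _ h) :=
    repByAlgSpWith_mono (fun X Y a ha =>
      Groth.Agent.Lib.Helper14.AS.isIso_of_openImmersion_of_surjective ha.1 ha.2) _ h3
  exact isEquivOver_of_repByAlgSpWith_iso h𝒜.isStack.1
    (isFibGrpd_fullSub_qW h𝒳.isStack.1 _) _ hiso

/-- restriction to an open substack can be tested on any open immersion with that image -/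
theorem repByAlgSpWith_comp_openImm_iff {𝒜' 𝒜 ℬ : AlgSt.Cat S}
    (h𝒜' : AlgSt.IsAlgStack Scheme.fppfPrecoverage 𝒜')
    (h𝒜 : AlgSt.IsAlgStack Scheme.fppfPrecoverage 𝒜) (P : MorphismProperty (AlgSp.Sp S))
    (c : 𝒜' ⥤ᵇ 𝒜) (hc : AlgSt.IsOpenImm c) (φ : 𝒜 ⥤ᵇ ℬ) :
    AlgSt.RepByAlgSpWith P
        (BasedFunctor.comp (AlgSt.subIncl 𝒜 (QW (Set.range (Points.map c)))) φ) ↔
      AlgSt.RepByAlgSpWith P (BasedFunctor.comp c φ) :=
  repByAlgSpWith_iff_of_isEquivOver P _ _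
    (toImage c (Set.range (Points.map c)) (qW_range h𝒜'.isStack.1 h𝒜.isStack.1 c))
    (BasedFunctor.id ℬ) (isEquivOver_toImage h𝒜' h𝒜 c hc) (isEquivOver_id _) (Iso.refl _)

theorem isOpen_range_of_isOpenImm {𝒜' 𝒜 : AlgSt.Cat S}
    (h𝒜' : AlgSt.IsAlgStack Scheme.fppfPrecoverage 𝒜')
    (h𝒜 : AlgSt.IsAlgStack Scheme.fppfPrecoverage 𝒜) (c : 𝒜' ⥤ᵇ 𝒜) (hc : AlgSt.IsOpenImm c) :
    IsOpen (Set.range (Points.map c)) := by
  have hsm := smooth_of_isOpenImm c hc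
  exact (isOpenMap_map_of_repByAlgSpWith h𝒜' h𝒜 c
    (repByAlgSpWith_locP_mono smooth_le_flat _ hsm)
    (repByAlgSpWith_locP_mono smooth_le_lfp _ hsm)).isOpen_range

theorem pGood_of_openImm {𝒜' 𝒜 ℬ : AlgSt.Cat S}
    (h𝒜' : AlgSt.IsAlgStack Scheme.fppfPrecoverage 𝒜')
    (h𝒜 : AlgSt.IsAlgStack Scheme.fppfPrecoverage 𝒜) (P : MorphismProperty (AlgSp.Sp S))
    (c : 𝒜' ⥤ᵇ 𝒜) (hc : AlgSt.IsOpenImm c) (φ : 𝒜 ⥤ᵇ ℬ)
    (h : AlgSt.RepByAlgSpWith P (BasedFunctor.comp c φ)) :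
    PGood P φ (Set.range (Points.map c)) :=
  ⟨isOpen_range_of_isOpenImm h𝒜' h𝒜 c hc,
    (repByAlgSpWith_comp_openImm_iff h𝒜' h𝒜 P c hc φ).2 h⟩

section Transport
variable {𝒜' 𝒜 ℬ' ℬ : AlgSt.Cat S}
  (h𝒜' : AlgSt.IsAlgStack Scheme.fppfPrecoverage 𝒜')
  (h𝒜 : AlgSt.IsAlgStack Scheme.fppfPrecoverage 𝒜) (P : MorphismProperty (AlgSp.Sp S))
  (e : 𝒜' ⥤ᵇ 𝒜) (he : FibCat.IsEquivOver e) (b : ℬ' ⥤ᵇ ℬ) (hb : FibCat.IsEquivOver b)
  (φ : 𝒜 ⥤ᵇ ℬ) (φ' : 𝒜' ⥤ᵇ ℬ')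
  (i : BasedFunctor.comp φ' b ≅ BasedFunctor.comp e φ)

include h𝒜' h𝒜 he hb i in
/-- transport of `PGood` along equivalences of source and target -/
theorem pGood_transport_iff (T : Set (Points 𝒜)) :
    PGood P φ T ↔ PGood P φ' (Points.map e ⁻¹' T) := by
  obtain ⟨h, hh⟩ := exists_homeo_of_isEquivOver h𝒜' h𝒜 e he
  have hpre : Points.map e ⁻¹' T = h ⁻¹' T := by
    ext x
    simp only [Set.mem_preimage, hh]
  have hopen : IsOpen (Points.map e ⁻¹' T) ↔ IsOpen T := by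
    rw [hpre]
    exact h.isOpen_preimage
  have key : IsOpen T → (AlgSt.RepByAlgSpWith P (BasedFunctor.comp (AlgSt.subIncl 𝒜 (QW T)) φ) ↔
      AlgSt.RepByAlgSpWith P
        (BasedFunctor.comp (AlgSt.subIncl 𝒜' (QW (Points.map e ⁻¹' T))) φ')) := by
    intro hT
    rw [← pb_qW h𝒜' h𝒜 e hT]
    exact repByAlgSpWith_iff_of_isEquivOver P _ _ (pbSub e (QW T)) b
      (isEquivOver_pbSub e he (QW T)) hb
      (whiskerLeftIso (AlgSt.subIncl 𝒜' (PB e (QW T))) i)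
  constructor
  · rintro ⟨hT, hP⟩
    exact ⟨hopen.2 hT, (key hT).1 hP⟩
  · rintro ⟨hT, hP⟩
    exact ⟨hopen.1 hT, (key (hopen.1 hT)).2 hP⟩

include h𝒜' h𝒜 he hb i in
/-- transport of `PMax` along equivalences of source and target -/
theorem pMax_transport_iff (T : Set (Points 𝒜)) :
    PMax P φ T ↔ PMax P φ' (Points.map e ⁻¹' T) := by
  have hbij := bijective_map_of_isEquivOver e he
  have tr := pGood_transport_iff h𝒜' h𝒜 P e he b hb φ φ' i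
  constructor
  · rintro ⟨hg, hmax⟩
    refine ⟨(tr T).1 hg, fun T'' hT'' => ?_⟩
    have e1 : Points.map e ⁻¹' (Points.map e '' T'') = T'' := Set.preimage_image_eq _ hbij.1
    have h1 : PGood P φ (Points.map e '' T'') := (tr _).2 (by rw [e1]; exact hT'')
    have h2 := hmax _ h1
    intro x hx
    exact h2 ⟨x, hx, rfl⟩
  · rintro ⟨hg, hmax⟩
    refine ⟨(tr T).2 hg, fun T' hT' => ?_⟩
    have h2 := hmax _ ((tr T').1 hT')
    intro x hx
    obtain ⟨x', rfl⟩ := hbij.2 x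
    exact h2 hx

end Transport

section BaseChange
variable {𝒜 ℬ 𝒞 : AlgSt.Cat S}
  (h𝒜 : AlgSt.IsAlgStack Scheme.fppfPrecoverage 𝒜)
  (hℬ : AlgSt.IsAlgStack Scheme.fppfPrecoverage ℬ)
  (h𝒞 : AlgSt.IsAlgStack Scheme.fppfPrecoverage 𝒞) (P : MorphismProperty (AlgSp.Sp S))
  (φ : 𝒜 ⥤ᵇ ℬ) (c : 𝒞 ⥤ᵇ ℬ)

/-- the restriction of the base change is the base change of the restriction -/
theorem eqvOver_restrict (Q : 𝒜.obj → Prop) [ObjectProperty.IsClosedUnderIsomorphisms Q] :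
    EqvOver (BasedFunctor.comp (AlgSt.subIncl (FibCat.fp c φ) (PB (FibCat.fpSnd c φ) Q))
        (FibCat.fpFst c φ))
      (FibCat.fpFst c (BasedFunctor.comp (AlgSt.subIncl 𝒜 Q) φ)) :=
  ((eqvOver_pb (FibCat.fpSnd c φ) Q).comp_right (FibCat.fpFst c φ)).trans
    ⟨Groth.Agent.Lib.Helper24.FibCatFpPaste.Q (AlgSt.subIncl 𝒜 Q) φ c,
      Groth.Agent.Lib.Helper24.FibCatFpPaste.isEquivOver_Q, ⟨Iso.refl _⟩⟩

include h𝒜 hℬ h𝒞 in
/-- `PGood` is stable under base change -/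
theorem pGood_baseChange {T : Set (Points 𝒜)} (h : PGood P φ T) :
    PGood P (FibCat.fpFst c φ) (Points.map (FibCat.fpSnd c φ) ⁻¹' T) := by
  have hfp : AlgSt.IsAlgStack Scheme.fppfPrecoverage (FibCat.fp c φ) :=
    isAlgStack_fp hℬ.isStack hℬ.diag h𝒞 h𝒜 c φ
  refine ⟨h.1.preimage (continuous_map h𝒜 _), ?_⟩
  rw [← pb_qW hfp h𝒜 (FibCat.fpSnd c φ) h.1]
  exact Groth.Agent.Lib.Helper24.AlgStDiagBC.repByAlgSpWith_of_eqvOver P
    (eqvOver_restrict φ c (QW T)) (repByAlgSpWith_fpFst P _ c h.2)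

include h𝒜 hℬ h𝒞 in
/-- `PGood` descends along flat, locally finitely presented, surjective base changes -/
theorem pGood_descent (hPb : StableBC P) (hP : AlgSp.IsLocalOnBase AlgSp.IsFppfCover P)
    (hφ : AlgSt.RepByAlgSp1 φ)
    (hc₁ : AlgSt.RepByAlgSpWith (AlgSp.LocP @Flat) c)
    (hc₂ : AlgSt.RepByAlgSpWith (AlgSp.LocP @LocallyOfFinitePresentation) c)
    (hc₃ : AlgSt.RepByAlgSpWith AlgSp.IsSurjectiveMor c) {T : Set (Points 𝒜)}
    (h : PGood P (FibCat.fpFst c φ) (Points.map (FibCat.fpSnd c φ) ⁻¹' T)) : PGood P φ T := by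
  have hfp : AlgSt.IsAlgStack Scheme.fppfPrecoverage (FibCat.fp c φ) :=
    isAlgStack_fp hℬ.isStack hℬ.diag h𝒞 h𝒜 c φ
  have hπ₁ := Groth.Agent.Lib.Helper24.AlgStGC.repByAlgSpWith_fpSnd _ c φ hc₁
  have hπ₂ := Groth.Agent.Lib.Helper24.AlgStGC.repByAlgSpWith_fpSnd _ c φ hc₂
  have hsurj : Function.Surjective (Points.map (FibCat.fpSnd c φ)) :=
    isSurjective_fpSnd h𝒞.isStack.1 hℬ.isStack.1 h𝒜.isStack.1 c φ
      (surjective_map_of_repByAlgSpWith hℬ.isStack.1 c hc₃)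
  have hT : IsOpen T := by
    have := isOpenMap_map_of_repByAlgSpWith hfp h𝒜 _ hπ₁ hπ₂ _ h.1
    rwa [Set.image_preimage_eq _ hsurj] at this
  refine ⟨hT, ?_⟩
  have hsub := isFibGrpd_fullSub_qW h𝒜.isStack.1 T
  have hrep : AlgSt.RepByAlgSp1 (BasedFunctor.comp (AlgSt.subIncl 𝒜 (QW T)) φ) := by
    rw [repByAlgSp1_iff_with_top] at hφ ⊢
    exact repByAlgSpWith_comp hsub h𝒜.isStack.1 hℬ.isStack.1 _ nice_top' stableComp_top _ _
      (repByAlgSpWith_mono (fun _ _ _ _ => trivial) _ (isOpenImm_subIncl_qW h𝒜 hT)) hφ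
  refine repByAlgSpWith_of_fpFst_cover hsub hℬ.isStack.1 h𝒞.isStack.1 P hPb hP _ hrep c hc₁ hc₂ hc₃ ?_
  have h2 := h.2
  rw [← pb_qW hfp h𝒜 (FibCat.fpSnd c φ) hT] at h2
  exact Groth.Agent.Lib.Helper24.AlgStDiagBC.repByAlgSpWith_of_eqvOver P
    (eqvOver_restrict φ c (QW T)).symm h2

include h𝒜 hℬ h𝒞 in
/-- `PMax` can be checked after a flat, locally finitely presented, surjective base change -/
theorem pMax_descent (hPb : StableBC P) (hP : AlgSp.IsLocalOnBase AlgSp.IsFppfCover P)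
    (hφ : AlgSt.RepByAlgSp1 φ)
    (hc₁ : AlgSt.RepByAlgSpWith (AlgSp.LocP @Flat) c)
    (hc₂ : AlgSt.RepByAlgSpWith (AlgSp.LocP @LocallyOfFinitePresentation) c)
    (hc₃ : AlgSt.RepByAlgSpWith AlgSp.IsSurjectiveMor c) {T : Set (Points 𝒜)}
    (h : PMax P (FibCat.fpFst c φ) (Points.map (FibCat.fpSnd c φ) ⁻¹' T)) : PMax P φ T := by
  have hsurj : Function.Surjective (Points.map (FibCat.fpSnd c φ)) :=
    isSurjective_fpSnd h𝒞.isStack.1 hℬ.isStack.1 h𝒜.isStack.1 c φ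
      (surjective_map_of_repByAlgSpWith hℬ.isStack.1 c hc₃)
  refine ⟨pGood_descent h𝒜 hℬ h𝒞 P φ c hPb hP hφ hc₁ hc₂ hc₃ h.1, fun T' hT' => ?_⟩
  have h2 := h.2 _ (pGood_baseChange h𝒜 hℬ h𝒞 P φ c hT')
  intro x hx
  obtain ⟨x', rfl⟩ := hsurj x
  exact h2 hx

end BaseChange

end Groth.Agent.Lib.Helper24.AlgStPMax1
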