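import Groth.Agent.Lib.Helper24.FibCatFpPaste
import Groth.Agent.Lib.Helper24.FibCatFpMap
set_option autoImplicit false
set_option linter.unusedSectionVars false
open CategoryTheory CategoryTheory.Limits
universe u v u₂ v₂ u₃ v₃ u₄ v₄ u₅ v₅

/-! Changing one leg of a 2-fibre product by precomposition is a base change. -/

namespace Groth.Agent.Lib.Helper24.FibCatFpMapL
open Groth.Agent.Lib.Helper24.FibCatFpGen Groth.Agent.Lib.Helper24.FibCatEquiv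
open Groth.Agent.Lib.Helper24.FibCatDiag (mkIso)
open Groth.Agent.Lib.Helper24.FibCatFpMap Groth.Agent.Lib.Helper24.FibCatFpPaste

variable {C : Type u} [Category.{v} C]

section Left
variable {𝒜 : BasedCategory.{v₂, u₂} C} {𝒳 : BasedCategory.{v₃, u₃} C}
  {𝒴 : BasedCategory.{v₄, u₄} C} {ℬ : BasedCategory.{v₅, u₅} C}
  (a : 𝒜 ⥤ᵇ 𝒳) (j : 𝒳 ⥤ᵇ 𝒴) (h : ℬ ⥤ᵇ 𝒴)

/-- `𝒜 ×_𝒴 ℬ ⟶ 𝒳 ×_𝒴 ℬ` -/
def mapL : FibCat.fp (BasedFunctor.comp a j) h ⥤ᵇ FibCat.fp j h :=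
  fpMap a (BasedFunctor.id ℬ) (BasedFunctor.id 𝒴)
    (Iso.refl _ : BasedFunctor.comp (BasedFunctor.comp a j) (BasedFunctor.id 𝒴) ≅
      BasedFunctor.comp a j)
    (Iso.refl _ : BasedFunctor.comp h (BasedFunctor.id 𝒴) ≅
      BasedFunctor.comp (BasedFunctor.id ℬ) h)

lemma mapL_obj_iso_hom (s : (FibCat.fp (BasedFunctor.comp a j) h).obj) :
    ((mapL a j h).toFunctor.obj s).obj.iso.hom = 𝟙 _ ≫ s.obj.iso.hom ≫ 𝟙 _ := rfl

/-- component of the comparison isomorphism -/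
def mapLApp (t : (FibCat.fp a (FibCat.fpFst j h)).obj) :
    (mapL a j h).toFunctor.obj ((P h j a).toFunctor.obj t) ≅
      (FibCat.fpSnd a (FibCat.fpFst j h)).toFunctor.obj t :=
  mkIso (F := j) (G := h) (x := (mapL a j h).toFunctor.obj ((P h j a).toFunctor.obj t))
    (y := (FibCat.fpSnd a (FibCat.fpFst j h)).toFunctor.obj t) (ιOf t) (Iso.refl _) (by
      rw [mapL_obj_iso_hom]
      change j.toFunctor.map (ιOf t).hom ≫ (θOf t).hom =
        (𝟙 _ ≫ (j.toFunctor.map (ιOf t).hom ≫ (θOf t).hom) ≫ 𝟙 _) ≫ h.toFunctor.map (𝟙 _)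
      simp)

/-- `mapL` composed with the contraction is the second projection -/
def mapLIso : BasedFunctor.comp (P h j a) (mapL a j h) ≅ FibCat.fpSnd a (FibCat.fpFst j h) :=
  BasedNatIso.mkNatIso (NatIso.ofComponents (mapLApp a j h) (by
    intro t t' m
    apply hom_ext'
    · exact hom_w₁ m
    · change m.hom.snd.hom.snd ≫ 𝟙 _ = 𝟙 _ ≫ m.hom.snd.hom.snd
      simp)) (by
    intro t
    rw [isHomLift_iff_fst]
    exact ιOf_lift t)

end Left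

section Right
variable {ℬ : BasedCategory.{v₂, u₂} C} {𝒳 : BasedCategory.{v₃, u₃} C}
  {𝒴 : BasedCategory.{v₄, u₄} C} {𝒲 : BasedCategory.{v₅, u₅} C}
  (b : ℬ ⥤ᵇ 𝒳) (j : 𝒳 ⥤ᵇ 𝒴) (h : 𝒲 ⥤ᵇ 𝒴)

/-- `𝒲 ×_𝒴 ℬ ⟶ 𝒲 ×_𝒴 𝒳` -/
def mapR : FibCat.fp h (BasedFunctor.comp b j) ⥤ᵇ FibCat.fp h j :=
  fpMap (BasedFunctor.id 𝒲) b (BasedFunctor.id 𝒴)
    (Iso.refl _ : BasedFunctor.comp h (BasedFunctor.id 𝒴) ≅
      BasedFunctor.comp (BasedFunctor.id 𝒲) h)
    (Iso.refl _ : BasedFunctor.comp (BasedFunctor.comp b j) (BasedFunctor.id 𝒴) ≅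
      BasedFunctor.comp b j)

lemma mapR_obj_iso_hom (s : (FibCat.fp h (BasedFunctor.comp b j)).obj) :
    ((mapR b j h).toFunctor.obj s).obj.iso.hom = 𝟙 _ ≫ s.obj.iso.hom ≫ 𝟙 _ := rfl

/-- component of the comparison isomorphism -/
def mapRApp (t : (FibCat.fp (FibCat.fpSnd h j) b).obj) :
    (mapR b j h).toFunctor.obj ((Q b j h).toFunctor.obj t) ≅
      (FibCat.fpFst (FibCat.fpSnd h j) b).toFunctor.obj t :=
  mkIso (F := h) (G := j) (x := (mapR b j h).toFunctor.obj ((Q b j h).toFunctor.obj t))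
    (y := (FibCat.fpFst (FibCat.fpSnd h j) b).toFunctor.obj t) (Iso.refl _) (ιOf' t).symm (by
      rw [mapR_obj_iso_hom]
      change h.toFunctor.map (𝟙 _) ≫ (τOf t).hom =
        (𝟙 _ ≫ ((τOf t).hom ≫ j.toFunctor.map (ιOf' t).hom) ≫ 𝟙 _) ≫
          j.toFunctor.map (ιOf' t).inv
      simp [← Functor.map_comp])

/-- `mapR` composed with the contraction is the first projection -/
def mapRIso : BasedFunctor.comp (Q b j h) (mapR b j h) ≅ FibCat.fpFst (FibCat.fpSnd h j) b :=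
  BasedNatIso.mkNatIso (NatIso.ofComponents (mapRApp b j h) (by
    intro t t' m
    apply hom_ext'
    · change m.hom.fst.hom.fst ≫ 𝟙 _ = 𝟙 _ ≫ m.hom.fst.hom.fst
      simp
    · change b.toFunctor.map m.hom.snd ≫ (ιOf' t').inv = (ιOf' t).inv ≫ m.hom.fst.hom.snd
      rw [Iso.comp_inv_eq, Category.assoc, Iso.eq_inv_comp]
      exact (hom_w₂' m).symm)) (by
    intro t
    rw [isHomLift_iff_fst]
    exact IsHomLift.id rfl)

end Right

end Groth.Agent.Lib.Helper24.FibCatFpMapL
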