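import Groth.Agent.Lib.Helper24.AlgStPMax1
import Groth.Agent.Lib.Helper24.FibCatFpMapL
set_option autoImplicit false
open CategoryTheory AlgebraicGeometry Opposite
universe u
set_option backward.isDefEq.respectTransparency false
set_option backward.isDefEq.respectTransparency.types false

/-! Points of the double fibre product: two points of `𝒞 ×_ℬ 𝒜` with the same image in `𝒜` come
from a point of `(𝒞 ×_ℬ 𝒞) ×_ℬ 𝒜`. -/

namespace Groth.Agent.Lib.Helper24.AlgStPMax2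
open Groth.Agent.Lib.Helper24.FibCatFpMap
open Groth.Agent.Lib.Helper24.FibCatEquiv Groth.Agent.Lib.Helper24.FibCatFpGen
open Groth.Agent.Lib.Helper24.FibCatDiag (mkIso)
open Groth.Agent.Lib.Helper24.FibCatFpMapL Groth.Agent.Lib.Helper24.FibCatFpPaste
open Groth.Agent.Lib.Helper24.AlgStPts1 Groth.Agent.Lib.Helper24.AlgStRep
open Groth.Agent.Lib.Helper26.StackPoints
open CategoryTheory.Limits AlgSt

variable {S : Scheme.{u}} {𝒜 ℬ 𝒞 : AlgSt.Cat S} (c : 𝒞 ⥤ᵇ ℬ) (φ : 𝒜 ⥤ᵇ ℬ)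

/-- the equivalence switching the two structure maps of the double fibre product -/
def swapE : FibCat.fp (BasedFunctor.comp (FibCat.fpFst c c) c) φ ⥤ᵇ
    FibCat.fp (BasedFunctor.comp (FibCat.fpSnd c c) c) φ :=
  fpMap (BasedFunctor.id _) (BasedFunctor.id _) (BasedFunctor.id _)
    (FibCat.fpIso c c : BasedFunctor.comp (BasedFunctor.comp (FibCat.fpFst c c) c)
      (BasedFunctor.id ℬ) ≅ BasedFunctor.comp (BasedFunctor.id _)
        (BasedFunctor.comp (FibCat.fpSnd c c) c))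
    (Iso.refl _ : BasedFunctor.comp φ (BasedFunctor.id ℬ) ≅
      BasedFunctor.comp (BasedFunctor.id 𝒜) φ)

theorem isEquivOver_swapE : FibCat.IsEquivOver (swapE c φ) :=
  isEquivOver_fpMap _ _ _ _ _ (isEquivOver_id _) (isEquivOver_id _)

/-- first projection of the double fibre product -/
def rho₁ : FibCat.fp (BasedFunctor.comp (FibCat.fpFst c c) c) φ ⥤ᵇ FibCat.fp c φ :=
  mapL (FibCat.fpFst c c) c φ

/-- second projection of the double fibre product -/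
def rho₂ : FibCat.fp (BasedFunctor.comp (FibCat.fpFst c c) c) φ ⥤ᵇ FibCat.fp c φ :=
  BasedFunctor.comp (swapE c φ) (mapL (FibCat.fpSnd c c) c φ)

theorem exists_zeta (h𝒜 : FibCat.IsFibGrpd 𝒜.p) (hℬ : FibCat.IsFibGrpd ℬ.p)
    (h𝒞 : FibCat.IsFibGrpd 𝒞.p) (ξ ξ' : Points (FibCat.fp c φ))
    (h : Points.map (FibCat.fpSnd c φ) ξ = Points.map (FibCat.fpSnd c φ) ξ') :
    ∃ ζ : Points (FibCat.fp (BasedFunctor.comp (FibCat.fpFst c c) c) φ),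
      Points.map (rho₁ c φ) ζ = ξ ∧ Points.map (rho₂ c φ) ζ = ξ' := by
  have hfp := isFibGrpd_fp c φ h𝒞 h𝒜 hℬ
  obtain ⟨w, hw1, hw2⟩ := exists_points_fp hfp h𝒜 hfp (FibCat.fpSnd c φ) (FibCat.fpSnd c φ) ξ ξ' h
  obtain ⟨ω, rfl⟩ := Points.mk_surjective w
  subst hw1 hw2
  let b₁ : (FibCat.fp c φ).obj := ω.obj.obj.fst
  let b₂ : (FibCat.fp c φ).obj := ω.obj.obj.snd
  let β : b₁.obj.snd ≅ b₂.obj.snd := ω.obj.obj.iso
  have hβ : 𝒜.p.IsHomLift (𝟙 (𝒞.p.obj b₁.obj.fst)) β.hom := ω.obj.property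
  have hpe : 𝒞.p.obj b₁.obj.fst = 𝒞.p.obj b₂.obj.fst :=
    p_eq (FibCat.fpSnd c φ) (FibCat.fpSnd c φ) ω.obj
  let γ : c.toFunctor.obj b₁.obj.fst ≅ c.toFunctor.obj b₂.obj.fst :=
    b₁.obj.iso ≪≫ φ.toFunctor.mapIso β ≪≫ b₂.obj.iso.symm
  have hγ : ℬ.p.IsHomLift (𝟙 (𝒞.p.obj b₁.obj.fst)) γ.hom := by
    have h1 : ℬ.p.IsHomLift (𝟙 (𝒞.p.obj b₁.obj.fst)) b₁.obj.iso.hom := iso_isHomLift c φ b₁
    have h2 : ℬ.p.IsHomLift (𝟙 (𝒞.p.obj b₁.obj.fst)) (φ.toFunctor.map β.hom) := inferInstance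
    have h3 : ℬ.p.IsHomLift (𝟙 (𝒞.p.obj b₁.obj.fst)) b₂.obj.iso.inv := by
      rw [hpe]
      exact iso_inv_isHomLift c φ b₂
    change ℬ.p.IsHomLift (𝟙 (𝒞.p.obj b₁.obj.fst))
      (b₁.obj.iso.hom ≫ φ.toFunctor.map β.hom ≫ b₂.obj.iso.inv)
    have h4 : ℬ.p.IsHomLift (𝟙 (𝒞.p.obj b₁.obj.fst))
      (φ.toFunctor.map β.hom ≫ b₂.obj.iso.inv) := inferInstance
    infer_instance
  let t : (FibCat.fp c c).obj := mkObj (F := c) (G := c) b₁.obj.fst b₂.obj.fst γ hγ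
  let ζo : (FibCat.fp (BasedFunctor.comp (FibCat.fpFst c c) c) φ).obj :=
    mkObj (F := BasedFunctor.comp (FibCat.fpFst c c) c) (G := φ) t b₁.obj.snd b₁.obj.iso
      (iso_isHomLift c φ b₁)
  let ζ : FPt (FibCat.fp (BasedFunctor.comp (FibCat.fpFst c c) c) φ) :=
    ⟨ω.K, ω.str, ζo, ω.lies⟩
  let i₁ : (rho₁ c φ).toFunctor.obj ζo ≅ b₁ :=
    mkIso (F := c) (G := φ) (x := (rho₁ c φ).toFunctor.obj ζo) (y := b₁) (Iso.refl _) (Iso.refl _) (by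
      change c.toFunctor.map (𝟙 _) ≫ b₁.obj.iso.hom =
        (𝟙 _ ≫ b₁.obj.iso.hom ≫ 𝟙 _) ≫ φ.toFunctor.map (𝟙 _)
      simp)
  let i₂ : (rho₂ c φ).toFunctor.obj ζo ≅ b₂ :=
    mkIso (F := c) (G := φ) (x := (rho₂ c φ).toFunctor.obj ζo) (y := b₂) (Iso.refl _) β (by
      change c.toFunctor.map (𝟙 _) ≫ b₂.obj.iso.hom =
        (𝟙 _ ≫ (γ.inv ≫ b₁.obj.iso.hom ≫ 𝟙 _) ≫ 𝟙 _) ≫ φ.toFunctor.map β.hom
      simp [γ])
  refine ⟨Points.mk ζ, ?_, ?_⟩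
  · exact Points.sound ⟨ζ.map (rho₁ c φ), 𝟙 _, i₁.hom, trivial⟩
  · exact Points.sound ⟨ζ.map (rho₂ c φ), 𝟙 _, i₂.hom, trivial⟩

end Groth.Agent.Lib.Helper24.AlgStPMax2
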