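import Groth.Agent.Lib.Helper24.AlgStPMax1
import Groth.Agent.Lib.Helper8.AlgSpOpenSub
import Groth.Agent.Lib.Helper24.AlgStCalc2
set_option autoImplicit false
open CategoryTheory AlgebraicGeometry Opposite
universe u
set_option backward.isDefEq.respectTransparency false
set_option backward.isDefEq.respectTransparency.types false

/-! The largest open on which a morphism has a property: the bridge to algebraic spaces. -/

namespace Groth.Agent.Lib.Helper24.AlgStPMax3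
open Groth.Agent.Lib.Helper24.FibCatFpMap
open Groth.Agent.Lib.Helper24.FibCatEquiv Groth.Agent.Lib.Helper24.FibCatFpGen
open Groth.Agent.Lib.Helper24.AlgStPts1 Groth.Agent.Lib.Helper24.AlgStPts2
open Groth.Agent.Lib.Helper24.AlgStPts3
open Groth.Agent.Lib.Helper24.AlgStPts4 Groth.Agent.Lib.Helper24.AlgStPts5 Groth.Agent.Lib.Helper24.AlgStPts7
open Groth.Agent.Lib.Helper24.AlgStOpenSub1 Groth.Agent.Lib.Helper24.AlgStOpenSub2
open Groth.Agent.Lib.Helper24.AlgStOpenSub3 Groth.Agent.Lib.Helper24.AlgStOpenSub5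
open Groth.Agent.Lib.Helper24.AlgStRepAlg
open Groth.Agent.Lib.Helper24.AlgStRep Groth.Agent.Lib.Helper24.AlgStRepS
open Groth.Agent.Lib.Helper24.AlgStSchLocal Groth.Agent.Lib.Helper24.AlgStLocQ1
open Groth.Agent.Lib.Helper24.AlgStEqv Groth.Agent.Lib.Helper24.AlgStCalc
open Groth.Agent.Lib.Helper24.AlgStCalc2 Groth.Agent.Lib.Helper24.AlgStAtlas
open Groth.Agent.Lib.Helper24.AlgStBridge Groth.Agent.Lib.Helper24.PshBridge
open Groth.Agent.Lib.Helper24.AlgStBoot Groth.Agent.Lib.Helper24.AlgStProps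
open Groth.Agent.Lib.Helper24.AlgStClosedSub Groth.Agent.Lib.Helper24.AlgStUniv1
open Groth.Agent.Lib.Helper24.AlgStFpAlg Groth.Agent.Lib.Helper24.AlgStPMax1
open Groth.Agent.Lib.Helper26.StackPoints
open CategoryTheory.Limits AlgSt

variable {S : Scheme.{u}} (P Q R : MorphismProperty (AlgSp.Sp S))

/-- `(W, w)` is the largest open subspace of `X` on which `f` has `P` -/
def IsLargest {X Y : AlgSp.Space S} (f : X ⟶ Y) (W : AlgSp.Space S) (w : W ⟶ X) : Prop :=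
  AlgSp.RepWith @IsOpenImmersion w.hom ∧ P (w ≫ f).hom ∧
    ∀ (W₁ : AlgSp.Space S) (w₁ : W₁ ⟶ X), AlgSp.RepWith @IsOpenImmersion w₁.hom →
      P (w₁ ≫ f).hom → ∃ k : W₁ ⟶ W, k ≫ w = w₁

theorem isOpenImm_ofSpMap {W X : AlgSp.Space S} (w : W ⟶ X)
    (hw : AlgSp.RepWith @IsOpenImmersion w.hom) : AlgSt.IsOpenImm (AlgSt.ofSpMap w.hom) :=
  repByAlgSpWith_ofSpMap _ (nice_repWith _).bc w.hom hw

/-- open sets of points of `ofSp X` are the images of open subspaces -/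
theorem exists_openSubspace' (X : AlgSp.Space S) (T : Set (Points (AlgSt.ofSp X.obj)))
    (hT : IsOpen T) : ∃ (W : AlgSp.Space S) (w : W ⟶ X), AlgSp.RepWith @IsOpenImmersion w.hom ∧
      Set.range (Points.map (AlgSt.ofSpMap w.hom)) = T := by
  have hTsp : IsOpen ((ptsHomeo X) ⁻¹' T) := (ptsHomeo X).continuous.isOpen_preimage _ hT
  obtain ⟨W₁, w₁, hw₁, hr⟩ := Groth.Agent.Lib.Helper8.AlgSpOpenSub.exists_openSubspace X _ hTsp
  refine ⟨W₁, w₁, hw₁, ?_⟩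
  ext z
  constructor
  · rintro ⟨y, rfl⟩
    obtain ⟨y, rfl⟩ := (ptsEquiv W₁.obj).surjective y
    change Points.map (AlgSt.ofSpMap w₁.hom) (toPts _ y) ∈ T
    rw [map_ofSpMap_toPts]
    have : AlgSp.Points.map w₁.hom y ∈ (ptsHomeo X) ⁻¹' T := by
      rw [← hr]
      exact ⟨y, rfl⟩
    exact this
  · intro hz
    obtain ⟨z, rfl⟩ := (ptsEquiv X.obj).surjective z
    have : z ∈ Set.range (AlgSp.Points.map w₁.hom) := by
      rw [hr]
      exact hz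
    obtain ⟨y, rfl⟩ := this
    exact ⟨toPts _ y, map_ofSpMap_toPts _ _⟩

variable {P}

/-- preimages under 2-isomorphic functors -/
theorem preimage_map_comp {𝒜' 𝒜 𝒳 : AlgSt.Cat S} (e : 𝒜' ⥤ᵇ 𝒜) (g : 𝒜 ⥤ᵇ 𝒳) (g' : 𝒜' ⥤ᵇ 𝒳)
    (j : BasedFunctor.comp e g ≅ g') (T : Set (Points 𝒳)) :
    Points.map e ⁻¹' (Points.map g ⁻¹' T) = Points.map g' ⁻¹' T := by
  ext x
  simp only [Set.mem_preimage]
  rw [← map_comp, map_congr j]

/-- transport of `PMax` for preimages of a fixed set -/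
theorem pMax_transport_pre {𝒜' 𝒜 ℬ' ℬ 𝒳 : AlgSt.Cat S}
    (h𝒜' : AlgSt.IsAlgStack Scheme.fppfPrecoverage 𝒜')
    (h𝒜 : AlgSt.IsAlgStack Scheme.fppfPrecoverage 𝒜) (P : MorphismProperty (AlgSp.Sp S))
    (e : 𝒜' ⥤ᵇ 𝒜) (he : FibCat.IsEquivOver e) (b : ℬ' ⥤ᵇ ℬ) (hb : FibCat.IsEquivOver b)
    (φ : 𝒜 ⥤ᵇ ℬ) (φ' : 𝒜' ⥤ᵇ ℬ')
    (i : BasedFunctor.comp φ' b ≅ BasedFunctor.comp e φ) (g : 𝒜 ⥤ᵇ 𝒳) (g' : 𝒜' ⥤ᵇ 𝒳)
    (j : BasedFunctor.comp e g ≅ g') (T₀ : Set (Points 𝒳)) :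
    PMax P φ (Points.map g ⁻¹' T₀) ↔ PMax P φ' (Points.map g' ⁻¹' T₀) := by
  rw [pMax_transport_iff h𝒜' h𝒜 P e he b hb φ φ' i, preimage_map_comp e g g' j]

/-- the open set of the largest open subspace is the largest open set -/
theorem pMax_of_isLargest (hPb : StableBC P) (hP : AlgSp.IsLocalOnBase AlgSp.IsFppfCover P)
    {X Y : AlgSp.Space S} (f : X ⟶ Y) (W : AlgSp.Space S) (w : W ⟶ X) (h : IsLargest P f W w) :
    PMax P (AlgSt.ofSpMap f.hom) (Set.range (Points.map (AlgSt.ofSpMap w.hom))) := by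
  obtain ⟨hw, hPw, huniv⟩ := h
  have hWo := isOpenImm_ofSpMap w hw
  refine ⟨pGood_of_openImm (isAlgStack_ofSp W) (isAlgStack_ofSp X) P _ hWo _
    (repByAlgSpWith_ofSpMap P hPb (V := W) (W := Y) (w ≫ f).hom hPw), fun T' hT' => ?_⟩
  obtain ⟨hT'o, hT'P⟩ := hT'
  obtain ⟨W₁, w₁, hw₁, rfl⟩ := exists_openSubspace' X T' hT'o
  have hW₁o := isOpenImm_ofSpMap w₁ hw₁
  have h1 := (repByAlgSpWith_comp_openImm_iff (isAlgStack_ofSp W₁) (isAlgStack_ofSp X) P _ hW₁o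
    (AlgSt.ofSpMap f.hom)).1 hT'P
  have h2 : P (w₁ ≫ f).hom :=
    (repByAlgSpWith_ofSpMap_iff P hPb hP (V := W₁) (W := Y) (w₁ ≫ f).hom).1 h1
  obtain ⟨k, rfl⟩ := huniv W₁ w₁ hw₁ h2
  rintro _ ⟨y, rfl⟩
  exact ⟨Points.map (AlgSt.ofSpMap k.hom) y, (map_comp _ _ _).symm⟩

section Hyp
variable (hPb : StableBC P) (hP : AlgSp.IsLocalOnBase AlgSp.IsFppfCover P)
  (h₃ : ∀ (X Y : AlgSp.Space S) (f : X ⟶ Y), Q f.hom → ∃ (W : AlgSp.Space S) (w : W ⟶ X),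
    IsLargest P f W w)
  (h₄ : ∀ (X Y X' Y' : AlgSp.Space S) (f : X ⟶ Y) (g : Y' ⟶ Y) (f' : X' ⟶ Y') (g' : X' ⟶ X),
      IsPullback g'.hom f'.hom f.hom g.hom → Q f.hom → R g.hom →
      ∀ (W : AlgSp.Space S) (w : W ⟶ X), IsLargest P f W w →
        ∀ (W' : AlgSp.Space S) (w' : W' ⟶ X') (k : W' ⟶ W), IsPullback k.hom w'.hom w.hom g'.hom →
          IsLargest P f' W' w')

include hPb hP h₃ in
theorem exists_pMax_ofSpMap {X Y : AlgSp.Space S} (f : X ⟶ Y) (hf : Q f.hom) :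
    ∃ T, PMax P (AlgSt.ofSpMap f.hom) T := by
  obtain ⟨W, w, h⟩ := h₃ X Y f hf
  exact ⟨_, pMax_of_isLargest hPb hP f W w h⟩

include hPb hP h₃ h₄ in
theorem pMax_ofSpMap_baseChange {X Y X' Y' : AlgSp.Space S} (f : X ⟶ Y) (g : Y' ⟶ Y)
    (f' : X' ⟶ Y') (g' : X' ⟶ X) (sq : IsPullback g'.hom f'.hom f.hom g.hom) (hf : Q f.hom)
    (hg : R g.hom) {T : Set (Points (AlgSt.ofSp X.obj))} (hT : PMax P (AlgSt.ofSpMap f.hom) T) :
    PMax P (AlgSt.ofSpMap f'.hom) (Points.map (AlgSt.ofSpMap g'.hom) ⁻¹' T) := by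
  obtain ⟨W, w, h⟩ := h₃ X Y f hf
  have h1 := pMax_of_isLargest hPb hP f W w h
  obtain rfl := hT.unique h1
  have sq' := IsPullback.of_hasPullback w.hom g'.hom
  have hW' : AlgSp.IsAlgSpace (pullback w.hom g'.hom) :=
    Groth.Agent.Lib.Helper14.AS.isAlgSpace_of_isPullback
      (Groth.Agent.Lib.Helper14.AS.repDiag_of_isAlgSpace X.property) W.property X'.property sq'
  let W' : AlgSp.Space S := ⟨pullback w.hom g'.hom, hW'⟩
  let w' : W' ⟶ X' := ObjectProperty.homMk (pullback.snd w.hom g'.hom)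
  let k : W' ⟶ W := ObjectProperty.homMk (pullback.fst w.hom g'.hom)
  have h2 := h₄ X Y X' Y' f g f' g' sq hf hg W w h W' w' k sq'
  have h3 := pMax_of_isLargest hPb hP f' W' w' h2
  have e : Set.range (Points.map (AlgSt.ofSpMap w'.hom)) =
      Points.map (AlgSt.ofSpMap g'.hom) ⁻¹' Set.range (Points.map (AlgSt.ofSpMap w.hom)) := by
    ext x'
    constructor
    · rintro ⟨z, rfl⟩
      refine ⟨Points.map (AlgSt.ofSpMap k.hom) z, ?_⟩
      rw [← map_comp, ← map_comp]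
      have : BasedFunctor.comp (AlgSt.ofSpMap k.hom) (AlgSt.ofSpMap w.hom) =
          BasedFunctor.comp (AlgSt.ofSpMap w'.hom) (AlgSt.ofSpMap g'.hom) := by
        exact congrArg (fun a => AlgSt.ofSpMap a) sq'.w
      rw [this]
    · rintro ⟨y, hy⟩
      obtain ⟨κ, hκ, ⟨i⟩⟩ := eqvOver_of_isPullback sq'
      obtain ⟨ω, hω1, -⟩ := exists_points_fp (Stk.isFibGrpd_ofPsh _) (Stk.isFibGrpd_ofPsh _)
        (Stk.isFibGrpd_ofPsh _) (AlgSt.ofSpMap w.hom) (AlgSt.ofSpMap g'.hom) x' y hy.symm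
      obtain ⟨z, rfl⟩ := (bijective_map_of_isEquivOver κ hκ).2 ω
      refine ⟨z, ?_⟩
      rw [← hω1, ← map_comp, map_congr i]
      rfl
  rw [← e]
  exact h3

include hPb hP h₃ in
/-- existence of the largest open set for morphisms to an algebraic space -/
theorem exists_pMax_of_hasP {𝒜 : AlgSt.Cat S}
    (h𝒜 : AlgSt.IsAlgStack Scheme.fppfPrecoverage 𝒜) {Y : AlgSp.Space S}
    (φ : 𝒜 ⥤ᵇ AlgSt.ofSp Y.obj) (hφ : HasP Q φ) : ∃ T, PMax P φ T := by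
  obtain ⟨F, e, he, hQ⟩ := hφ
  let f : F ⟶ Y := ObjectProperty.homMk (spMapOf (BasedFunctor.comp e φ))
  obtain ⟨T, hT⟩ := exists_pMax_ofSpMap Q hPb hP h₃ f hQ
  have hbij := bijective_map_of_isEquivOver e he
  refine ⟨Points.map e '' T, ?_⟩
  rw [pMax_transport_iff (isAlgStack_ofSp F) h𝒜 P e he (BasedFunctor.id _) (isEquivOver_id _) φ
    (AlgSt.ofSpMap f.hom) (isoOfPshMap (BasedFunctor.comp e φ)).symm,
    Set.preimage_image_eq _ hbij.1]
  exact hT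

include hPb hP h₃ h₄ in
/-- base change of the largest open set for morphisms to an algebraic space -/
theorem pMax_baseChange_of_hasP {𝒜 𝒞 : AlgSt.Cat S}
    (h𝒜 : AlgSt.IsAlgStack Scheme.fppfPrecoverage 𝒜)
    (h𝒞 : AlgSt.IsAlgStack Scheme.fppfPrecoverage 𝒞) {Y : AlgSp.Space S}
    (φ : 𝒜 ⥤ᵇ AlgSt.ofSp Y.obj) (hφ : HasP Q φ) (c : 𝒞 ⥤ᵇ AlgSt.ofSp Y.obj) (hc : HasP R c)
    {W : Set (Points 𝒜)} (hW : PMax P φ W) :
    PMax P (FibCat.fpFst c φ) (Points.map (FibCat.fpSnd c φ) ⁻¹' W) := by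
  obtain ⟨F, e, he, hQ⟩ := hφ
  obtain ⟨Y', r, hr, hR⟩ := hc
  let f : F ⟶ Y := ObjectProperty.homMk (spMapOf (BasedFunctor.comp e φ))
  let g : Y' ⟶ Y := ObjectProperty.homMk (spMapOf (BasedFunctor.comp r c))
  have sq := IsPullback.of_hasPullback f.hom g.hom
  have hX' : AlgSp.IsAlgSpace (pullback f.hom g.hom) :=
    Groth.Agent.Lib.Helper14.AS.isAlgSpace_of_isPullback
      (Groth.Agent.Lib.Helper14.AS.repDiag_of_isAlgSpace Y.property) F.property Y'.property sq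
  let X' : AlgSp.Space S := ⟨pullback f.hom g.hom, hX'⟩
  let f' : X' ⟶ Y' := ObjectProperty.homMk (pullback.snd f.hom g.hom)
  let g' : X' ⟶ F := ObjectProperty.homMk (pullback.fst f.hom g.hom)
  have hTF : PMax P (AlgSt.ofSpMap f.hom) (Points.map e ⁻¹' W) :=
    (pMax_transport_iff (isAlgStack_ofSp F) h𝒜 P e he (BasedFunctor.id _) (isEquivOver_id _) φ
      (AlgSt.ofSpMap f.hom) (isoOfPshMap (BasedFunctor.comp e φ)).symm W).1 hW
  have h1 := pMax_ofSpMap_baseChange Q R hPb hP h₃ h₄ f g f' g' sq hQ hR hTF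
  let eF : BasedFunctor.comp (AlgSt.ofSpMap g.hom) (BasedFunctor.id _) ≅ BasedFunctor.comp r c :=
    (isoOfPshMap (BasedFunctor.comp r c)).symm
  let eG : BasedFunctor.comp (AlgSt.ofSpMap f.hom) (BasedFunctor.id _) ≅ BasedFunctor.comp e φ :=
    (isoOfPshMap (BasedFunctor.comp e φ)).symm
  let M := fpMap r e (BasedFunctor.id (AlgSt.ofSp Y.obj)) eF eG
  have hM : FibCat.IsEquivOver M := by
    have i1 : (BasedFunctor.id (AlgSt.ofSp Y.obj)).toFunctor.Full := id_full _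
    have i2 : (BasedFunctor.id (AlgSt.ofSp Y.obj)).toFunctor.Faithful := id_faithful _
    exact isEquivOver_fpMap _ _ _ eF eG hr he
  let K := fpOfSq (isPtPullback_of_isPullback _ _ _ _
    (sq.map (sheafToPresheaf (AlgSp.J S) (Type (u + 1)))))
  have hK : FibCat.IsEquivOver K := isEquivOver_fpOfSq _
  have hfp : AlgSt.IsAlgStack Scheme.fppfPrecoverage (FibCat.fp c φ) :=
    isAlgStack_fp (isAlgStack_ofSp Y).isStack (isAlgStack_ofSp Y).diag h𝒞 h𝒜 c φ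
  refine (pMax_transport_pre (isAlgStack_ofSp X') hfp P (BasedFunctor.comp K M)
    (isEquivOver_comp _ _ hK hM) r hr (FibCat.fpFst c φ) (AlgSt.ofSpMap f'.hom) (Iso.refl _)
    (FibCat.fpSnd c φ) (BasedFunctor.comp (AlgSt.ofSpMap g'.hom) e) (Iso.refl _) W).2 ?_
  rw [← preimage_map_comp (AlgSt.ofSpMap g'.hom) e _ (Iso.refl _)]
  exact h1

end Hyp

end Groth.Agent.Lib.Helper24.AlgStPMax3
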