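import Groth.Agent.Lib.Helper24.AlgStPMax2
import Groth.Agent.Lib.Helper24.AlgStPMax3
set_option autoImplicit false
open CategoryTheory AlgebraicGeometry Opposite
universe u
set_option backward.isDefEq.respectTransparency false
set_option backward.isDefEq.respectTransparency.types false

/-! The largest open substack on which a morphism has a property: existence and base change. -/

namespace Groth.Agent.Lib.Helper24.AlgStPMax4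
open Groth.Agent.Lib.Helper24.FibCatFpMap
open Groth.Agent.Lib.Helper24.FibCatEquiv Groth.Agent.Lib.Helper24.FibCatFpGen
open Groth.Agent.Lib.Helper24.FibCatFpMapL Groth.Agent.Lib.Helper24.FibCatFpPaste
open Groth.Agent.Lib.Helper24.AlgStPts1 Groth.Agent.Lib.Helper24.AlgStPts2
open Groth.Agent.Lib.Helper24.AlgStPts3
open Groth.Agent.Lib.Helper24.AlgStPts4 Groth.Agent.Lib.Helper24.AlgStPts5 Groth.Agent.Lib.Helper24.AlgStPts7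
open Groth.Agent.Lib.Helper24.AlgStOpenSub1 Groth.Agent.Lib.Helper24.AlgStOpenSub2
open Groth.Agent.Lib.Helper24.AlgStOpenSub3 Groth.Agent.Lib.Helper24.AlgStOpenSub5
open Groth.Agent.Lib.Helper24.AlgStRepAlg
open Groth.Agent.Lib.Helper24.AlgStRep Groth.Agent.Lib.Helper24.AlgStRepS
open Groth.Agent.Lib.Helper24.AlgStSchLocal Groth.Agent.Lib.Helper24.AlgStLocQ1
open Groth.Agent.Lib.Helper24.AlgStEqv Groth.Agent.Lib.Helper24.AlgStCalc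
open Groth.Agent.Lib.Helper24.AlgStCalc2 Groth.Agent.Lib.Helper24.AlgStAtlas
open Groth.Agent.Lib.Helper24.AlgStBridge Groth.Agent.Lib.Helper24.PshBridge
open Groth.Agent.Lib.Helper24.AlgStBoot Groth.Agent.Lib.Helper24.AlgStProps
open Groth.Agent.Lib.Helper24.AlgStClosedSub Groth.Agent.Lib.Helper24.AlgStUniv1
open Groth.Agent.Lib.Helper24.AlgStFpAlg Groth.Agent.Lib.Helper24.AlgStPMax1
open Groth.Agent.Lib.Helper24.AlgStPMax2 Groth.Agent.Lib.Helper24.AlgStPMax3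
open Groth.Agent.Lib.Helper24.AlgStSmooth Groth.Agent.Lib.Helper24.AlgStDiagLft
open Groth.Agent.Lib.Helper24.AlgStGC
open Groth.Agent.Lib.Helper26.StackPoints
open CategoryTheory.Limits AlgSt

variable {S : Scheme.{u}} (P Q R : MorphismProperty (AlgSp.Sp S))
  (hPb : StableBC P) (hQb : StableBC Q) (hRb : StableBC R)
  (hP : AlgSp.IsLocalOnBase AlgSp.IsFppfCover P) (hQ : AlgSp.IsLocalOnBase AlgSp.IsFppfCover Q)
  (hR : AlgSp.IsLocalOnBase AlgSp.IsFppfCover R)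
  (h₂ : ∀ (X Y : AlgSp.Space S) (g : X ⟶ Y), AlgSp.LocP @Smooth g.hom → R g.hom)
  (h₃ : ∀ (X Y : AlgSp.Space S) (f : X ⟶ Y), Q f.hom → ∃ (W : AlgSp.Space S) (w : W ⟶ X),
    IsLargest P f W w)
  (h₄ : ∀ (X Y X' Y' : AlgSp.Space S) (f : X ⟶ Y) (g : Y' ⟶ Y) (f' : X' ⟶ Y') (g' : X' ⟶ X),
      IsPullback g'.hom f'.hom f.hom g.hom → Q f.hom → R g.hom →
      ∀ (W : AlgSp.Space S) (w : W ⟶ X), IsLargest P f W w →
        ∀ (W' : AlgSp.Space S) (w' : W' ⟶ X') (k : W' ⟶ W), IsPullback k.hom w'.hom w.hom g'.hom →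
          IsLargest P f' W' w')

include hPb hQb hP hQ h₂ h₃ h₄ in
/-- existence of the largest open set, compatibly with a smooth surjective chart of the target -/
theorem exists_pMax_atlas {𝒳 𝒴 : AlgSt.Cat S}
    (h𝒳 : AlgSt.IsAlgStack Scheme.fppfPrecoverage 𝒳)
    (h𝒴 : AlgSt.IsAlgStack Scheme.fppfPrecoverage 𝒴) (f : 𝒳 ⥤ᵇ 𝒴)
    (hf : AlgSt.RepByAlgSpWith Q f) (V : AlgSp.Space S) (y₀ : AlgSt.ofSp V.obj ⥤ᵇ 𝒴)
    (hy₁ : AlgSt.RepByAlgSpWith (AlgSp.LocP @Smooth) y₀)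
    (hy₂ : AlgSt.RepByAlgSpWith AlgSp.IsSurjectiveMor y₀) :
    ∃ T₀, PMax P f T₀ ∧ PMax P (FibCat.fpFst y₀ f) (Points.map (FibCat.fpSnd y₀ f) ⁻¹' T₀) := by
  have hV := isAlgStack_ofSp V
  have hU : AlgSt.IsAlgStack Scheme.fppfPrecoverage (FibCat.fp y₀ f) :=
    isAlgStack_fp h𝒴.isStack h𝒴.diag hV h𝒳 y₀ f
  have hQf' : HasP Q (FibCat.fpFst y₀ f) :=
    repS_of_repByAlgSpWith h𝒳.isStack.1 h𝒴.isStack.1 Q hQb hQ f hf V y₀
  obtain ⟨W, hW⟩ := exists_pMax_of_hasP Q hPb hP h₃ hU (FibCat.fpFst y₀ f) hQf'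
  have hV₂ : AlgSt.IsAlgStack Scheme.fppfPrecoverage (FibCat.fp y₀ y₀) :=
    isAlgStack_fp h𝒴.isStack h𝒴.diag hV hV y₀ y₀
  have hsm : RepS (AlgSp.LocP @Smooth) y₀ :=
    repS_of_repByAlgSpWith hV.isStack.1 h𝒴.isStack.1 _ good_smooth.bc good_smooth.loc y₀ hy₁
  have hq₁s : HasP (AlgSp.LocP @Smooth) (FibCat.fpFst y₀ y₀) := hsm V y₀
  have hq₂s : HasP (AlgSp.LocP @Smooth) (FibCat.fpSnd y₀ y₀) :=
    HasP.of_eqvOver (eqvOver_swap y₀ y₀) hq₁s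
  have toR : ∀ {𝒞 : AlgSt.Cat S} (c : 𝒞 ⥤ᵇ AlgSt.ofSp V.obj), HasP (AlgSp.LocP @Smooth) c →
      HasP R c := by
    rintro 𝒞 c ⟨F, e, he, h⟩
    exact ⟨F, e, he, h₂ F V (ObjectProperty.homMk _) h⟩
  have hW₁ := pMax_baseChange_of_hasP Q R hPb hP h₃ h₄ hU hV₂ (FibCat.fpFst y₀ f) hQf'
    (FibCat.fpFst y₀ y₀) (toR _ hq₁s) hW
  have hW₂ := pMax_baseChange_of_hasP Q R hPb hP h₃ h₄ hU hV₂ (FibCat.fpFst y₀ f) hQf'
    (FibCat.fpSnd y₀ y₀) (toR _ hq₂s) hW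
  have hA₁ : AlgSt.IsAlgStack Scheme.fppfPrecoverage
      (FibCat.fp (BasedFunctor.comp (FibCat.fpFst y₀ y₀) y₀) f) :=
    isAlgStack_fp h𝒴.isStack h𝒴.diag hV₂ h𝒳 _ f
  have hA₂ : AlgSt.IsAlgStack Scheme.fppfPrecoverage
      (FibCat.fp (BasedFunctor.comp (FibCat.fpSnd y₀ y₀) y₀) f) :=
    isAlgStack_fp h𝒴.isStack h𝒴.diag hV₂ h𝒳 _ f
  have hB₁ : AlgSt.IsAlgStack Scheme.fppfPrecoverage
      (FibCat.fp (FibCat.fpFst y₀ y₀) (FibCat.fpFst y₀ f)) :=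
    isAlgStack_fp hV.isStack hV.diag hV₂ hU _ _
  have hB₂ : AlgSt.IsAlgStack Scheme.fppfPrecoverage
      (FibCat.fp (FibCat.fpSnd y₀ y₀) (FibCat.fpFst y₀ f)) :=
    isAlgStack_fp hV.isStack hV.diag hV₂ hU _ _
  have T₁ : PMax P (FibCat.fpFst (BasedFunctor.comp (FibCat.fpFst y₀ y₀) y₀) f)
      (Points.map (rho₁ y₀ f) ⁻¹' W) :=
    (pMax_transport_pre hB₁ hA₁ P (Groth.Agent.Lib.Helper24.FibCatFpPaste.P f y₀ (FibCat.fpFst y₀ y₀))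
      isEquivOver_P (BasedFunctor.id _) (isEquivOver_id _)
      (FibCat.fpFst (BasedFunctor.comp (FibCat.fpFst y₀ y₀) y₀) f)
      (FibCat.fpFst (FibCat.fpFst y₀ y₀) (FibCat.fpFst y₀ f)) (Iso.refl _) (rho₁ y₀ f)
      (FibCat.fpSnd (FibCat.fpFst y₀ y₀) (FibCat.fpFst y₀ f))
      (mapLIso (FibCat.fpFst y₀ y₀) y₀ f) W).2 hW₁
  have T₂' : PMax P (FibCat.fpFst (BasedFunctor.comp (FibCat.fpSnd y₀ y₀) y₀) f)
      (Points.map (mapL (FibCat.fpSnd y₀ y₀) y₀ f) ⁻¹' W) :=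
    (pMax_transport_pre hB₂ hA₂ P (Groth.Agent.Lib.Helper24.FibCatFpPaste.P f y₀ (FibCat.fpSnd y₀ y₀))
      isEquivOver_P (BasedFunctor.id _) (isEquivOver_id _)
      (FibCat.fpFst (BasedFunctor.comp (FibCat.fpSnd y₀ y₀) y₀) f)
      (FibCat.fpFst (FibCat.fpSnd y₀ y₀) (FibCat.fpFst y₀ f)) (Iso.refl _)
      (mapL (FibCat.fpSnd y₀ y₀) y₀ f)
      (FibCat.fpSnd (FibCat.fpSnd y₀ y₀) (FibCat.fpFst y₀ f))
      (mapLIso (FibCat.fpSnd y₀ y₀) y₀ f) W).2 hW₂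
  have T₂ : PMax P (FibCat.fpFst (BasedFunctor.comp (FibCat.fpFst y₀ y₀) y₀) f)
      (Points.map (rho₂ y₀ f) ⁻¹' W) :=
    (pMax_transport_pre hA₁ hA₂ P (swapE y₀ f) (isEquivOver_swapE y₀ f)
      (BasedFunctor.id _) (isEquivOver_id _)
      (FibCat.fpFst (BasedFunctor.comp (FibCat.fpSnd y₀ y₀) y₀) f)
      (FibCat.fpFst (BasedFunctor.comp (FibCat.fpFst y₀ y₀) y₀) f) (Iso.refl _)
      (mapL (FibCat.fpSnd y₀ y₀) y₀ f) (rho₂ y₀ f) (Iso.refl _) W).1 T₂'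
  have heq := T₁.unique T₂
  have hsat : Points.map (FibCat.fpSnd y₀ f) ⁻¹' (Points.map (FibCat.fpSnd y₀ f) '' W) = W := by
    apply Set.Subset.antisymm
    · rintro ξ' ⟨ξ, hξ, h⟩
      obtain ⟨ζ, hζ1, hζ2⟩ := exists_zeta y₀ f h𝒳.isStack.1 h𝒴.isStack.1 hV.isStack.1 ξ ξ' h
      have h1 : ζ ∈ Points.map (rho₁ y₀ f) ⁻¹' W := by
        change Points.map (rho₁ y₀ f) ζ ∈ W
        rw [hζ1]
        exact hξ
      rw [heq] at h1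
      change Points.map (rho₂ y₀ f) ζ ∈ W at h1
      rwa [hζ2] at h1
    · exact Set.subset_preimage_image _ _
  have hfl := repByAlgSpWith_locP_mono smooth_le_flat _ hy₁
  have hlfp := repByAlgSpWith_locP_mono smooth_le_lfp _ hy₁
  refine ⟨Points.map (FibCat.fpSnd y₀ f) '' W, ?_, by rw [hsat]; exact hW⟩
  exact pMax_descent h𝒳 h𝒴 hV P f y₀ hPb hP (repByAlgSp1_of_repByAlgSpWith _ _ hf) hfl hlfp hy₂
    (by rw [hsat]; exact hW)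

/-- a smooth surjective chart from an algebraic space -/
theorem exists_smooth_chart {𝒴 : AlgSt.Cat S} (h𝒴 : AlgSt.IsAlgStack Scheme.fppfPrecoverage 𝒴) :
    ∃ (V : AlgSp.Space S) (y₀ : AlgSt.ofSp V.obj ⥤ᵇ 𝒴),
      AlgSt.RepByAlgSpWith (AlgSp.LocP @Smooth) y₀ ∧
        AlgSt.RepByAlgSpWith AlgSp.IsSurjectiveMor y₀ := by
  obtain ⟨U₀, u, hu, hu'⟩ := h𝒴.atlas
  refine ⟨⟨(AlgSp.yon S).obj U₀, AlgSp.IsAlgSpace.yon_obj U₀⟩,
    BasedFunctor.comp (AlgSt.toOverCat U₀) u, ?_, ?_⟩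
  · exact (repByAlgSpWith_iff_of_isEquivOver _ u (BasedFunctor.comp (AlgSt.toOverCat U₀) u)
      (AlgSt.toOverCat U₀) (BasedFunctor.id _) (isEquivOver_toOverCat U₀) (isEquivOver_id _)
      (Iso.refl _)).1 hu
  · exact (repByAlgSpWith_iff_of_isEquivOver _ u (BasedFunctor.comp (AlgSt.toOverCat U₀) u)
      (AlgSt.toOverCat U₀) (BasedFunctor.id _) (isEquivOver_toOverCat U₀) (isEquivOver_id _)
      (Iso.refl _)).1 hu'

include hPb hQb hP hQ h₂ h₃ h₄ in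
/-- S12877: existence of the largest open set of points on which `f` has `P` -/
theorem exists_pMax {𝒳 𝒴 : AlgSt.Cat S}
    (h𝒳 : AlgSt.IsAlgStack Scheme.fppfPrecoverage 𝒳)
    (h𝒴 : AlgSt.IsAlgStack Scheme.fppfPrecoverage 𝒴) (f : 𝒳 ⥤ᵇ 𝒴)
    (hf : AlgSt.RepByAlgSpWith Q f) : ∃ T₀, PMax P f T₀ := by
  obtain ⟨V, y₀, hy₁, hy₂⟩ := exists_smooth_chart h𝒴
  obtain ⟨T₀, h, -⟩ := exists_pMax_atlas P Q R hPb hQb hP hQ h₂ h₃ h₄ h𝒳 h𝒴 f hf V y₀ hy₁ hy₂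
  exact ⟨T₀, h⟩

include hPb hQb hRb hP hQ hR h₂ h₃ h₄ in
/-- S19908: the largest open set is compatible with base change along morphisms with `R` -/
theorem pMax_baseChange {𝒳 𝒴 𝒵 : AlgSt.Cat S}
    (h𝒳 : AlgSt.IsAlgStack Scheme.fppfPrecoverage 𝒳)
    (h𝒴 : AlgSt.IsAlgStack Scheme.fppfPrecoverage 𝒴)
    (h𝒵 : AlgSt.IsAlgStack Scheme.fppfPrecoverage 𝒵) (f : 𝒳 ⥤ᵇ 𝒴)
    (hf : AlgSt.RepByAlgSpWith Q f) (z : 𝒵 ⥤ᵇ 𝒴) (hz : AlgSt.RepByAlgSpWith R z)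
    {T₀ : Set (Points 𝒳)} (hT₀ : PMax P f T₀) :
    PMax P (FibCat.fpFst z f) (Points.map (FibCat.fpSnd z f) ⁻¹' T₀) := by
  obtain ⟨V, y₀, hy₁, hy₂⟩ := exists_smooth_chart h𝒴
  obtain ⟨T₀', h1, h2⟩ := exists_pMax_atlas P Q R hPb hQb hP hQ h₂ h₃ h₄ h𝒳 h𝒴 f hf V y₀ hy₁ hy₂
  obtain rfl := hT₀.unique h1
  have hV := isAlgStack_ofSp V
  have hU : AlgSt.IsAlgStack Scheme.fppfPrecoverage (FibCat.fp y₀ f) :=
    isAlgStack_fp h𝒴.isStack h𝒴.diag hV h𝒳 y₀ f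
  have hZ' : AlgSt.IsAlgStack Scheme.fppfPrecoverage (FibCat.fp y₀ z) :=
    isAlgStack_fp h𝒴.isStack h𝒴.diag hV h𝒵 y₀ z
  have hF : AlgSt.IsAlgStack Scheme.fppfPrecoverage (FibCat.fp z f) :=
    isAlgStack_fp h𝒴.isStack h𝒴.diag h𝒵 h𝒳 z f
  have hRc : HasP R (FibCat.fpFst y₀ z) :=
    repS_of_repByAlgSpWith h𝒵.isStack.1 h𝒴.isStack.1 R hRb hR z hz V y₀
  have hQf' : HasP Q (FibCat.fpFst y₀ f) :=
    repS_of_repByAlgSpWith h𝒳.isStack.1 h𝒴.isStack.1 Q hQb hQ f hf V y₀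
  have s1 := pMax_baseChange_of_hasP Q R hPb hP h₃ h₄ hU hZ' (FibCat.fpFst y₀ f) hQf'
    (FibCat.fpFst y₀ z) hRc h2
  rw [preimage_map_comp (FibCat.fpSnd (FibCat.fpFst y₀ z) (FibCat.fpFst y₀ f)) (FibCat.fpSnd y₀ f)
    _ (Iso.refl _)] at s1
  have hA : AlgSt.IsAlgStack Scheme.fppfPrecoverage
      (FibCat.fp (FibCat.fpFst y₀ z) (FibCat.fpFst y₀ f)) :=
    isAlgStack_fp hV.isStack hV.diag hZ' hU _ _
  have hB : AlgSt.IsAlgStack Scheme.fppfPrecoverage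
      (FibCat.fp (BasedFunctor.comp (FibCat.fpFst y₀ z) y₀) f) :=
    isAlgStack_fp h𝒴.isStack h𝒴.diag hZ' h𝒳 _ f
  have hC : AlgSt.IsAlgStack Scheme.fppfPrecoverage
      (FibCat.fp (BasedFunctor.comp (FibCat.fpSnd y₀ z) z) f) :=
    isAlgStack_fp h𝒴.isStack h𝒴.diag hZ' h𝒳 _ f
  have hD : AlgSt.IsAlgStack Scheme.fppfPrecoverage
      (FibCat.fp (FibCat.fpSnd y₀ z) (FibCat.fpFst z f)) :=
    isAlgStack_fp h𝒵.isStack h𝒵.diag hZ' hF _ _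
  have s2 : PMax P (FibCat.fpFst (BasedFunctor.comp (FibCat.fpFst y₀ z) y₀) f)
      (Points.map (FibCat.fpSnd (BasedFunctor.comp (FibCat.fpFst y₀ z) y₀) f) ⁻¹' T₀) :=
    (pMax_transport_pre hA hB P (Groth.Agent.Lib.Helper24.FibCatFpPaste.P f y₀ (FibCat.fpFst y₀ z))
      isEquivOver_P (BasedFunctor.id _) (isEquivOver_id _)
      (FibCat.fpFst (BasedFunctor.comp (FibCat.fpFst y₀ z) y₀) f)
      (FibCat.fpFst (FibCat.fpFst y₀ z) (FibCat.fpFst y₀ f)) (Iso.refl _)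
      (FibCat.fpSnd (BasedFunctor.comp (FibCat.fpFst y₀ z) y₀) f)
      (BasedFunctor.comp (FibCat.fpSnd (FibCat.fpFst y₀ z) (FibCat.fpFst y₀ f)) (FibCat.fpSnd y₀ f))
      (Iso.refl _) T₀).2 s1
  let E : FibCat.fp (BasedFunctor.comp (FibCat.fpFst y₀ z) y₀) f ⥤ᵇ
      FibCat.fp (BasedFunctor.comp (FibCat.fpSnd y₀ z) z) f :=
    fpMap (BasedFunctor.id _) (BasedFunctor.id _) (BasedFunctor.id _)
      (FibCat.fpIso y₀ z : BasedFunctor.comp (BasedFunctor.comp (FibCat.fpFst y₀ z) y₀)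
        (BasedFunctor.id 𝒴) ≅ BasedFunctor.comp (BasedFunctor.id _)
          (BasedFunctor.comp (FibCat.fpSnd y₀ z) z))
      (Iso.refl _ : BasedFunctor.comp f (BasedFunctor.id 𝒴) ≅
        BasedFunctor.comp (BasedFunctor.id 𝒳) f)
  have hE : FibCat.IsEquivOver E :=
    isEquivOver_fpMap _ _ _ _ _ (isEquivOver_id _) (isEquivOver_id _)
  have s3 : PMax P (FibCat.fpFst (BasedFunctor.comp (FibCat.fpSnd y₀ z) z) f)
      (Points.map (FibCat.fpSnd (BasedFunctor.comp (FibCat.fpSnd y₀ z) z) f) ⁻¹' T₀) :=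
    (pMax_transport_pre hB hC P E hE (BasedFunctor.id _) (isEquivOver_id _)
      (FibCat.fpFst (BasedFunctor.comp (FibCat.fpSnd y₀ z) z) f)
      (FibCat.fpFst (BasedFunctor.comp (FibCat.fpFst y₀ z) y₀) f) (Iso.refl _)
      (FibCat.fpSnd (BasedFunctor.comp (FibCat.fpSnd y₀ z) z) f)
      (FibCat.fpSnd (BasedFunctor.comp (FibCat.fpFst y₀ z) y₀) f) (Iso.refl _) T₀).2 s2
  have s4 := (pMax_transport_pre hD hC P
      (Groth.Agent.Lib.Helper24.FibCatFpPaste.P f z (FibCat.fpSnd y₀ z))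
      isEquivOver_P (BasedFunctor.id _) (isEquivOver_id _)
      (FibCat.fpFst (BasedFunctor.comp (FibCat.fpSnd y₀ z) z) f)
      (FibCat.fpFst (FibCat.fpSnd y₀ z) (FibCat.fpFst z f)) (Iso.refl _)
      (FibCat.fpSnd (BasedFunctor.comp (FibCat.fpSnd y₀ z) z) f)
      (BasedFunctor.comp (FibCat.fpSnd (FibCat.fpSnd y₀ z) (FibCat.fpFst z f)) (FibCat.fpSnd z f))
      (Iso.refl _) T₀).1 s3
  rw [← preimage_map_comp (FibCat.fpSnd (FibCat.fpSnd y₀ z) (FibCat.fpFst z f)) (FibCat.fpSnd z f)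
    _ (Iso.refl _)] at s4
  have hfl := repByAlgSpWith_locP_mono smooth_le_flat _ hy₁
  have hlfp := repByAlgSpWith_locP_mono smooth_le_lfp _ hy₁
  exact pMax_descent hF h𝒵 hZ' P (FibCat.fpFst z f) (FibCat.fpSnd y₀ z) hPb hP
    (repByAlgSp1_fpFst f z (repByAlgSp1_of_repByAlgSpWith _ _ hf))
    (repByAlgSpWith_fpSnd _ y₀ z hfl) (repByAlgSpWith_fpSnd _ y₀ z hlfp)
    (repByAlgSpWith_fpSnd _ y₀ z hy₂) s4

end Groth.Agent.Lib.Helper24.AlgStPMax4
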