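import Groth.Agent.Lib.Helper24.AlgStDiag
import Groth.Agent.Lib.Helper14.AlgSpDiag
set_option autoImplicit false
open CategoryTheory AlgebraicGeometry Opposite
universe u
set_option backward.isDefEq.respectTransparency false
set_option backward.isDefEq.respectTransparency.types false

/-! The product over `S` of two slice categories is the slice category of the product. -/

namespace Groth.Agent.Lib.Helper24.AlgStProdEquiv
open Groth.Agent.Lib.Helper24.FibCatFpMap
open Groth.Agent.Lib.Helper24.FibCatEquiv Groth.Agent.Lib.Helper24.FibCatFpGen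
open Groth.Agent.Lib.Helper24.AlgStRep
open Groth.Agent.Lib.Helper24.AlgStBridge Groth.Agent.Lib.Helper24.AlgStBoot
open Groth.Agent.Lib.Helper24.AlgStRepS Groth.Agent.Lib.Helper24.PshBridge
open Groth.Agent.Lib.Helper24.AlgStAtlas Groth.Agent.Lib.Helper24.PshFun
open Groth.Agent.Lib.Helper24.FibCatRepDiag
open CategoryTheory.Limits AlgSt

variable {S : Scheme.{u}}

/-- the category of the product of two sheaves is the product over `(Sch/S)` of their categories,
with the product sheaf exposed -/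
theorem exists_equiv_prod (X Y : AlgSp.Sp S) :
    ∃ E : AlgSt.ofSp (X ⨯ Y) ⥤ᵇ
        FibCat.fp (FibCat.toSelf (AlgSt.ofSp X)) (FibCat.toSelf (AlgSt.ofSp Y)),
      FibCat.IsEquivOver E := by
  let pt : AlgSp.Sp S := ⊤_ AlgSp.Sp S
  have hsq : IsPullback (prod.snd : X ⨯ Y ⟶ Y) prod.fst (terminal.from Y)
      (terminal.from X) := (IsPullback.of_hasBinaryProduct' X Y).flip
  have hsq' := hsq.map (sheafToPresheaf (AlgSp.J S) (Type (u + 1)))
  have sq := isPtPullback_of_isPullback _ _ _ _ hsq'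
  have : ∀ T, Subsingleton (pt.obj.obj T) := fun T =>
    (uniqueTerminalSections (AlgSp.J S) T).instSubsingleton
  let E1 := fpOfSq sq
  have hE1 : FibCat.IsEquivOver E1 := isEquivOver_fpOfSq sq
  let s := FibCat.toSelf (Stk.ofPsh pt.obj)
  let eF : BasedFunctor.comp (Stk.ofPshMap (terminal.from X).hom) s ≅
      BasedFunctor.comp (BasedFunctor.id _) (FibCat.toSelf (AlgSt.ofSp X)) := Iso.refl _
  let eG : BasedFunctor.comp (Stk.ofPshMap (terminal.from Y).hom) s ≅
      BasedFunctor.comp (BasedFunctor.id _) (FibCat.toSelf (AlgSt.ofSp Y)) := Iso.refl _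
  let E2 := fpMap (BasedFunctor.id _) (BasedFunctor.id _) s eF eG
  have hE2 : FibCat.IsEquivOver E2 :=
    isEquivOver_fpMap _ _ s eF eG (isEquivOver_id _) (isEquivOver_id _)
  exact ⟨BasedFunctor.comp E1 E2, isEquivOver_comp E1 E2 hE1 hE2⟩

/-- the slice category of a product of schemes over `S` is the product over `(Sch/S)` of the slice
categories, mapped to any third category -/
theorem exists_equiv_overCat_prod {𝒳 : AlgSt.Cat S} (U V : Over S)
    (a : FibCat.overCat U ⥤ᵇ 𝒳) (b : FibCat.overCat V ⥤ᵇ 𝒳) :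
    ∃ E : FibCat.overCat (U ⨯ V) ⥤ᵇ FibCat.fp (BasedFunctor.comp a (FibCat.toSelf 𝒳))
        (BasedFunctor.comp b (FibCat.toSelf 𝒳)), FibCat.IsEquivOver E := by
  obtain ⟨E0, hE0⟩ := exists_equiv_prod ((AlgSp.yon S).obj U) ((AlgSp.yon S).obj V)
  let eF : BasedFunctor.comp (FibCat.toSelf (AlgSt.ofSp ((AlgSp.yon S).obj U)))
      (BasedFunctor.id _) ≅
      BasedFunctor.comp (AlgSt.toOverCat U) (BasedFunctor.comp a (FibCat.toSelf 𝒳)) :=
    pairIso (BasedFunctor.id _) (BasedFunctor.comp (AlgSt.toOverCat U) a)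
  let eG : BasedFunctor.comp (FibCat.toSelf (AlgSt.ofSp ((AlgSp.yon S).obj V)))
      (BasedFunctor.id _) ≅
      BasedFunctor.comp (AlgSt.toOverCat V) (BasedFunctor.comp b (FibCat.toSelf 𝒳)) :=
    pairIso (BasedFunctor.id _) (BasedFunctor.comp (AlgSt.toOverCat V) b)
  have hE3 := isEquivOver_fpMap (AlgSt.toOverCat U) (AlgSt.toOverCat V)
    (BasedFunctor.id (FibCat.selfOver (Over S))) eF eG (isEquivOver_toOverCat U)
    (isEquivOver_toOverCat V)
  have hiso : IsIso (prodComparison (AlgSp.yon S) U V).hom :=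
    (inferInstance : IsIso ((sheafToPresheaf _ _).map (prodComparison (AlgSp.yon S) U V)))
  have hE1 : FibCat.IsEquivOver (AlgSt.ofSpMap (prodComparison (AlgSp.yon S) U V)) :=
    isEquivOver_ofPshMap_of_isIso _
  exact ⟨BasedFunctor.comp (AlgSt.ofOverCat (U ⨯ V))
    (BasedFunctor.comp (AlgSt.ofSpMap (prodComparison (AlgSp.yon S) U V))
      (BasedFunctor.comp E0 (fpMap (AlgSt.toOverCat U) (AlgSt.toOverCat V)
        (BasedFunctor.id (FibCat.selfOver (Over S))) eF eG))),
    isEquivOver_comp _ _ (isEquivOver_ofOverCat _)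
      (isEquivOver_comp _ _ hE1 (isEquivOver_comp _ _ hE0 hE3))⟩

end Groth.Agent.Lib.Helper24.AlgStProdEquiv
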