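import Groth.Agent.Lib.Helper14.FpqcBase4
import Groth.Agent.Lib.Helper14.FpqcCover2
import Groth.Agent.Lib.Helper24.AlgStRepS
import Groth.Agent.Lib.Helper24.AlgStIso
set_option autoImplicit false
open CategoryTheory AlgebraicGeometry Opposite
universe u
set_option backward.isDefEq.respectTransparency false
set_option backward.isDefEq.respectTransparency.types false

/-! Good properties of morphisms of algebraic spaces: stable under base change and fppf local on
the base (assembled from helper14's results). -/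

namespace Groth.Agent.Lib.Helper24.AlgStProps
open Groth.Agent.Lib.Helper24.AlgStRepS Groth.Agent.Lib.Helper14.AS
open CategoryTheory.Limits AlgSp

variable {S : Scheme.{u}}

lemma isLocalOnBase_fppf_of_fpqc {P : MorphismProperty (Sp S)}
    (h : IsLocalOnBase IsFpqcCover P) : IsLocalOnBase IsFppfCover P := by
  intro ι Y Yi g hY hYi hcov X f hX Xi p q hXi hsq
  exact h Yi g hY hYi (isFpqcCover_of_isFppfCover hY _ _ hYi hcov) f hX Xi p q hXi hsq

lemma stableBC_of_bcStable {P : MorphismProperty (Sp S)} (h : BCStable P) : StableBC P :=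
  fun _ _ _ _ hX₁ hY₁ hX₂ hY₂ a b a' b' sq ha => h hX₁ hY₁ hY₂ hX₂ a b b' a' sq ha

/-- stable under base change and fppf local on the base -/
structure Good (P : MorphismProperty (Sp S)) : Prop where
  bc : StableBC P
  loc : IsLocalOnBase IsFppfCover P

lemma Good.of_fpqc {P : MorphismProperty (Sp S)} (hb : BCStable P)
    (hl : IsLocalOnBase IsFpqcCover P) : Good P :=
  ⟨stableBC_of_bcStable hb, isLocalOnBase_fppf_of_fpqc hl⟩

lemma Good.and {P P' : MorphismProperty (Sp S)} (h : Good P) (h' : Good P') :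
    Good (fun _ _ f => P f ∧ P' f) :=
  ⟨fun _ _ _ _ hX₁ hY₁ hX₂ hY₂ a b a' b' sq ha =>
      ⟨h.bc hX₁ hY₁ hX₂ hY₂ a b a' b' sq ha.1, h'.bc hX₁ hY₁ hX₂ hY₂ a b a' b' sq ha.2⟩,
    isLocalOnBase_and h.loc h'.loc⟩

lemma Good.inf {P P' : MorphismProperty (Sp S)} (h : Good P) (h' : Good P') : Good (P ⊓ P') :=
  h.and h'

lemma Good.respectsIso {P : MorphismProperty (Sp S)} (h : Good P) : (Phat P).RespectsIso :=
  phat_respectsIso P h.bc

theorem good_locP {Q : MorphismProperty Scheme.{u}} (hQ : EtLocal Q)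
    [Q.IsStableUnderBaseChange] [IsZariskiLocalAtTarget Q]
    [Q.DescendsAlong (@Surjective ⊓ @Flat ⊓ @QuasiCompact)] : Good (LocP Q (S := S)) :=
  Good.of_fpqc (bcStable_locP hQ) (isLocalOnBase_fpqc_locP hQ)

theorem good_flat : Good (LocP @Flat (S := S)) :=
  Good.of_fpqc (bcStable_locP etLocal_flat) isLocalOnBase_fpqc_locP_flat
theorem good_lfp : Good (LocP @LocallyOfFinitePresentation (S := S)) :=
  Good.of_fpqc (bcStable_locP etLocal_lfp) isLocalOnBase_fpqc_locP_lfp
theorem good_lft : Good (LocP @LocallyOfFiniteType (S := S)) :=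
  Good.of_fpqc (bcStable_locP etLocal_lft) isLocalOnBase_fpqc_locP_lft
theorem good_unramified : Good (LocP (@LocallyOfFiniteType ⊓ @FormallyUnramified) (S := S)) :=
  Good.of_fpqc (bcStable_locP etLocal_lft_fu) isLocalOnBase_fpqc_locP_unramified
theorem good_lqf : Good (LocP (@LocallyQuasiFinite ⊓ @LocallyOfFiniteType) (S := S)) :=
  Good.of_fpqc (bcStable_locP etLocal_lqf_lft) isLocalOnBase_fpqc_locP_lqf
theorem good_locP_etale : Good (LocP @Etale (S := S)) :=
  Good.of_fpqc (bcStable_locP etLocal_etale) isLocalOnBase_fpqc_locP_etale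

theorem good_isSurjectiveMor : Good (IsSurjectiveMor (S := S)) :=
  Good.of_fpqc bcStable_isSurjectiveMor isLocalOnBase_fpqc_isSurjectiveMor

theorem good_isEtaleMor : Good (IsEtaleMor (S := S)) :=
  Good.of_fpqc (fun _ _ _ _ hX hY hY' _ _ _ _ _ sq hf => isEtaleMor_of_isPullback hX hY hY' sq hf)
    isLocalOnBase_fpqc_isEtaleMor

theorem good_isQuasiCompactMor : Good (IsQuasiCompactMor (S := S)) :=
  Good.of_fpqc (fun _ _ _ _ _ _ _ _ _ _ _ _ sq hf => isQuasiCompactMor_of_isPullback sq hf)
    isLocalOnBase_fpqc_isQuasiCompactMor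

theorem good_mono : Good (MorphismProperty.monomorphisms (Sp S)) :=
  Good.of_fpqc (fun _ _ _ _ _ _ _ _ _ _ _ _ sq hf => by
    have : Mono _ := hf
    exact MorphismProperty.monomorphisms.infer_property _ (hf := sq.mono_snd_of_mono))
    isLocalOnBase_fpqc_monomorphisms

theorem stableComp_mono : StableComp (MorphismProperty.monomorphisms (Sp S)) := by
  intro X Y Z _ _ _ a b ha hb
  have : Mono a := ha
  have : Mono b := hb
  exact MorphismProperty.monomorphisms.infer_property _

theorem stableComp_repWith (Q : MorphismProperty Scheme.{u}) [Q.IsStableUnderComposition] :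
    StableComp (RepWith Q (S := S)) := fun _ _ _ _ _ _ _ _ ha hb => repWith_comp Q ha hb

end Groth.Agent.Lib.Helper24.AlgStProps
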