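import Groth.Prelude.Def_AlgSt4
import Groth.Agent.Lib.Helper24.FibCatEquiv2
set_option autoImplicit false
open CategoryTheory AlgebraicGeometry Opposite
universe w₁ v₁ w₂ v₂ w₃ v₃ u
set_option backward.isDefEq.respectTransparency false
set_option backward.isDefEq.respectTransparency.types false

/-! Points of categories over `(Sch/S)`: functoriality, invariance under 2-isomorphisms and
equivalences, scheme charts. -/

noncomputable section

namespace Groth.Agent.Lib.Helper24.AlgStPts1
open AlgSt

variable {S : Scheme.{u}}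
variable {𝒳 : BasedCategory.{v₁, w₁} (Over S)} {𝒴 : BasedCategory.{v₂, w₂} (Over S)}
  {𝒵 : BasedCategory.{v₃, w₃} (Over S)}

theorem map_id (z : Points 𝒳) : Points.map (BasedFunctor.id 𝒳) z = z := by
  obtain ⟨p, rfl⟩ := Points.mk_surjective z
  rfl

theorem map_comp (f : 𝒳 ⥤ᵇ 𝒴) (g : 𝒴 ⥤ᵇ 𝒵) (z : Points 𝒳) :
    Points.map (BasedFunctor.comp f g) z = Points.map g (Points.map f z) := by
  obtain ⟨p, rfl⟩ := Points.mk_surjective z
  rfl

theorem map_congr {f g : 𝒳 ⥤ᵇ 𝒴} (i : f ≅ g) : Points.map f = Points.map g := by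
  funext z
  obtain ⟨p, rfl⟩ := Points.mk_surjective z
  exact Points.sound ⟨p.map f, 𝟙 _, i.hom.toNatTrans.app p.obj, trivial⟩

theorem bijective_map_of_isEquivOver (e : 𝒳 ⥤ᵇ 𝒴) (he : FibCat.IsEquivOver e) :
    Function.Bijective (Points.map e) := by
  obtain ⟨e', ⟨α⟩, ⟨β⟩⟩ := he
  have h1 : ∀ z, Points.map e' (Points.map e z) = z := fun z => by
    rw [← map_comp, map_congr α, map_id]
  have h2 : ∀ z, Points.map e (Points.map e' z) = z := fun z => by
    rw [← map_comp, map_congr β, map_id]
  exact ⟨Function.LeftInverse.injective h1, Function.RightInverse.surjective h2⟩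

/-- the field-valued point of `(Sch/U)` given by a point of `U` -/
def ptOf (U : Over S) (t : ↥U.left) : FPt (FibCat.overCat U) where
  K := ↥(U.left.residueField t)
  str := U.left.fromSpecResidueField t ≫ U.hom
  obj := Over.mk (Over.homMk (U.left.fromSpecResidueField t) rfl :
          Over.mk (U.left.fromSpecResidueField t ≫ U.hom) ⟶ U)
  lies := rfl

/-- the point of `(Sch/U)` given by a point of `U` -/
def sch (U : Over S) (t : ↥U.left) : Points (FibCat.overCat U) := Points.mk (ptOf U t)

theorem ofChart_eq {U : Over S} (x : FibCat.overCat U ⥤ᵇ 𝒳) (t : ↥U.left) :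
    Points.ofChart x t = Points.map x (sch U t) := rfl

theorem ofChart_id (U : Over S) (t : ↥U.left) :
    Points.ofChart (BasedFunctor.id (FibCat.overCat U)) t = sch U t := rfl

theorem ofChart_comp {U : Over S} (x : FibCat.overCat U ⥤ᵇ 𝒳) (f : 𝒳 ⥤ᵇ 𝒴) (t : ↥U.left) :
    Points.ofChart (BasedFunctor.comp x f) t = Points.map f (Points.ofChart x t) := rfl

theorem ofChart_congr {U : Over S} {x x' : FibCat.overCat U ⥤ᵇ 𝒳} (i : x ≅ x') :
    Points.ofChart x = Points.ofChart x' := by
  funext t
  rw [ofChart_eq, ofChart_eq, map_congr i]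

/-- the morphism of residue-field points induced by a morphism of schemes -/
def resHom {V U : Over S} (h : V ⟶ U) (v : ↥V.left) :
    (AlgSt.overMap h).obj (ptOf V v).obj ⟶ (ptOf U (h.left v)).obj :=
  Over.homMk (Over.homMk (Spec.map (h.left.residueFieldMap v)) (by
    change Spec.map (h.left.residueFieldMap v) ≫ U.left.fromSpecResidueField _ ≫ U.hom =
      V.left.fromSpecResidueField v ≫ V.hom
    rw [Scheme.Hom.SpecMap_residueFieldMap_fromSpecResidueField_assoc, Over.w h])) (by
    apply Over.OverMorphism.ext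
    change Spec.map (h.left.residueFieldMap v) ≫ U.left.fromSpecResidueField _ =
      V.left.fromSpecResidueField v ≫ h.left
    exact Scheme.Hom.SpecMap_residueFieldMap_fromSpecResidueField _ _)

theorem sch_overMap {V U : Over S} (h : V ⟶ U) (v : ↥V.left) :
    Points.map (AlgSt.overMap h) (sch V v) = sch U (h.left v) :=
  Points.sound ⟨(ptOf V v).map (AlgSt.overMap h), 𝟙 _, resHom h v, trivial⟩

theorem ofChart_overMap {V U : Over S} (h : V ⟶ U) (x : FibCat.overCat U ⥤ᵇ 𝒳) (v : ↥V.left) :
    Points.ofChart (BasedFunctor.comp (AlgSt.overMap h) x) v = Points.ofChart x (h.left v) := by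
  rw [ofChart_eq, map_comp, sch_overMap, ← ofChart_eq]

end Groth.Agent.Lib.Helper24.AlgStPts1
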