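import Groth.Agent.Lib.Helper24.AlgStPts1
set_option autoImplicit false
open CategoryTheory AlgebraicGeometry Opposite
universe w₁ v₁ w₂ v₂ w₃ v₃ u
set_option backward.isDefEq.respectTransparency false
set_option backward.isDefEq.respectTransparency.types false

/-! Points of the category of a sheaf versus points of the sheaf. -/

noncomputable section

namespace Groth.Agent.Lib.Helper24.AlgStPts2
open AlgSt Groth.Agent.Lib.Helper24.AlgStPts1

variable {S : Scheme.{u}}

/-- field-valued points of a sheaf as field-valued points of its category -/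
def toFPt (F : AlgSp.Sp S) (p : AlgSp.FieldPt F) : FPt (AlgSt.ofSp F) :=
  { K := p.K, str := p.str, obj := ⟨Over.mk p.str, p.val⟩, lies := rfl }

/-- field-valued points of the category of a sheaf as field-valued points of the sheaf -/
def ofFPt (F : AlgSp.Sp S) (p : FPt (AlgSt.ofSp F)) : AlgSp.FieldPt F :=
  { K := p.K, str := p.str, val := F.obj.map (eqToHom p.lies.symm).op p.obj.sec }

theorem rel_toFPt (F : AlgSp.Sp S) {p q : AlgSp.FieldPt F} (h : AlgSp.FieldPt.Rel p q) :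
    FPt.Rel (toFPt F p) (toFPt F q) := by
  obtain ⟨Ω, _, w, a, b, h⟩ := h
  exact ⟨{ K := Ω, str := w, obj := ⟨Over.mk w, F.obj.map a.op p.val⟩, lies := rfl },
    ⟨a, rfl⟩, ⟨b, h.symm⟩, trivial⟩

theorem ofFPt_mk (F : AlgSp.Sp S) (K : Type u) [Field K] (str : Spec (CommRingCat.of K) ⟶ S)
    (sec : F.obj.obj (op (Over.mk str))) :
    ofFPt F { K := K, str := str, obj := ⟨Over.mk str, sec⟩, lies := rfl } =
      { K := K, str := str, val := sec } := by
  change (⟨K, str, F.obj.map (eqToHom rfl).op sec⟩ : AlgSp.FieldPt F) = _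
  simp

theorem rel_ofFPt (F : AlgSp.Sp S) {p q : FPt (AlgSt.ofSp F)} (h : FPt.Rel p q) :
    AlgSp.FieldPt.Rel (ofFPt F p) (ofFPt F q) := by
  obtain ⟨r, α, β, -⟩ := h
  obtain ⟨K, str, ⟨base, sec⟩, lies⟩ := p
  obtain ⟨K', str', ⟨base', sec'⟩, lies'⟩ := q
  obtain ⟨K'', str'', ⟨base'', sec''⟩, lies''⟩ := r
  change base = Over.mk str at lies
  change base' = Over.mk str' at lies'
  change base'' = Over.mk str'' at lies''
  subst lies lies' lies''
  rw [ofFPt_mk, ofFPt_mk]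
  exact ⟨K'', inferInstance, str'', α.hom, β.hom, α.map_sec.trans β.map_sec.symm⟩

/-- `|F| → |ofSp F|` -/
def toPts (F : AlgSp.Sp S) : AlgSp.Points F → Points (AlgSt.ofSp F) :=
  Quotient.lift (fun p => Points.mk (toFPt F p)) (fun _ _ h => Points.sound (rel_toFPt F h))

/-- `|ofSp F| → |F|` -/
def ofPts (F : AlgSp.Sp S) : Points (AlgSt.ofSp F) → AlgSp.Points F :=
  Quot.lift (fun p => AlgSp.Points.mk (ofFPt F p)) (fun _ _ h => AlgSp.Points.sound (rel_ofFPt F h))

@[simp] theorem toPts_mk (F : AlgSp.Sp S) (p : AlgSp.FieldPt F) :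
    toPts F (AlgSp.Points.mk p) = Points.mk (toFPt F p) := rfl

@[simp] theorem ofPts_mk (F : AlgSp.Sp S) (p : FPt (AlgSt.ofSp F)) :
    ofPts F (Points.mk p) = AlgSp.Points.mk (ofFPt F p) := rfl

theorem ofPts_toPts (F : AlgSp.Sp S) (z : AlgSp.Points F) : ofPts F (toPts F z) = z := by
  obtain ⟨p, rfl⟩ := AlgSp.Points.mk_surjective z
  rw [toPts_mk, ofPts_mk]
  congr 1
  exact ofFPt_mk F p.K p.str p.val

theorem toPts_ofPts (F : AlgSp.Sp S) (z : Points (AlgSt.ofSp F)) : toPts F (ofPts F z) = z := by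
  obtain ⟨p, rfl⟩ := Points.mk_surjective z
  rw [ofPts_mk, toPts_mk]
  exact Points.sound ⟨toFPt F (ofFPt F p), 𝟙 _, ⟨eqToHom p.lies.symm, rfl⟩, trivial⟩

/-- `|F| ≃ |ofSp F|` -/
def ptsEquiv (F : AlgSp.Sp S) : AlgSp.Points F ≃ Points (AlgSt.ofSp F) where
  toFun := toPts F
  invFun := ofPts F
  left_inv := ofPts_toPts F
  right_inv := toPts_ofPts F

theorem map_ofSpMap_toPts {F G : AlgSp.Sp S} (a : F ⟶ G) (z : AlgSp.Points F) :
    Points.map (AlgSt.ofSpMap a) (toPts F z) = toPts G (AlgSp.Points.map a z) := by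
  obtain ⟨p, rfl⟩ := AlgSp.Points.mk_surjective z
  rfl

theorem ofPts_map_ofSpMap {F G : AlgSp.Sp S} (a : F ⟶ G) (z : Points (AlgSt.ofSp F)) :
    ofPts G (Points.map (AlgSt.ofSpMap a) z) = AlgSp.Points.map a (ofPts F z) := by
  obtain ⟨z, rfl⟩ := (ptsEquiv F).surjective z
  change ofPts G (Points.map (AlgSt.ofSpMap a) (toPts F z)) = AlgSp.Points.map a (ofPts F (toPts F z))
  rw [map_ofSpMap_toPts, ofPts_toPts, ofPts_toPts]

theorem toPts_ofPt {F : AlgSp.Sp S} {T : Over S} (g : (AlgSp.yon S).obj T ⟶ F) (t : ↥T.left) :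
    toPts F (AlgSp.Points.ofPt g t) =
      Points.ofChart (BasedFunctor.comp (AlgSt.ofOverCat T) (AlgSt.ofSpMap g)) t := rfl

end Groth.Agent.Lib.Helper24.AlgStPts2
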