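import Groth.Agent.Lib.Helper24.AlgStPts2
import Groth.Agent.Lib.Helper24.AlgStRepS
import Groth.Agent.Lib.Helper24.AlgStRep2
import Groth.Agent.Lib.Helper24.FibCatYoneda
import Groth.Agent.Lib.Helper24.AlgStSmLoc
import Groth.Agent.Lib.Helper14.AlgSpPoints
set_option autoImplicit false
open CategoryTheory AlgebraicGeometry Opposite
universe w₁ v₁ w₂ v₂ w₃ v₃ u
set_option backward.isDefEq.respectTransparency false
set_option backward.isDefEq.respectTransparency.types false

/-! Points of `(Sch/U)`; surjective functors are surjective on points. -/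

noncomputable section

namespace Groth.Agent.Lib.Helper24.AlgStPts3
open AlgSt Groth.Agent.Lib.Helper24.AlgStPts1 Groth.Agent.Lib.Helper24.AlgStPts2
open Groth.Agent.Lib.Helper24.AlgStRepS Groth.Agent.Lib.Helper24.PshBridge
open Groth.Agent.Lib.Helper24.AlgStBridge Groth.Agent.Lib.Helper24.AlgStRep

variable {S : Scheme.{u}}

theorem map_ofOverCat_sch (U : Over S) (t : ↥U.left) :
    Points.map (AlgSt.ofOverCat U) (sch U t) =
      toPts ((AlgSp.yon S).obj U) (AlgSp.Points.ofScheme U t) := rfl

theorem bijective_sch (U : Over S) : Function.Bijective (sch U) := by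
  have h1 : Function.Bijective (Points.map (AlgSt.ofOverCat U)) :=
    bijective_map_of_isEquivOver _ (isEquivOver_ofOverCat U)
  have h2 : Function.Bijective (fun t => toPts ((AlgSp.yon S).obj U) (AlgSp.Points.ofScheme U t)) :=
    (ptsEquiv ((AlgSp.yon S).obj U)).bijective.comp (AlgSp.Points.schemeEquiv U).bijective
  have h3 : Points.map (AlgSt.ofOverCat U) ∘ sch U =
      fun t => toPts ((AlgSp.yon S).obj U) (AlgSp.Points.ofScheme U t) := by
    funext t
    exact map_ofOverCat_sch U t
  rw [← h3] at h2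
  exact (Function.Bijective.of_comp_iff' h1 (sch U)).1 h2

/-- functors from the category of a sheaf to a slice: points -/
theorem map_toPts_eq {F : AlgSp.Sp S} {U : Over S} (Φ : AlgSt.ofSp F ⥤ᵇ FibCat.overCat U)
    (z : AlgSp.Points F) :
    Points.map (AlgSt.ofOverCat U) (Points.map Φ (toPts F z)) =
      toPts _ (AlgSp.Points.map (AlgSt.spMapOfOver Φ) z) := by
  rw [← map_comp, spMapOfOver_eq, ← map_ofSpMap_toPts]
  exact congrFun (map_congr (isoOfPshMap (BasedFunctor.comp Φ (AlgSt.ofOverCat U)))) _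

theorem surjective_map_iff {F : AlgSp.Sp S} {U : Over S} (Φ : AlgSt.ofSp F ⥤ᵇ FibCat.overCat U) :
    Function.Surjective (Points.map Φ) ↔ AlgSp.IsSurjectiveMor (AlgSt.spMapOfOver Φ) := by
  have h1 : Function.Bijective (Points.map (AlgSt.ofOverCat U)) :=
    bijective_map_of_isEquivOver _ (isEquivOver_ofOverCat U)
  have key : (Points.map (AlgSt.ofOverCat U) ∘ Points.map Φ) ∘ toPts F =
      toPts _ ∘ AlgSp.Points.map (AlgSt.spMapOfOver Φ) := by
    funext z
    exact map_toPts_eq Φ z
  constructor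
  · intro h
    have h2 : Function.Surjective ((Points.map (AlgSt.ofOverCat U) ∘ Points.map Φ) ∘ toPts F) :=
      (h1.surjective.comp h).comp (ptsEquiv F).surjective
    rw [key] at h2
    exact (Function.Surjective.of_comp_iff' (ptsEquiv _).bijective _).1 h2
  · intro h
    have h2 : Function.Surjective (toPts ((AlgSp.yon S).obj U) ∘
        AlgSp.Points.map (AlgSt.spMapOfOver Φ)) := (ptsEquiv _).surjective.comp h
    rw [← key] at h2
    have h3 := (Function.Surjective.of_comp_iff _ (ptsEquiv F).surjective).1 h2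
    exact (Function.Surjective.of_comp_iff' h1 _).1 h3


section chart
variable {𝒴 : BasedCategory.{v₂, w₂} (Over S)}

/-- the tautological point of `(Sch/Spec K)` -/
def idPt (q : FPt 𝒴) : FPt (FibCat.overCat (Over.mk q.str)) :=
  { K := q.K, str := q.str, obj := Over.mk (𝟙 (Over.mk q.str)), lies := rfl }

/-- every field-valued point of a fibred category is the image of the tautological point under a
scheme chart (2-Yoneda) -/
theorem exists_chart (h𝒴 : FibCat.IsFibGrpd 𝒴.p) (q : FPt 𝒴) :
    ∃ y : FibCat.overCat (Over.mk q.str) ⥤ᵇ 𝒴, Points.map y (Points.mk (idPt q)) = Points.mk q := by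
  have : 𝒴.p.IsFibered := Groth.Agent.Lib.Helper24.FibGrpd.isFibered_of_isFibGrpd 𝒴.p h𝒴
  refine ⟨Groth.Agent.Lib.Helper24.FibCatYoneda.pbBased q.lies, ?_⟩
  exact Points.sound ⟨(idPt q).map (Groth.Agent.Lib.Helper24.FibCatYoneda.pbBased q.lies), 𝟙 _,
    Groth.Agent.Lib.Helper24.FibCatYoneda.pbMap q.lies (Over.mk (𝟙 (Over.mk q.str))), trivial⟩

variable {𝒳 : BasedCategory.{v₁, w₁} (Over S)}

/-- a functor which is representable by algebraic spaces and surjective is surjective on points -/
theorem surjective_map_of_repByAlgSpWith (h𝒴 : FibCat.IsFibGrpd 𝒴.p) (f : 𝒳 ⥤ᵇ 𝒴)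
    (hf : AlgSt.RepByAlgSpWith AlgSp.IsSurjectiveMor f) : AlgSt.IsSurjective f := by
  intro y₀
  obtain ⟨q, rfl⟩ := Points.mk_surjective y₀
  obtain ⟨y, hy⟩ := exists_chart h𝒴 q
  obtain ⟨F, e, he, hs⟩ := hf _ y
  obtain ⟨w, hw⟩ := (surjective_map_iff _).2 hs (Points.mk (idPt q))
  refine ⟨Points.map (BasedFunctor.comp e (FibCat.fpSnd y f)) w, ?_⟩
  rw [← map_comp, ← hy, ← hw, ← map_comp]
  exact congrFun (map_congr (whiskerLeftIso e (FibCat.fpIso y f).symm)) w

end chart

end Groth.Agent.Lib.Helper24.AlgStPts3
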