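import Mathlib
set_option autoImplicit false
universe u
open CategoryTheory CategoryTheory.Limits AlgebraicGeometry TopologicalSpace

/-! Quasi-affine schemes: locality over an affine base. -/

namespace Groth.Agent.Lib.Helper24.QAffSch

open Scheme

/-- A quasi-compact scheme covered by quasi-affine basic opens of global sections is
quasi-affine. -/
theorem isQuasiAffine_of_forall_exists_mem_basicOpen (X : Scheme.{u}) [CompactSpace X]
    (H : ∀ x : X, ∃ r : Γ(X, ⊤), (X.basicOpen r).toScheme.IsQuasiAffine ∧ x ∈ X.basicOpen r) :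
    X.IsQuasiAffine := by
  suffices IsOpenImmersion X.toSpecΓ by constructor
  have : QuasiSeparatedSpace X := by
    choose r hr hxr using H
    refine .of_isOpenCover (U := (X.basicOpen <| r ·))
      (eq_top_iff.mpr fun _ _ ↦ Opens.mem_iSup.mpr ⟨_, hxr _⟩)
      (fun _ ↦ isRetrocompact_basicOpen _) (fun x ↦ ?_)
    have := hr x
    have h1 : QuasiSeparatedSpace (X.basicOpen (r x)).toScheme := inferInstance
    exact (isQuasiSeparated_iff_quasiSeparatedSpace _ (X.basicOpen (r x)).2).2 h1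
  refine IsZariskiLocalAtTarget.of_forall_source_exists_preimage _ fun x ↦ ?_
  obtain ⟨r, hr, hxr⟩ := H x
  refine ⟨PrimeSpectrum.basicOpen r, (X.toSpecΓ_preimage_basicOpen r).ge hxr, ?_⟩
  suffices IsOpenImmersion ((X.basicOpen r).ι ≫ X.toSpecΓ) by
    convert! this <;> rw [toSpecΓ_preimage_basicOpen]
  rw [← Opens.toSpecΓ_SpecMap_presheaf_map_top]
  have := isLocalization_basicOpen_of_qcqs isCompact_univ isQuasiSeparated_univ r
  have h2 : IsOpenImmersion (X.basicOpen r).toSpecΓ := by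
    delta Scheme.Opens.toSpecΓ
    infer_instance
  exact MorphismProperty.comp_mem _ _ _ h2 (.of_isLocalization r)

/-- the restriction of a morphism over a smaller open is a base change of the restriction over
a larger one -/
theorem isPullback_homOfLE_morphismRestrict {U T : Scheme.{u}} (ρ : U ⟶ T) {D O : T.Opens}
    (h : D ≤ O) :
    IsPullback (U.homOfLE (show ρ ⁻¹ᵁ D ≤ ρ ⁻¹ᵁ O from fun _ hx => h hx)) (ρ ∣_ D) (ρ ∣_ O)
      (T.homOfLE h) := by
  have hbig := (isPullback_morphismRestrict ρ D).flip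
  have hright := (isPullback_morphismRestrict ρ O).flip
  refine IsPullback.of_right ?_ ?_ hright
  · rw [Scheme.homOfLE_ι, Scheme.homOfLE_ι]
    exact hbig
  · rw [← cancel_mono O.ι, Category.assoc, Category.assoc, morphismRestrict_ι,
      Scheme.homOfLE_ι, Scheme.homOfLE_ι_assoc, morphismRestrict_ι]

/-- **Quasi-affineness is local over an affine base.** -/
theorem isQuasiAffine_of_local {U T : Scheme.{u}} (ρ : U ⟶ T) [IsAffine T]
    (H : ∀ w : T, ∃ O : T.Opens, w ∈ O ∧ IsAffineOpen O ∧ (ρ ⁻¹ᵁ O).toScheme.IsQuasiAffine) :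
    U.IsQuasiAffine := by
  -- shrink to basic opens
  have H' : ∀ w : T, ∃ s : Γ(T, ⊤), w ∈ T.basicOpen s ∧
      (U.basicOpen (ρ.appTop s)).toScheme.IsQuasiAffine := by
    intro w
    obtain ⟨O, hwO, hO, hQ⟩ := H w
    obtain ⟨s, hsO, hws⟩ := (isAffineOpen_top T).exists_basicOpen_le ⟨w, hwO⟩ trivial
    refine ⟨s, hws, ?_⟩
    rw [← Scheme.preimage_basicOpen_top]
    have hsq := isPullback_homOfLE_morphismRestrict ρ hsO
    have hD : IsAffine (T.basicOpen s).toScheme := (isAffineOpen_top T).basicOpen s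
    have hO' : IsAffine O.toScheme := hO
    have h1 : IsAffineHom (T.homOfLE hsO) := isAffineHom_of_isAffine _
    have h2 : IsAffineHom (U.homOfLE (show ρ ⁻¹ᵁ (T.basicOpen s) ≤ ρ ⁻¹ᵁ O from
        fun _ hx => hsO hx)) := MorphismProperty.of_isPullback hsq.flip h1
    exact IsQuasiAffine.of_isAffineHom (U.homOfLE (show ρ ⁻¹ᵁ (T.basicOpen s) ≤ ρ ⁻¹ᵁ O from
        fun _ hx => hsO hx))
  choose s hws hQ using H'
  have hcomp : CompactSpace U := by
    have hcov : (Set.univ : Set T) ⊆ ⋃ w, (T.basicOpen (s w) : Set T) := fun w _ =>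
      Set.mem_iUnion.2 ⟨w, hws w⟩
    obtain ⟨t, ht⟩ := isCompact_univ.elim_finite_subcover _ (fun w => (T.basicOpen (s w)).2) hcov
    rw [← isCompact_univ_iff]
    have hU : (Set.univ : Set U) = ⋃ w ∈ t, (U.basicOpen (ρ.appTop (s w)) : Set U) := by
      apply Set.eq_of_subset_of_subset
      · intro x _
        obtain ⟨w, hw, hxw⟩ := Set.mem_iUnion₂.1 (ht (Set.mem_univ (ρ x)))
        refine Set.mem_iUnion₂.2 ⟨w, hw, ?_⟩
        rw [← Scheme.preimage_basicOpen_top]
        exact hxw
      · exact Set.subset_univ _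
    rw [hU]
    refine t.finite_toSet.isCompact_biUnion fun w _ => ?_
    have := hQ w
    exact isCompact_iff_compactSpace.2 (inferInstance : CompactSpace (U.basicOpen (ρ.appTop (s w))).toScheme)
  refine isQuasiAffine_of_forall_exists_mem_basicOpen U fun x => ⟨ρ.appTop (s (ρ x)), hQ _, ?_⟩
  rw [← Scheme.preimage_basicOpen_top]
  exact hws (ρ x)

/-- pullback form of the locality over an affine base -/
theorem isQuasiAffine_of_local_isPullback {U T : Scheme.{u}} (ρ : U ⟶ T) [IsAffine T]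
    (H : ∀ w : T, ∃ O : T.Opens, w ∈ O ∧ IsAffineOpen O ∧ ∃ (X : Scheme.{u}) (j : X ⟶ U)
      (r : X ⟶ O.toScheme), IsPullback j r ρ O.ι ∧ X.IsQuasiAffine) :
    U.IsQuasiAffine := by
  refine isQuasiAffine_of_local ρ fun w => ?_
  obtain ⟨O, hwO, hO, X, j, r, sq, hX⟩ := H w
  refine ⟨O, hwO, hO, ?_⟩
  have sqR := isPullback_morphismRestrict ρ O
  let e : (ρ ⁻¹ᵁ O).toScheme ≅ X := sqR.flip.isoIsPullback _ _ sq
  exact IsQuasiAffine.of_isAffineHom e.hom

/-- the preimage of an affine open of an affine scheme in a quasi-affine scheme is quasi-affine -/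
theorem isQuasiAffine_preimage {V T : Scheme.{u}} (r : V ⟶ T) [IsAffine T] [V.IsQuasiAffine]
    (O : T.Opens) (hO : IsAffineOpen O) : (r ⁻¹ᵁ O).toScheme.IsQuasiAffine := by
  have hO' : IsAffine O.toScheme := hO
  have h1 : IsAffineHom O.ι := isAffineHom_of_isAffine _
  have h2 : IsAffineHom (r ⁻¹ᵁ O).ι :=
    MorphismProperty.of_isPullback (isPullback_morphismRestrict r O) h1
  exact IsQuasiAffine.of_isAffineHom (r ⁻¹ᵁ O).ι

end Groth.Agent.Lib.Helper24.QAffSch
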