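import Groth.Agent.Lib.Helper24.AlgStAffLoc
import Groth.Agent.Lib.Helper24.QAffSch
set_option autoImplicit false
set_option linter.unusedSectionVars false
universe u
open CategoryTheory CategoryTheory.Limits AlgebraicGeometry Opposite

/-! Quasi-affine morphisms of algebraic spaces are fppf local on the base. -/

namespace Groth.Agent.Lib.Helper24.QAffLocal
open AlgSp Desc Groth.Agent.Lib.Helper14.AS Groth.Agent.Lib.Helper24.DescSheaf
open Groth.Agent.Lib.Helper24.DescBridge Groth.Agent.Lib.Helper24.DescSat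
open Groth.Agent.Lib.Helper24.ZarGlue Groth.Agent.Lib.Helper24.DescSubsheaf
open Groth.Agent.Lib.Helper24.DescChart Groth.Agent.Lib.Helper24.DescOpen
open Groth.Agent.Lib.Helper24.DescQAff Groth.Agent.Lib.Helper24.ZarGlueRep
open Groth.Agent.Lib.Helper24.DescSL Groth.Agent.Lib.Helper24.DescAffine
open Groth.Agent.Lib.Helper24.QAffSch
open Groth.Agent.Lib.Helper24.AlgStProps Groth.Agent.Lib.Helper24.AlgStAffine
open Groth.Agent.Lib.Helper24.AlgStRepS Groth.Agent.Lib.Helper24.AlgStSchLocal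
open Groth.Agent.Lib.Helper24.AlgStAffLoc

variable {S : Scheme.{u}}

theorem isQuasiAffineMor_of_isPullback {F G G' F' : Sp S} {f : F ⟶ G} {g : G' ⟶ G}
    {fst : F' ⟶ F} {snd : F' ⟶ G'} (sq : IsPullback fst snd f g) (hf : IsQuasiAffineMor f) :
    IsQuasiAffineMor snd := by
  intro Z hZ z
  obtain ⟨W, i, a, sqW, hW⟩ := hf hZ (z ≫ g)
  refine ⟨W, i, sq.lift a ((yon S).map i ≫ z) (by rw [sqW.w, Category.assoc]), ?_, hW⟩
  refine IsPullback.of_right ?_ (sq.lift_snd _ _ _) sq
  rw [sq.lift_fst]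
  exact sqW

theorem schLocal_isQuasiAffineMor : SchLocal (IsQuasiAffineMor (S := S)) := by
  intro X Y hX hY φ H Z hZ z
  have sq := IsPullback.of_hasPullback φ z
  obtain ⟨W, i, a, sqW, hW⟩ := H z _ _ sq hZ (𝟙 _)
  refine ⟨W, i, a ≫ pullback.fst φ z, ?_, hW⟩
  have := sqW.paste_horiz sq
  rwa [Category.id_comp] at this

theorem nice_isQuasiAffineMor : Nice (IsQuasiAffineMor (S := S)) :=
  ⟨fun _ _ _ _ _ _ _ _ _ _ _ _ sq ha => isQuasiAffineMor_of_isPullback sq ha,
    schLocal_isQuasiAffineMor⟩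

/-- an affine morphism after a quasi-affine one is quasi-affine -/
theorem isQuasiAffineMor_comp_isAffineMor {F G H : Sp S} {f : F ⟶ G} {g : G ⟶ H}
    (hf : IsQuasiAffineMor f) (hg : IsAffineMor g) : IsQuasiAffineMor (f ≫ g) := by
  intro Z hZ z
  obtain ⟨W, i, a, sqW, hW⟩ := hg hZ z
  obtain ⟨W', i', a', sqW', hW'⟩ := hf hW a
  refine ⟨W', i' ≫ i, a', ?_, hW'⟩
  rw [Functor.map_comp]
  exact sqW'.paste_vert sqW

/-- a quasi-affine morphism after a representable affine one is quasi-affine -/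
theorem isQuasiAffineMor_repWith_comp {F G H : Sp S} {f : F ⟶ G} {g : G ⟶ H}
    (hf : RepWith @IsAffineHom f) (hg : IsQuasiAffineMor g) : IsQuasiAffineMor (f ≫ g) := by
  intro Z hZ z
  obtain ⟨W, i, a, sqW, hW⟩ := hg hZ z
  have sq := hf.rep.isPullback a
  have h1 : IsAffineHom (hf.rep.snd a).left := hf.property_snd a
  refine ⟨hf.rep.pullback a, hf.rep.snd a ≫ i, hf.rep.fst a, ?_, ?_⟩
  · rw [Functor.map_comp]
    exact sq.paste_vert sqW
  · have : W.left.IsQuasiAffine := hW
    exact Scheme.IsQuasiAffine.of_isAffineHom (hf.rep.snd a).left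

/-- If `g ≫ q` is quasi-affine and the diagonal of `q` is affine, then `g` is quasi-affine. -/
theorem isQuasiAffineMor_of_comp {X Y B : Sp S} (g : X ⟶ Y) (q : Y ⟶ B)
    (hp : IsQuasiAffineMor (g ≫ q)) (hq : RepWith @IsAffineHom (pullback.diagonal q)) :
    IsQuasiAffineMor g := by
  have sqG := isPullback_graph g q
  have hΓ : RepWith @IsAffineHom (pullback.lift (𝟙 X) g (by simp) : X ⟶ pullback (g ≫ q) q) :=
    repWith_of_isPullback _ sqG.flip hq
  have hpr : IsQuasiAffineMor (pullback.snd (g ≫ q) q) :=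
    isQuasiAffineMor_of_isPullback (IsPullback.of_hasPullback (g ≫ q) q) hp
  have := isQuasiAffineMor_repWith_comp hΓ hpr
  rwa [pullback.lift_snd] at this

open Groth.Agent.Lib.Helper24.AlgStDiagLC in
theorem leftCancel_isQuasiAffineMor : LeftCancel (IsQuasiAffineMor (S := S)) DiagAff :=
  fun _ _ _ _ _ _ a b hab hb => isQuasiAffineMor_of_comp a b hab hb

section Chart
variable {E : Sp S} {Z Z' V' : Over S} {π : E ⟶ (yon S).obj Z} {c : Z' ⟶ Z}
  {fstV : (yon S).obj V' ⟶ E} {r : V' ⟶ Z'}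
  (sq : IsPullback fstV ((yon S).map r) π ((yon S).map c))
  [IsAffine Z.left] [IsAffine Z'.left] [Flat c.left] [Surjective c.left]
  [LocallyOfFinitePresentation c.left] [V'.left.IsQuasiAffine]

include sq in
/-- **Effective descent for quasi-affine morphisms, affine case.** -/
theorem exists_rep_of_affine_chart_qaff :
    ∃ (U : Over S) (ρ : U ⟶ Z) (e : (yon S).obj U ≅ E), e.hom ≫ π = (yon S).map ρ ∧
      U.left.IsQuasiAffine := by
  have : (ddOfSq sq).obj.left.IsQuasiAffine := ‹V'.left.IsQuasiAffine›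
  obtain ⟨U₀, hU₀, ⟨i⟩⟩ := exists_iso_toDD_of_isQuasiAffine (p := c.left) (ddOfSq sq)
  obtain ⟨e, -, he⟩ := exists_iso_of_effective sq U₀ i
  exact ⟨descObj U₀, descProj U₀, e, he, hU₀⟩

end Chart

set_option backward.isDefEq.respectTransparency.types false in
/-- **Effective descent for quasi-affine morphisms, sheaf form.** A sheaf over an affine scheme
`T` which fppf locally on `T` is representable by quasi-affine schemes over affine covers is
representable by a quasi-affine scheme. -/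
theorem exists_rep_of_chart_qaff {E : Sp S} {T : Over S} [IsAffine T.left]
    (π : E ⟶ (yon S).obj T)
    (h : ∀ x : T.left, ∃ (T' V' : Over S) (c : T' ⟶ T) (r : V' ⟶ T')
      (fstV : (yon S).obj V' ⟶ E), IsPullback fstV ((yon S).map r) π ((yon S).map c) ∧
        Flat c.left ∧ LocallyOfFinitePresentation c.left ∧ x ∈ Set.range c.left ∧
        IsAffine T'.left ∧ V'.left.IsQuasiAffine) :
    ∃ (U : Over S) (ρ : U ⟶ T) (e : (yon S).obj U ≅ E), e.hom ≫ π = (yon S).map ρ ∧
      U.left.IsQuasiAffine := by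
  obtain ⟨U, ρ, e, he, hloc⟩ := exists_rep_of_locally π
    (fun O X r => IsAffine (resOpen T O).left ∧ X.left.IsQuasiAffine) (by
    intro x
    obtain ⟨T', V', c, r, fstV, sq, hcF, hcL, ⟨x', hx'⟩, hT'A, hV'⟩ := h x
    have hopen : IsOpenMap c.left := c.left.isOpenMap
    let O₂ : T.left.Opens := ⟨Set.range c.left, hopen.isOpen_range⟩
    have hxO₂ : x ∈ O₂ := ⟨x', hx'⟩
    obtain ⟨O, hO, hxO, hOle⟩ := exists_isAffineOpen_mem_and_subset hxO₂
    let T₃ : T'.left.Opens := c.left ⁻¹ᵁ O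
    have hT₃ : IsAffineOpen T₃ := by
      have h1 : IsAffineHom c.left := isAffineHom_of_isAffine _
      exact hO.preimage c.left
    let c₀ : resOpen T' T₃ ⟶ resOpen T O := Over.homMk (c.left.resLE O T₃ le_rfl) (by
      change c.left.resLE O T₃ le_rfl ≫ O.ι ≫ T.hom = T₃.ι ≫ T'.hom
      rw [← Category.assoc, Scheme.Hom.resLE_comp_ι, Category.assoc, Over.w c])
    have hc₀ : c₀ ≫ resOpenι T O = resOpenι T' T₃ ≫ c := by
      ext1
      exact Scheme.Hom.resLE_comp_ι _ _
    have h1 : Flat c₀.left := IsZariskiLocalAtSource.resLE _ hcF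
    have h2 : LocallyOfFinitePresentation c₀.left := IsZariskiLocalAtSource.resLE _ hcL
    have h3 : Surjective c₀.left := by
      refine ⟨fun y => ?_⟩
      obtain ⟨z, hzy⟩ := hOle y.2
      have hz₃ : z ∈ T₃ := by change c.left z ∈ O; rw [hzy]; exact y.2
      refine ⟨⟨z, hz₃⟩, ?_⟩
      apply O.ι.injective
      have : (c.left.resLE O T₃ le_rfl ≫ O.ι) ⟨z, hz₃⟩ = (T₃.ι ≫ c.left) ⟨z, hz₃⟩ := by
        rw [Scheme.Hom.resLE_comp_ι]
      simp only [Scheme.Hom.comp_apply] at this
      exact this.trans hzy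
    have h7 : IsAffine (resOpen T O).left := hO
    have h8 : IsAffine (resOpen T' T₃).left := hT₃
    have h9 : (resOpen V' (r.left ⁻¹ᵁ T₃)).left.IsQuasiAffine := by
      have : IsAffine T'.left := hT'A
      have : V'.left.IsQuasiAffine := hV'
      exact isQuasiAffine_preimage r.left T₃ hT₃
    have sqW : IsPullback ((yon S).map (resOpenι V' (r.left ⁻¹ᵁ T₃)) ≫ fstV)
        ((yon S).map (resMap r T₃)) π ((yon S).map c₀ ≫ (yon S).map (resOpenι T O)) := by
      rw [← Functor.map_comp, hc₀, Functor.map_comp]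
      exact ((isPullback_resMap r T₃).map (yon S)).paste_horiz sq
    have sq₀ := isPullback_lift_of_isPullback π ((yon S).map (resOpenι T O)) c₀ (resMap r T₃) _ sqW
    obtain ⟨U₀, ρ₀, e₀, he₀, hU₀⟩ := exists_rep_of_affine_chart_qaff sq₀
    exact ⟨O, hxO, U₀, ρ₀, _, isPullback_of_iso_pullback π _ ρ₀ e₀ he₀, h7, hU₀⟩)
  refine ⟨U, ρ, e, he, ?_⟩
  refine isQuasiAffine_of_local_isPullback ρ.left fun w => ?_
  obtain ⟨O, hwO, X, r, fst, j, -, sqj, hO, hX⟩ := hloc w
  exact ⟨O, hwO, hO, X.left, j.left, r.left, sqj, hX⟩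

set_option backward.isDefEq.respectTransparency.types false in
theorem isLocalOnBase_fppf_isQuasiAffineMor :
    IsLocalOnBase (IsFppfCover (S := S)) IsQuasiAffineMor := by
  intro ι Y Yi g hY hYi hcov X f hX Xi p q hXi hsq
  constructor
  · intro hf i
    exact isQuasiAffineMor_of_isPullback (hsq i) hf
  · intro H Z hZ z
    have : IsAffine Z.left := hZ
    obtain ⟨U', a', pp, hcomm, hfl, hfp, hs⟩ := exists_fppf_chart_family hY Yi g hYi hcov z
    obtain ⟨U, ρ, e, he, hρ⟩ := exists_rep_of_chart_qaff (pullback.snd f z) (fun x => by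
      obtain ⟨i, x', hx'⟩ := hs x
      obtain ⟨A, hA, hx'A, -⟩ := exists_isAffineOpen_mem_and_subset (x := x') (U := ⊤) trivial
      have hT' : IsAffine (resOpen (U' i) A).left := hA
      obtain ⟨W, r, fst', sqW, hW⟩ := H i hT' ((yon S).map (resOpenι (U' i) A) ≫ a' i)
      have big := sqW.paste_horiz (hsq i)
      have hc : ((yon S).map (resOpenι (U' i) A) ≫ a' i) ≫ g i =
          (yon S).map (resOpenι (U' i) A ≫ pp i) ≫ z := by
        rw [Category.assoc, hcomm i, Functor.map_comp, Category.assoc]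
      rw [hc] at big
      have := hfl i
      have := hfp i
      refine ⟨resOpen (U' i) A, W, resOpenι (U' i) A ≫ pp i, r, _,
        isPullback_lift_of_isPullback f z (resOpenι (U' i) A ≫ pp i) r _ big, ?_, ?_, ?_, hT', hW⟩
      · change Flat (A.ι ≫ (pp i).left)
        infer_instance
      · change LocallyOfFinitePresentation (A.ι ≫ (pp i).left)
        infer_instance
      · refine ⟨⟨x', hx'A⟩, ?_⟩
        change (A.ι ≫ (pp i).left) ⟨x', hx'A⟩ = x
        rw [Scheme.Hom.comp_apply]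
        exact hx')
    exact ⟨U, ρ, e.hom ≫ pullback.fst f z, isPullback_of_iso_pullback f z ρ e he, hρ⟩

theorem good_isQuasiAffineMor : Good (IsQuasiAffineMor (S := S)) :=
  ⟨nice_isQuasiAffineMor.bc, isLocalOnBase_fppf_isQuasiAffineMor⟩

end Groth.Agent.Lib.Helper24.QAffLocal
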