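import Groth.Agent.Lib.Helper24.AlgStFamilyCover
import Groth.Agent.Lib.Helper24.QAffLocal
import Groth.Agent.Lib.Helper24.AlgStQCProd
import Groth.Agent.Lib.Helper24.FibCatMfactor
import Groth.Agent.Lib.Helper24.AlgStProd
import Groth.Agent.Lib.Helper24.AlgStGraph
import Groth.Agent.Lib.Helper24.FibCatOverMap
import Groth.Agent.S16823
set_option autoImplicit false
open CategoryTheory AlgebraicGeometry Opposite
universe w₁ v₁ w₂ v₂ w₃ v₃ u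
set_option backward.isDefEq.respectTransparency false
set_option backward.isDefEq.respectTransparency.types false

/-! Helpers for quasi-affine diagonals: two-property composition, structure functors of affine
schemes, ranges of product maps on points. -/

namespace Groth.Agent.Lib.Helper24.AlgStQAffDiag1
open Groth.Agent.Lib.Helper24.FibCatFpGen Groth.Agent.Lib.Helper24.AlgStRep
open Groth.Agent.Lib.Helper24.AlgStRepS Groth.Agent.Lib.Helper24.AlgStEqv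
open Groth.Agent.Lib.Helper24.AlgStBoot Groth.Agent.Lib.Helper24.FibCatEquiv
open Groth.Agent.Lib.Helper24.AlgStPts1 Groth.Agent.Lib.Helper24.AlgStPts2
open Groth.Agent.Lib.Helper24.AlgStPts3 Groth.Agent.Lib.Helper24.FibCatFpMap
open Groth.Agent.Lib.Helper24.AlgStSchLocal Groth.Agent.Lib.Helper24.AlgStProps
open Groth.Agent.Lib.Helper24.FibCatMagic Groth.Agent.Lib.Helper24.FibCatFpMapL
open Groth.Agent.Lib.Helper24.FibCatMfactor Groth.Agent.Lib.Helper24.AlgStAffLoc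
open CategoryTheory.Limits AlgSt

variable {S : Scheme.{u}}

/-- composition for the space-test version, with three properties -/
theorem repS_comp₂ (P Q R : MorphismProperty (AlgSp.Sp S))
    (hPQR : ∀ ⦃X Y Z : AlgSp.Sp S⦄, AlgSp.IsAlgSpace X → AlgSp.IsAlgSpace Y → AlgSp.IsAlgSpace Z →
      ∀ (a : X ⟶ Y) (b : Y ⟶ Z), P a → Q b → R (a ≫ b))
    {𝒳 : BasedCategory.{v₁, w₁} (Over S)} {𝒴 : BasedCategory.{v₂, w₂} (Over S)}
    {𝒵 : BasedCategory.{v₃, w₃} (Over S)} (f : 𝒳 ⥤ᵇ 𝒴) (g : 𝒴 ⥤ᵇ 𝒵) (hf : RepS P f)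
    (hg : RepS Q g) : RepS R (BasedFunctor.comp f g) := by
  intro H y
  obtain ⟨G, eG, heG, hψ⟩ := hg H y
  let y₂ : AlgSt.ofSp G.obj ⥤ᵇ 𝒴 := BasedFunctor.comp eG (FibCat.fpSnd y g)
  obtain ⟨F, eF, heF, hφ⟩ := hf G y₂
  let i1 : BasedFunctor.comp y₂ (BasedFunctor.id 𝒴) ≅ BasedFunctor.comp eG (FibCat.fpSnd y g) :=
    Iso.refl _
  let i2 : BasedFunctor.comp f (BasedFunctor.id 𝒴) ≅ BasedFunctor.comp (BasedFunctor.id 𝒳) f :=
    Iso.refl _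
  let M := fpMap eG (BasedFunctor.id 𝒳) (BasedFunctor.id 𝒴) i1 i2
  have hM : FibCat.IsEquivOver M := isEquivOver_fpMap _ _ _ i1 i2 heG (isEquivOver_id _)
  let Q' := Groth.Agent.Lib.Helper24.FibCatFpPaste.Q f g y
  have hQ : FibCat.IsEquivOver Q' := Groth.Agent.Lib.Helper24.FibCatFpPaste.isEquivOver_Q
  refine ⟨F, BasedFunctor.comp eF (BasedFunctor.comp M Q'),
    isEquivOver_comp _ _ heF (isEquivOver_comp _ _ hM hQ), ?_⟩
  have e : spMapOf (BasedFunctor.comp (BasedFunctor.comp eF (BasedFunctor.comp M Q'))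
      (FibCat.fpFst y (BasedFunctor.comp f g))) =
      spMapOf (BasedFunctor.comp eF (FibCat.fpFst y₂ f)) ≫
        spMapOf (BasedFunctor.comp eG (FibCat.fpFst y g)) := by
    rw [← spMapOf_comp]
    rfl
  rw [e]
  exact hPQR F.property G.property H.property _ _ hφ hψ

theorem repByAlgSpWith_comp₂ {𝒳 𝒴 𝒵 : AlgSt.Cat S} (h𝒳 : FibCat.IsFibGrpd 𝒳.p)
    (h𝒴 : FibCat.IsFibGrpd 𝒴.p) (h𝒵 : FibCat.IsFibGrpd 𝒵.p) (P Q R : MorphismProperty (AlgSp.Sp S))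
    (hP : Nice P) (hQ : Nice Q)
    (hPQR : ∀ ⦃X Y Z : AlgSp.Sp S⦄, AlgSp.IsAlgSpace X → AlgSp.IsAlgSpace Y → AlgSp.IsAlgSpace Z →
      ∀ (a : X ⟶ Y) (b : Y ⟶ Z), P a → Q b → R (a ≫ b))
    (f : 𝒳 ⥤ᵇ 𝒴) (g : 𝒴 ⥤ᵇ 𝒵)
    (hf : AlgSt.RepByAlgSpWith P f) (hg : AlgSt.RepByAlgSpWith Q g) :
    AlgSt.RepByAlgSpWith R (BasedFunctor.comp f g) :=
  repByAlgSpWith_of_repS R _ (repS_comp₂ P Q R hPQR f g
    (repS_of_repByAlgSpWith' h𝒳 h𝒴 P hP f hf) (repS_of_repByAlgSpWith' h𝒴 h𝒵 Q hQ g hg))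

/-- the structure functor of a scheme affine over the base is affine -/
theorem repByAlgSpWith_isAffineMor_to_selfOver {X : Over S} (hX : IsAffineHom X.hom)
    (t : FibCat.overCat X ⥤ᵇ FibCat.selfOver (Over S)) :
    AlgSt.RepByAlgSpWith AlgSp.IsAffineMor t := by
  rw [Groth.Agent.Lib.Helper24.AlgStLC.repByAlgSpWith_conj AlgSp.IsAffineMor t (BasedFunctor.id _)
    (Groth.Agent.Lib.Helper24.StkSlice.P₁ (U := S))
    (Groth.Agent.Lib.Helper24.AlgStRep.isEquivOver_id _)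
    (Groth.Agent.Lib.Helper24.AlgStQCProd.isEquivOver_P₁ S)]
  obtain ⟨g, ⟨i⟩⟩ := Groth.Agent.Lib.Helper24.FibCatOverMap.exists_iso_overMapC
    (BasedFunctor.comp (BasedFunctor.id _)
      (BasedFunctor.comp t (Groth.Agent.Lib.Helper24.StkSlice.P₁ (U := S))))
  apply Groth.Agent.Lib.Helper24.AlgStGC.repByAlgSpWith_of_iso AlgSp.IsAffineMor i.symm
  change AlgSt.RepByAlgSpWith AlgSp.IsAffineMor (AlgSt.overMap g)
  rw [Groth.Agent.Lib.Helper24.AlgStSmLoc.repByAlgSpWith_overMap_iff AlgSp.IsAffineMor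
    good_isAffineMor g]
  have hg : g.left = X.hom := by
    have := Over.w g
    simpa using this
  have h1 : IsAffineHom g.left := by rw [hg]; exact hX
  exact Groth.Agent.Lib.Helper14.AS.isAffineMor_of_repWith
    ((AlgSp.repWith_yon_map_iff @IsAffineHom g).2 h1)

section Range
variable {𝒜 ℬ 𝒳 𝒴 : AlgSt.Cat S}

theorem mem_range_map_mapL (h𝒜 : FibCat.IsFibGrpd 𝒜.p) (h𝒳 : FibCat.IsFibGrpd 𝒳.p)
    (h𝒴 : FibCat.IsFibGrpd 𝒴.p) (hℬ : FibCat.IsFibGrpd ℬ.p)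
    (a : 𝒜 ⥤ᵇ 𝒳) (j : 𝒳 ⥤ᵇ 𝒴) (h : ℬ ⥤ᵇ 𝒴) (pt : Points (FibCat.fp j h))
    (hpt : Points.map (FibCat.fpFst j h) pt ∈ Set.range (Points.map a)) :
    pt ∈ Set.range (Points.map (mapL a j h)) := by
  obtain ⟨α, hα⟩ := hpt
  obtain ⟨w, -, hw2⟩ := Groth.Agent.Lib.Helper26.StackPoints.exists_points_fp
    (isFibGrpd_fp j h h𝒳 hℬ h𝒴) h𝒳 h𝒜 (FibCat.fpFst j h) a α pt hα
  refine ⟨Points.map (Groth.Agent.Lib.Helper24.FibCatFpPaste.P h j a) w, ?_⟩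
  rw [← map_comp, map_congr (mapLIso a j h), hw2]

theorem mem_range_map_mapR (hℬ : FibCat.IsFibGrpd ℬ.p) (h𝒳 : FibCat.IsFibGrpd 𝒳.p)
    (h𝒴 : FibCat.IsFibGrpd 𝒴.p) {𝒲 : AlgSt.Cat S} (h𝒲 : FibCat.IsFibGrpd 𝒲.p)
    (b : ℬ ⥤ᵇ 𝒳) (j : 𝒳 ⥤ᵇ 𝒴) (h : 𝒲 ⥤ᵇ 𝒴) (pt : Points (FibCat.fp h j))
    (hpt : Points.map (FibCat.fpSnd h j) pt ∈ Set.range (Points.map b)) :
    pt ∈ Set.range (Points.map (mapR b j h)) := by
  obtain ⟨β, hβ⟩ := hpt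
  obtain ⟨w, hw1, -⟩ := Groth.Agent.Lib.Helper26.StackPoints.exists_points_fp
    hℬ h𝒳 (isFibGrpd_fp h j h𝒲 h𝒳 h𝒴) b (FibCat.fpSnd h j) pt β hβ.symm
  refine ⟨Points.map (Groth.Agent.Lib.Helper24.FibCatFpPaste.Q b j h) w, ?_⟩
  rw [← map_comp, map_congr (mapRIso b j h), hw1]

theorem mem_range_map_M (h𝒜 : FibCat.IsFibGrpd 𝒜.p) (hℬ : FibCat.IsFibGrpd ℬ.p)
    (h𝒳 : FibCat.IsFibGrpd 𝒳.p) (h𝒴 : FibCat.IsFibGrpd 𝒴.p)
    (a : 𝒜 ⥤ᵇ 𝒳) (b : ℬ ⥤ᵇ 𝒳) (j : 𝒳 ⥤ᵇ 𝒴) (pt : Points (FibCat.fp j j))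
    (h1 : Points.map (FibCat.fpFst j j) pt ∈ Set.range (Points.map a))
    (h2 : Points.map (FibCat.fpSnd j j) pt ∈ Set.range (Points.map b)) :
    pt ∈ Set.range (Points.map (M a b j)) := by
  obtain ⟨pt', rfl⟩ := mem_range_map_mapR hℬ h𝒳 h𝒴 h𝒳 b j j pt h2
  have h3 : Points.map (FibCat.fpFst j (BasedFunctor.comp b j)) pt' ∈
      Set.range (Points.map a) := by
    have : Points.map (FibCat.fpFst j (BasedFunctor.comp b j)) pt' =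
        Points.map (FibCat.fpFst j j) (Points.map (mapR b j j) pt') := by
      rw [← map_comp]
      rfl
    rw [this]
    exact h1
  obtain ⟨pt'', rfl⟩ := mem_range_map_mapL h𝒜 h𝒳 h𝒴 hℬ a j
    (BasedFunctor.comp b j) pt' h3
  refine ⟨pt'', ?_⟩
  rw [← map_comp, map_congr (MfactorIso a b j)]

end Range

end Groth.Agent.Lib.Helper24.AlgStQAffDiag1
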