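import Groth.Prelude.Def_AlgSt2
import Groth.Agent.Lib.Helper24.FibCatFpMap
import Groth.Agent.Lib.Helper24.FibCatEquiv3
set_option autoImplicit false
open CategoryTheory AlgebraicGeometry
universe w' v' w v u
set_option backward.isDefEq.respectTransparency false
set_option backward.isDefEq.respectTransparency.types false

namespace Groth.Agent.Lib.Helper24.AlgStRep
open Groth.Agent.Lib.Helper24.FibCatFpMap Groth.Agent.Lib.Helper24.FibCatEquiv

variable {S : Scheme.{u}}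

theorem secHom_congr' {F : AlgSp.Sp S} {U : Over S} (Φ Φ' : AlgSt.ofSp F ⥤ᵇ FibCat.overCat U)
    (a : (AlgSt.ofSp F).obj) (t : Φ.obj a ⟶ Φ'.obj a)
    (ht : (FibCat.overCat U).p.IsHomLift (𝟙 ((AlgSt.ofSp F).p.obj a)) t) :
    AlgSt.secHom Φ a = AlgSt.secHom Φ' a := by
  have h1 : t.left ≫ (Φ'.obj a).hom = (Φ.obj a).hom := Over.w t
  have h2 : t.left = eqToHom (Φ.w_obj a) ≫ 𝟙 _ ≫ eqToHom (Φ'.w_obj a).symm :=
    IsHomLift.fac' (FibCat.overCat U).p (𝟙 ((AlgSt.ofSp F).p.obj a)) t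
  simp only [AlgSt.secHom, ← h1, h2, Category.assoc, eqToHom_trans_assoc, Category.id_comp]

theorem spMapOfOver_congr' {F : AlgSp.Sp S} {U : Over S} (Φ Φ' : AlgSt.ofSp F ⥤ᵇ FibCat.overCat U)
    (h : ∀ a : (AlgSt.ofSp F).obj, ∃ t : Φ.obj a ⟶ Φ'.obj a,
      (FibCat.overCat U).p.IsHomLift (𝟙 ((AlgSt.ofSp F).p.obj a)) t) :
    AlgSt.spMapOfOver Φ = AlgSt.spMapOfOver Φ' := by
  apply ObjectProperty.hom_ext
  ext T x
  apply ULift.ext
  obtain ⟨t, ht⟩ := h ⟨T.unop, x⟩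
  exact secHom_congr' Φ Φ' _ t ht

theorem spMapOfOver_congr {F : AlgSp.Sp S} {U : Over S} (Φ Φ' : AlgSt.ofSp F ⥤ᵇ FibCat.overCat U)
    (i : Φ ≅ Φ') : AlgSt.spMapOfOver Φ = AlgSt.spMapOfOver Φ' :=
  spMapOfOver_congr' Φ Φ' fun a => ⟨(appIso i a).hom, appIso_hom_isHomLift i a rfl⟩

/-- Transfer of "representable by an algebraic space with `P` of the map to `U`" along an equivalence
over the base compatible with the projections to `(Sch/U)`. -/
theorem exists_rep_iff_of_isEquivOver (P : MorphismProperty (AlgSp.Sp S)) {U : Over S}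
    {𝒵 : BasedCategory.{v, w} (Over S)} {𝒵' : BasedCategory.{v', w'} (Over S)}
    (M : 𝒵' ⥤ᵇ 𝒵) (hM : FibCat.IsEquivOver M) (q : 𝒵 ⥤ᵇ FibCat.overCat U)
    (q' : 𝒵' ⥤ᵇ FibCat.overCat U) (i : BasedFunctor.comp M q ≅ q') :
    (∃ (F : AlgSp.Space S) (e : AlgSt.ofSp F.obj ⥤ᵇ 𝒵),
      FibCat.IsEquivOver e ∧ P (AlgSt.spMapOfOver (BasedFunctor.comp e q))) ↔
    (∃ (F : AlgSp.Space S) (e : AlgSt.ofSp F.obj ⥤ᵇ 𝒵'),
      FibCat.IsEquivOver e ∧ P (AlgSt.spMapOfOver (BasedFunctor.comp e q'))) := by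
  constructor
  · rintro ⟨F, e, he, hP⟩
    obtain ⟨M', ⟨α⟩, ⟨β⟩⟩ := hM
    have hM' : FibCat.IsEquivOver M' := ⟨M, ⟨β⟩, ⟨α⟩⟩
    refine ⟨F, BasedFunctor.comp e M', isEquivOver_comp e M' he hM', ?_⟩
    have : AlgSt.spMapOfOver (BasedFunctor.comp (BasedFunctor.comp e M') q') =
        AlgSt.spMapOfOver (BasedFunctor.comp e q) := by
      apply spMapOfOver_congr'
      intro a
      refine ⟨(appIso i (M'.obj (e.obj a))).inv ≫ q.map (appIso β (e.obj a)).hom, ?_⟩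
      have h1 := appIso_inv_isHomLift i (M'.obj (e.obj a)) (S := (AlgSt.ofSp F.obj).p.obj a)
        (by rw [M'.w_obj, e.w_obj])
      have h2 := appIso_hom_isHomLift β (e.obj a) (S := (AlgSt.ofSp F.obj).p.obj a)
        (by rw [e.w_obj])
      have h3 : (FibCat.overCat U).p.IsHomLift (𝟙 ((AlgSt.ofSp F.obj).p.obj a))
          (q.map (appIso β (e.obj a)).hom) := inferInstance
      exact IsHomLift.comp_lift_id_right' (p := (FibCat.overCat U).p) (𝟙 ((AlgSt.ofSp F.obj).p.obj a))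
        (appIso i (M'.obj (e.obj a))).inv ((AlgSt.ofSp F.obj).p.obj a) (q.map (appIso β (e.obj a)).hom)
    rw [this]; exact hP
  · rintro ⟨F, e, he, hP⟩
    refine ⟨F, BasedFunctor.comp e M, isEquivOver_comp e M he hM, ?_⟩
    have : AlgSt.spMapOfOver (BasedFunctor.comp (BasedFunctor.comp e M) q) =
        AlgSt.spMapOfOver (BasedFunctor.comp e q') := by
      apply spMapOfOver_congr'
      intro a
      exact ⟨(appIso i (e.obj a)).hom, appIso_hom_isHomLift i (e.obj a) (by rw [e.w_obj])⟩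
    rw [this]; exact hP

end Groth.Agent.Lib.Helper24.AlgStRep
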