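import Groth.Agent.Lib.Helper24.AlgStSepDiag
set_option autoImplicit false
set_option linter.unusedSectionVars false
open CategoryTheory CategoryTheory.Limits AlgebraicGeometry Opposite
universe u w₁ v₁ w₂ v₂ w₃ v₃
set_option backward.isDefEq.respectTransparency false
set_option backward.isDefEq.respectTransparency.types false

namespace Groth.Agent.Lib.Helper24.AlgStRepDiag
open AlgSp Groth.Agent.Lib.Helper14.AS
open Groth.Agent.Lib.Helper24.AlgStSchLocal Groth.Agent.Lib.Helper24.AlgStRepS
open Groth.Agent.Lib.Helper24.AlgStProps Groth.Agent.Lib.Helper24.AlgStGC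
open Groth.Agent.Lib.Helper24.AlgStSepDiag Groth.Agent.Lib.Helper24.AlgStRep
open Groth.Agent.Lib.Helper24.FibCatEquiv Groth.Agent.Lib.Helper24.PshBridge

variable {S : Scheme.{u}}

theorem schLocal_representable : SchLocal (Representable (S := S)) := by
  intro X Y hX hY φ H U g
  have sq := IsPullback.of_hasPullback φ g
  obtain ⟨V, i, a, sqV⟩ := H g _ _ sq (𝟙 _)
  refine ⟨V, i, a ≫ pullback.fst φ g, ?_⟩
  have := sqV.paste_horiz sq
  rwa [Category.id_comp] at this

theorem nice_representable : Nice (Representable (S := S)) :=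
  ⟨fun _ _ _ _ _ _ _ _ _ _ _ _ sq ha => MorphismProperty.of_isPullback sq ha,
    schLocal_representable⟩

/-- S12940: the diagonal of a functor representable by algebraic spaces is representable by
schemes -/
theorem isRepresentable1_diag {𝒳 : BasedCategory.{v₁, w₁} (Over S)}
    {𝒴 : BasedCategory.{v₂, w₂} (Over S)} (f : 𝒳 ⥤ᵇ 𝒴) (hf : AlgSt.RepByAlgSp1 f) :
    FibCat.IsRepresentable1 (FibCat.diag f) := by
  have h1 : AlgSt.RepByAlgSpWith (Representable (S := S)) (FibCat.diag f) :=
    (repByAlgSpWith_diag_iff_diagonal _ nice_representable f hf).2 (fun U y => by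
      obtain ⟨F, e, he⟩ := hf U y
      exact ⟨F, e, he, (diagonal_hom_properties F.property _).1⟩)
  intro U G
  obtain ⟨F, e, he, ha⟩ := h1 U G
  obtain ⟨V, i, fst, sq⟩ := ha (𝟙 _)
  have hiso : IsIso fst := sq.flip.isIso_snd_of_isIso
  obtain ⟨e', he'⟩ := exists_inverse_isEquivOver e he
  have : IsIso (inv fst).hom := by
    have : IsIso ((sheafToPresheaf (AlgSp.J S) (Type (u + 1))).map (inv fst)) := inferInstance
    exact this
  have h2 : FibCat.IsEquivOver (AlgSt.ofSpMap (inv fst)) := isEquivOver_ofPshMap_of_isIso _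
  exact ⟨V, BasedFunctor.comp e' (BasedFunctor.comp (AlgSt.ofSpMap (inv fst)) (AlgSt.toOverCat V)),
    isEquivOver_comp _ _ he' (isEquivOver_comp _ _ h2
      (Groth.Agent.Lib.Helper24.AlgStBridge.isEquivOver_toOverCat V))⟩

end Groth.Agent.Lib.Helper24.AlgStRepDiag
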