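import Groth.Agent.Lib.Helper24.AlgStTrivStab
import Groth.Agent.Lib.Helper24.AlgStRep2
set_option autoImplicit false
open CategoryTheory AlgebraicGeometry Opposite
universe u
set_option backward.isDefEq.respectTransparency false
set_option backward.isDefEq.respectTransparency.types false

/-! Sections of a representable base change versus lifts of a chart. -/

namespace Groth.Agent.Lib.Helper24.AlgStSecBridge
open Groth.Agent.Lib.Helper24.FibCatFpMap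
open Groth.Agent.Lib.Helper24.FibCatEquiv Groth.Agent.Lib.Helper24.FibCatFpGen
open Groth.Agent.Lib.Helper24.AlgStRep
open Groth.Agent.Lib.Helper24.AlgStBridge Groth.Agent.Lib.Helper24.AlgStBoot
open Groth.Agent.Lib.Helper24.AlgStRepS Groth.Agent.Lib.Helper24.PshBridge
open Groth.Agent.Lib.Helper24.AlgStTrivStab
open CategoryTheory.Limits AlgSt

variable {S : Scheme.{u}}

/-- functors over the base from a sheaf to a slice category with the same associated map of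
sheaves are isomorphic -/
theorem iso_of_spMapOfOver_eq {F : AlgSp.Sp S} {U : Over S}
    (Φ₁ Φ₂ : AlgSt.ofSp F ⥤ᵇ FibCat.overCat U)
    (h : AlgSt.spMapOfOver Φ₁ = AlgSt.spMapOfOver Φ₂) : Nonempty (Φ₁ ≅ Φ₂) := by
  have i₁ : Φ₁ ≅ BasedFunctor.comp
      (Stk.ofPshMap (pshMapOf (BasedFunctor.comp Φ₁ (AlgSt.ofOverCat U)))) (AlgSt.toOverCat U) :=
    whiskerRightIso (isoOfPshMap (BasedFunctor.comp Φ₁ (AlgSt.ofOverCat U))) (AlgSt.toOverCat U)
  have i₂ : Φ₂ ≅ BasedFunctor.comp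
      (Stk.ofPshMap (pshMapOf (BasedFunctor.comp Φ₂ (AlgSt.ofOverCat U)))) (AlgSt.toOverCat U) :=
    whiskerRightIso (isoOfPshMap (BasedFunctor.comp Φ₂ (AlgSt.ofOverCat U))) (AlgSt.toOverCat U)
  rw [spMapOfOver_eq, spMapOfOver_eq] at h
  have h' : pshMapOf (BasedFunctor.comp Φ₁ (AlgSt.ofOverCat U)) =
      pshMapOf (BasedFunctor.comp Φ₂ (AlgSt.ofOverCat U)) := congrArg (fun φ => φ.hom) h
  rw [h'] at i₁
  exact ⟨i₁ ≪≫ i₂.symm⟩

/-- a lift of a chart of the target through `f` gives a section of the representing space -/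
theorem exists_section_of_lift {𝒳 𝒴 : AlgSt.Cat S} {U : Over S} (u : FibCat.overCat U ⥤ᵇ 𝒳)
    (f : 𝒴 ⥤ᵇ 𝒳) {Y : AlgSp.Sp S} (e : AlgSt.ofSp Y ⥤ᵇ FibCat.fp u f)
    (he : FibCat.IsEquivOver e) {T : Over S} (c : T ⟶ U) (yT : FibCat.overCat T ⥤ᵇ 𝒴)
    (α : BasedFunctor.comp yT f ≅ BasedFunctor.comp (AlgSt.overMap c) u) :
    ∃ l : (AlgSp.yon S).obj T ⟶ Y,
      l ≫ AlgSt.spMapOfOver (BasedFunctor.comp e (FibCat.fpFst u f)) = (AlgSp.yon S).map c := by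
  obtain ⟨e', ⟨β⟩, ⟨β'⟩⟩ := he
  let L : FibCat.overCat T ⥤ᵇ FibCat.fp u f := FibCat.fpLift (AlgSt.overMap c) yT α.symm
  let Ψ : AlgSt.ofSp ((AlgSp.yon S).obj T) ⥤ᵇ AlgSt.ofSp Y :=
    BasedFunctor.comp (AlgSt.toOverCat T) (BasedFunctor.comp L e')
  refine ⟨spMapOf Ψ, ?_⟩
  rw [spMapOfOver_eq, ← spMapOf_comp, ← spMapOf_overMap c]
  apply spMapOf_congr
  exact whiskerLeftIso (AlgSt.toOverCat T) (whiskerLeftIso L
    (whiskerRightIso β' (BasedFunctor.comp (FibCat.fpFst u f) (AlgSt.ofOverCat U))))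

/-- a section of the representing space gives a lift of a chart of the target through `f` -/
theorem exists_lift_of_section {𝒳 𝒴 : AlgSt.Cat S} {U : Over S} (u : FibCat.overCat U ⥤ᵇ 𝒳)
    (f : 𝒴 ⥤ᵇ 𝒳) {Y : AlgSp.Sp S} (e : AlgSt.ofSp Y ⥤ᵇ FibCat.fp u f)
    {T : Over S} (c : T ⟶ U) (l : (AlgSp.yon S).obj T ⟶ Y)
    (hl : l ≫ AlgSt.spMapOfOver (BasedFunctor.comp e (FibCat.fpFst u f)) = (AlgSp.yon S).map c) :
    ∃ yT : FibCat.overCat T ⥤ᵇ 𝒴,
      Nonempty (BasedFunctor.comp yT f ≅ BasedFunctor.comp (AlgSt.overMap c) u) := by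
  let Φ₁ : AlgSt.ofSp ((AlgSp.yon S).obj T) ⥤ᵇ FibCat.overCat U :=
    BasedFunctor.comp (AlgSt.ofSpMap l) (BasedFunctor.comp e (FibCat.fpFst u f))
  let Φ₂ : AlgSt.ofSp ((AlgSp.yon S).obj T) ⥤ᵇ FibCat.overCat U :=
    BasedFunctor.comp (AlgSt.toOverCat T) (AlgSt.overMap c)
  have h12 : AlgSt.spMapOfOver Φ₁ = AlgSt.spMapOfOver Φ₂ := by
    rw [spMapOfOver_eq, spMapOfOver_eq]
    have h1 : spMapOf (BasedFunctor.comp Φ₁ (AlgSt.ofOverCat U)) =
        l ≫ spMapOf (BasedFunctor.comp (BasedFunctor.comp e (FibCat.fpFst u f))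
          (AlgSt.ofOverCat U)) := by
      have h0 : spMapOf (BasedFunctor.comp Φ₁ (AlgSt.ofOverCat U)) =
          spMapOf (BasedFunctor.comp (AlgSt.ofSpMap l)
            (BasedFunctor.comp (BasedFunctor.comp e (FibCat.fpFst u f)) (AlgSt.ofOverCat U))) :=
        spMapOf_congr (Iso.refl _)
      rw [h0, spMapOf_comp, spMapOf_ofSpMap l]
    rw [h1, ← spMapOfOver_eq, hl]
    exact (spMapOf_overMap c).symm
  obtain ⟨i⟩ := iso_of_spMapOfOver_eq Φ₁ Φ₂ h12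
  refine ⟨BasedFunctor.comp (AlgSt.ofOverCat T) (BasedFunctor.comp (AlgSt.ofSpMap l)
    (BasedFunctor.comp e (FibCat.fpSnd u f))), ⟨?_⟩⟩
  have j1 : BasedFunctor.comp (BasedFunctor.comp (AlgSt.ofOverCat T)
      (BasedFunctor.comp (AlgSt.ofSpMap l) (BasedFunctor.comp e (FibCat.fpSnd u f)))) f ≅
      BasedFunctor.comp (BasedFunctor.comp (AlgSt.ofOverCat T) Φ₁) u :=
    whiskerLeftIso (AlgSt.ofOverCat T) (whiskerLeftIso (AlgSt.ofSpMap l)
      (whiskerLeftIso e (FibCat.fpIso u f).symm))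
  have j2 : BasedFunctor.comp (BasedFunctor.comp (AlgSt.ofOverCat T) Φ₁) u ≅
      BasedFunctor.comp (BasedFunctor.comp (AlgSt.ofOverCat T) Φ₂) u :=
    whiskerRightIso (whiskerLeftIso (AlgSt.ofOverCat T) i) u
  exact j1 ≪≫ j2

end Groth.Agent.Lib.Helper24.AlgStSecBridge
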