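import Mathlib
import Groth.Agent.Lib.Helper14.FpqcSch
import Groth.Agent.Lib.Helper14.AlgSpLocP2
import Groth.Agent.Lib.Helper14.AlgSpBasic2
set_option autoImplicit false
open CategoryTheory CategoryTheory.Limits AlgebraicGeometry AlgSp
open Groth.Agent.Lib.Helper14.AS
universe u

namespace Groth.Agent.Lib.Helper24.LqfSelf

set_option backward.isDefEq.respectTransparency false in
set_option backward.isDefEq.respectTransparency.types false in
/-- a morphism of schemes whose self-product is locally quasi-finite over it is locally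
quasi-finite -/
theorem locallyQuasiFinite_of_pullback_snd {W T : Scheme.{u}} (h : W ⟶ T)
    (H : LocallyQuasiFinite (pullback.snd h h)) : LocallyQuasiFinite h := by
  refine LocallyQuasiFinite.of_fiberToSpecResidueField h fun t => ?_
  by_cases ht : ∃ w : W, h w = t
  · obtain ⟨w, rfl⟩ := ht
    have sq := isPullback_fiberToSpecResidueField_of_isPullback (IsPullback.of_hasPullback h h) w
    have h1 : LocallyQuasiFinite ((pullback.snd h h).fiberToSpecResidueField w) :=
      MorphismProperty.pullback_snd (P := @LocallyQuasiFinite) _ _ H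
    have h2 : (@Surjective ⊓ @Flat ⊓ @QuasiCompact : MorphismProperty Scheme.{u})
        (Spec.map (h.residueFieldMap w)) := by
      refine ⟨⟨?_, ?_⟩, ?_⟩
      · constructor
        intro x
        refine ⟨IsLocalRing.closedPoint _, Subsingleton.elim (α := PrimeSpectrum _) _ _⟩
      · rw [HasRingHomProperty.Spec_iff (P := @Flat)]
        let _ := (h.residueFieldMap w).hom.toAlgebra
        exact (RingHom.flat_algebraMap_iff).2 inferInstance
      · infer_instance
    exact MorphismProperty.of_isPullback_of_descendsAlong (P := @LocallyQuasiFinite)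
      (Q := (@Surjective ⊓ @Flat ⊓ @QuasiCompact : MorphismProperty Scheme.{u})) sq.flip h2 h1
  · have : IsEmpty (h.fiber t) := by
      refine ⟨fun x => ht ⟨h.fiberι t x, ?_⟩⟩
      have := (h.fiberHomeo t x).2
      simpa using this
    infer_instance

theorem locallyQuasiFinite_of_isPullback {P W T : Scheme.{u}} {p q : P ⟶ W} {h : W ⟶ T}
    (sq : IsPullback p q h h) (H : LocallyQuasiFinite q) : LocallyQuasiFinite h := by
  refine locallyQuasiFinite_of_pullback_snd h ?_
  have e : pullback.snd h h = sq.isoPullback.inv ≫ q := by simp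
  rw [e]
  infer_instance

variable {S : Scheme.{u}}

set_option backward.isDefEq.respectTransparency.types false in
/-- a morphism from an algebraic space to a scheme, locally of finite type, whose self-product is
locally quasi-finite over it is locally quasi-finite -/
theorem locP_lqf_of_pullback_snd {X : Sp S} (hX : IsAlgSpace X) {T : Over S}
    (h : X ⟶ (yon S).obj T)
    (H : LocP (@LocallyQuasiFinite ⊓ @LocallyOfFiniteType) (pullback.snd h h))
    (hl : LocP @LocallyOfFiniteType h) :
    LocP (@LocallyQuasiFinite ⊓ @LocallyOfFiniteType) h := by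
  obtain ⟨U, a, hae, has⟩ := hX.atlas
  obtain ⟨k, hk⟩ := (yon S).map_surjective (a ≫ h)
  have comm : a ≫ h = (yon S).map k ≫ 𝟙 _ := by rw [hk, Category.comp_id]
  have hlk : LocallyOfFiniteType k.left := hl a (𝟙 _) k hae (repWith_id _ T) comm
  refine locP_of_chart etLocal_lqf_lft h a (𝟙 _) k hae has (repWith_id _ T) comm ⟨?_, hlk⟩
  -- the chart of the self-product
  have sq₀ := IsPullback.of_hasPullback k k
  have sqY : IsPullback ((yon S).map (pullback.fst k k)) ((yon S).map (pullback.snd k k))
      (a ≫ h) (a ≫ h) := by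
    rw [← hk]; exact sq₀.map (yon S)
  have sq1 := IsPullback.of_hasPullback (a ≫ h) h
  have sq2 := IsPullback.of_hasPullback h h
  have hm0 : (pullback.fst (a ≫ h) h ≫ a) ≫ h = pullback.snd (a ≫ h) h ≫ h := by
    rw [Category.assoc]; exact sq1.w
  have sqm : IsPullback (sq2.lift _ _ hm0) (pullback.fst (a ≫ h) h) (pullback.fst h h) a := by
    refine IsPullback.of_right ?_ (sq2.lift_fst _ _ _) sq2.flip
    rw [sq2.lift_snd]
    exact sq1.flip
  have hc0 : (yon S).map (pullback.fst k k) ≫ a ≫ h =
      ((yon S).map (pullback.snd k k) ≫ a) ≫ h := by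
    rw [Category.assoc]; exact sqY.w
  have sqc : IsPullback (sq1.lift _ _ hc0) ((yon S).map (pullback.snd k k))
      (pullback.snd (a ≫ h) h) a := by
    refine IsPullback.of_right ?_ (sq1.lift_snd _ _ _) sq1
    rw [sq1.lift_fst]
    exact sqY
  have hme : RepWith @Etale (sq2.lift _ _ hm0) := repWith_of_isPullback _ sqm.flip hae
  have hce : RepWith @Etale (sq1.lift _ _ hc0) := repWith_of_isPullback _ sqc.flip hae
  have key := H (sq1.lift _ _ hc0 ≫ sq2.lift _ _ hm0) a (pullback.snd k k)
    (repWith_comp _ hce hme) hae (by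
      rw [Category.assoc, sq2.lift_snd, sq1.lift_snd])
  exact locallyQuasiFinite_of_isPullback (sq₀.map (Over.forget S)) key.1

end Groth.Agent.Lib.Helper24.LqfSelf
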