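import Groth.Agent.Lib.Helper24.AlgStInertia2
import Groth.Agent.Lib.Helper24.AlgStLocQ7
import Groth.Agent.Lib.Helper24.LqfSelf
set_option autoImplicit false
set_option linter.unusedSectionVars false
open CategoryTheory CategoryTheory.Limits AlgebraicGeometry Opposite
universe u
open AlgSp Groth.Agent.Lib.Helper14.AS
open Groth.Agent.Lib.Helper24.AlgStSchLocal Groth.Agent.Lib.Helper24.AlgStRepS
open Groth.Agent.Lib.Helper24.AlgStProps Groth.Agent.Lib.Helper24.AlgStGC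
open Groth.Agent.Lib.Helper24.AlgStSepDiag Groth.Agent.Lib.Helper24.AlgStSep2
open Groth.Agent.Lib.Helper24.AlgStRep Groth.Agent.Lib.Helper24.AlgStSmLoc
open Groth.Agent.Lib.Helper24.FibCatInertiaFp Groth.Agent.Lib.Helper24.AlgStBoot
open Groth.Agent.Lib.Helper24.AlgStInertia Groth.Agent.Lib.Helper24.AlgStDiagLft
open Groth.Agent.Lib.Helper24.AlgStMono Groth.Agent.Lib.Helper24.AlgStIso
open Groth.Agent.Lib.Helper24.AlgStEqv Groth.Agent.Lib.Helper24.AlgStLocQ1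
open Groth.Agent.Lib.Helper24.AlgStLocQ5 Groth.Agent.Lib.Helper24.AlgStLocQ7
open Groth.Agent.Lib.Helper24.AlgStBridge Groth.Agent.Lib.Helper24.AlgStDiagBC
open Groth.Agent.Lib.Helper24.FibCatFpGen Groth.Agent.Lib.Helper24.AlgStCalc
open Groth.Agent.Lib.Helper24.LqfSelf Groth.Agent.Lib.Helper24.AlgStLocQ2

namespace Groth.Agent.Lib.Helper24.AlgStSelfFp

set_option backward.isDefEq.respectTransparency false in
set_option backward.isDefEq.respectTransparency.types false in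
/-- the self-product of a base change is a base change of the self-product -/
theorem eqvOver_self_fp {S : Scheme.{u}} {𝒜 ℬ 𝒯 : AlgSt.Cat S} (g : 𝒜 ⥤ᵇ ℬ) (y : 𝒯 ⥤ᵇ ℬ) :
    EqvOver (FibCat.fpFst (FibCat.fpFst y g) (FibCat.fpFst y g))
      (FibCat.fpFst (FibCat.fpSnd y g) (FibCat.fpFst g g)) :=
  ((eqvOver_P g y (FibCat.fpFst y g)).trans
    (eqvOver_fpFst_congr_left (FibCat.fpIso y g) g)).trans
    (eqvOver_P g g (FibCat.fpSnd y g)).symm

set_option backward.isDefEq.respectTransparency false in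
set_option backward.isDefEq.respectTransparency.types false in
theorem repByAlgSpWith_self_fp {S : Scheme.{u}} (Q : MorphismProperty (Sp S)) (hQ : Nice Q)
    {𝒜 ℬ : AlgSt.Cat S} (h𝒜 : FibCat.IsFibGrpd 𝒜.p) (hℬ : FibCat.IsFibGrpd ℬ.p)
    (g : 𝒜 ⥤ᵇ ℬ) (hg : AlgSt.RepByAlgSp1 g)
    (h : AlgSt.RepByAlgSpWith Q (FibCat.fpFst g g)) :
    AlgSt.RepByAlgSpWith (fun _ _ a => Q (pullback.snd a a)) g := by
  intro U y
  obtain ⟨F, e, he⟩ := hg U y
  refine ⟨F, e, he, ?_⟩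
  have h1 : AlgSt.RepByAlgSpWith Q (FibCat.fpFst (FibCat.fpFst y g) (FibCat.fpFst y g)) :=
    repByAlgSpWith_of_eqvOver Q (eqvOver_self_fp g y)
      (repByAlgSpWith_fpFst Q (FibCat.fpFst g g) (FibCat.fpSnd y g) h)
  have hrep : AlgSt.RepByAlgSp (FibCat.fp y g) := ⟨F, e, he⟩
  have hU : FibCat.IsFibGrpd (FibCat.overCat U).p := isFibGrpd_of_repByAlgSp (repByAlgSp_overCat U)
  have hfp : FibCat.IsFibGrpd (FibCat.fp y g).p := isFibGrpd_fp y g hU h𝒜 hℬ
  have hrep2 : AlgSt.RepByAlgSp (FibCat.fp (FibCat.fpFst y g) (FibCat.fpFst y g)) :=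
    repByAlgSp_fp hfp hU hfp (FibCat.fpFst y g) (FibCat.fpFst y g)
      (repByAlgSp1_fpFst g y hg) hrep
  have hpt : PT Q (FibCat.fpFst (FibCat.fpFst y g) (FibCat.fpFst y g)) :=
    PT.of_repByAlgSpWith hQ hrep2 hrep h1
  have key := (pt_fpFst_iff (phat_respectsIso Q hQ.bc) (F := F) (G' := F)
    (G := ⟨(AlgSp.yon S).obj U, AlgSp.IsAlgSpace.yon_obj U⟩) e (AlgSt.ofOverCat U) e he
    (isEquivOver_ofOverCat U) he (FibCat.fpFst y g) (FibCat.fpFst y g)).1 hpt
  change Q (pullback.snd (AlgSt.spMapOfOver (BasedFunctor.comp e (FibCat.fpFst y g)))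
    (AlgSt.spMapOfOver (BasedFunctor.comp e (FibCat.fpFst y g))))
  suffices key' : ∀ φ : F.obj ⟶ (AlgSp.yon S).obj U,
      φ = spMapOf (BasedFunctor.comp e (BasedFunctor.comp (FibCat.fpFst y g) (AlgSt.ofOverCat U))) →
        Q (pullback.snd φ φ) from key' _ (spMapOfOver_eq _)
  intro φ hφ
  subst hφ
  exact key

end Groth.Agent.Lib.Helper24.AlgStSelfFp
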