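import Groth.Agent.S6406
import Groth.Agent.Lib.Helper24.FibCatFpGen
import Groth.Prelude.Def_AlgSt
import Groth.Agent.Lib.Helper24.PshBridge2
set_option autoImplicit false
open CategoryTheory
universe v u
set_option backward.isDefEq.respectTransparency false
set_option backward.isDefEq.respectTransparency.types false

/-! A category fibred in setoids is equivalent over the base to the category of its presheaf of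
isomorphism classes. -/

namespace Groth.Agent.Lib.Helper24.SetoidPsh
open Groth.Agent.S6406.SetQ Groth.Agent.Lib.Helper24.FibGrpd Groth.Agent.Lib.Helper24.FibSetoid
open Groth.Agent.Lib.Helper24.FibCatEquiv Groth.Agent.Lib.Helper24.FibCatFpGen

variable {C : Type u} [Category.{v} C] (𝒳 : BasedCategory.{v, max u v} C)

section
variable {𝒳}

lemma exists_rel (h𝒳 : FibCat.IsFibGrpd 𝒳.p) {V U : C} (f : V ⟶ U) (c : Quotient (isoRel 𝒳 U)) :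
    ∃ c' : Quotient (isoRel 𝒳 V), Rel (𝒳 := 𝒳) ⟨V, c'⟩ ⟨U, c⟩ f := by
  obtain ⟨y, hy⟩ : ∃ y : 𝒳.p.Fiber U, Quotient.mk (isoRel 𝒳 U) y = c := ⟨c.out, Quotient.out_eq _⟩
  obtain ⟨y0, hU⟩ := y
  subst hU
  obtain ⟨x, φ, hφ⟩ := h𝒳.exists_lift (x := y0) f
  have hx : 𝒳.p.obj x = V := IsHomLift.domain_eq 𝒳.p f φ
  exact ⟨Quotient.mk _ ⟨x, hx⟩, ⟨x, hx⟩, ⟨y0, rfl⟩, rfl, hy, φ, hφ⟩

lemma rel_unique (h𝒳 : FibCat.IsFibGrpd 𝒳.p) {V U : C} (f : V ⟶ U) (c : Quotient (isoRel 𝒳 U))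
    (c₁ c₂ : Quotient (isoRel 𝒳 V)) (h₁ : Rel (𝒳 := 𝒳) ⟨V, c₁⟩ ⟨U, c⟩ f)
    (h₂ : Rel (𝒳 := 𝒳) ⟨V, c₂⟩ ⟨U, c⟩ f) : c₁ = c₂ := by
  obtain ⟨x₁, y₁, hx₁, hy₁, φ₁, hφ₁⟩ := h₁
  obtain ⟨x₂, hx₂⟩ : ∃ x₂ : 𝒳.p.Fiber V, Quotient.mk (isoRel 𝒳 V) x₂ = c₂ :=
    ⟨c₂.out, Quotient.out_eq _⟩
  obtain ⟨φ₂, hφ₂⟩ := rel_reps h₂ x₂ y₁ hx₂ hy₁
  change Quotient.mk _ x₁ = c₁ at hx₁
  rw [← hx₁, ← hx₂]
  apply Quotient.sound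
  have hsc : 𝒳.p.IsStronglyCartesian f φ₂ := scart_of_isFibGrpd 𝒳.p h𝒳 f φ₂
  have hx₁V : 𝒳.p.obj x₁.1 = V := x₁.2
  obtain ⟨χ, ⟨hχl, hχ⟩, -⟩ := Functor.IsStronglyCartesian.universal_property 𝒳.p f φ₂ (𝟙 V) f
    (Category.id_comp f).symm φ₁
  have hiso : IsIso χ := isIso_of_isFibGrpd 𝒳.p h𝒳 (𝟙 V) χ
  have hinv : 𝒳.p.IsHomLift (𝟙 V) (inv χ) := inferInstance
  exact ⟨⟨⟨χ, hχl⟩, ⟨inv χ, hinv⟩, Subtype.ext (IsIso.hom_inv_id χ),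
    Subtype.ext (IsIso.inv_hom_id χ)⟩⟩

end

variable (h𝒳 : FibCat.IsFibGrpd 𝒳.p)

/-- restriction of isomorphism classes -/
noncomputable def res {V U : C} (f : V ⟶ U) (c : Quotient (isoRel 𝒳 U)) : Quotient (isoRel 𝒳 V) :=
  (exists_rel h𝒳 f c).choose

lemma res_rel {V U : C} (f : V ⟶ U) (c : Quotient (isoRel 𝒳 U)) :
    Rel (𝒳 := 𝒳) ⟨V, res 𝒳 h𝒳 f c⟩ ⟨U, c⟩ f := (exists_rel h𝒳 f c).choose_spec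

lemma res_eq_iff {V U : C} (f : V ⟶ U) (c : Quotient (isoRel 𝒳 U)) (c' : Quotient (isoRel 𝒳 V)) :
    res 𝒳 h𝒳 f c = c' ↔ Rel (𝒳 := 𝒳) ⟨V, c'⟩ ⟨U, c⟩ f :=
  ⟨fun h => h ▸ res_rel 𝒳 h𝒳 f c, fun h => rel_unique h𝒳 f c _ _ (res_rel 𝒳 h𝒳 f c) h⟩

/-- the presheaf of isomorphism classes of objects -/
noncomputable def clsPsh : Cᵒᵖ ⥤ Type (max u v) where
  obj U := Quotient (isoRel 𝒳 U.unop)
  map f := ↾fun c => res 𝒳 h𝒳 f.unop c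
  map_id U := by
    ext c
    exact (res_eq_iff 𝒳 h𝒳 _ c c).2 (rel_id (𝒳 := 𝒳) ⟨U.unop, c⟩)
  map_comp {U V W} f g := by
    ext c
    exact (res_eq_iff 𝒳 h𝒳 _ c _).2
      (rel_comp (a := ⟨W.unop, _⟩) (b := ⟨V.unop, _⟩) (c := ⟨U.unop, c⟩)
        (res_rel 𝒳 h𝒳 g.unop (res 𝒳 h𝒳 f.unop c)) (res_rel 𝒳 h𝒳 f.unop c))

lemma clsPsh_map_eq_iff {V U : C} (f : V ⟶ U) (c : Quotient (isoRel 𝒳 U))
    (c' : Quotient (isoRel 𝒳 V)) :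
    (clsPsh 𝒳 h𝒳).map f.op c = c' ↔ Rel (𝒳 := 𝒳) ⟨V, c'⟩ ⟨U, c⟩ f := res_eq_iff 𝒳 h𝒳 f c c'

/-- the canonical functor to the category of the presheaf of classes -/
noncomputable def toPsh : 𝒳 ⥤ᵇ Stk.ofPsh (clsPsh 𝒳 h𝒳) where
  toFunctor :=
    { obj := fun x => ⟨𝒳.p.obj x, Quotient.mk (isoRel 𝒳 (𝒳.p.obj x)) ⟨x, rfl⟩⟩
      map := fun {x y} φ => ⟨𝒳.p.map φ, (clsPsh_map_eq_iff 𝒳 h𝒳 _ _ _).2
        ⟨⟨x, rfl⟩, ⟨y, rfl⟩, rfl, rfl, φ, IsHomLift.map 𝒳.p φ⟩⟩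
      map_id := fun x => Stk.EltObj.hom_ext (𝒳.p.map_id x)
      map_comp := fun f g => Stk.EltObj.hom_ext (𝒳.p.map_comp f g) }
  w := rfl


variable {𝒳} in
lemma toPsh_faithful (h : FibCat.IsFibSetoid 𝒳.p) : (toPsh 𝒳 h.1).toFunctor.Faithful := by
  constructor
  intro x y φ ψ hh
  have h1 : 𝒳.p.map φ = 𝒳.p.map ψ := congrArg (fun t => t.hom) hh
  have hφ : 𝒳.p.IsHomLift (𝒳.p.map ψ) φ := by rw [← h1]; infer_instance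
  exact hom_ext_of_isFibSetoid 𝒳.p h (𝒳.p.map ψ) φ ψ

lemma toPsh_full : (toPsh 𝒳 h𝒳).toFunctor.Full := by
  constructor
  intro x y m
  have hrel : Rel (𝒳 := 𝒳) ⟨𝒳.p.obj x, Quotient.mk _ ⟨x, rfl⟩⟩ ⟨𝒳.p.obj y, Quotient.mk _ ⟨y, rfl⟩⟩
      m.hom := (clsPsh_map_eq_iff 𝒳 h𝒳 _ _ _).1 m.map_sec
  obtain ⟨φ, hφ⟩ := rel_reps hrel ⟨x, rfl⟩ ⟨y, rfl⟩ rfl rfl
  refine ⟨φ, Stk.EltObj.hom_ext ?_⟩
  exact map_eq_of_lift' 𝒳 φ m.hom hφ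

lemma toPsh_liftData (η : (Stk.ofPsh (clsPsh 𝒳 h𝒳)).obj) :
    ∃ (ξ : 𝒳.obj) (e : (toPsh 𝒳 h𝒳).toFunctor.obj ξ ≅ η),
      (Stk.ofPsh (clsPsh 𝒳 h𝒳)).p.IsHomLift (𝟙 ((Stk.ofPsh (clsPsh 𝒳 h𝒳)).p.obj η)) e.hom := by
  obtain ⟨U, c⟩ := η
  obtain ⟨y, hy⟩ : ∃ y : 𝒳.p.Fiber U, Quotient.mk (isoRel 𝒳 U) y = c := ⟨c.out, Quotient.out_eq _⟩
  obtain ⟨y0, hU⟩ := y
  subst hU
  subst hy
  exact ⟨y0, Iso.refl _, IsHomLift.id rfl⟩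

variable {𝒳} in
theorem isEquivOver_toPsh (h : FibCat.IsFibSetoid 𝒳.p) : FibCat.IsEquivOver (toPsh 𝒳 h.1) := by
  have := toPsh_faithful h
  have := toPsh_full 𝒳 h.1
  choose ξ e he using toPsh_liftData 𝒳 h.1
  exact isEquivOver_of_liftData (F := toPsh 𝒳 h.1) ⟨ξ, e, he⟩

end Groth.Agent.Lib.Helper24.SetoidPsh
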