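import Groth.Agent.Lib.Helper24.SmBootMain
import Groth.Agent.Lib.Helper24.AlgStBridge
import Groth.Agent.Lib.Helper24.SetoidPsh
import Groth.Agent.Lib.Helper24.AlgStInv
import Groth.Agent.Lib.Helper24.AlgStStack
import Groth.Agent.Lib.Helper24.AlgStIso
import Groth.Agent.Lib.Helper24.EtSheaf
set_option autoImplicit false
open CategoryTheory AlgebraicGeometry Opposite
universe u
set_option backward.isDefEq.respectTransparency false
set_option backward.isDefEq.respectTransparency.types false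

/-! An algebraic stack fibred in setoids is representable by an algebraic space. -/

namespace Groth.Agent.Lib.Helper24.AlgStSetoidSp
open Groth.Agent.Lib.Helper24.PshFun Groth.Agent.Lib.Helper24.FibCatFpMap
open Groth.Agent.Lib.Helper24.FibCatEquiv Groth.Agent.Lib.Helper24.FibCatFpGen
open Groth.Agent.Lib.Helper24.PshBridge Groth.Agent.Lib.Helper24.AlgStRep
open Groth.Agent.Lib.Helper24.AlgStBridge Groth.Agent.Lib.Helper24.AlgStIso

variable {S : Scheme.{u}}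

/-- a sheaf whose category of elements has a smooth surjective atlas is an algebraic space -/
theorem isAlgSpace_of_hasAtlas_ofSp (F : AlgSp.Sp S)
    (h : AlgSt.HasAtlas (AlgSp.LocP @Smooth) (AlgSt.ofSp F)) : AlgSp.IsAlgSpace F := by
  obtain ⟨U, x, h1, h2⟩ := h
  let y' : AlgSt.ofSch U ⥤ᵇ Stk.ofPsh F.obj := BasedFunctor.comp (AlgSt.toOverCat U) x
  let ξ : (AlgSp.pyon S).obj U ⟶ F.obj := pshMapOf y'
  have i : BasedFunctor.comp (AlgSt.toOverCat U) x ≅ Stk.ofPshMap ξ := isoOfPshMap y'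
  have key : ∀ P : MorphismProperty (AlgSp.Sp S), AlgSt.RepByAlgSpWith P x →
      AlgSt.RepByAlgSpWith P (Stk.ofPshMap ξ) := fun P hP =>
    (repByAlgSpWith_iff_of_isEquivOver P x (Stk.ofPshMap ξ) (AlgSt.toOverCat U)
      (BasedFunctor.id _) (isEquivOver_toOverCat U) (isEquivOver_id _) i.symm).1 hP
  have h1' := key _ h1
  have h2' := key _ h2
  have hrep : AlgSp.RepBySp ξ := by
    apply repBySp_of_repByAlgSp1_ofPshMap
    intro V y
    obtain ⟨X, e, he, -⟩ := h1' V y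
    exact ⟨X, e, he⟩
  have hs1 := repBySpWith_of_repByAlgSpWith_ofPshMap (AlgSp.LocP @Smooth) ξ hrep h1'
  have hs2 := repBySpWith_of_repByAlgSpWith_ofPshMap AlgSp.IsSurjectiveMor ξ hrep h2'
  have h12 : AlgSp.RepBySpWith (AlgSp.IsSurjectiveMor ⊓ AlgSp.LocP @Smooth) ξ := by
    intro V η F' fst snd hsq
    obtain ⟨hsh, hX, hQ1⟩ := hs1 η fst snd hsq
    obtain ⟨_, _, hQ2⟩ := hs2 η fst snd hsq
    exact ⟨hsh, hX, hQ2, hQ1⟩
  have := SmBootMain.isAlgSpaceP_of_smooth_cover F.obj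
    (Presheaf.IsSheaf.of_le (EtSheaf.Jet_le S) F.property)
    ⟨(AlgSp.yon S).obj U, AlgSp.IsAlgSpace.yon_obj U⟩ ξ h12
  exact (AlgSp.isAlgSpaceP_obj_iff F).1 this

/-- an fppf stack fibred in setoids with a smooth surjective atlas is representable by an
algebraic space -/
theorem repByAlgSp_of_isFibSetoid (𝒳 : AlgSt.Cat S)
    (hst : Stk.IsStack (QuotSh.J Scheme.fppfPrecoverage S) 𝒳)
    (hat : AlgSt.HasAtlas (AlgSp.LocP @Smooth) 𝒳) (h : FibCat.IsFibSetoid 𝒳.p) :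
    AlgSt.RepByAlgSp 𝒳 := by
  let F₀ : AlgSp.PSp S := SetoidPsh.clsPsh 𝒳 h.1
  let e : 𝒳 ⥤ᵇ Stk.ofPsh F₀ := SetoidPsh.toPsh 𝒳 h.1
  have he : FibCat.IsEquivOver e := SetoidPsh.isEquivOver_toPsh h
  have hsh : Presheaf.IsSheaf (AlgSp.J S) F₀ :=
    (isSheaf_iff_isSheaf_of_type _ _).2
      ((PshStack.isStack_ofPsh_iff _ _).1 ((StkEquiv.isStack_iff _ e he).1 hst))
  let F : AlgSp.Sp S := ⟨F₀, hsh⟩
  have hat' : AlgSt.HasAtlas (AlgSp.LocP @Smooth) (AlgSt.ofSp F) :=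
    AlgStInv.hasAtlas_of_isEquivOver _ e he hat
  have hF := isAlgSpace_of_hasAtlas_ofSp F hat'
  obtain ⟨e', he'⟩ := exists_inverse_isEquivOver e he
  exact ⟨⟨F, hF⟩, e', he'⟩

end Groth.Agent.Lib.Helper24.AlgStSetoidSp
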