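import Groth.Prelude.Def_AlgSt
import Groth.Prelude.Def_FibCat2
import Groth.Agent.Lib.Helper24.FibCatFpGen
import Groth.Agent.Lib.Helper24.FibCatDiag
import Groth.Agent.Lib.Helper24.FibCatFpMap
import Groth.Agent.Lib.Helper24.StkEquiv
set_option autoImplicit false
set_option linter.unusedSectionVars false
open CategoryTheory
universe v₆ u₆ v₅ u₅ v₄ u₄ v₃ u₃ v₂ u₂ v u

/-!
# Restriction of functors into a 2-fibre product

If restriction along `ι : 𝒜 ⥤ᵇ ℬ` is an equivalence for `𝒳`, `𝒴` and fully faithful for `𝒮`, then it is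
an equivalence for `𝒳 ×_𝒮 𝒴`.
-/

set_option backward.isDefEq.respectTransparency false
set_option backward.isDefEq.respectTransparency.types false

namespace Groth.Agent.Lib.Helper24.StkFp
open Groth.Agent.Lib.Helper24.FibCatFpGen

variable {C : Type u} [Category.{v} C]
  {𝒳 : BasedCategory.{v₂, u₂} C} {𝒴 : BasedCategory.{v₃, u₃} C} {𝒮 : BasedCategory.{v₄, u₄} C}
  (F : 𝒳 ⥤ᵇ 𝒮) (G : 𝒴 ⥤ᵇ 𝒮)
  {𝒜 : BasedCategory.{v₅, u₅} C} {ℬ : BasedCategory.{v₆, u₆} C} (ι : 𝒜 ⥤ᵇ ℬ)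

section comps
variable {F G} {𝒟 : BasedCategory.{v₆, u₆} C}

/-- first component of a functor to the fibre product -/
abbrev c₁ (H : 𝒟 ⥤ᵇ FibCat.fp F G) : 𝒟 ⥤ᵇ 𝒳 := BasedFunctor.comp H (FibCat.fpFst F G)
/-- second component -/
abbrev c₂ (H : 𝒟 ⥤ᵇ FibCat.fp F G) : 𝒟 ⥤ᵇ 𝒴 := BasedFunctor.comp H (FibCat.fpSnd F G)

/-- the 2-isomorphism component -/
def cIso (H : 𝒟 ⥤ᵇ FibCat.fp F G) : BasedFunctor.comp (c₁ H) F ≅ BasedFunctor.comp (c₂ H) G :=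
  BasedNatIso.mkNatIso
    (NatIso.ofComponents (fun d => (H.toFunctor.obj d).obj.iso)
      (fun {d d'} m => (H.toFunctor.map m).hom.w))
    (fun d => by
      have := iso_isHomLift F G (H.toFunctor.obj d)
      have e : 𝒳.p.obj (H.toFunctor.obj d).obj.fst = 𝒟.p.obj d := H.w_obj d
      rw [e] at this
      exact this)

lemma cIso_hom_app (H : 𝒟 ⥤ᵇ FibCat.fp F G) (d : 𝒟.obj) :
    (cIso H).hom.toNatTrans.app d = (H.toFunctor.obj d).obj.iso.hom := rfl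

/-- first component of a 2-morphism -/
def t₁ {H H' : 𝒟 ⥤ᵇ FibCat.fp F G} (τ : H ⟶ H') : c₁ H ⟶ c₁ H' :=
  BasedCategory.whiskerRight τ (FibCat.fpFst F G)
/-- second component of a 2-morphism -/
def t₂ {H H' : 𝒟 ⥤ᵇ FibCat.fp F G} (τ : H ⟶ H') : c₂ H ⟶ c₂ H' :=
  BasedCategory.whiskerRight τ (FibCat.fpSnd F G)

lemma t₁_app {H H' : 𝒟 ⥤ᵇ FibCat.fp F G} (τ : H ⟶ H') (d : 𝒟.obj) :
    (t₁ τ).toNatTrans.app d = (τ.toNatTrans.app d).hom.fst := rfl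
lemma t₂_app {H H' : 𝒟 ⥤ᵇ FibCat.fp F G} (τ : H ⟶ H') (d : 𝒟.obj) :
    (t₂ τ).toNatTrans.app d = (τ.toNatTrans.app d).hom.snd := rfl

lemma hom_ext_comps {H H' : 𝒟 ⥤ᵇ FibCat.fp F G} (τ τ' : H ⟶ H') (h1 : t₁ τ = t₁ τ')
    (h2 : t₂ τ = t₂ τ') : τ = τ' := by
  apply BasedNatTrans.homCategory.ext
  apply NatTrans.ext
  funext d
  apply hom_ext'
  · exact congrArg (fun t => t.toNatTrans.app d) h1
  · exact congrArg (fun t => t.toNatTrans.app d) h2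

/-- assemble a 2-morphism from its components -/
def mkTrans {H H' : 𝒟 ⥤ᵇ FibCat.fp F G} (τ₁ : c₁ H ⟶ c₁ H') (τ₂ : c₂ H ⟶ c₂ H')
    (w : ∀ d, F.toFunctor.map (τ₁.toNatTrans.app d) ≫ (H'.toFunctor.obj d).obj.iso.hom =
      (H.toFunctor.obj d).obj.iso.hom ≫ G.toFunctor.map (τ₂.toNatTrans.app d)) : H ⟶ H' where
  toNatTrans :=
    { app := fun d => mkHom (τ₁.toNatTrans.app d) (τ₂.toNatTrans.app d) (w d)
      naturality := fun {d d'} m => by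
        apply hom_ext'
        · exact τ₁.toNatTrans.naturality m
        · exact τ₂.toNatTrans.naturality m }
  isHomLift' := fun d => by
    rw [isHomLift_iff_fst]
    exact τ₁.isHomLift' d

lemma t₁_mkTrans {H H' : 𝒟 ⥤ᵇ FibCat.fp F G} (τ₁ : c₁ H ⟶ c₁ H') (τ₂ : c₂ H ⟶ c₂ H')
    (w : ∀ d, F.toFunctor.map (τ₁.toNatTrans.app d) ≫ (H'.toFunctor.obj d).obj.iso.hom =
      (H.toFunctor.obj d).obj.iso.hom ≫ G.toFunctor.map (τ₂.toNatTrans.app d)) :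
    t₁ (mkTrans τ₁ τ₂ w) = τ₁ := by
  apply BasedNatTrans.homCategory.ext; apply NatTrans.ext; funext d; rfl

lemma t₂_mkTrans {H H' : 𝒟 ⥤ᵇ FibCat.fp F G} (τ₁ : c₁ H ⟶ c₁ H') (τ₂ : c₂ H ⟶ c₂ H')
    (w : ∀ d, F.toFunctor.map (τ₁.toNatTrans.app d) ≫ (H'.toFunctor.obj d).obj.iso.hom =
      (H.toFunctor.obj d).obj.iso.hom ≫ G.toFunctor.map (τ₂.toNatTrans.app d)) :
    t₂ (mkTrans τ₁ τ₂ w) = τ₂ := by
  apply BasedNatTrans.homCategory.ext; apply NatTrans.ext; funext d; rfl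

end comps


open Groth.Agent.Lib.Helper24.FibCatFpMap Groth.Agent.Lib.Helper24.StkEquiv

section Restr

lemma restr_map_app {𝒵 : BasedCategory.{v₄, u₄} C} {H H' : ℬ ⥤ᵇ 𝒵} (τ : H ⟶ H') (a : 𝒜.obj) :
    ((Stk.restr ι 𝒵).map τ).toNatTrans.app a = τ.toNatTrans.app (ι.toFunctor.obj a) := rfl

lemma restr_t₁ {H H' : ℬ ⥤ᵇ FibCat.fp F G} (τ : H ⟶ H') :
    (Stk.restr ι 𝒳).map (t₁ τ) = t₁ ((Stk.restr ι (FibCat.fp F G)).map τ) := rfl

lemma restr_t₂ {H H' : ℬ ⥤ᵇ FibCat.fp F G} (τ : H ⟶ H') :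
    (Stk.restr ι 𝒴).map (t₂ τ) = t₂ ((Stk.restr ι (FibCat.fp F G)).map τ) := rfl

theorem restr_fp_faithful [(Stk.restr ι 𝒳).Faithful] [(Stk.restr ι 𝒴).Faithful] :
    (Stk.restr ι (FibCat.fp F G)).Faithful := by
  constructor
  intro H H' τ τ' h
  apply hom_ext_comps
  · apply (Stk.restr ι 𝒳).map_injective
    rw [restr_t₁, restr_t₁, h]
  · apply (Stk.restr ι 𝒴).map_injective
    rw [restr_t₂, restr_t₂, h]

section full
variable [(Stk.restr ι 𝒳).Full] [(Stk.restr ι 𝒴).Full] [(Stk.restr ι 𝒮).Faithful]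
  {H H' : ℬ ⥤ᵇ FibCat.fp F G}
  (σ : (Stk.restr ι (FibCat.fp F G)).obj H ⟶ (Stk.restr ι (FibCat.fp F G)).obj H')

/-- preimage of the first component -/
noncomputable def pre₁ : c₁ H ⟶ c₁ H' :=
  (Stk.restr ι 𝒳).preimage (X := c₁ H) (Y := c₁ H') (t₁ σ)

/-- preimage of the second component -/
noncomputable def pre₂ : c₂ H ⟶ c₂ H' :=
  (Stk.restr ι 𝒴).preimage (X := c₂ H) (Y := c₂ H') (t₂ σ)

lemma map_pre₁ : (Stk.restr ι 𝒳).map (pre₁ F G ι σ) = t₁ σ :=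
  (Stk.restr ι 𝒳).map_preimage (X := c₁ H) (Y := c₁ H') (t₁ σ)

lemma map_pre₂ : (Stk.restr ι 𝒴).map (pre₂ F G ι σ) = t₂ σ :=
  (Stk.restr ι 𝒴).map_preimage (X := c₂ H) (Y := c₂ H') (t₂ σ)

lemma pre₁_app (a : 𝒜.obj) :
    (pre₁ F G ι σ).toNatTrans.app (ι.toFunctor.obj a) = (σ.toNatTrans.app a).hom.fst :=
  congrArg (fun t => t.toNatTrans.app a) (map_pre₁ F G ι σ)

lemma pre₂_app (a : 𝒜.obj) :
    (pre₂ F G ι σ).toNatTrans.app (ι.toFunctor.obj a) = (σ.toNatTrans.app a).hom.snd :=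
  congrArg (fun t => t.toNatTrans.app a) (map_pre₂ F G ι σ)

lemma pre_w (b : ℬ.obj) :
    F.toFunctor.map ((pre₁ F G ι σ).toNatTrans.app b) ≫ (H'.toFunctor.obj b).obj.iso.hom =
      (H.toFunctor.obj b).obj.iso.hom ≫ G.toFunctor.map ((pre₂ F G ι σ).toNatTrans.app b) := by
  let Lh : BasedFunctor.comp (c₁ H) F ⟶ BasedFunctor.comp (c₂ H') G :=
    BasedCategory.whiskerRight (pre₁ F G ι σ) F ≫ (cIso H').hom
  let Rh : BasedFunctor.comp (c₁ H) F ⟶ BasedFunctor.comp (c₂ H') G :=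
    (cIso H).hom ≫ BasedCategory.whiskerRight (pre₂ F G ι σ) G
  have key : (Stk.restr ι 𝒮).map Lh = (Stk.restr ι 𝒮).map Rh := by
    apply BasedNatTrans.homCategory.ext
    apply NatTrans.ext
    funext a
    change F.toFunctor.map ((pre₁ F G ι σ).toNatTrans.app (ι.toFunctor.obj a)) ≫
        (H'.toFunctor.obj (ι.toFunctor.obj a)).obj.iso.hom =
      (H.toFunctor.obj (ι.toFunctor.obj a)).obj.iso.hom ≫
        G.toFunctor.map ((pre₂ F G ι σ).toNatTrans.app (ι.toFunctor.obj a))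
    rw [pre₁_app, pre₂_app]
    exact (σ.toNatTrans.app a).hom.w
  have e := (Stk.restr ι 𝒮).map_injective key
  exact congrArg (fun t => t.toNatTrans.app b) e

/-- the preimage -/
noncomputable def pre : H ⟶ H' := mkTrans (pre₁ F G ι σ) (pre₂ F G ι σ) (pre_w F G ι σ)

lemma map_pre : (Stk.restr ι (FibCat.fp F G)).map (pre F G ι σ) = σ := by
  apply hom_ext_comps
  · rw [← restr_t₁, pre, t₁_mkTrans, map_pre₁]
  · rw [← restr_t₂, pre, t₂_mkTrans, map_pre₂]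

end full

theorem restr_fp_full [(Stk.restr ι 𝒳).Full] [(Stk.restr ι 𝒴).Full] [(Stk.restr ι 𝒮).Faithful] :
    (Stk.restr ι (FibCat.fp F G)).Full :=
  ⟨fun σ => ⟨pre F G ι σ, map_pre F G ι σ⟩⟩


section ess
variable [(Stk.restr ι 𝒳).EssSurj] [(Stk.restr ι 𝒴).EssSurj] [(Stk.restr ι 𝒮).Full]
  [(Stk.restr ι 𝒮).Faithful] (K : 𝒜 ⥤ᵇ FibCat.fp F G)

noncomputable def H₁ : ℬ ⥤ᵇ 𝒳 := (Stk.restr ι 𝒳).objPreimage (c₁ K)
noncomputable def H₂ : ℬ ⥤ᵇ 𝒴 := (Stk.restr ι 𝒴).objPreimage (c₂ K)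
noncomputable def θ₁ : (Stk.restr ι 𝒳).obj (H₁ F G ι K) ≅ c₁ K :=
  (Stk.restr ι 𝒳).objObjPreimageIso (c₁ K)
noncomputable def θ₂ : (Stk.restr ι 𝒴).obj (H₂ F G ι K) ≅ c₂ K :=
  (Stk.restr ι 𝒴).objObjPreimageIso (c₂ K)

/-- the glued 2-isomorphism, on the sieve -/
noncomputable def ψ : (Stk.restr ι 𝒮).obj (BasedFunctor.comp (H₁ F G ι K) F) ≅
    (Stk.restr ι 𝒮).obj (BasedFunctor.comp (H₂ F G ι K) G) :=
  (postcompF 𝒜 F).mapIso (θ₁ F G ι K) ≪≫ cIso K ≪≫ ((postcompF 𝒜 G).mapIso (θ₂ F G ι K)).symm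

lemma ψ_hom_app (a : 𝒜.obj) : (ψ F G ι K).hom.toNatTrans.app a =
    F.toFunctor.map ((θ₁ F G ι K).hom.toNatTrans.app a) ≫ (K.toFunctor.obj a).obj.iso.hom ≫
      G.toFunctor.map ((θ₂ F G ι K).inv.toNatTrans.app a) := rfl

/-- the glued 2-isomorphism -/
noncomputable def ε : BasedFunctor.comp (H₁ F G ι K) F ≅ BasedFunctor.comp (H₂ F G ι K) G :=
  (Stk.restr ι 𝒮).preimageIso (ψ F G ι K)

lemma ε_hom_app (a : 𝒜.obj) : (ε F G ι K).hom.toNatTrans.app (ι.toFunctor.obj a) =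
    F.toFunctor.map ((θ₁ F G ι K).hom.toNatTrans.app a) ≫ (K.toFunctor.obj a).obj.iso.hom ≫
      G.toFunctor.map ((θ₂ F G ι K).inv.toNatTrans.app a) := by
  have h : (Stk.restr ι 𝒮).map (ε F G ι K).hom = (ψ F G ι K).hom := by
    simp [ε]
  have := congrArg (fun t => t.toNatTrans.app a) h
  rw [← ψ_hom_app]
  exact this

/-- the glued functor -/
noncomputable def Hglue : ℬ ⥤ᵇ FibCat.fp F G := FibCat.fpLift (H₁ F G ι K) (H₂ F G ι K) (ε F G ι K)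

lemma Hglue_obj_iso_hom (b : ℬ.obj) :
    ((Hglue F G ι K).toFunctor.obj b).obj.iso.hom = (ε F G ι K).hom.toNatTrans.app b := rfl

lemma glue_w (a : 𝒜.obj) :
    F.toFunctor.map ((θ₁ F G ι K).hom.toNatTrans.app a) ≫ (K.toFunctor.obj a).obj.iso.hom =
      ((Hglue F G ι K).toFunctor.obj (ι.toFunctor.obj a)).obj.iso.hom ≫
        G.toFunctor.map ((θ₂ F G ι K).hom.toNatTrans.app a) := by
  have h1 : (θ₂ F G ι K).inv.toNatTrans.app a ≫ (θ₂ F G ι K).hom.toNatTrans.app a = 𝟙 _ :=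
    congrArg (fun t => t.toNatTrans.app a) (θ₂ F G ι K).inv_hom_id
  have h2 : G.toFunctor.map ((θ₂ F G ι K).inv.toNatTrans.app a) ≫
      G.toFunctor.map ((θ₂ F G ι K).hom.toNatTrans.app a) = 𝟙 _ := by
    rw [← G.toFunctor.map_comp, h1]
    exact G.toFunctor.map_id _
  rw [Hglue_obj_iso_hom, ε_hom_app, Category.assoc, Category.assoc, h2]
  exact (congrArg (fun t => F.toFunctor.map ((θ₁ F G ι K).hom.toNatTrans.app a) ≫ t)
    (Category.comp_id _)).symm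

/-- components of the comparison isomorphism -/
noncomputable def glueIsoApp (a : 𝒜.obj) :
    ((Stk.restr ι (FibCat.fp F G)).obj (Hglue F G ι K)).toFunctor.obj a ≅ K.toFunctor.obj a :=
  Groth.Agent.Lib.Helper24.FibCatDiag.mkIso
    (x := (Hglue F G ι K).toFunctor.obj (ι.toFunctor.obj a)) (y := K.toFunctor.obj a)
    (appIso (θ₁ F G ι K) a) (appIso (θ₂ F G ι K) a) (glue_w F G ι K a)

lemma glueIsoApp_hom_fst (a : 𝒜.obj) :
    (glueIsoApp F G ι K a).hom.hom.fst = (θ₁ F G ι K).hom.toNatTrans.app a := rfl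
lemma glueIsoApp_hom_snd (a : 𝒜.obj) :
    (glueIsoApp F G ι K a).hom.hom.snd = (θ₂ F G ι K).hom.toNatTrans.app a := rfl

/-- the comparison isomorphism -/
noncomputable def glueIso : (Stk.restr ι (FibCat.fp F G)).obj (Hglue F G ι K) ≅ K :=
  BasedNatIso.mkNatIso
    (NatIso.ofComponents (fun a => glueIsoApp F G ι K a) (fun {a a'} m => by
      apply hom_ext'
      · exact (θ₁ F G ι K).hom.toNatTrans.naturality m
      · exact (θ₂ F G ι K).hom.toNatTrans.naturality m))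
    (fun a => by
      change (FibCat.fp F G).p.IsHomLift (𝟙 (𝒜.p.obj a)) (glueIsoApp F G ι K a).hom
      rw [isHomLift_iff_fst, glueIsoApp_hom_fst]
      exact (θ₁ F G ι K).hom.isHomLift' a)

end ess

theorem restr_fp_essSurj [(Stk.restr ι 𝒳).EssSurj] [(Stk.restr ι 𝒴).EssSurj]
    [(Stk.restr ι 𝒮).Full] [(Stk.restr ι 𝒮).Faithful] :
    (Stk.restr ι (FibCat.fp F G)).EssSurj :=
  ⟨fun K => ⟨Hglue F G ι K, ⟨glueIso F G ι K⟩⟩⟩

theorem restr_fp_isEquivalence (h𝒳 : (Stk.restr ι 𝒳).IsEquivalence)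
    (h𝒴 : (Stk.restr ι 𝒴).IsEquivalence) (h𝒮 : (Stk.restr ι 𝒮).Full ∧ (Stk.restr ι 𝒮).Faithful) :
    (Stk.restr ι (FibCat.fp F G)).IsEquivalence := by
  obtain ⟨_, _⟩ := h𝒮
  exact { faithful := restr_fp_faithful F G ι
          full := restr_fp_full F G ι
          essSurj := restr_fp_essSurj F G ι }

end Restr

theorem isStack_fp (J : GrothendieckTopology C) (h𝒳 : Stk.IsStack J 𝒳) (h𝒴 : Stk.IsStack J 𝒴)
    (h𝒮 : Stk.IsPrestack J 𝒮) : Stk.IsStack J (FibCat.fp F G) := by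
  refine ⟨isFibGrpd_fp F G h𝒳.1 h𝒴.1 h𝒮.1, fun U R hR => ?_⟩
  exact restr_fp_isEquivalence F G (Stk.sieveIncl R) (h𝒳.2 R hR) (h𝒴.2 R hR) (h𝒮.2 R hR)

end Groth.Agent.Lib.Helper24.StkFp
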