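import Groth.Agent.Lib.Helper24.AlgStFaithRep
import Groth.Agent.Lib.Helper24.AlgStRepAlg
import Groth.Agent.S12811
set_option autoImplicit false
open CategoryTheory AlgebraicGeometry Opposite
universe u
set_option backward.isDefEq.respectTransparency false
set_option backward.isDefEq.respectTransparency.types false

/-! A stack in groupoids with a smooth surjective cover, representable by algebraic spaces, from an
algebraic space is an algebraic stack. -/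

namespace Groth.Agent.Lib.Helper24.AlgStSmoothCover
open Groth.Agent.Lib.Helper24.FibCatFpMap
open Groth.Agent.Lib.Helper24.FibCatEquiv Groth.Agent.Lib.Helper24.FibCatFpGen
open Groth.Agent.Lib.Helper24.AlgStRep Groth.Agent.Lib.Helper24.AlgStRepS
open Groth.Agent.Lib.Helper24.AlgStBridge Groth.Agent.Lib.Helper24.AlgStBoot
open Groth.Agent.Lib.Helper24.AlgStEqv Groth.Agent.Lib.Helper24.AlgStDiagBC
open Groth.Agent.Lib.Helper24.AlgStSchLocal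
open Groth.Agent.Lib.Helper24.AlgStGC Groth.Agent.Lib.Helper24.AlgStLC
open Groth.Agent.Lib.Helper24.AlgStProps Groth.Agent.Lib.Helper24.AlgStSmooth
open Groth.Agent.Lib.Helper24.AlgStDiag Groth.Agent.Lib.Helper24.AlgStCalc
open Groth.Agent.Lib.Helper24.AlgStFpAlg Groth.Agent.Lib.Helper24.AlgStAtlas
open Groth.Agent.Lib.Helper24.AlgStRepAlg
open Groth.Agent.Lib.Helper24.StkFp
open CategoryTheory.Limits AlgSt

variable {S : Scheme.{u}}

/-- a smooth surjective cover from an algebraic space gives a smooth surjective atlas from a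
scheme -/
theorem hasAtlas_of_space_cover {𝒰 𝒳 : AlgSt.Cat S} (h𝒰 : FibCat.IsFibGrpd 𝒰.p)
    (h𝒳 : FibCat.IsFibGrpd 𝒳.p) (hU : AlgSt.RepByAlgSp 𝒰) (u : 𝒰 ⥤ᵇ 𝒳)
    (hsm : AlgSt.RepByAlgSpWith (AlgSp.LocP @Smooth) u)
    (hsurj : AlgSt.RepByAlgSpWith AlgSp.IsSurjectiveMor u) :
    AlgSt.HasAtlas (AlgSp.LocP @Smooth) 𝒳 := by
  obtain ⟨W, e, he⟩ := hU
  obtain ⟨V, p, hp, hp'⟩ := hasAtlas_smooth_ofSp W
  have hV : FibCat.IsFibGrpd (FibCat.overCat V).p := StkFpCrit.isFibGrpd_overForget V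
  refine ⟨V, BasedFunctor.comp (BasedFunctor.comp p e) u, ?_, ?_⟩
  · exact repByAlgSpWith_comp hV h𝒰 h𝒳 _ good_smooth.nice stableComp_smooth _ _
      (repByAlgSpWith_comp_equiv _ p e he hp) hsm
  · exact repByAlgSpWith_comp hV h𝒰 h𝒳 _ good_isSurjectiveMor.nice stableComp_isSurjectiveMor _ _
      (repByAlgSpWith_comp_equiv _ p e he hp') hsurj

/-- a stack in setoids with a smooth surjective cover from an algebraic space is an algebraic
space -/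
theorem repByAlgSp_of_space_cover {𝒲 𝒵 : AlgSt.Cat S} (h𝒲 : FibCat.IsFibGrpd 𝒲.p)
    (h𝒵 : Stk.IsStack (QuotSh.J Scheme.fppfPrecoverage S) 𝒵) (hs : FibCat.IsFibSetoid 𝒵.p)
    (hW : AlgSt.RepByAlgSp 𝒲) (w : 𝒲 ⥤ᵇ 𝒵)
    (hsm : AlgSt.RepByAlgSpWith (AlgSp.LocP @Smooth) w)
    (hsurj : AlgSt.RepByAlgSpWith AlgSp.IsSurjectiveMor w) : AlgSt.RepByAlgSp 𝒵 :=
  AlgStSetoidSp.repByAlgSp_of_isFibSetoid 𝒵 h𝒵
    (hasAtlas_of_space_cover h𝒲 h𝒵.1 hW w hsm hsurj) hs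

section
variable {𝒰 𝒳 : AlgSt.Cat S} (h𝒰 : FibCat.IsFibGrpd 𝒰.p)
  (h𝒳 : Stk.IsStack (QuotSh.J Scheme.fppfPrecoverage S) 𝒳)
  (hU : AlgSt.RepByAlgSp 𝒰) (u : 𝒰 ⥤ᵇ 𝒳) (hsm : AlgSt.RepByAlgSpWith (AlgSp.LocP @Smooth) u)
  (hsurj : AlgSt.RepByAlgSpWith AlgSp.IsSurjectiveMor u)

include h𝒰 h𝒳 hU hsm in
/-- fibre products over `𝒳` of algebraic spaces, one of which maps through the cover -/
theorem repByAlgSp_fp_of_factor {𝒜 ℬ : AlgSt.Cat S} (h𝒜 : FibCat.IsFibGrpd 𝒜.p)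
    (hℬ : FibCat.IsFibGrpd ℬ.p) (hA : AlgSt.RepByAlgSp 𝒜) (hB : AlgSt.RepByAlgSp ℬ)
    (a' : 𝒜 ⥤ᵇ 𝒰) (b : ℬ ⥤ᵇ 𝒳) : AlgSt.RepByAlgSp (FibCat.fp (BasedFunctor.comp a' u) b) := by
  have hu1 : AlgSt.RepByAlgSp1 u := repByAlgSp1_of_repByAlgSpWith _ u hsm
  have hfp : AlgSt.RepByAlgSp (FibCat.fp u b) := repByAlgSp_fp' h𝒰 h𝒳.1 hℬ u b hu1 hB
  have hfpfib : FibCat.IsFibGrpd (FibCat.fp u b).p := isFibGrpd_fp u b h𝒰 hℬ h𝒳.1
  have e1 : EqvOver (FibCat.fpFst a' (FibCat.fpFst u b))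
      (FibCat.fpFst (BasedFunctor.comp a' u) b) := eqvOver_P b u a'
  rw [← EqvOver.repByAlgSp e1]
  exact repByAlgSp1_of_diag h𝒰 (isAlgStack_of_repByAlgSp hU).diag h𝒜 hfpfib hA hfp a'
    (FibCat.fpFst u b)

include h𝒰 h𝒳 hU hsm hsurj in
/-- the diagonal of `𝒳` is representable by algebraic spaces -/
theorem repByAlgSp1_diag_of_smooth_cover :
    AlgSt.RepByAlgSp1 (FibCat.diag (FibCat.toSelf 𝒳)) := by
  rw [repByAlgSp1_diag_iff h𝒳.1]
  intro U x T t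
  have hT : FibCat.IsFibGrpd (FibCat.overCat T).p := StkFpCrit.isFibGrpd_overForget T
  have hUf : FibCat.IsFibGrpd (FibCat.overCat U).p := StkFpCrit.isFibGrpd_overForget U
  have hTs : FibCat.IsFibSetoid (FibCat.overCat T).p :=
    AlgStSetoid.isFibSetoid_of_repByAlgSp (repByAlgSp_overCat T)
  have hUs : FibCat.IsFibSetoid (FibCat.overCat U).p :=
    AlgStSetoid.isFibSetoid_of_repByAlgSp (repByAlgSp_overCat U)
  have hu1 : AlgSt.RepByAlgSp1 u := repByAlgSp1_of_repByAlgSpWith _ u hsm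
  -- the stack in setoids `𝒵 = T ×_𝒳 U`
  have hPst : Stk.IsStack (QuotSh.J Scheme.fppfPrecoverage S) (FibCat.fp t x) :=
    isStack_fp t x _ (AlgStStack.isStack_overCat T) (AlgStStack.isStack_overCat U)
      (isPrestack_of_isStack _ h𝒳)
  have hPs : FibCat.IsFibSetoid (FibCat.fp t x).p :=
    Groth.Agent.S12811.isFibSetoid_fp t x hTs hUs h𝒳.1
  -- the cover `T' = T ×_𝒳 𝒰` of `T`
  have hT' : AlgSt.RepByAlgSp (FibCat.fp t u) := hu1 T t
  have hT'fib : FibCat.IsFibGrpd (FibCat.fp t u).p := isFibGrpd_fp t u hT h𝒰 h𝒳.1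
  let π := FibCat.fpFst t u
  have hπ1 : AlgSt.RepByAlgSpWith (AlgSp.LocP @Smooth) π := repByAlgSpWith_fpFst _ u t hsm
  have hπ2 : AlgSt.RepByAlgSpWith AlgSp.IsSurjectiveMor π := repByAlgSpWith_fpFst _ u t hsurj
  -- `𝒲 = T' ×_T 𝒵`
  let q := FibCat.fpFst t x
  have hWfib : FibCat.IsFibGrpd (FibCat.fp π q).p := isFibGrpd_fp π q hT'fib hPst.1 hT
  have hW : AlgSt.RepByAlgSp (FibCat.fp π q) := by
    have e1 : EqvOver (FibCat.fpFst π q) (FibCat.fpFst (BasedFunctor.comp π t) x) :=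
      eqvOver_P x t π
    have e2 : EqvOver (FibCat.fpFst (BasedFunctor.comp π t) x)
        (FibCat.fpFst (BasedFunctor.comp (FibCat.fpSnd t u) u) x) :=
      eqvOver_fpFst_congr_left (FibCat.fpIso t u) x
    rw [EqvOver.repByAlgSp e1, EqvOver.repByAlgSp e2]
    exact repByAlgSp_fp_of_factor h𝒰 h𝒳 hU u hsm hT'fib hUf hT' (repByAlgSp_overCat U) _ x
  exact repByAlgSp_of_space_cover hWfib hPst hPs hW (FibCat.fpSnd π q)
    (repByAlgSpWith_fpSnd _ π q hπ1) (repByAlgSpWith_fpSnd _ π q hπ2)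

include h𝒰 h𝒳 hU hsm hsurj in
/-- S12760 -/
theorem isAlgStack_of_smooth_cover : AlgSt.IsAlgStack Scheme.fppfPrecoverage 𝒳 where
  isStack := h𝒳
  diag := repByAlgSp1_diag_of_smooth_cover h𝒰 h𝒳 hU u hsm hsurj
  atlas := hasAtlas_of_space_cover h𝒰 h𝒳.1 hU u hsm hsurj

end

end Groth.Agent.Lib.Helper24.AlgStSmoothCover
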