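import Groth.Agent.Lib.Helper24.AlgStImmNoeth
import Groth.Agent.Lib.Helper24.AlgStMonoFull
import Groth.Agent.Lib.Helper24.AlgStInv
set_option autoImplicit false
open CategoryTheory AlgebraicGeometry Opposite
universe w₁ v₁ w₂ v₂ w₃ v₃ w₄ v₄ u
set_option backward.isDefEq.respectTransparency false
set_option backward.isDefEq.respectTransparency.types false

/-! The essential image of a monomorphism as a substack (S12878). -/

namespace Groth.Agent.Lib.Helper24.AlgStSubImm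
open Groth.Agent.Lib.Helper24.FibCatFpMap
open Groth.Agent.Lib.Helper24.FibCatEquiv Groth.Agent.Lib.Helper24.FibCatFpGen
open Groth.Agent.Lib.Helper24.AlgStRep Groth.Agent.Lib.Helper24.AlgStRepS
open Groth.Agent.Lib.Helper24.AlgStSchLocal
open Groth.Agent.Lib.Helper24.AlgStSmLoc Groth.Agent.Lib.Helper24.AlgStMonoFull
open Groth.Agent.Lib.Helper24.AlgStInv Groth.Agent.Lib.Helper14.AS
open CategoryTheory.Limits AlgSt

variable {S : Scheme.{u}}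

section Gen
variable {𝒵 𝒳 : AlgSt.Cat S} (i : 𝒵 ⥤ᵇ 𝒳)

/-- the essential image of `i` -/
def EssIm : 𝒳.obj → Prop := fun y => ∃ z : 𝒵.obj, Nonempty (i.obj z ≅ y)

instance essIm_closed : ObjectProperty.IsClosedUnderIsomorphisms (EssIm i) where
  of_iso := by
    rintro y y' e ⟨z, ⟨e'⟩⟩
    exact ⟨z, ⟨e' ≪≫ e⟩⟩

/-- the corestriction of `i` to its essential image -/
def corestr : 𝒵 ⥤ᵇ AlgSt.fullSub 𝒳 (EssIm i) where
  toFunctor := ObjectProperty.lift (EssIm i) i.toFunctor (fun z => ⟨z, ⟨Iso.refl _⟩⟩)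
  w := i.w

def corestrIso : BasedFunctor.comp (corestr i) (AlgSt.subIncl 𝒳 (EssIm i)) ≅ i := Iso.refl _

/-- an object of the essential image is isomorphic, over the identity, to a value of `i` -/
theorem exists_iso_over_id (h𝒵 : FibCat.IsFibGrpd 𝒵.p) (h𝒳 : FibCat.IsFibGrpd 𝒳.p) {y : 𝒳.obj}
    (hy : EssIm i y) :
    ∃ (z' : 𝒵.obj) (e' : i.obj z' ≅ y), 𝒳.p.IsHomLift (𝟙 (𝒳.p.obj y)) e'.hom := by
  obtain ⟨z, ⟨e⟩⟩ := hy
  obtain ⟨z', m, hm⟩ := h𝒵.exists_lift (x := z) (𝒳.p.map e.inv ≫ eqToHom (i.w_obj z))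
  have h2 : 𝒵.p.IsHomLift (𝒳.p.map e.inv) m :=
    (IsHomLift.lift_comp_eqToHom_iff 𝒵.p (𝒳.p.map e.inv) m (i.w_obj z)).1 hm
  have h3 : 𝒳.p.IsHomLift (𝒳.p.map e.inv) (i.map m) := inferInstance
  have h4 : 𝒳.p.IsHomLift (𝒳.p.map e.inv) e.inv := inferInstance
  have c1 : 𝒳.p.IsStronglyCartesian (𝒳.p.map e.inv) (i.map m) := scart_of_isFibGrpd 𝒳.p h𝒳 _ _
  have c2 : 𝒳.p.IsStronglyCartesian (𝒳.p.map e.inv) e.inv := scart_of_isFibGrpd 𝒳.p h𝒳 _ _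
  exact ⟨z', Functor.IsCartesian.domainUniqueUpToIso 𝒳.p (𝒳.p.map e.inv) e.inv (i.map m),
    inferInstance⟩

theorem isEquivOver_corestr (h𝒵 : FibCat.IsFibGrpd 𝒵.p) (h𝒳 : FibCat.IsFibGrpd 𝒳.p)
    [i.toFunctor.Full] [i.toFunctor.Faithful] : FibCat.IsEquivOver (corestr i) := by
  have : (corestr i).toFunctor.Full :=
    inferInstanceAs (ObjectProperty.lift (EssIm i) i.toFunctor _).Full
  have : (corestr i).toFunctor.Faithful :=
    inferInstanceAs (ObjectProperty.lift (EssIm i) i.toFunctor _).Faithful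
  refine isEquivOver_of_liftData
    ⟨fun η => (exists_iso_over_id i h𝒵 h𝒳 η.property).choose,
      fun η => ObjectProperty.isoMk (X := (corestr i).obj
        (exists_iso_over_id i h𝒵 h𝒳 η.property).choose) (Y := η) _
          (exists_iso_over_id i h𝒵 h𝒳 η.property).choose_spec.choose,
      fun η => ?_⟩
  have h := (exists_iso_over_id i h𝒵 h𝒳 η.property).choose_spec.choose_spec
  exact IsHomLift.of_fac (AlgSt.fullSub 𝒳 (EssIm i)).p _ _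
    (IsHomLift.domain_eq 𝒳.p (𝟙 (𝒳.p.obj η.obj))
      (exists_iso_over_id i h𝒵 h𝒳 η.property).choose_spec.choose.hom)
    (IsHomLift.codomain_eq 𝒳.p (𝟙 (𝒳.p.obj η.obj))
      (exists_iso_over_id i h𝒵 h𝒳 η.property).choose_spec.choose.hom)
    (IsHomLift.fac 𝒳.p (𝟙 (𝒳.p.obj η.obj))
      (exists_iso_over_id i h𝒵 h𝒳 η.property).choose_spec.choose.hom)

/-- uniqueness of the strictly full subcategory equivalent to the source -/
theorem eq_essIm (Q' : 𝒳.obj → Prop) [ObjectProperty.IsClosedUnderIsomorphisms Q']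
    (i' : 𝒵 ⥤ᵇ AlgSt.fullSub 𝒳 Q') (hi' : FibCat.IsEquivOver i')
    (e : BasedFunctor.comp i' (AlgSt.subIncl 𝒳 Q') ≅ i) : Q' = EssIm i := by
  funext y
  apply propext
  constructor
  · intro hy
    obtain ⟨G, -, ⟨β⟩⟩ := hi'
    let η : (AlgSt.fullSub 𝒳 Q').obj := ⟨y, hy⟩
    have e1 : i'.obj (G.obj η) ≅ η := appIso β η
    have e2 : (i'.obj (G.obj η)).obj ≅ y := (ObjectProperty.ι Q').mapIso e1
    have e3 : (i'.obj (G.obj η)).obj ≅ i.obj (G.obj η) := appIso e (G.obj η)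
    exact ⟨G.obj η, ⟨e3.symm ≪≫ e2⟩⟩
  · rintro ⟨z, ⟨e'⟩⟩
    have e3 : (i'.obj z).obj ≅ i.obj z := appIso e z
    exact ObjectProperty.prop_of_iso Q' (e3 ≪≫ e') (i'.obj z).property

end Gen

section S12878
variable {𝒵 𝒳 : AlgSt.Cat S} (h𝒵 : AlgSt.IsAlgStack Scheme.fppfPrecoverage 𝒵)
  (h𝒳 : AlgSt.IsAlgStack Scheme.fppfPrecoverage 𝒳) (i : 𝒵 ⥤ᵇ 𝒳)

theorem isMono_of_isImm (hi : AlgSt.IsImm i) : AlgSt.IsMono i :=
  repByAlgSpWith_mono (fun _ _ _ h => mono_of_repWith_mono (repWith_mono immersion_le_mono h)) i hi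

include h𝒵 h𝒳 in
theorem substack_of_isMono (hi : AlgSt.IsMono i) :
    FibCat.IsEquivOver (corestr i) ∧
      AlgSt.IsAlgStack Scheme.fppfPrecoverage (AlgSt.fullSub 𝒳 (EssIm i)) ∧
      ∀ P : MorphismProperty (AlgSp.Sp S), AlgSt.RepByAlgSpWith P i →
        AlgSt.RepByAlgSpWith P (AlgSt.subIncl 𝒳 (EssIm i)) := by
  obtain ⟨_, _⟩ := full_faithful_of_isMono h𝒵.isStack.1 h𝒳.isStack.1 i hi
  have he := isEquivOver_corestr i h𝒵.isStack.1 h𝒳.isStack.1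
  refine ⟨he, (isAlgStack_iff_of_isEquivOver _ (corestr i) he).1 h𝒵, fun P hP => ?_⟩
  exact (repByAlgSpWith_equiv_comp P (corestr i) (AlgSt.subIncl 𝒳 (EssIm i)) he).1 hP

include h𝒵 h𝒳 in
/-- S12878 -/
theorem exists_unique_substack (hi : AlgSt.IsImm i) :
    ∃ Q : 𝒳.obj → Prop,
      (AlgSt.IsLocClosedSubstack 𝒳 Q Scheme.fppfPrecoverage ∧
        (∃ i' : 𝒵 ⥤ᵇ AlgSt.fullSub 𝒳 Q, FibCat.IsEquivOver i' ∧
          Nonempty (BasedFunctor.comp i' (AlgSt.subIncl 𝒳 Q) ≅ i)) ∧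
        (AlgSt.IsClosedImm i → AlgSt.IsClosedSubstack 𝒳 Q Scheme.fppfPrecoverage) ∧
        (AlgSt.IsOpenImm i → AlgSt.IsOpenSubstack 𝒳 Q Scheme.fppfPrecoverage)) ∧
      ∀ Q' : 𝒳.obj → Prop, AlgSt.IsLocClosedSubstack 𝒳 Q' Scheme.fppfPrecoverage →
        (∃ i' : 𝒵 ⥤ᵇ AlgSt.fullSub 𝒳 Q', FibCat.IsEquivOver i' ∧
          Nonempty (BasedFunctor.comp i' (AlgSt.subIncl 𝒳 Q') ≅ i)) → Q' = Q := by
  obtain ⟨he, halg, hP⟩ := substack_of_isMono h𝒵 h𝒳 i (isMono_of_isImm i hi)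
  refine ⟨EssIm i, ⟨⟨essIm_closed i, halg, hP _ hi⟩, ⟨corestr i, he, ⟨corestrIso i⟩⟩,
    fun hc => ⟨essIm_closed i, halg, hP _ hc⟩, fun ho => ⟨essIm_closed i, halg, hP _ ho⟩⟩, ?_⟩
  rintro Q' ⟨hQ', -, -⟩ ⟨i', hi', ⟨e⟩⟩
  exact eq_essIm i Q' i' hi' e

end S12878

end Groth.Agent.Lib.Helper24.AlgStSubImm
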