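import Groth.Prelude.Def_FibCat2
import Groth.Prelude.Def_W4stkcategoriessitesFib
import Groth.Agent.Lib.Helper24.FibGrpd
set_option autoImplicit false
open CategoryTheory
universe u v u₂ v₂ u₃ v₃

namespace Groth.Agent.Lib.Helper24.FibGrpdFunctor
open Groth.Agent.Lib.Helper24.FibGrpd

variable {C : Type u} [Category.{v} C]
variable {𝒳 : BasedCategory.{v₂, u₂} C} {𝒴 : BasedCategory.{v₃, u₃} C} (G : 𝒳 ⥤ᵇ 𝒴)

lemma isStronglyCartesian_of_isFibGrpd {𝒵 : Type*} [Category 𝒵] (p : 𝒵 ⥤ C) (h : FibCat.IsFibGrpd p)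
    {R S : C} (f : R ⟶ S) {a b : 𝒵} (φ : a ⟶ b) [p.IsHomLift f φ] : p.IsStronglyCartesian f φ := by
  rw [isStronglyCartesian_iff_map]
  exact h.isStronglyCartesian φ

lemma fiberFunctor_faithful_of_faithful [G.toFunctor.Faithful] (U : C) :
    (FibCat.fiberFunctor G U).Faithful := by
  constructor
  intro x y φ ψ h
  apply Functor.Fiber.hom_ext
  apply G.toFunctor.map_injective
  exact congrArg (fun t => t.1) h

lemma faithful_of_fiberFunctor_faithful (h𝒳 : FibCat.IsFibGrpd 𝒳.p) (h𝒴 : FibCat.IsFibGrpd 𝒴.p)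
    (h : ∀ U : C, (FibCat.fiberFunctor G U).Faithful) : G.toFunctor.Faithful := by
  constructor
  intro x y φ ψ hφψ
  -- ψ is strongly cartesian over its image
  have hψ : 𝒳.p.IsStronglyCartesian (𝒳.p.map ψ) ψ := h𝒳.isStronglyCartesian ψ
  have hφl : 𝒳.p.IsHomLift (𝒳.p.map ψ) φ := by
    rw [← BasedFunctor.isHomLift_iff G, hφψ]; infer_instance
  have hφl' : 𝒳.p.IsHomLift (𝟙 (𝒳.p.obj x) ≫ 𝒳.p.map ψ) φ := by
    rw [Category.id_comp]; exact hφl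
  obtain ⟨χ, ⟨hχ1, hχ2⟩, _⟩ :=
    Functor.IsStronglyCartesian.universal_property 𝒳.p (𝒳.p.map ψ) ψ (𝟙 (𝒳.p.obj x)) (𝒳.p.map ψ)
      (Category.id_comp _).symm φ
  -- G χ = 𝟙
  have hGψ : 𝒴.p.IsStronglyCartesian (𝒳.p.map ψ) (G.toFunctor.map ψ) :=
    isStronglyCartesian_of_isFibGrpd 𝒴.p h𝒴 _ _
  have hGχ : G.toFunctor.map χ = 𝟙 _ := by
    have h1 : 𝒴.p.IsHomLift (𝟙 (𝒳.p.obj x)) (G.toFunctor.map χ) := inferInstance
    have h2 : 𝒴.p.IsHomLift (𝟙 (𝒳.p.obj x)) (𝟙 (G.toFunctor.obj x)) :=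
      IsHomLift.id (G.w_obj x)
    apply Functor.IsStronglyCartesian.ext 𝒴.p (𝒳.p.map ψ) (G.toFunctor.map ψ) (𝟙 (𝒳.p.obj x))
    rw [← Functor.map_comp, hχ2, hφψ, Category.id_comp]
  -- faithfulness on the fibre
  have := h (𝒳.p.obj x)
  let χ' : (Functor.Fiber.mk (p := 𝒳.p) (S := 𝒳.p.obj x) (a := x) rfl) ⟶
      (Functor.Fiber.mk (p := 𝒳.p) (S := 𝒳.p.obj x) (a := x) rfl) := ⟨χ, hχ1⟩
  have hχ' : χ' = 𝟙 _ := by
    apply (FibCat.fiberFunctor G (𝒳.p.obj x)).map_injective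
    rw [Functor.map_id]
    apply Functor.Fiber.hom_ext
    exact hGχ
  have hχ : χ = 𝟙 x := congrArg (fun t => t.1) hχ'
  rw [← hχ2, hχ, Category.id_comp]

lemma fiberFunctor_full_of_full [G.toFunctor.Full] (U : C) : (FibCat.fiberFunctor G U).Full := by
  constructor
  intro x y ψ
  obtain ⟨ψ₁, hψ₁⟩ : ∃ ψ₁ : G.toFunctor.obj (Functor.Fiber.fiberInclusion.obj x) ⟶
      G.toFunctor.obj (Functor.Fiber.fiberInclusion.obj y),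
      ψ₁ = Functor.Fiber.fiberInclusion.map ψ := ⟨_, rfl⟩
  have hψ : 𝒴.p.IsHomLift (𝟙 U) ψ₁ := by rw [hψ₁]; exact ψ.2
  have hl : 𝒳.p.IsHomLift (𝟙 U) (G.toFunctor.preimage ψ₁) := by
    rw [← BasedFunctor.isHomLift_iff G, Functor.map_preimage]; exact hψ
  refine ⟨(⟨G.toFunctor.preimage ψ₁, hl⟩ : x ⟶ y), ?_⟩
  apply Functor.Fiber.hom_ext
  exact (G.toFunctor.map_preimage ψ₁).trans hψ₁

lemma full_of_fiberFunctor_full (h𝒳 : FibCat.IsFibGrpd 𝒳.p) (h𝒴 : FibCat.IsFibGrpd 𝒴.p)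
    (h : ∀ U : C, (FibCat.fiberFunctor G U).Full) : G.toFunctor.Full := by
  constructor
  intro x y ψ
  have hx : 𝒴.p.obj (G.toFunctor.obj x) = 𝒳.p.obj x := G.w_obj x
  have hy : 𝒴.p.obj (G.toFunctor.obj y) = 𝒳.p.obj y := G.w_obj y
  set f : 𝒳.p.obj x ⟶ 𝒳.p.obj y := eqToHom hx.symm ≫ 𝒴.p.map ψ ≫ eqToHom hy with hf
  have hψl : 𝒴.p.IsHomLift f ψ := IsHomLift.of_fac 𝒴.p f ψ hx hy hf
  obtain ⟨x', φ₀, hφ₀⟩ := h𝒳.exists_lift f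
  have hGφ₀ : 𝒴.p.IsStronglyCartesian f (G.toFunctor.map φ₀) :=
    isStronglyCartesian_of_isFibGrpd 𝒴.p h𝒴 _ _
  obtain ⟨χ, ⟨hχ1, hχ2⟩, _⟩ :=
    Functor.IsStronglyCartesian.universal_property 𝒴.p f (G.toFunctor.map φ₀) (𝟙 (𝒳.p.obj x)) f
      (Category.id_comp _).symm ψ
  have hx' : 𝒳.p.obj x' = 𝒳.p.obj x := IsHomLift.domain_eq 𝒳.p f φ₀
  let X : 𝒳.p.Fiber (𝒳.p.obj x) := Functor.Fiber.mk (p := 𝒳.p) (a := x) rfl
  let X' : 𝒳.p.Fiber (𝒳.p.obj x) := Functor.Fiber.mk hx'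
  let χ' : (FibCat.fiberFunctor G _).obj X ⟶ (FibCat.fiberFunctor G _).obj X' := ⟨χ, hχ1⟩
  obtain ⟨χ₀, hχ₀⟩ := (h (𝒳.p.obj x)).map_surjective χ'
  obtain ⟨χ₁, hχ₁⟩ : ∃ χ₁ : x ⟶ x', χ₁ = Functor.Fiber.fiberInclusion.map χ₀ := ⟨_, rfl⟩
  refine ⟨χ₁ ≫ φ₀, ?_⟩
  rw [Functor.map_comp, ← hχ2]
  congr 1
  rw [hχ₁]
  exact congrArg (fun t => Functor.Fiber.fiberInclusion.map t) hχ₀

lemma fiberFunctor_essSurj_of_essSurj (h𝒳 : FibCat.IsFibGrpd 𝒳.p) [G.toFunctor.EssSurj] (U : C) :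
    (FibCat.fiberFunctor G U).EssSurj := by
  constructor
  intro η
  obtain ⟨η₁, hη₁⟩ : ∃ η₁ : 𝒴.obj, η₁ = Functor.Fiber.fiberInclusion.obj η := ⟨_, rfl⟩
  have hη : 𝒴.p.obj η₁ = U := by rw [hη₁]; exact η.2
  obtain ⟨x, ⟨e⟩⟩ : ∃ x, Nonempty (G.toFunctor.obj x ≅ η₁) :=
    ⟨_, ⟨G.toFunctor.objObjPreimageIso η₁⟩⟩
  have hx : 𝒴.p.obj (G.toFunctor.obj x) = 𝒳.p.obj x := G.w_obj x
  set g : 𝒳.p.obj x ⟶ U := eqToHom hx.symm ≫ 𝒴.p.map e.hom ≫ eqToHom hη with hg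
  have hel : 𝒴.p.IsHomLift g e.hom := IsHomLift.of_fac 𝒴.p g e.hom hx hη hg
  have hgiso : IsIso g := IsHomLift.isIso_of_lift_isIso 𝒴.p g e.hom
  obtain ⟨x', φ, hφ⟩ := h𝒳.exists_lift (inv g)
  have hφiso : IsIso φ := isIso_of_isFibGrpd 𝒳.p h𝒳 (inv g) φ
  have hx' : 𝒳.p.obj x' = U := IsHomLift.domain_eq 𝒳.p (inv g) φ
  have hcomp : 𝒴.p.IsHomLift (inv g ≫ g) (G.toFunctor.map φ ≫ e.hom) := inferInstance
  rw [IsIso.inv_hom_id] at hcomp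
  let ε : G.toFunctor.obj x' ≅ η₁ := (asIso (G.toFunctor.map φ)) ≪≫ e
  have hε : 𝒴.p.IsHomLift (𝟙 U) ε.hom := hcomp
  have hεinv : 𝒴.p.IsHomLift (𝟙 U) ε.inv := inferInstance
  subst hη₁
  refine ⟨Functor.Fiber.mk hx', ⟨⟨⟨ε.hom, hε⟩, ⟨ε.inv, hεinv⟩, ?_, ?_⟩⟩⟩
  · apply Functor.Fiber.hom_ext; exact ε.hom_inv_id
  · apply Functor.Fiber.hom_ext; exact ε.inv_hom_id

lemma essSurj_of_fiberFunctor_essSurj (h : ∀ U : C, (FibCat.fiberFunctor G U).EssSurj) :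
    G.toFunctor.EssSurj := by
  constructor
  intro η
  let H : 𝒴.p.Fiber (𝒴.p.obj η) := Functor.Fiber.mk (p := 𝒴.p) (a := η) rfl
  obtain ⟨X, ⟨e⟩⟩ : ∃ X, Nonempty ((FibCat.fiberFunctor G _).obj X ≅ H) :=
    ⟨_, ⟨(FibCat.fiberFunctor G _).objObjPreimageIso H⟩⟩
  exact ⟨Functor.Fiber.fiberInclusion.obj X, ⟨Functor.Fiber.fiberInclusion.mapIso e⟩⟩

theorem faithful_iff (h𝒳 : FibCat.IsFibGrpd 𝒳.p) (h𝒴 : FibCat.IsFibGrpd 𝒴.p) :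
    G.toFunctor.Faithful ↔ ∀ U : C, (FibCat.fiberFunctor G U).Faithful :=
  ⟨fun _ U => fiberFunctor_faithful_of_faithful G U, faithful_of_fiberFunctor_faithful G h𝒳 h𝒴⟩

theorem fullyFaithful_iff (h𝒳 : FibCat.IsFibGrpd 𝒳.p) (h𝒴 : FibCat.IsFibGrpd 𝒴.p) :
    (G.toFunctor.Full ∧ G.toFunctor.Faithful) ↔
      ∀ U : C, (FibCat.fiberFunctor G U).Full ∧ (FibCat.fiberFunctor G U).Faithful := by
  constructor
  · rintro ⟨h1, h2⟩ U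
    exact ⟨fiberFunctor_full_of_full G U, fiberFunctor_faithful_of_faithful G U⟩
  · intro h
    exact ⟨full_of_fiberFunctor_full G h𝒳 h𝒴 (fun U => (h U).1),
      faithful_of_fiberFunctor_faithful G h𝒳 h𝒴 (fun U => (h U).2)⟩

theorem isEquivalence_iff (h𝒳 : FibCat.IsFibGrpd 𝒳.p) (h𝒴 : FibCat.IsFibGrpd 𝒴.p) :
    G.toFunctor.IsEquivalence ↔ ∀ U : C, (FibCat.fiberFunctor G U).IsEquivalence := by
  constructor
  · intro h U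
    have := fiberFunctor_full_of_full G U
    have := fiberFunctor_faithful_of_faithful G U
    have := fiberFunctor_essSurj_of_essSurj G h𝒳 U
    exact { }
  · intro h
    have := full_of_fiberFunctor_full G h𝒳 h𝒴 (fun U => inferInstance)
    have := faithful_of_fiberFunctor_faithful G h𝒳 h𝒴 (fun U => inferInstance)
    have := essSurj_of_fiberFunctor_essSurj G (fun U => inferInstance)
    exact { }

end Groth.Agent.Lib.Helper24.FibGrpdFunctor
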