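import Groth.Prelude.Def_StGerb2
import Groth.Agent.Lib.Helper24.FibCatYoneda
import Groth.Agent.Lib.Helper24.StkLocal
import Groth.Agent.Lib.Helper24.GerbFormal
import Groth.Agent.Lib.Helper24.FibGrpdFunctor
set_option autoImplicit false
set_option linter.unusedSectionVars false
set_option linter.style.haveILetI false
open CategoryTheory
universe v₃ u₃ v₂ u₂ v u
set_option backward.isDefEq.respectTransparency false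
set_option backward.isDefEq.respectTransparency.types false

/-! # Gluing a natural isomorphism `φ ≅ id` on a gerbe with a global object -/

noncomputable section

namespace Groth.Agent.Lib.Helper24.GerbGlue
open Groth.Agent.Lib.Helper24.FibGrpd Groth.Agent.Lib.Helper24.FibGrpdFunctor
open Groth.Agent.Lib.Helper24.FibCatYoneda Groth.Agent.Lib.Helper24.FibCatRepDiag

variable {C : Type u} [Category.{v} C] {𝒳 : BasedCategory.{v₂, u₂} C}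

section Tool
variable (h𝒳 : FibCat.IsFibGrpd 𝒳.p)

include h𝒳 in
/-- unique factorization through an arbitrary arrow of a category fibred in groupoids -/
lemma exists_unique_factor {w y s : 𝒳.obj} (a : w ⟶ y) (b : s ⟶ y) {R S T : C} (f : S ⟶ T)
    (g : R ⟶ S) (f' : R ⟶ T) (hf' : f' = g ≫ f)
    (ha : 𝒳.p.IsHomLift f a) (hb : 𝒳.p.IsHomLift f' b) :
    ∃! ι : s ⟶ w, 𝒳.p.IsHomLift g ι ∧ ι ≫ a = b := by
  have := isStronglyCartesian_of_isFibGrpd 𝒳.p h𝒳 f a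
  exact Functor.IsStronglyCartesian.universal_property 𝒳.p f a g f' hf' b

include h𝒳 in
lemma cancel_right {w y s : 𝒳.obj} (a : w ⟶ y) {R S T : C} (f : S ⟶ T) (g : R ⟶ S)
    (ha : 𝒳.p.IsHomLift f a) (u v : s ⟶ w) (hu : 𝒳.p.IsHomLift g u) (hv : 𝒳.p.IsHomLift g v)
    (h : u ≫ a = v ≫ a) : u = v := by
  have := isStronglyCartesian_of_isFibGrpd 𝒳.p h𝒳 f a
  exact Functor.IsStronglyCartesian.ext 𝒳.p f a g h

lemma lift_id_of_eq {a b : 𝒳.obj} (χ : a ⟶ b) {R R' : C} (h : R = R')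
    (hχ : 𝒳.p.IsHomLift (𝟙 R) χ) : 𝒳.p.IsHomLift (𝟙 R') χ := by
  subst h; exact hχ

/-- an endomorphism over the identity, as an element of the automorphism group -/
def autOfHom {w : 𝒳.obj} (α : w ⟶ w) (hα : 𝒳.p.IsHomLift (𝟙 (𝒳.p.obj w)) α) : Gerb.AutO w :=
  haveI : IsIso α := isIso_of_isFibGrpd 𝒳.p h𝒳 (𝟙 (𝒳.p.obj w)) α
  { hom := ⟨α, hα⟩
    inv := ⟨inv α, inferInstance⟩
    hom_inv_id := by apply Functor.Fiber.hom_ext; exact IsIso.hom_inv_id α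
    inv_hom_id := by apply Functor.Fiber.hom_ext; exact IsIso.inv_hom_id α }

lemma autOfHom_hom {w : 𝒳.obj} (α : w ⟶ w) (hα : 𝒳.p.IsHomLift (𝟙 (𝒳.p.obj w)) α) :
    (autOfHom h𝒳 α hα).hom.1 = α := rfl

end Tool

section Core
variable (h𝒳 : FibCat.IsFibGrpd 𝒳.p) (φ : 𝒳 ⥤ᵇ 𝒳) {x : 𝒳.obj} (g : φ.obj x ⟶ x)
  (hg : 𝒳.p.IsHomLift (𝟙 (𝒳.p.obj x)) g)

include h𝒳 hg in
lemma exists_r {w : 𝒳.obj} (θ : w ⟶ x) :
    ∃! r : φ.obj w ⟶ w, 𝒳.p.IsHomLift (𝟙 (𝒳.p.obj w)) r ∧ r ≫ θ = φ.map θ ≫ g := by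
  have h1 : 𝒳.p.IsHomLift (𝒳.p.map θ) θ := IsHomLift.map 𝒳.p θ
  have h2 : 𝒳.p.IsHomLift (𝒳.p.map θ) (φ.map θ) := map_lift φ _ _ h1
  have h3 : 𝒳.p.IsHomLift (𝒳.p.map θ) (φ.map θ ≫ g) :=
    IsHomLift.comp_lift_id_right' (p := 𝒳.p) (𝒳.p.map θ) (φ.map θ) (𝒳.p.obj x) g
  exact exists_unique_factor h𝒳 θ (φ.map θ ≫ g) (𝒳.p.map θ) (𝟙 _) (𝒳.p.map θ)
    (Category.id_comp _).symm h1 h3

/-- the local isomorphism `φ w ⟶ w` attached to `θ : w ⟶ x` -/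
def r {w : 𝒳.obj} (θ : w ⟶ x) : φ.obj w ⟶ w := (exists_r h𝒳 φ g hg θ).choose

lemma r_lift {w : 𝒳.obj} (θ : w ⟶ x) : 𝒳.p.IsHomLift (𝟙 (𝒳.p.obj w)) (r h𝒳 φ g hg θ) :=
  (exists_r h𝒳 φ g hg θ).choose_spec.1.1

lemma r_fac {w : 𝒳.obj} (θ : w ⟶ x) : r h𝒳 φ g hg θ ≫ θ = φ.map θ ≫ g :=
  (exists_r h𝒳 φ g hg θ).choose_spec.1.2

lemma r_uniq {w : 𝒳.obj} (θ : w ⟶ x) (r' : φ.obj w ⟶ w)
    (h1 : 𝒳.p.IsHomLift (𝟙 (𝒳.p.obj w)) r') (h2 : r' ≫ θ = φ.map θ ≫ g) :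
    r' = r h𝒳 φ g hg θ :=
  (exists_r h𝒳 φ g hg θ).choose_spec.2 r' ⟨h1, h2⟩

variable (hconj : ∀ (x' : 𝒳.obj) (c : x' ⟶ x) (g' : φ.obj x' ⟶ x'),
  𝒳.p.IsHomLift (𝟙 (𝒳.p.obj x')) g' → φ.map c ≫ g = g' ≫ c →
    ∀ α : Gerb.AutO x', φ.map α.hom.1 ≫ g' = g' ≫ α.hom.1)

include hconj in
lemma r_indep {w : 𝒳.obj} (θ θ' : w ⟶ x) (hθ : 𝒳.p.map θ = 𝒳.p.map θ') :
    r h𝒳 φ g hg θ = r h𝒳 φ g hg θ' := by
  have h1 : 𝒳.p.IsHomLift (𝒳.p.map θ) θ := IsHomLift.map 𝒳.p θ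
  have h1' : 𝒳.p.IsHomLift (𝒳.p.map θ') θ' := IsHomLift.map 𝒳.p θ'
  obtain ⟨α, ⟨hα1, hα2⟩, -⟩ := exists_unique_factor h𝒳 θ θ' (𝒳.p.map θ) (𝟙 _) (𝒳.p.map θ')
    (by rw [Category.id_comp, hθ]) h1 h1'
  have hc := hconj w θ (r h𝒳 φ g hg θ) (r_lift h𝒳 φ g hg θ) (r_fac h𝒳 φ g hg θ).symm
    (autOfHom h𝒳 α hα1)
  rw [autOfHom_hom] at hc
  apply r_uniq h𝒳 φ g hg θ' _ (r_lift h𝒳 φ g hg θ)
  rw [← hα2, ← Category.assoc, ← hc, Category.assoc, r_fac, ← Category.assoc, ← φ.map_comp]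

lemma r_nat {w' w : 𝒳.obj} (m : w' ⟶ w) (θ : w ⟶ x) :
    φ.map m ≫ r h𝒳 φ g hg θ = r h𝒳 φ g hg (m ≫ θ) ≫ m := by
  have h1 : 𝒳.p.IsHomLift (𝒳.p.map θ) θ := IsHomLift.map 𝒳.p θ
  have hm : 𝒳.p.IsHomLift (𝒳.p.map m) m := IsHomLift.map 𝒳.p m
  have hm' : 𝒳.p.IsHomLift (𝒳.p.map m) (φ.map m) := map_lift φ _ _ hm
  have hr := r_lift h𝒳 φ g hg θ
  have hr' := r_lift h𝒳 φ g hg (m ≫ θ)
  have k1 : 𝒳.p.IsHomLift (𝒳.p.map m) (φ.map m ≫ r h𝒳 φ g hg θ) :=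
    IsHomLift.comp_lift_id_right' (p := 𝒳.p) (𝒳.p.map m) (φ.map m) (𝒳.p.obj w) _
  have k2 : 𝒳.p.IsHomLift (𝒳.p.map m) (r h𝒳 φ g hg (m ≫ θ) ≫ m) :=
    IsHomLift.comp_lift_id_left' (p := 𝒳.p) (𝒳.p.obj w') _ (𝒳.p.map m) m
  apply cancel_right h𝒳 θ (𝒳.p.map θ) (𝒳.p.map m) h1 _ _ k1 k2
  rw [Category.assoc, r_fac, Category.assoc, r_fac, φ.map_comp, Category.assoc]

end Core

section Sieve
variable (J : GrothendieckTopology C) (h𝒳 : FibCat.IsFibGrpd 𝒳.p)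

/-- the sieve of those `V ⟶ p y` over which `y` has a pullback admitting a morphism to `x` -/
def locSieve (x y : 𝒳.obj) : Sieve (𝒳.p.obj y) where
  arrows V f := ∃ (w : 𝒳.obj) (a : w ⟶ y), 𝒳.p.IsHomLift f a ∧ Nonempty (w ⟶ x)
  downward_closed := by
    rintro V V' f ⟨w, a, ha, ⟨θ⟩⟩ h
    obtain ⟨w', m, hm⟩ := Groth.Agent.Lib.Helper24.GerbFormal.exists_lift' h𝒳 h w
      (IsHomLift.domain_eq 𝒳.p f a)
    exact ⟨w', m ≫ a, inferInstance, ⟨m ≫ θ⟩⟩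

lemma isHomLift_id_eqToHom' {a b : C} (h : a = b) : (𝟭 C).IsHomLift (𝟙 a) (eqToHom h) := by
  subst h
  simp only [eqToHom_refl]
  exact IsHomLift.id (p := 𝟭 C) rfl

lemma locSieve_mem (hG : Gerb.IsGerbeOver J (FibCat.toSelf 𝒳)) {x : 𝒳.obj}
    (hne : ∀ V : C, Nonempty (V ⟶ 𝒳.p.obj x)) (y : 𝒳.obj) :
    locSieve h𝒳 x y ∈ J (𝒳.p.obj y) := by
  obtain ⟨k⟩ := hne (𝒳.p.obj y)
  obtain ⟨xU, c, hc⟩ := h𝒳.exists_lift (x := x) k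
  have hxU : 𝒳.p.obj xU = 𝒳.p.obj y := IsHomLift.domain_eq 𝒳.p k c
  let b : (FibCat.toSelf 𝒳).toFunctor.obj y ⟶ (FibCat.toSelf 𝒳).toFunctor.obj xU :=
    eqToHom hxU.symm
  have hb : (FibCat.selfOver C).p.IsHomLift (𝟙 (𝒳.p.obj y)) b := isHomLift_id_eqToHom' _
  obtain ⟨R, hR, H⟩ := hG.2 y xU b hb
  refine J.superset_covering ?_ hR
  intro V f hf
  obtain ⟨x₀, φ₀, ψ₀, h1, h2, -⟩ := H f hf
  exact ⟨x₀, φ₀, h1, ⟨ψ₀ ≫ c⟩⟩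

end Sieve

section Glue
variable (h𝒳 : FibCat.IsFibGrpd 𝒳.p) (φ : 𝒳 ⥤ᵇ 𝒳) {x : 𝒳.obj} (g : φ.obj x ⟶ x)
  (hg : 𝒳.p.IsHomLift (𝟙 (𝒳.p.obj x)) g)
  (hconj : ∀ (x' : 𝒳.obj) (c : x' ⟶ x) (g' : φ.obj x' ⟶ x'),
    𝒳.p.IsHomLift (𝟙 (𝒳.p.obj x')) g' → φ.map c ≫ g = g' ≫ c →
      ∀ α : Gerb.AutO x', φ.map α.hom.1 ≫ g' = g' ≫ α.hom.1)
  (hsub : ∀ (V : C) (f f' : V ⟶ 𝒳.p.obj x), f = f')

/-- the local isomorphism `φ w ⟶ w` for an object admitting a morphism to `x` -/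
def rr (w : 𝒳.obj) (hw : Nonempty (w ⟶ x)) : φ.obj w ⟶ w := r h𝒳 φ g hg (Classical.choice hw)

include hconj hsub in
lemma rr_eq (w : 𝒳.obj) (hw : Nonempty (w ⟶ x)) (θ : w ⟶ x) :
    rr h𝒳 φ g hg w hw = r h𝒳 φ g hg θ :=
  r_indep h𝒳 φ g hg hconj _ _ (hsub _ _ _)

lemma rr_lift (w : 𝒳.obj) (hw : Nonempty (w ⟶ x)) :
    𝒳.p.IsHomLift (𝟙 (𝒳.p.obj w)) (rr h𝒳 φ g hg w hw) := r_lift h𝒳 φ g hg _

include hconj hsub in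
lemma rr_nat {w' w : 𝒳.obj} (m : w' ⟶ w) (hw : Nonempty (w ⟶ x)) (hw' : Nonempty (w' ⟶ x)) :
    φ.map m ≫ rr h𝒳 φ g hg w hw = rr h𝒳 φ g hg w' hw' ≫ m := by
  obtain ⟨θ⟩ := hw
  rw [rr_eq h𝒳 φ g hg hconj hsub w ⟨θ⟩ θ, rr_eq h𝒳 φ g hg hconj hsub w' hw' (m ≫ θ)]
  exact r_nat h𝒳 φ g hg m θ

variable [𝒳.p.IsFibered] (y : 𝒳.obj)

/-- the functor of chosen pullbacks of `y` -/
abbrev Gy : FibCat.overCat (𝒳.p.obj y) ⥤ᵇ 𝒳 := pbBased (x := y) rfl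

lemma pb_toX (c : (Stk.sieveCat (locSieve h𝒳 x y)).obj) :
    Nonempty (pbObj (x := y) rfl c.obj ⟶ x) := by
  obtain ⟨w, a, ha, ⟨θ⟩⟩ := c.property
  have hp : 𝒳.p.IsHomLift c.obj.hom (pbMap (x := y) rfl c.obj) := inferInstance
  obtain ⟨ι, -, -⟩ := exists_unique_factor h𝒳 a (pbMap (x := y) rfl c.obj) c.obj.hom (𝟙 _)
    c.obj.hom (Category.id_comp _).symm ha hp
  exact ⟨ι ≫ θ⟩

/-- the family of local isomorphisms on the covering sieve -/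
def βy : (Stk.resSieve (locSieve h𝒳 x y) 𝒳).obj (BasedFunctor.comp (Gy y) φ) ⟶
    (Stk.resSieve (locSieve h𝒳 x y) 𝒳).obj (Gy y) where
  toNatTrans :=
    { app := fun c => rr h𝒳 φ g hg (pbObj (x := y) rfl c.obj) (pb_toX h𝒳 y c)
      naturality := fun c c' m =>
        rr_nat h𝒳 φ g hg hconj hsub (pbTrans (x := y) rfl m.hom) (pb_toX h𝒳 y c') (pb_toX h𝒳 y c) }
  isHomLift' := fun c => lift_id_of_eq _ (pbObj_proj (x := y) rfl c.obj) (rr_lift h𝒳 φ g hg _ _)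

variable (hfull : (Stk.resSieve (locSieve h𝒳 x y) 𝒳).Full)

/-- the glued natural transformation -/
def αy : BasedFunctor.comp (Gy y) φ ⟶ Gy y :=
  haveI := hfull
  (Stk.resSieve (locSieve h𝒳 x y) 𝒳).preimage (βy h𝒳 φ g hg hconj hsub y)

lemma αy_app (c : (Stk.sieveCat (locSieve h𝒳 x y)).obj) :
    (αy h𝒳 φ g hg hconj hsub y hfull).toNatTrans.app c.obj =
      rr h𝒳 φ g hg (pbObj (x := y) rfl c.obj) (pb_toX h𝒳 y c) := by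
  haveI := hfull
  have := congrArg (fun t => t.toNatTrans.app c)
    ((Stk.resSieve (locSieve h𝒳 x y) 𝒳).map_preimage (βy h𝒳 φ g hg hconj hsub y))
  exact this

/-- the glued isomorphism `φ y ⟶ y` -/
def ρy : φ.obj y ⟶ y :=
  haveI := pbMap_id_isIso (x := y) rfl
  inv (φ.map (pbMap (x := y) rfl (Over.mk (𝟙 _)))) ≫
    (αy h𝒳 φ g hg hconj hsub y hfull).toNatTrans.app (Over.mk (𝟙 _)) ≫
      pbMap (x := y) rfl (Over.mk (𝟙 _))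

lemma ρy_lift : 𝒳.p.IsHomLift (𝟙 (𝒳.p.obj y)) (ρy h𝒳 φ g hg hconj hsub y hfull) := by
  haveI := pbMap_id_isIso (x := y) rfl
  have h1 : 𝒳.p.IsHomLift (𝟙 (𝒳.p.obj y)) (pbMap (x := y) rfl (Over.mk (𝟙 _))) :=
    pbMap_id_lift (x := y) rfl
  have h2 : 𝒳.p.IsHomLift (𝟙 (𝒳.p.obj y)) (φ.map (pbMap (x := y) rfl (Over.mk (𝟙 _)))) :=
    map_lift φ _ _ h1
  have h3 : 𝒳.p.IsHomLift (𝟙 (𝒳.p.obj y)) (inv (φ.map (pbMap (x := y) rfl (Over.mk (𝟙 _))))) :=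
    inferInstance
  have h4 : 𝒳.p.IsHomLift (𝟙 (𝒳.p.obj y))
      ((αy h𝒳 φ g hg hconj hsub y hfull).toNatTrans.app (Over.mk (𝟙 _))) :=
    app_lift (αy h𝒳 φ g hg hconj hsub y hfull) (Over.mk (𝟙 _))
  unfold ρy
  infer_instance

lemma ρy_pb (c : (Stk.sieveCat (locSieve h𝒳 x y)).obj) :
    φ.map (pbMap (x := y) rfl c.obj) ≫ ρy h𝒳 φ g hg hconj hsub y hfull =
      rr h𝒳 φ g hg (pbObj (x := y) rfl c.obj) (pb_toX h𝒳 y c) ≫ pbMap (x := y) rfl c.obj := by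
  haveI := pbMap_id_isIso (x := y) rfl
  have nat := (αy h𝒳 φ g hg hconj hsub y hfull).toNatTrans.naturality (tOf c.obj)
  change φ.map (pbTrans (x := y) rfl (tOf c.obj)) ≫ _ = _ ≫ pbTrans (x := y) rfl (tOf c.obj) at nat
  have fac := pbTrans_fac (x := y) rfl (tOf c.obj)
  unfold ρy
  rw [← fac, φ.map_comp, Category.assoc, IsIso.hom_inv_id_assoc, ← Category.assoc, nat,
    Category.assoc, αy_app]

include hconj hsub in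
lemma ρy_spec {w : 𝒳.obj} (cc : w ⟶ y) (hw : Nonempty (w ⟶ x)) :
    φ.map cc ≫ ρy h𝒳 φ g hg hconj hsub y hfull = rr h𝒳 φ g hg w hw ≫ cc := by
  have hcc : 𝒳.p.IsHomLift (𝒳.p.map cc) cc := IsHomLift.map 𝒳.p cc
  let c : (Stk.sieveCat (locSieve h𝒳 x y)).obj := ⟨Over.mk (𝒳.p.map cc), ⟨w, cc, hcc, hw⟩⟩
  have hp : 𝒳.p.IsHomLift c.obj.hom (pbMap (x := y) rfl c.obj) := inferInstance
  obtain ⟨ι, ⟨hι1, hι2⟩, -⟩ := exists_unique_factor h𝒳 (pbMap (x := y) rfl c.obj) cc c.obj.hom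
    (𝟙 _) c.obj.hom (Category.id_comp _).symm hp hcc
  rw [← hι2, φ.map_comp, Category.assoc, ρy_pb h𝒳 φ g hg hconj hsub y hfull c, ← Category.assoc,
    rr_nat h𝒳 φ g hg hconj hsub ι (pb_toX h𝒳 y c) hw, Category.assoc]

end Glue

section Main
variable (J : GrothendieckTopology C)

theorem exists_rho (hst : Stk.IsStack J 𝒳) (hG : Gerb.IsGerbeOver J (FibCat.toSelf 𝒳))
    (φ : 𝒳 ⥤ᵇ 𝒳) {x : 𝒳.obj} (g : φ.obj x ⟶ x)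
    (hg : 𝒳.p.IsHomLift (𝟙 (𝒳.p.obj x)) g)
    (hconj : ∀ (x' : 𝒳.obj) (c : x' ⟶ x) (g' : φ.obj x' ⟶ x'),
      𝒳.p.IsHomLift (𝟙 (𝒳.p.obj x')) g' → φ.map c ≫ g = g' ≫ c →
        ∀ α : Gerb.AutO x', φ.map α.hom.1 ≫ g' = g' ≫ α.hom.1)
    (hsub : ∀ (V : C) (f f' : V ⟶ 𝒳.p.obj x), f = f')
    (hne : ∀ V : C, Nonempty (V ⟶ 𝒳.p.obj x)) :
    ∃ ρ : ∀ y : 𝒳.obj, φ.obj y ⟶ y,
      (∀ y, IsIso (ρ y) ∧ 𝒳.p.IsHomLift (𝟙 (𝒳.p.obj y)) (ρ y)) ∧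
      (∀ (y y' : 𝒳.obj) (f : y ⟶ y'), 𝒳.p.IsHomLift (𝟙 (𝒳.p.obj y)) f →
        φ.map f ≫ ρ y' = ρ y ≫ f) := by
  have h𝒳 := hst.1
  haveI : 𝒳.p.IsFibered := isFibered_of_isFibGrpd 𝒳.p h𝒳
  have hE : ∀ y : 𝒳.obj, (Stk.resSieve (locSieve h𝒳 x y) 𝒳).IsEquivalence :=
    fun y => hst.2 _ (locSieve_mem J h𝒳 hG hne y)
  have hfull : ∀ y : 𝒳.obj, (Stk.resSieve (locSieve h𝒳 x y) 𝒳).Full := fun y => by
    haveI := hE y; infer_instance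
  have hfaith : ∀ y : 𝒳.obj, (Stk.resSieve (locSieve h𝒳 x y) 𝒳).Faithful := fun y => by
    haveI := hE y; infer_instance
  refine ⟨fun y => ρy h𝒳 φ g hg hconj hsub y (hfull y), fun y => ?_, fun y y' f hf => ?_⟩
  · have hl := ρy_lift h𝒳 φ g hg hconj hsub y (hfull y)
    exact ⟨isIso_of_isFibGrpd 𝒳.p h𝒳 (𝟙 (𝒳.p.obj y)) _, hl⟩
  · have hyy' : 𝒳.p.obj y' = 𝒳.p.obj y := IsHomLift.codomain_eq 𝒳.p (𝟙 (𝒳.p.obj y)) f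
    have hl := ρy_lift h𝒳 φ g hg hconj hsub y (hfull y)
    have hl' := lift_id_of_eq _ hyy' (ρy_lift h𝒳 φ g hg hconj hsub y' (hfull y'))
    have hφf : 𝒳.p.IsHomLift (𝟙 (𝒳.p.obj y)) (φ.map f) := map_lift φ _ _ hf
    have k1 : 𝒳.p.IsHomLift (𝟙 (𝒳.p.obj y)) (φ.map f ≫ ρy h𝒳 φ g hg hconj hsub y' (hfull y')) :=
      inferInstance
    have k2 : 𝒳.p.IsHomLift (𝟙 (𝒳.p.obj y)) (ρy h𝒳 φ g hg hconj hsub y (hfull y) ≫ f) :=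
      inferInstance
    refine Groth.Agent.Lib.Helper24.StkLocal.hom_ext_of_locally_eq h𝒳 (locSieve h𝒳 x y)
      (hfaith y) _ _ k1 k2 ?_
    rintro V f₀ ⟨w, a, ha, hw⟩
    refine ⟨φ.obj w, φ.map a, map_lift φ _ _ ha, ?_⟩
    have e1 := ρy_spec h𝒳 φ g hg hconj hsub y' (hfull y') (a ≫ f) hw
    have e2 := ρy_spec h𝒳 φ g hg hconj hsub y (hfull y) a hw
    rw [φ.map_comp, Category.assoc] at e1
    change φ.map a ≫ φ.map f ≫ ρy h𝒳 φ g hg hconj hsub y' (hfull y') =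
      φ.map a ≫ ρy h𝒳 φ g hg hconj hsub y (hfull y) ≫ f
    rw [e1, ← Category.assoc, ← e2, Category.assoc]

end Main

end Groth.Agent.Lib.Helper24.GerbGlue
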