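import Groth.Agent.Lib.Helper24.AlgStAutInj
import Groth.Agent.Lib.Helper24.FibCatTwoCart
set_option autoImplicit false
open CategoryTheory AlgebraicGeometry Opposite
universe w₁ v₁ w₂ v₂ w₃ v₃ w₄ v₄ u
set_option backward.isDefEq.respectTransparency false
set_option backward.isDefEq.respectTransparency.types false

namespace Groth.Agent.Lib.Helper24.AlgStTrivStab
open Groth.Agent.Lib.Helper24.FibCatFpMap
open Groth.Agent.Lib.Helper24.FibCatEquiv Groth.Agent.Lib.Helper24.FibCatFpGen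
open Groth.Agent.Lib.Helper24.FibCatTwoCart Groth.Agent.Lib.Helper24.FibCatInertiaEquiv
open Groth.Agent.Lib.Helper24.AlgStRep
open CategoryTheory.Limits AlgSt

variable {S : Scheme.{u}}

lemma conj_map {C D : Type*} [Category C] [Category D] (F : C ⥤ D) {a b : C} (θ : a ≅ b)
    (α : b ⟶ b) (hα : F.map α = 𝟙 _) : F.map (θ.hom ≫ α ≫ θ.inv) = 𝟙 _ := by
  rw [Functor.map_comp, Functor.map_comp, hα, Category.id_comp, ← Functor.map_comp,
    Iso.hom_inv_id, F.map_id]

/-- base change of the inertia along a functor all of whose values have trivial relative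
automorphism groups is an equivalence -/
theorem isEquivOver_fpFst_inertiaToBase {𝒳 𝒴 𝒲 : AlgSt.Cat S}
    (f : 𝒳 ⥤ᵇ 𝒴) (x : 𝒲 ⥤ᵇ 𝒳)
    (H : ∀ (w : 𝒲.obj) (α : x.obj w ⟶ x.obj w), 𝒳.p.map α = 𝟙 _ → f.map α = 𝟙 _ → α = 𝟙 _) :
    FibCat.IsEquivOver (FibCat.fpFst x (FibCat.inertiaToBase f)) := by
  let e : BasedFunctor.comp (BasedFunctor.id 𝒲) x ≅
      BasedFunctor.comp (BasedFunctor.comp x (FibCat.inertiaNeutral f)) (FibCat.inertiaToBase f) :=
    Iso.refl _
  have hσ : FibCat.IsEquivOver (FibCat.fpLift (BasedFunctor.id 𝒲)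
      (BasedFunctor.comp x (FibCat.inertiaNeutral f)) e) := by
    refine isEquivOver_fpLift_of _ _ _ ?_ ?_ ?_
    · intro w w' m m' h _
      exact h
    · intro w w' u v huv
      refine ⟨u, rfl, ?_⟩
      apply FibCat.InertiaObj.hom_ext
      have h1 : x.map u ≫ 𝟙 _ = 𝟙 _ ≫ v.hom := huv
      rw [Category.comp_id, Category.id_comp] at h1
      exact h1
    · intro η
      obtain ⟨θ, hθ⟩ : ∃ θ : x.obj η.obj.fst ≅ η.obj.snd.pt, θ = η.obj.iso := ⟨η.obj.iso, rfl⟩
      have hmapα : 𝒳.p.map η.obj.snd.aut.hom = 𝟙 _ := by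
        have hl := Groth.Agent.Lib.Helper24.FibCatInertia.aut_isHomLift f η.obj.snd
        have := IsHomLift.fac' 𝒳.p (𝟙 (𝒳.p.obj η.obj.snd.pt)) η.obj.snd.aut.hom
        simpa using this
      have hconj : θ.hom ≫ η.obj.snd.aut.hom ≫ θ.inv = 𝟙 _ :=
        H _ _ (conj_map 𝒳.p θ _ hmapα) (conj_map f.toFunctor θ _ η.obj.snd.map_aut)
      have hα : η.obj.snd.aut.hom = 𝟙 _ := by
        have h2 : η.obj.snd.aut.hom = θ.inv ≫
            (θ.hom ≫ η.obj.snd.aut.hom ≫ θ.inv) ≫ θ.hom := by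
          simp
        rw [h2, hconj]
        simp
      refine ⟨η.obj.fst, Iso.refl _,
        ⟨⟨η.obj.iso.hom, ?_⟩, ⟨η.obj.iso.inv, ?_⟩, ?_, ?_⟩, IsHomLift.id rfl, ?_⟩
      · change 𝟙 _ ≫ η.obj.iso.hom = η.obj.iso.hom ≫ η.obj.snd.aut.hom
        rw [hα]
        exact (Category.id_comp _).trans (Category.comp_id _).symm
      · change η.obj.snd.aut.hom ≫ η.obj.iso.inv = η.obj.iso.inv ≫ 𝟙 _
        rw [hα]
        exact (Category.id_comp _).trans (Category.comp_id _).symm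
      · apply FibCat.InertiaObj.hom_ext
        exact η.obj.iso.hom_inv_id
      · apply FibCat.InertiaObj.hom_ext
        exact η.obj.iso.inv_hom_id
      · change x.map (𝟙 _) ≫ η.obj.iso.hom = 𝟙 _ ≫ η.obj.iso.hom
        rw [x.toFunctor.map_id]
  exact isEquivOver_of_comp_left _ _ hσ (isEquivOver_id 𝒲)

end Groth.Agent.Lib.Helper24.AlgStTrivStab
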