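import Mathlib
import Groth.Agent.Lib.Helper14.AlgSpLocP2
import Groth.Agent.Lib.Helper14.AlgSpBasic2
import Groth.Agent.Lib.Helper14.AlgSpImm
import Groth.Agent.Lib.Helper10.MonoFibre
set_option autoImplicit false
open CategoryTheory CategoryTheory.Limits AlgebraicGeometry AlgSp
open Groth.Agent.Lib.Helper14.AS
universe u

namespace Groth.Agent.Lib.Helper24.AlgStTrivStab

variable {S : Scheme.{u}}

set_option backward.isDefEq.respectTransparency.types false in
/-- etaleness of a chart over a point where the fibre of the space is trivial -/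
theorem etale_fiber_of_isIso {J : Sp S} {T U : Over S} (h : J ⟶ (yon S).obj T)
    (a : (yon S).obj U ⟶ J) (hae : RepWith @Etale a) (k : U ⟶ T) (hk : (yon S).map k = a ≫ h)
    {Sy : Over S} (ιy : Sy ⟶ T) (hiso : IsIso (pullback.snd h ((yon S).map ιy))) :
    Etale (pullback.snd k ιy).left := by
  have sq₀ := IsPullback.of_hasPullback k ιy
  have sqY : IsPullback ((yon S).map (pullback.fst k ιy)) ((yon S).map (pullback.snd k ιy))
      (a ≫ h) ((yon S).map ιy) := by
    rw [← hk]; exact sq₀.map (yon S)
  have sqJ := IsPullback.of_hasPullback h ((yon S).map ιy)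
  have hc0 : ((yon S).map (pullback.fst k ιy) ≫ a) ≫ h =
      (yon S).map (pullback.snd k ιy) ≫ (yon S).map ιy := by
    rw [Category.assoc]; exact sqY.w
  have sqc : IsPullback (sqJ.lift _ _ hc0) ((yon S).map (pullback.fst k ιy))
      (pullback.fst h ((yon S).map ιy)) a := by
    refine IsPullback.of_right ?_ (sqJ.lift_fst _ _ _) sqJ.flip
    rw [sqJ.lift_snd]
    exact sqY.flip
  have hce : RepWith @Etale (sqJ.lift _ _ hc0) := repWith_of_isPullback _ sqc.flip hae
  have hse : RepWith @Etale (pullback.snd h ((yon S).map ιy)) := repWith_of_isIso _ _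
  have h1 : RepWith @Etale ((yon S).map (pullback.snd k ιy)) := by
    rw [← sqJ.lift_snd _ _ hc0]
    exact repWith_comp _ hce hse
  exact (repWith_yon_map_iff _ _).1 h1

set_option backward.isDefEq.respectTransparency.types false in
/-- a morphism from an algebraic space to a scheme, locally of finite type, all of whose fibres
over points of the scheme are trivial, is unramified -/
theorem locP_unramified_of_fibres {J : Sp S} (hJ : IsAlgSpace J) {T : Over S}
    (h : J ⟶ (yon S).obj T) (hl : LocP @LocallyOfFiniteType h)
    (hfib : ∀ y : T.left, IsIso (pullback.snd h ((yon S).map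
      (Over.homMk (T.left.fromSpecResidueField y) rfl :
        Over.mk (T.left.fromSpecResidueField y ≫ T.hom) ⟶ T)))) :
    LocP (@LocallyOfFiniteType ⊓ @FormallyUnramified) h := by
  obtain ⟨U, a, hae, has⟩ := hJ.atlas
  obtain ⟨k, hk⟩ := (yon S).map_surjective (a ≫ h)
  have comm : a ≫ h = (yon S).map k ≫ 𝟙 _ := by rw [hk, Category.comp_id]
  have hlk : LocallyOfFiniteType k.left := hl a (𝟙 _) k hae (repWith_id _ T) comm
  refine locP_of_chart etLocal_lft_fu h a (𝟙 _) k hae has (repWith_id _ T) comm ⟨hlk, ?_⟩
  refine Groth.Agent.Lib.Helper10.MonoFibre.formallyUnramified_of_fiber k.left fun y => ?_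
  let ιy : Over.mk (T.left.fromSpecResidueField y ≫ T.hom) ⟶ T :=
    Over.homMk (T.left.fromSpecResidueField y) rfl
  have he : Etale (pullback.snd k ιy).left := etale_fiber_of_isIso h a hae k hk ιy (hfib y)
  have sqL := (IsPullback.of_hasPullback k ιy).map (Over.forget S)
  have sqF := IsPullback.of_hasPullback k.left (T.left.fromSpecResidueField y)
  have e : k.left.fiberToSpecResidueField y =
      (sqF.isoIsPullback _ _ sqL).hom ≫ (pullback.snd k ιy).left := by
    rw [Scheme.Hom.fiberToSpecResidueField]
    exact (sqF.isoIsPullback_hom_snd _ _ sqL).symm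
  rw [e]
  have hfu : FormallyUnramified (pullback.snd k ιy).left := inferInstance
  exact MorphismProperty.comp_mem (W := @FormallyUnramified) _ _ inferInstance hfu

end Groth.Agent.Lib.Helper24.AlgStTrivStab
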