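import Groth.Agent.Lib.Helper24.AlgStAutInj
import Groth.Agent.Lib.Helper24.FibCatTwoCart
import Groth.Agent.Lib.Helper24.AlgStLocQ7
import Groth.Agent.Lib.Helper24.GerbGlue
import Groth.Agent.Lib.Helper24.AlgStSmoothCoverEt
import Groth.Agent.Lib.Helper24.TrivStabA
import Groth.Agent.Lib.Helper24.TrivStabB
set_option autoImplicit false
open CategoryTheory AlgebraicGeometry Opposite
universe w₁ v₁ w₂ v₂ w₃ v₃ w₄ v₄ u
set_option backward.isDefEq.respectTransparency false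
set_option backward.isDefEq.respectTransparency.types false

namespace Groth.Agent.Lib.Helper24.AlgStTrivStab
open Groth.Agent.Lib.Helper24.FibCatFpMap
open Groth.Agent.Lib.Helper24.FibCatEquiv Groth.Agent.Lib.Helper24.FibCatFpGen
open Groth.Agent.Lib.Helper24.FibCatTwoCart Groth.Agent.Lib.Helper24.FibCatInertiaEquiv
open Groth.Agent.Lib.Helper24.AlgStRep Groth.Agent.Lib.Helper24.AlgStRepS
open Groth.Agent.Lib.Helper24.AlgStSchLocal Groth.Agent.Lib.Helper24.AlgStLocQ1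
open Groth.Agent.Lib.Helper24.AlgStLocQ5 Groth.Agent.Lib.Helper24.AlgStLocQ7
open Groth.Agent.Lib.Helper24.AlgStEqv Groth.Agent.Lib.Helper24.AlgStCalc
open Groth.Agent.Lib.Helper24.AlgStBridge Groth.Agent.Lib.Helper24.AlgStSmLoc
open Groth.Agent.Lib.Helper24.AlgStBoot Groth.Agent.Lib.Helper24.AlgStProps
open Groth.Agent.Lib.Helper24.AlgStDiagLft
open Groth.Agent.Lib.Helper24.AlgStDiagAtlas Groth.Agent.Lib.Helper24.AlgStDiagLC
open Groth.Agent.Lib.Helper24.AlgStInertia Groth.Agent.Lib.Helper24.AlgStInertia2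
open Groth.Agent.Lib.Helper24.AlgStSepDiag Groth.Agent.Lib.Helper24.AlgStGC
open Groth.Agent.Lib.Helper24.AlgStMono Groth.Agent.Lib.Helper24.AlgStAutInj
open Groth.Agent.Lib.Helper24.PshBridge
open Groth.Agent.Lib.Helper14.AS
open CategoryTheory.Limits AlgSt

variable {S : Scheme.{u}}

/-- triviality of an endomorphism over the identity from triviality of the automorphism group -/
theorem eq_id_of_subsingleton_autO {𝒳 : AlgSt.Cat S} (h𝒳 : FibCat.IsFibGrpd 𝒳.p) {w : 𝒳.obj}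
    (hs : Subsingleton (Gerb.AutO w)) (α : w ⟶ w) (hα : 𝒳.p.map α = 𝟙 _) : α = 𝟙 w := by
  have hl : 𝒳.p.IsHomLift (𝟙 (𝒳.p.obj w)) α := by
    rw [← hα]; infer_instance
  have h1 : Groth.Agent.Lib.Helper24.GerbGlue.autOfHom h𝒳 α hl = 1 := Subsingleton.elim _ _
  have h2 := congrArg (fun a : Gerb.AutO w => a.hom.1) h1
  exact h2


theorem spMapOf_overMap {U V : Over S} (h : U ⟶ V) :
    spMapOf (BasedFunctor.comp (AlgSt.toOverCat U)
      (BasedFunctor.comp (AlgSt.overMap h) (AlgSt.ofOverCat V))) = (AlgSp.yon S).map h :=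
  (spMapOf_congr (Iso.refl _)).trans (spMapOf_ofSpMap ((AlgSp.yon S).map h))

/-- the inertia of a category with trivial automorphism groups at field-valued points is
unramified over it -/
theorem repByAlgSpWith_unramified_inertiaToBase {𝒳 : AlgSt.Cat S} (h𝒳 : FibCat.IsFibGrpd 𝒳.p)
    (hΔ : AlgSt.RepByAlgSp1 (FibCat.diag (FibCat.toSelf 𝒳)))
    (hat : AlgSt.HasAtlas (AlgSp.LocP @Smooth) 𝒳)
    (H : ∀ (k : Type u) [Field k] (sk : Spec (CommRingCat.of k) ⟶ S)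
        (x : FibCat.overCat (Over.mk sk) ⥤ᵇ 𝒳) (T : Over (Over.mk sk)),
        Subsingleton (Gerb.AutO (x.obj T))) :
    AlgSt.RepByAlgSpWith (AlgSp.LocP (@LocallyOfFiniteType ⊓ @FormallyUnramified))
      (FibCat.inertiaToBase (FibCat.toSelf 𝒳)) := by
  have hlftΔ : AlgSt.RepByAlgSpWith (AlgSp.LocP @LocallyOfFiniteType)
      (FibCat.diag (FibCat.toSelf 𝒳)) := by
    obtain ⟨U, x, hxs, hxsurj⟩ := hat
    have hU : AlgSt.RepByAlgSp (FibCat.overCat U) := repByAlgSp_overCat U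
    exact repByAlgSpWith_diag_of_chart (Groth.Agent.Lib.Helper24.StkFpCrit.isFibGrpd_overForget U)
      h𝒳 Groth.Agent.Lib.Helper24.FibCatInertia.isFibGrpd_selfOver _
      good_lft leftCancel_lft (FibCat.toSelf 𝒳) hΔ x hU
      (Groth.Agent.Lib.Helper24.AlgStDiag.repByAlgSp_fp_comp_toSelf hU hU _ _)
      (repByAlgSpWith_locP_mono AlgStDiagLft.smooth_le_flat x hxs)
      (repByAlgSpWith_locP_mono AlgStDiagLft.smooth_le_lfp x hxs) hxsurj
      (repByAlgSpWith_locP_mono AlgStDiagLft.smooth_le_lft x hxs)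
  have hlft := repByAlgSpWith_inertiaToBase _ (FibCat.toSelf 𝒳) hlftΔ
  intro T t
  obtain ⟨J, eq, heq, hl⟩ := hlft T t
  refine ⟨J, eq, heq, ?_⟩
  refine locP_unramified_of_fibres J.property _ hl fun y => ?_
  let Sy : Over S := Over.mk (T.left.fromSpecResidueField y ≫ T.hom)
  let ιy : Sy ⟶ T := Over.homMk (T.left.fromSpecResidueField y) rfl
  let π := FibCat.inertiaToBase (FibCat.toSelf 𝒳)
  let x : FibCat.overCat Sy ⥤ᵇ 𝒳 := BasedFunctor.comp (AlgSt.overMap ιy) t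
  have hA : FibCat.IsEquivOver (FibCat.fpFst x π) :=
    isEquivOver_fpFst_inertiaToBase (FibCat.toSelf 𝒳) x fun w α h1 _ =>
      eq_id_of_subsingleton_autO h𝒳
        (H (T.left.residueField y) (T.left.fromSpecResidueField y ≫ T.hom) x w) α h1
  obtain ⟨κ, hκ, ⟨iκ⟩⟩ := eqvOver_P π t (AlgSt.overMap ιy)
  have hΨ : FibCat.IsEquivOver (FibCat.fpFst (AlgSt.overMap ιy) (FibCat.fpFst t π)) :=
    isEquivOver_of_iso iκ (isEquivOver_comp _ _ hκ hA)
  obtain ⟨Ψi, hΨi⟩ := exists_inverse_isEquivOver _ hΨ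
  let YS : AlgSp.Space S := ⟨(AlgSp.yon S).obj Sy, AlgSp.IsAlgSpace.yon_obj Sy⟩
  let YT : AlgSp.Space S := ⟨(AlgSp.yon S).obj T, AlgSp.IsAlgSpace.yon_obj T⟩
  have hpt : PT (MorphismProperty.isomorphisms (AlgSp.Sp S))
      (FibCat.fpFst (AlgSt.overMap ιy) (FibCat.fpFst t π)) := by
    refine ⟨YS, YS, BasedFunctor.comp (AlgSt.toOverCat Sy) Ψi, AlgSt.ofOverCat Sy,
      isEquivOver_comp _ _ (isEquivOver_toOverCat Sy) hΨi, isEquivOver_ofOverCat Sy, ?_⟩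
    exact isIso_spMapOf _ (isEquivOver_comp _ _
      (isEquivOver_comp _ _ (isEquivOver_toOverCat Sy) hΨi)
      (isEquivOver_comp _ _ hΨ (isEquivOver_ofOverCat Sy)))
  have key := (pt_fpFst_iff (Groth.Agent.Lib.Helper24.AlgStClosedSub.good_iso.respectsIso)
    (F := J) (G := YT) (G' := YS) eq (AlgSt.ofOverCat T) (AlgSt.toOverCat Sy) heq
    (isEquivOver_ofOverCat T) (isEquivOver_toOverCat Sy) (AlgSt.overMap ιy) (FibCat.fpFst t π)).1 hpt
  suffices key' : ∀ (φ : J.obj ⟶ (AlgSp.yon S).obj T) (ψ : (AlgSp.yon S).obj Sy ⟶ (AlgSp.yon S).obj T),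
      φ = spMapOf (BasedFunctor.comp eq (BasedFunctor.comp (FibCat.fpFst t π) (AlgSt.ofOverCat T))) →
      ψ = spMapOf (BasedFunctor.comp (AlgSt.toOverCat Sy)
        (BasedFunctor.comp (AlgSt.overMap ιy) (AlgSt.ofOverCat T))) →
        IsIso (pullback.snd φ ψ) from key' _ _ (spMapOfOver_eq _) (spMapOf_overMap ιy).symm
  intro φ ψ hφ hψ
  subst hφ hψ
  exact key


/-- S16832 (⟸) -/
theorem repByAlgSp_of_trivial_stabilizers {𝒳 : AlgSt.Cat S}
    (h𝒳 : AlgSt.IsAlgStack Scheme.etalePrecoverage 𝒳)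
    (H : ∀ (k : Type u) [Field k] (sk : Spec (CommRingCat.of k) ⟶ S)
        (x : FibCat.overCat (Over.mk sk) ⥤ᵇ 𝒳) (T : Over (Over.mk sk)),
        Subsingleton (Gerb.AutO (x.obj T))) : AlgSt.RepByAlgSp 𝒳 := by
  have hG := h𝒳.isStack.1
  have hF : FibCat.IsFibGrpd (FibCat.selfOver (Over S)).p :=
    Groth.Agent.Lib.Helper24.FibCatInertia.isFibGrpd_selfOver
  have hun := repByAlgSpWith_unramified_inertiaToBase hG h𝒳.diag h𝒳.atlas H
  have hI := Groth.Agent.Lib.Helper24.FibCatInertia.isFibGrpd_inertia (FibCat.toSelf 𝒳) hG hF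
  have hrep1 : AlgSt.RepByAlgSp1 (FibCat.inertiaToBase (FibCat.toSelf 𝒳)) :=
    (repByAlgSp1_iff_with_top _).2 (repByAlgSpWith_inertiaToBase ⊤ (FibCat.toSelf 𝒳)
      ((repByAlgSp1_iff_with_top _).1 h𝒳.diag))
  have h1 := repByAlgSpWith_diag_of_unramified (FibCat.inertiaToBase (FibCat.toSelf 𝒳)) hrep1 hun
  have hopen : AlgSt.IsOpenImm (FibCat.inertiaNeutral (FibCat.toSelf 𝒳)) :=
    repByAlgSpWith_section hI hG _ (nice_repWith _) (stableComp_repWith _) (hasIsos_repWith _)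
      (FibCat.inertiaToBase (FibCat.toSelf 𝒳)) (FibCat.inertiaNeutral (FibCat.toSelf 𝒳))
      (Iso.refl _) h1
  have hrepN : AlgSt.RepByAlgSp1 (FibCat.inertiaNeutral (FibCat.toSelf 𝒳)) := fun T y => by
    obtain ⟨F, e, he, -⟩ := hopen T y
    exact ⟨F, e, he⟩
  have hinj : ∀ (k : Type u) [Field k] [IsAlgClosed k] (s : Spec (CommRingCat.of k) ⟶ S)
      (ξ : 𝒳.obj) (_ : 𝒳.p.obj ξ = Over.mk s) (a : ξ ⟶ ξ),
      𝒳.p.IsHomLift (𝟙 (𝒳.p.obj ξ)) a → (FibCat.toSelf 𝒳).map a = 𝟙 _ → a = 𝟙 ξ := by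
    intro k _ _ s ξ hξ a ha _
    have : 𝒳.p.IsFibered := Groth.Agent.Lib.Helper24.FibGrpd.isFibered_of_isFibGrpd 𝒳.p hG
    let xh : FibCat.overCat (Over.mk s) ⥤ᵇ 𝒳 := Groth.Agent.Lib.Helper24.FibCatYoneda.pbBased hξ
    have hpi : IsIso (Groth.Agent.Lib.Helper24.FibCatYoneda.pbMap hξ (Over.mk (𝟙 (Over.mk s)))) :=
      Groth.Agent.Lib.Helper24.FibCatYoneda.pbMap_id_isIso hξ
    set c := Groth.Agent.Lib.Helper24.FibCatYoneda.pbMap hξ (Over.mk (𝟙 (Over.mk s))) with hc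
    have hmap : 𝒳.p.map a = 𝟙 _ := by
      have := IsHomLift.fac' 𝒳.p (𝟙 (𝒳.p.obj ξ)) a
      simpa using this
    have h2 : c ≫ a ≫ inv c = 𝟙 _ :=
      eq_id_of_subsingleton_autO hG (H k s xh (Over.mk (𝟙 (Over.mk s)))) (c ≫ a ≫ inv c)
        (conj_map 𝒳.p (asIso c) a hmap)
    have h3 : a = inv c ≫ (c ≫ a ≫ inv c) ≫ c := by simp
    rw [h3, h2]
    simp
  have hsurj : AlgSt.RepByAlgSpWith AlgSp.IsSurjectiveMor
      (FibCat.inertiaNeutral (FibCat.toSelf 𝒳)) :=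
    (Groth.Agent.Lib.Helper24.AlgStPts5.isSurjective_iff_repByAlgSpWith hG hI _ hrepN).1
      (isSurjective_inertiaNeutral_of_geom hG hF (FibCat.toSelf 𝒳) hinj)
  have h3 := repByAlgSpWith_and _ _ good_isSurjectiveMor.respectsIso _ hopen hsurj
  have hiso : AlgSt.RepByAlgSpWith (MorphismProperty.isomorphisms (AlgSp.Sp S))
      (FibCat.inertiaNeutral (FibCat.toSelf 𝒳)) :=
    repByAlgSpWith_mono (fun X Y a ha =>
      Groth.Agent.Lib.Helper14.AS.isIso_of_openImmersion_of_surjective ha.1 ha.2) _ h3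
  have hfaith := faithful_of_repByAlgSpWith_iso_inertiaNeutral hG hF (FibCat.toSelf 𝒳) hiso
  have hE : FibCat.IsEquivOver (FibCat.inertiaToBase (FibCat.toSelf 𝒳)) :=
    (faithful_iff_isEquivOver_inertiaToBase (FibCat.toSelf 𝒳) hG hF).1 hfaith
  have hset := Groth.Agent.Lib.Helper24.FibCatInertia.isFibSetoid_of_isEquivOver_inertiaToBase hG hE
  exact Groth.Agent.Lib.Helper24.AlgStSmoothCoverEt.repByAlgSp_of_isFibSetoid_et 𝒳 h𝒳.isStack
    h𝒳.atlas hset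

/-- S16832 (⟹) -/
theorem subsingleton_autO_of_repByAlgSp {𝒳 : AlgSt.Cat S} (h : AlgSt.RepByAlgSp 𝒳) (w : 𝒳.obj) :
    Subsingleton (Gerb.AutO w) := by
  have hset : FibCat.IsFibSetoid 𝒳.p :=
    Groth.Agent.Lib.Helper24.AlgStSetoid.isFibSetoid_of_repByAlgSp h
  constructor
  intro a b
  have := hset.2 (𝒳.p.obj w)
  apply Aut.ext
  exact Subsingleton.elim _ _

end Groth.Agent.Lib.Helper24.AlgStTrivStab
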