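import Groth.Agent.Lib.Helper24.AlgStUniv1
import Groth.Agent.Lib.Helper24.AlgStDiagBC
set_option autoImplicit false
open CategoryTheory AlgebraicGeometry Opposite
universe w₁ v₁ w₂ v₂ w₃ v₃ w₄ v₄ u
set_option backward.isDefEq.respectTransparency false
set_option backward.isDefEq.respectTransparency.types false

/-! Universally injective morphisms of algebraic stacks and the diagonal (S12831). -/

namespace Groth.Agent.Lib.Helper24.AlgStUniv2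
open Groth.Agent.Lib.Helper24.FibCatFpMap
open Groth.Agent.Lib.Helper24.FibCatEquiv Groth.Agent.Lib.Helper24.FibCatFpGen
open Groth.Agent.Lib.Helper24.AlgStEqv
open Groth.Agent.Lib.Helper24.AlgStFpAlg
open Groth.Agent.Lib.Helper24.AlgStPts1 Groth.Agent.Lib.Helper24.AlgStPts2
open Groth.Agent.Lib.Helper24.AlgStPts3 Groth.Agent.Lib.Helper24.AlgStPts4
open Groth.Agent.Lib.Helper24.AlgStPts5 Groth.Agent.Lib.Helper24.AlgStPts7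
open Groth.Agent.Lib.Helper24.AlgStDiagBC Groth.Agent.Lib.Helper24.FibCatDiagBC
open CategoryTheory.Limits AlgSt

variable {S : Scheme.{u}}

theorem isSurjective_of_eqvOver {𝒜 𝒜' ℬ : AlgSt.Cat S} {φ : 𝒜 ⥤ᵇ ℬ} {φ' : 𝒜' ⥤ᵇ ℬ}
    (h : EqvOver φ φ') (hφ' : AlgSt.IsSurjective φ') : AlgSt.IsSurjective φ := by
  obtain ⟨k, hk, ⟨i⟩⟩ := h
  intro b
  obtain ⟨a', rfl⟩ := hφ' b
  obtain ⟨a, rfl⟩ := (bijective_map_of_isEquivOver k hk).2 a'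
  exact ⟨a, by rw [← map_comp, map_congr i]⟩

variable {𝒳 𝒴 : AlgSt.Cat S}

theorem isSurjective_diag_fpFst (h𝒳 : FibCat.IsFibGrpd 𝒳.p) (h𝒴 : FibCat.IsFibGrpd 𝒴.p)
    {𝒵 : AlgSt.Cat S} (h𝒵 : FibCat.IsFibGrpd 𝒵.p) (f : 𝒳 ⥤ᵇ 𝒴) (z : 𝒵 ⥤ᵇ 𝒴)
    (h : AlgSt.IsSurjective (FibCat.diag f)) :
    AlgSt.IsSurjective (FibCat.diag (FibCat.fpFst z f)) := by
  have hzf : FibCat.IsFibGrpd (FibCat.fp z f).p := isFibGrpd_fp _ _ h𝒵 h𝒳 h𝒴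
  exact isSurjective_of_eqvOver (eqvOver_diag_baseChange f z)
    (isSurjective_fpFst h𝒳 (isFibGrpd_fp _ _ h𝒳 h𝒳 h𝒴) (isFibGrpd_fp _ _ hzf hzf h𝒵)
      (FibCat.diag f) (k f z) h)

theorem fpFst_diag (f : 𝒳 ⥤ᵇ 𝒴) (x : Points 𝒳) :
    Points.map (FibCat.fpFst f f) (Points.map (FibCat.diag f) x) = x := by
  have i0 : BasedFunctor.comp (FibCat.diag f) (FibCat.fpFst f f) ≅ BasedFunctor.id 𝒳 := Iso.refl _
  rw [← map_comp, map_congr i0, map_id]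

theorem fpSnd_diag (f : 𝒳 ⥤ᵇ 𝒴) (x : Points 𝒳) :
    Points.map (FibCat.fpSnd f f) (Points.map (FibCat.diag f) x) = x := by
  have i0 : BasedFunctor.comp (FibCat.diag f) (FibCat.fpSnd f f) ≅ BasedFunctor.id 𝒳 := Iso.refl _
  rw [← map_comp, map_congr i0, map_id]

theorem injective_map_of_isSurjective_diag (h𝒳 : FibCat.IsFibGrpd 𝒳.p)
    (h𝒴 : FibCat.IsFibGrpd 𝒴.p) (f : 𝒳 ⥤ᵇ 𝒴) (h : AlgSt.IsSurjective (FibCat.diag f)) :
    Function.Injective (Points.map f) := by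
  intro x₁ x₂ h12
  obtain ⟨w, hw1, hw2⟩ := Groth.Agent.Lib.Helper26.StackPoints.exists_points_fp h𝒳 h𝒴 h𝒳 f f
    x₁ x₂ h12
  obtain ⟨x, rfl⟩ := h w
  rw [fpFst_diag] at hw1
  rw [fpSnd_diag] at hw2
  rw [← hw1, ← hw2]

/-- S12831 -/
theorem isUnivInjective_iff (h𝒳 : AlgSt.IsAlgStack Scheme.fppfPrecoverage 𝒳)
    (h𝒴 : AlgSt.IsAlgStack Scheme.fppfPrecoverage 𝒴) (f : 𝒳 ⥤ᵇ 𝒴) :
    AlgSt.IsUnivInjective Scheme.fppfPrecoverage f ↔ AlgSt.IsSurjective (FibCat.diag f) := by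
  constructor
  · intro H w
    refine ⟨Points.map (FibCat.fpFst f f) w, ?_⟩
    apply H 𝒳 h𝒳 f
    rw [fpFst_diag]
  · intro H 𝒵 h𝒵 g
    exact injective_map_of_isSurjective_diag
      (isFibGrpd_fp _ _ h𝒵.isStack.1 h𝒳.isStack.1 h𝒴.isStack.1) h𝒵.isStack.1 _
      (isSurjective_diag_fpFst h𝒳.isStack.1 h𝒴.isStack.1 h𝒵.isStack.1 f g H)

end Groth.Agent.Lib.Helper24.AlgStUniv2
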