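import Groth.Agent.Lib.Helper24.AlgStUniv2
import Groth.Agent.Lib.Helper24.AlgStDiagComp
import Groth.Agent.Lib.Helper24.FibCatDiagBC2
set_option autoImplicit false
open CategoryTheory AlgebraicGeometry Opposite
universe w₁ v₁ w₂ v₂ w₃ v₃ w₄ v₄ u
set_option backward.isDefEq.respectTransparency false
set_option backward.isDefEq.respectTransparency.types false

/-! Permanence of universally injective morphisms of algebraic stacks (S13567–S13570). -/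

namespace Groth.Agent.Lib.Helper24.AlgStUniv3
open Groth.Agent.Lib.Helper24.FibCatFpMap
open Groth.Agent.Lib.Helper24.FibCatEquiv Groth.Agent.Lib.Helper24.FibCatFpGen
open Groth.Agent.Lib.Helper24.AlgStEqv
open Groth.Agent.Lib.Helper24.AlgStFpAlg Groth.Agent.Lib.Helper24.AlgStAtlas
open Groth.Agent.Lib.Helper24.AlgStPts1 Groth.Agent.Lib.Helper24.AlgStPts2
open Groth.Agent.Lib.Helper24.AlgStPts3 Groth.Agent.Lib.Helper24.AlgStPts4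
open Groth.Agent.Lib.Helper24.AlgStPts5 Groth.Agent.Lib.Helper24.AlgStPts7
open Groth.Agent.Lib.Helper24.AlgStDiagBC Groth.Agent.Lib.Helper24.FibCatDiagBC
open Groth.Agent.Lib.Helper24.AlgStDiagComp Groth.Agent.Lib.Helper24.FibCatDiagComp
open Groth.Agent.Lib.Helper24.FibCatMagic Groth.Agent.Lib.Helper24.AlgStCalc
open Groth.Agent.Lib.Helper24.AlgStUniv2 Groth.Agent.Lib.Helper24.AlgStLocQ13
open Groth.Agent.Lib.Helper24.AlgStProdAlg Groth.Agent.Lib.Helper24.AlgStLocQ2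
open CategoryTheory.Limits AlgSt

variable {S : Scheme.{u}}
variable {𝒳 𝒴 𝒵 : AlgSt.Cat S}

theorem isSurjective_comp {𝒜 ℬ 𝒞 : AlgSt.Cat S} (a : 𝒜 ⥤ᵇ ℬ) (b : ℬ ⥤ᵇ 𝒞)
    (ha : AlgSt.IsSurjective a) (hb : AlgSt.IsSurjective b) :
    AlgSt.IsSurjective (BasedFunctor.comp a b) := by
  intro c
  obtain ⟨y, rfl⟩ := hb c
  obtain ⟨x, rfl⟩ := ha y
  exact ⟨x, map_comp a b x⟩

theorem isSurjective_of_iso {𝒜 ℬ : AlgSt.Cat S} {a a' : 𝒜 ⥤ᵇ ℬ} (i : a ≅ a')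
    (ha : AlgSt.IsSurjective a) : AlgSt.IsSurjective a' := by
  intro c
  obtain ⟨x, rfl⟩ := ha c
  exact ⟨x, (congrFun (map_congr i) x).symm⟩

/-- S13567 -/
theorem isUnivInjective_fpFst (h𝒳 : AlgSt.IsAlgStack Scheme.fppfPrecoverage 𝒳)
    (h𝒴 : AlgSt.IsAlgStack Scheme.fppfPrecoverage 𝒴)
    (h𝒵 : AlgSt.IsAlgStack Scheme.fppfPrecoverage 𝒵) (f : 𝒳 ⥤ᵇ 𝒴) (g : 𝒵 ⥤ᵇ 𝒴)
    (hf : AlgSt.IsUnivInjective Scheme.fppfPrecoverage f) :
    AlgSt.IsUnivInjective Scheme.fppfPrecoverage (FibCat.fpFst g f) := by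
  have hfp : AlgSt.IsAlgStack Scheme.fppfPrecoverage (FibCat.fp g f) :=
    isAlgStack_fp h𝒴.isStack h𝒴.diag h𝒵 h𝒳 g f
  exact (isUnivInjective_iff hfp h𝒵 _).2
    (isSurjective_diag_fpFst h𝒳.isStack.1 h𝒴.isStack.1 h𝒵.isStack.1 f g
      ((isUnivInjective_iff h𝒳 h𝒴 f).1 hf))

/-- S13568 -/
theorem isUnivInjective_comp (h𝒳 : AlgSt.IsAlgStack Scheme.fppfPrecoverage 𝒳)
    (h𝒴 : AlgSt.IsAlgStack Scheme.fppfPrecoverage 𝒴)
    (h𝒵 : AlgSt.IsAlgStack Scheme.fppfPrecoverage 𝒵) (f : 𝒳 ⥤ᵇ 𝒴) (g : 𝒴 ⥤ᵇ 𝒵)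
    (hf : AlgSt.IsUnivInjective Scheme.fppfPrecoverage f)
    (hg : AlgSt.IsUnivInjective Scheme.fppfPrecoverage g) :
    AlgSt.IsUnivInjective Scheme.fppfPrecoverage (BasedFunctor.comp f g) := by
  rw [isUnivInjective_iff h𝒳 h𝒵]
  have h1 := (isUnivInjective_iff h𝒳 h𝒴 f).1 hf
  have h2 := (isUnivInjective_iff h𝒴 h𝒵 g).1 hg
  have hf𝒳 := h𝒳.isStack.1
  have hf𝒴 := h𝒴.isStack.1
  have hf𝒵 := h𝒵.isStack.1
  have hN : AlgSt.IsSurjective (N f f g) :=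
    isSurjective_of_eqvOver (eqvOver_N f f g)
      (isSurjective_fpFst hf𝒴 (isFibGrpd_fp _ _ hf𝒴 hf𝒴 hf𝒵)
        (isFibGrpd_fp _ _ hf𝒳 hf𝒳 hf𝒵) (FibCat.diag g) (M f f g) h2)
  exact isSurjective_of_iso (diagCompIso f g).symm (isSurjective_comp _ _ h1 hN)

/-- a universally injective morphism is injective on points -/
theorem injective_of_isUnivInjective (h𝒳 : AlgSt.IsAlgStack Scheme.fppfPrecoverage 𝒳)
    (h𝒴 : AlgSt.IsAlgStack Scheme.fppfPrecoverage 𝒴) (f : 𝒳 ⥤ᵇ 𝒴)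
    (hf : AlgSt.IsUnivInjective Scheme.fppfPrecoverage f) : Function.Injective (Points.map f) :=
  injective_map_of_isSurjective_diag h𝒳.isStack.1 h𝒴.isStack.1 f ((isUnivInjective_iff h𝒳 h𝒴 f).1 hf)

/-- S13569 -/
theorem isUnivInjective_of_affine (h𝒳 : AlgSt.IsAlgStack Scheme.fppfPrecoverage 𝒳)
    (h𝒴 : AlgSt.IsAlgStack Scheme.fppfPrecoverage 𝒴) (f : 𝒳 ⥤ᵇ 𝒴)
    (h : ∀ (Z : Over S) [IsAffine Z.left] (z : FibCat.overCat Z ⥤ᵇ 𝒴),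
      AlgSt.IsUnivInjective Scheme.fppfPrecoverage (FibCat.fpFst z f)) :
    AlgSt.IsUnivInjective Scheme.fppfPrecoverage f := by
  intro 𝒲 h𝒲 g p₁ p₂ h12
  obtain ⟨q, hq⟩ := Points.mk_surjective (Points.map (FibCat.fpFst g f) p₁)
  obtain ⟨y, hy⟩ := exists_chart h𝒲.isStack.1 q
  have hZalg : AlgSt.IsAlgStack Scheme.fppfPrecoverage (FibCat.overCat (Over.mk q.str)) :=
    isAlgStack_of_repByAlgSp (repByAlgSp_overCat _)
  have hfZ : FibCat.IsFibGrpd (FibCat.overCat (Over.mk q.str)).p :=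
    StkFpCrit.isFibGrpd_overForget _
  have hfp : AlgSt.IsAlgStack Scheme.fppfPrecoverage (FibCat.fp g f) :=
    isAlgStack_fp h𝒴.isStack h𝒴.diag h𝒲 h𝒳 g f
  have hfp2 : AlgSt.IsAlgStack Scheme.fppfPrecoverage
      (FibCat.fp (BasedFunctor.comp y g) f) :=
    isAlgStack_fp h𝒴.isStack h𝒴.diag hZalg h𝒳 _ f
  have hfp3 : AlgSt.IsAlgStack Scheme.fppfPrecoverage (FibCat.fp y (FibCat.fpFst g f)) :=
    isAlgStack_fp h𝒲.isStack h𝒲.diag hZalg hfp y (FibCat.fpFst g f)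
  have : IsAffine (Over.mk q.str).left := by
    change IsAffine (Spec (CommRingCat.of q.K)); infer_instance
  have hinj0 := injective_of_isUnivInjective hfp2 hZalg _ (h (Over.mk q.str) (BasedFunctor.comp y g))
  have hinj : Function.Injective (Points.map (FibCat.fpFst y (FibCat.fpFst g f))) := by
    obtain ⟨k, hk, ⟨i⟩⟩ := eqvOver_paste g f y
    have : Points.map (FibCat.fpFst y (FibCat.fpFst g f)) =
        Points.map (FibCat.fpFst (BasedFunctor.comp y g) f) ∘ Points.map k := by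
      funext x
      rw [Function.comp_apply, ← map_comp, map_congr i]
    rw [this]
    exact hinj0.comp (bijective_map_of_isEquivOver k hk).1
  obtain ⟨w₁, hw1, hw1'⟩ := Groth.Agent.Lib.Helper26.StackPoints.exists_points_fp
    hfp.isStack.1 h𝒲.isStack.1 hfZ (FibCat.fpFst g f) y (Points.mk (idPt q)) p₁ (hy.trans hq)
  obtain ⟨w₂, hw2, hw2'⟩ := Groth.Agent.Lib.Helper26.StackPoints.exists_points_fp
    hfp.isStack.1 h𝒲.isStack.1 hfZ (FibCat.fpFst g f) y (Points.mk (idPt q)) p₂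
    ((hy.trans hq).trans h12)
  rw [← hw1', ← hw2', hinj (hw1.trans hw2.symm)]

/-- `k` is a base change of `z` -/
theorem eqvOver_k (f : 𝒳 ⥤ᵇ 𝒴) (z : 𝒵 ⥤ᵇ 𝒴) : EqvOver (k f z) (FibCat.fpFst (ρ f) z) :=
  ⟨FibCat.fpLift (k f z) (σ f z) (e₂ f z), isEquivOver_k_baseChange f z, ⟨Iso.refl _⟩⟩

/-- descent of surjectivity of the diagonal along a surjective base change -/
theorem isSurjective_diag_of_fpFst (h𝒳 : FibCat.IsFibGrpd 𝒳.p) (h𝒴 : FibCat.IsFibGrpd 𝒴.p)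
    (h𝒵 : FibCat.IsFibGrpd 𝒵.p) (f : 𝒳 ⥤ᵇ 𝒴) (z : 𝒵 ⥤ᵇ 𝒴) (hz : AlgSt.IsSurjective z)
    (h : AlgSt.IsSurjective (FibCat.diag (FibCat.fpFst z f))) :
    AlgSt.IsSurjective (FibCat.diag f) := by
  have hzf : FibCat.IsFibGrpd (FibCat.fp z f).p := isFibGrpd_fp _ _ h𝒵 h𝒳 h𝒴
  have hk : AlgSt.IsSurjective (k f z) :=
    isSurjective_of_eqvOver (eqvOver_k f z)
      (isSurjective_fpFst h𝒵 h𝒴 (isFibGrpd_fp _ _ h𝒳 h𝒳 h𝒴) z (ρ f) hz)
  intro w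
  obtain ⟨w', rfl⟩ := hk w
  obtain ⟨x, rfl⟩ := h w'
  refine ⟨Points.map (FibCat.fpSnd z f) x, ?_⟩
  rw [← map_comp, ← map_comp]
  exact (congrFun (map_congr (e f z)) x).symm

/-- S13570 -/
theorem isUnivInjective_of_cover (h𝒳 : AlgSt.IsAlgStack Scheme.fppfPrecoverage 𝒳)
    (h𝒴 : AlgSt.IsAlgStack Scheme.fppfPrecoverage 𝒴) (f : 𝒳 ⥤ᵇ 𝒴)
    (W : AlgSp.Space S) (w : AlgSt.ofSp W.obj ⥤ᵇ 𝒴)
    (hw₃ : AlgSt.RepByAlgSpWith AlgSp.IsSurjectiveMor w)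
    (h : AlgSt.IsUnivInjective Scheme.fppfPrecoverage (FibCat.fpFst w f)) :
    AlgSt.IsUnivInjective Scheme.fppfPrecoverage f := by
  have hW := isAlgStack_ofSp W
  have hfp : AlgSt.IsAlgStack Scheme.fppfPrecoverage (FibCat.fp w f) :=
    isAlgStack_fp h𝒴.isStack h𝒴.diag hW h𝒳 w f
  rw [isUnivInjective_iff h𝒳 h𝒴]
  exact isSurjective_diag_of_fpFst h𝒳.isStack.1 h𝒴.isStack.1 hW.isStack.1 f w
    (surjective_map_of_repByAlgSpWith h𝒴.isStack.1 w hw₃)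
    ((isUnivInjective_iff hfp hW _).1 h)

end Groth.Agent.Lib.Helper24.AlgStUniv3
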