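import Groth.Agent.Lib.Helper24.Filt3
set_option autoImplicit false
set_option linter.unusedSectionVars false
set_option linter.unusedVariables false
universe u
open CategoryTheory CategoryTheory.Limits AlgebraicGeometry Opposite

/-! Tuples (not necessarily apart) of lifts along a chart, and the schemes representing them
(the fibre powers of the chart). -/

namespace Groth.Agent.Lib.Helper24.AllTup
open AlgSp Groth.Agent.Lib.Helper14.AS Groth.Agent.Lib.Helper24.Filt1 Groth.Agent.Lib.Helper24.ZarGlue
open Groth.Agent.Lib.Helper24.Filt2 Groth.Agent.Lib.Helper24.Filt3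

variable {S : Scheme.{u}} {U : Over S} {X : Sp S} (a : (yon S).obj U ⟶ X)

/-- tuples of lifts of a common map to `X` -/
structure ATup (ι : Type) (T : Over S) where
  u : ι → (T ⟶ U)
  compat : ∀ i j, (yon S).map (u i) ≫ a = (yon S).map (u j) ≫ a

namespace ATup
variable {a} {ι : Type} {T T' T'' : Over S}

theorem ext' {τ τ' : ATup a ι T} (h : ∀ i, τ.u i = τ'.u i) : τ = τ' := by
  cases τ; cases τ'
  congr
  funext i
  exact h i

/-- pullback of tuples -/
def map (g : T' ⟶ T) (τ : ATup a ι T) : ATup a ι T' where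
  u i := g ≫ τ.u i
  compat i j := by
    rw [Functor.map_comp, Functor.map_comp, Category.assoc, Category.assoc, τ.compat i j]

@[simp] theorem map_u (g : T' ⟶ T) (τ : ATup a ι T) (i : ι) : (τ.map g).u i = g ≫ τ.u i := rfl

/-- the common map to `X` -/
def base [Inhabited ι] (τ : ATup a ι T) : (yon S).obj T ⟶ X := (yon S).map (τ.u default) ≫ a

theorem base_eq [Inhabited ι] (τ : ATup a ι T) (i : ι) : τ.base = (yon S).map (τ.u i) ≫ a :=
  τ.compat default i

theorem base_map [Inhabited ι] (g : T' ⟶ T) (τ : ATup a ι T) :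
    (τ.map g).base = (yon S).map g ≫ τ.base := by
  unfold base
  rw [map_u, Functor.map_comp, Category.assoc]

/-- restriction of a tuple to the old indices -/
def old (τ : ATup a (Option ι) T) : ATup a ι T where
  u i := τ.u (some i)
  compat i j := τ.compat _ _

@[simp] theorem old_u (τ : ATup a (Option ι) T) (i : ι) : τ.old.u i = τ.u (some i) := rfl

theorem old_base [Inhabited ι] (τ : ATup a (Option ι) T) : τ.old.base = τ.base :=
  (τ.old.base_eq default).trans (τ.base_eq _).symm

/-- extension of a tuple by a new lift -/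
def cons (τ : ATup a ι T) (v : T ⟶ U) (hv : ∀ i, (yon S).map v ≫ a = (yon S).map (τ.u i) ≫ a) :
    ATup a (Option ι) T where
  u o := o.elim v τ.u
  compat i j := by
    cases i with
    | none => cases j with
      | none => rfl
      | some j => exact hv j
    | some i => cases j with
      | none => exact (hv i).symm
      | some j => exact τ.compat i j

@[simp] theorem cons_none (τ : ATup a ι T) (v : T ⟶ U) (hv) : (τ.cons v hv).u none = v := rfl
@[simp] theorem cons_some (τ : ATup a ι T) (v : T ⟶ U) (hv) (i : ι) :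
    (τ.cons v hv).u (some i) = τ.u i := rfl

/-- reindexing of a tuple -/
def reindex {κ : Type} (φ : κ → ι) (τ : ATup a ι T) : ATup a κ T where
  u k := τ.u (φ k)
  compat i j := τ.compat _ _

@[simp] theorem reindex_u {κ : Type} (φ : κ → ι) (τ : ATup a ι T) (k : κ) :
    (τ.reindex φ).u k = τ.u (φ k) := rfl

theorem reindex_base {κ : Type} [Inhabited ι] [Inhabited κ] (φ : κ → ι) (τ : ATup a ι T) :
    (τ.reindex φ).base = τ.base :=
  (τ.base_eq _).symm

end ATup

/-- an apart tuple is a tuple -/
def ofTup {ι : Type} {T : Over S} (τ : Tup a ι T) : ATup a ι T where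
  u := τ.u
  compat := τ.compat

/-- `(V, υ)` represents the functor of tuples -/
structure IsRepA (ι : Type) (V : Over S) (υ : ATup a ι V) : Prop where
  bij : ∀ T : Over S, Function.Bijective (fun g : T ⟶ V => υ.map g)

/-- the universal 1-tuple -/
def unitATup : ATup a Unit U where
  u _ := 𝟙 U
  compat _ _ := rfl

theorem isRepA_unit : IsRepA a Unit U (unitATup a) where
  bij T := by
    constructor
    · intro g₁ g₂ h
      have := congrArg (fun τ : ATup a Unit T => τ.u ()) h
      simpa [unitATup] using this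
    · intro τ
      refine ⟨τ.u (), ATup.ext' fun i => ?_⟩
      cases i
      simp [unitATup]

variable {a}

set_option backward.isDefEq.respectTransparency.types false in
theorem exists_repA_option (hae : RepWith @Etale a)
    {ι : Type} [Inhabited ι] {V : Over S} {υ : ATup a ι V} (h : IsRepA a ι V υ) :
    ∃ (V' : Over S) (υ' : ATup a (Option ι) V') (π : V' ⟶ V), IsRepA a (Option ι) V' υ' ∧
      υ'.old = υ.map π ∧ Etale π.left ∧
      (RepWith @QuasiCompact a → CompactSpace ↥V.left → CompactSpace ↥V'.left) ∧
      (IsSeparatedMor a → IsSeparated π.left) := by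
  have har := hae.rep
  have sqD := har.isPullback' υ.base
  let π : har.pullback υ.base ⟶ V := har.snd υ.base
  have hv : ∀ i, (yon S).map (har.fst' υ.base) ≫ a = (yon S).map ((υ.map π).u i) ≫ a := by
    intro i
    rw [ATup.map_u, Functor.map_comp, Category.assoc, ← υ.base_eq i]
    exact sqD.w
  let υ' : ATup a (Option ι) (har.pullback υ.base) := (υ.map π).cons _ hv
  refine ⟨_, υ', π, ⟨fun T => ⟨?_, ?_⟩⟩, ATup.ext' fun i => rfl, hae.property_snd υ.base, ?_,
    fun hΔc => isSeparated_of_isPullback hΔc sqD⟩
  · intro g₁ g₂ hg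
    have hn : g₁ ≫ har.fst' υ.base = g₂ ≫ har.fst' υ.base :=
      congrArg (fun τ : ATup a (Option ι) T => τ.u none) hg
    have ho : υ.map (g₁ ≫ π) = υ.map (g₂ ≫ π) := by
      refine ATup.ext' fun i => ?_
      have := congrArg (fun τ : ATup a (Option ι) T => τ.u (some i)) hg
      simp only [ATup.map_u, υ', ATup.cons_some] at this
      simp only [ATup.map_u, Category.assoc]
      exact this
    have hπ : g₁ ≫ π = g₂ ≫ π := (h.bij T).1 ho
    exact har.hom_ext' hn hπ
  · intro τ
    obtain ⟨g₀, hg₀⟩ := (h.bij T).2 τ.old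
    have hg₀' : υ.map g₀ = τ.old := hg₀
    have hc : (yon S).map (τ.u none) ≫ a = (yon S).map g₀ ≫ υ.base := by
      rw [← ATup.base_map, hg₀', ATup.old_base, τ.base_eq none]
    have hl1 : har.lift' (τ.u none) g₀ hc ≫ har.fst' υ.base = τ.u none := har.lift'_fst _ _ _
    have hl2 : har.lift' (τ.u none) g₀ hc ≫ har.snd υ.base = g₀ := har.lift'_snd _ _ _
    refine ⟨har.lift' (τ.u none) g₀ hc, ATup.ext' fun o => ?_⟩
    cases o with
    | none => exact hl1
    | some i =>
      change har.lift' (τ.u none) g₀ hc ≫ har.snd υ.base ≫ υ.u i = τ.u (some i)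
      rw [← Category.assoc, hl2]
      exact congrArg (fun τ' : ATup a ι T => τ'.u i) hg₀'
  · intro hqc hW
    have hsq : QuasiCompact (har.snd υ.base).left :=
      hqc.property υ.base ((yon S).map (har.fst' υ.base)) (har.snd υ.base) sqD
    exact QuasiCompact.compactSpace_of_compactSpace (har.snd υ.base).left

set_option backward.isDefEq.respectTransparency.types false in
theorem exists_repA (hae : RepWith @Etale a) :
    ∀ n, ∃ (V : Over S) (υ : ATup a (Idx n) V), IsRepA a (Idx n) V υ ∧
      (RepWith @QuasiCompact a → CompactSpace ↥U.left → CompactSpace ↥V.left) ∧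
      (IsSeparatedMor a → ∃ i, IsSeparated (υ.u i).left)
  | 0 => by
    refine ⟨U, unitATup a, isRepA_unit a, fun _ hU => hU, fun _ => ⟨(), ?_⟩⟩
    change IsSeparated (𝟙 U.left)
    infer_instance
  | n + 1 => by
    obtain ⟨V, υ, h, hc, hs⟩ := exists_repA hae n
    obtain ⟨V', υ', π, h', hold, -, hc', hs'⟩ := exists_repA_option hae h
    refine ⟨V', υ', h', fun hq hU => hc' hq (hc hq hU), fun hΔc => ?_⟩
    obtain ⟨i, hi⟩ := hs hΔc
    have hπ := hs' hΔc
    refine ⟨some i, ?_⟩
    have e : υ'.u (some i) = π ≫ υ.u i := congrArg (fun τ : ATup a (Idx n) V' => τ.u i) hold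
    rw [e, Over.comp_left]
    infer_instance

theorem ofTup_base {ι : Type} [Inhabited ι] {T : Over S} (τ : Tup a ι T) :
    (ofTup a τ).base = τ.base := rfl

theorem exists_surjective_idx (m : ℕ) : ∀ N, m ≤ N → ∃ φ : Idx N → Idx m, Function.Surjective φ := by
  intro N hN
  induction N, hN using Nat.le_induction with
  | base => exact ⟨id, Function.surjective_id⟩
  | succ N _ ih =>
    obtain ⟨φ, hφ⟩ := ih
    refine ⟨fun o : Option (Idx N) => φ (o.elim default id), fun y => ?_⟩
    obtain ⟨x, rfl⟩ := hφ y
    exact ⟨some x, rfl⟩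

end Groth.Agent.Lib.Helper24.AllTup
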