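import Groth.Agent.Lib.Helper24.Filt2
set_option autoImplicit false
set_option linter.unusedSectionVars false
set_option linter.unusedVariables false
universe u
open CategoryTheory CategoryTheory.Limits AlgebraicGeometry Opposite

/-! Representability of the functors of apart tuples. -/

namespace Groth.Agent.Lib.Helper24.Filt3
open AlgSp Groth.Agent.Lib.Helper14.AS Groth.Agent.Lib.Helper24.Filt1 Groth.Agent.Lib.Helper24.ZarGlue
open Groth.Agent.Lib.Helper24.Filt2

variable {S : Scheme.{u}} {U : Over S} {X : Sp S} {a : (yon S).obj U ⟶ X}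

variable (a) in
/-- the universal 1-tuple -/
def unitTup : Tup a Unit U where
  u _ := 𝟙 U
  compat _ _ := rfl
  apart i j hij := absurd (Subsingleton.elim i j) hij

variable (a) in
theorem isRep_unit : IsRep a Unit U (unitTup a) where
  bij T := by
    constructor
    · intro g₁ g₂ h
      have := congrArg (fun τ : Tup a Unit T => τ.u ()) h
      simpa [unitTup] using this
    · intro τ
      refine ⟨τ.u (), Tup.ext' fun i => ?_⟩
      cases i
      simp [unitTup]

theorem isSeparated_of_isPullback (hΔc : IsSeparatedMor a) {W D : Over S} {ω : (yon S).obj W ⟶ X}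
    {fD : D ⟶ U} {sD : D ⟶ W} (sq : IsPullback ((yon S).map fD) ((yon S).map sD) a ω) :
    IsSeparated sD.left := by
  rw [← isSeparatedMor_yon_map_iff]
  have h1 : (RepWith (S := S) @IsClosedImmersion).IsStableUnderBaseChange :=
    AlgSp.repWith_isStableUnderBaseChange _
  have h2 : (RepWith (S := S) @IsClosedImmersion).RespectsIso :=
    MorphismProperty.IsStableUnderBaseChange.respectsIso
  exact (MorphismProperty.IsStableUnderBaseChange.diagonal (P := RepWith (S := S) @IsClosedImmersion)).of_isPullback sq hΔc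

set_option backward.isDefEq.respectTransparency.types false in
theorem exists_rep_option (hΔo : RepWith @IsOpenImmersion (pullback.diagonal a))
    (hΔc : RepWith @IsClosedImmersion (pullback.diagonal a)) (hae : RepWith @Etale a)
    {ι : Type} [Finite ι] [Inhabited ι] {W : Over S} {υ : Tup a ι W} (h : IsRep a ι W υ) :
    ∃ (W' : Over S) (υ' : Tup a (Option ι) W') (π : W' ⟶ W), IsRep a (Option ι) W' υ' ∧
      υ'.old = υ.map π ∧ Etale π.left ∧ IsSeparated π.left ∧
      (RepWith @QuasiCompact a → CompactSpace ↥W.left → CompactSpace ↥W'.left) := by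
  have har := hae.rep
  have sqD := har.isPullback' υ.base
  have hcompat : ∀ i, (yon S).map (har.snd υ.base ≫ υ.u i) ≫ a = (yon S).map (har.fst' υ.base) ≫ a := by
    intro i
    rw [Functor.map_comp, Category.assoc, ← υ.base_eq i]
    exact sqD.w.symm
  choose E hEc hEmem hEι using fun i =>
    exists_eqLocus a hΔo hΔc (har.snd υ.base ≫ υ.u i) (har.fst' υ.base) (hcompat i)
  let O : (har.pullback υ.base).left.Opens :=
    ⟨⋂ i, ((E i : Set (har.pullback υ.base).left))ᶜ, isOpen_iInter_of_finite fun i => (hEc i).isOpen_compl⟩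
  have hO : ∀ d : (har.pullback υ.base).left,
      d ∈ O ↔ ∀ i, ¬ EqAt (har.snd υ.base ≫ υ.u i) (har.fst' υ.base) d := by
    intro d
    change d ∈ ⋂ i, ((E i : Set (har.pullback υ.base).left))ᶜ ↔ _
    simp only [Set.mem_iInter, Set.mem_compl_iff, SetLike.mem_coe, hEmem]
  let ι' := resOpenι (har.pullback υ.base) O
  let π : resOpen (har.pullback υ.base) O ⟶ W := ι' ≫ har.snd υ.base
  have hv : ∀ i, (yon S).map (ι' ≫ har.fst' υ.base) ≫ a = (yon S).map ((υ.map π).u i) ≫ a := by
    intro i
    rw [Tup.map_u, Functor.map_comp, Category.assoc, ← hcompat i, ← Category.assoc, ← Functor.map_comp,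
      Category.assoc]
  have hap : ∀ i (t : (resOpen (har.pullback υ.base) O).left),
      ¬ EqAt (ι' ≫ har.fst' υ.base) ((υ.map π).u i) t := by
    intro i t hE
    have h1 : EqAt (ι' ≫ har.fst' υ.base) (ι' ≫ (har.snd υ.base ≫ υ.u i)) t := by
      rw [Tup.map_u, Category.assoc] at hE
      exact hE
    rw [eqAt_comp_iff] at h1
    exact (hO _).1 (t.2 : ι'.left t ∈ O) i h1.symm
  let υ' : Tup a (Option ι) (resOpen (har.pullback υ.base) O) := (υ.map π).cons _ hv hap
  refine ⟨_, υ', π, ⟨fun T => ⟨?_, ?_⟩⟩, Tup.ext' fun i => rfl, ?_, ?_, ?_⟩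
  · intro g₁ g₂ hg
    have hn : g₁ ≫ ι' ≫ har.fst' υ.base = g₂ ≫ ι' ≫ har.fst' υ.base :=
      congrArg (fun τ : Tup a (Option ι) T => τ.u none) hg
    have ho : υ.map (g₁ ≫ π) = υ.map (g₂ ≫ π) := by
      refine Tup.ext' fun i => ?_
      have := congrArg (fun τ : Tup a (Option ι) T => τ.u (some i)) hg
      simp only [Tup.map_u, υ', Tup.cons_some] at this
      simp only [Tup.map_u, Category.assoc]
      exact this
    have hπ : g₁ ≫ π = g₂ ≫ π := (h.bij T).1 ho
    have h3 : g₁ ≫ ι' = g₂ ≫ ι' := by
      apply har.hom_ext'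
      · rw [Category.assoc, Category.assoc]; exact hn
      · rw [Category.assoc, Category.assoc]; exact hπ
    have hm : Mono ι'.left := inferInstanceAs (Mono O.ι)
    have : Mono ι' := Over.mono_of_mono_left ι'
    exact (cancel_mono ι').1 h3
  · intro τ
    obtain ⟨g₀, hg₀⟩ := (h.bij T).2 τ.old
    have hg₀' : υ.map g₀ = τ.old := hg₀
    have hc : (yon S).map (τ.u none) ≫ a = (yon S).map g₀ ≫ υ.base := by
      rw [← Tup.base_map, hg₀', Tup.old_base, τ.base_eq none]
    have hl1 : har.lift' (τ.u none) g₀ hc ≫ har.fst' υ.base = τ.u none := har.lift'_fst _ _ _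
    have hl2 : har.lift' (τ.u none) g₀ hc ≫ har.snd υ.base = g₀ := har.lift'_snd _ _ _
    have hd₀O : ∀ t, (har.lift' (τ.u none) g₀ hc).left t ∈ O := by
      intro t
      rw [hO]
      intro i hE
      have h1 := (eqAt_comp_iff (har.lift' (τ.u none) g₀ hc) _ _ t).2 hE
      rw [← Category.assoc, hl2, hl1] at h1
      have h2 : g₀ ≫ υ.u i = τ.u (some i) := congrArg (fun τ' : Tup a ι T => τ'.u i) hg₀'
      rw [h2] at h1
      exact τ.apart (some i) none (by simp) t h1
    obtain ⟨g, hg⟩ := exists_lift_resOpen _ O hd₀O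
    refine ⟨g, Tup.ext' fun o => ?_⟩
    cases o with
    | none =>
      change g ≫ ι' ≫ har.fst' υ.base = τ.u none
      rw [← Category.assoc, hg, hl1]
    | some i =>
      change g ≫ (ι' ≫ har.snd υ.base) ≫ υ.u i = τ.u (some i)
      rw [← Category.assoc, ← Category.assoc, hg, hl2]
      exact congrArg (fun τ' : Tup a ι T => τ'.u i) hg₀'
  · have : Etale (har.snd υ.base).left := hae.property_snd υ.base
    change Etale (O.ι ≫ (har.snd υ.base).left)
    infer_instance
  · have : IsSeparated (har.snd υ.base).left := isSeparated_of_isPullback hΔc sqD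
    change IsSeparated (O.ι ≫ (har.snd υ.base).left)
    infer_instance
  · intro hqc hW
    have hsq : QuasiCompact (har.snd υ.base).left :=
      hqc.property υ.base ((yon S).map (har.fst' υ.base)) (har.snd υ.base) sqD
    have hD : CompactSpace ↥(har.pullback υ.base).left :=
      QuasiCompact.compactSpace_of_compactSpace (har.snd υ.base).left
    have hOc : IsClosed (O : Set (har.pullback υ.base).left) :=
      isClosed_iInter fun i => (E i).2.isClosed_compl
    exact isCompact_iff_compactSpace.1 hOc.isCompact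

/-- index types with `n + 1` elements -/
def Idx : ℕ → Type
  | 0 => Unit
  | n + 1 => Option (Idx n)

instance instInhabitedIdx : ∀ n, Inhabited (Idx n)
  | 0 => ⟨()⟩
  | _ + 1 => ⟨none⟩

instance instFiniteIdx : ∀ n, Finite (Idx n)
  | 0 => inferInstanceAs (Finite Unit)
  | n + 1 => by
    have := instFiniteIdx n
    exact inferInstanceAs (Finite (Option (Idx n)))

theorem card_idx : ∀ n, Nat.card (Idx n) = n + 1
  | 0 => by change Nat.card Unit = 1; simp
  | n + 1 => by
    have := instFiniteIdx n
    change Nat.card (Option (Idx n)) = n + 1 + 1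
    rw [Finite.card_option, card_idx n]

set_option backward.isDefEq.respectTransparency.types false in
theorem exists_rep (hΔo : RepWith @IsOpenImmersion (pullback.diagonal a))
    (hΔc : RepWith @IsClosedImmersion (pullback.diagonal a)) (hae : RepWith @Etale a) :
    ∀ n, ∃ (W : Over S) (υ : Tup a (Idx n) W), IsRep a (Idx n) W υ ∧
      (∃ i, Etale (υ.u i).left ∧ IsSeparated (υ.u i).left) ∧
      (RepWith @QuasiCompact a → CompactSpace ↥U.left → CompactSpace ↥W.left)
  | 0 => by
    refine ⟨U, unitTup a, isRep_unit a, ⟨(), ?_, ?_⟩, fun _ hU => hU⟩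
    · change Etale (𝟙 U.left); infer_instance
    · change IsSeparated (𝟙 U.left); infer_instance
  | n + 1 => by
    obtain ⟨W, υ, h, ⟨i, h1, h2⟩, hc⟩ := exists_rep hΔo hΔc hae n
    obtain ⟨W', υ', π, h', hold, hπe, hπs, hc'⟩ := exists_rep_option hΔo hΔc hae h
    refine ⟨W', υ', h', ⟨some i, ?_, ?_⟩, fun hq hU => hc' hq (hc hq hU)⟩
    · have e : υ'.u (some i) = π ≫ υ.u i := congrArg (fun τ : Tup a (Idx n) W' => τ.u i) hold
      rw [e, Over.comp_left]
      infer_instance
    · have e : υ'.u (some i) = π ≫ υ.u i := congrArg (fun τ : Tup a (Idx n) W' => τ.u i) hold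
      rw [e, Over.comp_left]
      infer_instance

end Groth.Agent.Lib.Helper24.Filt3
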