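import Groth.Agent.Lib.Helper24.Filt7a
import Groth.Agent.Lib.Helper24.Filt3
import Groth.Agent.Lib.Helper14.AlgSpFieldQC
set_option autoImplicit false
set_option linter.unusedSectionVars false
set_option linter.unusedVariables false
universe u
open CategoryTheory CategoryTheory.Limits AlgebraicGeometry Opposite

/-! A point with a quasi-compact representative lies outside some stratum. -/

namespace Groth.Agent.Lib.Helper24.Filt7
open AlgSp Groth.Agent.Lib.Helper14.AS Groth.Agent.Lib.Helper24.Filt1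
open Groth.Agent.Lib.Helper24.Filt2 Groth.Agent.Lib.Helper24.Filt3 Groth.Agent.Lib.Helper24.Filt7a
open Groth.Agent.Lib.Helper6.BddFibLib Groth.Agent.Lib.Helper24.UnivBdd

variable {S : Scheme.{u}} {U : Over S} {X : Sp S} {a : (yon S).obj U ⟶ X}

set_option backward.isDefEq.respectTransparency.types false in
theorem not_mem_om_of_bound (q₀ : FieldPt X) {F : Over S} (c : F ⟶ q₀.pt) (d : F ⟶ U)
    (sq : IsPullback ((yon S).map c) ((yon S).map d) q₀.toHom a) {N : ℕ}
    (hN : ∀ (Ω : Type u) [Field Ω] (β₀ : Spec (CommRingCat.of Ω) ⟶ Spec (CommRingCat.of q₀.K))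
      (ι : Type) [Finite ι] (ℓ : ι → (Spec (CommRingCat.of Ω) ⟶ F.left)), Function.Injective ℓ →
      (∀ i, ℓ i ≫ c.left = β₀) → Nat.card ι ≤ N) : Points.mk q₀ ∉ Om a (Idx N) := by
  rintro ⟨T, t, τ, hτ⟩
  obtain ⟨Ω, _, w, α, β, e⟩ := exists_common_extension hτ
  rw [FieldPt.toHom_ofPt] at e
  let g : Over.mk w ⟶ T := α ≫ ptHom T t
  have hbase : (τ.map g).base = (yon S).map β ≫ q₀.toHom := by
    rw [Tup.base_map, Functor.map_comp, Category.assoc]
    exact e
  have hl : ∀ i, ∃ ℓ : Over.mk w ⟶ F, ℓ ≫ c = β ∧ ℓ ≫ d = (τ.map g).u i := by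
    intro i
    have cond : (yon S).map β ≫ q₀.toHom = (yon S).map ((τ.map g).u i) ≫ a := by
      rw [← hbase, (τ.map g).base_eq i]
    obtain ⟨ℓ, hℓ⟩ := (yon S).map_surjective (sq.lift _ _ cond)
    refine ⟨ℓ, (yon S).map_injective ?_, (yon S).map_injective ?_⟩
    · rw [Functor.map_comp, hℓ, sq.lift_fst]
    · rw [Functor.map_comp, hℓ, sq.lift_snd]
  choose ℓ hℓ1 hℓ2 using hl
  have hinj : Function.Injective (fun i => (ℓ i).left) := by
    intro i j hij
    by_contra hne
    have h1 : ℓ i = ℓ j := Over.OverMorphism.ext hij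
    have h2 : (τ.map g).u i = (τ.map g).u j := by rw [← hℓ2 i, ← hℓ2 j, h1]
    exact (τ.map g).apart i j hne
      (IsLocalRing.closedPoint Ω : Spec (CommRingCat.of Ω)) (h2 ▸ EqAt.refl _ _)
  have h3 := hN Ω β.left (Idx N) (fun i => (ℓ i).left) hinj
    (fun i => congrArg CommaMorphism.left (hℓ1 i))
  rw [card_idx] at h3
  omega

set_option backward.isDefEq.respectTransparency.types false in
theorem exists_not_mem_om (hae : RepWith @Etale a) [CompactSpace ↥U.left] (q₀ : FieldPt X)
    (hq : RepWith @QuasiCompact q₀.toHom) : ∃ N, Points.mk q₀ ∉ Om a (Idx N) := by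
  have hr := hq.rep
  have sq := hr.isPullback' a
  have hdqc : QuasiCompact (hr.snd a).left := hq.property_snd a
  have hce : Etale (hr.fst' a).left :=
    hae.property q₀.toHom ((yon S).map (hr.snd a)) (hr.fst' a) sq.flip
  have hFc : CompactSpace ↥(hr.pullback a).left :=
    QuasiCompact.compactSpace_of_compactSpace (hr.snd a).left
  obtain ⟨N, hN⟩ := exists_bound_of_etale_compact (K := q₀.K) (hr.fst' a).left
  exact ⟨N, not_mem_om_of_bound q₀ (hr.fst' a) (hr.snd a) sq hN⟩

set_option backward.isDefEq.respectTransparency.types false in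
theorem not_mem_om_of_degFibresLE (hX : IsAlgSpace X) {N : ℕ} (h : W4dec.DegFibresLE N a)
    (x : Points X) : x ∉ Om a (Idx N) := by
  induction x using Points.ind with
  | h q₀ =>
  have hr : Representable q₀.toHom := hX.representable_from_yon q₀.toHom
  have sq := hr.isPullback' a
  obtain ⟨hfin, hrk⟩ := h q₀ (hr.pullback a) (hr.fst' a) ((yon S).map (hr.snd a)) sq
  have hflat : Flat (hr.fst' a).left :=
    inferInstanceAs (Flat (Y := Spec (CommRingCat.of q₀.K)) (hr.fst' a).left)
  let pt : Spec (CommRingCat.of q₀.K) := IsLocalRing.closedPoint q₀.K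
  have hdeg : BddFib.FiniteOfDegLE (CommRingCat.of q₀.K) (hr.fst' a).left N :=
    FiniteOfDegLE.mono (finiteOfDegLE_of_finite_flat (isField_of q₀.K) (hr.fst' a).left pt) (hrk pt)
  refine not_mem_om_of_bound q₀ (hr.fst' a) (hr.snd a) sq fun Ω _ β₀ ι _ ℓ hinj hℓ => ?_
  exact card_le_of_lifts (hr.fst' a).left hdeg β₀ ℓ hinj hℓ

end Groth.Agent.Lib.Helper24.Filt7
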