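import Groth.Agent.Lib.Helper24.Filt6
import Groth.Agent.Lib.Helper24.Filt7
import Groth.Agent.Lib.Helper24.Filt5a
import Groth.Agent.Lib.Helper24.OpenSubSp
import Groth.Agent.Lib.Helper14.RedInd
import Groth.Agent.Lib.Helper14.AlgSpMisc2
import Groth.Agent.Lib.Helper14.AlgSpPoints2
import Groth.Agent.Lib.Helper14.AlgSpLocP
import Groth.Agent.Lib.Helper8.AlgSpPres
set_option autoImplicit false
set_option linter.unusedSectionVars false
set_option linter.unusedVariables false
universe u
open CategoryTheory CategoryTheory.Limits AlgebraicGeometry Opposite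

/-! Assembly of the filtration by open subspaces with scheme charts. -/

namespace Groth.Agent.Lib.Helper24.Filt8
open AlgSp Groth.Agent.Lib.Helper14.AS Groth.Agent.Lib.Helper24.Filt1 Groth.Agent.Lib.Helper24.ZarGlue
open Groth.Agent.Lib.Helper24.Filt2 Groth.Agent.Lib.Helper24.Filt3 Groth.Agent.Lib.Helper24.Filt4
open Groth.Agent.Lib.Helper24.Filt5 Groth.Agent.Lib.Helper24.Filt6 Groth.Agent.Lib.Helper24.Filt7
open Groth.Agent.Lib.Helper24.OpenSubSp

variable {S : Scheme.{u}} {U : Over S} {X : Sp S} {a : (yon S).obj U ⟶ X}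

theorem openImm_le_univOpen : (@IsOpenImmersion : MorphismProperty Scheme.{u}) ≤ @UniversallyOpen :=
  fun _ _ f h => by
    have : IsOpenImmersion f := h
    infer_instance

theorem om_idx_zero (has : RepWith @Surjective a) : Om a (Idx 0) = Set.univ := by
  refine Set.eq_univ_of_forall fun x => ?_
  obtain ⟨u, rfl⟩ := ofPt_surjective_of_repWith has x
  let τ : Tup a (Idx 0) U := unitTup a
  refine ⟨U, u, τ, ?_⟩
  rw [τ.base_eq default]
  change Points.ofPt ((yon S).map (𝟙 U) ≫ a) u = _
  rw [CategoryTheory.Functor.map_id, Category.id_comp]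

theorem om_succ_subset (n : ℕ) : Om a (Idx (n + 1)) ⊆ Om a (Idx n) :=
  om_option_subset (ι := Idx n)

set_option backward.isDefEq.respectTransparency.types false in
/-- separatedness of the diagonal of a chart from an affine scheme -/
theorem repWith_isClosedImmersion_diagonal_of_isAffine [IsAffine U.left] :
    RepWith @IsClosedImmersion (pullback.diagonal a) := by
  have hT : IsTerminal ((yon S).obj (Over.mk (𝟙 S))) :=
    IsTerminal.isTerminalObj (yon S) _ Over.mkIdTerminal
  have e1 : a ≫ hT.from X = (yon S).map (Over.mkIdTerminal.from U) := hT.hom_ext _ _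
  have h : IsSeparatedMor (a ≫ hT.from X) := by
    rw [e1, isSeparatedMor_yon_map_iff]
    infer_instance
  change RepWith @IsClosedImmersion (pullback.diagonal (a ≫ hT.from X)) at h
  rw [pullback.diagonal_comp] at h
  have hm : Mono ((pullbackDiagonalMapIdIso a a (hT.from X)).inv ≫ pullback.snd _ _) := inferInstance
  have : IsIso (pullback.diagonal ((pullbackDiagonalMapIdIso a a (hT.from X)).inv ≫ pullback.snd _ _)) :=
    (pullback.isIso_diagonal_iff _).2 hm
  exact repWith_of_comp_of_diagonal _ _ @IsClosedImmersion (repWith_of_isIso _ _) h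

set_option backward.isDefEq.respectTransparency.types false in
set_option maxHeartbeats 1600000 in
theorem main (X : Space S) {U : Over S} [IsAffine U.left] (a : (yon S).obj U ⟶ X.obj)
    (hae : RepWith @Etale a) (has : RepWith @Surjective a) :
    ∃ (Uo : ℕ → Space S) (j : ∀ p, Uo p ⟶ X) (k : ∀ p, Uo (p + 1) ⟶ Uo p)
      (T : ℕ → Space S) (i : ∀ p, T p ⟶ Uo p),
      (∀ p, RepWith @IsOpenImmersion (j p).hom) ∧ (∀ p, k p ≫ j p = j (p + 1)) ∧ IsIso (j 1) ∧
      (∀ p, IsRedInduced (Set.range (Points.map (k p).hom))ᶜ (i p).hom) ∧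
      (∀ p, 1 ≤ p → ∃ (V : Over S) (f : (yon S).obj V ⟶ (Uo p).obj), V.left.IsSeparated ∧
        (RepWith @QuasiCompact a → CompactSpace ↥V.left) ∧
        RepWith @Etale f ∧ RepWith @Surjective f ∧
        ∀ (P : Sp S) (fst : P ⟶ (T p).obj) (snd : P ⟶ (yon S).obj V),
          IsPullback fst snd (i p).hom f → IsIso fst) ∧
      (∀ n, Set.range (Points.map (j (n + 1)).hom) = Om a (Idx n)) ∧
      (∀ x : Points X.obj, (∃ N, x ∉ Om a (Idx N)) →
        ∃ p, 1 ≤ p ∧ x ∈ Set.range (Points.map ((i p) ≫ (j p)).hom)) := by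
  have hX := X.property
  -- the diagonal of the chart
  have hUU : IsAlgSpace (pullback a a) :=
    isAlgSpace_of_isPullback (repDiag_of_isAlgSpace hX) (IsAlgSpace.yon_obj U)
      (IsAlgSpace.yon_obj U) (IsPullback.of_hasPullback a a)
  have hΔo : RepWith @IsOpenImmersion (pullback.diagonal a) :=
    repWith_isOpenImmersion_of_mono_etale (IsAlgSpace.yon_obj U) hUU _
      (isEtaleMor_of_repWith_etale (repWith_etale_diagonal hae))
  have hΔc : RepWith @IsClosedImmersion (pullback.diagonal a) :=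
    repWith_isClosedImmersion_diagonal_of_isAffine
  -- the schemes of tuples
  choose W υ hrep hex hcpt using exists_rep hΔo hΔc hae
  choose i₀ hie his using hex
  have hWsep : ∀ n, (W n).left.IsSeparated := fun n =>
    (HasAffineProperty.iff_of_isAffine (P := @IsSeparated)).1 (his n)
  have hfin : ∀ n (E : Set (W n).left), E.Finite →
      ∃ O : (W n).left.Opens, IsAffineOpen O ∧ E ⊆ O := fun n E hE =>
    have := hie n
    have := his n
    Filt5a.exists_affineOpen_of_finite_of_etale_sep ((υ n).u (i₀ n)).left E hE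
  choose M m f hmflf hme hms hmf hminv hMsep hMqs using
    fun n => exists_quotient (hrep n) hae (hfin n)
  have hbase_et : ∀ n, RepWith @Etale (υ n).base := fun n => by
    rw [(υ n).base_eq (i₀ n)]
    exact repWith_comp _ ((repWith_yon_map_iff _ _).2 (hie n)) hae
  -- the open sets
  obtain ⟨Ω, hΩ0, hΩs⟩ : ∃ Ω : ℕ → Set (Points X.obj), Ω 0 = Set.univ ∧
      ∀ n, Ω (n + 1) = Om a (Idx n) :=
    ⟨fun p => Nat.casesOn p Set.univ (fun n => Om a (Idx n)), rfl, fun n => rfl⟩
  have hΩo : ∀ p, IsOpen (Ω p) := by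
    intro p
    cases p with
    | zero => rw [hΩ0]; exact isOpen_univ
    | succ n =>
      rw [hΩs n, ← range_ofPt_base (hrep n)]
      exact (isOpenMap_ofPt _ (hbase_et n)).isOpen_range
  have hΩmono : ∀ p, Ω (p + 1) ⊆ Ω p := by
    intro p
    cases p with
    | zero => rw [hΩ0]; exact Set.subset_univ _
    | succ n => rw [hΩs n, hΩs (n + 1)]; exact om_succ_subset n
  have hΩ1 : Ω 1 = Set.univ := by rw [hΩs 0]; exact om_idx_zero has
  -- the open subspaces
  obtain ⟨Uo, j, hjo, hjr⟩ : ∃ (Uo : ℕ → Space S) (j : ∀ p, Uo p ⟶ X),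
      (∀ p, RepWith @IsOpenImmersion (j p).hom) ∧
      ∀ p, Set.range (Points.map (j p).hom) = Ω p :=
    ⟨fun p => ⟨(openPred (Ω p)).sheaf, isAlgSpace_openPred hX (hΩo p)⟩,
      fun p => ObjectProperty.homMk (openPred (Ω p)).ι,
      fun p => repWith_openPred (hΩo p), fun p => range_openPred (hΩo p)⟩
  have hjm : ∀ p, Mono (j p).hom := fun p => mono_of_openImmersion (hjo p)
  have hjinj : ∀ p, Function.Injective (Points.map (j p).hom) := fun p =>
    injective_of_openImmersion (hjo p)
  have hkex : ∀ p, ∃ g : (Uo (p + 1)).obj ⟶ (Uo p).obj, g ≫ (j p).hom = (j (p + 1)).hom := fun p =>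
    Groth.Agent.Lib.Helper8.AlgSpOpen.exists_factor_of_range_subset (j p).hom (hjo p) (j (p + 1)).hom
      (by rw [hjr p, hjr (p + 1)]; exact hΩmono p)
  choose k₀ hk₀ using hkex
  have hko : ∀ p, RepWith @IsOpenImmersion (k₀ p) := by
    intro p
    have := hjm p
    have sq := isPullback_of_factor_mono (k₀ p) (j p).hom
    rw [hk₀ p] at sq
    exact repWith_of_isPullback _ sq (hjo (p + 1))
  have hkopen : ∀ p, IsOpen (Set.range (Points.map (k₀ p))) := fun p =>
    (isOpenMap_points_of_repWith_universallyOpen (Uo p).property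
      (repWith_mono openImm_le_univOpen (hko p))).isOpen_range
  have hTc : ∀ p, IsClosed (Set.range (Points.map (k₀ p)))ᶜ := fun p => (hkopen p).isClosed_compl
  -- the strata
  obtain ⟨T, i, hred⟩ : ∃ (T : ℕ → Space S) (i : ∀ p, T p ⟶ Uo p),
      ∀ p, IsRedInduced (Set.range (Points.map (k₀ p)))ᶜ (i p).hom :=
    ⟨fun p => ⟨(redFam _ (hTc p)).pred.sheaf, (isRedInduced_redFam (Uo p).property _ (hTc p)).1⟩,
      fun p => ObjectProperty.homMk (redFam _ (hTc p)).pred.ι,
      fun p => (isRedInduced_redFam (Uo p).property _ (hTc p)).2⟩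
  have hir : ∀ p, Set.range (Points.map (i p).hom) = (Set.range (Points.map (k₀ p)))ᶜ := fun p =>
    (hred p).2.1
  have hkr : ∀ p, Set.range (Points.map (k₀ p ≫ (j p).hom)) = Ω (p + 1) := fun p => by
    rw [hk₀ p, hjr (p + 1)]
  -- points of the strata avoid the next open
  have hstrat : ∀ p (z : Points (T p).obj), Points.map ((i p).hom ≫ (j p).hom) z ∉ Ω (p + 1) := by
    intro p z hz
    rw [← hkr p] at hz
    obtain ⟨y, hy⟩ := hz
    rw [Points.map_comp, Points.map_comp] at hy
    have h1 : Points.map (k₀ p) y = Points.map (i p).hom z := hjinj p hy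
    have h2 : Points.map (i p).hom z ∈ (Set.range (Points.map (k₀ p)))ᶜ := by
      rw [← hir p]; exact ⟨z, rfl⟩
    exact h2 ⟨y, h1⟩
  refine ⟨Uo, j, fun p => ObjectProperty.homMk (k₀ p), T, i, hjo, ?_, ?_, hred, ?_,
    fun n => by rw [hjr (n + 1), hΩs n], ?_⟩
  · intro p
    exact ObjectProperty.hom_ext _ (hk₀ p)
  · have hsurj : Function.Surjective (Points.map (j 1).hom) := by
      rw [← Set.range_eq_univ, hjr 1, hΩ1]
    have h1 : IsIso (j 1).hom :=
      Groth.Agent.Lib.Helper8.AlgSpOpen.isIso_of_openImmersion_of_isSurjectiveMor (j 1).hom (hjo 1) hsurj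
    have : IsIso ((ObjectProperty.ι _).map (j 1)) := h1
    exact isIso_of_reflects_iso (j 1) (ObjectProperty.ι _)
  · intro p hp
    obtain ⟨n, rfl⟩ : ∃ n, p = n + 1 := ⟨p - 1, by omega⟩
    have hfr : Set.range (Points.map (f n)) = Om a (Idx n) := by
      rw [Groth.Agent.Lib.Helper8.AlgSpPres.range_points_map_yon, ← range_ofPt_base (hrep n)]
      apply Set.Subset.antisymm
      · rintro _ ⟨y, rfl⟩
        obtain ⟨w, rfl⟩ := (hms n).surj y
        exact ⟨w, by rw [← hmf n, ofPt_yon_map_comp]⟩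
      · rintro _ ⟨w, rfl⟩
        exact ⟨(m n).left w, by rw [← hmf n, ofPt_yon_map_comp]⟩
    obtain ⟨f', hf'⟩ := Groth.Agent.Lib.Helper8.AlgSpOpen.exists_factor_of_range_subset (j (n + 1)).hom
      (hjo (n + 1)) (f n) (by rw [hfr, hjr (n + 1), hΩs n])
    have hfe : RepWith @Etale (f n) :=
      repWith_etale_of_precomp_etale_surjective hX (m n) (hme n) (hms n) (f n)
        (by rw [hmf n]; exact hbase_et n)
    have := hjm (n + 1)
    have sqf : IsPullback (𝟙 _) f' (f n) (j (n + 1)).hom := by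
      have sq := isPullback_of_factor_mono f' (j (n + 1)).hom
      rw [hf'] at sq
      exact sq
    have hfe' : RepWith @Etale f' := repWith_of_isPullback _ sqf hfe
    have hfsurj : Function.Surjective (Points.map f') := by
      intro y
      have hy : Points.map (j (n + 1)).hom y ∈ Set.range (Points.map (f n)) := by
        rw [hfr, ← hΩs n, ← hjr (n + 1)]
        exact ⟨y, rfl⟩
      obtain ⟨z, hz⟩ := hy
      refine ⟨z, hjinj (n + 1) ?_⟩
      rw [← Points.map_comp, hf', hz]
    have hfs' : RepWith @Surjective f' := repWith_surjective_of_isSurjectiveMor hfe'.rep hfsurj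
    refine ⟨M n, f', hMsep n (hWsep n), ?_, hfe', hfs', ?_⟩
    · intro hq
      have hU : CompactSpace ↥U.left := inferInstance
      have hWc : CompactSpace ↥(W n).left := hcpt n hq hU
      exact (hms n).surj.compactSpace (m n).left.continuous
    · intro P fst snd sq
      have := hme n
      have := hms n
      have hflat : Flat (m n).left := inferInstance
      refine isIso_fst (hrep n) hΔo hΔc (m n) (j (n + 1)).hom (Uo (n + 1)).property f' ?_ (hminv n)
        hfe' hfs' (T (n + 1)).property (i (n + 1)).hom ?_ fst snd sq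
      · rw [hf', hmf n]
      · intro z
        have h1 := hstrat (n + 1) z
        rw [hΩs (n + 1)] at h1
        exact h1
  · rintro x ⟨N, hN⟩
    have hex : ∃ q, x ∉ Ω (q + 1) := ⟨N, by rw [hΩs N]; exact hN⟩
    classical
    obtain ⟨Q, hq, hqmin⟩ : ∃ Q, x ∉ Ω (Q + 1) ∧ ∀ q', q' < Q → x ∈ Ω (q' + 1) :=
      ⟨Nat.find hex, Nat.find_spec hex, fun q' hq' => by
        by_contra hcon
        exact Nat.find_min hex hq' hcon⟩
    have hpos : 1 ≤ Q := by
      by_contra hcon
      have h0 : Q = 0 := by omega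
      rw [h0, hΩ1] at hq
      exact hq trivial
    obtain ⟨p', hp'⟩ : ∃ p', Q = p' + 1 := ⟨Q - 1, by omega⟩
    have hxp : x ∈ Ω Q := by
      rw [hp']
      exact hqmin p' (by omega)
    refine ⟨Q, hpos, ?_⟩
    rw [← hjr Q] at hxp
    obtain ⟨y, hyx⟩ := hxp
    have hy : y ∈ (Set.range (Points.map (k₀ Q)))ᶜ := by
      rintro ⟨y', hy'⟩
      apply hq
      rw [← hkr Q, ← hyx, ← hy']
      exact ⟨y', Points.map_comp _ _ _⟩
    rw [← hir Q] at hy
    obtain ⟨z, hz⟩ := hy
    refine ⟨z, ?_⟩
    change Points.map ((i Q).hom ≫ (j Q).hom) z = x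
    rw [Points.map_comp, hz, hyx]

end Groth.Agent.Lib.Helper24.Filt8
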