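import Groth.Agent.Lib.Helper24.AllTup1
import Groth.Agent.Lib.Helper24.Filt8
set_option autoImplicit false
set_option linter.unusedSectionVars false
set_option linter.unusedVariables false
universe u
open CategoryTheory CategoryTheory.Limits AlgebraicGeometry Opposite

/-! A quasi-compact separated scheme with a tuple of lifts along a chart covering all lifts. -/

namespace Groth.Agent.Lib.Helper24.AllTup
open AlgSp Groth.Agent.Lib.Helper14.AS Groth.Agent.Lib.Helper24.Filt1 Groth.Agent.Lib.Helper24.ZarGlue
open Groth.Agent.Lib.Helper24.Filt2 Groth.Agent.Lib.Helper24.Filt3 Groth.Agent.Lib.Helper24.Filt8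

variable {S : Scheme.{u}}

/-- a point of the fibre product of two schemes over `S`, as a scheme over `S` -/
theorem exists_over_pullback_point {T V V' : Over S} (g : T ⟶ V) (pr : V' ⟶ V) (t : T.left)
    (v' : V'.left) (h : g.left t = pr.left v') :
    ∃ (P : Over S) (p : P ⟶ T) (g' : P ⟶ V') (z : P.left), p ≫ g = g' ≫ pr ∧ p.left z = t ∧
      g'.left z = v' := by
  obtain ⟨z, hz1, hz2⟩ := Scheme.Pullback.exists_preimage_pullback (f := g.left) (g := pr.left) t v' h
  refine ⟨Over.mk (pullback.fst g.left pr.left ≫ T.hom), Over.homMk (pullback.fst _ _) rfl,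
    Over.homMk (pullback.snd _ _) ?_, z, ?_, hz1, hz2⟩
  · change pullback.snd g.left pr.left ≫ V'.hom = pullback.fst g.left pr.left ≫ T.hom
    rw [← Over.w pr, ← Over.w g, ← Category.assoc, ← Category.assoc, pullback.condition]
  · ext1
    exact pullback.condition

/-- a closed immersion with prescribed closed range -/
theorem exists_closedImmersion_range' {V : Scheme.{u}} (Z : Set V) (hZ : IsClosed Z) :
    ∃ (T : Scheme.{u}) (z : T ⟶ V), IsClosedImmersion z ∧ Set.range z = Z := by
  refine ⟨_, (Scheme.IdealSheafData.vanishingIdeal ⟨Z, hZ⟩).subschemeι, inferInstance, ?_⟩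
  rw [Scheme.IdealSheafData.range_subschemeι, Scheme.IdealSheafData.coe_support_vanishingIdeal]
  rfl

variable {U : Over S} {X : Sp S} {a : (yon S).obj U ⟶ X}

set_option backward.isDefEq.respectTransparency.types false in
set_option maxHeartbeats 800000 in
/-- the closed subscheme of the fibre power of a chart consisting of the tuples exhausting the
fibre: it is quasi-compact, separated, surjects onto `X`, and its tuple covers all lifts -/
theorem exists_covering_tuple (hΔo : RepWith @IsOpenImmersion (pullback.diagonal a))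
    (hΔc : RepWith @IsClosedImmersion (pullback.diagonal a)) (hae : RepWith @Etale a)
    (has : RepWith @Surjective a) (hqc : RepWith @QuasiCompact a) [IsAffine U.left]
    (N : ℕ) (hN : ∀ x, x ∉ Om a (Idx N)) :
    ∃ (B : Over S) (β : ATup a (Idx N) B), CompactSpace ↥B.left ∧ B.left.IsSeparated ∧
      Function.Surjective (Points.ofPt β.base) ∧
      ∀ (T : Over S) (u : T ⟶ U) (g : T ⟶ B), (yon S).map u ≫ a = (yon S).map g ≫ β.base →
        ∀ t : T.left, ∃ i, EqAt (g ≫ β.u i) u t := by
  classical
  obtain ⟨V, υ, hrep, hcpt, hsep⟩ := exists_repA hae N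
  have hVc : CompactSpace ↥V.left := hcpt hqc inferInstance
  obtain ⟨i₀, hi₀⟩ := hsep hΔc
  have har := hae.rep
  have sqD := har.isPullback' υ.base
  have hpre : Etale (har.snd υ.base).left := hae.property_snd υ.base
  have hcompat : ∀ i, (yon S).map (har.snd υ.base ≫ υ.u i) ≫ a =
      (yon S).map (har.fst' υ.base) ≫ a := by
    intro i
    rw [Functor.map_comp, Category.assoc, ← υ.base_eq i]
    exact sqD.w.symm
  choose L hLc hLmem hLι using fun i =>
    exists_eqLocus a hΔo hΔc (har.snd υ.base ≫ υ.u i) (har.fst' υ.base) (hcompat i)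
  let Vp : (har.pullback υ.base).left.Opens :=
    ⟨⋂ i, ((L i : Set (har.pullback υ.base).left))ᶜ,
      isOpen_iInter_of_finite fun i => (hLc i).isOpen_compl⟩
  have hVp : ∀ d : (har.pullback υ.base).left,
      d ∈ Vp ↔ ∀ i, ¬ EqAt (har.snd υ.base ≫ υ.u i) (har.fst' υ.base) d := by
    intro d
    change d ∈ ⋂ i, ((L i : Set (har.pullback υ.base).left))ᶜ ↔ _
    simp only [Set.mem_iInter, Set.mem_compl_iff, SetLike.mem_coe, hLmem]
  have hOo : IsOpen ((har.snd υ.base).left '' (Vp : Set (har.pullback υ.base).left)) :=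
    (har.snd υ.base).left.isOpenMap _ Vp.2
  obtain ⟨B₀, inc₀, hinc, hrange⟩ := exists_closedImmersion_range'
    ((har.snd υ.base).left '' (Vp : Set (har.pullback υ.base).left))ᶜ hOo.isClosed_compl
  let B : Over S := Over.mk (inc₀ ≫ V.hom)
  let inc : B ⟶ V := Over.homMk inc₀ rfl
  have hincl : inc.left = inc₀ := rfl
  refine ⟨B, υ.map inc, ?_, ?_, ?_, ?_⟩
  · exact QuasiCompact.compactSpace_of_compactSpace inc₀
  · have : IsSeparated (inc₀ ≫ (υ.u i₀).left) := inferInstance
    exact (HasAffineProperty.iff_of_isAffine (P := @IsSeparated)).1 this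
  · -- surjectivity
    intro x
    have hex : ∃ k, x ∉ Om a (Idx k) := ⟨N, hN x⟩
    have h0 : Nat.find hex ≠ 0 := by
      intro h0
      have := Nat.find_spec hex
      rw [h0, om_idx_zero has] at this
      exact this trivial
    obtain ⟨m, hm⟩ := Nat.exists_eq_succ_of_ne_zero h0
    have hxm : x ∈ Om a (Idx m) := by
      by_contra hcon
      exact Nat.find_min hex (by rw [hm]; exact Nat.lt_succ_self m) hcon
    have hxm1 : x ∉ Om a (Idx (m + 1)) := by
      have := Nat.find_spec hex
      rwa [hm] at this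
    have hmN : m ≤ N := by
      have := Nat.find_min' hex (hN x)
      omega
    obtain ⟨φ, hφ⟩ := exists_surjective_idx m N hmN
    obtain ⟨T, t, τ, rfl⟩ := hxm
    obtain ⟨g, hg⟩ := (hrep.bij T).2 ((ofTup a τ).reindex φ)
    have hg' : υ.map g = (ofTup a τ).reindex φ := hg
    have hgb : (yon S).map g ≫ υ.base = τ.base := by
      rw [← ATup.base_map, hg', ATup.reindex_base, ofTup_base]
    have hgu : ∀ j, g ≫ υ.u j = τ.u (φ j) := fun j =>
      congrArg (fun τ' : ATup a (Idx N) T => τ'.u j) hg'
    have hgt : g.left t ∈ Set.range inc₀ := by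
      rw [hrange]
      rintro ⟨v', hv', hv't⟩
      apply hxm1
      obtain ⟨P, p, g', z, hpg, hpz, hgz⟩ :=
        exists_over_pullback_point g (har.snd υ.base) t v' hv't.symm
      let D : P.left.Opens := g'.left ⁻¹ᵁ Vp
      have hzD : z ∈ D := by
        change g'.left z ∈ Vp
        rw [hgz]
        exact hv'
      let ι'' := resOpenι P D
      have hv : ∀ i, (yon S).map (ι'' ≫ g' ≫ har.fst' υ.base) ≫ a =
          (yon S).map ((τ.map (ι'' ≫ p)).u i) ≫ a := by
        intro i
        have e0 : (yon S).map (g' ≫ har.fst' υ.base) ≫ a = (yon S).map p ≫ τ.base := by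
          rw [Functor.map_comp, Category.assoc, sqD.w, ← Category.assoc, ← Functor.map_comp, ← hpg,
            Functor.map_comp, Category.assoc, hgb]
        rw [Tup.map_u, Functor.map_comp, Category.assoc, e0, τ.base_eq i]
        simp only [Functor.map_comp, Category.assoc]
      have hap : ∀ i (t'' : (resOpen P D).left),
          ¬ EqAt (ι'' ≫ g' ≫ har.fst' υ.base) ((τ.map (ι'' ≫ p)).u i) t'' := by
        intro i t'' hE
        obtain ⟨j, rfl⟩ := hφ i
        have e1 : (τ.map (ι'' ≫ p)).u (φ j) = (ι'' ≫ g') ≫ har.snd υ.base ≫ υ.u j := by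
          rw [Tup.map_u, ← hgu j, Category.assoc, Category.assoc, ← Category.assoc p, hpg,
            Category.assoc]
        rw [e1, ← Category.assoc] at hE
        rw [eqAt_comp_iff] at hE
        have hmem : (ι'' ≫ g').left t'' ∈ Vp := t''.2
        exact (hVp _).1 hmem j hE.symm
      refine ⟨resOpen P D, ⟨z, hzD⟩, (τ.map (ι'' ≫ p)).cons _ hv hap, ?_⟩
      have e2 := Tup.old_base (ι := Idx m) ((τ.map (ι'' ≫ p)).cons _ hv hap)
      refine (congrArg (fun b => Points.ofPt b (⟨z, hzD⟩ : (resOpen P D).left)) e2).symm.trans ?_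
      change Points.ofPt (τ.map (ι'' ≫ p)).base _ = _
      rw [Tup.base_map, ofPt_yon_map_comp]
      congr 1
    obtain ⟨b, hb⟩ := hgt
    refine ⟨b, ?_⟩
    rw [ATup.base_map, ofPt_yon_map_comp, hincl, hb, ← ofPt_yon_map_comp, hgb]
  · -- the covering property
    intro T u g hug t
    rw [ATup.base_map, ← Category.assoc, ← Functor.map_comp] at hug
    have hl1 : har.lift' u (g ≫ inc) hug ≫ har.fst' υ.base = u := har.lift'_fst _ _ _
    have hl2 : har.lift' u (g ≫ inc) hug ≫ har.snd υ.base = g ≫ inc := har.lift'_snd _ _ _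
    have hnot : (har.lift' u (g ≫ inc) hug).left t ∉ Vp := by
      intro hmem
      have h1 : (g ≫ inc).left t ∈ Set.range inc₀ := ⟨g.left t, rfl⟩
      rw [hrange] at h1
      apply h1
      refine ⟨_, hmem, ?_⟩
      exact congrArg (fun k : T ⟶ V => k.left t) hl2
    rw [hVp] at hnot
    rw [not_forall] at hnot
    obtain ⟨i, hi'⟩ := hnot
    have hi := not_not.1 hi'
    refine ⟨i, ?_⟩
    have h2 := (eqAt_comp_iff (har.lift' u (g ≫ inc) hug) _ _ t).2 hi
    rw [← Category.assoc, hl2, hl1, Category.assoc] at h2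
    exact h2

end Groth.Agent.Lib.Helper24.AllTup
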