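import Mathlib

set_option autoImplicit false
set_option backward.isDefEq.respectTransparency false
set_option backward.isDefEq.respectTransparency.types false

/-!
# Lifting standard étale pairs along surjections (helper24)
-/

namespace Groth.Agent.Lib.Helper24.AlmCoc

open Polynomial

universe u v w

/-- `aeval` with respect to the algebra structure given by a ring hom. -/
lemma aeval_toAlgebra {R C : Type*} [CommRing R] [CommRing C] (β : R →+* C) (x : C) (p : R[X]) :
    @aeval R C _ _ β.toAlgebra x p = eval₂ β x p := rfl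

/-- Lifting a standard étale pair along a surjective ring hom `π : R → R'`. -/
theorem exists_lift_pair {R : Type u} {R' : Type v} [CommRing R] [CommRing R'] (π : R →+* R')
    (hπ : Function.Surjective π) (P' : StandardEtalePair R') :
    ∃ (P : StandardEtalePair R) (φ : P.Ring →+* P'.Ring),
      φ.comp (algebraMap R P.Ring) = (algebraMap R' P'.Ring).comp π ∧
      ∀ (C : Type w) [CommRing C] (α : P.Ring →+* C) (β : R' →+* C),
        α.comp (algebraMap R P.Ring) = β.comp π →
        ∃ γ : P'.Ring →+* C, γ.comp (algebraMap R' P'.Ring) = β := by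
  obtain ⟨f, hf, -, hfm⟩ := lifts_and_natDegree_eq_and_monic
    ((mem_lifts _).2 (map_surjective π hπ P'.f)) P'.monic_f
  obtain ⟨g₀, hg₀⟩ := map_surjective π hπ P'.g
  let P : StandardEtalePair R :=
    { f := f, monic_f := hfm, g := g₀ * derivative f, cond := ⟨g₀, 0, 1, by ring⟩ }
  -- general construction of the map out of `P'.Ring`
  have main : ∀ (C : Type w) [CommRing C] (α : P.Ring →+* C) (β : R' →+* C),
      α.comp (algebraMap R P.Ring) = β.comp π →
      ∃ γ : P'.Ring →+* C, γ.comp (algebraMap R' P'.Ring) = β := by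
    intro C _ α β hαβ
    let _ : Algebra R' C := β.toAlgebra
    have hev : ∀ p : R[X], eval₂ β (α P.X) (p.map π) = α (aeval P.X p) := by
      intro p
      rw [eval₂_map, ← hαβ, aeval_def, hom_eval₂]
    have h1 : aeval (α P.X) P'.f = 0 := by
      rw [aeval_toAlgebra, ← hf, hev]
      have : aeval P.X P.f = 0 := P.hasMap_X.1
      rw [show f = P.f from rfl, this, map_zero]
    have h2 : IsUnit (aeval (α P.X) P'.g) := by
      rw [aeval_toAlgebra, ← hg₀, hev]
      have hu : IsUnit (aeval P.X P.g) := P.hasMap_X.2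
      have hu' : IsUnit (aeval P.X g₀ * aeval P.X (derivative f)) := by
        rw [← map_mul]; exact hu
      exact (isUnit_of_mul_isUnit_left hu').map α
    refine ⟨(P'.lift (α P.X) ⟨h1, h2⟩).toRingHom, ?_⟩
    exact (P'.lift (α P.X) ⟨h1, h2⟩).comp_algebraMap
  -- the comparison map `P.Ring → P'.Ring`
  let _ : Algebra R P'.Ring := ((algebraMap R' P'.Ring).comp π).toAlgebra
  have hev' : ∀ p : R[X], aeval (R := R) P'.X p = aeval (R := R') P'.X (p.map π) := by
    intro p
    rw [aeval_def, aeval_def, eval₂_map]
    rfl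
  have h1 : aeval (R := R) P'.X P.f = 0 := by
    rw [hev']
    show aeval P'.X (f.map π) = 0
    rw [hf]
    exact P'.hasMap_X.1
  have h2 : IsUnit (aeval (R := R) P'.X P.g) := by
    rw [hev']
    show IsUnit (aeval P'.X ((g₀ * derivative f).map π))
    rw [Polynomial.map_mul, ← derivative_map, hf, hg₀, map_mul]
    exact P'.hasMap_X.2.mul P'.hasMap_X.isUnit_derivative_f
  refine ⟨P, (P.lift P'.X ⟨h1, h2⟩).toRingHom, ?_, main⟩
  exact (P.lift P'.X ⟨h1, h2⟩).comp_algebraMap

end Groth.Agent.Lib.Helper24.AlmCoc
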