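import Mathlib
import Groth.Agent.Lib.Helper24.AlmCocA

set_option autoImplicit false
set_option backward.isDefEq.respectTransparency false
set_option backward.isDefEq.respectTransparency.types false

/-!
# Local lifting of étale / smooth morphisms along a closed immersion (helper24)
-/

namespace Groth.Agent.Lib.Helper24.AlmCoc

open AlgebraicGeometry CategoryTheory Limits Opposite

universe u

/-- The morphism `T ⟶ Spec R` attached to a ring map `R ⟶ Γ(T, ⊤)`. -/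
noncomputable def toSpec (T : Scheme.{u}) {R : CommRingCat.{u}} (α : R ⟶ Γ(T, ⊤)) : T ⟶ Spec R :=
  T.toSpecΓ ≫ Spec.map α

lemma toSpec_comp (T : Scheme.{u}) {R R' : CommRingCat.{u}} (α : R ⟶ Γ(T, ⊤)) (ψ : R' ⟶ R) :
    toSpec T α ≫ Spec.map ψ = toSpec T (ψ ≫ α) := by
  simp [toSpec, Spec.map_comp]

lemma eq_toSpec (T : Scheme.{u}) {R : CommRingCat.{u}} (a : T ⟶ Spec R) :
    a = toSpec T ((Scheme.ΓSpecIso R).inv ≫ a.appTop) := by
  have h := Scheme.toSpecΓ_naturality a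
  unfold toSpec
  rw [Spec.map_comp, ← Category.assoc, ← h, Category.assoc, toSpecΓ_SpecMap_ΓSpecIso_inv,
    Category.comp_id]

lemma toSpec_appTop (T : Scheme.{u}) {R : CommRingCat.{u}} (α : R ⟶ Γ(T, ⊤)) :
    (toSpec T α).appTop = (Scheme.ΓSpecIso R).hom ≫ α := by
  unfold toSpec
  rw [Scheme.Hom.comp_appTop, Scheme.toSpecΓ_appTop]
  exact Scheme.ΓSpecIso_naturality α

lemma toSpec_injective (T : Scheme.{u}) {R : CommRingCat.{u}} {α α' : R ⟶ Γ(T, ⊤)}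
    (h : toSpec T α = toSpec T α') : α = α' := by
  have h2 := congrArg Scheme.Hom.appTop h
  rw [toSpec_appTop, toSpec_appTop] at h2
  exact (cancel_epi _).1 h2

/-- The affine-local lifting lemma. -/
theorem lift_of_pair {Z V W : Scheme.{u}} (ι : Z ⟶ V) (g : W ⟶ Z)
    {U : V.Opens} (hU : IsAffineOpen U) {U₁ : Z.Opens} (hU₁ : IsAffineOpen U₁)
    (e₁ : U₁ ≤ ι ⁻¹ᵁ U) (hU₁' : ∀ z : Z, ι z ∈ U → z ∈ U₁)
    {W₀ : W.Opens} (hW₀ : IsAffineOpen W₀) (e : W₀ ≤ g ⁻¹ᵁ U₁) (w : W) (hw : w ∈ W₀)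
    {R R' : Type u} [CommRing R] [CommRing R']
    (a₁ : Γ(V, U) →+* R) (a₁' : Γ(Z, U₁) →+* R') (π : R →+* R') (hπ : Function.Surjective π)
    (hsq : π.comp a₁ = a₁'.comp (ι.appLE U U₁ e₁).hom)
    (hE : ∀ (C : Type u) [CommRing C] (α' : R →+* C) (β₀ : Γ(Z, U₁) →+* C),
      α'.comp a₁ = β₀.comp (ι.appLE U U₁ e₁).hom →
      ∃ β : R' →+* C, β.comp π = α' ∧ β.comp a₁' = β₀)
    (P' : StandardEtalePair R') (θ : Γ(W, W₀) →+* P'.Ring)
    (hθ : θ.comp (g.appLE U₁ W₀ e).hom = (algebraMap R' P'.Ring).comp a₁')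
    (y₀ : Spec (CommRingCat.of P'.Ring))
    (hy₀ : Spec.map (CommRingCat.ofHom θ) y₀ = hW₀.primeIdealOf ⟨w, hw⟩) :
    ∃ (P : StandardEtalePair R) (y : Spec (CommRingCat.of P.Ring)),
      (Spec.map (CommRingCat.ofHom (algebraMap R P.Ring)) ≫ Spec.map (CommRingCat.ofHom a₁) ≫
        hU.fromSpec) y = ι (g w) ∧
      ∀ (T : Scheme.{u}) (a : T ⟶ Spec (CommRingCat.of P.Ring)) (b : T ⟶ Z),
        a ≫ Spec.map (CommRingCat.ofHom (algebraMap R P.Ring)) ≫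
          Spec.map (CommRingCat.ofHom a₁) ≫ hU.fromSpec = b ≫ ι →
        ∃ h : T ⟶ W, h ≫ g = b := by
  obtain ⟨P, φ, hφ, hprop⟩ := exists_lift_pair.{u, u, u} π hπ P'
  have e1 : hW₀.fromSpec ≫ g = Spec.map (g.appLE U₁ W₀ e) ≫ hU₁.fromSpec :=
    (IsAffineOpen.SpecMap_appLE_fromSpec g hU₁ hW₀ e).symm
  have e2 : hU₁.fromSpec ≫ ι = Spec.map (ι.appLE U U₁ e₁) ≫ hU.fromSpec :=
    (IsAffineOpen.SpecMap_appLE_fromSpec ι hU hU₁ e₁).symm
  refine ⟨P, Spec.map (CommRingCat.ofHom φ) y₀, ?_, ?_⟩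
  · have hring : CommRingCat.ofHom a₁ ≫ CommRingCat.ofHom (algebraMap R P.Ring) ≫
        CommRingCat.ofHom φ = ι.appLE U U₁ e₁ ≫ g.appLE U₁ W₀ e ≫ CommRingCat.ofHom θ := by
      apply CommRingCat.hom_ext
      show (φ.comp (algebraMap R P.Ring)).comp a₁ =
        (θ.comp (g.appLE U₁ W₀ e).hom).comp (ι.appLE U U₁ e₁).hom
      rw [hφ, hθ, RingHom.comp_assoc, hsq, RingHom.comp_assoc]
    have hsch : Spec.map (CommRingCat.ofHom φ) ≫ Spec.map (CommRingCat.ofHom (algebraMap R P.Ring)) ≫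
        Spec.map (CommRingCat.ofHom a₁) ≫ hU.fromSpec =
        Spec.map (CommRingCat.ofHom θ) ≫ hW₀.fromSpec ≫ g ≫ ι := by
      calc Spec.map (CommRingCat.ofHom φ) ≫ Spec.map (CommRingCat.ofHom (algebraMap R P.Ring)) ≫
            Spec.map (CommRingCat.ofHom a₁) ≫ hU.fromSpec
          = Spec.map (CommRingCat.ofHom a₁ ≫ CommRingCat.ofHom (algebraMap R P.Ring) ≫
              CommRingCat.ofHom φ) ≫ hU.fromSpec := by
            simp only [Spec.map_comp, Category.assoc]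
        _ = Spec.map (ι.appLE U U₁ e₁ ≫ g.appLE U₁ W₀ e ≫ CommRingCat.ofHom θ) ≫ hU.fromSpec := by
            rw [hring]
        _ = Spec.map (CommRingCat.ofHom θ) ≫ Spec.map (g.appLE U₁ W₀ e) ≫
              Spec.map (ι.appLE U U₁ e₁) ≫ hU.fromSpec := by
            simp only [Spec.map_comp, Category.assoc]
        _ = Spec.map (CommRingCat.ofHom θ) ≫ Spec.map (g.appLE U₁ W₀ e) ≫ hU₁.fromSpec ≫ ι := by
            rw [e2]
        _ = Spec.map (CommRingCat.ofHom θ) ≫ hW₀.fromSpec ≫ g ≫ ι := by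
            rw [← Category.assoc (Spec.map (g.appLE U₁ W₀ e)), ← e1, Category.assoc]
    have h3 := congrArg (fun m => (m : _ ⟶ V) y₀) hsch
    simp only [Scheme.Hom.comp_apply] at h3 ⊢
    rw [h3, hy₀]
    exact congrArg (fun z => ι (g z)) (hW₀.fromSpec_primeIdealOf ⟨w, hw⟩)
  · intro T a b hab
    -- `b` factors through `Spec Γ(Z, U₁)`
    have hrange : Set.range b ⊆ Set.range hU₁.fromSpec := by
      rintro _ ⟨t, rfl⟩
      rw [hU₁.range_fromSpec]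
      apply hU₁'
      have h4 := congrArg (fun m => (m : T ⟶ V) t) hab
      simp only [Scheme.Hom.comp_apply] at h4
      rw [← h4]
      have : hU.fromSpec ((Spec.map (CommRingCat.ofHom a₁))
          ((Spec.map (CommRingCat.ofHom (algebraMap R P.Ring))) (a t))) ∈ Set.range hU.fromSpec :=
        ⟨_, rfl⟩
      rw [hU.range_fromSpec] at this
      exact this
    let b'' : T ⟶ Spec Γ(Z, U₁) := IsOpenImmersion.lift hU₁.fromSpec b hrange
    have hb'' : b'' ≫ hU₁.fromSpec = b := IsOpenImmersion.lift_fac _ _ _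
    let α : CommRingCat.of P.Ring ⟶ Γ(T, ⊤) := (Scheme.ΓSpecIso _).inv ≫ a.appTop
    let β₀ : Γ(Z, U₁) ⟶ Γ(T, ⊤) := (Scheme.ΓSpecIso _).inv ≫ b''.appTop
    have ha : a = toSpec T α := eq_toSpec T a
    have hb : b'' = toSpec T β₀ := eq_toSpec T b''
    have hcomp : CommRingCat.ofHom a₁ ≫ CommRingCat.ofHom (algebraMap R P.Ring) ≫ α =
        ι.appLE U U₁ e₁ ≫ β₀ := by
      apply toSpec_injective T
      have l1 : toSpec T (CommRingCat.ofHom a₁ ≫ CommRingCat.ofHom (algebraMap R P.Ring) ≫ α) =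
          a ≫ Spec.map (CommRingCat.ofHom (algebraMap R P.Ring)) ≫
            Spec.map (CommRingCat.ofHom a₁) := by
        rw [← toSpec_comp, ← toSpec_comp, ← ha, Category.assoc]
      have l2 : toSpec T (ι.appLE U U₁ e₁ ≫ β₀) = b'' ≫ Spec.map (ι.appLE U U₁ e₁) := by
        rw [← toSpec_comp, ← hb]
      rw [l1, l2, ← cancel_mono hU.fromSpec]
      simp only [Category.assoc]
      rw [hab, ← hb'', Category.assoc, e2]
    have hcomp' : (α.hom.comp (algebraMap R P.Ring)).comp a₁ =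
        β₀.hom.comp (ι.appLE U U₁ e₁).hom := by
      have := congrArg CommRingCat.Hom.hom hcomp
      exact this
    obtain ⟨β, hβ1, hβ2⟩ := hE Γ(T, ⊤) (α.hom.comp (algebraMap R P.Ring)) β₀.hom hcomp'
    obtain ⟨γ, hγ⟩ := hprop Γ(T, ⊤) α.hom β hβ1.symm
    refine ⟨toSpec T (CommRingCat.ofHom γ) ≫ Spec.map (CommRingCat.ofHom θ) ≫ hW₀.fromSpec, ?_⟩
    simp only [Category.assoc]
    rw [e1, ← Spec.map_comp_assoc, ← Category.assoc, toSpec_comp, ← hb'', hb]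
    congr 2
    apply CommRingCat.hom_ext
    show (γ.comp θ).comp (g.appLE U₁ W₀ e).hom = β₀.hom
    rw [RingHom.comp_assoc, hθ, ← RingHom.comp_assoc, hγ, hβ2]

/-- A point of `Spec B` outside `V(h)` lifts to the spectrum of any ring `E` isomorphic to
`B[1/h]`. -/
lemma exists_point_of_notMem {B E : Type u} [CommRing B] [CommRing E] (h : B)
    (ε : Localization.Away h ≃+* E) (q : PrimeSpectrum B) (hq : h ∉ q.asIdeal) :
    ∃ y₀ : Spec (CommRingCat.of E),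
      Spec.map (CommRingCat.ofHom ((ε : Localization.Away h →+* E).comp
        (algebraMap B (Localization.Away h)))) y₀ = q := by
  have hq' : q ∈ Set.range (PrimeSpectrum.comap (algebraMap B (Localization.Away h))) := by
    rw [PrimeSpectrum.localization_away_comap_range (Localization.Away h) h]
    exact hq
  obtain ⟨q', hq'⟩ := hq'
  refine ⟨PrimeSpectrum.comap (ε.symm : E →+* Localization.Away h) q', ?_⟩
  rw [← hq']
  show PrimeSpectrum.comap _ (PrimeSpectrum.comap _ q') = _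
  rw [← PrimeSpectrum.comap_comp_apply]
  congr 1
  ext x
  simp

/-- Local lifting of an étale morphism along a closed immersion. -/
theorem local_lift_etale {Z V W : Scheme.{u}} (ι : Z ⟶ V) [IsClosedImmersion ι] (g : W ⟶ Z)
    [Etale g] (w : W) :
    ∃ (V' : Scheme.{u}) (v' : V' ⟶ V) (_ : Etale v') (y : V'), v' y = ι (g w) ∧
      ∀ (T : Scheme.{u}) (a : T ⟶ V') (b : T ⟶ Z), a ≫ v' = b ≫ ι → ∃ h : T ⟶ W, h ≫ g = b := by
  obtain ⟨_, ⟨U, hU : IsAffineOpen U, rfl⟩, hιU, -⟩ :=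
    V.isBasis_affineOpens.exists_subset_of_mem_open (Set.mem_univ (ι (g w))) isOpen_univ
  have hU₁ : IsAffineOpen (ι ⁻¹ᵁ U) := hU.preimage ι
  obtain ⟨_, ⟨W₀, hW₀ : IsAffineOpen W₀, rfl⟩, hw, hWU⟩ :=
    W.isBasis_affineOpens.exists_subset_of_mem_open
      (show w ∈ (g ⁻¹ᵁ (ι ⁻¹ᵁ U) : Set W) from hιU) (g ⁻¹ᵁ (ι ⁻¹ᵁ U)).isOpen
  have e : W₀ ≤ g ⁻¹ᵁ (ι ⁻¹ᵁ U) := hWU
  let _ : Algebra Γ(Z, ι ⁻¹ᵁ U) Γ(W, W₀) := (g.appLE (ι ⁻¹ᵁ U) W₀ e).hom.toAlgebra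
  have hEt : Algebra.Etale Γ(Z, ι ⁻¹ᵁ U) Γ(W, W₀) := Etale.etale_appLE g hU₁ hW₀ e
  set q := hW₀.primeIdealOf ⟨w, hw⟩ with hq
  obtain ⟨h, hhq, hstd⟩ := Algebra.IsEtaleAt.exists_isStandardEtale (R := Γ(Z, ι ⁻¹ᵁ U))
    (S := Γ(W, W₀)) q.asIdeal
  let 𝓟 : StandardEtalePresentation Γ(Z, ι ⁻¹ᵁ U) (Localization.Away h) :=
    hstd.nonempty_standardEtalePresentation.some
  let ε : Localization.Away h ≃+* 𝓟.P.Ring := 𝓟.equivRing.toRingEquiv
  obtain ⟨y₀, hy₀⟩ := exists_point_of_notMem h ε q hhq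
  have hsurj : Function.Surjective (ι.appLE U (ι ⁻¹ᵁ U) le_rfl).hom := by
    rw [← Scheme.Hom.app_eq_appLE]
    exact ι.app_surjective U hU
  obtain ⟨P, y, hy, hP⟩ := lift_of_pair ι g hU hU₁ le_rfl (fun z hz => hz) hW₀ e w hw
    (RingHom.id _) (RingHom.id _) (ι.appLE U (ι ⁻¹ᵁ U) le_rfl).hom hsurj rfl
    (fun C _ α' β₀ hc => ⟨β₀, hc.symm, rfl⟩) 𝓟.P
    ((ε : Localization.Away h →+* 𝓟.P.Ring).comp (algebraMap Γ(W, W₀) (Localization.Away h)))
    (by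
      ext x
      show 𝓟.equivRing (algebraMap Γ(W, W₀) (Localization.Away h)
        (algebraMap Γ(Z, ι ⁻¹ᵁ U) Γ(W, W₀) x)) = algebraMap _ _ x
      rw [← IsScalarTower.algebraMap_apply, AlgEquiv.commutes]) y₀ hy₀
  refine ⟨Spec (CommRingCat.of P.Ring), Spec.map (CommRingCat.ofHom (algebraMap _ P.Ring)) ≫
    Spec.map (CommRingCat.ofHom (RingHom.id _)) ≫ hU.fromSpec, ?_, y, hy, hP⟩
  have : Etale (Spec.map (CommRingCat.ofHom (algebraMap Γ(V, U) P.Ring))) := by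
    rw [HasRingHomProperty.Spec_iff (P := @Etale)]
    exact (RingHom.etale_algebraMap).2 inferInstance
  have hid : Spec.map (CommRingCat.ofHom (RingHom.id Γ(V, U))) = 𝟙 _ := by
    rw [CommRingCat.ofHom_id]; exact Spec.map_id _
  rw [hid, Category.id_comp]
  infer_instance

/-- Local lifting of a smooth morphism along a closed immersion. -/
theorem local_lift_smooth {Z V W : Scheme.{u}} (ι : Z ⟶ V) [IsClosedImmersion ι] (g : W ⟶ Z)
    [Smooth g] (w : W) :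
    ∃ (V' : Scheme.{u}) (v' : V' ⟶ V) (_ : Smooth v') (y : V'), v' y = ι (g w) ∧
      ∀ (T : Scheme.{u}) (a : T ⟶ V') (b : T ⟶ Z), a ≫ v' = b ≫ ι → ∃ h : T ⟶ W, h ≫ g = b := by
  obtain ⟨_, ⟨U, hU : IsAffineOpen U, rfl⟩, hιU, -⟩ :=
    V.isBasis_affineOpens.exists_subset_of_mem_open (Set.mem_univ (ι (g w))) isOpen_univ
  have hU₁ : IsAffineOpen (ι ⁻¹ᵁ U) := hU.preimage ι
  obtain ⟨_, ⟨W₀, hW₀ : IsAffineOpen W₀, rfl⟩, hw, hWU⟩ :=
    W.isBasis_affineOpens.exists_subset_of_mem_open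
      (show w ∈ (g ⁻¹ᵁ (ι ⁻¹ᵁ U) : Set W) from hιU) (g ⁻¹ᵁ (ι ⁻¹ᵁ U)).isOpen
  have e : W₀ ≤ g ⁻¹ᵁ (ι ⁻¹ᵁ U) := hWU
  let _ : Algebra Γ(Z, ι ⁻¹ᵁ U) Γ(W, W₀) := (g.appLE (ι ⁻¹ᵁ U) W₀ e).hom.toAlgebra
  have hSm : Algebra.Smooth Γ(Z, ι ⁻¹ᵁ U) Γ(W, W₀) := Smooth.smooth_appLE g hU₁ hW₀ e
  set q := hW₀.primeIdealOf ⟨w, hw⟩ with hq
  obtain ⟨h, hhq, n, _, htower, hstd⟩ :=
    Algebra.IsSmoothAt.exists_isStandardEtale_mvPolynomial (R := Γ(Z, ι ⁻¹ᵁ U))
      (S := Γ(W, W₀)) (p := q.asIdeal)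
  let 𝓟 : StandardEtalePresentation (MvPolynomial (Fin n) Γ(Z, ι ⁻¹ᵁ U)) (Localization.Away h) :=
    hstd.nonempty_standardEtalePresentation.some
  let ε : Localization.Away h ≃+* 𝓟.P.Ring := 𝓟.equivRing.toRingEquiv
  obtain ⟨y₀, hy₀⟩ := exists_point_of_notMem h ε q hhq
  have hsurj : Function.Surjective (ι.appLE U (ι ⁻¹ᵁ U) le_rfl).hom := by
    rw [← Scheme.Hom.app_eq_appLE]
    exact ι.app_surjective U hU
  obtain ⟨P, y, hy, hP⟩ := lift_of_pair ι g hU hU₁ le_rfl (fun z hz => hz) hW₀ e w hw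
    (MvPolynomial.C (σ := Fin n)) (MvPolynomial.C (σ := Fin n))
    (MvPolynomial.map (ι.appLE U (ι ⁻¹ᵁ U) le_rfl).hom) (MvPolynomial.map_surjective _ hsurj)
    (by ext x; simp)
    (fun C _ α' β₀ hc => by
      refine ⟨MvPolynomial.eval₂Hom β₀ (fun k => α' (MvPolynomial.X k)), ?_, ?_⟩
      · apply MvPolynomial.ringHom_ext
        · intro x
          have := congrArg (fun m => m x) hc
          simpa using this.symm
        · intro k
          simp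
      · ext x
        simp) 𝓟.P
    ((ε : Localization.Away h →+* 𝓟.P.Ring).comp (algebraMap Γ(W, W₀) (Localization.Away h)))
    (by
      ext x
      show 𝓟.equivRing (algebraMap Γ(W, W₀) (Localization.Away h)
        (algebraMap Γ(Z, ι ⁻¹ᵁ U) Γ(W, W₀) x)) =
          algebraMap (MvPolynomial (Fin n) Γ(Z, ι ⁻¹ᵁ U)) 𝓟.P.Ring (MvPolynomial.C x)
      rw [← IsScalarTower.algebraMap_apply, ← AlgEquiv.commutes 𝓟.equivRing,
        ← MvPolynomial.algebraMap_eq, ← IsScalarTower.algebraMap_apply]) y₀ hy₀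
  refine ⟨Spec (CommRingCat.of P.Ring), Spec.map (CommRingCat.ofHom (algebraMap _ P.Ring)) ≫
    Spec.map (CommRingCat.ofHom (MvPolynomial.C (σ := Fin n))) ≫ hU.fromSpec, ?_, y, hy, hP⟩
  have h1 : Etale (Spec.map (CommRingCat.ofHom
      (algebraMap (MvPolynomial (Fin n) Γ(V, U)) P.Ring))) := by
    rw [HasRingHomProperty.Spec_iff (P := @Etale)]
    exact (RingHom.etale_algebraMap).2 inferInstance
  have h2 : Smooth (Spec.map (CommRingCat.ofHom
      (MvPolynomial.C (σ := Fin n) (R := Γ(V, U))))) := by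
    rw [HasRingHomProperty.Spec_iff (P := @Smooth)]
    exact (RingHom.smooth_algebraMap (R := Γ(V, U)) (S := MvPolynomial (Fin n) Γ(V, U))).2
      ⟨inferInstance, inferInstance⟩
  infer_instance

end Groth.Agent.Lib.Helper24.AlmCoc
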