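import Mathlib
import Groth.Prelude.Def_BigSite
import Groth.Agent.Lib.Helper24.AlmCocB

set_option autoImplicit false
set_option backward.isDefEq.respectTransparency false
set_option backward.isDefEq.respectTransparency.types false

/-!
# Base change along a closed immersion is almost cocontinuous (étale / smooth) (helper24)
-/

namespace Groth.Agent.Lib.Helper24.AlmCoc

open AlgebraicGeometry CategoryTheory Limits Opposite

universe u

/-- The local lifting property of a class of morphisms along closed immersions. -/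
def LocalLift (P : MorphismProperty Scheme.{u}) : Prop :=
  ∀ {Z V W : Scheme.{u}} (ι : Z ⟶ V) [IsClosedImmersion ι] (g : W ⟶ Z), P g → ∀ w : W,
    ∃ (V' : Scheme.{u}) (v' : V' ⟶ V), P v' ∧ ∃ y : V', v' y = ι (g w) ∧
      ∀ (T : Scheme.{u}) (a : T ⟶ V') (b : T ⟶ Z), a ≫ v' = b ≫ ι → ∃ h : T ⟶ W, h ≫ g = b

lemma localLift_etale : LocalLift.{u} @Etale := by
  intro Z V W ι _ g hg w
  have : Etale g := hg
  obtain ⟨V', v', hv', y, hy, h⟩ := local_lift_etale ι g w
  exact ⟨V', v', hv', y, hy, h⟩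

lemma localLift_smooth : LocalLift.{u} @Smooth := by
  intro Z V W ι _ g hg w
  have : Smooth g := hg
  obtain ⟨V', v', hv', y, hy, h⟩ := local_lift_smooth ι g w
  exact ⟨V', v', hv', y, hy, h⟩

/-- A family indexed by `Option Z`. -/
def optObj {Z : Type u} (A : Scheme.{u}) (B : Z → Scheme.{u}) : Option Z → Scheme.{u}
  | none => A
  | some z => B z

/-- Morphisms out of a family indexed by `Option Z`. -/
def optMap {Z : Type u} {V : Scheme.{u}} (A : Scheme.{u}) (B : Z → Scheme.{u}) (a : A ⟶ V)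
    (b : ∀ z, B z ⟶ V) : ∀ o : Option Z, optObj A B o ⟶ V
  | none => a
  | some z => b z

/-- The covering built from local liftings. -/
theorem exists_cover {P : MorphismProperty Scheme.{u}} (hP : LocalLift P)
    (hopen : ∀ {A B : Scheme.{u}} (j : A ⟶ B) [IsOpenImmersion j], P j)
    {Z V : Scheme.{u}} (ι : Z ⟶ V) [IsClosedImmersion ι] (𝒰 : Scheme.Cover.{u} (Scheme.precoverage P) Z) :
    ∃ 𝒱 : Scheme.Cover.{u} (Scheme.precoverage P) V, ∀ j : 𝒱.I₀,
      (∀ (T : Scheme.{u}) (a : T ⟶ 𝒱.X j) (b : T ⟶ Z), a ≫ 𝒱.f j = b ≫ ι → IsEmpty T) ∨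
      (∃ i : 𝒰.I₀, ∀ (T : Scheme.{u}) (a : T ⟶ 𝒱.X j) (b : T ⟶ Z), a ≫ 𝒱.f j = b ≫ ι →
        ∃ h : T ⟶ 𝒰.X i, h ≫ 𝒰.f i = b) := by
  classical
  have hcov : ∀ z : Z, ∃ (i : 𝒰.I₀) (w : 𝒰.X i), 𝒰.f i w = z := fun z => 𝒰.exists_eq z
  choose i₀ w₀ hw₀ using hcov
  have hl := fun z : Z => hP ι (𝒰.f (i₀ z)) (𝒰.map_prop (i₀ z)) (w₀ z)
  choose V' v' hv' y hy hlift using hl
  let Uc : V.Opens := ⟨(Set.range ι)ᶜ, ι.isClosedEmbedding.isClosed_range.isOpen_compl⟩
  have hmapP : ∀ o, P (optMap (Uc : Scheme.{u}) V' Uc.ι v' o) := by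
    rintro (_ | z)
    · exact hopen Uc.ι
    · exact hv' z
  have hcovers : ∀ x : V, ∃ (o : Option (Z : Type u)) (t : optObj (Uc : Scheme.{u}) V' o),
      optMap (Uc : Scheme.{u}) V' Uc.ι v' o t = x := by
    intro x
    by_cases hx : x ∈ Set.range ι
    · obtain ⟨z, rfl⟩ := hx
      refine ⟨some z, y z, ?_⟩
      show v' z (y z) = ι z
      rw [hy z, hw₀ z]
    · exact ⟨none, ⟨x, hx⟩, rfl⟩
  refine ⟨Scheme.Cover.mkOfCovers (Option (Z : Type u)) (optObj (Uc : Scheme.{u}) V')
    (optMap (Uc : Scheme.{u}) V' Uc.ι v') hcovers hmapP, ?_⟩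
  rintro (_ | z)
  · left
    intro T a b hab
    refine ⟨fun t => ?_⟩
    have h1 := congrArg (fun m => (m : T ⟶ V) t) hab
    simp only [Scheme.Hom.comp_apply] at h1
    have h2 : (Uc.ι : (Uc : Scheme.{u}) ⟶ V) (a t) ∈ (Set.range ι)ᶜ := (a t).2
    apply h2
    exact ⟨b t, h1.symm⟩
  · right
    exact ⟨i₀ z, fun T a b hab => hlift z T a b hab⟩

/-- Base change along a closed immersion is almost cocontinuous for the big `P`-sites, `P` having
the local lifting property. -/
theorem isAlmostCocontinuous {P : MorphismProperty Scheme.{u}} [P.IsStableUnderBaseChange]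
    [P.IsMultiplicative] (hP : LocalLift P)
    (hopen : ∀ {A B : Scheme.{u}} (j : A ⟶ B) [IsOpenImmersion j], P j)
    {X Y : Scheme.{u}} (f : X ⟶ Y) [IsClosedImmersion f] :
    BigSite.IsAlmostCocontinuous (Over.pullback f)
      ((Scheme.precoverage P).toGrothendieck.over Y)
      ((Scheme.precoverage P).toGrothendieck.over X) := by
  intro V R hR
  rw [GrothendieckTopology.mem_over_iff] at hR
  obtain ⟨𝒰, h𝒰⟩ := Scheme.exists_cover_of_mem_grothendieckTopology hR
  let ι : pullback V.hom f ⟶ V.left := pullback.fst V.hom f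
  have hι : IsClosedImmersion ι := inferInstance
  obtain ⟨𝒱, h𝒱⟩ := exists_cover hP hopen ι 𝒰
  refine ⟨(Sieve.overEquiv V).symm (Sieve.ofArrows 𝒱.X 𝒱.f), ?_, ?_⟩
  · apply GrothendieckTopology.overEquiv_symm_mem_over
    exact 𝒱.mem_grothendieckTopology
  · intro V' g hg
    rw [Sieve.overEquiv_symm_iff, Sieve.mem_ofArrows_iff] at hg
    obtain ⟨j, a, ha⟩ := hg
    let m := (Over.pullback f).map g
    have hm : m.left ≫ ι = pullback.fst V'.hom f ≫ g.left := by
      simp [m, ι]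
    have hab : (pullback.fst V'.hom f ≫ a) ≫ 𝒱.f j = m.left ≫ ι := by
      rw [Category.assoc, ← ha, hm]
    rcases h𝒱 j with hempty | ⟨i, hi⟩
    · left
      have hE : IsEmpty ↥(pullback V'.hom f) := hempty _ _ _ hab
      rw [GrothendieckTopology.mem_over_iff, map_bot]
      have hE' : IsEmpty ↥((Over.pullback f).obj V').left := hE
      exact Scheme.bot_mem_grothendieckTopology _
    · right
      obtain ⟨h, hh⟩ := hi _ _ _ hab
      have h1 : (Sieve.overEquiv _ R) m.left := by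
        rw [← hh]
        exact Sieve.downward_closed _ (h𝒰 _ _ (Presieve.ofArrows.mk i)) h
      have h2 : ((Sieve.overEquiv _).symm (Sieve.overEquiv _ R)) m :=
        (Sieve.overEquiv_symm_iff _ m).2 h1
      rwa [OrderIso.symm_apply_apply] at h2

end Groth.Agent.Lib.Helper24.AlmCoc
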