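import Mathlib
import Groth.Prelude.Def_BigSite

set_option autoImplicit false
set_option backward.isDefEq.respectTransparency false
set_option backward.isDefEq.respectTransparency.types false

/-!
# Almost cocontinuous functors between big sites: exactness of the direct image (helper24)

Universe-generalised versions of the arguments of `Groth.Agent.S6441` / `Groth.Agent.S6440`
(categories in `Type (u+1)` with `u`-small homs, sheaves with values in `Type (u+1)`).
-/

namespace Groth.Agent.Lib.Helper24.AlmCoc

open CategoryTheory CategoryTheory.Limits Opposite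

universe u

theorem isIso_comparison {C D : Type (u + 1)} [Category.{u} C] [Category.{u} D]
    (J : GrothendieckTopology C) (K : GrothendieckTopology D) (u : C ⥤ D) [u.IsContinuous J K]
    (hu : BigSite.IsAlmostCocontinuous u J K) (G : Dᵒᵖ ⥤ Type (u + 1))
    (hG : ∀ V : D, (⊥ : Sieve V) ∈ K V → Nonempty (Unique (G.obj (op V)))) :
    IsIso (((sheafificationAdjunction J (Type (u + 1))).homEquiv (u.op ⋙ G)
      ((u.sheafPushforwardContinuous (Type (u + 1)) J K).obj ((presheafToSheaf K (Type (u + 1))).obj G))).symm
        (Functor.whiskerLeft u.op (toSheafify K G))) := by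
  have hsingle : ∀ V : D, (⊥ : Sieve V) ∈ K V →
      Subsingleton ((sheafify K G).obj (Opposite.op V)) := by
    intro V hV
    have hsh : Presieve.IsSheaf K (sheafify K G) :=
      (isSheaf_iff_isSheaf_of_type _ _).1 ((presheafToSheaf K (Type (u + 1))).obj G).property
    exact ⟨fun a b => (hsh _ hV).isSeparatedFor.ext (fun _ _ h => h.elim)⟩
  have hinj : Presheaf.IsLocallyInjective J (Functor.whiskerLeft u.op (toSheafify K G)) := by
    refine ⟨fun {X} x y h => ?_⟩
    have hR := Presheaf.equalizerSieve_mem K (toSheafify K G) (X := Opposite.op (u.obj X.unop)) x y h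
    obtain ⟨R', hR', hR'2⟩ := hu X.unop _ hR
    refine J.superset_covering ?_ hR'
    intro V g hg
    rcases hR'2 g hg with hemp | hin
    · obtain ⟨hU⟩ := hG _ hemp
      exact (hU.instSubsingleton).elim _ _
    · exact hin
  have hsurj : Presheaf.IsLocallySurjective J (Functor.whiskerLeft u.op (toSheafify K G)) := by
    refine ⟨fun {U} s => ?_⟩
    have hR := Presheaf.imageSieve_mem K (toSheafify K G) (U := Opposite.op (u.obj U)) s
    obtain ⟨R', hR', hR'2⟩ := hu U _ hR
    refine J.superset_covering ?_ hR'
    intro V g hg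
    rcases hR'2 g hg with hemp | hin
    · obtain ⟨hU⟩ := hG _ hemp
      have := hsingle _ hemp
      exact ⟨hU.default, Subsingleton.elim _ _⟩
    · exact hin
  have hW : J.W (Functor.whiskerLeft u.op (toSheafify K G)) :=
    (J.W_iff_isLocallyBijective _).2 ⟨hinj, hsurj⟩
  have hiso : IsIso ((presheafToSheaf J (Type (u + 1))).map (Functor.whiskerLeft u.op (toSheafify K G))) :=
    (J.W_iff _).1 hW
  rw [Adjunction.homEquiv_counit]
  exact IsIso.comp_isIso' hiso inferInstance


theorem preservesColimitsOfShape_push {C D : Type (u + 1)} [Category.{u} C] [Category.{u} D]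
    (J : GrothendieckTopology C) (K : GrothendieckTopology D) (u : C ⥤ D) [u.IsContinuous J K]
    (hu : BigSite.IsAlmostCocontinuous u J K) (I : Type) [SmallCategory I] [FinCategory I] [IsConnected I] :
    PreservesColimitsOfShape I (u.sheafPushforwardContinuous (Type (u + 1)) J K) := by
  constructor
  intro F
  let W := (Functor.whiskeringLeft Cᵒᵖ Dᵒᵖ (Type (u + 1))).obj u.op
  let P := F ⋙ sheafToPresheaf K (Type (u + 1))
  let cP := colimit.cocone P
  have hcP : IsColimit cP := colimit.isColimit P
  have hG : ∀ V : D, (⊥ : Sieve V) ∈ K V → Nonempty (Unique (cP.pt.obj (Opposite.op V))) := by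
    intro V hV
    have hev : IsColimit (((evaluation Dᵒᵖ (Type (u + 1))).obj (Opposite.op V)).mapCocone cP) :=
      isColimitOfPreserves _ hcP
    have huniq : ∀ i : I, Nonempty (Unique ((F.obj i).obj.obj (Opposite.op V))) := fun i => by
      have hsh : Presieve.IsSheaf K (F.obj i).obj :=
        (isSheaf_iff_isSheaf_of_type _ _).1 (F.obj i).property
      obtain ⟨t, -, ht⟩ := hsh _ hV (fun _ _ h => h.elim) (fun _ _ _ _ _ _ _ h₁ => h₁.elim)
      exact ⟨⟨⟨t⟩, fun a => ht a (fun _ _ h => h.elim)⟩⟩
    let un : ∀ i : I, Unique ((F.obj i).obj.obj (Opposite.op V)) := fun i => (huniq i).some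
    obtain ⟨i₀⟩ : Nonempty I := inferInstance
    let c' := ((evaluation Dᵒᵖ (Type (u + 1))).obj (Opposite.op V)).mapCocone cP
    let e : I → cP.pt.obj (Opposite.op V) := fun i => c'.ι.app i (un i).default
    have hconst : ∀ i j, e i = e j := constant_of_preserves_morphisms e (fun i j f => by
      have h1 := ConcreteCategory.congr_hom (c'.w f) (un i).default
      rw [ConcreteCategory.comp_apply] at h1
      show c'.ι.app i (un i).default = c'.ι.app j (un j).default
      exact h1.symm.trans (congrArg _ ((un j).uniq _)))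
    refine ⟨⟨⟨e i₀⟩, fun a => ?_⟩⟩
    obtain ⟨i, x, rfl⟩ := Types.jointly_surjective_of_isColimit hev a
    rw [(un i).uniq x]
    exact hconst i i₀
  let sc : Cocone F := Sheaf.sheafifyCocone cP
  have hsc : IsColimit sc := Sheaf.isColimitSheafifyCocone cP hcP
  refine preservesColimit_of_preserves_colimit_cocone hsc ?_
  let E'' : Cocone ((F ⋙ u.sheafPushforwardContinuous (Type (u + 1)) J K) ⋙ sheafToPresheaf J (Type (u + 1))) :=
    W.mapCocone cP
  have hE'' : IsColimit E'' := isColimitOfPreserves W hcP
  have h2 := Sheaf.isColimitSheafifyCocone E'' hE''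
  have hψ := isIso_comparison J K u hu cP.pt hG
  refine IsColimit.ofIsoColimit h2 (Cocone.ext (@asIso _ _ _ _ (((sheafificationAdjunction J (Type (u + 1))).homEquiv
    (u.op ⋙ cP.pt) ((u.sheafPushforwardContinuous (Type (u + 1)) J K).obj
      ((presheafToSheaf K (Type (u + 1))).obj cP.pt))).symm
        (Functor.whiskerLeft u.op (toSheafify K cP.pt))) hψ) ?_)
  intro i
  apply (sheafToPresheaf J (Type (u + 1))).map_injective
  rw [Functor.map_comp]
  show ((Sheaf.sheafifyCocone E'').ι.app i).hom ≫ _ = _
  rw [Sheaf.sheafifyCocone_ι_app_val]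
  have h3 : toSheafify J E''.pt ≫ (sheafToPresheaf J (Type (u + 1))).map
      (((sheafificationAdjunction J (Type (u + 1))).homEquiv
        (u.op ⋙ cP.pt) ((u.sheafPushforwardContinuous (Type (u + 1)) J K).obj
          ((presheafToSheaf K (Type (u + 1))).obj cP.pt))).symm
            (Functor.whiskerLeft u.op (toSheafify K cP.pt))) =
      Functor.whiskerLeft u.op (toSheafify K cP.pt) := by
    have := (sheafificationAdjunction J (Type (u + 1))).homEquiv_unit (X := u.op ⋙ cP.pt)
      (Y := (u.sheafPushforwardContinuous (Type (u + 1)) J K).obj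
          ((presheafToSheaf K (Type (u + 1))).obj cP.pt))
      (f := ((sheafificationAdjunction J (Type (u + 1))).homEquiv
        (u.op ⋙ cP.pt) ((u.sheafPushforwardContinuous (Type (u + 1)) J K).obj
          ((presheafToSheaf K (Type (u + 1))).obj cP.pt))).symm
            (Functor.whiskerLeft u.op (toSheafify K cP.pt)))
    rw [Equiv.apply_symm_apply, sheafificationAdjunction_unit_app] at this
    exact this.symm
  refine (Category.assoc _ _ _).trans ?_
  refine (congrArg (fun t => E''.ι.app i ≫ t) h3).trans ?_
  show Functor.whiskerLeft u.op (cP.ι.app i) ≫ Functor.whiskerLeft u.op (toSheafify K cP.pt) =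
    Functor.whiskerLeft u.op ((Sheaf.sheafifyCocone cP).ι.app i).hom
  rw [Sheaf.sheafifyCocone_ι_app_val]
  rfl


end Groth.Agent.Lib.Helper24.AlmCoc
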