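import Mathlib
import Groth.Prelude.Def_BigSite
import Groth.Agent.Lib.Helper24.AlmCocD

set_option autoImplicit false
set_option backward.isDefEq.respectTransparency false
set_option backward.isDefEq.respectTransparency.types false

/-!
# Exactness of the direct image along an almost cocontinuous functor (helper24)
-/

namespace Groth.Agent.Lib.Helper24.AlmCoc

open CategoryTheory CategoryTheory.Limits Opposite

universe u

/-- Direct image along a continuous almost cocontinuous functor preserves epimorphisms of
abelian sheaves. -/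
theorem push_epi {C D : Type (u + 1)} [Category.{u} C] [Category.{u} D]
    (J : GrothendieckTopology C) (K : GrothendieckTopology D) (F : C ⥤ D) [F.IsContinuous J K]
    (hu : BigSite.IsAlmostCocontinuous F J K)
    [HasSheafify J AddCommGrpCat.{u + 1}] [HasSheafify K AddCommGrpCat.{u + 1}]
    [J.WEqualsLocallyBijective AddCommGrpCat.{u + 1}]
    [K.WEqualsLocallyBijective AddCommGrpCat.{u + 1}]
    [J.HasSheafCompose (forget AddCommGrpCat.{u + 1})]
    [K.HasSheafCompose (forget AddCommGrpCat.{u + 1})]
    [Balanced (Sheaf J AddCommGrpCat.{u + 1})] [Balanced (Sheaf K AddCommGrpCat.{u + 1})]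
    {A B : Sheaf K AddCommGrpCat.{u + 1}} (φ : A ⟶ B) [Epi φ] :
    Epi ((F.sheafPushforwardContinuous AddCommGrpCat.{u + 1} J K).map φ) := by
  rw [← Sheaf.isLocallySurjective_iff_epi' AddCommGrpCat.{u + 1}] at *
  rename_i hφ
  have hsep : ∀ (T : D), (⊥ : Sieve T) ∈ K T → ∀ a b : B.obj.obj (op T), a = b := by
    intro T hT a b
    have h1 : Presheaf.IsSheaf K (B.obj ⋙ forget AddCommGrpCat.{u + 1}) :=
      ((sheafCompose K (forget AddCommGrpCat.{u + 1})).obj B).property
    have h2 : Presieve.IsSheaf K (B.obj ⋙ forget AddCommGrpCat.{u + 1}) :=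
      (isSheaf_iff_isSheaf_of_type _ _).1 h1
    exact (h2 _ hT).isSeparatedFor.ext (fun _ _ h => h.elim)
  refine ⟨fun {U} s => ?_⟩
  have hR := Presheaf.imageSieve_mem K φ.hom (U := op (F.obj U)) s
  obtain ⟨R', hR', hR'2⟩ := hu U _ hR
  refine J.superset_covering ?_ hR'
  intro V g hg
  rcases hR'2 g hg with hemp | hin
  · exact ⟨0, hsep _ hemp _ _⟩
  · exact hin

open AlgebraicGeometry in
/-- Exactness properties of the big direct image along a morphism whose base change functor is
almost cocontinuous. -/
theorem pushBig_exact {X Y : Scheme.{u}} (f : X ⟶ Y) (K : Precoverage Scheme.{u})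
    (hac : BigSite.IsAlmostCocontinuous (Over.pullback f) (QuotSh.J K Y) (QuotSh.J K X)) :
    PreservesColimitsOfShape WalkingParallelPair (BigSite.pushBig K f (Type (u + 1))) ∧
      PreservesColimitsOfShape WalkingSpan (BigSite.pushBig K f (Type (u + 1))) ∧
      PreservesFiniteColimits (BigSite.pushBig K f AddCommGrpCat.{u + 1}) := by
  refine ⟨preservesColimitsOfShape_push _ _ _ hac _, preservesColimitsOfShape_push _ _ _ hac _, ?_⟩
  have hlim : PreservesFiniteLimits (BigSite.pushBig K f AddCommGrpCat.{u + 1}) := by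
    have := (BigSite.bigAdj K f AddCommGrpCat.{u + 1}).rightAdjoint_preservesLimits
    infer_instance
  rw [Functor.preservesFiniteColimits_iff_forall_exact_map_and_epi]
  intro S hS
  have h30 : PreservesFiniteLimits (BigSite.pushBig K f AddCommGrpCat.{u + 1}) →
      ∀ (S : ShortComplex (BigSite.Ab K X)), S.ShortExact →
        (S.map (BigSite.pushBig K f AddCommGrpCat.{u + 1})).Exact ∧
          Mono ((BigSite.pushBig K f AddCommGrpCat.{u + 1}).map S.f) :=
    ((Functor.preservesFiniteLimits_tfae (BigSite.pushBig K f AddCommGrpCat.{u + 1})).out 3 0).1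
  refine ⟨(h30 hlim S hS).1, ?_⟩
  have := hS.epi_g
  exact push_epi _ _ (Over.pullback f) hac S.g

end Groth.Agent.Lib.Helper24.AlmCoc
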