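import Mathlib
import Groth.Prelude.Def_Hyper

set_option backward.isDefEq.respectTransparency false
set_option backward.isDefEq.respectTransparency.types false
set_option autoImplicit false

universe u

open CategoryTheory CategoryTheory.Limits Opposite TopologicalSpace Simplicial SimplexCategory

namespace Groth.Agent.Lib.Helper24.BasisHyp

/-- Faces of a simplex, presented by maps. -/
abbrev Fc (b : SimplexCategory) : Type := Σ k : ℕ, (⦋k⦌ ⟶ b)

/-- The factorization preorder on faces. -/
def fle {b : SimplexCategory} (x y : Fc b) : Prop := ∃ α : ⦋x.1⦌ ⟶ ⦋y.1⦌, x.2 = α ≫ y.2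

theorem fle_refl {b : SimplexCategory} (x : Fc b) : fle x x := ⟨𝟙 _, (Category.id_comp _).symm⟩

theorem fle_trans {b : SimplexCategory} {x y z : Fc b} (h1 : fle x y) (h2 : fle y z) : fle x z := by
  obtain ⟨α, hα⟩ := h1
  obtain ⟨β, hβ⟩ := h2
  exact ⟨α ≫ β, by rw [hα, hβ, Category.assoc]⟩

/-- The top face. -/
abbrev ftop (b : SimplexCategory) : Fc b := ⟨b.len, 𝟙 _⟩

theorem fle_top {b : SimplexCategory} (x : Fc b) : fle x (ftop b) :=
  ⟨x.2, (Category.comp_id _).symm⟩

/-- Pushing a face forward. -/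
abbrev push {a b : SimplexCategory} (θ : a ⟶ b) (x : Fc a) : Fc b := ⟨x.1, x.2 ≫ θ⟩

theorem push_mono {a b : SimplexCategory} (θ : a ⟶ b) {x y : Fc a} (h : fle x y) :
    fle (push θ x) (push θ y) := by
  obtain ⟨α, hα⟩ := h
  exact ⟨α, by change x.2 ≫ θ = α ≫ y.2 ≫ θ; rw [hα, Category.assoc]⟩

theorem push_id {b : SimplexCategory} (x : Fc b) : push (𝟙 b) x = x :=
  Sigma.ext rfl (heq_of_eq (Category.comp_id _))

theorem push_comp {a b c : SimplexCategory} (θ : a ⟶ b) (θ' : b ⟶ c) (x : Fc a) :
    push (θ ≫ θ') x = push θ' (push θ x) := rfl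

variable {X : TopCat.{u}} (B : Set (Opens X))

/-- Diagrams of basis elements on the faces of a simplex. -/
structure Dg (b : SimplexCategory) : Type u where
  F : Fc b → Opens X
  mem : ∀ x, F x ∈ B
  anti : ∀ x y, fle x y → F y ≤ F x

variable {B}

@[ext]
theorem Dg.ext' {b : SimplexCategory} {D D' : Dg B b} (h : ∀ x, D.F x = D'.F x) : D = D' := by
  obtain ⟨F, _, _⟩ := D
  obtain ⟨F', _, _⟩ := D'
  have : F = F' := funext h
  subst this
  rfl

/-- Pullback of diagrams. -/
def Dg.pull {a b : SimplexCategory} (θ : a ⟶ b) (D : Dg B b) : Dg B a where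
  F x := D.F (push θ x)
  mem _ := D.mem _
  anti x y h := D.anti _ _ (push_mono θ h)

theorem Dg.pull_id {b : SimplexCategory} (D : Dg B b) : D.pull (𝟙 b) = D :=
  Dg.ext' (fun x => congrArg D.F (push_id x))

theorem Dg.pull_comp {a b c : SimplexCategory} (θ : a ⟶ b) (θ' : b ⟶ c) (D : Dg B c) :
    D.pull (θ ≫ θ') = (D.pull θ').pull θ := rfl

instance over_thin (A A' : Over (⊤ : Opens X)) : Subsingleton (A ⟶ A') :=
  ⟨fun _ _ => Over.OverMorphism.ext (Subsingleton.elim _ _)⟩

/-- The component objects. -/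
abbrev cobj {b : SimplexCategory} (D : Dg B b) : Over (⊤ : Opens X) :=
  Over.mk (homOfLE (le_top : D.F (ftop b) ≤ ⊤))

variable (B)

/-- The levels of the canonical hypercovering. -/
abbrev lev (b : SimplexCategory) : FormalCoproduct.{u} (Over (⊤ : Opens X)) :=
  ⟨Dg B b, fun D => cobj D⟩

/-- The transition maps. -/
def levMap {a b : SimplexCategory} (θ : a ⟶ b) : lev B b ⟶ lev B a where
  f D := D.pull θ
  φ D := Over.homMk (homOfLE (D.anti _ _ (fle_top (push θ (ftop a)))))

/-- The canonical hypercovering. -/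
def KK : SimplicialObject (FormalCoproduct.{u} (Over (⊤ : Opens X))) where
  obj b := lev B b.unop
  map θ := levMap B θ.unop
  map_id b := by
    refine FormalCoproduct.hom_ext (funext fun D => Dg.pull_id D) (fun D => Subsingleton.elim _ _)
  map_comp θ θ' := by
    refine FormalCoproduct.hom_ext rfl (fun D => Subsingleton.elim _ _)

end Groth.Agent.Lib.Helper24.BasisHyp
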