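import Mathlib

set_option backward.isDefEq.respectTransparency false
set_option backward.isDefEq.respectTransparency.types false
set_option autoImplicit false

universe v u

open CategoryTheory CategoryTheory.Limits Opposite

namespace Groth.Agent.Lib.Helper24.KanLeg

variable {A : Type u} [Category.{v} A]
  [∀ (n : ℕ) (F : (SimplexCategory.Truncated n)ᵒᵖ ⥤ A),
    (SimplexCategory.Truncated.inclusion n).op.HasRightKanExtension F]
  (K : SimplicialObject A) (n : ℕ) (p : SimplexCategory)

/-- The structured arrow category indexing the coskeleton. -/
abbrev SA : Type := StructuredArrow (op p) (SimplexCategory.Truncated.inclusion n).op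

/-- The cone given by the coskeleton. -/
noncomputable def kanCone :
    Cone (StructuredArrow.proj (op p) (SimplexCategory.Truncated.inclusion n).op ⋙
      (SimplicialObject.truncation n).obj K) :=
  (Functor.RightExtension.mk ((SimplicialObject.cosk n).obj K)
    ((SimplicialObject.coskAdj n).counit.app ((SimplicialObject.truncation n).obj K))).coneAt (op p)

/-- The coskeleton cone is a limit cone. -/
noncomputable def kanIsLimit
    [(SimplexCategory.Truncated.inclusion n).op.HasPointwiseRightKanExtension
      ((SimplicialObject.truncation n).obj K)] : IsLimit (kanCone K n p) :=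
  haveI : (SimplexCategory.Truncated.inclusion n).op.HasPointwiseRightKanExtension
      ((𝟭 (SimplicialObject.Truncated A n)).obj ((SimplicialObject.truncation n).obj K)) :=
    ‹_›
  Functor.isPointwiseRightKanExtensionOfIsRightKanExtension ((SimplicialObject.cosk n).obj K)
    ((SimplicialObject.coskAdj n).counit.app ((SimplicialObject.truncation n).obj K)) (op p)

theorem unit_leg (g : SA n p) :
    ((SimplicialObject.coskAdj n).unit.app K).app (op p) ≫ (kanCone K n p).π.app g =
      K.map g.hom := by
  have h1 : ((SimplicialObject.coskAdj n).unit.app K).app (op p) ≫
      ((SimplicialObject.cosk n).obj K).map g.hom =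
      K.map g.hom ≫ ((SimplicialObject.coskAdj n).unit.app K).app _ :=
    (((SimplicialObject.coskAdj n).unit.app K).naturality g.hom).symm
  have h2 : ((SimplicialObject.coskAdj n).unit.app K).app
        ((SimplexCategory.Truncated.inclusion n).op.obj g.right) ≫
      ((SimplicialObject.coskAdj n).counit.app ((SimplicialObject.truncation n).obj K)).app
        g.right = 𝟙 _ :=
    congrArg (fun k => k.app g.right) ((SimplicialObject.coskAdj n).left_triangle_components K)
  change _ ≫ (((SimplicialObject.cosk n).obj K).map g.hom ≫
    ((SimplicialObject.coskAdj n).counit.app ((SimplicialObject.truncation n).obj K)).app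
      g.right) = _
  exact (Category.assoc _ _ _).symm.trans ((congrArg (fun k => k ≫
      ((SimplicialObject.coskAdj n).counit.app ((SimplicialObject.truncation n).obj K)).app
        g.right) h1).trans ((Category.assoc _ _ _).trans
          ((congrArg (fun k => K.map g.hom ≫ k) h2).trans (Category.comp_id _))))

end Groth.Agent.Lib.Helper24.KanLeg
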