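import Mathlib
import Groth.Prelude.Def_Hyper
import Groth.Agent.Lib.Helper24.BasisHypA
import Groth.Agent.Lib.Helper24.KanLeg

set_option backward.isDefEq.respectTransparency false
set_option backward.isDefEq.respectTransparency.types false
set_option autoImplicit false

universe u

open CategoryTheory CategoryTheory.Limits Opposite TopologicalSpace Simplicial SimplexCategory

namespace Groth.Agent.Lib.Helper24.BasisHyp

theorem len_image_le (a b : SimplexCategory) (φ : a ⟶ b) : (image φ).len ≤ a.len :=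
  len_le_of_epi (factorThruImage φ)

theorem len_image_comp_le {a b c : SimplexCategory} (χ : c ⟶ a) (φ : a ⟶ b) :
    (image (χ ≫ φ)).len ≤ (image φ).len := by
  let F' : MonoFactorisation (χ ≫ φ) :=
    { I := image φ
      m := image.ι φ
      e := χ ≫ factorThruImage φ
      fac := by rw [Category.assoc, image.fac] }
  have h1 : image.lift F' ≫ image.ι φ = image.ι (χ ≫ φ) := image.lift_fac F'
  haveI : Mono (image.lift F') := mono_of_mono_fac h1
  exact len_le_of_mono (image.lift F')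

theorem len_image_id (b : SimplexCategory) : (image (𝟙 b)).len = b.len := by
  apply le_antisymm (len_image_le _ _ _)
  haveI : Mono (factorThruImage (𝟙 b)) := mono_of_mono_fac (image.fac (𝟙 b))
  exact len_le_of_mono (factorThruImage (𝟙 b))


variable {X : TopCat.{u}} (B : Set (Opens X))

/-- A compatible family of diagrams on the `n`-skeleton of the `(n+1)`-simplex. -/
structure CFam (n : ℕ) where
  Fd : ∀ (a : SimplexCategory) (_ : a.len ≤ n) (_ : a ⟶ ⦋n + 1⦌), Dg B a
  compat : ∀ (a : SimplexCategory) (ha : a.len ≤ n) (a' : SimplexCategory) (ha' : a'.len ≤ n)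
    (φ : a ⟶ ⦋n + 1⦌) (ψ : a' ⟶ a), Fd a' ha' (ψ ≫ φ) = (Fd a ha φ).pull ψ
  Y : Opens X
  hY : ∀ (a : SimplexCategory) (ha : a.len ≤ n) (φ : a ⟶ ⦋n + 1⦌), Y ≤ (Fd a ha φ).F (ftop a)

variable {B} {n : ℕ} (G : CFam B n)

/-- Canonical value on a face with small image. -/
noncomputable def CFam.cv (y : Fc ⦋n + 1⦌) (h : (image y.2).len ≤ n) : Opens X :=
  (G.Fd (image y.2) h (image.ι y.2)).F ⟨y.1, factorThruImage y.2⟩

theorem CFam.cv_congr (y y' : Fc ⦋n + 1⦌) (e : y = y') (h : (image y.2).len ≤ n)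
    (h' : (image y'.2).len ≤ n) : G.cv y h = G.cv y' h' := by
  subst e; rfl

theorem CFam.Fd_congr (a : SimplexCategory) (ha : a.len ≤ n) (φ φ' : a ⟶ ⦋n + 1⦌) (e : φ = φ') :
    G.Fd a ha φ = G.Fd a ha φ' := by
  subst e; rfl

theorem CFam.star (a : SimplexCategory) (ha : a.len ≤ n) (φ : a ⟶ ⦋n + 1⦌) (x : Fc a)
    (h : (image (push φ x).2).len ≤ n) :
    (G.Fd a ha φ).F x = G.cv (push φ x) h := by
  have h1 : (image φ).len ≤ n := (len_image_le _ _ φ).trans ha
  -- step 1
  have e1 : G.Fd a ha φ = (G.Fd (image φ) h1 (image.ι φ)).pull (factorThruImage φ) := by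
    rw [← G.compat (image φ) h1 a ha (image.ι φ) (factorThruImage φ)]
    exact G.Fd_congr a ha _ _ (image.fac φ).symm
  -- step 2
  let F' : MonoFactorisation (x.2 ≫ φ) :=
    { I := image φ
      m := image.ι φ
      e := x.2 ≫ factorThruImage φ
      fac := by rw [Category.assoc, image.fac] }
  have l1 : image.lift F' ≫ image.ι φ = image.ι (x.2 ≫ φ) := image.lift_fac F'
  have l2 : factorThruImage (x.2 ≫ φ) ≫ image.lift F' = x.2 ≫ factorThruImage φ :=
    image.fac_lift F'
  have e2 : G.Fd (image (x.2 ≫ φ)) h (image.ι (x.2 ≫ φ)) =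
      (G.Fd (image φ) h1 (image.ι φ)).pull (image.lift F') := by
    rw [← G.compat (image φ) h1 (image (x.2 ≫ φ)) h (image.ι φ) (image.lift F')]
    exact G.Fd_congr _ h _ _ l1.symm
  unfold CFam.cv
  change _ = (G.Fd (image (x.2 ≫ φ)) h (image.ι (x.2 ≫ φ))).F ⟨x.1, factorThruImage (x.2 ≫ φ)⟩
  rw [e1, e2]
  change (G.Fd (image φ) h1 (image.ι φ)).F ⟨x.1, x.2 ≫ factorThruImage φ⟩ =
    (G.Fd (image φ) h1 (image.ι φ)).F ⟨x.1, factorThruImage (x.2 ≫ φ) ≫ image.lift F'⟩
  rw [l2]


theorem CFam.le_cv (y : Fc ⦋n + 1⦌) (h : (image y.2).len ≤ n) : G.Y ≤ G.cv y h := by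
  refine (G.hY (image y.2) h (image.ι y.2)).trans ?_
  exact (G.Fd (image y.2) h (image.ι y.2)).anti _ _ (fle_top _)

theorem CFam.cv_anti (x y : Fc ⦋n + 1⦌) (hxy : fle x y) (hx : (image x.2).len ≤ n)
    (hy : (image y.2).len ≤ n) : G.cv y hy ≤ G.cv x hx := by
  obtain ⟨α, hα⟩ := hxy
  -- the face x' of image y
  let x' : Fc (image y.2) := ⟨x.1, α ≫ factorThruImage y.2⟩
  have ex : push (image.ι y.2) x' = x := by
    refine Sigma.ext rfl (heq_of_eq ?_)
    change (α ≫ factorThruImage y.2) ≫ image.ι y.2 = x.2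
    rw [Category.assoc, image.fac, hα]
  have hx' : (image (push (image.ι y.2) x').2).len ≤ n := by rw [ex]; exact hx
  have e1 := G.star (image y.2) hy (image.ι y.2) x' hx'
  have e2 : G.cv (push (image.ι y.2) x') hx' = G.cv x hx := G.cv_congr _ _ ex _ _
  rw [← e2, ← e1]
  exact (G.Fd (image y.2) hy (image.ι y.2)).anti _ _ ⟨α, rfl⟩

open Classical in
/-- The extension of a compatible family by a basis element on the top cell. -/
noncomputable def CFam.ext (U : Opens X) (hU : U ∈ B) (hUY : U ≤ G.Y) : Dg B ⦋n + 1⦌ where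
  F y := if h : (image y.2).len ≤ n then G.cv y h else U
  mem y := by
    by_cases h : (image y.2).len ≤ n
    · rw [dif_pos h]; exact (G.Fd _ h _).mem _
    · rw [dif_neg h]; exact hU
  anti x y hxy := by
    by_cases hy : (image y.2).len ≤ n
    · have hx : (image x.2).len ≤ n := by
        obtain ⟨α, hα⟩ := hxy
        rw [hα]
        exact (len_image_comp_le α y.2).trans hy
      rw [dif_pos hy, dif_pos hx]
      exact G.cv_anti x y hxy hx hy
    · rw [dif_neg hy]
      by_cases hx : (image x.2).len ≤ n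
      · rw [dif_pos hx]
        exact hUY.trans (G.le_cv x hx)
      · rw [dif_neg hx]

theorem CFam.ext_top (U : Opens X) (hU : U ∈ B) (hUY : U ≤ G.Y) :
    (G.ext U hU hUY).F (ftop ⦋n + 1⦌) = U := by
  have : ¬ (image (ftop ⦋n + 1⦌).2).len ≤ n := by
    change ¬ (image (𝟙 ⦋n + 1⦌)).len ≤ n
    rw [len_image_id]
    change ¬ (n + 1 ≤ n)
    omega
  exact dif_neg this

theorem CFam.ext_pull (U : Opens X) (hU : U ∈ B) (hUY : U ≤ G.Y)
    (a : SimplexCategory) (ha : a.len ≤ n) (φ : a ⟶ ⦋n + 1⦌) :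
    (G.ext U hU hUY).pull φ = G.Fd a ha φ := by
  refine Dg.ext' (fun x => ?_)
  have h : (image (push φ x).2).len ≤ n :=
    (len_image_comp_le x.2 φ).trans ((len_image_le _ _ φ).trans ha)
  change (G.ext U hU hUY).F (push φ x) = _
  rw [G.star a ha φ x h]
  exact dif_pos h

end Groth.Agent.Lib.Helper24.BasisHyp
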