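import Mathlib

set_option backward.isDefEq.respectTransparency false
set_option backward.isDefEq.respectTransparency.types false
set_option autoImplicit false

universe v u

open CategoryTheory CategoryTheory.Limits

namespace Groth.Agent.Lib.Helper24.HyPb

variable {D : Type u} [Category.{v} D] [HasPullbacks D] (W : MorphismProperty D)
  [W.IsStableUnderComposition] [W.IsStableUnderBaseChange]

/-- The comparison map of a fibre product is in `W` when the comparison maps of the factors are,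
in the relative sense. -/
theorem comparison_mem {K L M P TK TL TM TP : D}
    {p1 : P ⟶ K} {p2 : P ⟶ M} {a : K ⟶ L} {b : M ⟶ L} (sq1 : IsPullback p1 p2 a b)
    {Tp1 : TP ⟶ TK} {Tp2 : TP ⟶ TM} {Ta : TK ⟶ TL} {Tb : TM ⟶ TL}
    (sqT : IsPullback Tp1 Tp2 Ta Tb)
    (ηK : K ⟶ TK) (ηL : L ⟶ TL) (ηM : M ⟶ TM) (ηP : P ⟶ TP)
    (na : a ≫ ηL = ηK ≫ Ta) (nb : b ≫ ηL = ηM ≫ Tb)
    (np1 : p1 ≫ ηK = ηP ≫ Tp1) (np2 : p2 ≫ ηM = ηP ≫ Tp2)
    (hK : W ηK)
    (hγ : W (pullback.lift b ηM nb : M ⟶ pullback ηL Tb)) : W ηP := by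
  -- Q = L ×_{TL} TM
  let q1 : pullback ηL Tb ⟶ L := pullback.fst ηL Tb
  let q2 : pullback ηL Tb ⟶ TM := pullback.snd ηL Tb
  have sqQ : IsPullback q1 q2 ηL Tb := IsPullback.of_hasPullback ηL Tb
  let γ : M ⟶ pullback ηL Tb := pullback.lift b ηM nb
  have γ1 : γ ≫ q1 = b := pullback.lift_fst _ _ _
  have γ2 : γ ≫ q2 = ηM := pullback.lift_snd _ _ _
  -- R = K ×_L Q
  let r1 : pullback a q1 ⟶ K := pullback.fst a q1
  let r2 : pullback a q1 ⟶ pullback ηL Tb := pullback.snd a q1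
  have sqR : IsPullback r1 r2 a q1 := IsPullback.of_hasPullback a q1
  -- u : P ⟶ R
  have cu : p1 ≫ a = (p2 ≫ γ) ≫ q1 := by rw [Category.assoc, γ1, sq1.w]
  let uu : P ⟶ pullback a q1 := pullback.lift p1 (p2 ≫ γ) cu
  have u1 : uu ≫ r1 = p1 := pullback.lift_fst _ _ _
  have u2 : uu ≫ r2 = p2 ≫ γ := pullback.lift_snd _ _ _
  -- P = R ×_Q M : square  uu, p2 ; r2, γ  (top uu : P ⟶ R, left p2 : P ⟶ M, right r2, bottom γ)
  have sqA : IsPullback uu p2 r2 γ := by
    -- paste with sqR.flip : IsPullback r2 r1 q1 a  (top r2, left r1, right q1, bottom a) -- vertical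
    -- use of_bot on the vertical composite:
    --   top uu : P ⟶ R, then left column p2 then ... we use horizontal orientation instead
    have sqR' : IsPullback r1 r2 a q1 := sqR
    -- horizontal pasting:  P --uu--> R --r1--> K ; left p2 : P ⟶ M, middle r2 : R ⟶ Q, right a : K ⟶ L
    -- bottoms: γ : M ⟶ Q, q1 : Q ⟶ L
    have outer : IsPullback (uu ≫ r1) p2 a (γ ≫ q1) := by
      rw [u1, γ1]; exact sq1
    exact IsPullback.of_right outer u2 sqR'
  have hu : W uu := MorphismProperty.IsStableUnderBaseChange.of_isPullback sqA.flip hγ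
  -- v : R ⟶ TP
  have cv : (r1 ≫ ηK) ≫ Ta = (r2 ≫ q2) ≫ Tb := by
    rw [Category.assoc, ← na, ← Category.assoc, sqR.w, Category.assoc, sqQ.w, Category.assoc]
  let vv : pullback a q1 ⟶ TP := sqT.lift (r1 ≫ ηK) (r2 ≫ q2) cv
  have v1 : vv ≫ Tp1 = r1 ≫ ηK := sqT.lift_fst _ _ _
  have v2 : vv ≫ Tp2 = r2 ≫ q2 := sqT.lift_snd _ _ _
  -- R = TP ×_{TK} K : square  vv, r1 ; Tp1, ηK
  have sqB : IsPullback vv r1 Tp1 ηK := by
    -- vertical pasting: top vv : R ⟶ TP, left r1 : R ⟶ K; below: Tp2 : TP ⟶ TM ... use flips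
    -- horizontal: R --vv--> TP --Tp2--> TM, lefts r1 : R ⟶ K, Tp1 : TP ⟶ TK, right Tb : TM ⟶ TL
    -- bottoms ηK : K ⟶ TK, Ta : TK ⟶ TL
    have sqT' : IsPullback Tp2 Tp1 Tb Ta := sqT.flip
    have outer0 : IsPullback (r2 ≫ q2) r1 Tb (a ≫ ηL) :=
      (sqR.flip.paste_horiz sqQ.flip)
    have outer : IsPullback (vv ≫ Tp2) r1 Tb (ηK ≫ Ta) := by
      rw [v2, ← na]; exact outer0
    exact IsPullback.of_right outer v1 sqT'
  have hv : W vv := MorphismProperty.IsStableUnderBaseChange.of_isPullback sqB.flip hK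
  have e : ηP = uu ≫ vv := by
    apply sqT.hom_ext
    · rw [Category.assoc, v1, ← Category.assoc, u1, np1]
    · rw [Category.assoc, v2, ← Category.assoc, u2, Category.assoc, γ2, np2]
  rw [e]
  exact W.comp_mem _ _ hu hv

end Groth.Agent.Lib.Helper24.HyPb
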