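import Mathlib
import Groth.Prelude.Def_Hyper
import Groth.Agent.Lib.Helper24.HyPbA
import Groth.Agent.Lib.Helper26.SRCovering

set_option backward.isDefEq.respectTransparency false
set_option backward.isDefEq.respectTransparency.types false
set_option autoImplicit false

universe u

open CategoryTheory CategoryTheory.Limits Opposite

namespace Groth.Agent.Lib.Helper24.HyPb

open Groth.Agent.Lib.Helper26.SRCovering

section

variable {C : Type u} [SmallCategory C] [HasPullbacks C] (J : GrothendieckTopology C)

/-- SR coverings as a morphism property. -/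
def covProp : MorphismProperty (FormalCoproduct.{u} C) := fun _ _ f => Hyper.IsSRCovering J f

instance : (covProp J).IsStableUnderComposition :=
  ⟨fun f g hf hg => comp_cov J f g hf hg⟩

instance : (covProp J).IsStableUnderBaseChange where
  of_isPullback {X Y Y' S f g f' g'} sq hg := by
    have h : g' = sq.flip.isoPullback.hom ≫ pullback.fst f g := (sq.flip.isoPullback_hom_fst).symm
    change Hyper.IsSRCovering J g'
    rw [h]
    exact comp_cov J _ _ (iso_cov J _) (pullback_fst_cov J g f hg)

end

section

variable {C : Type u} [SmallCategory C] (J : GrothendieckTopology C)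

theorem cover_of_srCovering {X : C} {P0 K0 : FormalCoproduct.{u} (Over X)} (f : P0 ⟶ K0)
    (hf : Hyper.IsSRCovering (J.over X) f)
    (hK : Sieve.ofArrows (fun i => (K0.obj i).left) (fun i => (K0.obj i).hom) ∈ J X) :
    Sieve.ofArrows (fun i => (P0.obj i).left) (fun i => (P0.obj i).hom) ∈ J X := by
  refine J.transitive hK _ ?_
  intro Y g hg
  rw [Sieve.mem_ofArrows_iff] at hg
  obtain ⟨i, c, rfl⟩ := hg
  rw [Sieve.pullback_comp]
  refine J.pullback_stable c ?_
  have h := hf i
  rw [GrothendieckTopology.mem_over_iff] at h
  refine J.superset_covering ?_ h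
  intro Z w hw
  rw [Sieve.overEquiv_iff, Sieve.mem_ofArrows_iff] at hw
  obtain ⟨⟨k, hk⟩, d, hd⟩ := hw
  rw [Sieve.pullback_apply, Sieve.mem_ofArrows_iff]
  refine ⟨k, d.left, ?_⟩
  exact (Over.w d).symm

end

end Groth.Agent.Lib.Helper24.HyPb
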