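import Mathlib
import Groth.Prelude.Def_Hyper
import Groth.Agent.Lib.Helper24.HyPbB

set_option backward.isDefEq.respectTransparency false
set_option backward.isDefEq.respectTransparency.types false
set_option autoImplicit false

universe u

open CategoryTheory CategoryTheory.Limits Opposite

namespace Groth.Agent.Lib.Helper24.HyPb

variable {C : Type u} [SmallCategory C] [HasPullbacks C]
    (J : GrothendieckTopology C) (X : C)
    [∀ (n : ℕ) (F : (SimplexCategory.Truncated n)ᵒᵖ ⥤ Limits.FormalCoproduct.{u} (Over X)),
      (SimplexCategory.Truncated.inclusion n).op.HasRightKanExtension F]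

theorem isHypercovering_pullback
    {K L M P : SimplicialObject (FormalCoproduct.{u} (Over X))} (a : K ⟶ L) (b : M ⟶ L)
    (p1 : P ⟶ K) (p2 : P ⟶ M) (hP : IsPullback p1 p2 a b)
    (hK : Hyper.IsHypercovering J X K)
    (h0 : Hyper.IsSRCovering (J.over X) (b.app (op (SimplexCategory.mk 0))))
    (hγ : ∀ (n : ℕ) (Q : FormalCoproduct.{u} (Over X))
      (q1 : Q ⟶ L.obj (op (SimplexCategory.mk (n + 1))))
      (q2 : Q ⟶ ((SimplicialObject.truncation n ⋙ SimplicialObject.Truncated.cosk n).obj M).obj
        (op (SimplexCategory.mk (n + 1))))
      (γ : M.obj (op (SimplexCategory.mk (n + 1))) ⟶ Q),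
      IsPullback q1 q2 (((SimplicialObject.coskAdj n).unit.app L).app (op (SimplexCategory.mk (n + 1))))
        (((SimplicialObject.truncation n ⋙ SimplicialObject.Truncated.cosk n).map b).app
          (op (SimplexCategory.mk (n + 1)))) →
      γ ≫ q1 = b.app (op (SimplexCategory.mk (n + 1))) →
      γ ≫ q2 = ((SimplicialObject.coskAdj n).unit.app M).app (op (SimplexCategory.mk (n + 1))) →
      Hyper.IsSRCovering (J.over X) γ) :
    Hyper.IsHypercovering J X P := by
  constructor
  · -- degree 0
    have sq0 : IsPullback (p1.app (op (SimplexCategory.mk 0))) (p2.app (op (SimplexCategory.mk 0)))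
        (a.app (op (SimplexCategory.mk 0))) (b.app (op (SimplexCategory.mk 0))) :=
      hP.map ((evaluation _ _).obj (op (SimplexCategory.mk 0)))
    have hp1 : covProp (J.over X) (p1.app (op (SimplexCategory.mk 0))) :=
      MorphismProperty.IsStableUnderBaseChange.of_isPullback sq0.flip h0
    exact cover_of_srCovering J _ hp1 hK.1
  · intro n
    let T : SimplicialObject (FormalCoproduct.{u} (Over X)) ⥤
        SimplicialObject (FormalCoproduct.{u} (Over X)) :=
      SimplicialObject.truncation n ⋙ SimplicialObject.Truncated.cosk n
    haveI : PreservesLimitsOfShape WalkingCospan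
        (SimplicialObject.truncation (C := FormalCoproduct.{u} (Over X)) n) := by
      unfold SimplicialObject.truncation
      infer_instance
    haveI := (SimplicialObject.coskAdj (C := FormalCoproduct.{u} (Over X)) n).rightAdjoint_preservesLimits
    have sqT0 : IsPullback (T.map p1) (T.map p2) (T.map a) (T.map b) := hP.map T
    have sqT := sqT0.map ((evaluation _ _).obj (op (SimplexCategory.mk (n + 1))))
    have sq1 : IsPullback (p1.app (op (SimplexCategory.mk (n + 1))))
        (p2.app (op (SimplexCategory.mk (n + 1))))
        (a.app (op (SimplexCategory.mk (n + 1)))) (b.app (op (SimplexCategory.mk (n + 1)))) :=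
      hP.map ((evaluation _ _).obj (op (SimplexCategory.mk (n + 1))))
    let η := (SimplicialObject.coskAdj (C := FormalCoproduct.{u} (Over X)) n).unit
    have na := congr_app (η.naturality a) (op (SimplexCategory.mk (n + 1)))
    have nb := congr_app (η.naturality b) (op (SimplexCategory.mk (n + 1)))
    have np1 := congr_app (η.naturality p1) (op (SimplexCategory.mk (n + 1)))
    have np2 := congr_app (η.naturality p2) (op (SimplexCategory.mk (n + 1)))
    refine comparison_mem (covProp (J.over X)) sq1 sqT
      ((η.app K).app _) ((η.app L).app _) ((η.app M).app _) ((η.app P).app _) na nb np1 np2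
      (hK.2 n) ?_
    exact hγ n _ _ _ _ (IsPullback.of_hasPullback _ _) (pullback.lift_fst _ _ _)
      (pullback.lift_snd _ _ _)

end Groth.Agent.Lib.Helper24.HyPb
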