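import Mathlib
import Groth.Agent.Lib.Helper20.FinStructuredArrow

set_option backward.isDefEq.respectTransparency false
set_option backward.isDefEq.respectTransparency.types false
set_option autoImplicit false

universe v u

open CategoryTheory CategoryTheory.Limits Opposite Simplicial SimplexCategory

namespace Groth.Agent.Lib.Helper24.CoskHtpy

variable {E : Type u} [Category.{v} E] (n : ℕ)
  [∀ (F : (SimplexCategory.Truncated n)ᵒᵖ ⥤ E),
    (SimplexCategory.Truncated.inclusion n).op.HasRightKanExtension F]
  [∀ (F : (SimplexCategory.Truncated n)ᵒᵖ ⥤ E),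
    (SimplexCategory.Truncated.inclusion n).op.HasPointwiseRightKanExtension F]

/-- The inclusion functor (opposite). -/
abbrev L : (SimplexCategory.Truncated n)ᵒᵖ ⥤ SimplexCategoryᵒᵖ :=
  (SimplexCategory.Truncated.inclusion n).op

variable (X : SimplicialObject E)

/-- The counit of the coskeleton. -/
noncomputable abbrev α : L n ⋙ (SimplicialObject.cosk n).obj X ⟶ (SimplicialObject.truncation n).obj X :=
  (L n).ranCounit.app ((SimplicialObject.truncation n).obj X)

/-- The limit property. -/
noncomputable def isLim (m : SimplexCategory) :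
    IsLimit ((Functor.RightExtension.mk _ (α n X)).coneAt (op m)) :=
  (L n).isPointwiseRightKanExtensionRanCounit ((SimplicialObject.truncation n).obj X) (op m)

/-- The projections of the coskeleton. -/
noncomputable def pr (a : SimplexCategory) (ha : a.len ≤ n) {m : SimplexCategory} (φ : a ⟶ m) :
    ((SimplicialObject.cosk n).obj X).obj (op m) ⟶ X.obj (op a) :=
  ((SimplicialObject.cosk n).obj X).map φ.op ≫ (α n X).app (op ⟨a, ha⟩)

theorem map_pr (a : SimplexCategory) (ha : a.len ≤ n) {m m' : SimplexCategory} (φ : a ⟶ m')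
    (θ : m' ⟶ m) :
    ((SimplicialObject.cosk n).obj X).map θ.op ≫ pr n X a ha φ = pr n X a ha (φ ≫ θ) := by
  unfold pr
  rw [← Category.assoc, ← Functor.map_comp]
  rfl

theorem pr_map (a b : SimplexCategory) (ha : a.len ≤ n) (hb : b.len ≤ n) {m : SimplexCategory}
    (φ : a ⟶ m) (ψ : b ⟶ a) :
    pr n X a ha φ ≫ X.map ψ.op = pr n X b hb (ψ ≫ φ) := by
  unfold pr
  let ψ' : (⟨b, hb⟩ : SimplexCategory.Truncated n) ⟶ ⟨a, ha⟩ := ObjectProperty.homMk ψ
  have h := (α n X).naturality ψ'.op
  rw [Category.assoc]
  change _ ≫ (α n X).app (op ⟨a, ha⟩) ≫ ((SimplicialObject.truncation n).obj X).map ψ'.op = _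
  rw [← h, ← Category.assoc]
  change (((SimplicialObject.cosk n).obj X).map φ.op ≫
    ((SimplicialObject.cosk n).obj X).map ψ.op) ≫ _ = _
  rw [← Functor.map_comp]
  rfl

theorem hom_ext {T : E} {m : SimplexCategory}
    (u w : T ⟶ ((SimplicialObject.cosk n).obj X).obj (op m))
    (h : ∀ (a : SimplexCategory) (ha : a.len ≤ n) (φ : a ⟶ m),
      u ≫ pr n X a ha φ = w ≫ pr n X a ha φ) : u = w := by
  apply (isLim n X m).hom_ext
  intro g
  exact h g.right.unop.obj g.right.unop.property g.hom.unop

section lift

variable {T : E} {m : SimplexCategory}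
  (t : ∀ (a : SimplexCategory) (_ : a.len ≤ n) (_ : a ⟶ m), T ⟶ X.obj (op a))
  (ht : ∀ (a b : SimplexCategory) (ha : a.len ≤ n) (hb : b.len ≤ n) (φ : a ⟶ m) (ψ : b ⟶ a),
    t a ha φ ≫ X.map ψ.op = t b hb (ψ ≫ φ))

/-- The cone associated to a compatible family. -/
def liftCone : Cone (StructuredArrow.proj (op m) (L n) ⋙ (SimplicialObject.truncation n).obj X) where
  pt := T
  π :=
    { app := fun g => t g.right.unop.obj g.right.unop.property g.hom.unop
      naturality := fun g g' u => by
        have hw := StructuredArrow.w u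
        have h := ht g.right.unop.obj g'.right.unop.obj g.right.unop.property
          g'.right.unop.property g.hom.unop u.right.unop.hom
        have e : u.right.unop.hom ≫ g.hom.unop = g'.hom.unop := by
          rw [← hw]; rfl
        rw [e] at h
        erw [Category.id_comp]
        exact h.symm }

/-- The morphism to the coskeleton associated to a compatible family. -/
noncomputable def lift : T ⟶ ((SimplicialObject.cosk n).obj X).obj (op m) :=
  (isLim n X m).lift (liftCone n X t ht)

theorem lift_pr (a : SimplexCategory) (ha : a.len ≤ n) (φ : a ⟶ m) :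
    lift n X t ht ≫ pr n X a ha φ = t a ha φ := by
  let φ' : op m ⟶ (L n).obj (op ⟨a, ha⟩) := φ.op
  let g : StructuredArrow (op m) (L n) := StructuredArrow.mk φ'
  exact (isLim n X m).fac (liftCone n X t ht) g

end lift

variable {X} in
theorem cosk_map_pr {X' : SimplicialObject E} (f : X ⟶ X') (a : SimplexCategory) (ha : a.len ≤ n)
    {m : SimplexCategory} (φ : a ⟶ m) :
    ((SimplicialObject.cosk n).map f).app (op m) ≫ pr n X' a ha φ =
      pr n X a ha φ ≫ f.app (op a) := by
  unfold pr
  have h1 := ((SimplicialObject.cosk n).map f).naturality φ.op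
  have h2 := congr_app ((L n).ranCounit.naturality ((SimplicialObject.truncation n).map f))
    (op ⟨a, ha⟩)
  rw [← Category.assoc, ← h1, Category.assoc, Category.assoc]
  congr 1

end Groth.Agent.Lib.Helper24.CoskHtpy
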