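import Mathlib
import Groth.Agent.Lib.Helper24.CoskHtpyA

set_option backward.isDefEq.respectTransparency false
set_option backward.isDefEq.respectTransparency.types false
set_option autoImplicit false

universe v u

open CategoryTheory CategoryTheory.Limits Opposite Simplicial SimplexCategory

namespace Groth.Agent.Lib.Helper24.HyRef

open Groth.Agent.Lib.Helper24.CoskHtpy

variable {E : Type u} [Category.{v} E] [HasFiniteProducts E] (n : ℕ)

/-- The right adjoint of evaluation at `⦋n⦌`: `k ↦ Z^{Hom(⦋n⦌, k)}`. -/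
noncomputable def RInf (Z : E) : SimplicialObject E where
  obj a := ∏ᶜ (fun _ : (⦋n⦌ : SimplexCategory) ⟶ a.unop => Z)
  map {a b} ψ := Pi.lift (fun θ => Pi.π (fun _ : (⦋n⦌ : SimplexCategory) ⟶ a.unop => Z) (θ ≫ ψ.unop))
  map_id a := by
    apply Pi.hom_ext
    intro θ
    simp
  map_comp ψ ψ' := by
    apply Pi.hom_ext
    intro θ
    simp

/-- The projections. -/
noncomputable def rπ (Z : E) {a : SimplexCategory} (θ : (⦋n⦌ : SimplexCategory) ⟶ a) :
    (RInf n Z).obj (op a) ⟶ Z :=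
  Pi.π (fun _ : (⦋n⦌ : SimplexCategory) ⟶ a => Z) θ

@[reassoc]
theorem rInf_map_rπ (Z : E) {a b : SimplexCategory} (ψ : b ⟶ a) (θ : (⦋n⦌ : SimplexCategory) ⟶ b) :
    (RInf n Z).map ψ.op ≫ rπ n Z θ = rπ n Z (θ ≫ ψ) := by
  unfold rπ RInf
  simp

theorem rInf_hom_ext (Z : E) {a : SimplexCategory} {T : E} (s t : T ⟶ (RInf n Z).obj (op a))
    (h : ∀ θ : (⦋n⦌ : SimplexCategory) ⟶ a, s ≫ rπ n Z θ = t ≫ rπ n Z θ) : s = t :=
  Pi.hom_ext _ _ h

/-- Lifting to `RInf`. -/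
noncomputable def rLift (Z : E) {a : SimplexCategory} {T : E}
    (w : ((⦋n⦌ : SimplexCategory) ⟶ a) → (T ⟶ Z)) : T ⟶ (RInf n Z).obj (op a) :=
  Pi.lift w

@[reassoc]
theorem rLift_rπ (Z : E) {a : SimplexCategory} {T : E}
    (w : ((⦋n⦌ : SimplexCategory) ⟶ a) → (T ⟶ Z)) (θ : (⦋n⦌ : SimplexCategory) ⟶ a) :
    rLift n Z w ≫ rπ n Z θ = w θ := by
  unfold rLift rπ
  simp

/-- Functoriality of `RInf`. -/
noncomputable def rMap {Z Z' : E} (u : Z ⟶ Z') : RInf n Z ⟶ RInf n Z' where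
  app a := Limits.Pi.map (fun _ => u)
  naturality a b ψ := by
    apply Pi.hom_ext
    intro θ
    unfold RInf
    simp

@[reassoc]
theorem rMap_rπ {Z Z' : E} (u : Z ⟶ Z') {a : SimplexCategory} (θ : (⦋n⦌ : SimplexCategory) ⟶ a) :
    (rMap n u).app (op a) ≫ rπ n Z' θ = rπ n Z θ ≫ u := by
  unfold rMap rπ
  simp

/-- The unit `K ⟶ RInf (K_n)`. -/
noncomputable def toR (K : SimplicialObject E) : K ⟶ RInf n (K.obj (op ⦋n⦌)) where
  app a := Pi.lift (fun θ => K.map θ.op)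
  naturality a b ψ := by
    apply Pi.hom_ext
    intro θ
    unfold RInf
    simp [← Functor.map_comp]

@[reassoc]
theorem toR_rπ (K : SimplicialObject E) {a : SimplexCategory} (θ : (⦋n⦌ : SimplexCategory) ⟶ a) :
    (toR n K).app (op a) ≫ rπ n _ θ = K.map θ.op := by
  unfold toR rπ
  simp

end Groth.Agent.Lib.Helper24.HyRef
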