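import Mathlib
import Groth.Agent.Lib.Helper24.HyRefA

set_option backward.isDefEq.respectTransparency false
set_option backward.isDefEq.respectTransparency.types false
set_option autoImplicit false

universe v u

open CategoryTheory CategoryTheory.Limits Opposite Simplicial SimplexCategory

namespace Groth.Agent.Lib.Helper24.HyRef

open Groth.Agent.Lib.Helper24.CoskHtpy

variable {E : Type u} [Category.{v} E] [HasFiniteProducts E] (n m : ℕ)
  [∀ (F : (SimplexCategory.Truncated m)ᵒᵖ ⥤ E),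
    (SimplexCategory.Truncated.inclusion m).op.HasRightKanExtension F]
  [∀ (F : (SimplexCategory.Truncated m)ᵒᵖ ⥤ E),
    (SimplexCategory.Truncated.inclusion m).op.HasPointwiseRightKanExtension F]

/-- The unit of the coskeleton adjunction composed with a projection. -/
@[reassoc]
theorem unit_pr (Y : SimplicialObject E) (a : SimplexCategory) (ha : a.len ≤ m)
    {k : SimplexCategory} (φ : a ⟶ k) :
    ((SimplicialObject.coskAdj m).unit.app Y).app (op k) ≫ pr m Y a ha φ = Y.map φ.op := by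
  unfold pr
  have h1 : ((SimplicialObject.coskAdj m).unit.app Y).app (op k) ≫
      ((SimplicialObject.cosk m).obj Y).map φ.op =
      Y.map φ.op ≫ ((SimplicialObject.coskAdj m).unit.app Y).app (op a) :=
    (((SimplicialObject.coskAdj m).unit.app Y).naturality φ.op).symm
  have h3 : ((SimplicialObject.coskAdj m).unit.app Y).app (op a) ≫ (α m Y).app (op ⟨a, ha⟩) =
      𝟙 (Y.obj (op a)) :=
    Functor.ranCounit_app_app_ranAdjunction_unit_app_app (L m) Y (op ⟨a, ha⟩)
  rw [← Category.assoc, h1, Category.assoc, h3, Category.comp_id]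

variable (Z : E) {T : E} {k : SimplexCategory}
  (s : T ⟶ ((SimplicialObject.cosk m).obj (RInf n Z)).obj (op k))

/-- The coordinates of a point of the coskeleton of `RInf`. -/
noncomputable def coord (a : SimplexCategory) (ha : a.len ≤ m) (φ : a ⟶ k)
    (θ : (⦋n⦌ : SimplexCategory) ⟶ a) : T ⟶ Z :=
  s ≫ pr m (RInf n Z) a ha φ ≫ rπ n Z θ

theorem coord_compat (a b : SimplexCategory) (ha : a.len ≤ m) (hb : b.len ≤ m) (φ : a ⟶ k)
    (ψ : b ⟶ a) (θ : (⦋n⦌ : SimplexCategory) ⟶ b) :
    coord n m Z s b hb (ψ ≫ φ) θ = coord n m Z s a ha φ (θ ≫ ψ) := by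
  unfold coord
  rw [← pr_map m (RInf n Z) a b ha hb φ ψ, Category.assoc, rInf_map_rπ]

theorem coord_epi_mono (a : SimplexCategory) (ha : a.len ≤ m) (φ : a ⟶ k)
    (θ : (⦋n⦌ : SimplexCategory) ⟶ a) :
    ∃ (c : SimplexCategory) (hc : c.len ≤ m) (i : c ⟶ k) (e : (⦋n⦌ : SimplexCategory) ⟶ c),
      Mono i ∧ Epi e ∧ e ≫ i = θ ≫ φ ∧ coord n m Z s a ha φ θ = coord n m Z s c hc i e := by
  have h1 : (image θ).len ≤ m := (len_le_of_mono (image.ι θ)).trans ha
  have e1 : coord n m Z s a ha φ θ =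
      coord n m Z s (image θ) h1 (image.ι θ ≫ φ) (factorThruImage θ) := by
    rw [coord_compat n m Z s a (image θ) ha h1 φ (image.ι θ) (factorThruImage θ), image.fac]
  have h2 : (image (image.ι θ ≫ φ)).len ≤ m :=
    (len_le_of_epi (factorThruImage (image.ι θ ≫ φ))).trans h1
  have e2 : coord n m Z s (image θ) h1 (image.ι θ ≫ φ) (factorThruImage θ) =
      coord n m Z s (image (image.ι θ ≫ φ)) h2 (image.ι (image.ι θ ≫ φ))
        (factorThruImage θ ≫ factorThruImage (image.ι θ ≫ φ)) := by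
    rw [← coord_compat n m Z s (image (image.ι θ ≫ φ)) (image θ) h2 h1
      (image.ι (image.ι θ ≫ φ)) (factorThruImage (image.ι θ ≫ φ)) (factorThruImage θ)]
    congr 1
    exact (image.fac _).symm
  refine ⟨_, h2, image.ι (image.ι θ ≫ φ),
    factorThruImage θ ≫ factorThruImage (image.ι θ ≫ φ), inferInstance, inferInstance, ?_,
    e1.trans e2⟩
  rw [Category.assoc, image.fac, ← Category.assoc, image.fac]

/-- The coordinates only depend on the composite. -/
theorem coord_dep (a a' : SimplexCategory) (ha : a.len ≤ m) (ha' : a'.len ≤ m) (φ : a ⟶ k)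
    (φ' : a' ⟶ k) (θ : (⦋n⦌ : SimplexCategory) ⟶ a) (θ' : (⦋n⦌ : SimplexCategory) ⟶ a')
    (h : θ ≫ φ = θ' ≫ φ') :
    coord n m Z s a ha φ θ = coord n m Z s a' ha' φ' θ' := by
  obtain ⟨c, hc, i, e, hi, he, fac, eq⟩ := coord_epi_mono n m Z s a ha φ θ
  obtain ⟨c', hc', i', e', hi', he', fac', eq'⟩ := coord_epi_mono n m Z s a' ha' φ' θ'
  rw [eq, eq']
  have sq : CommSq e' e i' i := ⟨by rw [fac, fac', h]⟩
  have : StrongEpi e := strongEpi_of_epi e
  have hl1 : e ≫ sq.lift = e' := sq.fac_left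
  have hl2 : sq.lift ≫ i' = i := sq.fac_right
  rw [← hl2, coord_compat n m Z s c' c hc' hc i' sq.lift e, hl1]

end Groth.Agent.Lib.Helper24.HyRef
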