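import Mathlib

set_option backward.isDefEq.respectTransparency false
set_option backward.isDefEq.respectTransparency.types false
set_option autoImplicit false

universe v u

open CategoryTheory CategoryTheory.Limits Opposite

namespace Groth.Agent.Lib.Helper24.HyRef

variable {E : Type u} [Category.{v} E] [HasFiniteLimits E] (W : MorphismProperty E)
  [W.IsStableUnderBaseChange] [W.IsStableUnderComposition] [W.ContainsIdentities]

include W in
theorem prod_map_left_mem {A A' : E} (f : A ⟶ A') (B : E) (hf : W f) :
    W (prod.map f (𝟙 B)) := by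
  have e : prod.map f (𝟙 B) = (pullbackProdFstIsoProd f B).inv ≫ pullback.snd _ _ := by
    apply prod.hom_ext
    · simp
    · simp
  rw [e]
  exact (W.cancel_left_of_respectsIso _ _).2 (W.pullback_snd _ _ hf)

include W in
theorem prod_map_right_mem {A A' : E} (f : A ⟶ A') (B : E) (hf : W f) :
    W (prod.map (𝟙 B) f) := by
  have e : prod.map (𝟙 B) f = (pullbackProdSndIsoProd f B).inv ≫ pullback.fst _ _ := by
    apply prod.hom_ext
    · simp
    · simp
  rw [e]
  exact (W.cancel_left_of_respectsIso _ _).2 (W.pullback_fst _ _ hf)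

include W in
theorem prod_map_mem {A A' B B' : E} (f : A ⟶ A') (g : B ⟶ B') (hf : W f) (hg : W g) :
    W (prod.map f g) := by
  have e : prod.map f g = prod.map f (𝟙 B) ≫ prod.map (𝟙 A') g := by simp
  rw [e]
  exact W.comp_mem _ _ (prod_map_left_mem W f B hf) (prod_map_right_mem W g A' hg)

/-- Decomposition of a product over `Option α`. -/
noncomputable def optIso {α : Type} [Finite α] (Z : Option α → E) :
    ∏ᶜ Z ≅ Z none ⨯ ∏ᶜ (fun a => Z (some a)) where
  hom := prod.lift (Pi.π Z none) (Pi.lift (fun a => Pi.π Z (some a)))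
  inv := Pi.lift (fun o => match o with
    | none => prod.fst
    | some a => prod.snd ≫ Pi.π _ a)
  hom_inv_id := by
    apply Pi.hom_ext
    intro o
    cases o <;> simp
  inv_hom_id := by
    apply prod.hom_ext
    · simp
    · apply Pi.hom_ext
      intro a
      simp

theorem pi_map_mem (S : Type) [Finite S] {Z K : S → E} (u : ∀ s, Z s ⟶ K s)
    (hu : ∀ s, W (u s)) : W (Limits.Pi.map u) := by
  let P : Type → Prop := fun S => ∀ [Finite S] (Z K : S → E) (u : ∀ s, Z s ⟶ K s),
    (∀ s, W (u s)) → W (Limits.Pi.map u)
  have key : P S := by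
    refine Finite.induction_empty_option (P := P) ?_ ?_ ?_ S
    · intro α β e ih _ Z K u hu
      have : Finite α := Finite.of_equiv _ e.symm
      have e1 : Limits.Pi.map u = (Pi.reindex e Z).inv ≫ Limits.Pi.map (fun a => u (e a)) ≫
          (Pi.reindex e K).hom := by
        apply Pi.hom_ext
        intro b
        obtain ⟨a, rfl⟩ := e.surjective b
        have h1 : Limits.Pi.map (fun a => u (e a)) ≫ Pi.π (K ∘ e) a =
            Pi.π (Z ∘ e) a ≫ u (e a) := Limits.Pi.map_π (fun a => u (e a)) a
        rw [Limits.Pi.map_π, Category.assoc, Category.assoc, Pi.reindex_hom_π, h1,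
          ← Category.assoc, Pi.reindex_inv_π]
      rw [e1]
      exact (W.cancel_left_of_respectsIso _ _).2
        ((W.cancel_right_of_respectsIso _ _).2 (ih _ _ (fun a => u (e a)) (fun a => hu (e a))))
    · intro _ Z K u hu
      have : IsIso (Limits.Pi.map u) :=
        ⟨Pi.lift (fun s => s.elim), Pi.hom_ext _ _ (fun s => s.elim),
          Pi.hom_ext _ _ (fun s => s.elim)⟩
      exact W.of_isIso _
    · intro α _ ih _ Z K u hu
      have e1 : Limits.Pi.map u = (optIso Z).hom ≫
          prod.map (u none) (Limits.Pi.map (fun a => u (some a))) ≫ (optIso K).inv := by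
        apply Pi.hom_ext
        intro o
        cases o <;> simp [optIso]
      rw [e1]
      exact (W.cancel_left_of_respectsIso _ _).2
        ((W.cancel_right_of_respectsIso _ _).2
          (prod_map_mem W _ _ (hu none) (ih _ _ (fun a => u (some a)) (fun a => hu (some a)))))
  exact key Z K u hu

end Groth.Agent.Lib.Helper24.HyRef
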