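import Mathlib
import Groth.Agent.Lib.Helper24.HyRefB
import Groth.Agent.Lib.Helper24.HyRefC

set_option backward.isDefEq.respectTransparency false
set_option backward.isDefEq.respectTransparency.types false
set_option autoImplicit false

universe v u

open CategoryTheory CategoryTheory.Limits Opposite Simplicial SimplexCategory

namespace Groth.Agent.Lib.Helper24.HyRef

open Groth.Agent.Lib.Helper24.CoskHtpy

variable {E : Type u} [Category.{v} E] [HasFiniteLimits E] (n m : ℕ)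
  [∀ (F : (SimplexCategory.Truncated m)ᵒᵖ ⥤ E),
    (SimplexCategory.Truncated.inclusion m).op.HasRightKanExtension F]
  [∀ (F : (SimplexCategory.Truncated m)ᵒᵖ ⥤ E),
    (SimplexCategory.Truncated.inclusion m).op.HasPointwiseRightKanExtension F]

/-- The surjections `⦋n⦌ ⟶ ⦋k⦌`. -/
abbrev Surj (k : ℕ) : Type :=
  {χ : (⦋n⦌ : SimplexCategory) ⟶ ⦋k⦌ // Function.Surjective χ.toOrderHom}

theorem not_surj_comp (a : SimplexCategory) (ha : a.len ≤ m) (φ : a ⟶ ⦋m + 1⦌)
    (θ : (⦋n⦌ : SimplexCategory) ⟶ a) : ¬ Function.Surjective (θ ≫ φ).toOrderHom := by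
  intro h
  have h1 : Function.Surjective φ.toOrderHom := by
    intro y
    obtain ⟨x, hx⟩ := h y
    exact ⟨θ.toOrderHom x, hx⟩
  have h2 := Fintype.card_le_of_surjective _ h1
  simp only [Fintype.card_fin] at h2
  have : (⦋m + 1⦌ : SimplexCategory).len = m + 1 := rfl
  omega

/-- The chosen face index. -/
noncomputable def fi (χ : (⦋n⦌ : SimplexCategory) ⟶ ⦋m + 1⦌)
    (h : ¬ Function.Surjective χ.toOrderHom) : Fin (m + 2) :=
  (SimplexCategory.eq_comp_δ_of_not_surjective χ h).choose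

/-- The chosen factorization. -/
noncomputable def fθ (χ : (⦋n⦌ : SimplexCategory) ⟶ ⦋m + 1⦌)
    (h : ¬ Function.Surjective χ.toOrderHom) : (⦋n⦌ : SimplexCategory) ⟶ ⦋m⦌ :=
  (SimplexCategory.eq_comp_δ_of_not_surjective χ h).choose_spec.choose

theorem fspec (χ : (⦋n⦌ : SimplexCategory) ⟶ ⦋m + 1⦌)
    (h : ¬ Function.Surjective χ.toOrderHom) : χ = fθ n m χ h ≫ δ (fi n m χ h) :=
  (SimplexCategory.eq_comp_δ_of_not_surjective χ h).choose_spec.choose_spec

variable (Z : E) {T : E}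

/-- The glued family. -/
noncomputable def wfam (y : T ⟶ ∏ᶜ (fun _ : Surj n (m + 1) => Z))
    (s : T ⟶ ((SimplicialObject.cosk m).obj (RInf n Z)).obj (op ⦋m + 1⦌))
    (χ : (⦋n⦌ : SimplexCategory) ⟶ ⦋m + 1⦌) : T ⟶ Z :=
  if h : Function.Surjective χ.toOrderHom then y ≫ Pi.π _ ⟨χ, h⟩
  else coord n m Z s ⦋m⦌ (le_refl _) (δ (fi n m χ h)) (fθ n m χ h)

theorem wfam_surj (y : T ⟶ ∏ᶜ (fun _ : Surj n (m + 1) => Z))
    (s : T ⟶ ((SimplicialObject.cosk m).obj (RInf n Z)).obj (op ⦋m + 1⦌))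
    (χ : Surj n (m + 1)) : wfam n m Z y s χ.1 = y ≫ Pi.π _ χ := by
  unfold wfam
  rw [dif_pos χ.2]

theorem wfam_coord (y : T ⟶ ∏ᶜ (fun _ : Surj n (m + 1) => Z))
    (s : T ⟶ ((SimplicialObject.cosk m).obj (RInf n Z)).obj (op ⦋m + 1⦌))
    (a : SimplexCategory) (ha : a.len ≤ m) (φ : a ⟶ ⦋m + 1⦌) (θ : (⦋n⦌ : SimplexCategory) ⟶ a) :
    wfam n m Z y s (θ ≫ φ) = coord n m Z s a ha φ θ := by
  unfold wfam
  have h := not_surj_comp n m a ha φ θ
  rw [dif_neg h]
  exact coord_dep n m Z s _ _ _ _ _ _ _ _ (fspec n m (θ ≫ φ) h).symm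

variable (W : MorphismProperty E)
  [W.IsStableUnderBaseChange] [W.IsStableUnderComposition] [W.ContainsIdentities]

/-- Projection to the surjective coordinates. -/
noncomputable def πS (Z : E) :
    (RInf n Z).obj (op ⦋m + 1⦌) ⟶ ∏ᶜ (fun _ : Surj n (m + 1) => Z) :=
  Pi.lift (fun χ => rπ n Z χ.1)

@[reassoc]
theorem πS_π (Z : E) (χ : Surj n (m + 1)) :
    πS n m Z ≫ Pi.π (fun _ : Surj n (m + 1) => Z) χ = rπ n Z χ.1 := by
  unfold πS
  simp

include W in
theorem gamma_mem {Z K₀ : E} (u : Z ⟶ K₀) (hu : W u) (Q : E)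
    (q1 : Q ⟶ (RInf n K₀).obj (op ⦋m + 1⦌))
    (q2 : Q ⟶ ((SimplicialObject.cosk m).obj (RInf n Z)).obj (op ⦋m + 1⦌))
    (γ : (RInf n Z).obj (op ⦋m + 1⦌) ⟶ Q)
    (hsq : IsPullback q1 q2
      (((SimplicialObject.coskAdj m).unit.app (RInf n K₀)).app (op ⦋m + 1⦌))
      (((SimplicialObject.cosk m).map (rMap n u)).app (op ⦋m + 1⦌)))
    (h1 : γ ≫ q1 = (rMap n u).app (op ⦋m + 1⦌))
    (h2 : γ ≫ q2 = ((SimplicialObject.coskAdj m).unit.app (RInf n Z)).app (op ⦋m + 1⦌)) :
    W γ := by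
  have hu' : W (Limits.Pi.map (fun _ : Surj n (m + 1) => u)) :=
    pi_map_mem W (Surj n (m + 1)) (fun _ => u) (fun _ => hu)
  -- key computation: q1-coordinates of a point of Q in terms of q2-coordinates
  have hq : ∀ {T : E} (x : T ⟶ Q) (a : SimplexCategory) (ha : a.len ≤ m) (φ : a ⟶ ⦋m + 1⦌)
      (θ : (⦋n⦌ : SimplexCategory) ⟶ a),
      coord n m Z (x ≫ q2) a ha φ θ ≫ u = x ≫ q1 ≫ rπ n K₀ (θ ≫ φ) := by
    intro T x a ha φ θ
    unfold coord
    have e1 := cosk_map_pr m (rMap n u) a ha φ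
    have e2 := unit_pr m (RInf n K₀) a ha φ
    calc ((x ≫ q2) ≫ pr m (RInf n Z) a ha φ ≫ rπ n Z θ) ≫ u
        = x ≫ q2 ≫ pr m (RInf n Z) a ha φ ≫ (rMap n u).app (op a) ≫ rπ n K₀ θ := by
          simp only [Category.assoc, rMap_rπ]
      _ = x ≫ (q2 ≫ ((SimplicialObject.cosk m).map (rMap n u)).app (op ⦋m + 1⦌)) ≫
            pr m (RInf n K₀) a ha φ ≫ rπ n K₀ θ := by
          simp only [Category.assoc]
          rw [← Category.assoc (pr m (RInf n Z) a ha φ), ← e1]
          simp only [Category.assoc]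
      _ = x ≫ (q1 ≫ ((SimplicialObject.coskAdj m).unit.app (RInf n K₀)).app (op ⦋m + 1⦌)) ≫
            pr m (RInf n K₀) a ha φ ≫ rπ n K₀ θ := by
          rw [hsq.w]
      _ = x ≫ q1 ≫ rπ n K₀ (θ ≫ φ) := by
          simp only [Category.assoc]
          rw [← Category.assoc _ (pr m (RInf n K₀) a ha φ), e2, rInf_map_rπ]
  have w : πS n m Z ≫ Limits.Pi.map (fun _ : Surj n (m + 1) => u) =
      γ ≫ q1 ≫ πS n m K₀ := by
    apply Pi.hom_ext
    intro χ
    simp only [Category.assoc, Limits.Pi.map_π, πS_π]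
    rw [← Category.assoc, πS_π, ← Category.assoc, h1, rMap_rπ]
  have hpb : IsPullback (πS n m Z) γ (Limits.Pi.map (fun _ : Surj n (m + 1) => u))
      (q1 ≫ πS n m K₀) := by
    refine ⟨⟨w⟩, ⟨PullbackCone.IsLimit.mk _
      (fun s => rLift n Z (wfam n m Z s.fst (s.snd ≫ q2))) ?_ ?_ ?_⟩⟩
    · intro s
      apply Pi.hom_ext
      intro χ
      rw [Category.assoc, πS_π, rLift_rπ, wfam_surj]
    · intro s
      have h1' : ∀ {X : E} (t : (RInf n K₀).obj (op ⦋m + 1⦌) ⟶ X),
          γ ≫ q1 ≫ t = (rMap n u).app (op ⦋m + 1⦌) ≫ t := by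
        intro X t
        rw [← Category.assoc, h1]
      apply hsq.hom_ext
      · apply rInf_hom_ext
        intro χ
        rw [Category.assoc, Category.assoc, h1', rMap_rπ, rLift_rπ_assoc]
        by_cases hχ : Function.Surjective χ.toOrderHom
        · have := wfam_surj n m Z s.fst (s.snd ≫ q2) ⟨χ, hχ⟩
          rw [this]
          have c := s.condition
          have c' := congrArg (fun t => t ≫ Pi.π (fun _ : Surj n (m + 1) => K₀) ⟨χ, hχ⟩) c
          simp only [Category.assoc, Limits.Pi.map_π, πS_π] at c'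
          rw [Category.assoc, Category.assoc]
          exact c'
        · have e := fspec n m χ hχ
          have e' := wfam_coord n m Z s.fst (s.snd ≫ q2) ⦋m⦌ (le_refl _) (δ (fi n m χ hχ))
            (fθ n m χ hχ)
          rw [← e] at e'
          rw [e', hq s.snd, ← e, Category.assoc]
      · rw [Category.assoc, h2]
        apply CoskHtpy.hom_ext
        intro a ha φ
        apply rInf_hom_ext
        intro θ
        rw [Category.assoc, Category.assoc, unit_pr_assoc, rInf_map_rπ, rLift_rπ,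
          wfam_coord n m Z _ _ a ha]
        unfold coord
        simp only [Category.assoc]
    · intro s l hl1 hl2
      apply rInf_hom_ext
      intro χ
      rw [rLift_rπ]
      by_cases hχ : Function.Surjective χ.toOrderHom
      · have := wfam_surj n m Z s.fst (s.snd ≫ q2) ⟨χ, hχ⟩
        rw [this, ← hl1, Category.assoc, πS_π]
      · have e := fspec n m χ hχ
        have e' := wfam_coord n m Z s.fst (s.snd ≫ q2) ⦋m⦌ (le_refl _) (δ (fi n m χ hχ))
          (fθ n m χ hχ)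
        rw [← e] at e'
        rw [e']
        unfold coord
        rw [← hl2]
        have h2' : ∀ {X : E} (t : ((SimplicialObject.cosk m).obj (RInf n Z)).obj (op ⦋m + 1⦌) ⟶ X),
            γ ≫ q2 ≫ t = ((SimplicialObject.coskAdj m).unit.app (RInf n Z)).app (op ⦋m + 1⦌) ≫ t := by
          intro X t
          rw [← Category.assoc, h2]
        simp only [Category.assoc]
        rw [h2', unit_pr_assoc, rInf_map_rπ, ← e]
  exact W.of_isPullback hpb hu'

end Groth.Agent.Lib.Helper24.HyRef
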