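import Mathlib
import Groth.Prelude.Def_Hyper
import Groth.Agent.Lib.Helper24.HyRefD
import Groth.Agent.Lib.Helper24.HyPbC
import Groth.Agent.Lib.Helper20.FinStructuredArrow

set_option backward.isDefEq.respectTransparency false
set_option backward.isDefEq.respectTransparency.types false
set_option autoImplicit false

universe u

open CategoryTheory CategoryTheory.Limits Opposite Simplicial SimplexCategory

namespace Groth.Agent.Lib.Helper24.HyRef

open Groth.Agent.Lib.Helper24.HyPb

section

variable {C : Type u} [SmallCategory C] [HasPullbacks C] (J : GrothendieckTopology C)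

instance : (covProp J).ContainsIdentities :=
  ⟨fun K => Groth.Agent.Lib.Helper26.SRCovering.iso_cov J (Iso.refl K)⟩

end

variable {C : Type u} [SmallCategory C] [HasPullbacks C]
    (J : GrothendieckTopology C) (X : C)

instance hasFiniteLimitsFC : HasFiniteLimits (FormalCoproduct.{u} (Over X)) :=
  hasFiniteLimits_of_hasTerminal_and_pullbacks

variable [∀ (n : ℕ) (F : (SimplexCategory.Truncated n)ᵒᵖ ⥤ Limits.FormalCoproduct.{u} (Over X)),
      (SimplexCategory.Truncated.inclusion n).op.HasRightKanExtension F]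

theorem exists_refinement (K : SimplicialObject (FormalCoproduct.{u} (Over X)))
    (hK : Hyper.IsHypercovering J X K) (n : ℕ)
    (Z : FormalCoproduct.{u} (Over X)) (u : Z ⟶ K.obj (op (SimplexCategory.mk n)))
    (hu : Hyper.IsSRCovering (J.over X) u) :
    ∃ (L : SimplicialObject (FormalCoproduct.{u} (Over X))) (f : L ⟶ K)
      (g : L.obj (op (SimplexCategory.mk n)) ⟶ Z),
      Hyper.IsHypercovering J X L ∧ g ≫ u = f.app (op (SimplexCategory.mk n)) := by
  have hpw : ∀ (m : ℕ) (F : (SimplexCategory.Truncated m)ᵒᵖ ⥤ FormalCoproduct.{u} (Over X)),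
      (SimplexCategory.Truncated.inclusion m).op.HasPointwiseRightKanExtension F :=
    fun m F => Groth.Agent.Lib.Helper20.hasPointwiseRightKanExtension_truncated m F
  let a : K ⟶ RInf n (K.obj (op ⦋n⦌)) := toR n K
  let b : RInf n Z ⟶ RInf n (K.obj (op ⦋n⦌)) := rMap n u
  have hP : IsPullback (pullback.fst a b) (pullback.snd a b) a b := IsPullback.of_hasPullback a b
  have hu' : covProp (J.over X) u := hu
  refine ⟨pullback a b, pullback.fst a b,
    (pullback.snd a b).app (op ⦋n⦌) ≫ rπ n Z (𝟙 _), ?_, ?_⟩
  · refine isHypercovering_pullback J X a b _ _ hP hK ?_ ?_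
    · exact pi_map_mem (covProp (J.over X)) _ (fun _ => u) (fun _ => hu')
    · intro m Q q1 q2 γ hsq h1 h2
      exact gamma_mem n m (covProp (J.over X)) u hu' Q q1 q2 γ hsq h1 h2
  · have c := congr_app hP.w (op ⦋n⦌)
    have c' := congrArg (fun t => t ≫ rπ n (K.obj (op ⦋n⦌)) (𝟙 _)) c
    simp only [NatTrans.comp_app, Category.assoc] at c'
    rw [toR_rπ, rMap_rπ] at c'
    rw [Category.assoc, ← c']
    simp

end Groth.Agent.Lib.Helper24.HyRef
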