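import Mathlib
import Groth.Prelude.Def_Hyper
import Groth.Agent.Lib.Helper24.BasisHypB
import Groth.Agent.Lib.Helper24.HyRefE
import Groth.Agent.Lib.Helper20.FinStructuredArrow

set_option backward.isDefEq.respectTransparency false
set_option backward.isDefEq.respectTransparency.types false
set_option autoImplicit false

universe u

open CategoryTheory CategoryTheory.Limits Opposite TopologicalSpace Simplicial SimplexCategory

namespace Groth.Agent.Lib.Helper24.BasisHyp

variable {X : TopCat.{u}} (B : Set (Opens X))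
  [∀ (n : ℕ) (F : (SimplexCategory.Truncated n)ᵒᵖ ⥤ Limits.FormalCoproduct.{u} (Over (⊤ : Opens X))),
      (SimplexCategory.Truncated.inclusion n).op.HasRightKanExtension F]

open Groth.Agent.Lib.Helper24.KanLeg

/-- Structured arrows from maps. -/
abbrev sa (n : ℕ) (a : SimplexCategory) (ha : a.len ≤ n) (φ : a ⟶ ⦋n + 1⦌) : SA n ⦋n + 1⦌ :=
  StructuredArrow.mk (S := op ⦋n + 1⦌) (T := (SimplexCategory.Truncated.inclusion n).op)
    (Y := op (⟨a, ha⟩ : SimplexCategory.Truncated n))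
    (show op ⦋n + 1⦌ ⟶ (SimplexCategory.Truncated.inclusion n).op.obj
      (op (⟨a, ha⟩ : SimplexCategory.Truncated n)) from φ.op)

theorem sa_eta (n : ℕ) (g : SA n ⦋n + 1⦌) :
    g = sa n g.right.unop.obj g.right.unop.property g.hom.unop := rfl

/-- The legs. -/
noncomputable abbrev PP (n : ℕ) (a : SimplexCategory) (ha : a.len ≤ n) (φ : a ⟶ ⦋n + 1⦌) :
    (kanCone (KK B) n ⦋n + 1⦌).pt ⟶ lev B a :=
  (kanCone (KK B) n ⦋n + 1⦌).π.app (sa n a ha φ)

theorem PP_compat (n : ℕ) (a : SimplexCategory) (ha : a.len ≤ n) (a' : SimplexCategory)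
    (ha' : a'.len ≤ n) (φ : a ⟶ ⦋n + 1⦌) (ψ : a' ⟶ a) :
    PP B n a ha φ ≫ levMap B ψ = PP B n a' ha' (ψ ≫ φ) := by
  let w : sa n a ha φ ⟶ sa n a' ha' (ψ ≫ φ) :=
    StructuredArrow.homMk (SimplexCategory.Truncated.Hom.tr ψ ha' ha).op rfl
  exact (kanCone (KK B) n ⦋n + 1⦌).w w

/-- The compatible family attached to an index of the coskeleton. -/
noncomputable def fam (n : ℕ) (j : (kanCone (KK B) n ⦋n + 1⦌).pt.I) : CFam B n where
  Fd a ha φ := (PP B n a ha φ).f j
  compat a ha a' ha' φ ψ := by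
    have := congrArg (fun h => h.f j) (PP_compat B n a ha a' ha' φ ψ)
    exact this.symm
  Y := ((kanCone (KK B) n ⦋n + 1⦌).pt.obj j).left
  hY a ha φ := leOfHom ((PP B n a ha φ).φ j).left


/-- The constant diagram. -/
def constDg (b : SimplexCategory) (U : Opens X) (hU : U ∈ B) : Dg B b where
  F _ := U
  mem _ := hU
  anti _ _ _ := le_rfl

theorem cover_zero (hB : Opens.IsBasis B) :
    Sieve.ofArrows (fun i => (((KK B).obj (op (SimplexCategory.mk 0))).obj i).left)
      (fun i => (((KK B).obj (op (SimplexCategory.mk 0))).obj i).hom) ∈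
        Opens.grothendieckTopology X ⊤ := by
  intro x hx
  obtain ⟨U, hU, hxU, _⟩ := Opens.isBasis_iff_nbhd.1 hB (show x ∈ (⊤ : Opens X) from hx)
  let D : Dg B ⦋0⦌ := constDg B ⦋0⦌ U hU
  refine ⟨U, (((KK B).obj (op (SimplexCategory.mk 0))).obj D).hom, ?_, hxU⟩
  exact Sieve.ofArrows_mk (fun i => (((KK B).obj (op (SimplexCategory.mk 0))).obj i).left)
      (fun i => (((KK B).obj (op (SimplexCategory.mk 0))).obj i).hom) D

instance : HasPullbacks (Opens X) := inferInstance

theorem cover_succ (hB : Opens.IsBasis B) (n : ℕ) :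
    Hyper.IsSRCovering ((Opens.grothendieckTopology X).over ⊤)
      (((SimplicialObject.coskAdj n).unit.app (KK B)).app (op (SimplexCategory.mk (n + 1)))) := by
  haveI : HasFiniteLimits (FormalCoproduct.{u} (Over (⊤ : Opens X))) :=
    Groth.Agent.Lib.Helper24.HyRef.hasFiniteLimitsFC ⊤
  haveI := Groth.Agent.Lib.Helper20.hasPointwiseRightKanExtension_truncated n
    ((SimplicialObject.truncation n).obj (KK B))
  have hlim := kanIsLimit (KK B) n ⦋n + 1⦌
  intro j
  rw [GrothendieckTopology.mem_over_iff, Sieve.overEquiv_ofArrows]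
  intro x hx
  let G := fam B n j
  obtain ⟨U, hU, hxU, hUY⟩ := Opens.isBasis_iff_nbhd.1 hB (show x ∈ G.Y from hx)
  let D : Dg B ⦋n + 1⦌ := G.ext U hU hUY
  have hDtop : D.F (ftop ⦋n + 1⦌) = U := G.ext_top U hU hUY
  -- the two maps
  let u' : cobj D ⟶ (kanCone (KK B) n ⦋n + 1⦌).pt.obj j :=
    Over.homMk (homOfLE (hDtop.le.trans hUY : D.F (ftop ⦋n + 1⦌) ≤ G.Y)) (Subsingleton.elim _ _)
  let a : (FormalCoproduct.incl _).obj (cobj D) ⟶ (kanCone (KK B) n ⦋n + 1⦌).pt :=
    FormalCoproduct.Hom.fromIncl (Y := lev B ⦋n + 1⦌) D (𝟙 _) ≫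
      ((SimplicialObject.coskAdj n).unit.app (KK B)).app (op (SimplexCategory.mk (n + 1)))
  let b : (FormalCoproduct.incl _).obj (cobj D) ⟶ (kanCone (KK B) n ⦋n + 1⦌).pt :=
    FormalCoproduct.Hom.fromIncl j u'
  have hab : a = b := by
    refine hlim.hom_ext (fun g => ?_)
    rw [sa_eta n g]
    have h1 : a ≫ (kanCone (KK B) n ⦋n + 1⦌).π.app
        (sa n g.right.unop.obj g.right.unop.property g.hom.unop) =
        FormalCoproduct.Hom.fromIncl (Y := lev B ⦋n + 1⦌) D (𝟙 _) ≫ levMap B g.hom.unop := by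
      change (_ ≫ _) ≫ _ = _
      rw [Category.assoc, unit_leg]
      rfl
    rw [h1]
    refine FormalCoproduct.hom_ext ?_ (fun _ => Subsingleton.elim _ _)
    funext _
    exact G.ext_pull U hU hUY _ g.right.unop.property g.hom.unop
  have hDj : (((SimplicialObject.coskAdj n).unit.app (KK B)).app
      (op (SimplexCategory.mk (n + 1)))).f D = j :=
    congrArg (fun h => h.f PUnit.unit) hab
  let i0 : {i : ((KK B).obj (op (SimplexCategory.mk (n + 1)))).I //
      (((SimplicialObject.coskAdj n).unit.app (KK B)).app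
        (op (SimplexCategory.mk (n + 1)))).f i = j} := ⟨D, hDj⟩
  refine ⟨(cobj D).left, _, Sieve.ofArrows_mk _ _ i0, ?_⟩
  change x ∈ D.F (ftop ⦋n + 1⦌)
  rw [hDtop]
  exact hxU

theorem isHypercovering (hB : Opens.IsBasis B) :
    Hyper.IsHypercovering (Opens.grothendieckTopology X) ⊤ (KK B) :=
  ⟨cover_zero B hB, cover_succ B hB⟩

theorem mem_basis (n : ℕ) (i : ((KK B).obj (op (SimplexCategory.mk n))).I) :
    (((KK B).obj (op (SimplexCategory.mk n))).obj i).left ∈ B :=
  i.mem _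

end Groth.Agent.Lib.Helper24.BasisHyp
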