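import Groth.Agent.Lib.Helper24.QuotRestrict2
import Groth.Agent.Lib.Helper24.EqvSlice5
import Groth.Agent.Lib.Helper14.SheafQuot2
set_option autoImplicit false
set_option linter.unusedSectionVars false
universe u
open CategoryTheory CategoryTheory.Limits AlgebraicGeometry Opposite

/-! Groupoid schemes whose `j` is a monomorphism; cartesian morphisms of groupoid schemes. -/

namespace Groth.Agent.Lib.Helper24.Boot1
open AlgSp Grpd Groth.Agent.Lib.Helper24.QuotRestrict2

variable {S : Scheme.{u}}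

section Mono
variable (G : GroupoidScheme S)

lemma j_fst : G.j ≫ pullback.fst G.pU G.pU = G.t := pullback.lift_fst _ _ _
lemma j_snd : G.j ≫ pullback.snd G.pU G.pU = G.s := pullback.lift_snd _ _ _

lemma hom_ext_of_mono [Mono G.j] {T : Scheme.{u}} (x y : T ⟶ G.R) (ht : x ≫ G.t = y ≫ G.t)
    (hs : x ≫ G.s = y ≫ G.s) : x = y := by
  rw [← cancel_mono G.j]
  apply pullback.hom_ext
  · rw [Category.assoc, Category.assoc, j_fst, ht]
  · rw [Category.assoc, Category.assoc, j_snd, hs]

lemma i_i [Mono G.j] : G.i ≫ G.i = 𝟙 _ :=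
  hom_ext_of_mono G _ _ (by rw [Category.assoc, G.i_t, G.i_s, Category.id_comp])
    (by rw [Category.assoc, G.i_s, G.i_t, Category.id_comp])

lemma isIso_i [Mono G.j] : IsIso G.i := ⟨G.i, i_i G, i_i G⟩

lemma prop_t [Mono G.j] (P : MorphismProperty Scheme.{u}) [P.RespectsIso] (h : P G.s) :
    P G.t := by
  have := isIso_i G
  rw [← G.i_s]
  exact (P.cancel_left_of_respectsIso G.i G.s).2 h

lemma isEqvRel [Mono G.j] : IsEqvRel (sG G) (tG G) where
  injective T r r' ht hs := by
    ext1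
    exact hom_ext_of_mono G _ _ (congrArg (fun f => f.left) ht) (congrArg (fun f => f.left) hs)
  equivalence T := gpd_equivalence G T

lemma mono_j_of_isEqvRel (h : IsEqvRel (sG G) (tG G)) : Mono G.j := by
  constructor
  intro T a b hab
  have h1 : a ≫ G.t = b ≫ G.t := by
    rw [← j_fst, ← Category.assoc, hab, Category.assoc]
  have h2 : a ≫ G.s = b ≫ G.s := by
    rw [← j_snd, ← Category.assoc, hab, Category.assoc]
  have hb : b ≫ G.pR = a ≫ G.pR := by
    rw [← G.s_over, ← Category.assoc, ← h2, Category.assoc]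
  let a' : Over.mk (a ≫ G.pR) ⟶ Ro G := Over.homMk a rfl
  let b' : Over.mk (a ≫ G.pR) ⟶ Ro G := Over.homMk b hb
  have := h.injective _ a' b' (by ext1; exact h1) (by ext1; exact h2)
  exact congrArg (fun f => f.left) this

end Mono

section Restr
variable {G' G : GroupoidScheme S} (φ : GroupoidScheme.Hom G' G)

/-- the map on objects, over `S` -/
abbrev fUo : Uo G' ⟶ Uo G := Over.homMk φ.fU φ.fU_over

lemma fR_over : φ.fR ≫ G.pR = G'.pR := by
  rw [← G.s_over, ← Category.assoc, φ.comm_s, Category.assoc, φ.fU_over, G'.s_over]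

/-- the map on arrows, over `S` -/
abbrev fRo : Ro G' ⟶ Ro G := Over.homMk φ.fR (fR_over φ)

lemma fRo_s : fRo φ ≫ sG G = sG G' ≫ fUo φ := by ext1; exact φ.comm_s
lemma fRo_t : fRo φ ≫ tG G = tG G' ≫ fUo φ := by ext1; exact φ.comm_t

/-- `U' ×_S U' ⟶ U ×_S U` -/
noncomputable abbrev mapUU : pullback G'.pU G'.pU ⟶ pullback G.pU G.pU :=
  pullback.map G'.pU G'.pU G.pU G.pU φ.fU φ.fU (𝟙 S)
    ((Category.comp_id _).trans φ.fU_over.symm) ((Category.comp_id _).trans φ.fU_over.symm)

lemma prop_mapUU (P : MorphismProperty Scheme.{u}) [P.IsStableUnderBaseChange]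
    [P.IsStableUnderComposition] (h : P φ.fU) : P (mapUU φ) :=
  MorphismProperty.pullbackMap h h φ.fU_over.symm φ.fU_over.symm

variable (hφ : IsPullback φ.fR G'.j G.j (mapUU φ))

include hφ

lemma mono_j' [Mono G.j] : Mono G'.j :=
  MorphismProperty.of_isPullback (P := MorphismProperty.monomorphisms Scheme.{u}) hφ
    (MorphismProperty.monomorphisms.infer_property G.j)

lemma prop_fR (P : MorphismProperty Scheme.{u}) [P.IsStableUnderBaseChange]
    [P.IsStableUnderComposition] (h : P φ.fU) : P φ.fR :=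
  MorphismProperty.of_isPullback (P := P) hφ.flip (prop_mapUU φ P h)

lemma exists_lift {T : Scheme.{u}} (a b : T ⟶ G'.U) (ρ : T ⟶ G.R) (h1 : ρ ≫ G.t = a ≫ φ.fU)
    (h2 : ρ ≫ G.s = b ≫ φ.fU) :
    ∃ r' : T ⟶ G'.R, r' ≫ G'.t = a ∧ r' ≫ G'.s = b ∧ r' ≫ φ.fR = ρ := by
  have hab : a ≫ G'.pU = b ≫ G'.pU := by
    rw [← φ.fU_over, ← Category.assoc, ← h1, ← Category.assoc, ← h2, Category.assoc,
      Category.assoc, G.t_over, G.s_over]
  have hc : ρ ≫ G.j = pullback.lift a b hab ≫ mapUU φ := by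
    apply pullback.hom_ext
    · rw [Category.assoc, j_fst, Category.assoc, pullback.lift_fst, pullback.lift_fst_assoc, h1]
    · rw [Category.assoc, j_snd, Category.assoc, pullback.lift_snd, pullback.lift_snd_assoc, h2]
  refine ⟨hφ.lift ρ (pullback.lift a b hab) hc, ?_, ?_, hφ.lift_fst _ _ _⟩
  · rw [← j_fst G', ← Category.assoc, hφ.lift_snd, pullback.lift_fst]
  · rw [← j_snd G', ← Category.assoc, hφ.lift_snd, pullback.lift_snd]

lemma hom_ext_R' {T : Scheme.{u}} (x y : T ⟶ G'.R) (ht : x ≫ G'.t = y ≫ G'.t)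
    (hs : x ≫ G'.s = y ≫ G'.s) (hr : x ≫ φ.fR = y ≫ φ.fR) : x = y := by
  apply hφ.hom_ext hr
  apply pullback.hom_ext
  · rw [Category.assoc, Category.assoc, j_fst, ht]
  · rw [Category.assoc, Category.assoc, j_snd, hs]

/-- `s'` is a base change of `U' ×_U R ⟶ R ⟶ U` -/
lemma isPullback_s' :
    IsPullback (pullback.lift G'.t φ.fR φ.comm_t.symm : G'.R ⟶ pullback φ.fU G.t) G'.s
      (pullback.snd φ.fU G.t ≫ G.s) φ.fU := by
  have w : (pullback.lift G'.t φ.fR φ.comm_t.symm : G'.R ⟶ pullback φ.fU G.t) ≫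
      (pullback.snd φ.fU G.t ≫ G.s) = G'.s ≫ φ.fU := by
    rw [pullback.lift_snd_assoc, φ.comm_s]
  refine IsPullback.of_isLimit' ⟨w⟩ ?_
  refine PullbackCone.IsLimit.mk w (fun c => ?_) (fun c => ?_) (fun c => ?_) (fun c m h1 h2 => ?_)
  · exact (exists_lift φ hφ (c.fst ≫ pullback.fst _ _) c.snd (c.fst ≫ pullback.snd _ _)
      (by rw [Category.assoc, Category.assoc, pullback.condition])
      (by rw [Category.assoc]; exact c.condition)).choose
  · obtain ⟨e1, e2, e3⟩ := (exists_lift φ hφ (c.fst ≫ pullback.fst _ _) c.snd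
      (c.fst ≫ pullback.snd _ _)
      (by rw [Category.assoc, Category.assoc, pullback.condition])
      (by rw [Category.assoc]; exact c.condition)).choose_spec
    apply pullback.hom_ext
    · rw [Category.assoc, pullback.lift_fst, e1]
    · rw [Category.assoc, pullback.lift_snd, e3]
  · exact (exists_lift φ hφ (c.fst ≫ pullback.fst _ _) c.snd (c.fst ≫ pullback.snd _ _)
      (by rw [Category.assoc, Category.assoc, pullback.condition])
      (by rw [Category.assoc]; exact c.condition)).choose_spec.2.1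
  · obtain ⟨e1, e2, e3⟩ := (exists_lift φ hφ (c.fst ≫ pullback.fst _ _) c.snd
      (c.fst ≫ pullback.snd _ _)
      (by rw [Category.assoc, Category.assoc, pullback.condition])
      (by rw [Category.assoc]; exact c.condition)).choose_spec
    apply hom_ext_R' φ hφ
    · rw [e1, ← h1, Category.assoc, pullback.lift_fst]
    · rw [e2, h2]
    · rw [e3, ← h1, Category.assoc, pullback.lift_snd]

lemma prop_s' (P : MorphismProperty Scheme.{u}) [P.IsStableUnderBaseChange]
    [P.IsStableUnderComposition] (hf : P φ.fU) (hs : P G.s) : P G'.s := by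
  refine MorphismProperty.of_isPullback (P := P) (isPullback_s' φ hφ) ?_
  exact P.comp_mem _ _ (P.pullback_snd _ _ hf) hs

/-- points of the restricted relation, over `S` -/
lemma exists_liftO {T : Over S} (a b : T ⟶ Uo G') (ρ : T ⟶ Ro G)
    (h1 : ρ ≫ tG G = a ≫ fUo φ) (h2 : ρ ≫ sG G = b ≫ fUo φ) :
    ∃ r' : T ⟶ Ro G', r' ≫ tG G' = a ∧ r' ≫ sG G' = b ∧ r' ≫ fRo φ = ρ := by
  obtain ⟨r', e1, e2, e3⟩ := exists_lift φ hφ a.left b.left ρ.left
    (congrArg (fun f => f.left) h1) (congrArg (fun f => f.left) h2)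
  have hw : r' ≫ G'.pR = T.hom := by
    rw [← G'.s_over, ← Category.assoc, e2]
    exact Over.w b
  refine ⟨Over.homMk r' hw, ?_, ?_, ?_⟩
  · ext1; exact e1
  · ext1; exact e2
  · ext1; exact e3

end Restr

end Groth.Agent.Lib.Helper24.Boot1
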