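import Mathlib
import Groth.Agent.Lib.Helper24.Boot7
import Groth.Agent.Lib.Helper14.GActionPts
import Groth.Agent.Lib.Helper24.QuotFlat
import Groth.Agent.S10107
set_option autoImplicit false
set_option linter.unusedSectionVars false
set_option backward.isDefEq.respectTransparency false
set_option backward.isDefEq.respectTransparency.types false
universe u
open CategoryTheory CategoryTheory.Limits AlgebraicGeometry Opposite
open MonoidalCategory CartesianMonoidalCategory MonObj

/-! Quotients by free actions of flat, locally finitely presented group algebraic spaces. -/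

namespace Groth.Agent.Lib.Helper24.Boot10
open AlgSp Groth.Agent.Lib.Helper14.AS Groth.Agent.Lib.Helper24.QuotFlat

variable {S : Scheme.{u}} {B : Sp S} {G X : Over B} [GrpObj G] (a : GAction G X)

lemma act_inv_pt {T : Over B} (g : T ⟶ G) (x : T ⟶ X) :
    lift (g⁻¹) (lift g x ≫ a.act) ≫ a.act = x := by
  rw [← gaction_mul_pt, ← Hom.mul_def, inv_mul_cancel, Hom.one_def, gaction_one_pt]

/-- `(g, x) ↦ (g⁻¹, g x)` -/
noncomputable def θ : G ⊗ X ⟶ G ⊗ X := lift ((fst G X)⁻¹) a.act

lemma θ_snd : θ a ≫ snd G X = a.act := lift_snd _ _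
lemma θ_fst : θ a ≫ fst G X = (fst G X)⁻¹ := lift_fst _ _

lemma θ_θ : θ a ≫ θ a = 𝟙 _ := by
  apply CartesianMonoidalCategory.hom_ext
  · rw [Category.assoc, θ_fst, Hom.inv_def, ← Category.assoc, θ_fst, Hom.inv_def, Category.id_comp]
    have : ((fst G X)⁻¹)⁻¹ = fst G X := inv_inv _
    rw [Hom.inv_def, Hom.inv_def] at this
    rw [Category.assoc]
    exact this
  · rw [Category.assoc, θ_snd, Category.id_comp]
    have h := act_inv_pt a (fst G X) (snd G X)
    have e : lift (fst G X) (snd G X) = 𝟙 (G ⊗ X) := by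
      apply CartesianMonoidalCategory.hom_ext <;> simp
    rw [e, Category.id_comp] at h
    exact h

noncomputable def θIso : G ⊗ X ≅ G ⊗ X := ⟨θ a, θ a, θ_θ a, θ_θ a⟩

/-- the relation defined by the action, on points -/
lemma exists_iff {T : Over S} (x y : (yon S).obj T ⟶ X.left) :
    (∃ r : (yon S).obj T ⟶ (G ⊗ X).left, r ≫ a.act.left = x ∧ r ≫ (snd G X).left = y) ↔
    ∃ (β : (yon S).obj T ⟶ B) (g : Over.mk β ⟶ G) (x' y' : Over.mk β ⟶ X),
      x'.left = x ∧ y'.left = y ∧ lift g y' ≫ a.act = x' := by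
  constructor
  · rintro ⟨r, rfl, rfl⟩
    let r' : Over.mk (r ≫ (G ⊗ X).hom) ⟶ G ⊗ X := Over.homMk r rfl
    refine ⟨r ≫ (G ⊗ X).hom, r' ≫ fst G X, r' ≫ a.act, r' ≫ snd G X, rfl, rfl, ?_⟩
    have e : lift (r' ≫ fst G X) (r' ≫ snd G X) = r' := by
      apply CartesianMonoidalCategory.hom_ext
      · rw [lift_fst]
      · rw [lift_snd]
    rw [e]
  · rintro ⟨β, g, x', y', rfl, rfl, hg⟩
    refine ⟨(lift g y').left, ?_, ?_⟩
    · rw [← Over.comp_left, hg]
    · rw [← Over.comp_left, lift_snd]

theorem isEqvRelSp_of_isFree (ha : a.IsFree) : IsEqvRelSp (snd G X).left a.act.left := by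
  have hm := gaction_mono_of_free a ha
  refine ⟨fun T r r' ht hs => ?_, fun T => ⟨fun x => ?_, fun {x y} hxy => ?_,
    fun {x y z} hxy hyz => ?_⟩⟩
  · rw [← cancel_mono (lift a.act (snd G X)).left]
    apply pullback.hom_ext
    · have e : (lift a.act (snd G X)).left ≫ pullback.fst X.hom X.hom = a.act.left := by
        have := congrArg (fun f => f.left) (lift_fst a.act (snd G X))
        exact this
      rw [Category.assoc, Category.assoc, e, ht]
    · have e : (lift a.act (snd G X)).left ≫ pullback.snd X.hom X.hom = (snd G X).left := by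
        have := congrArg (fun f => f.left) (lift_snd a.act (snd G X))
        exact this
      rw [Category.assoc, Category.assoc, e, hs]
  · rw [exists_iff]
    refine ⟨x ≫ X.hom, 1, Over.homMk x rfl, Over.homMk x rfl, rfl, rfl, ?_⟩
    rw [Hom.one_def, gaction_one_pt]
  · rw [exists_iff] at hxy ⊢
    obtain ⟨β, g, x', y', rfl, rfl, hg⟩ := hxy
    refine ⟨β, g⁻¹, y', x', rfl, rfl, ?_⟩
    rw [← hg, act_inv_pt]
  · rw [exists_iff] at hxy hyz ⊢
    obtain ⟨β, g, x', y', rfl, rfl, hg⟩ := hxy
    obtain ⟨β₂, g₂, y'', z', hy, rfl, hg₂⟩ := hyz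
    have hβ : β₂ = β := by
      have h1 : y''.left ≫ X.hom = β₂ := Over.w y''
      have h2 : y'.left ≫ X.hom = β := Over.w y'
      rw [← h1, ← h2, hy]
    subst hβ
    have hy' : y'' = y' := Over.OverMorphism.ext hy
    subst hy'
    refine ⟨β₂, g * g₂, x', z', rfl, rfl, ?_⟩
    rw [Hom.mul_def, gaction_mul_pt, hg₂, hg]

set_option maxHeartbeats 1000000 in
theorem quot_free_action (hB : IsAlgSpace B) (hG : IsAlgSpace G.left) (hX : IsAlgSpace X.left)
    (ha : a.IsFree)
    (hfl : LocP @Flat G.hom ∧ LocP @LocallyOfFinitePresentation G.hom) :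
    IsAlgSpace a.quot ∧
      (IsSurjectiveMor a.quotπ ∧ LocP @Flat a.quotπ ∧
        LocP @LocallyOfFinitePresentation a.quotπ) ∧
      IsIso (pullback.lift a.act.left (snd G X).left
        (quotSp_condition (snd G X).left a.act.left).symm :
          (G ⊗ X).left ⟶ pullback a.quotπ a.quotπ) := by
  have hR : IsAlgSpace (G ⊗ X).left :=
    isAlgSpace_of_isPullback (repDiag_of_isAlgSpace hB) hG hX
      (IsPullback.of_hasPullback G.hom X.hom)
  have hsF : LocP @Flat (snd G X).left :=
    locP_baseChange etLocal_flat hG hB hX G.hom X.hom (pullback.fst _ _) (pullback.snd _ _)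
      (IsPullback.of_hasPullback _ _) hfl.1
  have hsP : LocP @LocallyOfFinitePresentation (snd G X).left :=
    locP_baseChange etLocal_lfp hG hB hX G.hom X.hom (pullback.fst _ _) (pullback.snd _ _)
      (IsPullback.of_hasPullback _ _) hfl.2
  let e : (G ⊗ X).left ≅ (G ⊗ X).left := (Over.forget B).mapIso (θIso a)
  have he : a.act.left = e.hom ≫ (snd G X).left := by
    have := congrArg (fun f => f.left) (θ_snd a)
    exact this.symm
  have htF : LocP @Flat a.act.left := by
    rw [he]; exact Groth.Agent.Lib.Helper24.Boot7.locP_iso_comp e _ hsF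
  have htP : LocP @LocallyOfFinitePresentation a.act.left := by
    rw [he]; exact Groth.Agent.Lib.Helper24.Boot7.locP_iso_comp e _ hsP
  have hj := isEqvRelSp_of_isFree a ha
  have halg : IsAlgSpace a.quot :=
    Groth.Agent.Lib.Helper24.Boot7.isAlgSpace_quotSp _ _ hR hX _ _ hj ⟨hsF, hsP⟩ ⟨htF, htP⟩
  refine ⟨halg, Groth.Agent.S10107.result S _ _ hR hX _ _ hj ⟨hsF, hsP⟩ ⟨htF, htP⟩ halg, ?_⟩
  have sq := isPullback_quotSpπ hj
  have : pullback.lift a.act.left (snd G X).left
      (quotSp_condition (snd G X).left a.act.left).symm = sq.isoPullback.hom := by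
    apply pullback.hom_ext
    · rw [pullback.lift_fst, sq.isoPullback_hom_fst]
    · rw [pullback.lift_snd, sq.isoPullback_hom_snd]
  change IsIso (pullback.lift a.act.left (snd G X).left
      (quotSp_condition (snd G X).left a.act.left).symm :
        (G ⊗ X).left ⟶ pullback (quotSpπ (snd G X).left a.act.left)
          (quotSpπ (snd G X).left a.act.left))
  rw [this]
  infer_instance

end Groth.Agent.Lib.Helper24.Boot10
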