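import Mathlib
set_option autoImplicit false
set_option linter.unusedSectionVars false
universe u
open TensorProduct

/-! Invariants of a finite family of endomorphisms commute with flat base change. -/

namespace Groth.Agent.Lib.Helper24.CA1

section Alg0
variable {C A B : Type u} [CommRing C] [CommRing A] [CommRing B] [Algebra C A] [Algebra C B]
  {ι : Type*} [Fintype ι] [DecidableEq ι] (ρ : ι → A →ₐ[C] A)

/-- the difference map `a ↦ (ρ i a - a)_i` -/
noncomputable def diffMap : A →ₗ[C] (ι → A) :=
  LinearMap.pi fun i => (ρ i).toLinearMap - LinearMap.id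

lemma diffMap_apply (a : A) (i : ι) : diffMap ρ a i = ρ i a - a := rfl

lemma exact_diffMap (hinv : ∀ a, (∀ i, ρ i a = a) → a ∈ Set.range (algebraMap C A)) :
    Function.Exact (Algebra.linearMap C A) (diffMap ρ) := by
  intro a
  constructor
  · intro h
    apply hinv
    intro i
    have := congrFun h i
    rw [diffMap_apply] at this
    exact sub_eq_zero.1 this
  · rintro ⟨c, rfl⟩
    funext i
    rw [diffMap_apply]
    simp

lemma piRight_lTensor_diffMap (t : B ⊗[C] A) (i : ι) :
    TensorProduct.piRight C C B (fun _ : ι => A) ((diffMap ρ).lTensor B t) i =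
      (ρ i).toLinearMap.lTensor B t - t := by
  induction t using TensorProduct.induction_on with
  | zero => simp
  | tmul b a =>
    simp [diffMap_apply, TensorProduct.tmul_sub]
  | add x y hx hy =>
    simp only [map_add, Pi.add_apply, hx, hy]
    abel

variable [Module.Flat C B]

theorem alg0 (hinj : Function.Injective (algebraMap C A))
    (hinv : ∀ a, (∀ i, ρ i a = a) → a ∈ Set.range (algebraMap C A)) :
    Function.Injective (fun b : B => b ⊗ₜ[C] (1 : A)) ∧
      ∀ t : B ⊗[C] A, (∀ i, (ρ i).toLinearMap.lTensor B t = t) → ∃ b : B, b ⊗ₜ[C] (1 : A) = t := by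
  have hf : ∀ b : B, (Algebra.linearMap C A).lTensor B ((TensorProduct.rid C B).symm b) =
      b ⊗ₜ[C] (1 : A) := by
    intro b
    simp
  constructor
  · have h1 : Function.Injective ((Algebra.linearMap C A).lTensor B) :=
      Module.Flat.lTensor_preserves_injective_linearMap _ hinj
    intro b b' h
    simp only at h
    rw [← hf, ← hf] at h
    exact (TensorProduct.rid C B).symm.injective (h1 h)
  · intro t ht
    have hex := Module.Flat.lTensor_exact B (exact_diffMap ρ hinv)
    have h0 : (diffMap ρ).lTensor B t = 0 := by
      apply (TensorProduct.piRight C C B (fun _ : ι => A)).injective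
      funext i
      rw [piRight_lTensor_diffMap, ht i, sub_self, map_zero]
      rfl
    obtain ⟨u, hu⟩ := (hex t).1 h0
    refine ⟨TensorProduct.rid C B u, ?_⟩
    rw [← hf, LinearEquiv.symm_apply_apply, hu]

end Alg0

end Groth.Agent.Lib.Helper24.CA1
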