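import Mathlib
import Groth.Agent.Lib.Helper24.CA1
set_option autoImplicit false
set_option linter.unusedSectionVars false
set_option linter.style.haveILetI false
universe u
open TensorProduct CategoryTheory CategoryTheory.Limits

namespace Groth.Agent.Lib.Helper24.CA1

lemma map_id_eq_lTensor {C A B : Type u} [CommRing C] [CommRing A] [CommRing B] [Algebra C A]
    [Algebra C B] (f : A →ₐ[C] A) (t : B ⊗[C] A) :
    Algebra.TensorProduct.map (AlgHom.id C B) f t = f.toLinearMap.lTensor B t := by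
  induction t using TensorProduct.induction_on with
  | zero => simp
  | tmul b a => simp
  | add x y hx hy => simp only [map_add, hx, hy]

theorem alg1 {C₁ A₁ B₁ P₁ : CommRingCat.{u}} {i₁ : C₁ ⟶ A₁} {φ₁ : C₁ ⟶ B₁} {inl : A₁ ⟶ P₁}
    {inr : B₁ ⟶ P₁} (h : IsPushout i₁ φ₁ inl inr) (hφ : φ₁.hom.Flat)
    {ι : Type*} [Fintype ι] [DecidableEq ι]
    (ρ : ι → (A₁ ⟶ A₁)) (τ : ι → (P₁ ⟶ P₁)) (hρ : ∀ i, i₁ ≫ ρ i = i₁)
    (hτl : ∀ i, inl ≫ τ i = ρ i ≫ inl) (hτr : ∀ i, inr ≫ τ i = inr)
    (hinj : Function.Injective i₁.hom)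
    (hinv : ∀ a, (∀ i, (ρ i).hom a = a) → a ∈ Set.range i₁.hom) :
    Function.Injective inr.hom ∧ ∀ p, (∀ i, (τ i).hom p = p) → p ∈ Set.range inr.hom := by
  letI := i₁.hom.toAlgebra
  letI := φ₁.hom.toAlgebra
  haveI : Module.Flat C₁ B₁ := hφ
  let ρ' : ι → A₁ →ₐ[C₁] A₁ := fun i =>
    { (ρ i).hom with commutes' := fun c => congr($(hρ i).hom c) }
  have h' := CommRingCat.isPushout_tensorProduct C₁ B₁ A₁
  have h'' : IsPushout φ₁ i₁
      (CommRingCat.ofHom (S := B₁ ⊗[C₁] A₁) Algebra.TensorProduct.includeLeftRingHom)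
      (CommRingCat.ofHom (S := B₁ ⊗[C₁] A₁) Algebra.TensorProduct.includeRight.toRingHom) := h'
  let e := h''.isoIsPushout _ _ h.flip
  have e1 : CommRingCat.ofHom (S := B₁ ⊗[C₁] A₁) Algebra.TensorProduct.includeLeftRingHom ≫ e.hom
      = inr := h''.inl_isoIsPushout_hom _ _ h.flip
  have e2 : CommRingCat.ofHom (S := B₁ ⊗[C₁] A₁) Algebra.TensorProduct.includeRight.toRingHom ≫
      e.hom = inl := h''.inr_isoIsPushout_hom _ _ h.flip
  obtain ⟨k1, k2⟩ := alg0 (B := B₁) ρ' hinj hinv
  have hτ : ∀ i, CommRingCat.ofHom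
      (Algebra.TensorProduct.map (AlgHom.id C₁ B₁) (ρ' i)).toRingHom ≫ e.hom = e.hom ≫ τ i := by
    intro i
    apply h''.hom_ext
    · rw [← Category.assoc, ← Category.assoc, e1, hτr]
      rw [← e1]
      congr 1
      ext b
      simp
    · rw [← Category.assoc, ← Category.assoc, e2, hτl, ← e2, ← Category.assoc]
      congr 1
  have he : ∀ b : B₁, inr.hom b = e.hom.hom (b ⊗ₜ[C₁] (1 : A₁)) := by
    intro b
    rw [← e1]
    rfl
  have einj : Function.Injective e.hom.hom := by
    intro x y hxy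
    have := congrArg e.inv.hom hxy
    simpa using this
  constructor
  · intro b b' hb
    rw [he, he] at hb
    exact k1 (einj hb)
  · intro p hp
    obtain ⟨b, hb⟩ := k2 (e.inv.hom p) (by
      intro i
      rw [← map_id_eq_lTensor]
      apply einj
      have h1 := congr($(hτ i).hom (e.inv.hom p))
      simp only [CommRingCat.hom_comp, RingHom.coe_comp, Function.comp_apply] at h1
      have h2 : e.hom.hom (e.inv.hom p) = p := by
        have := congr($(e.inv_hom_id).hom p)
        simp only [CommRingCat.hom_comp, RingHom.coe_comp, Function.comp_apply, CommRingCat.hom_id, RingHom.id_apply] at this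
        exact this
      rw [h2, hp i] at h1
      rw [h2]
      exact h1)
    refine ⟨b, ?_⟩
    rw [he, hb]
    have := congr($(e.inv_hom_id).hom p)
    simp only [CommRingCat.hom_comp, RingHom.coe_comp, Function.comp_apply, CommRingCat.hom_id, RingHom.id_apply] at this
    exact this

end Groth.Agent.Lib.Helper24.CA1
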