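import Mathlib
import Groth.Agent.Lib.Helper24.CA1b
import Groth.Prelude.Def_ConstAct
set_option autoImplicit false
set_option linter.unusedSectionVars false
set_option linter.style.haveILetI false
universe v u
open CategoryTheory CategoryTheory.Limits AlgebraicGeometry

/-! Invariant functions on `Spec A ×_{Spec A^G} W` for `W` affine and flat over `Spec A^G`. -/

namespace Groth.Agent.Lib.Helper24.CA2
open Groth.Agent.Lib.Helper24.CA1

lemma gammaSpec_apply {R₁ S₁ : CommRingCat.{u}} (f : R₁ ⟶ S₁) (x : Γ(Spec R₁, ⊤)) :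
    (Scheme.ΓSpecIso S₁).hom.hom ((Spec.map f).appTop.hom x) =
      f.hom ((Scheme.ΓSpecIso R₁).hom.hom x) :=
  congr($(Scheme.ΓSpecIso_naturality f).hom x)

lemma gammaSpec_bij (R₁ : CommRingCat.{u}) : Function.Bijective (Scheme.ΓSpecIso R₁).hom.hom :=
  ConcreteCategory.bijective_of_isIso (Scheme.ΓSpecIso R₁).hom

variable (R : Type u) [CommRing R] (A : Type u) [CommRing A] [Algebra R A]
variable (G : Type v) [Group G] [Fintype G] [DecidableEq G] [MulSemiringAction G A]
  [SMulCommClass G R A]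

lemma quot_left : (ConstAct.quot R A G).left =
    Spec.map (CommRingCat.ofHom (ConstAct.inv R A G).val.toRingHom) := rfl

lemma appTop_quot_injective : Function.Injective (ConstAct.quot R A G).left.appTop.hom := by
  rw [quot_left]
  intro x y hxy
  apply (gammaSpec_bij _).1
  have h3 : Function.Injective (CommRingCat.ofHom (ConstAct.inv R A G).val.toRingHom).hom :=
    Subtype.val_injective
  apply h3
  rw [← gammaSpec_apply, ← gammaSpec_apply, hxy]

lemma appTop_quot_invariants (a : Γ(Spec (CommRingCat.of A), ⊤))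
    (ha : ∀ g : G, (ConstAct.act R A G g).left.appTop.hom a = a) :
    a ∈ Set.range (ConstAct.quot R A G).left.appTop.hom := by
  have h1 : ∀ g : G, g • ((Scheme.ΓSpecIso (CommRingCat.of A)).hom.hom a) =
      (Scheme.ΓSpecIso (CommRingCat.of A)).hom.hom a := by
    intro g
    have := gammaSpec_apply (CommRingCat.ofHom (MulSemiringAction.toRingHom G A g)) a
    rw [← ConstAct.act_left R A G g, ha g] at this
    exact this.symm
  obtain ⟨c, hc⟩ := (gammaSpec_bij (CommRingCat.of (ConstAct.inv R A G))).2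
    ⟨(Scheme.ΓSpecIso (CommRingCat.of A)).hom.hom a, h1⟩
  refine ⟨c, ?_⟩
  apply (gammaSpec_bij _).1
  rw [quot_left, gammaSpec_apply, hc]
  rfl

theorem affine_key {W Z : Scheme.{u}} [IsAffine W]
    (v : W ⟶ Spec (CommRingCat.of (ConstAct.inv R A G))) [Flat v]
    (p₁ : Z ⟶ Spec (CommRingCat.of A)) (p₂ : Z ⟶ W)
    (hpb : IsPullback p₁ p₂ (ConstAct.quot R A G).left v) :
    Function.Injective p₂.appTop.hom ∧ ∀ f : Γ(Z, ⊤),
      (∀ (g : G) (σ : Z ⟶ Z), σ ≫ p₁ = p₁ ≫ (ConstAct.act R A G g).left → σ ≫ p₂ = p₂ →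
        σ.appTop.hom f = f) → ∃ r : Γ(W, ⊤), p₂.appTop.hom r = f := by
  haveI : IsAffine (ConstAct.specInv R A G).left :=
    inferInstanceAs (IsAffine (Spec (CommRingCat.of (ConstAct.inv R A G))))
  haveI : IsAffine (ConstAct.specA R A).left :=
    inferInstanceAs (IsAffine (Spec (CommRingCat.of A)))
  have hpo := isPushout_appTop_of_isPullback hpb
  have hσ : ∀ g : G, ∃ σ : Z ⟶ Z, σ ≫ p₁ = p₁ ≫ (ConstAct.act R A G g).left ∧ σ ≫ p₂ = p₂ := by
    intro g
    refine ⟨hpb.lift (p₁ ≫ (ConstAct.act R A G g).left) p₂ ?_, hpb.lift_fst _ _ _,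
      hpb.lift_snd _ _ _⟩
    rw [Category.assoc, ← Over.comp_left, ConstAct.act_quot, hpb.w]
  choose σ hσ₁ hσ₂ using hσ
  obtain ⟨k1, k2⟩ := alg1 hpo (Scheme.Hom.flat_appTop v)
    (fun g : G => (ConstAct.act R A G g).left.appTop) (fun g => (σ g).appTop)
    (fun g => by
      rw [← Scheme.Hom.comp_appTop, ← Over.comp_left, ConstAct.act_quot])
    (fun g => by
      rw [← Scheme.Hom.comp_appTop, ← Scheme.Hom.comp_appTop, hσ₁ g])
    (fun g => by
      rw [← Scheme.Hom.comp_appTop, hσ₂ g])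
    (appTop_quot_injective R A G) (appTop_quot_invariants R A G)
  refine ⟨k1, fun f hf => ?_⟩
  obtain ⟨r, hr⟩ := k2 f (fun g => hf g (σ g) (hσ₁ g) (hσ₂ g))
  exact ⟨r, hr⟩

end Groth.Agent.Lib.Helper24.CA2
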