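import Groth.Agent.Lib.Helper24.GQ1
import Groth.Agent.Lib.Helper10.QuotShBr3
import Groth.Agent.Lib.Helper10.FpqcDesc1
set_option autoImplicit false
set_option backward.isDefEq.respectTransparency.types false
universe u
open CategoryTheory CategoryTheory.Limits AlgebraicGeometry Opposite

/-! Functions on schemes over `S` as morphisms to the affine line; descent of functions along
epimorphisms of fppf sheaves. -/

namespace Groth.Agent.Lib.Helper24.GQ2
open AlgSp Groth.Agent.Lib.Helper14.AS Groth.Agent.Lib.Helper10.QuotShBr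

variable {S : Scheme.{u}}

/-- the affine line over `S` -/
noncomputable def A1 (S : Scheme.{u}) : Over S := Over.mk (𝔸(PUnit.{u+1}; S) ↘ S)

/-- the morphism to the affine line defined by a function -/
noncomputable def ofFun {T : Over S} (f : Γ(T.left, ⊤)) : T ⟶ A1 S :=
  Over.homMk (AffineSpace.homOfVector T.hom (fun _ => f)) (AffineSpace.homOfVector_over _ _)

/-- the function defined by a morphism to the affine line -/
noncomputable def toFun {T : Over S} (k : T ⟶ A1 S) : Γ(T.left, ⊤) :=
  k.left.appTop (AffineSpace.coord S PUnit.unit)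

lemma toFun_ofFun {T : Over S} (f : Γ(T.left, ⊤)) : toFun (ofFun f) = f :=
  AffineSpace.homOfVector_appTop_coord _ _ _

lemma toFun_injective {T : Over S} : Function.Injective (toFun (S := S) (T := T)) := by
  intro k₁ k₂ h
  apply Over.OverMorphism.ext
  apply AffineSpace.hom_ext
  · have h1 := Over.w k₁
    have h2 := Over.w k₂
    exact h1.trans h2.symm
  · rintro ⟨⟩
    exact h

lemma ofFun_toFun {T : Over S} (k : T ⟶ A1 S) : ofFun (toFun k) = k :=
  toFun_injective (toFun_ofFun _)

lemma toFun_comp {T T' : Over S} (h : T' ⟶ T) (k : T ⟶ A1 S) :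
    toFun (h ≫ k) = h.left.appTop (toFun k) := by
  unfold toFun
  rw [Over.comp_left, Scheme.Hom.comp_appTop]
  rfl

lemma comp_ofFun {T T' : Over S} (h : T' ⟶ T) (f : Γ(T.left, ⊤)) :
    h ≫ ofFun f = ofFun (h.left.appTop f) := by
  apply toFun_injective
  rw [toFun_comp, toFun_ofFun, toFun_ofFun]

/-- pulling back functions along an epimorphism of sheaves is injective -/
theorem appTop_injective_of_epi {Z T : Over S} (p : Z ⟶ T) (hp : Epi ((yon S).map p)) :
    Function.Injective p.left.appTop := by
  haveI : Epi p := (yon S).epi_of_epi_map hp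
  intro f₁ f₂ h
  have : p ≫ ofFun f₁ = p ≫ ofFun f₂ := by
    rw [comp_ofFun, comp_ofFun]
    exact congrArg ofFun h
  have h2 := (cancel_epi p).1 this
  have h3 := congrArg toFun h2
  rwa [toFun_ofFun, toFun_ofFun] at h3

/-- descent of functions along an epimorphism of sheaves -/
theorem exists_fun_of_epi {Z T : Over S} (p : Z ⟶ T) (hp : Epi ((yon S).map p))
    (f : Γ(Z.left, ⊤))
    (h : (pullback.fst p p).left.appTop f = (pullback.snd p p).left.appTop f) :
    ∃ g : Γ(T.left, ⊤), p.left.appTop g = f := by
  have h' : (yon S).map (pullback.fst p p) ≫ (yon S).map (ofFun f) =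
      (yon S).map (pullback.snd p p) ≫ (yon S).map (ofFun f) := by
    rw [← Functor.map_comp, ← Functor.map_comp, comp_ofFun, comp_ofFun, h]
  obtain ⟨d, hd⟩ := exists_desc_of_epi p hp ((yon S).map (ofFun f)) h'
  obtain ⟨d₀, rfl⟩ := (yon S).map_surjective d
  rw [← Functor.map_comp] at hd
  have hd' : p ≫ d₀ = ofFun f := (yon S).map_injective hd
  refine ⟨toFun d₀, ?_⟩
  rw [← toFun_comp, hd', toFun_ofFun]

end Groth.Agent.Lib.Helper24.GQ2
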