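import Groth.Agent.Lib.Helper24.QuotSt7
import Groth.Agent.Lib.Helper24.GQ2
import Groth.Prelude.Def_StMod2
set_option autoImplicit false
set_option linter.unusedSimpArgs false
universe w v u v₂ u₂
set_option backward.isDefEq.respectTransparency false
set_option backward.isDefEq.respectTransparency.types false

/-! Morphisms `Φ ξ ⟶ η` into a category of elements are determined by their base. -/

namespace Groth.Agent.Lib.Helper24.CA3
open CategoryTheory CategoryTheory.Limits AlgebraicGeometry Opposite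
open Groth.Agent.Lib.Helper24.PshFun

section General
variable {S : Scheme.{u}} {P : (Over S)ᵒᵖ ⥤ Type w} {𝒜 : BasedCategory.{v₂, u₂} (Over S)}

/-- the morphism with a given base -/
def homOfBase (Φ : 𝒜 ⥤ᵇ Stk.ofPsh P) (ξ : 𝒜.obj) (η : Stk.EltObj P) (a : 𝒜.p.obj ξ ⟶ η.base)
    (h : P.map a.op η.sec = sec Φ ξ) : Φ.toFunctor.obj ξ ⟶ η :=
  ⟨eqToHom (base_eq Φ ξ) ≫ a, by
    rw [op_comp, Functor.map_comp_apply, h]
    unfold sec
    simp only [← Functor.map_comp_apply, ← op_comp, eqToHom_trans, eqToHom_refl, op_id,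
      Functor.map_id_apply]⟩

lemma baseOver_homOfBase (Φ : 𝒜 ⥤ᵇ Stk.ofPsh P) (ξ : 𝒜.obj) (η : Stk.EltObj P)
    (a : 𝒜.p.obj ξ ⟶ η.base) (h : P.map a.op η.sec = sec Φ ξ) :
    StMod.baseOver Φ ξ (homOfBase Φ ξ η a h) = a := by
  unfold StMod.baseOver homOfBase
  change eqToHom _ ≫ eqToHom _ ≫ a = a
  simp

lemma hom_ext_baseOver (Φ : 𝒜 ⥤ᵇ Stk.ofPsh P) (ξ : 𝒜.obj) {η : Stk.EltObj P}
    {α α' : Φ.toFunctor.obj ξ ⟶ η} (h : StMod.baseOver Φ ξ α = StMod.baseOver Φ ξ α') :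
    α = α' := by
  apply Stk.EltObj.hom_ext
  unfold StMod.baseOver at h
  exact (cancel_epi _).1 h

lemma baseOver_sec (Φ : 𝒜 ⥤ᵇ Stk.ofPsh P) (ξ : 𝒜.obj) {η : Stk.EltObj P}
    (α : Φ.toFunctor.obj ξ ⟶ η) : P.map (StMod.baseOver Φ ξ α).op η.sec = sec Φ ξ := by
  unfold StMod.baseOver sec
  rw [← α.map_sec]
  change P.map (eqToHom _ ≫ α.hom).op η.sec = _
  rw [op_comp, Functor.map_comp_apply]

end General

end Groth.Agent.Lib.Helper24.CA3
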