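import Groth.Agent.Lib.Helper24.CA3
set_option autoImplicit false
set_option linter.unusedSimpArgs false
universe u
set_option backward.isDefEq.respectTransparency false
set_option backward.isDefEq.respectTransparency.types false

namespace Groth.Agent.Lib.Helper24.CA3
open CategoryTheory CategoryTheory.Limits MonoidalCategory CartesianMonoidalCategory MonObj GrpObj
open AlgebraicGeometry Opposite
open Groth.Agent.Lib.Helper24.PshFun Groth.Agent.Lib.Helper24.QuotSt1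
open Groth.Agent.Lib.Helper24.QuotSt3 Groth.Agent.Lib.Helper24.QuotSt5
open Groth.Agent.Lib.Helper24.QuotSt7 Groth.Agent.Lib.Helper24.GQ2

section Quot
variable {S : Scheme.{u}} {Gr : Over S} [GrpObj Gr] {X Y : Over S} {aX : AlgGrp.Action Gr X}
  {q : X ⟶ Y}
  {π : AlgSt.QuotSt Scheme.fppfPrecoverage Gr aX ⥤ᵇ AlgSt.ofSch Y}
  (hπ : BasedFunctor.comp (AlgSt.quotMap Scheme.fppfPrecoverage Gr aX) π =
    AlgSt.ofSpMap ((AlgSp.yon S).map q))
  {E₀ : Over S} (e : E₀ ⟶ Y)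

include hπ in
lemma sec_triv {T : Over S} (x : T ⟶ X) :
    sec π (triv Scheme.fppfPrecoverage Gr aX x) = ⟨x ≫ q⟩ := by
  have h3 := congrArg (fun Φ => sec Φ (⟨T, ⟨x⟩⟩ : (AlgSt.ofSch X).obj)) hπ
  simp only at h3
  rw [sec_comp, Groth.Agent.Lib.Helper24.PshBridge.sec_ofPshMap] at h3
  simp only [eqToHom_refl, op_id] at h3
  erw [FunctorToTypes.map_id_apply] at h3
  exact h3

/-- the object `(E₀, e)` of `Y` -/
abbrev eta : (AlgSt.ofSch Y).obj := ⟨E₀, ⟨e⟩⟩

include hπ in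
lemma sec_cond {T : Over S} (x : T ⟶ X) (b : T ⟶ E₀) (hb : b ≫ e = x ≫ q) :
    ((AlgSp.yon S).obj Y).obj.map b.op (eta e).sec =
      sec π (triv Scheme.fppfPrecoverage Gr aX x) := by
  rw [sec_triv hπ]
  exact congrArg ULift.up hb

/-- the morphism `π (triv x) ⟶ (E₀, e)` with base `b` -/
noncomputable def beta {T : Over S} (x : T ⟶ X) (b : T ⟶ E₀) (hb : b ≫ e = x ≫ q) :
    π.toFunctor.obj (triv Scheme.fppfPrecoverage Gr aX x) ⟶ eta e :=
  homOfBase π (triv Scheme.fppfPrecoverage Gr aX x) (eta e) b (sec_cond hπ e x b hb)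

lemma baseOver_beta {T : Over S} (x : T ⟶ X) (b : T ⟶ E₀) (hb : b ≫ e = x ≫ q) :
    StMod.baseOver π (triv Scheme.fppfPrecoverage Gr aX x) (beta hπ e x b hb) = b :=
  baseOver_homOfBase _ _ _ _ _

variable (s : (StMod.O (AlgSt.QuotSt Scheme.fppfPrecoverage Gr aX)).RelSect π (eta e))

/-- the value of a section of the pushforward at a trivial torsor -/
noncomputable def val {T : Over S} (x : T ⟶ X) (b : T ⟶ E₀) (hb : b ≫ e = x ≫ q) : Γ(T.left, ⊤) :=
  s.1 (triv Scheme.fppfPrecoverage Gr aX x) (beta hπ e x b hb)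

lemma val_compat {T T' : Over S} (c : T ⟶ T') (gm : T ⟶ Gr) {x : T ⟶ X} {x' : T' ⟶ X}
    (h : lift gm (c ≫ x') ≫ aX.act = x) (b' : T' ⟶ E₀) (hb' : b' ≫ e = x' ≫ q)
    (b : T ⟶ E₀) (hb : b ≫ e = x ≫ q) (hbb : b = c ≫ b') :
    c.left.appTop.hom (val hπ e s x' b' hb') = val hπ e s x b hb := by
  have h1 := s.2 (trivHom Scheme.fppfPrecoverage Gr aX c gm h) (beta hπ e x' b' hb')
  have h2 : π.toFunctor.map (trivHom Scheme.fppfPrecoverage Gr aX c gm h) ≫ beta hπ e x' b' hb' =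
      beta hπ e x b hb := by
    apply hom_ext_baseOver
    rw [← StMod.map_comp_baseOver, baseOver_beta, baseOver_beta, hbb]
    rfl
  unfold val
  rw [← h2]
  exact h1

include hπ in
lemma base_cond (A : AlgSt.QuotObj Scheme.fppfPrecoverage Gr aX)
    (α : π.toFunctor.obj A ⟶ eta e) :
    (A.π ≫ StMod.baseOver π A α) ≫ e = A.φ ≫ q := by
  have h1 := baseOver_sec π (triv Scheme.fppfPrecoverage Gr aX A.φ)
    (π.toFunctor.map (homOfSec A (𝟙 A.P) (x := A.φ) (Category.id_comp _)) ≫ α)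
  rw [sec_triv hπ, ← StMod.map_comp_baseOver] at h1
  have h2 := congrArg ULift.down h1
  have h3 : (AlgSt.QuotSt Scheme.fppfPrecoverage Gr aX).p.map
      (homOfSec A (𝟙 A.P) (x := A.φ) (Category.id_comp _)) = A.π := by
    change 𝟙 A.P ≫ A.π = A.π
    rw [Category.id_comp]
  rw [h3] at h2
  exact h2

lemma appTop_sect (A : AlgSt.QuotObj Scheme.fppfPrecoverage Gr aX)
    (α : π.toFunctor.obj A ⟶ eta e) :
    A.π.left.appTop.hom (s.1 A α) =
      val hπ e s A.φ (A.π ≫ StMod.baseOver π A α) (base_cond hπ e A α) := by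
  have h1 := s.2 (homOfSec A (𝟙 A.P) (x := A.φ) (Category.id_comp _)) α
  have h3 : (AlgSt.QuotSt Scheme.fppfPrecoverage Gr aX).p.map
      (homOfSec A (𝟙 A.P) (x := A.φ) (Category.id_comp _)) = A.π := by
    change 𝟙 A.P ≫ A.π = A.π
    rw [Category.id_comp]
  have h2 : π.toFunctor.map (homOfSec A (𝟙 A.P) (x := A.φ) (Category.id_comp _)) ≫ α =
      beta hπ e A.φ (A.π ≫ StMod.baseOver π A α) (base_cond hπ e A α) := by
    apply hom_ext_baseOver
    rw [← StMod.map_comp_baseOver, baseOver_beta, h3]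
  unfold val
  rw [← h2, ← h1]
  change A.π.left.appTop.hom (s.1 A α) =
    (StMod.bmap (AlgSt.QuotSt Scheme.fppfPrecoverage Gr aX)
      (homOfSec A (𝟙 A.P) (x := A.φ) (Category.id_comp _))).appTop.hom (s.1 A α)
  have h4 : StMod.bmap (AlgSt.QuotSt Scheme.fppfPrecoverage Gr aX)
      (homOfSec A (𝟙 A.P) (x := A.φ) (Category.id_comp _)) = A.π.left := by
    change ((AlgSt.QuotSt Scheme.fppfPrecoverage Gr aX).p.map _).left = _
    rw [h3]
  rw [h4]
  rfl

end Quot

end Groth.Agent.Lib.Helper24.CA3
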