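import Mathlib
set_option autoImplicit false
universe u
open CategoryTheory CategoryTheory.Limits AlgebraicGeometry

/-! Gluing global functions along an open cover. -/

namespace Groth.Agent.Lib.Helper24.CA4

theorem glue_sections {Z : Scheme.{u}} (𝒰 : Z.OpenCover) (r : ∀ i, Γ(𝒰.X i, ⊤))
    (h : ∀ i j, (pullback.fst (𝒰.f i) (𝒰.f j)).appTop.hom (r i) =
      (pullback.snd (𝒰.f i) (𝒰.f j)).appTop.hom (r j)) :
    ∃ r₀ : Γ(Z, ⊤), ∀ i, (𝒰.f i).appTop.hom r₀ = r i := by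
  let f : ∀ i, 𝒰.X i ⟶ Spec (CommRingCat.of (MvPolynomial PUnit.{u+1} (ULift.{u} ℤ))) := fun i =>
    (AffineSpace.toSpecMvPolyIntEquiv PUnit.{u+1}).symm (fun _ => r i)
  have hf : ∀ i j, pullback.fst (𝒰.f i) (𝒰.f j) ≫ f i = pullback.snd _ _ ≫ f j := by
    intro i j
    apply (AffineSpace.toSpecMvPolyIntEquiv PUnit.{u+1}).injective
    funext x
    rw [AffineSpace.toSpecMvPolyIntEquiv_comp, AffineSpace.toSpecMvPolyIntEquiv_comp]
    simp only [f, Equiv.apply_symm_apply]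
    exact h i j
  refine ⟨AffineSpace.toSpecMvPolyIntEquiv PUnit.{u+1} (𝒰.glueMorphisms f hf) PUnit.unit,
    fun i => ?_⟩
  have := AffineSpace.toSpecMvPolyIntEquiv_comp PUnit.{u+1} (𝒰.f i) (𝒰.glueMorphisms f hf)
    PUnit.unit
  rw [Scheme.Cover.ι_glueMorphisms] at this
  simp only [f, Equiv.apply_symm_apply] at this
  exact this.symm

theorem ext_affine {Z : Scheme.{u}} (f g : Γ(Z, ⊤))
    (h : ∀ (V : Scheme.{u}) (n : V ⟶ Z) [IsAffine V] [IsOpenImmersion n],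
      n.appTop.hom f = n.appTop.hom g) : f = g :=
  Scheme.OpenCover.ext_elem f g Z.affineCover (fun i => h _ (Z.affineCover.f i))

theorem ext_cover_affine {Z : Scheme.{u}} (𝒰 : Z.OpenCover) (f g : Γ(Z, ⊤))
    (h : ∀ (i : 𝒰.I₀) (V : Scheme.{u}) (n : V ⟶ 𝒰.X i) [IsAffine V] [IsOpenImmersion n],
      (n ≫ 𝒰.f i).appTop.hom f = (n ≫ 𝒰.f i).appTop.hom g) : f = g := by
  refine Scheme.OpenCover.ext_elem f g 𝒰 (fun i => ?_)
  apply ext_affine
  intro V n _ _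
  have := h i V n
  rw [Scheme.Hom.comp_appTop] at this
  exact this


end Groth.Agent.Lib.Helper24.CA4
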