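import Groth.Agent.Lib.Helper24.CA3q
import Groth.Agent.Lib.Helper24.CA4
set_option autoImplicit false
set_option linter.unusedSimpArgs false
universe u
set_option backward.isDefEq.respectTransparency false
set_option backward.isDefEq.respectTransparency.types false

namespace Groth.Agent.Lib.Helper24.CA5
open CategoryTheory CategoryTheory.Limits MonoidalCategory CartesianMonoidalCategory MonObj GrpObj
open AlgebraicGeometry Opposite
open Groth.Agent.Lib.Helper24.PshFun Groth.Agent.Lib.Helper24.QuotSt1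
open Groth.Agent.Lib.Helper24.QuotSt3 Groth.Agent.Lib.Helper24.QuotSt5
open Groth.Agent.Lib.Helper24.QuotSt7 Groth.Agent.Lib.Helper24.GQ2
open Groth.Agent.Lib.Helper24.CA3 Groth.Agent.Lib.Helper24.CA4

variable {S : Scheme.{u}} {Gr : Over S} [GrpObj Gr] {X Y : Over S} {aX : AlgGrp.Action Gr X}
  {q : X ⟶ Y}
  {π : AlgSt.QuotSt Scheme.fppfPrecoverage Gr aX ⥤ᵇ AlgSt.ofSch Y}
  (hπ : BasedFunctor.comp (AlgSt.quotMap Scheme.fppfPrecoverage Gr aX) π =
    AlgSt.ofSpMap ((AlgSp.yon S).map q))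
  {E₀ : Over S} (e : E₀ ⟶ Y)

section Data
variable {W : Scheme.{u}} (w₀ : W ⟶ E₀.left)

/-- `X ×_Y W` over `S` -/
noncomputable def XW (q : X ⟶ Y) : Over S := Over.mk (pullback.fst q.left (w₀ ≫ e.left) ≫ X.hom)

noncomputable def xW : XW e w₀ q ⟶ X := Over.homMk (pullback.fst q.left (w₀ ≫ e.left)) rfl

noncomputable def bW : XW e w₀ q ⟶ E₀ :=
  Over.homMk (pullback.snd q.left (w₀ ≫ e.left) ≫ w₀) (by
    change (pullback.snd q.left (w₀ ≫ e.left) ≫ w₀) ≫ E₀.hom =
      pullback.fst q.left (w₀ ≫ e.left) ≫ X.hom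
    rw [← Over.w e, ← Over.w q, Category.assoc, ← Category.assoc w₀,
      ← pullback.condition_assoc])

lemma hbW : bW e w₀ ≫ e = xW e w₀ (q := q) ≫ q := by
  apply Over.OverMorphism.ext
  change (pullback.snd q.left (w₀ ≫ e.left) ≫ w₀) ≫ e.left =
    pullback.fst q.left (w₀ ≫ e.left) ≫ q.left
  rw [Category.assoc, pullback.condition]

variable (s : (StMod.O (AlgSt.QuotSt Scheme.fppfPrecoverage Gr aX)).RelSect π (eta e))

/-- the value of `s` on `X ×_Y W` -/
noncomputable def r0 : Γ(pullback q.left (w₀ ≫ e.left), ⊤) :=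
  val hπ e s (xW e w₀) (bW e w₀) (hbW e w₀)

variable {Ix : Type*} (a : Ix → (X ⟶ X))
  (ha : ∀ (i : Ix) (T : Over S) (y : T ⟶ X), ∃ gm : T ⟶ Gr, lift gm (y ≫ a i) ≫ aX.act = y)

include ha in
lemma r0_inv (i : Ix) (σ : pullback q.left (w₀ ≫ e.left) ⟶ pullback q.left (w₀ ≫ e.left))
    (h1 : σ ≫ pullback.fst _ _ = pullback.fst _ _ ≫ (a i).left)
    (h2 : σ ≫ pullback.snd _ _ = pullback.snd _ _) :
    σ.appTop.hom (r0 hπ e w₀ s) = r0 hπ e w₀ s := by
  let σ' : XW e w₀ q ⟶ XW e w₀ q := Over.homMk σ (by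
    change σ ≫ pullback.fst q.left (w₀ ≫ e.left) ≫ X.hom =
      pullback.fst q.left (w₀ ≫ e.left) ≫ X.hom
    rw [← Category.assoc, h1, Category.assoc, Over.w])
  have hσx : σ' ≫ xW e w₀ = xW e w₀ (q := q) ≫ a i := Over.OverMorphism.ext h1
  obtain ⟨gm, hgm⟩ := ha i (XW e w₀ q) (xW e w₀)
  have hb : bW e w₀ (q := q) = σ' ≫ bW e w₀ := by
    apply Over.OverMorphism.ext
    change pullback.snd q.left (w₀ ≫ e.left) ≫ w₀ = σ ≫ pullback.snd q.left (w₀ ≫ e.left) ≫ w₀
    rw [← Category.assoc, h2]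
  exact val_compat hπ e s σ' gm (x := xW e w₀) (x' := xW e w₀) (by rw [hσx]; exact hgm)
    (bW e w₀) (hbW e w₀) (bW e w₀) (hbW e w₀) hb

end Data

section Main
variable {Ix : Type*} (a : Ix → (X ⟶ X))
  (ha : ∀ (i : Ix) (T : Over S) (y : T ⟶ X), ∃ gm : T ⟶ Gr, lift gm (y ≫ a i) ≫ aX.act = y)
  (HK : ∀ (W : Scheme.{u}) (w₀ : W ⟶ E₀.left) [IsAffine W] [IsOpenImmersion w₀],
    Function.Injective (pullback.snd q.left (w₀ ≫ e.left)).appTop.hom ∧
    ∀ f : Γ(pullback q.left (w₀ ≫ e.left), ⊤),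
      (∀ (i : Ix) (σ : pullback q.left (w₀ ≫ e.left) ⟶ pullback q.left (w₀ ≫ e.left)),
        σ ≫ pullback.fst _ _ = pullback.fst _ _ ≫ (a i).left →
        σ ≫ pullback.snd _ _ = pullback.snd _ _ → σ.appTop.hom f = f) →
      ∃ r : Γ(W, ⊤), (pullback.snd q.left (w₀ ≫ e.left)).appTop.hom r = f)
  (s : (StMod.O (AlgSt.QuotSt Scheme.fppfPrecoverage Gr aX)).RelSect π (eta e))

include ha HK in
lemma exists_rW {W : Scheme.{u}} (w₀ : W ⟶ E₀.left) [IsAffine W] [IsOpenImmersion w₀] :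
    ∃ r : Γ(W, ⊤), (pullback.snd q.left (w₀ ≫ e.left)).appTop.hom r = r0 hπ e w₀ s :=
  (HK W w₀).2 (r0 hπ e w₀ s) (fun i σ h1 h2 => r0_inv hπ e w₀ s a ha i σ h1 h2)

/-- the descended function on `W` -/
noncomputable def rW {W : Scheme.{u}} (w₀ : W ⟶ E₀.left) [IsAffine W] [IsOpenImmersion w₀] :
    Γ(W, ⊤) := (exists_rW hπ e a ha HK s w₀).choose

lemma rW_spec {W : Scheme.{u}} (w₀ : W ⟶ E₀.left) [IsAffine W] [IsOpenImmersion w₀] :
    (pullback.snd q.left (w₀ ≫ e.left)).appTop.hom (rW hπ e a ha HK s w₀) = r0 hπ e w₀ s :=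
  (exists_rW hπ e a ha HK s w₀).choose_spec

lemma r0_nat {W W' : Scheme.{u}} (w₀ : W ⟶ E₀.left) (w₀' : W' ⟶ E₀.left) (m : W' ⟶ W)
    (hm : m ≫ w₀ = w₀') (c : pullback q.left (w₀' ≫ e.left) ⟶ pullback q.left (w₀ ≫ e.left))
    (hc1 : c ≫ pullback.fst _ _ = pullback.fst _ _)
    (hc2 : c ≫ pullback.snd _ _ = pullback.snd _ _ ≫ m) :
    c.appTop.hom (r0 hπ e w₀ s) = r0 hπ e w₀' s := by
  let c' : XW e w₀' q ⟶ XW e w₀ q := Over.homMk c (by
    change c ≫ pullback.fst q.left (w₀ ≫ e.left) ≫ X.hom =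
      pullback.fst q.left (w₀' ≫ e.left) ≫ X.hom
    rw [← Category.assoc, hc1])
  have hcx : c' ≫ xW e w₀ = xW e w₀' (q := q) := Over.OverMorphism.ext hc1
  have hb : bW e w₀' (q := q) = c' ≫ bW e w₀ := by
    apply Over.OverMorphism.ext
    change pullback.snd q.left (w₀' ≫ e.left) ≫ w₀' =
      c ≫ pullback.snd q.left (w₀ ≫ e.left) ≫ w₀
    rw [← Category.assoc, hc2, Category.assoc, hm]
  exact val_compat hπ e s c' 1 (x := xW e w₀') (x' := xW e w₀)
    (by rw [hcx]; exact one_act' Gr aX _)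
    (bW e w₀) (hbW e w₀) (bW e w₀') (hbW e w₀') hb

lemma rW_nat {W W' : Scheme.{u}} (w₀ : W ⟶ E₀.left) (w₀' : W' ⟶ E₀.left) [IsAffine W]
    [IsOpenImmersion w₀] [IsAffine W'] [IsOpenImmersion w₀'] (m : W' ⟶ W) (hm : m ≫ w₀ = w₀') :
    m.appTop.hom (rW hπ e a ha HK s w₀) = rW hπ e a ha HK s w₀' := by
  apply (HK W' w₀').1
  rw [rW_spec]
  have hcond : pullback.fst q.left (w₀' ≫ e.left) ≫ q.left =
      (pullback.snd q.left (w₀' ≫ e.left) ≫ m) ≫ w₀ ≫ e.left := by
    rw [Category.assoc, ← Category.assoc m, hm, pullback.condition]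
  have h1 := r0_nat hπ e s w₀ w₀' m hm (pullback.lift _ _ hcond) (pullback.lift_fst _ _ _)
    (pullback.lift_snd _ _ _)
  rw [← h1, ← rW_spec hπ e a ha HK s w₀]
  rw [← CommRingCat.comp_apply, ← CommRingCat.comp_apply, ← Scheme.Hom.comp_appTop,
    ← Scheme.Hom.comp_appTop, pullback.lift_snd]

include ha HK in
lemma exists_glued : ∃ r : Γ(E₀.left, ⊤), ∀ (W : Scheme.{u}) (w₀ : W ⟶ E₀.left) [IsAffine W]
    [IsOpenImmersion w₀], w₀.appTop.hom r = rW hπ e a ha HK s w₀ := by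
  obtain ⟨r, hr⟩ := glue_sections E₀.left.affineCover
    (fun i => rW hπ e a ha HK s (E₀.left.affineCover.f i)) (by
      intro i j
      apply ext_affine
      intro V n _ _
      rw [← CommRingCat.comp_apply, ← CommRingCat.comp_apply, ← Scheme.Hom.comp_appTop,
        ← Scheme.Hom.comp_appTop]
      rw [rW_nat hπ e a ha HK s (E₀.left.affineCover.f i)
        ((n ≫ pullback.fst _ _) ≫ E₀.left.affineCover.f i) (n ≫ pullback.fst _ _) rfl,
        rW_nat hπ e a ha HK s (E₀.left.affineCover.f j)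
        ((n ≫ pullback.fst _ _) ≫ E₀.left.affineCover.f i) (n ≫ pullback.snd _ _)
        (by rw [Category.assoc, Category.assoc, pullback.condition])])
  refine ⟨r, fun W w₀ _ _ => ?_⟩
  apply ext_cover_affine (E₀.left.affineCover.pullback₁ w₀)
  intro i V n _ _
  change (n ≫ pullback.fst w₀ (E₀.left.affineCover.f i)).appTop.hom _ =
    (n ≫ pullback.fst w₀ (E₀.left.affineCover.f i)).appTop.hom _
  rw [rW_nat hπ e a ha HK s w₀ ((n ≫ pullback.snd _ _) ≫ E₀.left.affineCover.f i)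
    (n ≫ pullback.fst _ _) (by rw [Category.assoc, Category.assoc, pullback.condition]),
    ← rW_nat hπ e a ha HK s (E₀.left.affineCover.f i)
      ((n ≫ pullback.snd _ _) ≫ E₀.left.affineCover.f i) (n ≫ pullback.snd _ _) rfl, ← hr i,
    ← CommRingCat.comp_apply, ← CommRingCat.comp_apply, ← Scheme.Hom.comp_appTop,
    ← Scheme.Hom.comp_appTop, Category.assoc, Category.assoc, pullback.condition]

lemma val_eq (r : Γ(E₀.left, ⊤)) (hr : ∀ (W : Scheme.{u}) (w₀ : W ⟶ E₀.left) [IsAffine W]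
    [IsOpenImmersion w₀], w₀.appTop.hom r = rW hπ e a ha HK s w₀)
    {T : Over S} (x : T ⟶ X) (b : T ⟶ E₀) (hb : b ≫ e = x ≫ q) :
    val hπ e s x b hb = b.left.appTop.hom r := by
  refine ext_cover_affine (E₀.left.affineCover.pullback₁ b.left) _ _
    (fun (i : E₀.left.affineCover.I₀) V
      (n : V ⟶ pullback b.left (E₀.left.affineCover.f i)) _ _ => ?_)
  change (n ≫ pullback.fst b.left (E₀.left.affineCover.f i)).appTop.hom _ =
    (n ≫ pullback.fst b.left (E₀.left.affineCover.f i)).appTop.hom _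
  obtain ⟨j, hj⟩ : ∃ j : V ⟶ T.left, j = n ≫ pullback.fst b.left (E₀.left.affineCover.f i) :=
    ⟨_, rfl⟩
  obtain ⟨d, hd⟩ : ∃ d : V ⟶ E₀.left.affineCover.X i,
      d = n ≫ pullback.snd b.left (E₀.left.affineCover.f i) := ⟨_, rfl⟩
  have hjd : j ≫ b.left = d ≫ E₀.left.affineCover.f i := by
    rw [hj, hd, Category.assoc, Category.assoc, pullback.condition]
  rw [← hj]
  let T' : Over S := Over.mk (j ≫ T.hom)
  let j' : T' ⟶ T := Over.homMk j rfl
  have hb1 : (j' ≫ b) ≫ e = (j' ≫ x) ≫ q := by rw [Category.assoc, hb, Category.assoc]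
  have h1 : j.appTop.hom (val hπ e s x b hb) = val hπ e s (j' ≫ x) (j' ≫ b) hb1 :=
    val_compat hπ e s j' 1 (one_act' Gr aX _) b hb (j' ≫ b) hb1 rfl
  have hcond : (j ≫ x.left) ≫ q.left = d ≫ E₀.left.affineCover.f i ≫ e.left := by
    have := congrArg (fun t => t.left) hb
    simp only [Over.comp_left] at this
    rw [Category.assoc, ← this, ← Category.assoc, hjd, Category.assoc]
  let c : T' ⟶ XW e (E₀.left.affineCover.f i) q :=
    Over.homMk (pullback.lift (j ≫ x.left) d hcond) (by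
      change pullback.lift (j ≫ x.left) d hcond ≫ pullback.fst _ _ ≫ X.hom = j ≫ T.hom
      rw [pullback.lift_fst_assoc, Category.assoc, Over.w])
  have hcx : c ≫ xW e (E₀.left.affineCover.f i) = j' ≫ x :=
    Over.OverMorphism.ext (pullback.lift_fst _ _ _)
  have hcb : j' ≫ b = c ≫ bW e (E₀.left.affineCover.f i) := by
    apply Over.OverMorphism.ext
    change j ≫ b.left = pullback.lift (j ≫ x.left) d hcond ≫ pullback.snd _ _ ≫ _
    rw [pullback.lift_snd_assoc, hjd]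
  have h2 : c.left.appTop.hom (r0 hπ e (E₀.left.affineCover.f i) s) =
      val hπ e s (j' ≫ x) (j' ≫ b) hb1 :=
    val_compat hπ e s c 1 (by rw [hcx]; exact one_act' Gr aX _) _ (hbW e _) (j' ≫ b) hb1 hcb
  rw [h1, ← h2, ← rW_spec hπ e a ha HK s, ← hr]
  have h3 : c.left ≫ pullback.snd q.left (E₀.left.affineCover.f i ≫ e.left) ≫
      E₀.left.affineCover.f i = j ≫ b.left := by
    change pullback.lift (j ≫ x.left) d hcond ≫ pullback.snd _ _ ≫ _ = _
    rw [pullback.lift_snd_assoc, hjd]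
  have h4 := congrArg (fun t => t.appTop.hom r) h3
  simp only [Scheme.Hom.comp_appTop, CommRingCat.hom_comp, RingHom.comp_apply] at h4
  exact h4

variable [IsAffineHom Gr.hom] [Flat Gr.hom] [LocallyOfFinitePresentation Gr.hom]

include hπ ha HK in
theorem bijective_unitSect : Function.Bijective (StMod.unitSect π (eta e)) := by
  constructor
  · intro r r' h
    apply ext_affine
    intro V n _ _
    apply (HK V n).1
    have h1 := congrArg (fun t => t.1 (triv Scheme.fppfPrecoverage Gr aX (xW e n))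
      (beta hπ e (xW e n) (bW e n) (hbW e n))) h
    simp only [StMod.unitSect_val, baseOver_beta] at h1
    have h2 : ∀ r₁ : Γ(E₀.left, ⊤), (bW e n (q := q)).left.appTop.hom r₁ =
        (pullback.snd q.left (n ≫ e.left)).appTop.hom (n.appTop.hom r₁) := by
      intro r₁
      change (pullback.snd q.left (n ≫ e.left) ≫ n).appTop.hom r₁ = _
      rw [Scheme.Hom.comp_appTop]
      rfl
    rw [← h2, ← h2]
    exact h1
  · intro s
    obtain ⟨r, hr⟩ := exists_glued hπ e a ha HK s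
    refine ⟨r, ?_⟩
    apply StMod.Mod.RelSect.ext
    intro A α
    rw [StMod.unitSect_val]
    apply appTop_injective_of_epi A.π (epi_π A)
    have h1 := appTop_sect hπ e s A α
    have h2 := val_eq hπ e a ha HK s r hr A.φ (A.π ≫ StMod.baseOver π A α) (base_cond hπ e A α)
    refine Eq.trans ?_ (h2.symm.trans h1.symm)
    change _ = (A.π.left ≫ (StMod.baseOver π A α).left).appTop.hom r
    rw [Scheme.Hom.comp_appTop]
    rfl

end Main

end Groth.Agent.Lib.Helper24.CA5
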