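import Groth.Agent.Lib.Helper24.CA5
import Groth.Agent.Lib.Helper24.CA2
import Groth.Prelude.Def_ConstAct2
set_option autoImplicit false
set_option linter.unusedSimpArgs false
set_option linter.unusedSectionVars false
universe u
set_option backward.isDefEq.respectTransparency false
set_option backward.isDefEq.respectTransparency.types false

namespace Groth.Agent.Lib.Helper24.CA6
open CategoryTheory CategoryTheory.Limits MonoidalCategory CartesianMonoidalCategory MonObj GrpObj
open AlgebraicGeometry Opposite

variable (R : Type u) [CommRing R] (A : Type u) [CommRing A] [Algebra R A]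
variable (G : Type u) [Group G] [Fintype G] [DecidableEq G] [MulSemiringAction G A]
  [SMulCommClass G R A]

lemma GR_hom : (ConstAct.GR R G).hom =
    Spec.map (CommRingCat.ofHom (algebraMap R (ConstGrp.F R G))) := rfl

instance flat_GR : Flat (ConstAct.GR R G).hom := by
  rw [GR_hom, Flat.SpecMap_iff]
  exact RingHom.flat_algebraMap_iff.2 inferInstance

instance isAffineHom_GR : IsAffineHom (ConstAct.GR R G).hom := by
  exact inferInstanceAs
    (IsAffineHom (Spec.map (CommRingCat.ofHom (algebraMap R (ConstGrp.F R G)))))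

instance lfp_GR [IsNoetherianRing R] : LocallyOfFinitePresentation (ConstAct.GR R G).hom := by
  rw [GR_hom, LocallyOfFinitePresentation.SpecMap_iff]
  rw [CommRingCat.hom_ofHom, RingHom.finitePresentation_algebraMap]
  exact Algebra.FinitePresentation.of_finiteType.1 inferInstance

lemma exists_const (g : G) (T : Over (Spec (CommRingCat.of R))) (y : T ⟶ ConstAct.X R A) :
    ∃ gm : T ⟶ ConstAct.GR R G,
      lift gm (y ≫ ConstAct.act R A G g) ≫ (ConstAct.gaction R A G).act = y := by
  have key : lift (CoactBr.pt (ConstAct.constPt R G (K := A) g)) (𝟙 (ConstAct.X R A)) ≫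
      (ConstAct.gaction R A G).act = ConstAct.act R A G g⁻¹ := by
    have h := ConstAct.gaction_constPt R A G g (AlgHom.id R A)
    rw [CoactBr.pt_id] at h
    rw [Category.id_comp] at h
    exact h
  refine ⟨(y ≫ ConstAct.act R A G g) ≫ CoactBr.pt (ConstAct.constPt R G (K := A) g), ?_⟩
  have h1 : lift ((y ≫ ConstAct.act R A G g) ≫ CoactBr.pt (ConstAct.constPt R G (K := A) g))
      (y ≫ ConstAct.act R A G g) = (y ≫ ConstAct.act R A G g) ≫
        lift (CoactBr.pt (ConstAct.constPt R G (K := A) g)) (𝟙 (ConstAct.X R A)) := by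
    rw [comp_lift]
    congr 1
  rw [h1, Category.assoc, key, Category.assoc, ← ConstAct.act_mul, mul_inv_cancel,
    ConstAct.act_one]
  exact Category.comp_id _

theorem unitIsIso [IsNoetherianRing R]
    (π : ConstAct.quotSt R A G Scheme.fppfPrecoverage ⥤ᵇ AlgSt.ofSch (ConstAct.specInv R A G))
    (hπ : BasedFunctor.comp
        (AlgSt.quotMap Scheme.fppfPrecoverage (ConstAct.GR R G) (ConstAct.gaction R A G)) π =
      AlgSt.ofSpMap ((AlgSp.yon (Spec (CommRingCat.of R))).map (ConstAct.quot R A G))) :
    StMod.UnitIsIso π := by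
  intro E
  obtain ⟨e, he⟩ := (AlgSp.yon (Spec (CommRingCat.of R))).map_surjective E.obj.hom
  have hη : StMod.etaOf E = Groth.Agent.Lib.Helper24.CA3.eta e := by
    unfold StMod.etaOf Groth.Agent.Lib.Helper24.CA3.eta
    congr 1
    rw [← he]
    exact Groth.Agent.Lib.Helper24.QuotSt7.yEquiv_yon_map e
  rw [hη]
  have hP := E.property
  rw [← he] at hP
  haveI het : Etale e.left := (AlgSp.repWith_yon_map_iff @Etale e).1 hP
  refine Groth.Agent.Lib.Helper24.CA5.bijective_unitSect hπ e
    (fun g : G => ConstAct.act R A G g) (exists_const R A G) (fun W w₀ _ _ => ?_)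
  haveI : Flat (w₀ ≫ e.left) := inferInstance
  exact Groth.Agent.Lib.Helper24.CA2.affine_key R A G (w₀ ≫ e.left) (pullback.fst _ _)
    (pullback.snd _ _) (IsPullback.of_hasPullback _ _)

end Groth.Agent.Lib.Helper24.CA6
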