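import Mathlib
set_option autoImplicit false
set_option linter.style.haveILetI false
universe u
open MvPolynomial

/-! Two ring homomorphisms to a domain agreeing on the invariants of a finite group differ by an
element of the group. -/

namespace Groth.Agent.Lib.Helper24.CB1

section
variable {A : Type*} [CommRing A] {G : Type*} [Group G] [MulSemiringAction G A] (σ : Type*)

/-- the coefficientwise action on polynomials -/
noncomputable instance mvAction : MulSemiringAction G (MvPolynomial σ A) where
  smul g p := MvPolynomial.map (MulSemiringAction.toRingHom G A g) p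
  one_smul p := by
    change MvPolynomial.map (MulSemiringAction.toRingHom G A 1) p = p
    have : MulSemiringAction.toRingHom G A 1 = RingHom.id A := RingHom.ext (one_smul G)
    rw [this, MvPolynomial.map_id]
  mul_smul g h p := by
    change MvPolynomial.map (MulSemiringAction.toRingHom G A (g * h)) p =
      MvPolynomial.map (MulSemiringAction.toRingHom G A g)
        (MvPolynomial.map (MulSemiringAction.toRingHom G A h) p)
    rw [MvPolynomial.map_map]
    exact congrArg (fun f => MvPolynomial.map f p) (RingHom.ext fun a => mul_smul g h a)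
  smul_zero g := map_zero _
  smul_add g p q := map_add _ p q
  smul_one g := map_one _
  smul_mul g p q := map_mul _ p q

lemma smul_def (g : G) (p : MvPolynomial σ A) :
    g • p = MvPolynomial.map (MulSemiringAction.toRingHom G A g) p := rfl

lemma coeff_smul (g : G) (p : MvPolynomial σ A) (m : σ →₀ ℕ) :
    coeff m (g • p) = g • coeff m p := by
  rw [smul_def, MvPolynomial.coeff_map]
  rfl

end

theorem exists_smul_of_comp_eq {A : Type u} [CommRing A] {G : Type*} [Group G] [Finite G]
    [MulSemiringAction G A] {Ω : Type u} [CommRing Ω] [IsDomain Ω] (φ₁ φ₂ : A →+* Ω)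
    (h : ∀ a : A, (∀ g : G, g • a = a) → φ₁ a = φ₂ a) : ∃ g : G, ∀ a, φ₂ a = φ₁ (g • a) := by
  let B := MvPolynomial Ω A
  let X₁ : B →+* Ω := MvPolynomial.eval₂Hom φ₁ id
  let X₂ : B →+* Ω := MvPolynomial.eval₂Hom φ₂ id
  have hX : ∀ b : B, (∀ g : G, g • b = b) → X₁ b = X₂ b := by
    intro b hb
    change MvPolynomial.eval₂ φ₁ id b = MvPolynomial.eval₂ φ₂ id b
    rw [MvPolynomial.eval₂_eq, MvPolynomial.eval₂_eq]
    refine Finset.sum_congr rfl fun m _ => ?_
    rw [h (coeff m b) (fun g => by rw [← coeff_smul, hb g])]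
  haveI : Algebra.IsInvariant (FixedPoints.subring B G) B G := ⟨fun b hb => ⟨⟨b, hb⟩, rfl⟩⟩
  haveI : SMulCommClass G (FixedPoints.subring B G) B := ⟨fun g a b => by
    exact (smul_mul' g (a : MvPolynomial Ω A) b).trans (congrArg (· * g • b) (a.2 g))⟩
  haveI h1 : (RingHom.ker X₁).IsPrime := RingHom.ker_isPrime X₁
  haveI h2 : (RingHom.ker X₂).IsPrime := RingHom.ker_isPrime X₂
  have hunder : (RingHom.ker X₁).under (FixedPoints.subring B G) =
      (RingHom.ker X₂).under (FixedPoints.subring B G) := by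
    ext a
    simp only [Ideal.under_def, Ideal.mem_comap, RingHom.mem_ker]
    change X₁ (a : B) = 0 ↔ X₂ (a : B) = 0
    rw [hX a a.2]
  obtain ⟨g, hg⟩ := Algebra.IsInvariant.exists_smul_of_under_eq (FixedPoints.subring B G) B G
    (RingHom.ker X₁) (RingHom.ker X₂) hunder
  refine ⟨g⁻¹, fun a => ?_⟩
  have hb : (C a - X (φ₂ a) : B) ∈ RingHom.ker X₂ := by
    rw [RingHom.mem_ker]
    change MvPolynomial.eval₂ φ₂ id (C a - X (φ₂ a)) = 0
    simp
  rw [hg, Ideal.mem_pointwise_smul_iff_inv_smul_mem, RingHom.mem_ker] at hb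
  have hb' : g⁻¹ • (C a - X (φ₂ a) : B) = C (g⁻¹ • a) - X (φ₂ a) := by
    rw [smul_def]
    simp
  have hb2 : X₁ (C (g⁻¹ • a) - X (φ₂ a)) = 0 := hb' ▸ hb
  change MvPolynomial.eval₂ φ₁ id (C (g⁻¹ • a) - X (φ₂ a)) = 0 at hb2
  replace hb := hb2
  simp only [eval₂_sub, eval₂_C, eval₂_X, id] at hb
  exact (sub_eq_zero.1 hb).symm

end Groth.Agent.Lib.Helper24.CB1
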