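import Mathlib
import Groth.Agent.Lib.Helper24.CB1
import Groth.Prelude.Def_ConstAct
set_option autoImplicit false
set_option linter.style.haveILetI false
universe u
open CategoryTheory CategoryTheory.Limits AlgebraicGeometry

/-! Points of `Spec A` with values in a domain and the same image in `Spec A^G` are conjugate. -/

namespace Groth.Agent.Lib.Helper24.CB2

variable (R : Type u) [CommRing R] (A : Type u) [CommRing A] [Algebra R A]
variable (G : Type u) [Group G] [Finite G] [MulSemiringAction G A] [SMulCommClass G R A]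

theorem exists_act_eq {Ω : Type u} [CommRing Ω] [IsDomain Ω]
    (str : Spec (CommRingCat.of Ω) ⟶ Spec (CommRingCat.of R))
    (x₁ x₂ : Over.mk str ⟶ ConstAct.specA R A)
    (h : x₁ ≫ ConstAct.quot R A G = x₂ ≫ ConstAct.quot R A G) :
    ∃ g : G, x₂ = x₁ ≫ ConstAct.act R A G g := by
  obtain ⟨φ₁, hφ₁⟩ : ∃ φ₁ : CommRingCat.of A ⟶ CommRingCat.of Ω, Spec.map φ₁ = x₁.left :=
    ⟨Spec.preimage x₁.left, Spec.map_preimage _⟩
  obtain ⟨φ₂, hφ₂⟩ : ∃ φ₂ : CommRingCat.of A ⟶ CommRingCat.of Ω, Spec.map φ₂ = x₂.left :=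
    ⟨Spec.preimage x₂.left, Spec.map_preimage _⟩
  have h1 := congrArg (fun t => t.left) h
  simp only [Over.comp_left] at h1
  have hq : (ConstAct.quot R A G).left =
      Spec.map (CommRingCat.ofHom (ConstAct.inv R A G).val.toRingHom) := rfl
  rw [hq, ← hφ₁, ← hφ₂, ← Spec.map_comp, ← Spec.map_comp] at h1
  have h2 := Spec.map_injective h1
  have h3 : ∀ a : A, (∀ g : G, g • a = a) → φ₁.hom a = φ₂.hom a := by
    intro a ha
    exact congr($(h2).hom ⟨a, ha⟩)
  obtain ⟨g, hg⟩ := Groth.Agent.Lib.Helper24.CB1.exists_smul_of_comp_eq φ₁.hom φ₂.hom h3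
  refine ⟨g, ?_⟩
  apply Over.OverMorphism.ext
  rw [Over.comp_left, ConstAct.act_left, ← hφ₁, ← hφ₂, ← Spec.map_comp]
  congr 1
  ext a
  exact hg a

end Groth.Agent.Lib.Helper24.CB2
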