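import Mathlib
set_option autoImplicit false
set_option linter.style.haveILetI false
universe u
open CategoryTheory CategoryTheory.Limits AlgebraicGeometry

/-! Points with values in an algebraically closed field lift along surjective morphisms locally of
finite type. -/

namespace Groth.Agent.Lib.Helper24.CB3

theorem exists_lift_of_isAlgClosed {Ω : Type u} [Field Ω] [IsAlgClosed Ω]
    {P B : Scheme.{u}} (f : P ⟶ B) [LocallyOfFiniteType f] [Surjective f]
    (b : Spec (CommRingCat.of Ω) ⟶ B) :
    ∃ s : Spec (CommRingCat.of Ω) ⟶ P, s ≫ f = b := by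
  let f' := pullback.snd f b
  haveI : JacobsonSpace (Spec (CommRingCat.of Ω)) := inferInstance
  haveI : JacobsonSpace ↥(pullback f b) := LocallyOfFiniteType.jacobsonSpace f'
  haveI hs : Surjective f' := inferInstance
  obtain ⟨z, hz⟩ := hs.surj (IsLocalRing.closedPoint Ω)
  obtain ⟨x, -, hx⟩ := nonempty_inter_closedPoints (X := ↥(pullback f b))
    (Z := Set.univ) ⟨z, trivial⟩ isOpen_univ.isLocallyClosed
  have hx' : IsClosed ({x} : Set ↥(pullback f b)) := hx
  refine ⟨pointOfClosedPoint f' x hx' ≫ pullback.fst _ _, ?_⟩
  rw [Category.assoc, pullback.condition, ← Category.assoc]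
  have := pointOfClosedPoint_comp f' x hx'
  rw [this, Category.id_comp]

end Groth.Agent.Lib.Helper24.CB3
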