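import Groth.Agent.Lib.Helper24.CA3q
import Groth.Agent.Lib.Helper24.CB3
import Groth.Agent.Lib.Helper24.AlgStUniv3
set_option autoImplicit false
set_option linter.unusedSimpArgs false
set_option linter.style.haveILetI false
universe u
set_option backward.isDefEq.respectTransparency false
set_option backward.isDefEq.respectTransparency.types false

/-! The diagonal of `[X/G] ⟶ Y` is surjective on points when geometric points of `X` with the same
image in `Y` are conjugate. -/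

namespace Groth.Agent.Lib.Helper24.CB4
open CategoryTheory CategoryTheory.Limits MonoidalCategory CartesianMonoidalCategory MonObj GrpObj
open AlgebraicGeometry Opposite AlgSt
open Groth.Agent.Lib.Helper24.PshFun Groth.Agent.Lib.Helper24.QuotSt1
open Groth.Agent.Lib.Helper24.QuotSt3 Groth.Agent.Lib.Helper24.QuotSt5
open Groth.Agent.Lib.Helper24.QuotSt7 Groth.Agent.Lib.Helper24.CA3

variable {S : Scheme.{u}} {Gr : Over S} [GrpObj Gr] [IsAffineHom Gr.hom] [Flat Gr.hom]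
  [LocallyOfFinitePresentation Gr.hom] {X Y : Over S} {aX : AlgGrp.Action Gr X}
  {q : X ⟶ Y}
  {π : AlgSt.QuotSt Scheme.fppfPrecoverage Gr aX ⥤ᵇ AlgSt.ofSch Y}
  (hπ : BasedFunctor.comp (AlgSt.quotMap Scheme.fppfPrecoverage Gr aX) π =
    AlgSt.ofSpMap ((AlgSp.yon S).map q))

/-- sections of a torsor over an algebraically closed point -/
lemma exists_sec (A : AlgSt.QuotObj Scheme.fppfPrecoverage Gr aX) {Ω : Type u} [Field Ω]
    [IsAlgClosed Ω] (str : Spec (CommRingCat.of Ω) ⟶ S) (t : Over.mk str ⟶ A.base) :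
    ∃ s : Over.mk str ⟶ A.P, s ≫ A.π = t := by
  haveI : LocallyOfFiniteType A.π.left := inferInstance
  obtain ⟨s, hs⟩ := Groth.Agent.Lib.Helper24.CB3.exists_lift_of_isAlgClosed A.π.left t.left
  refine ⟨Over.homMk s ?_, Over.OverMorphism.ext hs⟩
  have h1 := Over.w A.π
  have h2 := Over.w t
  change s ≫ A.P.hom = str
  rw [← h1, ← Category.assoc, hs]
  exact h2

include hπ in
theorem isSurjective_diag
    (ORB : ∀ (Ω : Type u) [Field Ω] [IsAlgClosed Ω] (str : Spec (CommRingCat.of Ω) ⟶ S)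
      (x₁ x₂ : Over.mk str ⟶ X), x₁ ≫ q = x₂ ≫ q →
        ∃ gm : Over.mk str ⟶ Gr, lift gm x₂ ≫ aX.act = x₁) :
    AlgSt.IsSurjective (FibCat.diag π) := by
  intro w
  obtain ⟨p, rfl⟩ := Points.mk_surjective w
  letI := p.field
  obtain ⟨ξ₁, hξ₁⟩ : ∃ ξ₁ : AlgSt.QuotObj Scheme.fppfPrecoverage Gr aX, ξ₁ = p.obj.obj.fst :=
    ⟨_, rfl⟩
  obtain ⟨ξ₂, hξ₂⟩ : ∃ ξ₂ : AlgSt.QuotObj Scheme.fppfPrecoverage Gr aX, ξ₂ = p.obj.obj.snd :=
    ⟨_, rfl⟩
  obtain ⟨α, hα⟩ : ∃ α : π.toFunctor.obj p.obj.obj.fst ≅ π.toFunctor.obj p.obj.obj.snd,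
    α = p.obj.obj.iso := ⟨_, rfl⟩
  have hlies : p.obj.obj.fst.base = Over.mk p.str := p.lies
  let Ω := AlgebraicClosure p.K
  let str' : Spec (CommRingCat.of Ω) ⟶ S :=
    Spec.map (CommRingCat.ofHom (algebraMap p.K Ω)) ≫ p.str
  let t₁ : Over.mk str' ⟶ p.obj.obj.fst.base :=
    (Over.homMk (Spec.map (CommRingCat.ofHom (algebraMap p.K Ω))) rfl :
      Over.mk str' ⟶ Over.mk p.str) ≫ eqToHom hlies.symm
  let t₂ : Over.mk str' ⟶ p.obj.obj.snd.base :=
    t₁ ≫ StMod.baseOver π p.obj.obj.fst α.hom ≫ eqToHom (π.w_obj p.obj.obj.snd)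
  obtain ⟨s₁, hs₁⟩ := exists_sec p.obj.obj.fst str' t₁
  obtain ⟨s₂, hs₂⟩ := exists_sec p.obj.obj.snd str' t₂
  obtain ⟨x₁, hx₁⟩ : ∃ x₁ : Over.mk str' ⟶ X, s₁ ≫ p.obj.obj.fst.φ = x₁ := ⟨_, rfl⟩
  obtain ⟨x₂, hx₂⟩ : ∃ x₂ : Over.mk str' ⟶ X, s₂ ≫ p.obj.obj.snd.φ = x₂ := ⟨_, rfl⟩
  let a := homOfSec p.obj.obj.fst s₁ hx₁
  let b₀ := homOfSec p.obj.obj.snd s₂ hx₂
  have ha : (AlgSt.QuotSt Scheme.fppfPrecoverage Gr aX).p.map a = t₁ := hs₁
  have hb₀ : (AlgSt.QuotSt Scheme.fppfPrecoverage Gr aX).p.map b₀ = t₂ := hs₂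
  have hxq : x₁ ≫ q = x₂ ≫ q := by
    have h1 := sec_compat π a
    have h2 := sec_compat π b₀
    rw [sec_triv hπ, ha] at h1
    rw [sec_triv hπ, hb₀] at h2
    have h3 := baseOver_sec π p.obj.obj.fst α.hom
    have e1 : t₂ ≫ eqToHom (base_eq π p.obj.obj.snd).symm =
        t₁ ≫ StMod.baseOver π p.obj.obj.fst α.hom := by
      simp only [t₂, Category.assoc, eqToHom_trans, eqToHom_refl, Category.comp_id]
    have h4 : ((AlgSp.yon S).obj Y).obj.map t₂.op (sec π p.obj.obj.snd) =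
        ((AlgSp.yon S).obj Y).obj.map t₁.op (sec π p.obj.obj.fst) := by
      rw [← h3]
      have step1 := (FunctorToTypes.map_comp_apply ((AlgSp.yon S).obj Y).obj
        (eqToHom (base_eq π p.obj.obj.snd).symm).op t₂.op (π.toFunctor.obj p.obj.obj.snd).sec)
      have step2 := congrArg (fun m => ((AlgSp.yon S).obj Y).obj.map m.op
        (π.toFunctor.obj p.obj.obj.snd).sec) e1
      have step3 := (FunctorToTypes.map_comp_apply ((AlgSp.yon S).obj Y).obj
        (StMod.baseOver π p.obj.obj.fst α.hom).op t₁.op (π.toFunctor.obj p.obj.obj.snd).sec)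
      exact step1.symm.trans (step2.trans step3)
    have h5 := h1.symm.trans (h4.symm.trans h2)
    exact congrArg ULift.down h5
  obtain ⟨gm, hgm⟩ := ORB Ω str' x₁ x₂ hxq
  let j : triv Scheme.fppfPrecoverage Gr aX x₁ ⟶ triv Scheme.fppfPrecoverage Gr aX x₂ :=
    trivHom Scheme.fppfPrecoverage Gr aX (𝟙 _) gm (by rw [Category.id_comp]; exact hgm)
  have hb : (AlgSt.QuotSt Scheme.fppfPrecoverage Gr aX).p.map (j ≫ b₀) = t₂ := by
    rw [Functor.map_comp, hb₀]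
    exact Category.id_comp _
  let p₀ : FPt (AlgSt.QuotSt Scheme.fppfPrecoverage Gr aX) :=
    { K := Ω, str := str', obj := triv Scheme.fppfPrecoverage Gr aX x₁, lies := rfl }
  refine ⟨Points.mk p₀, ?_⟩
  rw [Points.map_mk]
  apply Points.sound
  have hw : π.toFunctor.map a ≫ p.obj.obj.iso.hom =
      𝟙 (π.toFunctor.obj (triv Scheme.fppfPrecoverage Gr aX x₁)) ≫ π.toFunctor.map (j ≫ b₀) := by
    rw [Category.id_comp, ← hα]
    apply hom_ext_baseOver
    rw [← StMod.map_comp_baseOver, ha]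
    have h6 := StMod.map_comp_baseOver π (j ≫ b₀) (𝟙 (π.toFunctor.obj p.obj.obj.snd))
    rw [Category.comp_id] at h6
    rw [← h6, hb]
    simp only [t₂, StMod.baseOver, Category.assoc, eqToHom_trans_assoc, eqToHom_refl,
      Category.id_comp]
    rw [CategoryTheory.Functor.map_id, Category.comp_id]
  refine ⟨p₀.map (FibCat.diag π), 𝟙 _, ObjectProperty.homMk ⟨a, j ≫ b₀, hw⟩, trivial⟩

end Groth.Agent.Lib.Helper24.CB4
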