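import Groth.Agent.Lib.Helper24.QuotSt12
import Groth.Agent.Lib.Helper24.DescSigma
import Groth.Agent.Lib.Helper24.DescAffine
set_option autoImplicit false
set_option linter.unusedSimpArgs false
universe u
set_option backward.isDefEq.respectTransparency false
set_option backward.isDefEq.respectTransparency.types false

/-! Systems of affine morphisms over an fpqc covering sieve have a vertex. -/

namespace Groth.Agent.Lib.Helper24.QuotSt13
open CategoryTheory CategoryTheory.Limits MonoidalCategory CartesianMonoidalCategory Opposite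
open AlgebraicGeometry MonObj GrpObj Groth.Agent.Lib.Helper24.QuotSt9
open Groth.Agent.Lib.Helper24.StkCone Groth.Agent.Lib.Helper24.StkRefine
open Groth.Agent.Lib.Helper24.QuotSt11 Groth.Agent.Lib.Helper24.QuotSt12

variable {S : Scheme.{u}} {U : Over S} {R : Sieve U} (σ : PreSys R) {I : Type u}
  {V : I → Over S} (f : ∀ i, V i ⟶ U) (hf : ∀ i, R (f i))

theorem exists_vertex (hgen : ∀ a : (Stk.sieveCat R).obj, ∃ i : I, Nonempty (a ⟶ ai f hf i))
    (hu : Presieve.ofArrows (fun i => (V i).left) (fun i => (f i).left) ∈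
      Scheme.fpqcPrecoverage U.left)
    (haff : ∀ i, IsAffineHom (σ.p (ai f hf i)).left) : Nonempty (Vertex σ) := by
  have heff : (ddOf σ f hf).IsEffective := by
    refine Groth.Agent.Lib.Helper24.DescE.isEffective_of_affine_case @IsAffineHom
      (fun m Y V q hq => Groth.Agent.Lib.Helper24.DescSigma.sigmaMap_of_isZariskiLocalAtTarget
        @IsAffineHom Y V q hq) ?_ hu _ haff
    intro X' S' p' hX hS hflat hsurj D' hD'
    have : IsAffineHom D'.obj.hom := hD'
    have : IsAffine D'.obj.left := isAffine_of_isAffineHom D'.obj.hom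
    obtain ⟨W, -, hW⟩ := Groth.Agent.Lib.Helper24.DescAffine.exists_iso_toDD_of_isAffine D'
    exact ⟨W, hW⟩
  obtain ⟨N₀, ⟨e⟩⟩ := heff
  exact ⟨vertexOf σ f hf N₀ e hgen⟩

end Groth.Agent.Lib.Helper24.QuotSt13
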