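import Groth.Agent.Lib.Helper24.QuotSt15
import Groth.Agent.Lib.Helper24.QuotSt13
set_option autoImplicit false
set_option linter.unusedSimpArgs false
universe u
set_option backward.isDefEq.respectTransparency false
set_option backward.isDefEq.respectTransparency.types false

/-! The quotient category `[X/G]` for an affine group is a stack. -/

namespace Groth.Agent.Lib.Helper24.QuotSt16
open CategoryTheory CategoryTheory.Limits MonoidalCategory CartesianMonoidalCategory Opposite
open AlgebraicGeometry MonObj GrpObj Groth.Agent.Lib.Helper24.QuotSt9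
open Groth.Agent.Lib.Helper24.StkCone Groth.Agent.Lib.Helper24.StkRefine
open Groth.Agent.Lib.Helper24.QuotSt11 Groth.Agent.Lib.Helper24.QuotSt15

variable {S : Scheme.{u}} (K : Precoverage Scheme.{u}) [K.IsStableUnderBaseChange]
  [K.IsStableUnderComposition] [K.HasIsos] [Precoverage.Small.{u} K]

/-- every covering sieve contains a small covering family -/
lemma exists_small_family {U : Over S} (R : Sieve U) (hR : R ∈ QuotSh.J K S U) :
    ∃ (I : Type u) (V : I → Over S) (f : ∀ i, V i ⟶ U), (∀ i, R (f i)) ∧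
      Presieve.ofArrows (fun i => (V i).left) (fun i => (f i).left) ∈ K U.left := by
  have hJ : QuotSh.J K S = (K.comap (Over.forget S)).toGrothendieck :=
    over_toGrothendieck_eq_toGrothendieck_comap_forget K S
  rw [hJ, Precoverage.mem_toGrothendieck_iff_of_isStableUnderComposition] at hR
  obtain ⟨R', hR', hle⟩ := hR
  obtain ⟨E, rfl⟩ := Precoverage.mem_iff_exists_zeroHypercover.1 hR'
  let E' := Precoverage.ZeroHypercover.restrictIndexOfSmall.{u} E
  refine ⟨E'.I₀, E'.X, E'.f, fun i => ?_, ?_⟩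
  · apply hle
    exact ⟨Precoverage.ZeroHypercover.Small.restrictFun E i⟩
  · have h := E'.mem₀
    rw [Precoverage.mem_comap_iff, Presieve.map_ofArrows] at h
    exact h

/-- **the quotient category `[X/G]` is a stack when all torsors are affine over their base** -/
theorem isStack_quotSt (hK : K ≤ Scheme.fpqcPrecoverage) {G : Over S} [GrpObj G] {X : Over S}
    (aX : AlgGrp.Action G X) (haff : ∀ A : AlgSt.QuotObj K G aX, IsAffineHom A.π.left) :
    Stk.IsStack (QuotSh.J K S) (AlgSt.QuotSt K G aX) := by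
  have h𝒳 : FibCat.IsFibGrpd (AlgSt.QuotSt K G aX).p := Groth.Agent.Lib.Helper24.QuotSt8.isFibGrpd
  have hJ : QuotSh.J K S = (K.comap (Over.forget S)).toGrothendieck :=
    over_toGrothendieck_eq_toGrothendieck_comap_forget K S
  have : (K.toGrothendieck).Subcanonical :=
    GrothendieckTopology.Subcanonical.of_le (K := Scheme.fpqcTopology)
      (Precoverage.toGrothendieck_mono hK)
  have : (QuotSh.J K S).Subcanonical := GrothendieckTopology.subcanonical_over _ S
  have hsub : ∀ Z : Over S, Presieve.IsSheaf (QuotSh.J K S) (yoneda.obj Z) := fun Z =>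
    GrothendieckTopology.Subcanonical.isSheaf_of_isRepresentable _
  refine ⟨h𝒳, fun U R hR => ?_⟩
  obtain ⟨I, V, f, hf, hu⟩ := exists_small_family K R hR
  let R₀ : Sieve U := Sieve.generate (Presieve.ofArrows V f)
  have hle : R₀ ≤ R := by
    rw [Sieve.generate_le_iff]
    rintro _ _ ⟨i⟩
    exact hf i
  have hR₀ : R₀ ∈ QuotSh.J K S U := by
    rw [hJ]
    refine Precoverage.generate_mem_toGrothendieck ?_
    rw [Precoverage.mem_comap_iff, Presieve.map_ofArrows]
    exact hu
  refine isStackFor_of_le h𝒳 hle ?_ (fun V' g hg => isPrestackFor_of_cones h𝒳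
    (fun Ψ A A' c c' hA hA' => Groth.Agent.Lib.Helper24.QuotSt10.cone_desc
      ((QuotSh.J K S).pullback_stable g hR₀) hsub c c' hA hA'))
  refine isStackFor_of_cones h𝒳 (fun Ψ A A' c c' hA hA' =>
    Groth.Agent.Lib.Helper24.QuotSt10.cone_desc hR₀ hsub c c' hA hA') (fun Ψ => ?_)
  have hf₀ : ∀ i, R₀ (f i) := fun i => Sieve.ofArrows_mk V f i
  have hgen : ∀ a : (Stk.sieveCat R₀).obj, ∃ i, Nonempty (a ⟶ ai f hf₀ i) := by
    intro a
    obtain ⟨Y, h, g, ⟨i⟩, hcomp⟩ := a.property
    exact ⟨i, ⟨ObjectProperty.homMk (Over.homMk h hcomp)⟩⟩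
  obtain ⟨vx⟩ := Groth.Agent.Lib.Helper24.QuotSt13.exists_vertex (preOf Ψ) f hf₀ hgen (hK _ hu)
    (fun i => by
      have := haff (Ψ.toFunctor.obj (ai f hf₀ i))
      change IsAffineHom ((Ψ.toFunctor.obj (ai f hf₀ i)).π ≫ eqToHom _).left
      rw [Over.comp_left]
      infer_instance)
  exact ⟨glueObj hR₀ hsub Ψ vx f hf₀ hu, rfl, ⟨glueCone hR₀ hsub Ψ vx f hf₀ hu⟩⟩

end Groth.Agent.Lib.Helper24.QuotSt16
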