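import Groth.Agent.Lib.Helper24.CA6
import Groth.Agent.Lib.Helper24.CB2
import Groth.Agent.Lib.Helper24.CB4
import Groth.Agent.Lib.Helper24.AlgStSmoothCover
import Groth.Agent.S12836
import Groth.Agent.S13573
set_option autoImplicit false
set_option linter.unusedSimpArgs false
set_option linter.unusedSectionVars false
set_option linter.style.haveILetI false
universe u
set_option backward.isDefEq.respectTransparency false
set_option backward.isDefEq.respectTransparency.types false

/-! `[Spec A/G] ⟶ Spec A^G` is universally injective. -/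

namespace Groth.Agent.Lib.Helper24.CB5
open CategoryTheory CategoryTheory.Limits MonoidalCategory CartesianMonoidalCategory MonObj GrpObj
open AlgebraicGeometry Opposite

variable (R : Type u) [CommRing R] (A : Type u) [CommRing A] [Algebra R A]
variable (G : Type u) [Group G] [Fintype G] [DecidableEq G] [MulSemiringAction G A]
  [SMulCommClass G R A]

instance etale_F : Algebra.Etale R (ConstGrp.F R G) :=
  inferInstanceAs (Algebra.Etale R (G → R))

instance etale_GR : Etale (ConstAct.GR R G).hom := by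
  rw [Groth.Agent.Lib.Helper24.CA6.GR_hom]
  rw [HasRingHomProperty.Spec_iff (P := @Etale)]
  rw [CommRingCat.hom_ofHom]
  exact RingHom.etale_algebraMap.2 inferInstance

instance smooth_GR : Smooth (ConstAct.GR R G).hom := inferInstance

theorem isAlgStack_quotSt :
    AlgSt.IsAlgStack Scheme.fppfPrecoverage (ConstAct.quotSt R A G Scheme.fppfPrecoverage) := by
  have h := Groth.Agent.S13573.result (ConstAct.GR R G) (ConstAct.X R A) (ConstAct.gaction R A G)
  exact Groth.Agent.Lib.Helper24.AlgStSmoothCover.isAlgStack_of_smooth_cover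
    (StkFpCrit.isFibGrpd_overForget (ConstAct.X R A))
    (Groth.Agent.S12836.result _ (ConstAct.GR R G) (ConstAct.X R A) (ConstAct.gaction R A G))
    (Groth.Agent.Lib.Helper24.AlgStCalc.repByAlgSp_overCat (ConstAct.X R A)) _ h.1 h.2

theorem isAlgStack_ofSch {S : Scheme.{u}} (Y : Over S) :
    AlgSt.IsAlgStack Scheme.fppfPrecoverage (AlgSt.ofSch Y) :=
  Groth.Agent.Lib.Helper24.AlgStAtlas.isAlgStack_ofSp
    ⟨(AlgSp.yon S).obj Y, AlgSp.IsAlgSpace.yon_obj Y⟩

theorem orb (Ω : Type u) [Field Ω] [IsAlgClosed Ω]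
    (str : Spec (CommRingCat.of Ω) ⟶ Spec (CommRingCat.of R))
    (x₁ x₂ : Over.mk str ⟶ ConstAct.X R A)
    (h : x₁ ≫ ConstAct.quot R A G = x₂ ≫ ConstAct.quot R A G) :
    ∃ gm : Over.mk str ⟶ ConstAct.GR R G, lift gm x₂ ≫ (ConstAct.gaction R A G).act = x₁ := by
  obtain ⟨g, hg⟩ := Groth.Agent.Lib.Helper24.CB2.exists_act_eq R A G str x₁ x₂ h
  obtain ⟨gm, hgm⟩ := Groth.Agent.Lib.Helper24.CA6.exists_const R A G g (Over.mk str) x₁
  refine ⟨gm, ?_⟩
  rw [hg]
  exact hgm

theorem isUnivInjective [IsNoetherianRing R]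
    (π : ConstAct.quotSt R A G Scheme.fppfPrecoverage ⥤ᵇ AlgSt.ofSch (ConstAct.specInv R A G))
    (hπ : BasedFunctor.comp
        (AlgSt.quotMap Scheme.fppfPrecoverage (ConstAct.GR R G) (ConstAct.gaction R A G)) π =
      AlgSt.ofSpMap ((AlgSp.yon (Spec (CommRingCat.of R))).map (ConstAct.quot R A G))) :
    AlgSt.IsUnivInjective Scheme.fppfPrecoverage π := by
  rw [Groth.Agent.Lib.Helper24.AlgStUniv2.isUnivInjective_iff (isAlgStack_quotSt R A G)
    (isAlgStack_ofSch _) π]
  exact Groth.Agent.Lib.Helper24.CB4.isSurjective_diag hπ (orb R A G)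

end Groth.Agent.Lib.Helper24.CB5
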