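import Groth.Agent.Lib.Helper24.CB5
import Groth.Agent.Lib.Helper24.FibCatFpMapL
import Groth.Agent.Lib.Helper24.AlgStSmLoc
import Groth.Agent.Lib.Helper24.AlgStCalc2
import Groth.Agent.Lib.Helper24.AlgStProps2
import Groth.Agent.Lib.Helper14.AlgSpClosed
set_option autoImplicit false
set_option linter.unusedSimpArgs false
set_option linter.unusedSectionVars false
set_option linter.style.haveILetI false
universe u
set_option backward.isDefEq.respectTransparency false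
set_option backward.isDefEq.respectTransparency.types false

/-! `[Spec A/G] ⟶ Spec A^G` is a universal homeomorphism. -/

namespace Groth.Agent.Lib.Helper24.CB6
open CategoryTheory CategoryTheory.Limits AlgebraicGeometry Opposite AlgSt
open Groth.Agent.Lib.Helper24.AlgStPts1 Groth.Agent.Lib.Helper24.AlgStPts3
open Groth.Agent.Lib.Helper24.AlgStPts4 Groth.Agent.Lib.Helper24.AlgStPts5
open Groth.Agent.Lib.Helper24.AlgStFpAlg Groth.Agent.Lib.Helper24.FibCatFpMapL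
open Groth.Agent.Lib.Helper24.FibCatFpPaste

section General
variable {S : Scheme.{u}} {𝒳' 𝒳 𝒴 𝒵 : AlgSt.Cat S}

theorem surjective_mapR (h𝒳' : FibCat.IsFibGrpd 𝒳'.p)
    (h𝒳 : AlgSt.IsAlgStack Scheme.fppfPrecoverage 𝒳)
    (h𝒴 : AlgSt.IsAlgStack Scheme.fppfPrecoverage 𝒴)
    (h𝒵 : AlgSt.IsAlgStack Scheme.fppfPrecoverage 𝒵)
    (c : 𝒳' ⥤ᵇ 𝒳) (hc : AlgSt.IsSurjective c) (φ : 𝒳 ⥤ᵇ 𝒴) (Ψ : 𝒵 ⥤ᵇ 𝒴) :
    Function.Surjective (Points.map (mapR c φ Ψ)) := by
  have hfp : AlgSt.IsAlgStack Scheme.fppfPrecoverage (FibCat.fp Ψ φ) :=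
    isAlgStack_fp h𝒴.isStack h𝒴.diag h𝒵 h𝒳 Ψ φ
  have h1 := isSurjective_fpFst h𝒳' h𝒳.isStack.1 hfp.isStack.1 c (FibCat.fpSnd Ψ φ) hc
  intro w
  obtain ⟨t, ht⟩ := h1 w
  refine ⟨Points.map (Q c φ Ψ) t, ?_⟩
  rw [← map_comp, map_congr (mapRIso c φ Ψ)]
  exact ht

theorem isClosedMap_fpFst_of_comp (h𝒳' : FibCat.IsFibGrpd 𝒳'.p)
    (h𝒳 : AlgSt.IsAlgStack Scheme.fppfPrecoverage 𝒳)
    (h𝒴 : AlgSt.IsAlgStack Scheme.fppfPrecoverage 𝒴)
    (h𝒵 : AlgSt.IsAlgStack Scheme.fppfPrecoverage 𝒵)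
    (c : 𝒳' ⥤ᵇ 𝒳) (hc : AlgSt.IsSurjective c) (φ : 𝒳 ⥤ᵇ 𝒴) (Ψ : 𝒵 ⥤ᵇ 𝒴)
    (H : IsClosedMap (Points.map (FibCat.fpFst Ψ (BasedFunctor.comp c φ)))) :
    IsClosedMap (Points.map (FibCat.fpFst Ψ φ)) := by
  have hfp : AlgSt.IsAlgStack Scheme.fppfPrecoverage (FibCat.fp Ψ φ) :=
    isAlgStack_fp h𝒴.isStack h𝒴.diag h𝒵 h𝒳 Ψ φ
  have hcont : Continuous (Points.map (mapR c φ Ψ)) := continuous_map hfp _
  have hsurj := surjective_mapR h𝒳' h𝒳 h𝒴 h𝒵 c hc φ Ψ
  have i1 : BasedFunctor.comp (mapR c φ Ψ) (FibCat.fpFst Ψ φ) ≅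
      FibCat.fpFst Ψ (BasedFunctor.comp c φ) := Iso.refl _
  intro W hW
  have h2 : Points.map (FibCat.fpFst Ψ φ) '' W =
      Points.map (FibCat.fpFst Ψ (BasedFunctor.comp c φ)) '' (Points.map (mapR c φ Ψ) ⁻¹' W) := by
    ext z
    constructor
    · rintro ⟨w, hw, rfl⟩
      obtain ⟨t, rfl⟩ := hsurj w
      refine ⟨t, hw, ?_⟩
      rw [← map_congr i1, map_comp]
    · rintro ⟨t, ht, rfl⟩
      refine ⟨Points.map (mapR c φ Ψ) t, ht, ?_⟩
      rw [← map_congr i1, map_comp]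
  rw [h2]
  exact H _ (hW.preimage hcont)

end General

section Const
open MonoidalCategory CartesianMonoidalCategory MonObj GrpObj
variable (R : Type u) [CommRing R] (A : Type u) [CommRing A] [Algebra R A]
variable (G : Type u) [Group G] [Fintype G] [DecidableEq G] [MulSemiringAction G A]
  [SMulCommClass G R A]

lemma quot_left : (ConstAct.quot R A G).left =
    Spec.map (CommRingCat.ofHom (ConstAct.inv R A G).val.toRingHom) := rfl

lemma isIntegral_val : (ConstAct.inv R A G).val.toRingHom.IsIntegral := by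
  haveI : Algebra.IsInvariant (ConstAct.inv R A G) A G := ⟨fun b hb => ⟨⟨b, hb⟩, rfl⟩⟩
  haveI : Algebra.IsIntegral (ConstAct.inv R A G) A := Algebra.IsInvariant.isIntegral _ A G
  exact algebraMap_isIntegral_iff.2 this

instance isIntegralHom_quot : IsIntegralHom (ConstAct.quot R A G).left := by
  rw [quot_left, IsIntegralHom.SpecMap_iff]
  exact isIntegral_val R A G

instance surjective_quot : Surjective (ConstAct.quot R A G).left := by
  rw [quot_left]
  constructor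
  exact (isIntegral_val R A G).comap_surjective Subtype.val_injective

theorem isSurjective_quotMap :
    AlgSt.IsSurjective
      (AlgSt.quotMap Scheme.fppfPrecoverage (ConstAct.GR R G) (ConstAct.gaction R A G)) := by
  have h := (Groth.Agent.S13573.result (ConstAct.GR R G) (ConstAct.X R A)
    (ConstAct.gaction R A G)).2
  have h1 := surjective_map_of_repByAlgSpWith
    (Groth.Agent.Lib.Helper24.CB5.isAlgStack_quotSt R A G).isStack.1 _ h
  intro y
  obtain ⟨x, hx⟩ := h1 y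
  exact ⟨Points.map (AlgSt.ofOverCat (ConstAct.X R A)) x, by rw [← map_comp]; exact hx⟩

variable [IsNoetherianRing R]
  (π : ConstAct.quotSt R A G Scheme.fppfPrecoverage ⥤ᵇ AlgSt.ofSch (ConstAct.specInv R A G))
  (hπ : BasedFunctor.comp
      (AlgSt.quotMap Scheme.fppfPrecoverage (ConstAct.GR R G) (ConstAct.gaction R A G)) π =
    AlgSt.ofSpMap ((AlgSp.yon (Spec (CommRingCat.of R))).map (ConstAct.quot R A G)))

include hπ in
theorem isSurjective_pi : AlgSt.IsSurjective π := by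
  have h0 : AlgSp.IsSurjectiveMor
      ((AlgSp.yon (Spec (CommRingCat.of R))).map (ConstAct.quot R A G)) :=
    Groth.Agent.Lib.Helper24.AlgStSmLoc.isSurjectiveMor_yon_map_of_surjective _ inferInstance
  have h1 : AlgSt.RepByAlgSpWith AlgSp.IsSurjectiveMor
      (AlgSt.ofSpMap ((AlgSp.yon (Spec (CommRingCat.of R))).map (ConstAct.quot R A G))) :=
    Groth.Agent.Lib.Helper24.AlgStCalc2.repByAlgSpWith_ofSpMap _
      Groth.Agent.Lib.Helper24.AlgStProps.good_isSurjectiveMor.bc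
      (V := ⟨_, AlgSp.IsAlgSpace.yon_obj (ConstAct.specA R A)⟩)
      (W := ⟨_, AlgSp.IsAlgSpace.yon_obj (ConstAct.specInv R A G)⟩) _ h0
  have h2 := surjective_map_of_repByAlgSpWith
    (Groth.Agent.Lib.Helper24.CB5.isAlgStack_ofSch (ConstAct.specInv R A G)).isStack.1 _ h1
  rw [← hπ] at h2
  intro y
  obtain ⟨x, hx⟩ := h2 y
  exact ⟨Points.map _ x, by rw [← map_comp]; exact hx⟩

include hπ in
theorem isUnivClosed : AlgSt.IsUnivClosed Scheme.fppfPrecoverage π := by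
  intro 𝒵 h𝒵 g
  have hX := Groth.Agent.Lib.Helper24.CB5.isAlgStack_ofSch (ConstAct.specA R A)
  have hY := Groth.Agent.Lib.Helper24.CB5.isAlgStack_ofSch (ConstAct.specInv R A G)
  have h0 : AlgSp.IsUnivClosedMor
      ((AlgSp.yon (Spec (CommRingCat.of R))).map (ConstAct.quot R A G)) :=
    (Groth.Agent.Lib.Helper14.AS.repWith_universallyClosed_iff_isUnivClosedMor
      (AlgSp.representable_yon_map _)).1
      ((AlgSp.repWith_yon_map_iff @UniversallyClosed (ConstAct.quot R A G)).2 inferInstance)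
  have h1 : AlgSt.RepByAlgSpWith AlgSp.IsUnivClosedMor
      (AlgSt.ofSpMap ((AlgSp.yon (Spec (CommRingCat.of R))).map (ConstAct.quot R A G))) :=
    Groth.Agent.Lib.Helper24.AlgStCalc2.repByAlgSpWith_ofSpMap _
      Groth.Agent.Lib.Helper24.AlgStProps.good_isUnivClosedMor.bc
      (V := ⟨_, AlgSp.IsAlgSpace.yon_obj (ConstAct.specA R A)⟩)
      (W := ⟨_, AlgSp.IsAlgSpace.yon_obj (ConstAct.specInv R A G)⟩) _ h0
  have h2 : IsClosedMap (Points.map (FibCat.fpFst g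
      (AlgSt.ofSpMap ((AlgSp.yon (Spec (CommRingCat.of R))).map (ConstAct.quot R A G))))) :=
    Groth.Agent.Lib.Helper24.AlgStUniv1.q_of_repByAlgSpWith hX hY _
      Groth.Agent.Lib.Helper24.AlgStUniv1.topDesc_isClosedMap h1 𝒵 h𝒵 g
  rw [← hπ] at h2
  exact isClosedMap_fpFst_of_comp hX.isStack.1
    (Groth.Agent.Lib.Helper24.CB5.isAlgStack_quotSt R A G) hY h𝒵 _
    (isSurjective_quotMap R A G) π g h2

include hπ in
theorem isUnivHomeo : AlgSt.IsUnivHomeo Scheme.fppfPrecoverage π := by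
  intro 𝒵 h𝒵 g
  have hQ := Groth.Agent.Lib.Helper24.CB5.isAlgStack_quotSt R A G
  have hY := Groth.Agent.Lib.Helper24.CB5.isAlgStack_ofSch (ConstAct.specInv R A G)
  have hcont : Continuous (Points.map (FibCat.fpFst g π)) := continuous_map h𝒵 _
  have hinj := Groth.Agent.Lib.Helper24.CB5.isUnivInjective R A G π hπ 𝒵 h𝒵 g
  have hsurj := isSurjective_fpFst hQ.isStack.1 hY.isStack.1 h𝒵.isStack.1 π g
    (isSurjective_pi R A G π hπ)
  have hclosed := isUnivClosed R A G π hπ 𝒵 h𝒵 g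
  exact (isHomeomorph_iff_continuous_isClosedMap_bijective).2 ⟨hcont, hclosed, hinj, hsurj⟩

end Const

end Groth.Agent.Lib.Helper24.CB6
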