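import Groth.Agent.Lib.Helper24.FibCatFpMapL
import Groth.Agent.Lib.Helper24.AlgStBridge
set_option autoImplicit false
set_option linter.unusedSectionVars false
set_option backward.isDefEq.respectTransparency false
set_option backward.isDefEq.respectTransparency.types false
open CategoryTheory CategoryTheory.Limits
universe u v u₂ v₂ u₃ v₃ u₄ v₄ u₅ v₅ u₆ v₆

/-! Transitivity of `mapL`. -/

namespace Groth.Agent.Lib.Helper24.CatModLoc1
open Groth.Agent.Lib.Helper24.FibCatFpGen Groth.Agent.Lib.Helper24.FibCatEquiv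
open Groth.Agent.Lib.Helper24.FibCatDiag (mkIso)
open Groth.Agent.Lib.Helper24.FibCatFpMap Groth.Agent.Lib.Helper24.FibCatFpPaste
open Groth.Agent.Lib.Helper24.FibCatFpMapL

variable {C : Type u} [Category.{v} C]
variable {𝒜 : BasedCategory.{v₂, u₂} C} {𝒜' : BasedCategory.{v₆, u₆} C}
  {ℳ : BasedCategory.{v₃, u₃} C}
  {𝒴 : BasedCategory.{v₄, u₄} C} {𝒳 : BasedCategory.{v₅, u₅} C}
  (a : 𝒜' ⥤ᵇ 𝒜) (b : 𝒜 ⥤ᵇ ℳ) (j : ℳ ⥤ᵇ 𝒴) (f : 𝒳 ⥤ᵇ 𝒴)

lemma mapL_comp_fst : BasedFunctor.comp (mapL b j f) (FibCat.fpFst j f) =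
    BasedFunctor.comp (FibCat.fpFst (BasedFunctor.comp b j) f) b := rfl

lemma mapL_comp_snd : BasedFunctor.comp (mapL b j f) (FibCat.fpSnd j f) =
    FibCat.fpSnd (BasedFunctor.comp b j) f := rfl

/-- component of the transitivity isomorphism -/
def mapLCompApp (s : (FibCat.fp (BasedFunctor.comp a (BasedFunctor.comp b j)) f).obj) :
    (mapL b j f).toFunctor.obj ((mapL a (BasedFunctor.comp b j) f).toFunctor.obj s) ≅
      (mapL (BasedFunctor.comp a b) j f).toFunctor.obj s :=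
  mkIso (F := j) (G := f)
    (x := (mapL b j f).toFunctor.obj ((mapL a (BasedFunctor.comp b j) f).toFunctor.obj s))
    (y := (mapL (BasedFunctor.comp a b) j f).toFunctor.obj s) (Iso.refl _) (Iso.refl _) (by
      rw [mapL_obj_iso_hom, mapL_obj_iso_hom]
      erw [mapL_obj_iso_hom]
      simp only [Iso.refl_hom, Category.id_comp, Category.comp_id]
      erw [j.toFunctor.map_id, f.toFunctor.map_id]
      exact (Category.id_comp _).trans (Category.comp_id _).symm)

def mapLCompIso : BasedFunctor.comp (mapL a (BasedFunctor.comp b j) f) (mapL b j f) ≅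
    mapL (BasedFunctor.comp a b) j f :=
  BasedNatIso.mkNatIso (NatIso.ofComponents (mapLCompApp a b j f) (by
    intro t t' m
    apply hom_ext'
    · change b.toFunctor.map (a.toFunctor.map m.hom.fst) ≫ 𝟙 _ =
        𝟙 _ ≫ b.toFunctor.map (a.toFunctor.map m.hom.fst)
      simp
    · change m.hom.snd ≫ 𝟙 _ = 𝟙 _ ≫ m.hom.snd
      simp)) (by
    intro t
    rw [isHomLift_iff_fst]
    exact IsHomLift.id ((b.w_obj _).trans (a.w_obj _)))

end Groth.Agent.Lib.Helper24.CatModLoc1
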