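import Groth.Agent.Lib.Helper24.StkCone
import Groth.Agent.Lib.Helper24.StkLocal
set_option autoImplicit false
open CategoryTheory CategoryTheory.Limits
universe u v u₂ v₂ u₃ v₃
set_option backward.isDefEq.respectTransparency false
set_option backward.isDefEq.respectTransparency.types false

/-! # Gluing morphisms and objects in a stack, in choice-free form

`cart` : the universal property of (strongly cartesian) morphisms of a category fibred in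
groupoids, stated through `p.map`.
`glue_hom'` : morphisms `B ⟶ B'` glue along a sieve for which restriction is fully faithful.
`exists_cone` : sections over a sieve for which restriction is essentially surjective have cones. -/

noncomputable section

namespace Groth.Agent.Lib.Helper24.CatPbA
open Groth.Agent.Lib.Helper24.FibGrpd Groth.Agent.Lib.Helper24.FibCatYoneda
open Groth.Agent.Lib.Helper24.FibCatRepDiag Groth.Agent.Lib.Helper24.StkRefine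
open Groth.Agent.Lib.Helper24.StkCone

variable {D : Type u₂} [Category.{v₂} D] {𝒮 : BasedCategory.{v₃, u₃} D}

lemma isHomLift_of_map {x y : 𝒮.obj} (φ : x ⟶ y) (g : 𝒮.p.obj x ⟶ 𝒮.p.obj y)
    (h : 𝒮.p.map φ = g) : 𝒮.p.IsHomLift g φ := by
  subst h; infer_instance

lemma map_of_isHomLift {x y : 𝒮.obj} (φ : x ⟶ y) (g : 𝒮.p.obj x ⟶ 𝒮.p.obj y)
    (h : 𝒮.p.IsHomLift g φ) : 𝒮.p.map φ = g :=
  (IsHomLift.eq_of_isHomLift 𝒮.p g φ).symm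

/-- the universal property of morphisms in a category fibred in groupoids -/
theorem cart (h𝒮 : FibCat.IsFibGrpd 𝒮.p) {x y z : 𝒮.obj} (φ : y ⟶ x) (ψ : z ⟶ x)
    (g : 𝒮.p.obj z ⟶ 𝒮.p.obj y) (hg : g ≫ 𝒮.p.map φ = 𝒮.p.map ψ) :
    ∃! χ : z ⟶ y, 𝒮.p.map χ = g ∧ χ ≫ φ = ψ := by
  have hsc := h𝒮.isStronglyCartesian φ
  have hl : 𝒮.p.IsHomLift (g ≫ 𝒮.p.map φ) ψ := isHomLift_of_map ψ _ hg.symm
  obtain ⟨χ, ⟨h1, h2⟩, hu⟩ := hsc.universal_property' g ψ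
  refine ⟨χ, ⟨map_of_isHomLift χ g h1, h2⟩, ?_⟩
  rintro χ' ⟨h1', h2'⟩
  exact hu χ' ⟨isHomLift_of_map χ' g h1', h2'⟩

/-- the chosen factorisation -/
def lft (h𝒮 : FibCat.IsFibGrpd 𝒮.p) {x y z : 𝒮.obj} (φ : y ⟶ x) (ψ : z ⟶ x)
    (g : 𝒮.p.obj z ⟶ 𝒮.p.obj y) (hg : g ≫ 𝒮.p.map φ = 𝒮.p.map ψ) : z ⟶ y :=
  (cart h𝒮 φ ψ g hg).exists.choose

lemma lft_map (h𝒮 : FibCat.IsFibGrpd 𝒮.p) {x y z : 𝒮.obj} (φ : y ⟶ x) (ψ : z ⟶ x)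
    (g : 𝒮.p.obj z ⟶ 𝒮.p.obj y) (hg : g ≫ 𝒮.p.map φ = 𝒮.p.map ψ) :
    𝒮.p.map (lft h𝒮 φ ψ g hg) = g :=
  (cart h𝒮 φ ψ g hg).exists.choose_spec.1

@[reassoc]
lemma lft_fac (h𝒮 : FibCat.IsFibGrpd 𝒮.p) {x y z : 𝒮.obj} (φ : y ⟶ x) (ψ : z ⟶ x)
    (g : 𝒮.p.obj z ⟶ 𝒮.p.obj y) (hg : g ≫ 𝒮.p.map φ = 𝒮.p.map ψ) :
    lft h𝒮 φ ψ g hg ≫ φ = ψ :=
  (cart h𝒮 φ ψ g hg).exists.choose_spec.2

lemma cart_uniq (h𝒮 : FibCat.IsFibGrpd 𝒮.p) {x y z : 𝒮.obj} (φ : y ⟶ x) (χ₁ χ₂ : z ⟶ y)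
    (h1 : 𝒮.p.map χ₁ = 𝒮.p.map χ₂) (h2 : χ₁ ≫ φ = χ₂ ≫ φ) : χ₁ = χ₂ := by
  have hg : 𝒮.p.map χ₁ ≫ 𝒮.p.map φ = 𝒮.p.map (χ₁ ≫ φ) := (𝒮.p.map_comp _ _).symm
  exact (cart h𝒮 φ (χ₁ ≫ φ) (𝒮.p.map χ₁) hg).unique ⟨rfl, rfl⟩ ⟨h1.symm, h2.symm⟩

lemma lft_uniq (h𝒮 : FibCat.IsFibGrpd 𝒮.p) {x y z : 𝒮.obj} (φ : y ⟶ x) (ψ : z ⟶ x)
    (g : 𝒮.p.obj z ⟶ 𝒮.p.obj y) (hg : g ≫ 𝒮.p.map φ = 𝒮.p.map ψ) (χ : z ⟶ y)
    (h1 : 𝒮.p.map χ = g) (h2 : χ ≫ φ = ψ) : χ = lft h𝒮 φ ψ g hg :=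
  (cart h𝒮 φ ψ g hg).unique ⟨h1, h2⟩ ⟨lft_map h𝒮 φ ψ g hg, lft_fac h𝒮 φ ψ g hg⟩

lemma isIso_of_map_isIso (h𝒮 : FibCat.IsFibGrpd 𝒮.p) {x y : 𝒮.obj} (φ : x ⟶ y)
    (h : IsIso (𝒮.p.map φ)) : IsIso φ :=
  isIso_of_isFibGrpd 𝒮.p h𝒮 (𝒮.p.map φ) φ


section Glue
variable (h𝒮 : FibCat.IsFibGrpd 𝒮.p) (B B' : 𝒮.obj) (T : Sieve (𝒮.p.obj B))
  (hT : Stk.IsPrestackFor T 𝒮) (f : 𝒮.p.obj B ⟶ 𝒮.p.obj B')
  (F : ∀ {t : 𝒮.obj} (τ : t ⟶ B), T (𝒮.p.map τ) → (t ⟶ B'))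
  (hF : ∀ {t : 𝒮.obj} (τ : t ⟶ B) (h : T (𝒮.p.map τ)), 𝒮.p.map (F τ h) = 𝒮.p.map τ ≫ f)
  (hnat : ∀ {t₁ t : 𝒮.obj} (k : t₁ ⟶ t) (τ : t ⟶ B) (h : T (𝒮.p.map τ))
    (h₁ : T (𝒮.p.map (k ≫ τ))), F (k ≫ τ) h₁ = k ≫ F τ h)

omit hF hnat in
lemma F_congr {t : 𝒮.obj} {τ τ' : t ⟶ B} (e : τ = τ') (h : T (𝒮.p.map τ)) (h' : T (𝒮.p.map τ')) :
    F τ h = F τ' h' := by
  subst e; rfl

include h𝒮 hT hF hnat in
/-- morphisms glue along a sieve for which restriction is fully faithful -/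
theorem glue_hom' : ∃! g : B ⟶ B', 𝒮.p.map g = f ∧
    ∀ {t : 𝒮.obj} (τ : t ⟶ B) (h : T (𝒮.p.map τ)), τ ≫ g = F τ h := by
  have hfib : 𝒮.p.IsFibered := isFibered_of_isFibGrpd 𝒮.p h𝒮
  obtain ⟨B'', ρ, hρ⟩ := h𝒮.exists_lift (x := B') f
  have hB'' : 𝒮.p.obj B'' = 𝒮.p.obj B := IsHomLift.domain_eq 𝒮.p f ρ
  have hρm : 𝒮.p.map ρ = eqToHom hB'' ≫ f := by
    have := IsHomLift.fac' 𝒮.p f ρ
    simpa using this
  have hB : 𝒮.p.obj B = 𝒮.p.obj B := rfl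
  -- chosen pullbacks
  have hμ : ∀ a : Over (𝒮.p.obj B), 𝒮.p.map (pbMap hB a) = eqToHom (pbObj_proj hB a) ≫ a.hom := by
    intro a
    have := IsHomLift.fac' 𝒮.p a.hom (pbMap hB a)
    simpa using this
  have hμ' : ∀ a : Over (𝒮.p.obj B), 𝒮.p.map (pbMap hB'' a) =
      eqToHom (pbObj_proj hB'' a) ≫ a.hom ≫ eqToHom hB''.symm := by
    intro a
    exact IsHomLift.fac' 𝒮.p a.hom (pbMap hB'' a)
  have hmem : ∀ a : (Stk.sieveCat T).obj, T (𝒮.p.map (pbMap hB a.obj)) := by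
    intro a
    rw [hμ]
    exact T.downward_closed a.property _
  have hγ : ∀ a : (Stk.sieveCat T).obj,
      eqToHom ((pbObj_proj hB a.obj).trans (pbObj_proj hB'' a.obj).symm) ≫
        𝒮.p.map (pbMap hB'' a.obj ≫ ρ) = 𝒮.p.map (F (pbMap hB a.obj) (hmem a)) := by
    intro a
    rw [hF, 𝒮.p.map_comp, hμ, hμ', hρm]
    simp
  let γ : ∀ a : (Stk.sieveCat T).obj, pbObj hB a.obj ⟶ pbObj hB'' a.obj := fun a =>
    lft h𝒮 (pbMap hB'' a.obj ≫ ρ) (F (pbMap hB a.obj) (hmem a)) _ (hγ a)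
  have hγm : ∀ a, 𝒮.p.map (γ a) =
      eqToHom ((pbObj_proj hB a.obj).trans (pbObj_proj hB'' a.obj).symm) := fun a => lft_map _ _ _ _ _
  have hγf : ∀ a, γ a ≫ pbMap hB'' a.obj ≫ ρ = F (pbMap hB a.obj) (hmem a) :=
    fun a => lft_fac _ _ _ _ _
  have hγl : ∀ a : (Stk.sieveCat T).obj, 𝒮.p.IsHomLift (𝟙 a.obj.left) (γ a) := by
    intro a
    apply IsHomLift.of_fac' 𝒮.p _ _ (pbObj_proj hB a.obj) (pbObj_proj hB'' a.obj)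
    rw [hγm]; simp
  have hγnat : ∀ {a b : (Stk.sieveCat T).obj} (m : a ⟶ b),
      pbTrans hB m.hom ≫ γ b = γ a ≫ pbTrans hB'' m.hom := by
    intro a b m
    apply cart_uniq h𝒮 (pbMap hB'' b.obj ≫ ρ)
    · have l1 : 𝒮.p.IsHomLift m.hom.left (pbTrans hB m.hom ≫ γ b) :=
        comp_id_right 𝒮.p _ _ _ (pbTrans_lift hB m.hom) (hγl b)
      have l2 : 𝒮.p.IsHomLift m.hom.left (γ a ≫ pbTrans hB'' m.hom) :=
        comp_id_left 𝒮.p _ _ _ (hγl a) (pbTrans_lift hB'' m.hom)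
      rw [IsHomLift.fac' 𝒮.p m.hom.left (pbTrans hB m.hom ≫ γ b),
        IsHomLift.fac' 𝒮.p m.hom.left (γ a ≫ pbTrans hB'' m.hom)]
    · rw [Category.assoc, hγf, Category.assoc, ← Category.assoc (pbTrans hB'' m.hom),
        pbTrans_fac, hγf, ← hnat (pbTrans hB m.hom) (pbMap hB b.obj) (hmem b)
          (by rw [pbTrans_fac]; exact hmem a)]
      exact F_congr B B' T F (pbTrans_fac hB m.hom) _ _
  let Φ : FibCat.overCat (𝒮.p.obj B) ⥤ᵇ 𝒮 := pbBased hB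
  let Φ' : FibCat.overCat (𝒮.p.obj B) ⥤ᵇ 𝒮 := pbBased hB''
  let γN : (Stk.resSieve T 𝒮).obj Φ ⟶ (Stk.resSieve T 𝒮).obj Φ' :=
    { toNatTrans := { app := γ, naturality := fun _ _ m => hγnat m }
      isHomLift' := fun a => hγl a }
  have hfull : (Stk.resSieve T 𝒮).Full := hT.1
  obtain ⟨γt, hγt⟩ := (Stk.resSieve T 𝒮).map_surjective γN
  have hγt' : ∀ a : (Stk.sieveCat T).obj, γt.toNatTrans.app a.obj = γ a := fun a =>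
    congrArg (fun t => t.toNatTrans.app a) hγt
  let o : Over (𝒮.p.obj B) := Over.mk (𝟙 _)
  have hi : IsIso (pbMap hB o) := pbMap_id_isIso hB
  have hil : 𝒮.p.IsHomLift (𝟙 (𝒮.p.obj B)) (pbMap hB o) := pbMap_id_lift hB
  have hil' : 𝒮.p.IsHomLift (𝟙 (𝒮.p.obj B)) (pbMap hB'' o) := pbMap_id_lift hB''
  have hinv : 𝒮.p.IsHomLift (𝟙 (𝒮.p.obj B)) (inv (pbMap hB o)) := inferInstance
  have hgl : 𝒮.p.IsHomLift (𝟙 (𝒮.p.obj B)) (γt.toNatTrans.app o) := app_lift γt o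
  let g'' : B ⟶ B'' := inv (pbMap hB o) ≫ γt.toNatTrans.app o ≫ pbMap hB'' o
  have hg''l : 𝒮.p.IsHomLift (𝟙 (𝒮.p.obj B)) g'' := by
    have : 𝒮.p.IsHomLift (𝟙 (𝒮.p.obj B)) (γt.toNatTrans.app o ≫ pbMap hB'' o) := inferInstance
    infer_instance
  have hg''m : 𝒮.p.map g'' = eqToHom hB''.symm := by
    have := IsHomLift.fac' 𝒮.p (𝟙 (𝒮.p.obj B)) g''
    simpa using this
  -- the key computation
  have key : ∀ {t : 𝒮.obj} (τ : t ⟶ B) (h : T (𝒮.p.map τ)), τ ≫ g'' ≫ ρ = F τ h := by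
    intro t τ h
    let a : (Stk.sieveCat T).obj := ⟨Over.mk (𝒮.p.map τ), h⟩
    have hκ : eqToHom (pbObj_proj hB a.obj).symm ≫ 𝒮.p.map (pbMap hB a.obj) = 𝒮.p.map τ := by
      rw [hμ]; simp [a]
    let κ : t ⟶ pbObj hB a.obj := lft h𝒮 (pbMap hB a.obj) τ _ hκ
    have hκf : κ ≫ pbMap hB a.obj = τ := lft_fac _ _ _ _ _
    have e1 : pbTrans hB (tOf a.obj) ≫ pbMap hB o = pbMap hB a.obj := pbTrans_fac hB (tOf a.obj)
    have e2 : pbTrans hB'' (tOf a.obj) ≫ pbMap hB'' o = pbMap hB'' a.obj :=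
      pbTrans_fac hB'' (tOf a.obj)
    have n := γt.toNatTrans.naturality (tOf a.obj)
    have n' : pbTrans hB (tOf a.obj) ≫ γt.toNatTrans.app o =
        γt.toNatTrans.app a.obj ≫ pbTrans hB'' (tOf a.obj) := n
    have e3 : pbMap hB a.obj ≫ g'' ≫ ρ = F (pbMap hB a.obj) (hmem a) := by
      rw [← hγf a, ← hγt' a, ← e2, ← e1]
      simp only [g'', Category.assoc, IsIso.hom_inv_id_assoc]
      rw [← Category.assoc (pbTrans hB (tOf a.obj)), n']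
      simp only [Category.assoc]
    calc τ ≫ g'' ≫ ρ = κ ≫ pbMap hB a.obj ≫ g'' ≫ ρ := by rw [← hκf, Category.assoc]
      _ = κ ≫ F (pbMap hB a.obj) (hmem a) := by rw [e3]
      _ = F (κ ≫ pbMap hB a.obj) (by rw [hκf]; exact h) := (hnat κ _ _ _).symm
      _ = F τ h := F_congr B B' T F hκf _ _
  refine ⟨g'' ≫ ρ, ⟨?_, fun τ h => key τ h⟩, ?_⟩
  · rw [𝒮.p.map_comp, hg''m, hρm]; simp
  · rintro g₁ ⟨hg₁, hg₁F⟩
    -- factor through ρ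
    have hc : eqToHom hB''.symm ≫ 𝒮.p.map ρ = 𝒮.p.map g₁ := by rw [hρm, hg₁]; simp
    let g₁'' : B ⟶ B'' := lft h𝒮 ρ g₁ _ hc
    have hg₁'' : g₁'' ≫ ρ = g₁ := lft_fac _ _ _ _ _
    have hg₁''m : 𝒮.p.map g₁'' = eqToHom hB''.symm := lft_map _ _ _ _ _
    have hg₁''l : 𝒮.p.IsHomLift (𝟙 (𝒮.p.obj B)) g₁'' := by
      apply IsHomLift.of_fac' 𝒮.p _ _ rfl hB''
      rw [hg₁''m]; simp
    rw [← hg₁'']
    congr 1
    refine Groth.Agent.Lib.Helper24.StkLocal.hom_ext_of_locally_eq h𝒮 T hT.2 g₁'' g'' hg₁''l hg''l ?_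
    intro V f₀ hf₀
    let a : (Stk.sieveCat T).obj := ⟨Over.mk f₀, hf₀⟩
    have hsc : 𝒮.p.IsStronglyCartesian a.obj.hom (pbMap hB a.obj) := pbMap_isStronglyCartesian hB a.obj
    refine ⟨pbObj hB a.obj, pbMap hB a.obj, hsc.toIsHomLift, ?_⟩
    apply cart_uniq h𝒮 ρ
    · rw [𝒮.p.map_comp, 𝒮.p.map_comp, hg₁''m, hg''m]
    · rw [Category.assoc, Category.assoc, hg₁'', hg₁F _ (hmem a), key _ (hmem a)]

end Glue

section Cone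
variable {X : D} (T : Sieve X)

/-- sections over a sieve for which restriction is essentially surjective have cones -/
theorem exists_cone (hE : (Stk.resSieve T 𝒮).EssSurj) (Ψ' : Stk.sieveCat T ⥤ᵇ 𝒮) :
    ∃ B : 𝒮.obj, 𝒮.p.obj B = X ∧ Nonempty (Cone T Ψ' B) := by
  obtain ⟨Φ, ⟨e⟩⟩ := hE.mem_essImage Ψ'
  refine ⟨Φ.toFunctor.obj (Over.mk (𝟙 X)), Φ.w_obj _, ⟨?_⟩⟩
  exact
    { θ := fun a => e.inv.toNatTrans.app a ≫ Φ.toFunctor.map (tOf a.obj)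
      lift := fun a => comp_id_left 𝒮.p _ _ _ (e.inv.isHomLift' a) (map_tOf_lift Φ a.obj)
      nat := fun {a b} m => by
        have n := e.inv.toNatTrans.naturality m
        have n' : Ψ'.toFunctor.map m ≫ e.inv.toNatTrans.app b =
            e.inv.toNatTrans.app a ≫ Φ.toFunctor.map m.hom := n
        rw [← Category.assoc, n', Category.assoc, ← Functor.map_comp, map_tOf_comp]
        rfl }

end Cone

end Groth.Agent.Lib.Helper24.CatPbA
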