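import Groth.Agent.Lib.Helper24.QuotSt4
set_option autoImplicit false
set_option linter.unusedSimpArgs false
universe u
set_option backward.isDefEq.respectTransparency false
set_option backward.isDefEq.respectTransparency.types false

/-! Pullbacks of torsors; the quotient stack `[X/G]` is fibred in groupoids. -/

namespace Groth.Agent.Lib.Helper24.QuotSt8
open CategoryTheory CategoryTheory.Limits MonoidalCategory CartesianMonoidalCategory MonObj GrpObj
open AlgebraicGeometry Groth.Agent.Lib.Helper24.QuotSt1 Groth.Agent.Lib.Helper24.QuotSt4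

variable {S : Scheme.{u}} {G : Over S} [GrpObj G]

section Action
variable {Q P' T' : Over S} (aQ : AlgGrp.Action G Q) (j : P' ⟶ Q) (q : P' ⟶ T')
  (hjq : ∀ {Z : Over S} (a b : Z ⟶ P'), a ≫ j = b ≫ j → a ≫ q = b ≫ q → a = b)
  (act' : G ⊗ P' ⟶ P') (h1 : act' ≫ j = (G ◁ j) ≫ aQ.act) (h2 : act' ≫ q = snd G P' ≫ q)

include hjq h1 h2 in
/-- an action induced on a subobject of `Q × T'` (trivial action on `T'`) -/
noncomputable def actionOfJointlyMono : AlgGrp.Action G P' where
  act := act'
  one_act := by
    apply hjq
    · rw [Category.assoc, h1, ← Category.assoc, ← MonoidalCategory.whisker_exchange,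
        Category.assoc, aQ.one_act, leftUnitor_naturality]
    · rw [Category.assoc, h2, whiskerRight_snd_assoc, leftUnitor_hom]
  mul_act := by
    apply hjq
    · rw [Category.assoc, h1, ← Category.assoc, ← MonoidalCategory.whisker_exchange,
        Category.assoc, aQ.mul_act]
      simp only [Category.assoc]
      rw [h1, ← MonoidalCategory.whiskerLeft_comp_assoc, h1, MonoidalCategory.whiskerLeft_comp,
        Category.assoc, associator_naturality_right_assoc]
    · simp only [Category.assoc]
      rw [h2, whiskerRight_snd_assoc, whiskerLeft_snd_assoc, h2, associator_hom_snd_snd_assoc]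

end Action

variable {K : Precoverage Scheme.{u}} [K.IsStableUnderBaseChange] {X : Over S}
  {aX : AlgGrp.Action G X}

section Pull
variable (A : AlgSt.QuotObj K G aX) {T' : Over S} (f : T' ⟶ A.base)

/-- the action morphism of the pulled back torsor -/
noncomputable def pullAct : G ⊗ pullback A.π f ⟶ pullback A.π f :=
  pullback.lift ((G ◁ pullback.fst A.π f) ≫ A.act.act) (snd G _ ≫ pullback.snd A.π f) (by
    rw [Category.assoc, A.cart.w, whiskerLeft_snd_assoc, Category.assoc, pullback.condition])

lemma pullAct_fst : pullAct A f ≫ pullback.fst A.π f = (G ◁ pullback.fst A.π f) ≫ A.act.act :=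
  pullback.lift_fst _ _ _

lemma pullAct_snd : pullAct A f ≫ pullback.snd A.π f = snd G _ ≫ pullback.snd A.π f :=
  pullback.lift_snd _ _ _

/-- the action on the pulled back torsor -/
noncomputable def pullAction : AlgGrp.Action G (pullback A.π f) :=
  actionOfJointlyMono A.act (pullback.fst A.π f) (pullback.snd A.π f)
    (fun a b h1 h2 => pullback.hom_ext h1 h2) (pullAct A f) (pullAct_fst A f) (pullAct_snd A f)

lemma pullAction_act : (pullAction A f).act = pullAct A f := rfl

lemma pull_cart : IsPullback (pullAction A f).act (snd G (pullback A.π f))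
    (pullback.snd A.π f) (pullback.snd A.π f) := by
  have hr : IsPullback (pullback.fst A.π f) (pullback.snd A.π f) A.π f :=
    IsPullback.of_hasPullback A.π f
  have h1 : IsPullback (G ◁ pullback.fst A.π f) (snd G (pullback A.π f)) (snd G A.P)
      (pullback.fst A.π f) := AlgSt.isPullback_whiskerLeft (pullback.fst A.π f)
  have houter := h1.paste_horiz A.cart
  refine IsPullback.of_right ?_ (pullAct_snd A f) hr
  rw [pullAction_act, pullAct_fst, ← pullback.condition]
  exact houter

lemma pull_loc : NonAbH1.IsLocallyTrivialFor K
    (Over.mk (pullback.snd A.π f).left : Over T'.left) := by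
  obtain ⟨R, hR, hsec⟩ := A.loc
  refine ⟨R.pullbackArrows f.left, Precoverage.pullbackArrows_mem f.left hR, ?_⟩
  rintro S' g' ⟨Z, h, hRh⟩
  obtain ⟨s, hs⟩ := hsec h hRh
  have hs' : s ≫ A.π.left = h := hs
  have hmap : IsPullback (pullback.fst A.π f).left (pullback.snd A.π f).left A.π.left f.left :=
    (IsPullback.of_hasPullback A.π f).map (Over.forget S)
  refine ⟨hmap.lift (pullback.fst h f.left ≫ s) (pullback.snd h f.left) (by
    rw [Category.assoc, hs', pullback.condition]), ?_⟩
  exact hmap.lift_snd _ _ _

/-- the pullback of a torsor along a morphism of bases -/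
noncomputable def pullObj : AlgSt.QuotObj K G aX where
  base := T'
  P := pullback A.π f
  act := pullAction A f
  π := pullback.snd A.π f
  cart := pull_cart A f
  loc := pull_loc A f
  φ := pullback.fst A.π f ≫ A.φ
  eqv := by
    rw [pullAction_act, ← Category.assoc, pullAct_fst, Category.assoc, A.eqv,
      MonoidalCategory.whiskerLeft_comp, Category.assoc]

/-- the canonical morphism from the pullback -/
noncomputable def pullHom : pullObj A f ⟶ A where
  base := f
  top := pullback.fst A.π f
  eqv := pullAct_fst A f
  cart := IsPullback.of_hasPullback A.π f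
  wφ := rfl

end Pull

/-- the quotient stack is fibred in groupoids -/
theorem isFibGrpd : FibCat.IsFibGrpd (AlgSt.QuotSt K G aX).p where
  exists_lift := by
    intro A V f
    exact ⟨pullObj A f, pullHom A f,
      (IsHomLift.map (AlgSt.QuotSt K G aX).p (pullHom A f) :)⟩
  isStronglyCartesian := fun φ => isStronglyCartesian_map φ

end Groth.Agent.Lib.Helper24.QuotSt8
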