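import Groth.Agent.Lib.Helper24.CatModQuot
import Groth.Agent.Lib.Helper24.QuotSt8
import Groth.Agent.Lib.Helper24.CatPbA
import Mathlib.AlgebraicGeometry.AlgClosed.Basic
set_option autoImplicit false
set_option linter.unusedSectionVars false
set_option linter.deprecated false
set_option linter.unusedSimpArgs false
universe w v u v₂ u₂
set_option backward.isDefEq.respectTransparency false
set_option backward.isDefEq.respectTransparency.types false

/-! Geometric points of the quotient stack `[X/G]`. -/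

namespace Groth.Agent.Lib.Helper24.CatModQuot2
open CategoryTheory CategoryTheory.Limits MonoidalCategory CartesianMonoidalCategory MonObj GrpObj
open AlgebraicGeometry Opposite
open Groth.Agent.Lib.Helper24.QuotSt3 Groth.Agent.Lib.Helper24.QuotSt5
open Groth.Agent.Lib.Helper24.QuotSt6 Groth.Agent.Lib.Helper24.QuotSt7
open Groth.Agent.Lib.Helper24.PshFun Groth.Agent.Lib.Helper24.PshBridge
open Groth.Agent.Lib.Helper24.CatModQuot

section Fibre
variable {S : Scheme.{u}} {𝒳 : BasedCategory.{v₂, u₂} (Over S)} {M : AlgSp.Sp S}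

lemma fibSec_mk (π : 𝒳 ⥤ᵇ AlgSt.ofSp M) (a : 𝒳.obj) :
    AlgSt.fibSec π (⟨a, rfl⟩ : 𝒳.p.Fiber (𝒳.p.obj a)) = sec π a := rfl

lemma fibSec_eq (π : 𝒳 ⥤ᵇ AlgSt.ofSp M) {T : Over S} (x : 𝒳.p.Fiber T) :
    AlgSt.fibSec π x = M.obj.map (eqToHom x.2.symm).op (sec π x.1) := by
  obtain ⟨a, rfl⟩ := x
  rw [fibSec_mk]
  simp

lemma fibSec_eq_of_hom (π : 𝒳 ⥤ᵇ AlgSt.ofSp M) {T : Over S} {x y : 𝒳.p.Fiber T} (φ : x ⟶ y) :
    AlgSt.fibSec π x = AlgSt.fibSec π y := by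
  obtain ⟨a, ha⟩ := x
  obtain ⟨b, hb⟩ := y
  obtain ⟨φ, hφ⟩ := φ
  dsimp only at φ hφ
  rw [fibSec_eq, fibSec_eq]
  dsimp only
  rw [← sec_compat π φ]
  have h1 : 𝒳.p.map φ = eqToHom ha ≫ 𝟙 T ≫ eqToHom hb.symm := IsHomLift.fac' 𝒳.p (𝟙 T) φ
  rw [h1]
  simp only [← Functor.map_comp_apply, ← op_comp]
  simp

lemma fiberIso_of_isIso {T : Over S} {a b : 𝒳.obj} (ha : 𝒳.p.obj a = T) (hb : 𝒳.p.obj b = T)
    (φ : a ⟶ b) [IsIso φ] (h : 𝒳.p.IsHomLift (𝟙 T) φ) :
    Nonempty ((Functor.Fiber.mk ha : 𝒳.p.Fiber T) ≅ Functor.Fiber.mk hb) := by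
  have h' : 𝒳.p.IsHomLift (𝟙 T) (inv φ) := inferInstance
  exact ⟨⟨⟨φ, h⟩, ⟨inv φ, h'⟩, Subtype.ext (IsIso.hom_inv_id φ), Subtype.ext (IsIso.inv_hom_id φ)⟩⟩

end Fibre

section Point

/-- every surjective morphism locally of finite type to `T` has a section -/
def HasSec {S : Scheme.{u}} (T : Over S) : Prop :=
  ∀ (P : Over S) (p : P ⟶ T), Surjective p.left → LocallyOfFiniteType p.left →
    ∃ s : T ⟶ P, s ≫ p = 𝟙 T

theorem hasSec_of_isAlgClosed {S : Scheme.{u}} (Ω : Type u) [Field Ω] [IsAlgClosed Ω]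
    (t : Spec (CommRingCat.of Ω) ⟶ S) : HasSec (Over.mk t) := by
  intro P p hsurj hlft
  have hne : Nonempty P.left := by
    obtain ⟨x, -⟩ := hsurj.surj (IsLocalRing.closedPoint Ω)
    exact ⟨x⟩
  let p' : P.left ⟶ Spec (CommRingCat.of Ω) := p.left
  have hlft' : LocallyOfFiniteType p' := hlft
  have hJ : JacobsonSpace ↥P.left := LocallyOfFiniteType.jacobsonSpace p'
  have hcl : (closedPoints ↥P.left).Nonempty := by
    have h := JacobsonSpace.closure_inter_closedPoints_eq_closure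
      (X := ↥P.left) (S := Set.univ) isOpen_univ.isLocallyClosed
    rw [Set.univ_inter, closure_univ] at h
    by_contra hcon
    rw [Set.not_nonempty_iff_eq_empty] at hcon
    rw [hcon, closure_empty] at h
    exact Set.empty_ne_univ h
  obtain ⟨x, hx⟩ := hcl
  have hx' : IsClosed {x} := hx
  have hw : p.left ≫ t = P.hom := Over.w p
  refine ⟨Over.homMk (pointOfClosedPoint p' x hx') ?_, ?_⟩
  · change pointOfClosedPoint p' x hx' ≫ P.hom = t
    rw [← hw]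
    change pointOfClosedPoint p' x hx' ≫ p' ≫ t = t
    rw [← Category.assoc, pointOfClosedPoint_comp, Category.id_comp]
  · ext1
    exact pointOfClosedPoint_comp p' x hx'

end Point

section Quot
variable {S : Scheme.{u}} {G : Over S} [GrpObj G] [IsAffineHom G.hom] [Flat G.hom]
  [LocallyOfFinitePresentation G.hom] {X : Over S} {aX : AlgGrp.Action G X}

/-- over a base all of whose covers split, every object of `[X/G]` is trivial -/
theorem exists_iso_triv {T : Over S} (hT : HasSec T)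
    (x : (AlgSt.QuotSt Scheme.fppfPrecoverage G aX).p.Fiber T) :
    ∃ x₀ : T ⟶ X, Nonempty ((Functor.Fiber.mk (a := triv Scheme.fppfPrecoverage G aX x₀) rfl :
      (AlgSt.QuotSt Scheme.fppfPrecoverage G aX).p.Fiber T) ≅ x) := by
  obtain ⟨A, rfl⟩ := x
  have hlft : LocallyOfFiniteType A.π.left := inferInstance
  obtain ⟨s, hs⟩ := hT A.P A.π (surjective_π A) hlft
  refine ⟨s ≫ A.φ, ?_⟩
  let ρ : triv Scheme.fppfPrecoverage G aX (s ≫ A.φ) ⟶ A := homOfSec A s rfl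
  have hρ : (AlgSt.QuotSt Scheme.fppfPrecoverage G aX).p.map ρ = 𝟙 A.base := hs
  have hiso : IsIso ρ := by
    apply Groth.Agent.Lib.Helper24.CatPbA.isIso_of_map_isIso
      (Groth.Agent.Lib.Helper24.QuotSt8.isFibGrpd (K := Scheme.fppfPrecoverage) (G := G) (aX := aX))
    rw [hρ]
    exact IsIso.id _
  have hl : (AlgSt.QuotSt Scheme.fppfPrecoverage G aX).p.IsHomLift (𝟙 A.base) ρ := by
    rw [← hρ]
    exact IsHomLift.map _ ρ
  exact fiberIso_of_isIso (𝒳 := AlgSt.QuotSt Scheme.fppfPrecoverage G aX)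
    (a := triv Scheme.fppfPrecoverage G aX (s ≫ A.φ)) (b := A) rfl rfl ρ hl

variable {Y : Over S} (f : X ⟶ Y)
  (π : AlgSt.QuotSt Scheme.fppfPrecoverage G aX ⥤ᵇ AlgSt.ofSch Y)
  (hπ : BasedFunctor.comp (AlgSt.quotMap Scheme.fppfPrecoverage G aX) π =
    AlgSt.ofSpMap ((AlgSp.yon S).map f))

include hπ in
lemma fibSec_triv {T : Over S} (x₀ : T ⟶ X) :
    AlgSt.fibSec π (Functor.Fiber.mk (a := triv Scheme.fppfPrecoverage G aX x₀) rfl :
      (AlgSt.QuotSt Scheme.fppfPrecoverage G aX).p.Fiber T) = ⟨x₀ ≫ f⟩ :=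
  (app_eq_secT π ((AlgSp.yon S).map f) hπ x₀).symm

include hπ in
/-- the functor `[X/G] ⟶ Y` is bijective on `T`-points modulo isomorphism when the fibres of
`X(T) ⟶ Y(T)` are the `G(T)`-orbits and all covers of `T` split -/
theorem geomPtBij_quot {T : Over S} (hT : HasSec T)
    (h1 : ∀ y : T ⟶ Y, ∃ x : T ⟶ X, x ≫ f = y)
    (h2 : ∀ x x' : T ⟶ X, x ≫ f = x' ≫ f → ∃ g : T ⟶ G, lift g x' ≫ aX.act = x) :
    (∀ m : ((AlgSp.yon S).obj Y).obj.obj (op T),
      ∃ x : (AlgSt.QuotSt Scheme.fppfPrecoverage G aX).p.Fiber T, AlgSt.fibSec π x = m) ∧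
    (∀ x y : (AlgSt.QuotSt Scheme.fppfPrecoverage G aX).p.Fiber T,
      AlgSt.fibSec π x = AlgSt.fibSec π y → Nonempty (x ≅ y)) := by
  constructor
  · rintro ⟨y⟩
    obtain ⟨x₀, rfl⟩ := h1 y
    exact ⟨_, fibSec_triv f π hπ x₀⟩
  · intro x y hxy
    obtain ⟨x₀, ⟨ex⟩⟩ := exists_iso_triv hT x
    obtain ⟨y₀, ⟨ey⟩⟩ := exists_iso_triv hT y
    have hx := fibSec_eq_of_hom π ex.hom
    have hy := fibSec_eq_of_hom π ey.hom
    rw [fibSec_triv f π hπ] at hx hy
    have hxy' : (⟨x₀ ≫ f⟩ : ULift (T ⟶ Y)) = ⟨y₀ ≫ f⟩ := hx.trans (hxy.trans hy.symm)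
    have hxy'' : x₀ ≫ f = y₀ ≫ f := congrArg ULift.down hxy'
    obtain ⟨g, hg⟩ := h2 x₀ y₀ hxy''
    let e := trivIso Scheme.fppfPrecoverage G aX g hg
    have hl : (AlgSt.QuotSt Scheme.fppfPrecoverage G aX).p.IsHomLift (𝟙 T) e.hom := by
      have h3 : (AlgSt.QuotSt Scheme.fppfPrecoverage G aX).p.map e.hom = 𝟙 T :=
        trivHom_base Scheme.fppfPrecoverage G aX (𝟙 T) g (x := x₀) (x' := y₀)
          (by rw [Category.id_comp]; exact hg)
      have h4 : (AlgSt.QuotSt Scheme.fppfPrecoverage G aX).p.IsHomLift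
          ((AlgSt.QuotSt Scheme.fppfPrecoverage G aX).p.map e.hom) e.hom := IsHomLift.map _ _
      rw [h3] at h4
      exact h4
    obtain ⟨exy⟩ := fiberIso_of_isIso (𝒳 := AlgSt.QuotSt Scheme.fppfPrecoverage G aX)
      (a := triv Scheme.fppfPrecoverage G aX x₀) (b := triv Scheme.fppfPrecoverage G aX y₀)
      rfl rfl e.hom hl
    exact ⟨ex.symm ≪≫ exy ≪≫ ey⟩

end Quot

end Groth.Agent.Lib.Helper24.CatModQuot2
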