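import Groth.Agent.Lib.Helper24.PshFun
import Groth.Agent.Lib.Helper24.FibCatEquiv3
set_option autoImplicit false
open CategoryTheory Opposite
universe w v u v₂ u₂
set_option backward.isDefEq.respectTransparency false
set_option backward.isDefEq.respectTransparency.types false

/-! The functor `P ↦ Stk.ofPsh P` is fully faithful up to isomorphism. -/

namespace Groth.Agent.Lib.Helper24.PshBridge
open Groth.Agent.Lib.Helper24.PshFun Groth.Agent.Lib.Helper24.FibCatFpMap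
open Groth.Agent.Lib.Helper24.FibCatEquiv

variable {C : Type u} [Category.{v} C] {P Q Q' : Cᵒᵖ ⥤ Type w}

lemma sec_ofPshMap (φ : P ⟶ Q) (a : (Stk.ofPsh P).obj) :
    sec (Stk.ofPshMap φ) a = φ.app (op a.base) a.sec := by
  unfold sec
  change Q.map (𝟙 _).op (φ.app (op a.base) a.sec) = _
  simp

/-- the map of presheaves attached to a functor over `C` between categories of elements -/
def pshMapOf (Φ : Stk.ofPsh P ⥤ᵇ Stk.ofPsh Q) : P ⟶ Q where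
  app T := ↾fun x => sec Φ ⟨T.unop, x⟩
  naturality T T' g := by
    ext x
    let a : (Stk.ofPsh P).obj := ⟨T.unop, x⟩
    let b : (Stk.ofPsh P).obj := ⟨T'.unop, P.map g x⟩
    let m : b ⟶ a := ⟨g.unop, rfl⟩
    exact (sec_compat Φ m).symm

lemma pshMapOf_app (Φ : Stk.ofPsh P ⥤ᵇ Stk.ofPsh Q) (a : (Stk.ofPsh P).obj) :
    (pshMapOf Φ).app (op a.base) a.sec = sec Φ a := rfl

lemma pshMapOf_ofPshMap (φ : P ⟶ Q) : pshMapOf (Stk.ofPshMap φ) = φ := by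
  ext T x
  exact sec_ofPshMap φ ⟨T.unop, x⟩

/-- every functor over `C` between categories of elements comes from a map of presheaves -/
def isoOfPshMap (Φ : Stk.ofPsh P ⥤ᵇ Stk.ofPsh Q) : Φ ≅ Stk.ofPshMap (pshMapOf Φ) :=
  isoOfSecEq _ _ fun a => (sec_ofPshMap (pshMapOf Φ) a).symm

lemma pshMapOf_congr {Φ Ψ : Stk.ofPsh P ⥤ᵇ Stk.ofPsh Q} (e : Φ ≅ Ψ) : pshMapOf Φ = pshMapOf Ψ := by
  ext T x
  exact sec_eq_of_hom e.hom ⟨T.unop, x⟩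

lemma pshMapOf_id : pshMapOf (BasedFunctor.id (Stk.ofPsh P)) = 𝟙 P :=
  pshMapOf_ofPshMap (𝟙 P)

lemma pshMapOf_comp (Φ : Stk.ofPsh P ⥤ᵇ Stk.ofPsh Q) (Ψ : Stk.ofPsh Q ⥤ᵇ Stk.ofPsh Q') :
    pshMapOf (BasedFunctor.comp Φ Ψ) = pshMapOf Φ ≫ pshMapOf Ψ := by
  ext T x
  let a : (Stk.ofPsh P).obj := ⟨T.unop, x⟩
  change sec (BasedFunctor.comp Φ Ψ) a = sec Ψ ⟨T.unop, sec Φ a⟩
  rw [sec_comp]
  let b : (Stk.ofPsh Q).obj := ⟨T.unop, sec Φ a⟩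
  let m : b ⟶ Φ.toFunctor.obj a := ⟨eqToHom (base_eq Φ a).symm, rfl⟩
  exact sec_compat Ψ m

theorem isIso_pshMapOf_of_isEquivOver (Φ : Stk.ofPsh P ⥤ᵇ Stk.ofPsh Q)
    (hΦ : FibCat.IsEquivOver Φ) : IsIso (pshMapOf Φ) := by
  obtain ⟨Ψ, ⟨α⟩, ⟨β⟩⟩ := hΦ
  refine ⟨pshMapOf Ψ, ?_, ?_⟩
  · rw [← pshMapOf_comp, pshMapOf_congr α, pshMapOf_id]
  · rw [← pshMapOf_comp, pshMapOf_congr β, pshMapOf_id]

theorem isEquivOver_ofPshMap_of_isIso (φ : P ⟶ Q) [IsIso φ] :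
    FibCat.IsEquivOver (Stk.ofPshMap φ) := by
  refine ⟨Stk.ofPshMap (inv φ), ⟨isoOfSecEq _ _ ?_⟩, ⟨isoOfSecEq _ _ ?_⟩⟩
  · intro a
    have h1 : BasedFunctor.comp (Stk.ofPshMap φ) (Stk.ofPshMap (inv φ)) =
        Stk.ofPshMap (φ ≫ inv φ) := rfl
    have h2 : BasedFunctor.id (Stk.ofPsh P) = Stk.ofPshMap (𝟙 P) := rfl
    rw [h1, h2, sec_ofPshMap, sec_ofPshMap, IsIso.hom_inv_id]
  · intro a
    have h1 : BasedFunctor.comp (Stk.ofPshMap (inv φ)) (Stk.ofPshMap φ) =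
        Stk.ofPshMap (inv φ ≫ φ) := rfl
    have h2 : BasedFunctor.id (Stk.ofPsh Q) = Stk.ofPshMap (𝟙 Q) := rfl
    rw [h1, h2, sec_ofPshMap, sec_ofPshMap, IsIso.inv_hom_id]

end Groth.Agent.Lib.Helper24.PshBridge
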