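import Groth.Agent.Lib.Helper24.QuotSt7
import Groth.Agent.Lib.Helper24.PshBridge
import Groth.Prelude.Def_StCoarse
import Groth.Prelude.Def_W4bk4git07Quot
set_option autoImplicit false
set_option linter.unusedSectionVars false
set_option linter.deprecated false
set_option linter.unusedSimpArgs false
universe w v u v₂ u₂
set_option backward.isDefEq.respectTransparency false
set_option backward.isDefEq.respectTransparency.types false

/-! Functors from the quotient stack `[X/G]` to sheaves versus invariant maps. -/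

namespace Groth.Agent.Lib.Helper24.CatModQuot
open CategoryTheory CategoryTheory.Limits MonoidalCategory CartesianMonoidalCategory MonObj GrpObj
open AlgebraicGeometry Opposite
open Groth.Agent.Lib.Helper24.QuotSt3 Groth.Agent.Lib.Helper24.QuotSt7
open Groth.Agent.Lib.Helper24.PshFun Groth.Agent.Lib.Helper24.PshBridge

section General
variable {S : Scheme.{u}}

lemma ofSpMap_comp {F G H : AlgSp.Sp S} (a : F ⟶ G) (b : G ⟶ H) :
    BasedFunctor.comp (AlgSt.ofSpMap a) (AlgSt.ofSpMap b) = AlgSt.ofSpMap (a ≫ b) := rfl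

lemma ofSpMap_injective {F G : AlgSp.Sp S} {a b : F ⟶ G}
    (h : Nonempty (AlgSt.ofSpMap a ≅ AlgSt.ofSpMap b)) : a = b := by
  obtain ⟨e⟩ := h
  have h1 := pshMapOf_congr e
  rw [pshMapOf_ofPshMap, pshMapOf_ofPshMap] at h1
  exact Sheaf.hom_ext h1

lemma eq_of_nonempty_iso {𝒜 : BasedCategory.{v₂, u₂} (Over S)} {N : AlgSp.Sp S}
    {Φ Ψ : 𝒜 ⥤ᵇ AlgSt.ofSp N} (h : Nonempty (Φ ≅ Ψ)) : Φ = Ψ :=
  eq_of_sec_eq _ _ ((nonempty_iso_iff Φ Ψ).1 h)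

lemma exists_eq_ofSpMap {F N : AlgSp.Sp S} (Φ : AlgSt.ofSp F ⥤ᵇ AlgSt.ofSp N) :
    ∃ g : F ⟶ N, Φ = AlgSt.ofSpMap g :=
  ⟨⟨pshMapOf Φ⟩, eq_of_sec_eq _ _ fun a => (sec_ofPshMap (pshMapOf Φ) a).symm⟩

end General

section Quot
variable {S : Scheme.{u}} {G : Over S} [GrpObj G] [IsAffineHom G.hom] [Flat G.hom]
  [LocallyOfFinitePresentation G.hom] {X : Over S} {aX : AlgGrp.Action G X}
  {N : AlgSp.Sp S}

/-- the section over `T` attached to a point `x : T ⟶ X` -/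
noncomputable def secT (ψ : AlgSt.QuotSt Scheme.fppfPrecoverage G aX ⥤ᵇ AlgSt.ofSp N) {T : Over S}
    (x : T ⟶ X) : N.obj.obj (op T) := sec ψ (triv Scheme.fppfPrecoverage G aX x)

lemma secT_trivHom (ψ : AlgSt.QuotSt Scheme.fppfPrecoverage G aX ⥤ᵇ AlgSt.ofSp N) {T T' : Over S}
    (f : T ⟶ T') (g : T ⟶ G) {x : T ⟶ X} {x' : T' ⟶ X} (h : lift g (f ≫ x') ≫ aX.act = x) :
    N.obj.map f.op (secT ψ x') = secT ψ x :=
  sec_compat ψ (trivHom Scheme.fppfPrecoverage G aX f g h)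

lemma map_id_op_apply (T : Over S) (s : N.obj.obj (op T)) : N.obj.map (𝟙 T).op s = s := by
  rw [op_id]
  exact FunctorToTypes.map_id_apply N.obj s

lemma secT_eq (ψ : AlgSt.QuotSt Scheme.fppfPrecoverage G aX ⥤ᵇ AlgSt.ofSp N) {T : Over S}
    (g : T ⟶ G) {x x' : T ⟶ X} (h : lift g x' ≫ aX.act = x) : secT ψ x = secT ψ x' :=
  (secT_trivHom ψ (𝟙 T) g (x := x) (x' := x') ((Category.id_comp x').symm ▸ h)).symm.trans
    (map_id_op_apply T _)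

lemma app_eq_secT (ψ : AlgSt.QuotSt Scheme.fppfPrecoverage G aX ⥤ᵇ AlgSt.ofSp N)
    (g : (AlgSp.yon S).obj X ⟶ N)
    (h : BasedFunctor.comp (AlgSt.quotMap Scheme.fppfPrecoverage G aX) ψ = AlgSt.ofSpMap g)
    {T : Over S} (y : T ⟶ X) :
    g.hom.app (op T) ⟨y⟩ = secT ψ y := by
  have h3 := congrArg (fun Φ => sec Φ (⟨T, ⟨y⟩⟩ : (AlgSt.ofSch X).obj)) h
  simp only at h3
  rw [sec_comp, sec_ofPshMap] at h3
  simp only [eqToHom_refl, op_id] at h3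
  erw [FunctorToTypes.map_id_apply] at h3
  exact h3.symm

theorem invariant_of_comp_eq (ψ : AlgSt.QuotSt Scheme.fppfPrecoverage G aX ⥤ᵇ AlgSt.ofSp N)
    (g : (AlgSp.yon S).obj X ⟶ N)
    (h : BasedFunctor.comp (AlgSt.quotMap Scheme.fppfPrecoverage G aX) ψ = AlgSt.ofSpMap g) :
    (AlgSp.yon S).map aX.act ≫ g = (AlgSp.yon S).map (snd G X) ≫ g := by
  apply Sheaf.hom_ext
  ext T ⟨p⟩
  obtain ⟨T⟩ := T
  change g.hom.app (op T) ⟨p ≫ aX.act⟩ = g.hom.app (op T) ⟨p ≫ snd G X⟩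
  rw [app_eq_secT ψ g h, app_eq_secT ψ g h]
  exact secT_eq ψ (p ≫ fst G X) (lift_fst_snd_act G aX p)

/-- two functors out of `[X/G]` to a sheaf agreeing on `X` are equal -/
theorem eq_of_quotMap_comp_eq (ψ₁ ψ₂ : AlgSt.QuotSt Scheme.fppfPrecoverage G aX ⥤ᵇ AlgSt.ofSp N)
    (h : BasedFunctor.comp (AlgSt.quotMap Scheme.fppfPrecoverage G aX) ψ₁ =
      BasedFunctor.comp (AlgSt.quotMap Scheme.fppfPrecoverage G aX) ψ₂) : ψ₁ = ψ₂ := by
  obtain ⟨g, hg⟩ := exists_eq_ofSpMap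
    (BasedFunctor.comp (AlgSt.quotMap Scheme.fppfPrecoverage G aX) ψ₁)
  have hinv := invariant_of_comp_eq ψ₁ g hg
  rw [factor_unique g hinv ψ₁ hg, factor_unique g hinv ψ₂ (h ▸ hg)]

lemma comp_assoc_eq {𝒜 ℬ 𝒞 𝒟 : BasedCategory.{v₂, u₂} (Over S)} (a : 𝒜 ⥤ᵇ ℬ) (b : ℬ ⥤ᵇ 𝒞)
    (c : 𝒞 ⥤ᵇ 𝒟) :
    BasedFunctor.comp a (BasedFunctor.comp b c) = BasedFunctor.comp (BasedFunctor.comp a b) c :=
  rfl

variable {M : AlgSp.Sp S}

lemma nonempty_iso_iff_comp_eq (m : (AlgSp.yon S).obj X ⟶ M)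
    (π : AlgSt.QuotSt Scheme.fppfPrecoverage G aX ⥤ᵇ AlgSt.ofSp M)
    (hπ : BasedFunctor.comp (AlgSt.quotMap Scheme.fppfPrecoverage G aX) π = AlgSt.ofSpMap m)
    (φ : AlgSt.QuotSt Scheme.fppfPrecoverage G aX ⥤ᵇ AlgSt.ofSp N)
    (g₀ : (AlgSp.yon S).obj X ⟶ N)
    (hφ : BasedFunctor.comp (AlgSt.quotMap Scheme.fppfPrecoverage G aX) φ = AlgSt.ofSpMap g₀)
    (χ : M ⟶ N) :
    Nonempty (BasedFunctor.comp π (AlgSt.ofSpMap χ) ≅ φ) ↔ m ≫ χ = g₀ := by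
  have key : BasedFunctor.comp (AlgSt.quotMap Scheme.fppfPrecoverage G aX)
      (BasedFunctor.comp π (AlgSt.ofSpMap χ)) = AlgSt.ofSpMap (m ≫ χ) := by
    rw [comp_assoc_eq, hπ, ofSpMap_comp]
  constructor
  · intro h
    have h1 := eq_of_nonempty_iso h
    apply ofSpMap_injective
    rw [← key, h1, hφ]
    exact ⟨Iso.refl _⟩
  · intro h
    have h1 : BasedFunctor.comp π (AlgSt.ofSpMap χ) = φ := by
      apply eq_of_quotMap_comp_eq
      rw [key, h, hφ]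
    rw [h1]
    exact ⟨Iso.refl _⟩

/-- `[X/G] ⟶ M` is a categorical moduli space in a class of sheaves iff `X ⟶ M` is a categorical
quotient in that class. -/
theorem isCatModuliIn_iff (C : ObjectProperty (AlgSp.Sp S)) (m : (AlgSp.yon S).obj X ⟶ M)
    (π : AlgSt.QuotSt Scheme.fppfPrecoverage G aX ⥤ᵇ AlgSt.ofSp M)
    (hπ : BasedFunctor.comp (AlgSt.quotMap Scheme.fppfPrecoverage G aX) π = AlgSt.ofSpMap m) :
    AlgSt.IsCatModuliIn C π ↔ C M ∧ ∀ N : AlgSp.Sp S, C N → ∀ ψ : (AlgSp.yon S).obj X ⟶ N,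
      (AlgSp.yon S).map aX.act ≫ ψ = (AlgSp.yon S).map (snd G X) ≫ ψ →
        ∃! χ : M ⟶ N, m ≫ χ = ψ := by
  constructor
  · rintro ⟨hM, hu⟩
    refine ⟨hM, fun N hN ψ hψ => ?_⟩
    obtain ⟨g, hg, hg'⟩ := hu N hN (factor ψ hψ)
    have hiff := fun χ => nonempty_iso_iff_comp_eq m π hπ (factor ψ hψ) ψ
      (quotMap_comp_factor ψ hψ) χ
    exact ⟨g, (hiff g).1 hg, fun χ hχ => hg' χ ((hiff χ).2 hχ)⟩
  · rintro ⟨hM, hu⟩
    refine ⟨hM, fun N hN φ => ?_⟩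
    obtain ⟨g₀, hg₀⟩ := exists_eq_ofSpMap
      (BasedFunctor.comp (AlgSt.quotMap Scheme.fppfPrecoverage G aX) φ)
    obtain ⟨χ, hχ, hχ'⟩ := hu N hN g₀ (invariant_of_comp_eq φ g₀ hg₀)
    have hiff := fun χ => nonempty_iso_iff_comp_eq m π hπ φ g₀ hg₀ χ
    exact ⟨χ, (hiff χ).2 hχ, fun χ' hχ'' => hχ' χ' ((hiff χ').1 hχ'')⟩

end Quot

end Groth.Agent.Lib.Helper24.CatModQuot
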