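import Groth.Agent.Lib.Helper24.AlgStGC
import Groth.Agent.Lib.Helper24.CatModQuot
import Groth.Prelude.Def_W4stkstmodspWNA
set_option autoImplicit false
set_option linter.unusedSectionVars false
universe u
open CategoryTheory CategoryTheory.Limits AlgebraicGeometry Opposite
set_option backward.isDefEq.respectTransparency false
set_option backward.isDefEq.respectTransparency.types false

/-! Well-nigh affine stacks: affine morphisms. -/

namespace Groth.Agent.Lib.Helper24.WNA1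
open AlgSt
open Groth.Agent.Lib.Helper24.FibCatEquiv Groth.Agent.Lib.Helper24.AlgStRep
open Groth.Agent.Lib.Helper24.AlgStBridge Groth.Agent.Lib.Helper24.AlgStBoot
open Groth.Agent.Lib.Helper24.AlgStGC Groth.Agent.Lib.Helper24.PshFun
open Groth.Agent.Lib.Helper24.PshBridge Groth.Agent.Lib.Helper24.CatModQuot

variable {S : Scheme.{u}}

lemma ofSpMap_id (F : AlgSp.Sp S) : AlgSt.ofSpMap (𝟙 F) = BasedFunctor.id _ := by
  apply Groth.Agent.Lib.Helper24.QuotSt7.eq_of_sec_eq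
  intro a
  change sec (Stk.ofPshMap _) a = _
  rw [sec_ofPshMap]
  have h1 : ∀ (T : (Over S)ᵒᵖ) (s : F.obj.obj T), F.obj.map (𝟙 T) s = s := by
    intro T s; simp
  unfold sec
  exact (h1 _ _).symm

theorem isEquivOver_ofSpMap_of_iso {F G : AlgSp.Sp S} (a : F ≅ G) :
    FibCat.IsEquivOver (AlgSt.ofSpMap a.hom) := by
  refine ⟨AlgSt.ofSpMap a.inv, ⟨eqToIso ?_⟩, ⟨eqToIso ?_⟩⟩
  · rw [ofSpMap_comp, a.hom_inv_id]; exact ofSpMap_id _
  · rw [ofSpMap_comp, a.inv_hom_id]; exact ofSpMap_id _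

theorem isWellNighAffine_of_isAffineMor {𝒳 𝒳' : AlgSt.Cat S}
    (hw : AlgSt.IsWellNighAffine 𝒳) (f : 𝒳' ⥤ᵇ 𝒳) (hf : AlgSt.RepByAlgSpWith AlgSp.IsAffineMor f) :
    AlgSt.IsWellNighAffine 𝒳' := by
  obtain ⟨U, x, hUaff, hx⟩ := hw
  obtain ⟨F, e, he, hp⟩ := hf U x
  obtain ⟨W, i, a, sqW, hW⟩ := hp hUaff (𝟙 _)
  have ha : IsIso a := sqW.isIso_fst_of_isIso
  let x' : FibCat.overCat W ⥤ᵇ 𝒳' := BasedFunctor.comp (BasedFunctor.comp (AlgSt.ofOverCat W)
    (BasedFunctor.comp (AlgSt.ofSpMap a) e)) (FibCat.fpSnd x f)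
  refine ⟨W, x', hW, ?_⟩
  have hsnd := repByAlgSpWith_fpSnd _ x f hx
  exact (repByAlgSpWith_iff_of_isEquivOver _ (FibCat.fpSnd x f) x'
    (BasedFunctor.comp (AlgSt.ofOverCat W) (BasedFunctor.comp (AlgSt.ofSpMap a) e))
    (BasedFunctor.id _)
    (isEquivOver_comp _ _ (isEquivOver_ofOverCat W)
      (isEquivOver_comp _ _ (isEquivOver_ofSpMap_of_iso (asIso a)) he))
    (isEquivOver_id _) (Iso.refl _)).1 hsnd

end Groth.Agent.Lib.Helper24.WNA1
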