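import Groth.Agent.Lib.Helper24.CatModLoc1
import Groth.Agent.Lib.Helper24.CatModQuot2
import Groth.Agent.Lib.Helper24.WNA1
import Groth.Prelude.Def_StCoarse
import Groth.Agent.Lib.Helper14.FamDesc
import Groth.Agent.Lib.Helper24.FibCatGraph
import Groth.Agent.Lib.Helper24.FibCatFpSwap
import Groth.Agent.Lib.Helper24.AlgStEqv
set_option autoImplicit false
set_option linter.unusedSectionVars false
set_option linter.unusedSimpArgs false
set_option linter.unusedVariables false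
universe u
open CategoryTheory CategoryTheory.Limits AlgebraicGeometry Opposite
set_option backward.isDefEq.respectTransparency false
set_option backward.isDefEq.respectTransparency.types false

/-! Categorical moduli spaces: charts of the base. -/

namespace Groth.Agent.Lib.Helper24.CatModLoc2
open AlgSt
open Groth.Agent.Lib.Helper24.FibCatFpGen Groth.Agent.Lib.Helper24.FibCatEquiv
open Groth.Agent.Lib.Helper24.FibCatFpMap Groth.Agent.Lib.Helper24.FibCatFpMapL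
open Groth.Agent.Lib.Helper24.PshFun Groth.Agent.Lib.Helper24.PshBridge
open Groth.Agent.Lib.Helper24.CatModQuot Groth.Agent.Lib.Helper24.CatModLoc1
open Groth.Agent.Lib.Helper24.AlgStBridge

variable {S : Scheme.{u}} {𝒳 : AlgSt.Cat S} {Y M' : AlgSp.Sp S}
  (f : 𝒳 ⥤ᵇ AlgSt.ofSp Y) (g : M' ⟶ Y)

/-- the comparison functor from the base change to a chart -/
def cMap {V : AlgSp.Sp S} (b : V ⟶ M') :
    FibCat.fp (BasedFunctor.comp (AlgSt.ofSpMap b) (AlgSt.ofSpMap g)) f ⥤ᵇ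
      FibCat.fp (AlgSt.ofSpMap g) f :=
  mapL (AlgSt.ofSpMap b) (AlgSt.ofSpMap g) f

/-- `h` descends `φ` on the chart `b` -/
def Compat {N V : AlgSp.Sp S} (φ : FibCat.fp (AlgSt.ofSpMap g) f ⥤ᵇ AlgSt.ofSp N) (b : V ⟶ M')
    (h : V ⟶ N) : Prop :=
  BasedFunctor.comp (FibCat.fpFst (BasedFunctor.comp (AlgSt.ofSpMap b) (AlgSt.ofSpMap g)) f)
    (AlgSt.ofSpMap h) = BasedFunctor.comp (cMap f g b) φ

lemma compat_of_comp {N V : AlgSp.Sp S} (φ : FibCat.fp (AlgSt.ofSpMap g) f ⥤ᵇ AlgSt.ofSp N)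
    (b : V ⟶ M') (h : M' ⟶ N)
    (hh : BasedFunctor.comp (FibCat.fpFst (AlgSt.ofSpMap g) f) (AlgSt.ofSpMap h) = φ) :
    Compat f g φ b (b ≫ h) := by
  unfold Compat cMap
  rw [← hh]
  rfl

lemma compat_precomp {N V V' : AlgSp.Sp S} (φ : FibCat.fp (AlgSt.ofSpMap g) f ⥤ᵇ AlgSt.ofSp N)
    (b : V ⟶ M') (h : V ⟶ N) (hc : Compat f g φ b h) (a : V' ⟶ V) :
    Compat f g φ (a ≫ b) (a ≫ h) := by
  unfold Compat cMap at hc ⊢
  have e1 := eq_of_nonempty_iso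
    ⟨whiskerRightIso (mapLCompIso (AlgSt.ofSpMap a) (AlgSt.ofSpMap b) (AlgSt.ofSpMap g) f) φ⟩
  change BasedFunctor.comp (FibCat.fpFst (BasedFunctor.comp (AlgSt.ofSpMap a)
      (BasedFunctor.comp (AlgSt.ofSpMap b) (AlgSt.ofSpMap g))) f)
    (BasedFunctor.comp (AlgSt.ofSpMap a) (AlgSt.ofSpMap h)) =
    BasedFunctor.comp (mapL (BasedFunctor.comp (AlgSt.ofSpMap a) (AlgSt.ofSpMap b))
      (AlgSt.ofSpMap g) f) φ
  rw [← e1]
  change BasedFunctor.comp (mapL (AlgSt.ofSpMap a)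
      (BasedFunctor.comp (AlgSt.ofSpMap b) (AlgSt.ofSpMap g)) f)
    (BasedFunctor.comp (FibCat.fpFst (BasedFunctor.comp (AlgSt.ofSpMap b) (AlgSt.ofSpMap g)) f)
      (AlgSt.ofSpMap h)) = _
  rw [hc]
  rfl

/-- objects of the base change whose section lifts to the chart come from the chart -/
lemma exists_obj_cMap {V : AlgSp.Sp S} (b : V ⟶ M') (z : (FibCat.fp (AlgSt.ofSpMap g) f).obj) :
    ∀ (x : V.obj.obj (op z.obj.fst.base)), b.hom.app _ x = z.obj.fst.sec →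
    ∃ s : (FibCat.fp (BasedFunctor.comp (AlgSt.ofSpMap b) (AlgSt.ofSpMap g)) f).obj,
      (cMap f g b).toFunctor.obj s = z := by
  obtain ⟨⟨⟨T₁, m₁⟩, ξ, iso⟩, prop⟩ := z
  intro (x : V.obj.obj (op T₁)) (hx : b.hom.app (op T₁) x = m₁)
  subst hx
  refine ⟨⟨⟨⟨T₁, x⟩, ξ, iso⟩, prop⟩, ?_⟩
  have hiso : ((cMap f g b).toFunctor.obj ⟨⟨⟨T₁, x⟩, ξ, iso⟩, prop⟩).obj.iso = iso := by
    apply Iso.ext
    change 𝟙 _ ≫ iso.hom ≫ 𝟙 _ = iso.hom
    simp
  apply ObjectProperty.FullSubcategory.ext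
  change (⟨⟨T₁, b.hom.app (op T₁) x⟩, ξ,
    ((cMap f g b).toFunctor.obj ⟨⟨⟨T₁, x⟩, ξ, iso⟩, prop⟩).obj.iso⟩ :
      CategoricalPullback (AlgSt.ofSpMap g).toFunctor f.toFunctor) = ⟨⟨T₁, b.hom.app (op T₁) x⟩, ξ, iso⟩
  rw [hiso]

open Groth.Agent.Lib.Helper14.AS in
/-- functors out of the base change are determined on a jointly surjective family of charts -/
theorem ext_of_charts (h𝒳 : FibCat.IsFibGrpd 𝒳.p) {N : AlgSp.Sp S} {ι : Type (u + 1)}
    {V : ι → AlgSp.Sp S}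
    (b : ∀ i, V i ⟶ M') (hb : FJLS b) (Φ Ψ : FibCat.fp (AlgSt.ofSpMap g) f ⥤ᵇ AlgSt.ofSp N)
    (h : ∀ i, BasedFunctor.comp (cMap f g (b i)) Φ = BasedFunctor.comp (cMap f g (b i)) Ψ) :
    Φ = Ψ := by
  apply Groth.Agent.Lib.Helper24.QuotSt7.eq_of_sec_eq
  intro z
  have hfib : FibCat.IsFibGrpd (FibCat.fp (AlgSt.ofSpMap g) f).p :=
    isFibGrpd_fp _ _ (Stk.isFibGrpd_ofPsh _) h𝒳 (Stk.isFibGrpd_ofPsh _)
  obtain ⟨R, hR, hl⟩ := hb ((FibCat.fp (AlgSt.ofSpMap g) f).p.obj z) (yEquiv.symm z.obj.fst.sec)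
  have hsep := ((isSheaf_iff_isSheaf_of_type _ _).1 N.property R hR).isSeparatedFor
  apply hsep.ext
  intro T' t ht
  obtain ⟨i, x, hx⟩ := hl t ht
  obtain ⟨z', ζ, hζ⟩ := hfib.exists_lift (x := z) t
  obtain rfl := IsHomLift.domain_eq (FibCat.fp (AlgSt.ofSpMap g) f).p t ζ
  have hpt : (FibCat.fp (AlgSt.ofSpMap g) f).p.map ζ = t := by
    have := IsHomLift.fac' (FibCat.fp (AlgSt.ofSpMap g) f).p t ζ
    simpa using this
  rw [← hpt, sec_compat Φ ζ, sec_compat Ψ ζ]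
  have hx' : (b i).hom.app _ (yEquiv x) = z'.obj.fst.sec := by
    have e1 := (AlgSp.J S).uliftYonedaEquiv_comp x (b i)
    have e2 := congrArg yEquiv hx
    have e3 := (AlgSp.J S).uliftYonedaEquiv_naturality (yEquiv.symm z.obj.fst.sec) t
    have e4 := ζ.hom.fst.map_sec
    rw [← e1, e2]
    refine e3.symm.trans ?_
    refine (congrArg (M'.obj.map t.op) (Equiv.apply_symm_apply yEquiv z.obj.fst.sec)).trans ?_
    rw [← hpt]
    exact e4
  obtain ⟨s, rfl⟩ := exists_obj_cMap f g (b i) z' (yEquiv x) hx'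
  have h1 := congrArg (fun F => sec F s) (h i)
  simp only [sec_comp] at h1
  have h2 := congrArg (N.obj.map (eqToHom ((cMap f g (b i)).w_obj s)).op) h1
  simp only [← Functor.map_comp_apply, ← op_comp] at h2
  simpa using h2

open Groth.Agent.Lib.Helper24.AlgStEqv in
/-- categorical moduli spaces transfer along equivalences of the source -/
theorem isCatModuli_of_eqvOver {𝒜 𝒜' : AlgSt.Cat S} {M : AlgSp.Sp S} (π : 𝒜 ⥤ᵇ AlgSt.ofSp M)
    (π' : 𝒜' ⥤ᵇ AlgSt.ofSp M) (h : EqvOver π π') (hπ' : AlgSt.IsCatModuli π') :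
    AlgSt.IsCatModuli π := by
  obtain ⟨k, ⟨k', ⟨α⟩, ⟨β⟩⟩, hi⟩ := h
  have hπ : BasedFunctor.comp k π' = π := eq_of_nonempty_iso hi
  subst hπ
  refine ⟨hπ'.1, fun N hN φ => ?_⟩
  obtain ⟨h, hh, huniq⟩ := hπ'.2 N hN (BasedFunctor.comp k' φ)
  have hh' := eq_of_nonempty_iso hh
  have e1 : BasedFunctor.comp (BasedFunctor.comp k k') φ = φ :=
    eq_of_nonempty_iso ⟨(whiskerRightIso α φ : _ ≅ φ)⟩
  refine ⟨h, ⟨eqToIso ?_⟩, fun h' hh'' => huniq h' ⟨eqToIso ?_⟩⟩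
  · change BasedFunctor.comp k (BasedFunctor.comp π' (AlgSt.ofSpMap h)) = φ
    rw [hh']
    exact e1
  · have h2 := eq_of_nonempty_iso hh''
    have e2 : BasedFunctor.comp (BasedFunctor.comp k' k) (BasedFunctor.comp π' (AlgSt.ofSpMap h')) =
        BasedFunctor.comp π' (AlgSt.ofSpMap h') :=
      eq_of_nonempty_iso ⟨(whiskerRightIso β _ : _ ≅ BasedFunctor.comp π' (AlgSt.ofSpMap h'))⟩
    rw [← e2, ← h2]
    rfl

open Groth.Agent.Lib.Helper24.AlgStEqv in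
lemma eqvOver_self_fpFst_id {𝒜 ℬ : AlgSt.Cat S} (F : 𝒜 ⥤ᵇ ℬ) :
    EqvOver F (FibCat.fpFst (BasedFunctor.id ℬ) F) :=
  ⟨BasedFunctor.comp (Groth.Agent.Lib.Helper24.FibCatGraph.graphEquiv F)
      (Groth.Agent.Lib.Helper24.FibCatFpSwap.swap F (BasedFunctor.id ℬ)),
    isEquivOver_comp _ _ (Groth.Agent.Lib.Helper24.FibCatGraph.isEquivOver_graphEquiv F)
      (Groth.Agent.Lib.Helper24.FibCatFpSwap.isEquivOver_swap F (BasedFunctor.id ℬ)),
    ⟨Iso.refl _⟩⟩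

end Groth.Agent.Lib.Helper24.CatModLoc2
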