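import Groth.Agent.Lib.Helper24.CatModLoc2
import Groth.Agent.Lib.Helper14.SchImg2
import Groth.Agent.Lib.Helper14.LimJ
import Groth.Agent.Lib.Helper14.AlgSpLocP2
import Groth.Agent.Lib.Helper14.AlgSpFibre
import Groth.Agent.Lib.Helper14.AlgSpRedFactor2
set_option autoImplicit false
set_option linter.unusedSectionVars false
set_option linter.unusedSimpArgs false
set_option linter.unusedVariables false
universe u
open CategoryTheory CategoryTheory.Limits AlgebraicGeometry Opposite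
set_option backward.isDefEq.respectTransparency false
set_option backward.isDefEq.respectTransparency.types false

/-! Categorical moduli spaces are local on the base: affine étale charts. -/

namespace Groth.Agent.Lib.Helper24.CatModLoc3
open AlgSt AlgSp
open Groth.Agent.Lib.Helper24.PshFun Groth.Agent.Lib.Helper24.PshBridge
open Groth.Agent.Lib.Helper24.CatModQuot Groth.Agent.Lib.Helper24.CatModLoc1
open Groth.Agent.Lib.Helper24.CatModLoc2
open Groth.Agent.Lib.Helper14.AS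

variable {S : Scheme.{u}}

/-- affine étale charts of a sheaf -/
def Chart (M' : AlgSp.Sp S) : Type (u + 1) :=
  {c : Σ V : Over S, ((AlgSp.yon S).obj V ⟶ M') // IsAffine c.1.left ∧ RepWith @Etale c.2}

theorem fjls_charts {M' : AlgSp.Sp S} (hM' : IsAlgSpace M') :
    FJLS (V := fun c : Chart M' => (AlgSp.yon S).obj c.1.1) (fun c => c.1.2) := by
  intro T w
  choose W V₀ hV₀ w' t₀ b₀ hb₀ hw' hx comm using
    (fun pt : T.left => exists_affine_chart_at hM' w pt)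
  have hK : Presieve.ofArrows W w' ∈ KS S T :=
    ofArrows_mem_KS W w' (fun pt => by have := hw' pt; exact ⟨inferInstance, inferInstance⟩)
      (fun pt => ⟨pt, hx pt⟩)
  refine ⟨Sieve.generate (Presieve.ofArrows W w'),
    (mem_J_iff _).2 ⟨_, hK, Sieve.le_generate _⟩, ?_⟩
  rintro T' t ⟨Z, s, r, ⟨pt⟩, rfl⟩
  refine ⟨⟨⟨V₀ pt, b₀ pt⟩, hV₀ pt, hb₀ pt⟩, (AlgSp.yon S).map (s ≫ t₀ pt), ?_⟩
  change (AlgSp.yon S).map (s ≫ t₀ pt) ≫ b₀ pt = _
  rw [Functor.map_comp, Category.assoc, ← comm pt, Functor.map_comp, Category.assoc]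

variable {𝒳 : AlgSt.Cat S} {Y M' : AlgSp.Sp S} (f : 𝒳 ⥤ᵇ AlgSt.ofSp Y)

theorem isCatModuli_fpFst (h𝒳 : FibCat.IsFibGrpd 𝒳.p) (hY : IsAlgSpace Y) (hM' : IsAlgSpace M')
    (g : M' ⟶ Y) (hg : LocP @Flat g)
    (hf : ∀ (Y' : Over S), IsAffine Y'.left → ∀ (g' : (AlgSp.yon S).obj Y' ⟶ Y), LocP @Flat g' →
      AlgSt.IsCatModuli (FibCat.fpFst (AlgSt.ofSpMap g') f)) :
    AlgSt.IsCatModuli (FibCat.fpFst (AlgSt.ofSpMap g) f) := by
  refine ⟨hM', fun N hN φ => ?_⟩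
  have hch : ∀ c : Chart M', ∃! h : (AlgSp.yon S).obj c.1.1 ⟶ N, Compat f g φ c.1.2 h := by
    intro c
    have hfl : LocP @Flat (c.1.2 ≫ g) :=
      locP_comp etLocal_flat (IsAlgSpace.yon_obj _) hM' hY c.1.2 g
        (locP_of_repWith etale_le_flat (repWith_mono etale_le_flat c.2.2)) hg
    obtain ⟨h, hh, hu⟩ := (hf c.1.1 c.2.1 (c.1.2 ≫ g) hfl).2 N hN
      (BasedFunctor.comp (cMap f g c.1.2) φ)
    exact ⟨h, eq_of_nonempty_iso hh, fun h' hh' => hu h' ⟨eqToIso hh'⟩⟩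
  choose H hH hHu using hch
  have key : ∀ (c : Chart M') (V' : Over S) (hV' : IsAffine V'.left)
      (a : (AlgSp.yon S).obj V' ⟶ (AlgSp.yon S).obj c.1.1) (he : RepWith @Etale (a ≫ c.1.2)),
      a ≫ H c = H ⟨⟨V', a ≫ c.1.2⟩, hV', he⟩ := fun c V' hV' a he =>
    hHu ⟨⟨V', a ≫ c.1.2⟩, hV', he⟩ _ (compat_precomp f g φ c.1.2 (H c) (hH c) a)
  have hcompat : ∀ (T : Over S) (c c' : Chart M') (x : (AlgSp.yon S).obj T ⟶ (AlgSp.yon S).obj c.1.1)
      (x' : (AlgSp.yon S).obj T ⟶ (AlgSp.yon S).obj c'.1.1),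
      x ≫ c.1.2 = x' ≫ c'.1.2 → x ≫ H c = x' ≫ H c' := by
    intro T c c' x x' hxx'
    have hP : IsAlgSpace (pullback c.1.2 c'.1.2) :=
      isAlgSpace_of_isPullback (repDiag_of_isAlgSpace hM') (IsAlgSpace.yon_obj _)
        (IsAlgSpace.yon_obj _) (IsPullback.of_hasPullback c.1.2 c'.1.2)
    let l : (AlgSp.yon S).obj T ⟶ pullback c.1.2 c'.1.2 := pullback.lift x x' hxx'
    choose W V₀ hV₀ w t₀ b₀ hb₀ hw hx comm using
      (fun pt : T.left => exists_affine_chart_at hP l pt)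
    have hK : Presieve.ofArrows W w ∈ KS S T :=
      ofArrows_mem_KS W w (fun pt => by have := hw pt; exact ⟨inferInstance, inferInstance⟩)
        (fun pt => ⟨pt, hx pt⟩)
    refine yon_hom_ext_of_KS _ _ _ hK ?_
    rintro _ _ ⟨pt⟩
    let a := b₀ pt ≫ pullback.fst c.1.2 c'.1.2
    let a' := b₀ pt ≫ pullback.snd c.1.2 c'.1.2
    have hcond : a ≫ c.1.2 = a' ≫ c'.1.2 := by
      simp only [a, a', Category.assoc, pullback.condition]
    have hfst : RepWith @Etale (pullback.fst c.1.2 c'.1.2) :=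
      MorphismProperty.pullback_fst _ _ c'.2.2
    have he : RepWith @Etale (a ≫ c.1.2) :=
      repWith_comp _ (repWith_comp _ (hb₀ pt) hfst) c.2.2
    have he' : RepWith @Etale (a' ≫ c'.1.2) := hcond ▸ he
    have k1 := key c (V₀ pt) (hV₀ pt) a he
    have k2 := key c' (V₀ pt) (hV₀ pt) a' he'
    have hH12 : ∀ (b₁ b₂ : (AlgSp.yon S).obj (V₀ pt) ⟶ M') (h₁ : RepWith @Etale b₁)
        (h₂ : RepWith @Etale b₂), b₁ = b₂ →
        H ⟨⟨V₀ pt, b₁⟩, hV₀ pt, h₁⟩ = H ⟨⟨V₀ pt, b₂⟩, hV₀ pt, h₂⟩ := by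
      intro b₁ b₂ h₁ h₂ e
      subst e
      rfl
    have hcc := hH12 _ _ he he' hcond
    have e1 : (AlgSp.yon S).map (w pt) ≫ x = (AlgSp.yon S).map (t₀ pt) ≫ a := by
      have := congrArg (fun m => m ≫ pullback.fst c.1.2 c'.1.2) (comm pt)
      simpa [l, a] using this
    have e2 : (AlgSp.yon S).map (w pt) ≫ x' = (AlgSp.yon S).map (t₀ pt) ≫ a' := by
      have := congrArg (fun m => m ≫ pullback.snd c.1.2 c'.1.2) (comm pt)
      simpa [l, a'] using this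
    calc (AlgSp.yon S).map (w pt) ≫ x ≫ H c = ((AlgSp.yon S).map (w pt) ≫ x) ≫ H c :=
          (Category.assoc _ _ _).symm
      _ = ((AlgSp.yon S).map (t₀ pt) ≫ a) ≫ H c := congrArg (fun m => m ≫ H c) e1
      _ = (AlgSp.yon S).map (t₀ pt) ≫ (a ≫ H c) := Category.assoc _ _ _
      _ = (AlgSp.yon S).map (t₀ pt) ≫ (a' ≫ H c') :=
          congrArg (fun m => (AlgSp.yon S).map (t₀ pt) ≫ m) (k1.trans (hcc.trans k2.symm))
      _ = ((AlgSp.yon S).map (t₀ pt) ≫ a') ≫ H c' := (Category.assoc _ _ _).symm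
      _ = ((AlgSp.yon S).map (w pt) ≫ x') ≫ H c' := congrArg (fun m => m ≫ H c') e2.symm
      _ = _ := Category.assoc _ _ _
  obtain ⟨h, hh⟩ := exists_desc_of_FJLS (fjls_charts hM') H hcompat
  refine ⟨h, ⟨eqToIso ?_⟩, ?_⟩
  · apply ext_of_charts f g h𝒳 _ (fjls_charts hM')
    intro c
    have h1 := compat_of_comp f g
      (BasedFunctor.comp (FibCat.fpFst (AlgSt.ofSpMap g) f) (AlgSt.ofSpMap h)) c.1.2 h rfl
    unfold Compat at h1
    rw [hh c] at h1
    exact h1.symm.trans (hH c)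
  · intro h' hh'
    have e := eq_of_nonempty_iso hh'
    apply FJLS.hom_ext (fjls_charts hM')
    intro c
    rw [hh c]
    exact hHu c (c.1.2 ≫ h') (compat_of_comp f g φ c.1.2 h' e)

theorem isUnifCatModuli (h𝒳 : FibCat.IsFibGrpd 𝒳.p) (hY : IsAlgSpace Y)
    (hf : ∀ (Y' : Over S), IsAffine Y'.left → ∀ (g' : (AlgSp.yon S).obj Y' ⟶ Y), LocP @Flat g' →
      AlgSt.IsCatModuli (FibCat.fpFst (AlgSt.ofSpMap g') f)) :
    AlgSt.IsUnifCatModuli f := by
  refine ⟨?_, fun M' hM' g hg => isCatModuli_fpFst f h𝒳 hY hM' g hg hf⟩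
  have hid : LocP @Flat (𝟙 Y) :=
    locP_of_repWith etale_le_flat ((RepWith (S := S) @Flat).id_mem Y)
  have h1 := isCatModuli_fpFst f h𝒳 hY hY (𝟙 Y) hid hf
  rw [Groth.Agent.Lib.Helper24.WNA1.ofSpMap_id] at h1
  exact isCatModuli_of_eqvOver f _ (eqvOver_self_fpFst_id f) h1

end Groth.Agent.Lib.Helper24.CatModLoc3
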