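import Groth.Agent.Lib.Helper24.CatPbA
import Mathlib.CategoryTheory.Limits.Shapes.Pullback.IsPullback.Basic
set_option autoImplicit false
open CategoryTheory CategoryTheory.Limits
universe u v u₂ v₂ u₃ v₃
set_option backward.isDefEq.respectTransparency false
set_option backward.isDefEq.respectTransparency.types false

/-! # Sections over a sieve of a base-changed fibred category, and their cones

A section of `C ×_D 𝒮` over a sieve `R` on `U` amounts to a functor `F` from the sieve to `𝒮`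
together with isomorphisms `j a : u V_a ≅ p (F a)`; this file proves that morphisms between the
vertices of two cones of such a datum exist uniquely, when `𝒮` is a prestack for the pushforward
sieve and `u` preserves pullbacks. -/

noncomputable section

namespace Groth.Agent.Lib.Helper24.CatPbB
open Groth.Agent.Lib.Helper24.CatPbA

variable {C : Type u} [Category.{v} C] {D : Type u₂} [Category.{v₂} D]
  (u : C ⥤ D) {U : C} (R : Sieve U) (𝒮 : BasedCategory.{v₃, u₃} D)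

/-- a section datum: a functor from the sieve to `𝒮` lying over `u` up to isomorphisms -/
structure Sec where
  F : (Stk.sieveCat R).obj ⥤ 𝒮.obj
  j : ∀ a : (Stk.sieveCat R).obj, u.obj a.obj.left ≅ 𝒮.p.obj (F.obj a)
  nat : ∀ {a a' : (Stk.sieveCat R).obj} (m : a ⟶ a'),
    u.map m.hom.left ≫ (j a').hom = (j a).hom ≫ 𝒮.p.map (F.map m)

variable {u R 𝒮}

lemma Sec.nat' (σ : Sec u R 𝒮) {a a' : (Stk.sieveCat R).obj} (m : a ⟶ a') :
    (σ.j a).inv ≫ u.map m.hom.left = 𝒮.p.map (σ.F.map m) ≫ (σ.j a').inv := by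
  rw [Iso.inv_comp_eq, ← Category.assoc, ← σ.nat, Category.assoc, Iso.hom_inv_id, Category.comp_id]

/-- factorisations of an arrow to `u U` through the image of an arrow of `R` -/
structure Fact (u : C ⥤ D) (R : Sieve U) {W : D} (e : W ⟶ u.obj U) where
  a : (Stk.sieveCat R).obj
  h : W ⟶ u.obj a.obj.left
  fac : h ≫ u.map a.obj.hom = e

lemma nonempty_fact {W : D} {e : W ⟶ u.obj U} (he : (R.functorPushforward u) e) :
    Nonempty (Fact u R e) := by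
  obtain ⟨V, g, h, hg, hfac⟩ := he
  exact ⟨⟨⟨Over.mk g, hg⟩, h, hfac.symm⟩⟩

lemma mem_of_fact {W : D} {e : W ⟶ u.obj U} (fc : Fact u R e) : (R.functorPushforward u) e :=
  ⟨fc.a.obj.left, fc.a.obj.hom, fc.h, fc.a.property, fc.fac.symm⟩

section Pair
variable [HasPullbacks C]

/-- the fibre product of two arrows of the sieve -/
def pr (a₀ a : (Stk.sieveCat R).obj) : (Stk.sieveCat R).obj :=
  ⟨Over.mk (pullback.fst a₀.obj.hom a.obj.hom ≫ a₀.obj.hom), R.downward_closed a₀.property _⟩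

def pr₁ (a₀ a : (Stk.sieveCat R).obj) : pr a₀ a ⟶ a₀ :=
  ObjectProperty.homMk (Over.homMk (pullback.fst a₀.obj.hom a.obj.hom) rfl)

def pr₂ (a₀ a : (Stk.sieveCat R).obj) : pr a₀ a ⟶ a :=
  ObjectProperty.homMk (Over.homMk (pullback.snd a₀.obj.hom a.obj.hom) pullback.condition.symm)

lemma pr₁_left (a₀ a : (Stk.sieveCat R).obj) :
    (pr₁ a₀ a).hom.left = pullback.fst a₀.obj.hom a.obj.hom := rfl

lemma pr₂_left (a₀ a : (Stk.sieveCat R).obj) :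
    (pr₂ a₀ a).hom.left = pullback.snd a₀.obj.hom a.obj.hom := rfl

variable [PreservesLimitsOfShape WalkingCospan u]

variable (u) in
lemma isPb (a₀ a : (Stk.sieveCat R).obj) :
    IsPullback (u.map (pullback.fst a₀.obj.hom a.obj.hom)) (u.map (pullback.snd a₀.obj.hom a.obj.hom))
      (u.map a₀.obj.hom) (u.map a.obj.hom) :=
  IsPullback.map u (IsPullback.of_hasPullback _ _)

variable (h𝒮 : FibCat.IsFibGrpd 𝒮.p) (σ : Sec u R 𝒮)

include h𝒮 in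
/-- existence of pairings -/
theorem pair_exists {a₀ a : (Stk.sieveCat R).obj} {z : 𝒮.obj} (ξ₀ : z ⟶ σ.F.obj a₀)
    (g : 𝒮.p.obj z ⟶ u.obj a.obj.left)
    (hg : 𝒮.p.map ξ₀ ≫ (σ.j a₀).inv ≫ u.map a₀.obj.hom = g ≫ u.map a.obj.hom) :
    ∃ ω : z ⟶ σ.F.obj (pr a₀ a), ω ≫ σ.F.map (pr₁ a₀ a) = ξ₀ ∧
      𝒮.p.map (ω ≫ σ.F.map (pr₂ a₀ a)) = g ≫ (σ.j a).hom := by
  let ℓ : 𝒮.p.obj z ⟶ u.obj (pullback a₀.obj.hom a.obj.hom) :=
    (isPb u a₀ a).lift (𝒮.p.map ξ₀ ≫ (σ.j a₀).inv) g (by simpa using hg)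
  have hℓ₁ : ℓ ≫ u.map (pr₁ a₀ a).hom.left = 𝒮.p.map ξ₀ ≫ (σ.j a₀).inv :=
    (isPb u a₀ a).lift_fst _ _ _
  have hℓ₂ : ℓ ≫ u.map (pr₂ a₀ a).hom.left = g := (isPb u a₀ a).lift_snd _ _ _
  have hc : (ℓ ≫ (σ.j (pr a₀ a)).hom) ≫ 𝒮.p.map (σ.F.map (pr₁ a₀ a)) = 𝒮.p.map ξ₀ := by
    rw [Category.assoc, ← σ.nat, ← Category.assoc, hℓ₁, Category.assoc, Iso.inv_hom_id,
      Category.comp_id]
  refine ⟨lft h𝒮 (σ.F.map (pr₁ a₀ a)) ξ₀ _ hc, lft_fac _ _ _ _ _, ?_⟩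
  rw [𝒮.p.map_comp, lft_map, Category.assoc, ← σ.nat, ← Category.assoc, hℓ₂]

include h𝒮 in
/-- uniqueness of pairings -/
theorem pair_unique {a₀ a : (Stk.sieveCat R).obj} {z : 𝒮.obj} (ω₁ ω₂ : z ⟶ σ.F.obj (pr a₀ a))
    (h1 : ω₁ ≫ σ.F.map (pr₁ a₀ a) = ω₂ ≫ σ.F.map (pr₁ a₀ a))
    (h2 : 𝒮.p.map (ω₁ ≫ σ.F.map (pr₂ a₀ a)) = 𝒮.p.map (ω₂ ≫ σ.F.map (pr₂ a₀ a))) : ω₁ = ω₂ := by
  apply cart_uniq h𝒮 (σ.F.map (pr₁ a₀ a)) ω₁ ω₂ ?_ h1
  rw [← cancel_mono (σ.j (pr a₀ a)).inv]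
  apply (isPb u a₀ a).hom_ext
  · have e := σ.nat' (pr₁ a₀ a)
    rw [pr₁_left] at e
    rw [Category.assoc, Category.assoc, e, ← Category.assoc, ← Category.assoc, ← 𝒮.p.map_comp,
      ← 𝒮.p.map_comp, h1]
  · have e := σ.nat' (pr₂ a₀ a)
    rw [pr₂_left] at e
    rw [Category.assoc, Category.assoc, e, ← Category.assoc, ← Category.assoc, ← 𝒮.p.map_comp,
      ← 𝒮.p.map_comp, h2]

end Pair

/-- a cone of a section datum, with vertex `s` over `u U` -/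
structure SCone (σ : Sec u R 𝒮) (s : 𝒮.obj) (i : u.obj U ≅ 𝒮.p.obj s) where
  θ : ∀ a : (Stk.sieveCat R).obj, σ.F.obj a ⟶ s
  lift : ∀ a : (Stk.sieveCat R).obj, (σ.j a).hom ≫ 𝒮.p.map (θ a) = u.map a.obj.hom ≫ i.hom
  nat : ∀ {a b : (Stk.sieveCat R).obj} (m : a ⟶ b), σ.F.map m ≫ θ b = θ a

section Desc
variable [HasPullbacks C] [PreservesLimitsOfShape WalkingCospan u]
variable (h𝒮 : FibCat.IsFibGrpd 𝒮.p) {σ : Sec u R 𝒮} {s s' : 𝒮.obj} {i : u.obj U ≅ 𝒮.p.obj s}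
  {i' : u.obj U ≅ 𝒮.p.obj s'} (c : SCone σ s i) (c' : SCone σ s' i')

omit [HasPullbacks C] [PreservesLimitsOfShape WalkingCospan u] in
lemma χ_aux {z : 𝒮.obj} (τ : z ⟶ s) (fc : Fact u R (𝒮.p.map τ ≫ i.inv)) :
    (fc.h ≫ (σ.j fc.a).hom) ≫ 𝒮.p.map (c.θ fc.a) = 𝒮.p.map τ := by
  rw [Category.assoc, c.lift, ← Category.assoc, fc.fac, Category.assoc, Iso.inv_hom_id,
    Category.comp_id]

/-- the factorisation of `τ` through a member of the cone -/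
def χ {z : 𝒮.obj} (τ : z ⟶ s) (fc : Fact u R (𝒮.p.map τ ≫ i.inv)) : z ⟶ σ.F.obj fc.a :=
  lft h𝒮 (c.θ fc.a) τ _ (χ_aux c τ fc)

omit [HasPullbacks C] [PreservesLimitsOfShape WalkingCospan u] in
lemma χ_map {z : 𝒮.obj} (τ : z ⟶ s) (fc : Fact u R (𝒮.p.map τ ≫ i.inv)) :
    𝒮.p.map (χ h𝒮 c τ fc) = fc.h ≫ (σ.j fc.a).hom := lft_map _ _ _ _ _

omit [HasPullbacks C] [PreservesLimitsOfShape WalkingCospan u] in
@[reassoc]
lemma χ_fac {z : 𝒮.obj} (τ : z ⟶ s) (fc : Fact u R (𝒮.p.map τ ≫ i.inv)) :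
    χ h𝒮 c τ fc ≫ c.θ fc.a = τ := lft_fac _ _ _ _ _

/-- independence of the factorisation -/
theorem indep {z : 𝒮.obj} (τ : z ⟶ s) (fc fc' : Fact u R (𝒮.p.map τ ≫ i.inv)) :
    χ h𝒮 c τ fc ≫ c'.θ fc.a = χ h𝒮 c τ fc' ≫ c'.θ fc'.a := by
  have hg : 𝒮.p.map (χ h𝒮 c τ fc) ≫ (σ.j fc.a).inv ≫ u.map fc.a.obj.hom =
      fc'.h ≫ u.map fc'.a.obj.hom := by
    rw [χ_map, Category.assoc, Iso.hom_inv_id_assoc, fc.fac, fc'.fac]
  obtain ⟨ω, hω₁, hω₂⟩ := pair_exists h𝒮 σ (χ h𝒮 c τ fc) fc'.h hg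
  have e2 : ω ≫ σ.F.map (pr₂ fc.a fc'.a) = χ h𝒮 c τ fc' := by
    apply cart_uniq h𝒮 (c.θ fc'.a)
    · rw [hω₂, χ_map]
    · rw [Category.assoc, c.nat, χ_fac, ← c.nat (pr₁ fc.a fc'.a), ← Category.assoc, hω₁, χ_fac]
  rw [← hω₁, ← e2, Category.assoc, Category.assoc, c'.nat, c'.nat]

variable (hpre : Stk.IsPrestackFor ((R.functorPushforward u).pullback i.inv) 𝒮)

/-- the value on `τ` of the glued morphism -/
def Fτ {z : 𝒮.obj} (τ : z ⟶ s) (h : ((R.functorPushforward u).pullback i.inv) (𝒮.p.map τ)) :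
    z ⟶ s' :=
  χ h𝒮 c τ (nonempty_fact h).some ≫ c'.θ (nonempty_fact h).some.a

lemma Fτ_eq {z : 𝒮.obj} (τ : z ⟶ s) (h : ((R.functorPushforward u).pullback i.inv) (𝒮.p.map τ))
    (fc : Fact u R (𝒮.p.map τ ≫ i.inv)) : Fτ h𝒮 c c' τ h = χ h𝒮 c τ fc ≫ c'.θ fc.a :=
  indep h𝒮 c c' τ _ fc

omit [HasPullbacks C] [PreservesLimitsOfShape WalkingCospan u] in
lemma θ_fac (a : (Stk.sieveCat R).obj) :
    (σ.j a).inv ≫ u.map a.obj.hom = 𝒮.p.map (c.θ a) ≫ i.inv := by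
  rw [Iso.inv_comp_eq, ← Category.assoc, c.lift, Category.assoc, Iso.hom_inv_id, Category.comp_id]

/-- the tautological factorisation of a member of the cone -/
def θFact (a : (Stk.sieveCat R).obj) : Fact u R (𝒮.p.map (c.θ a) ≫ i.inv) :=
  ⟨a, (σ.j a).inv, θ_fac c a⟩

include hpre h𝒮 in
/-- morphisms between the vertices of two cones exist uniquely -/
theorem hdescS : ∃! h₂ : s ⟶ s', 𝒮.p.map h₂ = i.inv ≫ i'.hom ∧ ∀ a, c.θ a ≫ h₂ = c'.θ a := by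
  have hθF : ∀ (a : (Stk.sieveCat R).obj)
      (h : ((R.functorPushforward u).pullback i.inv) (𝒮.p.map (c.θ a))),
      Fτ h𝒮 c c' (c.θ a) h = c'.θ a := by
    intro a h
    rw [Fτ_eq h𝒮 c c' _ h (θFact c a)]
    have : χ h𝒮 c (c.θ a) (θFact c a) = 𝟙 _ := by
      symm
      apply lft_uniq
      · rw [𝒮.p.map_id]; simp [θFact]
      · exact Category.id_comp _
    rw [this]
    exact Category.id_comp _
  obtain ⟨h₂, ⟨hm, hF⟩, huniq⟩ := glue_hom' h𝒮 s s' _ hpre (i.inv ≫ i'.hom)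
    (fun τ h => Fτ h𝒮 c c' τ h)
    (fun {z} τ h => by
      change 𝒮.p.map (χ h𝒮 c τ _ ≫ c'.θ _) = _
      rw [𝒮.p.map_comp, χ_map, Category.assoc, c'.lift, ← Category.assoc,
        (nonempty_fact h).some.fac, Category.assoc])
    (fun {z₁ z} k τ h h₁ => by
      let fc := (nonempty_fact h).some
      have hfac : (𝒮.p.map k ≫ fc.h) ≫ u.map fc.a.obj.hom = 𝒮.p.map (k ≫ τ) ≫ i.inv := by
        rw [Category.assoc, fc.fac, 𝒮.p.map_comp, Category.assoc]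
      let fc₁ : Fact u R (𝒮.p.map (k ≫ τ) ≫ i.inv) := ⟨fc.a, 𝒮.p.map k ≫ fc.h, hfac⟩
      change Fτ h𝒮 c c' (k ≫ τ) h₁ = k ≫ χ h𝒮 c τ fc ≫ c'.θ fc.a
      rw [Fτ_eq h𝒮 c c' _ h₁ fc₁]
      have : χ h𝒮 c (k ≫ τ) fc₁ = k ≫ χ h𝒮 c τ fc := by
        symm
        apply lft_uniq
        · rw [𝒮.p.map_comp, χ_map, Category.assoc]
        · rw [Category.assoc]
          exact congrArg (k ≫ ·) (χ_fac h𝒮 c τ fc)
      rw [this, Category.assoc])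
  refine ⟨h₂, ⟨hm, fun a => ?_⟩, ?_⟩
  · rw [hF (c.θ a) (mem_of_fact (θFact c a)), hθF]
  · rintro h₂' ⟨hm', hθ'⟩
    apply huniq
    refine ⟨hm', fun {z} τ h => ?_⟩
    change τ ≫ h₂' = χ h𝒮 c τ _ ≫ c'.θ _
    rw [← hθ', ← Category.assoc, χ_fac]

end Desc

end Groth.Agent.Lib.Helper24.CatPbB
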