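import Groth.Agent.Lib.Helper24.CatPbB
set_option autoImplicit false
open CategoryTheory CategoryTheory.Limits
universe u v u₂ v₂ u₃ v₃
set_option backward.isDefEq.respectTransparency false
set_option backward.isDefEq.respectTransparency.types false

/-! # Extending a section datum to the pushforward sieve

Objects over the arrows of the pushforward sieve, together with compatible charts to all members of
the section datum ("fully charted objects"), exist and have unique comparison morphisms; they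
assemble to a section of `𝒮` over the pushforward sieve. -/

noncomputable section

namespace Groth.Agent.Lib.Helper24.CatPbC
open Groth.Agent.Lib.Helper24.CatPbA Groth.Agent.Lib.Helper24.CatPbB
open Groth.Agent.Lib.Helper24.StkRefine Groth.Agent.Lib.Helper24.StkCone

variable {C : Type u} [Category.{v} C] {D : Type u₂} [Category.{v₂} D]
  {u : C ⥤ D} {U : C} {R : Sieve U} {𝒮 : BasedCategory.{v₃, u₃} D}

lemma fact_ext {W : D} {e : W ⟶ u.obj U} {a : (Stk.sieveCat R).obj} {h h' : W ⟶ u.obj a.obj.left}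
    (hh : h = h') (fac : h ≫ u.map a.obj.hom = e) (fac' : h' ≫ u.map a.obj.hom = e) :
    (⟨a, h, fac⟩ : Fact u R e) = ⟨a, h', fac'⟩ := by
  subst hh; rfl

/-- transport of a factorisation along a morphism of the sieve -/
def _root_.Groth.Agent.Lib.Helper24.CatPbB.Fact.push {W : D} {e : W ⟶ u.obj U} (fc : Fact u R e) {a' : (Stk.sieveCat R).obj}
    (m : fc.a ⟶ a') : Fact u R e :=
  ⟨a', fc.h ≫ u.map m.hom.left, by
    rw [Category.assoc, ← u.map_comp, Over.w m.hom]; exact fc.fac⟩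

/-- restriction of a factorisation along a morphism over `u U` -/
def _root_.Groth.Agent.Lib.Helper24.CatPbB.Fact.pull {W W' : D} {e : W ⟶ u.obj U} {e' : W' ⟶ u.obj U} (fc : Fact u R e') (k : W ⟶ W')
    (hk : k ≫ e' = e) : Fact u R e :=
  ⟨fc.a, k ≫ fc.h, by rw [Category.assoc, fc.fac, hk]⟩

/-- an object over `W` with compatible charts to all members of the section datum -/
structure FullChart (σ : Sec u R 𝒮) {W : D} (e : W ⟶ u.obj U) where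
  t : 𝒮.obj
  ht : 𝒮.p.obj t = W
  ξ : ∀ fc : Fact u R e, t ⟶ σ.F.obj fc.a
  ξ_map : ∀ fc : Fact u R e, 𝒮.p.map (ξ fc) = eqToHom ht ≫ fc.h ≫ (σ.j fc.a).hom
  ξ_nat : ∀ (fc : Fact u R e) {a' : (Stk.sieveCat R).obj} (m : fc.a ⟶ a'),
    ξ fc ≫ σ.F.map m = ξ (fc.push m)

lemma ξ_congr {σ : Sec u R 𝒮} {W : D} {e : W ⟶ u.obj U} (ch : FullChart σ e)
    {a : (Stk.sieveCat R).obj} {h h' : W ⟶ u.obj a.obj.left}
    (hh : h = h') (fac : h ≫ u.map a.obj.hom = e) (fac' : h' ≫ u.map a.obj.hom = e) :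
    ch.ξ ⟨a, h, fac⟩ = ch.ξ ⟨a, h', fac'⟩ := by
  subst hh; rfl

section
variable [HasPullbacks C]

/-- the morphism to a fibre product in the sieve -/
def prLift {a'' a₀ a : (Stk.sieveCat R).obj} (m₀ : a'' ⟶ a₀) (m : a'' ⟶ a) : a'' ⟶ pr a₀ a :=
  ObjectProperty.homMk (Over.homMk (pullback.lift m₀.hom.left m.hom.left
    (by rw [Over.w m₀.hom, Over.w m.hom])) (by
      change pullback.lift _ _ _ ≫ pullback.fst _ _ ≫ a₀.obj.hom = a''.obj.hom
      rw [pullback.lift_fst_assoc, Over.w m₀.hom]))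

lemma prLift_fst {a'' a₀ a : (Stk.sieveCat R).obj} (m₀ : a'' ⟶ a₀) (m : a'' ⟶ a) :
    prLift m₀ m ≫ pr₁ a₀ a = m₀ := by
  apply sieveCat_hom_ext
  change pullback.lift _ _ _ ≫ pullback.fst _ _ = _
  rw [pullback.lift_fst]

lemma prLift_snd {a'' a₀ a : (Stk.sieveCat R).obj} (m₀ : a'' ⟶ a₀) (m : a'' ⟶ a) :
    prLift m₀ m ≫ pr₂ a₀ a = m := by
  apply sieveCat_hom_ext
  change pullback.lift _ _ _ ≫ pullback.snd _ _ = _
  rw [pullback.lift_snd]

variable [PreservesLimitsOfShape WalkingCospan u]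
variable (h𝒮 : FibCat.IsFibGrpd 𝒮.p) (σ : Sec u R 𝒮)

include h𝒮 in
/-- fully charted objects exist over the arrows of the pushforward sieve -/
theorem exists_fullChart {W : D} {e : W ⟶ u.obj U} (fc₀ : Fact u R e) :
    Nonempty (FullChart σ e) := by
  obtain ⟨t, lam, hlam⟩ := h𝒮.exists_lift (x := σ.F.obj fc₀.a) (fc₀.h ≫ (σ.j fc₀.a).hom)
  have ht : 𝒮.p.obj t = W := IsHomLift.domain_eq 𝒮.p (fc₀.h ≫ (σ.j fc₀.a).hom) lam
  have hlm : 𝒮.p.map lam = eqToHom ht ≫ fc₀.h ≫ (σ.j fc₀.a).hom := by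
    have := IsHomLift.fac' 𝒮.p (fc₀.h ≫ (σ.j fc₀.a).hom) lam
    simpa using this
  have hg : ∀ fc : Fact u R e, 𝒮.p.map lam ≫ (σ.j fc₀.a).inv ≫ u.map fc₀.a.obj.hom =
      (eqToHom ht ≫ fc.h) ≫ u.map fc.a.obj.hom := by
    intro fc
    rw [hlm]
    simp only [Category.assoc, Iso.hom_inv_id_assoc]
    rw [fc₀.fac, fc.fac]
  choose ω hω₁ hω₂ using fun fc : Fact u R e => pair_exists h𝒮 σ lam (eqToHom ht ≫ fc.h) (hg fc)
  refine ⟨{ t := t, ht := ht, ξ := fun fc => ω fc ≫ σ.F.map (pr₂ fc₀.a fc.a), ξ_map := ?_,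
            ξ_nat := ?_ }⟩
  · intro fc
    rw [hω₂, Category.assoc]
  · intro fc a' m
    let n : pr fc₀.a fc.a ⟶ pr fc₀.a a' := prLift (pr₁ fc₀.a fc.a) (pr₂ fc₀.a fc.a ≫ m)
    have hn₁ : n ≫ pr₁ fc₀.a a' = pr₁ fc₀.a fc.a := prLift_fst _ _
    have hn₂ : n ≫ pr₂ fc₀.a a' = pr₂ fc₀.a fc.a ≫ m := prLift_snd _ _
    have e1 : ω fc ≫ σ.F.map n = ω (fc.push m) := by
      apply pair_unique h𝒮 σ
      · rw [Category.assoc, ← σ.F.map_comp, hn₁, hω₁]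
        exact (hω₁ (fc.push m)).symm
      · rw [Category.assoc, ← σ.F.map_comp, hn₂, σ.F.map_comp, ← Category.assoc, 𝒮.p.map_comp,
          hω₂]
        refine Eq.trans ?_ (hω₂ (fc.push m)).symm
        change _ = (eqToHom ht ≫ fc.h ≫ u.map m.hom.left) ≫ (σ.j a').hom
        simp only [Category.assoc]
        rw [σ.nat]
    change (ω fc ≫ σ.F.map (pr₂ fc₀.a fc.a)) ≫ σ.F.map m = ω (fc.push m) ≫ σ.F.map (pr₂ fc₀.a a')
    rw [← e1, Category.assoc, Category.assoc, ← σ.F.map_comp, ← σ.F.map_comp, hn₂]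

variable {σ}

include h𝒮 in
/-- comparison morphisms of fully charted objects exist uniquely -/
theorem chart_hom {W W' : D} {e : W ⟶ u.obj U} {e' : W' ⟶ u.obj U} (ch : FullChart σ e)
    (ch' : FullChart σ e') (k : W ⟶ W') (hk : k ≫ e' = e) (fc₀ : Fact u R e') :
    ∃! φ : ch.t ⟶ ch'.t, 𝒮.p.map φ = eqToHom ch.ht ≫ k ≫ eqToHom ch'.ht.symm ∧
      ∀ fc : Fact u R e', φ ≫ ch'.ξ fc = ch.ξ (fc.pull k hk) := by
  have hc : (eqToHom ch.ht ≫ k ≫ eqToHom ch'.ht.symm) ≫ 𝒮.p.map (ch'.ξ fc₀) =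
      𝒮.p.map (ch.ξ (fc₀.pull k hk)) := by
    rw [ch'.ξ_map, ch.ξ_map]
    simp [Fact.pull]
  let φ : ch.t ⟶ ch'.t := lft h𝒮 (ch'.ξ fc₀) (ch.ξ (fc₀.pull k hk)) _ hc
  have hφm : 𝒮.p.map φ = eqToHom ch.ht ≫ k ≫ eqToHom ch'.ht.symm := lft_map _ _ _ _ _
  have hφf : φ ≫ ch'.ξ fc₀ = ch.ξ (fc₀.pull k hk) := lft_fac _ _ _ _ _
  refine ⟨φ, ⟨hφm, ?_⟩, ?_⟩
  · intro fc
    let ℓ : W' ⟶ u.obj (pullback fc₀.a.obj.hom fc.a.obj.hom) :=
      (isPb u fc₀.a fc.a).lift fc₀.h fc.h (by rw [fc₀.fac, fc.fac])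
    have hℓ₁ : ℓ ≫ u.map (pr₁ fc₀.a fc.a).hom.left = fc₀.h := (isPb u fc₀.a fc.a).lift_fst _ _ _
    have hℓ₂ : ℓ ≫ u.map (pr₂ fc₀.a fc.a).hom.left = fc.h := (isPb u fc₀.a fc.a).lift_snd _ _ _
    let fcP : Fact u R e' := ⟨pr fc₀.a fc.a, ℓ, by
      change ℓ ≫ u.map (pullback.fst _ _ ≫ fc₀.a.obj.hom) = e'
      rw [u.map_comp, ← Category.assoc]
      have := hℓ₁
      rw [pr₁_left] at this
      rw [this, fc₀.fac]⟩
    have p1 : ch'.ξ (fcP.push (pr₁ fc₀.a fc.a)) = ch'.ξ fc₀ := ξ_congr ch' hℓ₁ _ _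
    have p2 : ch'.ξ (fcP.push (pr₂ fc₀.a fc.a)) = ch'.ξ fc := ξ_congr ch' hℓ₂ _ _
    have q1 : ch.ξ ((fcP.pull k hk).push (pr₁ fc₀.a fc.a)) = ch.ξ (fc₀.pull k hk) :=
      ξ_congr ch (by change (k ≫ ℓ) ≫ _ = k ≫ fc₀.h; rw [Category.assoc, hℓ₁]) _ _
    have q2 : ch.ξ ((fcP.pull k hk).push (pr₂ fc₀.a fc.a)) = ch.ξ (fc.pull k hk) :=
      ξ_congr ch (by change (k ≫ ℓ) ≫ _ = k ≫ fc.h; rw [Category.assoc, hℓ₂]) _ _
    have key : φ ≫ ch'.ξ fcP = ch.ξ (fcP.pull k hk) := by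
      apply pair_unique h𝒮 σ
      · rw [Category.assoc, ch'.ξ_nat]
        refine Eq.trans ?_ (ch.ξ_nat (fcP.pull k hk) (pr₁ fc₀.a fc.a)).symm
        rw [p1, hφf]
        exact q1.symm
      · rw [Category.assoc, ch'.ξ_nat]
        refine Eq.trans ?_ (congrArg 𝒮.p.map (ch.ξ_nat (fcP.pull k hk) (pr₂ fc₀.a fc.a))).symm
        rw [p2]
        refine Eq.trans ?_ (congrArg 𝒮.p.map q2).symm
        rw [𝒮.p.map_comp, hφm, ch'.ξ_map, ch.ξ_map]
        simp [Fact.pull]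
    calc φ ≫ ch'.ξ fc = φ ≫ ch'.ξ (fcP.push (pr₂ fc₀.a fc.a)) := by rw [p2]
      _ = (φ ≫ ch'.ξ fcP) ≫ σ.F.map (pr₂ fc₀.a fc.a) := by rw [← ch'.ξ_nat, Category.assoc]
      _ = ch.ξ ((fcP.pull k hk).push (pr₂ fc₀.a fc.a)) := by
          rw [key]; exact ch.ξ_nat (fcP.pull k hk) (pr₂ fc₀.a fc.a)
      _ = ch.ξ (fc.pull k hk) := q2
  · rintro φ' ⟨hφ'm, hφ'⟩
    apply cart_uniq h𝒮 (ch'.ξ fc₀)
    · rw [hφ'm, hφm]
    · rw [hφ' fc₀, hφf]

end

section Ext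
variable [HasPullbacks C] [PreservesLimitsOfShape WalkingCospan u]
variable (h𝒮 : FibCat.IsFibGrpd 𝒮.p) (σ : Sec u R 𝒮)

/-- a chosen factorisation of an arrow of the pushforward sieve -/
def fcOf (b : (Stk.sieveCat (R.functorPushforward u)).obj) : Fact u R b.obj.hom :=
  (nonempty_fact b.property).some

/-- a chosen fully charted object -/
def chOf (b : (Stk.sieveCat (R.functorPushforward u)).obj) : FullChart σ b.obj.hom :=
  (exists_fullChart h𝒮 σ (fcOf b)).some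

/-- the comparison morphisms of the chosen fully charted objects -/
def mapOf {b b' : (Stk.sieveCat (R.functorPushforward u)).obj} (m : b ⟶ b') :
    (chOf h𝒮 σ b).t ⟶ (chOf h𝒮 σ b').t :=
  (chart_hom h𝒮 (chOf h𝒮 σ b) (chOf h𝒮 σ b') m.hom.left (Over.w m.hom) (fcOf b')).exists.choose

lemma mapOf_map {b b' : (Stk.sieveCat (R.functorPushforward u)).obj} (m : b ⟶ b') :
    𝒮.p.map (mapOf h𝒮 σ m) =
      eqToHom (chOf h𝒮 σ b).ht ≫ m.hom.left ≫ eqToHom (chOf h𝒮 σ b').ht.symm :=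
  (chart_hom h𝒮 (chOf h𝒮 σ b) (chOf h𝒮 σ b') m.hom.left (Over.w m.hom)
    (fcOf b')).exists.choose_spec.1

lemma mapOf_fac {b b' : (Stk.sieveCat (R.functorPushforward u)).obj} (m : b ⟶ b')
    (fc : Fact u R b'.obj.hom) :
    mapOf h𝒮 σ m ≫ (chOf h𝒮 σ b').ξ fc = (chOf h𝒮 σ b).ξ (fc.pull m.hom.left (Over.w m.hom)) :=
  (chart_hom h𝒮 (chOf h𝒮 σ b) (chOf h𝒮 σ b') m.hom.left (Over.w m.hom)
    (fcOf b')).exists.choose_spec.2 fc

lemma mapOf_uniq {b b' : (Stk.sieveCat (R.functorPushforward u)).obj} (m : b ⟶ b')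
    (φ : (chOf h𝒮 σ b).t ⟶ (chOf h𝒮 σ b').t)
    (h1 : 𝒮.p.map φ = eqToHom (chOf h𝒮 σ b).ht ≫ m.hom.left ≫ eqToHom (chOf h𝒮 σ b').ht.symm)
    (h2 : ∀ fc : Fact u R b'.obj.hom,
      φ ≫ (chOf h𝒮 σ b').ξ fc = (chOf h𝒮 σ b).ξ (fc.pull m.hom.left (Over.w m.hom))) :
    φ = mapOf h𝒮 σ m :=
  (chart_hom h𝒮 (chOf h𝒮 σ b) (chOf h𝒮 σ b') m.hom.left (Over.w m.hom) (fcOf b')).unique
    ⟨h1, h2⟩ ⟨mapOf_map h𝒮 σ m, mapOf_fac h𝒮 σ m⟩

/-- the extension of the section datum to the pushforward sieve, as a functor -/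
def extFunctor : (Stk.sieveCat (R.functorPushforward u)).obj ⥤ 𝒮.obj where
  obj b := (chOf h𝒮 σ b).t
  map m := mapOf h𝒮 σ m
  map_id b := by
    symm
    apply mapOf_uniq
    · rw [𝒮.p.map_id]
      change _ = eqToHom _ ≫ 𝟙 _ ≫ eqToHom _
      simp
    · intro fc
      rw [Category.id_comp]
      exact ξ_congr _ (Category.id_comp _).symm _ _
  map_comp {b b' b''} m m' := by
    symm
    apply mapOf_uniq
    · rw [𝒮.p.map_comp, mapOf_map, mapOf_map]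
      change _ = eqToHom _ ≫ (m.hom.left ≫ m'.hom.left) ≫ eqToHom _
      simp
    · intro fc
      rw [Category.assoc, mapOf_fac, mapOf_fac]
      exact ξ_congr _ (Category.assoc _ _ _).symm _ _

/-- the extension of the section datum to the pushforward sieve -/
def ext : Stk.sieveCat (R.functorPushforward u) ⥤ᵇ 𝒮 where
  toFunctor := extFunctor h𝒮 σ
  w := by
    refine CategoryTheory.Functor.ext (fun b => (chOf h𝒮 σ b).ht) (fun b b' m => ?_)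
    exact mapOf_map h𝒮 σ m

variable (u) in
/-- the image of an arrow of the sieve in the pushforward sieve -/
def bOf (a : (Stk.sieveCat R).obj) : (Stk.sieveCat (R.functorPushforward u)).obj :=
  ⟨Over.mk (u.map a.obj.hom), ⟨a.obj.left, a.obj.hom, 𝟙 _, a.property, (Category.id_comp _).symm⟩⟩

variable (u) in
def bMap {a a' : (Stk.sieveCat R).obj} (m : a ⟶ a') : bOf u a ⟶ bOf u a' :=
  ObjectProperty.homMk (Over.homMk (u.map m.hom.left) (by
    change u.map m.hom.left ≫ u.map a'.obj.hom = u.map a.obj.hom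
    rw [← u.map_comp, Over.w m.hom]))

/-- the tautological factorisation -/
def fcId (a : (Stk.sieveCat R).obj) : Fact u R (bOf u a).obj.hom := ⟨a, 𝟙 _, Category.id_comp _⟩

/-- the chart of the chosen object over `u V_a ⟶ u U` to the member `a` -/
def ξId (a : (Stk.sieveCat R).obj) : (chOf h𝒮 σ (bOf u a)).t ⟶ σ.F.obj a :=
  (chOf h𝒮 σ (bOf u a)).ξ (fcId a)

lemma ξId_map (a : (Stk.sieveCat R).obj) :
    𝒮.p.map (ξId h𝒮 σ a) = eqToHom (chOf h𝒮 σ (bOf u a)).ht ≫ (σ.j a).hom := by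
  have := (chOf h𝒮 σ (bOf u a)).ξ_map (fcId a)
  rw [ξId, this]
  simp [fcId]

instance ξId_isIso (a : (Stk.sieveCat R).obj) : IsIso (ξId h𝒮 σ a) := by
  apply isIso_of_map_isIso h𝒮
  rw [ξId_map]
  infer_instance

lemma ξId_nat {a a' : (Stk.sieveCat R).obj} (m : a ⟶ a') :
    mapOf h𝒮 σ (bMap u m) ≫ ξId h𝒮 σ a' = ξId h𝒮 σ a ≫ σ.F.map m := by
  rw [ξId, mapOf_fac, ξId]
  refine Eq.trans ?_ ((chOf h𝒮 σ (bOf u a)).ξ_nat (fcId a) m).symm
  exact ξ_congr _ ((Category.comp_id _).trans (Category.id_comp _).symm) _ _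

/-- the comparison of the section datum with its extension -/
def ε (a : (Stk.sieveCat R).obj) : σ.F.obj a ⟶ (ext h𝒮 σ).toFunctor.obj (bOf u a) :=
  inv (ξId h𝒮 σ a)

lemma ε_map (a : (Stk.sieveCat R).obj) :
    𝒮.p.map (ε h𝒮 σ a) = (σ.j a).inv ≫ eqToHom (chOf h𝒮 σ (bOf u a)).ht.symm := by
  rw [ε, Functor.map_inv]
  apply IsIso.inv_eq_of_hom_inv_id
  rw [ξId_map]
  simp

lemma ε_nat {a a' : (Stk.sieveCat R).obj} (m : a ⟶ a') :
    ε h𝒮 σ a ≫ (ext h𝒮 σ).toFunctor.map (bMap u m) = σ.F.map m ≫ ε h𝒮 σ a' := by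
  change inv (ξId h𝒮 σ a) ≫ mapOf h𝒮 σ (bMap u m) = σ.F.map m ≫ inv (ξId h𝒮 σ a')
  rw [IsIso.inv_comp_eq, ← Category.assoc, IsIso.eq_comp_inv, ξId_nat]

include h𝒮 in
/-- a section datum has a cone as soon as sections of `𝒮` over the pushforward sieve glue -/
theorem hexS (hE : (Stk.resSieve (R.functorPushforward u) 𝒮).EssSurj) :
    ∃ (s : 𝒮.obj) (i : u.obj U ≅ 𝒮.p.obj s), Nonempty (SCone σ s i) := by
  obtain ⟨B, hB, ⟨c⟩⟩ := exists_cone (R.functorPushforward u) hE (ext h𝒮 σ)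
  refine ⟨B, eqToIso hB.symm, ⟨?_⟩⟩
  have hθ : ∀ a : (Stk.sieveCat R).obj, 𝒮.p.map (c.θ (bOf u a)) =
      eqToHom (chOf h𝒮 σ (bOf u a)).ht ≫ u.map a.obj.hom ≫ eqToHom hB.symm := by
    intro a
    have hl := c.lift (bOf u a)
    exact IsHomLift.fac' 𝒮.p (bOf u a).obj.hom (c.θ (bOf u a))
  exact
    { θ := fun a => ε h𝒮 σ a ≫ c.θ (bOf u a)
      lift := fun a => by
        rw [𝒮.p.map_comp, ε_map, hθ]
        simp
      nat := fun {a a'} m => by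
        rw [← Category.assoc, ← ε_nat, Category.assoc, c.nat] }

end Ext

end Groth.Agent.Lib.Helper24.CatPbC
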