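import Groth.Agent.Lib.Helper24.CatPbC
import Groth.Agent.S12807
import Mathlib.CategoryTheory.Sites.CoverPreserving
set_option autoImplicit false
open CategoryTheory CategoryTheory.Limits
universe u v u₂ v₂ u₃ v₃
set_option backward.isDefEq.respectTransparency false
set_option backward.isDefEq.respectTransparency.types false

/-! # The base change of a stack along a functor of sites is a stack -/

noncomputable section

namespace Groth.Agent.Lib.Helper24.CatPbD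
open Groth.Agent.Lib.Helper24.CatPbA Groth.Agent.Lib.Helper24.CatPbB
open Groth.Agent.Lib.Helper24.CatPbC
open Groth.Agent.Lib.Helper24.StkRefine Groth.Agent.Lib.Helper24.StkCone
open Groth.Agent.Lib.Helper24.FibGrpd Groth.Agent.Lib.Helper24.FibCatRepDiag

variable {C : Type u} [Category.{v} C] {D : Type u₂} [Category.{v₂} D]
  (u : C ⥤ D) (𝒮 : BasedCategory.{v₃, u₃} D)

/-- the 2-fibre product `C ×_D 𝒮` as a category over `C` -/
abbrev Q : BasedCategory C := BasedCategory.ofFunctor (CategoricalPullback.π₁ u 𝒮.p)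

variable {u 𝒮}

theorem isFibGrpd_Q (h𝒮 : FibCat.IsFibGrpd 𝒮.p) : FibCat.IsFibGrpd (Q u 𝒮).p := by
  have : 𝒮.p.IsFibered := isFibered_of_isFibGrpd 𝒮.p h𝒮
  apply isFibGrpd_of_isFibered _ (Groth.Agent.S12807.result u 𝒮)
  intro V
  constructor
  intro x y φ
  have hl : (CategoricalPullback.π₁ u 𝒮.p).IsHomLift (𝟙 V) φ.1 := φ.2
  have h1 : IsIso φ.1.fst := by
    have := IsHomLift.fac' (CategoricalPullback.π₁ u 𝒮.p) (𝟙 V) φ.1
    change φ.1.fst = _ at this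
    rw [this]; infer_instance
  have h2 : IsIso φ.1.snd := by
    apply isIso_of_map_isIso h𝒮
    have w := φ.1.w
    have : 𝒮.p.map φ.1.snd = x.1.iso.inv ≫ u.map φ.1.fst ≫ y.1.iso.hom := by rw [w]; simp
    rw [this]; infer_instance
  have h3 : IsIso φ.1 := (CategoricalPullback.isIso_iff u 𝒮.p φ.1).mpr ⟨h1, h2⟩
  have hl' : (CategoricalPullback.π₁ u 𝒮.p).IsHomLift (𝟙 V) (inv φ.1) := inferInstance
  refine ⟨⟨⟨inv φ.1, hl'⟩, ?_, ?_⟩⟩
  · apply Functor.Fiber.hom_ext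
    exact IsIso.hom_inv_id φ.1
  · apply Functor.Fiber.hom_ext
    exact IsIso.inv_hom_id φ.1

variable {U : C} {R : Sieve U}

lemma map_fst (Ψ : Stk.sieveCat R ⥤ᵇ Q u 𝒮) {a a' : (Stk.sieveCat R).obj} (m : a ⟶ a') :
    (Ψ.toFunctor.map m).fst = eqToHom (Ψ.w_obj a) ≫ m.hom.left ≫ eqToHom (Ψ.w_obj a').symm := by
  have hm : (Stk.sieveCat R).p.IsHomLift m.hom.left m := sieveCat_lift m
  have hl : (Q u 𝒮).p.IsHomLift m.hom.left (Ψ.toFunctor.map m) := map_lift Ψ _ _ hm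
  exact IsHomLift.fac' (Q u 𝒮).p m.hom.left (Ψ.toFunctor.map m)

/-- the section datum of a section of `C ×_D 𝒮` over a sieve -/
def secOf (Ψ : Stk.sieveCat R ⥤ᵇ Q u 𝒮) : Sec u R 𝒮 where
  F := Ψ.toFunctor ⋙ CategoricalPullback.π₂ u 𝒮.p
  j a := u.mapIso (eqToIso (Ψ.w_obj a).symm) ≪≫ (Ψ.toFunctor.obj a).iso
  nat {a a'} m := by
    have w := (Ψ.toFunctor.map m).w
    simp only [Iso.trans_hom, Functor.mapIso_hom, eqToIso.hom, Functor.comp_map,
      CategoricalPullback.π₂_map, Category.assoc]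
    rw [← w, map_fst]
    simp only [eqToHom_map, Functor.map_comp, Category.assoc, eqToHom_trans_assoc, eqToHom_refl,
      Category.id_comp]

lemma secOf_j_hom (Ψ : Stk.sieveCat R ⥤ᵇ Q u 𝒮) (a : (Stk.sieveCat R).obj) :
    ((secOf Ψ).j a).hom = u.map (eqToHom (Ψ.w_obj a).symm) ≫ (Ψ.toFunctor.obj a).iso.hom := rfl

lemma θ_fst {Ψ : Stk.sieveCat R ⥤ᵇ Q u 𝒮} {A : (Q u 𝒮).obj} (c : Cone R Ψ A)
    (hA : (Q u 𝒮).p.obj A = U) (a : (Stk.sieveCat R).obj) :
    (c.θ a).fst = eqToHom (Ψ.w_obj a) ≫ a.obj.hom ≫ eqToHom hA.symm := by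
  have hl := c.lift a
  exact IsHomLift.fac' (Q u 𝒮).p a.obj.hom (c.θ a)

/-- the cone of the section datum defined by a cone in `C ×_D 𝒮` -/
def sconeOf {Ψ : Stk.sieveCat R ⥤ᵇ Q u 𝒮} {A : (Q u 𝒮).obj} (c : Cone R Ψ A)
    (hA : (Q u 𝒮).p.obj A = U) :
    SCone (secOf Ψ) A.snd (u.mapIso (eqToIso hA.symm) ≪≫ A.iso) where
  θ a := (c.θ a).snd
  lift a := by
    have w := (c.θ a).w
    rw [secOf_j_hom]
    simp only [Iso.trans_hom, Functor.mapIso_hom, eqToIso.hom, Category.assoc]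
    rw [← w, θ_fst c hA]
    simp only [eqToHom_map, Functor.map_comp, Category.assoc, eqToHom_trans_assoc, eqToHom_refl,
      Category.id_comp]
  nat {a b} m := congrArg (fun t => t.snd) (c.nat m)

section Desc
variable [HasPullbacks C] [PreservesLimitsOfShape WalkingCospan u]

/-- morphisms between vertices of cones in `C ×_D 𝒮` exist uniquely -/
theorem hdescQ (h𝒮 : FibCat.IsFibGrpd 𝒮.p)
    (hpre : ∀ {s : 𝒮.obj} (i : u.obj U ≅ 𝒮.p.obj s),
      Stk.IsPrestackFor ((R.functorPushforward u).pullback i.inv) 𝒮)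
    (Ψ : Stk.sieveCat R ⥤ᵇ Q u 𝒮) (A A' : (Q u 𝒮).obj) (c : Cone R Ψ A) (c' : Cone R Ψ A')
    (hA : (Q u 𝒮).p.obj A = U) (hA' : (Q u 𝒮).p.obj A' = U) :
    ∃! h : A ⟶ A', (Q u 𝒮).p.IsHomLift (𝟙 U) h ∧ ∀ a, c.θ a ≫ h = c'.θ a := by
  obtain ⟨h₂, ⟨hm, hθ⟩, huniq⟩ := hdescS h𝒮 (sconeOf c hA) (sconeOf c' hA') (hpre _)
  have hw : u.map (eqToHom (hA.trans hA'.symm)) ≫ A'.iso.hom = A.iso.hom ≫ 𝒮.p.map h₂ := by
    rw [hm]
    simp [eqToHom_map]
  let h : A ⟶ A' := ⟨eqToHom (hA.trans hA'.symm), h₂, hw⟩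
  have hl : (Q u 𝒮).p.IsHomLift (𝟙 U) h := by
    apply IsHomLift.of_fac' (Q u 𝒮).p _ _ hA hA'
    change eqToHom (hA.trans hA'.symm) = _
    simp
  refine ⟨h, ⟨hl, fun a => ?_⟩, ?_⟩
  · apply CategoricalPullback.hom_ext
    · change (c.θ a).fst ≫ eqToHom (hA.trans hA'.symm) = (c'.θ a).fst
      rw [θ_fst c hA, θ_fst c' hA']
      simp
    · exact hθ a
  · rintro h' ⟨hl', hθ'⟩
    have hf : h'.fst = eqToHom (hA.trans hA'.symm) := by
      have := IsHomLift.fac' (Q u 𝒮).p (𝟙 U) h'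
      change h'.fst = _ at this
      rw [this]; simp
    apply CategoricalPullback.hom_ext
    · exact hf
    · apply huniq
      refine ⟨?_, fun a => congrArg (fun t => t.snd) (hθ' a)⟩
      have w := h'.w
      rw [hf] at w
      have : 𝒮.p.map h'.snd = A.iso.inv ≫ u.map (eqToHom (hA.trans hA'.symm)) ≫ A'.iso.hom := by
        rw [w]; simp
      rw [this]
      simp [eqToHom_map]

/-- sections of `C ×_D 𝒮` over the sieve have cones -/
theorem hexQ (h𝒮 : FibCat.IsFibGrpd 𝒮.p)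
    (hE : (Stk.resSieve (R.functorPushforward u) 𝒮).EssSurj)
    (Ψ : Stk.sieveCat R ⥤ᵇ Q u 𝒮) :
    ∃ A : (Q u 𝒮).obj, (Q u 𝒮).p.obj A = U ∧ Nonempty (Cone R Ψ A) := by
  obtain ⟨s, i, ⟨sc⟩⟩ := hexS h𝒮 (secOf Ψ) hE
  let A : (Q u 𝒮).obj := ⟨U, s, i⟩
  refine ⟨A, rfl, ⟨?_⟩⟩
  have hw : ∀ a : (Stk.sieveCat R).obj,
      u.map (eqToHom (Ψ.w_obj a) ≫ a.obj.hom) ≫ i.hom =
        (Ψ.toFunctor.obj a).iso.hom ≫ 𝒮.p.map (sc.θ a) := by
    intro a
    have := sc.lift a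
    rw [secOf_j_hom, Category.assoc] at this
    rw [u.map_comp, Category.assoc, ← this]
    simp [eqToHom_map]
  exact
    { θ := fun a => ⟨eqToHom (Ψ.w_obj a) ≫ a.obj.hom, sc.θ a, hw a⟩
      lift := fun a => by
        apply IsHomLift.of_fac' (Q u 𝒮).p _ _ (Ψ.w_obj a) rfl
        change eqToHom (Ψ.w_obj a) ≫ a.obj.hom = _
        simp
      nat := fun {a b} m => by
        apply CategoricalPullback.hom_ext
        · change (Ψ.toFunctor.map m).fst ≫ eqToHom (Ψ.w_obj b) ≫ b.obj.hom =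
            eqToHom (Ψ.w_obj a) ≫ a.obj.hom
          rw [map_fst]
          simp only [Category.assoc, eqToHom_trans_assoc, eqToHom_refl, Category.id_comp]
          rw [Over.w m.hom]
        · exact sc.nat m }

/-- **Base change of stacks.** -/
theorem isStack_Q (J : GrothendieckTopology C) (K : GrothendieckTopology D)
    (hu : CoverPreserving J K u) (h𝒮 : Stk.IsStack K 𝒮) : Stk.IsStack J (Q u 𝒮) := by
  refine ⟨isFibGrpd_Q h𝒮.1, fun U R hR => ?_⟩
  have hR' : R.functorPushforward u ∈ K (u.obj U) := hu.cover_preserve hR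
  apply isStackFor_of_cones (isFibGrpd_Q h𝒮.1)
  · intro Ψ A A' c c' hA hA'
    refine hdescQ h𝒮.1 (fun {s} i => ?_) Ψ A A' c c' hA hA'
    have hE : (Stk.resSieve ((R.functorPushforward u).pullback i.inv) 𝒮).IsEquivalence :=
      h𝒮.2 _ (K.pullback_stable i.inv hR')
    exact ⟨hE.full, hE.faithful⟩
  · intro Ψ
    have hE : (Stk.resSieve (R.functorPushforward u) 𝒮).IsEquivalence := h𝒮.2 _ hR'
    exact hexQ h𝒮.1 hE.essSurj Ψ

end Desc

end Groth.Agent.Lib.Helper24.CatPbD
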