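import Groth.Prelude.Def_W4stkcategoriessitesFib

/-! Faithfulness / fullness / essential surjectivity of `FibCat.categoricalPullbackMap`. -/
set_option autoImplicit false
open CategoryTheory CategoryTheory.Limits

namespace Groth.Agent.Lib.Helper24.CatPullbackMap
universe u v u₁ v₁ u₂ v₂ u₃ v₃ u₄ v₄ u₅ v₅ u₆ v₆

section
variable {X : Type u₁} {Y : Type u₂} {Z : Type u₃} {A : Type u₄} {B : Type u₅} {C : Type u₆}
  [Category.{v₁} X] [Category.{v₂} Y] [Category.{v₃} Z] [Category.{v₄} A] [Category.{v₅} B]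
  [Category.{v₆} C] {H : X ⥤ Z} {I : Y ⥤ Z} {F : A ⥤ C} {G : B ⥤ C}
  (ψ : CatCospanTransform H I F G)

lemma cpm_obj_fst (P : CategoricalPullback H I) :
    ((FibCat.categoricalPullbackMap ψ).obj P).fst = ψ.left.obj P.fst := rfl
lemma cpm_obj_snd (P : CategoricalPullback H I) :
    ((FibCat.categoricalPullbackMap ψ).obj P).snd = ψ.right.obj P.snd := rfl
lemma cpm_obj_iso_hom (P : CategoricalPullback H I) :
    ((FibCat.categoricalPullbackMap ψ).obj P).iso.hom =
      ψ.squareLeft.iso.inv.app P.fst ≫ ψ.base.map P.iso.hom ≫ ψ.squareRight.iso.hom.app P.snd := by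
  simp [FibCat.categoricalPullbackMap]
  rfl
lemma cpm_map_fst {P Q : CategoricalPullback H I} (f : P ⟶ Q) :
    ((FibCat.categoricalPullbackMap ψ).map f).fst = ψ.left.map f.fst := rfl
lemma cpm_map_snd {P Q : CategoricalPullback H I} (f : P ⟶ Q) :
    ((FibCat.categoricalPullbackMap ψ).map f).snd = ψ.right.map f.snd := rfl
end

section
variable {X : Type u₁} {Y : Type u₂} {Z : Type u₃} {A : Type u₄} {B : Type u₅} {C : Type u₆}
  [Category.{v₁} X] [Category.{v₂} Y] [Category.{v₃} Z] [Category.{v₄} A] [Category.{v₅} B]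
  [Category.{v₆} C] {H : X ⥤ Z} {I : Y ⥤ Z} {F : A ⥤ C} {G : B ⥤ C}
  (ψ : CatCospanTransform H I F G)

theorem cpm_faithful [ψ.left.Faithful] [ψ.right.Faithful] :
    (FibCat.categoricalPullbackMap ψ).Faithful := by
  constructor
  intro P Q f g h
  apply CategoricalPullback.hom_ext
  · apply ψ.left.map_injective
    exact congrArg (fun t => t.fst) h
  · apply ψ.right.map_injective
    exact congrArg (fun t => t.snd) h

/-- compatibility of a pair of morphisms, detected after applying `ψ` -/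
lemma cpm_w_iff' [ψ.base.Faithful] {P Q : CategoricalPullback H I} (a : P.fst ⟶ Q.fst)
    (b : P.snd ⟶ Q.snd) :
    H.map a ≫ Q.iso.hom = P.iso.hom ≫ I.map b ↔
      F.map (ψ.left.map a) ≫ (ψ.squareLeft.iso.inv.app Q.fst ≫ ψ.base.map Q.iso.hom ≫
          ψ.squareRight.iso.hom.app Q.snd) =
        (ψ.squareLeft.iso.inv.app P.fst ≫ ψ.base.map P.iso.hom ≫
          ψ.squareRight.iso.hom.app P.snd) ≫ G.map (ψ.right.map b) := by
  have n1 := ψ.squareLeft.iso.inv.naturality a
  have n2 := ψ.squareRight.iso.hom.naturality b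
  simp only [Functor.comp_map] at n1 n2
  simp only [Category.assoc]
  rw [reassoc_of% n1, ← n2, cancel_epi, ← Category.assoc, ← Category.assoc (ψ.base.map P.iso.hom),
    cancel_mono, ← Functor.map_comp, ← Functor.map_comp]
  constructor
  · intro h; rw [h]
  · intro h; exact ψ.base.map_injective h

lemma cpm_w_iff [ψ.base.Faithful] {P Q : CategoricalPullback H I} (a : P.fst ⟶ Q.fst)
    (b : P.snd ⟶ Q.snd) :
    H.map a ≫ Q.iso.hom = P.iso.hom ≫ I.map b ↔
      F.map (ψ.left.map a) ≫ ((FibCat.categoricalPullbackMap ψ).obj Q).iso.hom =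
        ((FibCat.categoricalPullbackMap ψ).obj P).iso.hom ≫ G.map (ψ.right.map b) := by
  rw [cpm_w_iff' ψ]
  have h1 := cpm_obj_iso_hom ψ P
  have h2 := cpm_obj_iso_hom ψ Q
  constructor
  · intro h
    refine Eq.trans ?_ (h.trans ?_)
    · exact congrArg (fun t => F.map (ψ.left.map a) ≫ t) h2
    · exact congrArg (fun t => t ≫ G.map (ψ.right.map b)) h1.symm
  · intro h
    refine Eq.trans ?_ (h.trans ?_)
    · exact congrArg (fun t => F.map (ψ.left.map a) ≫ t) h2.symm
    · exact congrArg (fun t => t ≫ G.map (ψ.right.map b)) h1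

theorem cpm_full [ψ.left.Full] [ψ.right.Full] [ψ.base.Faithful] :
    (FibCat.categoricalPullbackMap ψ).Full := by
  constructor
  intro P Q m
  obtain ⟨a, ha⟩ : ∃ a : P.fst ⟶ Q.fst, ψ.left.map a = m.fst := ψ.left.map_surjective m.fst
  obtain ⟨b, hb⟩ : ∃ b : P.snd ⟶ Q.snd, ψ.right.map b = m.snd := ψ.right.map_surjective m.snd
  have hw : H.map a ≫ Q.iso.hom = P.iso.hom ≫ I.map b := by
    rw [cpm_w_iff ψ]
    have w := m.w
    have e1 : F.map (ψ.left.map a) = F.map m.fst := congrArg (fun t => F.map t) ha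
    have e2 : G.map (ψ.right.map b) = G.map m.snd := congrArg (fun t => G.map t) hb
    exact (congrArg (fun t => t ≫ ((FibCat.categoricalPullbackMap ψ).obj Q).iso.hom) e1).trans
      (w.trans (congrArg (fun t => ((FibCat.categoricalPullbackMap ψ).obj P).iso.hom ≫ t) e2.symm))
  refine ⟨⟨a, b, hw⟩, ?_⟩
  apply CategoricalPullback.hom_ext
  · exact ha
  · exact hb

end

section
variable {X : Type u₁} {Y : Type u₂} {Z : Type u₃} {A : Type u₄} {B : Type u₅} {C : Type u₆}
  [Category.{v₁} X] [Category.{v₂} Y] [Category.{v₃} Z] [Category.{v₄} A] [Category.{v₅} B]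
  [Category.{v₆} C] {H : X ⥤ Z} {I : Y ⥤ Z} {F : A ⥤ C} {G : B ⥤ C}
  (ψ : CatCospanTransform H I F G)

theorem cpm_essSurj [ψ.left.EssSurj] [ψ.right.EssSurj] [ψ.base.Full] [ψ.base.Faithful] :
    (FibCat.categoricalPullbackMap ψ).EssSurj := by
  constructor
  intro T
  let x := ψ.left.objPreimage T.fst
  let ea : ψ.left.obj x ≅ T.fst := ψ.left.objObjPreimageIso T.fst
  let y := ψ.right.objPreimage T.snd
  let eb : ψ.right.obj y ≅ T.snd := ψ.right.objObjPreimageIso T.snd
  let κ : ψ.base.obj (H.obj x) ≅ ψ.base.obj (I.obj y) :=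
    ψ.squareLeft.iso.app x ≪≫ F.mapIso ea ≪≫ T.iso ≪≫ G.mapIso eb.symm ≪≫
      (ψ.squareRight.iso.app y).symm
  let φ : H.obj x ≅ I.obj y := ψ.base.preimageIso κ
  let P : CategoricalPullback H I := ⟨x, y, φ⟩
  have hP : ((FibCat.categoricalPullbackMap ψ).obj P).iso.hom =
      F.map ea.hom ≫ T.iso.hom ≫ G.map eb.inv := by
    rw [cpm_obj_iso_hom]
    show ψ.squareLeft.iso.inv.app x ≫ ψ.base.map φ.hom ≫ ψ.squareRight.iso.hom.app y = _
    simp [φ, κ]
  refine ⟨P, ⟨CategoricalPullback.mkIso (x := (FibCat.categoricalPullbackMap ψ).obj P) (y := T)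
    ea eb ?_⟩⟩
  have hw : F.map ea.hom ≫ T.iso.hom = (F.map ea.hom ≫ T.iso.hom ≫ G.map eb.inv) ≫ G.map eb.hom := by
    simp only [Category.assoc, ← Functor.map_comp, Iso.inv_hom_id, Functor.map_id, Category.comp_id]
  exact hw.trans (congrArg (fun t => t ≫ G.map eb.hom) hP.symm)

end

end Groth.Agent.Lib.Helper24.CatPullbackMap
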