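import Mathlib

set_option backward.isDefEq.respectTransparency false
set_option backward.isDefEq.respectTransparency.types false
set_option autoImplicit false

universe u

open CategoryTheory CategoryTheory.Limits Opposite Simplicial SimplexCategory

namespace Groth.Agent.Lib.Helper24.CechKan

variable {A B : Type u} (f : A ⟶ B)

/-- The Čech nerve. -/
noncomputable abbrev N : SSet.{u} := (Arrow.mk f).cechNerve

/-- The augmentation. -/
noncomputable abbrev aug : N f ⟶ (SimplicialObject.const (Type u)).obj B :=
  (Arrow.mk f).augmentedCechNerve.hom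

/-- The projections. -/
noncomputable def pj (m : SimplexCategory) (i : Fin (m.len + 1)) : (N f).obj (op m) ⟶ A :=
  WidePullback.π (fun _ : Fin (m.len + 1) => (Arrow.mk f).hom) i

/-- The base map. -/
noncomputable def bs (m : SimplexCategory) : (N f).obj (op m) ⟶ B :=
  WidePullback.base (fun _ : Fin (m.len + 1) => (Arrow.mk f).hom)

theorem aug_app (m : SimplexCategory) : (aug f).app (op m) = bs f m := rfl

theorem ext_N (m : SimplexCategory) (x y : (N f).obj (op m)) (h0 : bs f m x = bs f m y)
    (h : ∀ i, pj f m i x = pj f m i y) : x = y :=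
  Concrete.widePullback_ext (fun _ : Fin (m.len + 1) => (Arrow.mk f).hom) x y h0 h

theorem map_pj {m m' : SimplexCategory} (θ : m' ⟶ m) (i : Fin (m'.len + 1)) (x : (N f).obj (op m)) :
    pj f m' i ((N f).map θ.op x) = pj f m (θ.toOrderHom i) x := by
  have h : (N f).map θ.op ≫ pj f m' i = pj f m (θ.toOrderHom i) := by
    unfold pj
    exact WidePullback.lift_π _ _ _ _ _
  exact ConcreteCategory.congr_hom h x

theorem map_bs {m m' : SimplexCategory} (θ : m' ⟶ m) (x : (N f).obj (op m)) :
    bs f m' ((N f).map θ.op x) = bs f m x := by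
  have h : (N f).map θ.op ≫ bs f m' = bs f m := by
    unfold bs
    exact WidePullback.lift_base _ _ _ _
  exact ConcreteCategory.congr_hom h x

/-- Construct a simplex of the Čech nerve. -/
noncomputable def mkN (m : SimplexCategory) (b : B) (a : Fin (m.len + 1) → A)
    (h : ∀ i, f (a i) = b) : (N f).obj (op m) :=
  (WidePullback.lift (f := ↾fun _ : PUnit.{u + 1} => b) (fun i => ↾fun _ => a i) (by
    intro i
    ext
    exact h i) : PUnit.{u + 1} ⟶ (N f).obj (op m)) PUnit.unit

theorem pj_mkN (m : SimplexCategory) (b : B) (a : Fin (m.len + 1) → A)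
    (h : ∀ i, f (a i) = b) (i : Fin (m.len + 1)) : pj f m i (mkN f m b a h) = a i := by
  unfold mkN pj
  have h' := WidePullback.lift_π (f := ↾fun _ : PUnit.{u + 1} => b)
    (fun i => ↾fun _ : PUnit.{u + 1} => a i) (arrows := fun _ : Fin (m.len + 1) => (Arrow.mk f).hom)
    (by intro i; ext; exact h i) i
  exact ConcreteCategory.congr_hom h' PUnit.unit

theorem bs_mkN (m : SimplexCategory) (b : B) (a : Fin (m.len + 1) → A)
    (h : ∀ i, f (a i) = b) : bs f m (mkN f m b a h) = b := by
  unfold mkN bs
  have h' := WidePullback.lift_base (f := ↾fun _ : PUnit.{u + 1} => b)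
    (fun i => ↾fun _ : PUnit.{u + 1} => a i) (arrows := fun _ : Fin (m.len + 1) => (Arrow.mk f).hom)
    (by intro i; ext; exact h i)
  exact ConcreteCategory.congr_hom h' PUnit.unit

theorem pj_bs (m : SimplexCategory) (i : Fin (m.len + 1)) (x : (N f).obj (op m)) :
    f (pj f m i x) = bs f m x := by
  have h : pj f m i ≫ f = bs f m := by
    unfold pj bs
    exact WidePullback.π_arrow _ _
  exact ConcreteCategory.congr_hom h x

end Groth.Agent.Lib.Helper24.CechKan
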