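import Mathlib
import Groth.Agent.Lib.Helper24.CechKanA

set_option backward.isDefEq.respectTransparency false
set_option backward.isDefEq.respectTransparency.types false
set_option autoImplicit false

universe u

open CategoryTheory CategoryTheory.Limits Opposite Simplicial SimplexCategory

namespace Groth.Agent.Lib.Helper24.CechKan

variable {A B : Type u} (f : A ⟶ B) {n : ℕ}

/-- The identity simplex. -/
def idn (n : ℕ) : (Δ[n] : SSet.{u}).obj (op ⦋n⦌) := SSet.stdSimplex.objEquiv.symm (𝟙 _)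

/-- The vertices. -/
def vtx (k : Fin (n + 1)) : (Δ[n] : SSet.{u}).obj (op ⦋0⦌) :=
  SSet.stdSimplex.objEquiv.symm (SimplexCategory.const ⦋0⦌ ⦋n⦌ k)

theorem map_idn (m : SimplexCategory) (s : (Δ[n] : SSet.{u}).obj (op m)) :
    (Δ[n] : SSet.{u}).map (SSet.stdSimplex.objEquiv s).op (idn n) = s := by
  apply SSet.stdSimplex.objEquiv.injective
  change SSet.stdSimplex.objEquiv s ≫ 𝟙 _ = _
  rw [Category.comp_id]

theorem map_vtx (m : SimplexCategory) (s : (Δ[n] : SSet.{u}).obj (op m)) (i : Fin (m.len + 1)) :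
    (Δ[n] : SSet.{u}).map (SimplexCategory.const ⦋0⦌ m i).op s =
      vtx ((SSet.stdSimplex.objEquiv s).toOrderHom i) := by
  apply SSet.stdSimplex.objEquiv.injective
  change SimplexCategory.const ⦋0⦌ m i ≫ SSet.stdSimplex.objEquiv s = _
  unfold vtx
  rw [Equiv.apply_symm_apply]
  exact SimplexCategory.const_comp _ _ _

theorem bottom_const (bottom : (Δ[n] : SSet.{u}) ⟶ (SimplicialObject.const (Type u)).obj B)
    (m : SimplexCategory) (s : (Δ[n] : SSet.{u}).obj (op m)) :
    bottom.app (op m) s = bottom.app (op ⦋n⦌) (idn n) := by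
  have h := ConcreteCategory.congr_hom (bottom.naturality (SSet.stdSimplex.objEquiv s).op) (idn n)
  have h' : bottom.app (op m) ((Δ[n] : SSet.{u}).map (SSet.stdSimplex.objEquiv s).op (idn n)) =
      bottom.app (op ⦋n⦌) (idn n) := h
  rw [map_idn] at h'
  exact h'

theorem hasLift (hf : Function.Surjective f) (top : (∂Δ[n] : SSet.{u}) ⟶ N f)
    (bottom : (Δ[n] : SSet.{u}) ⟶ (SimplicialObject.const (Type u)).obj B)
    (sq : CommSq top (∂Δ[n] : (Δ[n] : SSet.{u}).Subcomplex).ι (aug f) bottom) : sq.HasLift := by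
  let b : B := bottom.app (op ⦋n⦌) (idn n)
  -- the square, evaluated
  have hsq : ∀ (m : SimplexCategory) (s : (∂Δ[n] : SSet.{u}).obj (op m)),
      bs f m (top.app (op m) s) = b := by
    intro m s
    have h := ConcreteCategory.congr_hom (congr_app sq.w (op m)) s
    have h' : bs f m (top.app (op m) s) = bottom.app (op m) s.1 := h
    rw [h', bottom_const]
  have ha : ∀ k : Fin (n + 1), ∃ a : A, f a = b ∧
      ∀ hv : vtx k ∈ (∂Δ[n] : (Δ[n] : SSet.{u}).Subcomplex).obj (op ⦋0⦌),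
        pj f ⦋0⦌ 0 (top.app (op ⦋0⦌) ⟨vtx k, hv⟩) = a := by
    intro k
    by_cases hv : vtx k ∈ (∂Δ[n] : (Δ[n] : SSet.{u}).Subcomplex).obj (op ⦋0⦌)
    · refine ⟨pj f ⦋0⦌ 0 (top.app (op ⦋0⦌) ⟨vtx k, hv⟩), ?_, fun _ => rfl⟩
      rw [pj_bs, hsq]
    · obtain ⟨a, ha⟩ := hf b
      exact ⟨a, ha, fun hv' => absurd hv' hv⟩
  choose a ha1 ha2 using ha
  let x : (N f).obj (op ⦋n⦌) := mkN f ⦋n⦌ b a ha1
  have fac_right : SSet.yonedaEquiv.symm x ≫ aug f = bottom := by
    rw [SSet.yonedaEquiv_symm_comp]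
    apply SSet.yonedaEquiv.symm_apply_eq.2
    change bs f ⦋n⦌ x = _
    rw [bs_mkN]
    rfl
  refine ⟨⟨{ l := SSet.yonedaEquiv.symm x, fac_left := ?_, fac_right := fac_right }⟩⟩
  ext m s
  induction m using Opposite.rec with
  | op m =>
  have e0 : ((∂Δ[n] : (Δ[n] : SSet.{u}).Subcomplex).ι ≫ SSet.yonedaEquiv.symm x).app (op m) s =
      (N f).map (SSet.stdSimplex.objEquiv s.1).op x := rfl
  have goal : (N f).map (SSet.stdSimplex.objEquiv s.1).op x = top.app (op m) s := by
    apply ext_N f m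
    · rw [map_bs, hsq, bs_mkN]
    · intro i
      rw [map_pj, pj_mkN]
      have e1 : pj f m i (top.app (op m) s) =
          pj f ⦋0⦌ 0 ((N f).map (SimplexCategory.const ⦋0⦌ m i).op (top.app (op m) s)) := by
        rw [map_pj]
        rfl
      have e2 : (N f).map (SimplexCategory.const ⦋0⦌ m i).op (top.app (op m) s) =
          top.app (op ⦋0⦌) ((∂Δ[n] : SSet.{u}).map (SimplexCategory.const ⦋0⦌ m i).op s) :=
        (ConcreteCategory.congr_hom (top.naturality (SimplexCategory.const ⦋0⦌ m i).op) s).symm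
      have hv : vtx ((SSet.stdSimplex.objEquiv s.1).toOrderHom i) ∈
          (∂Δ[n] : (Δ[n] : SSet.{u}).Subcomplex).obj (op ⦋0⦌) := by
        rw [← map_vtx]
        exact ((∂Δ[n] : SSet.{u}).map (SimplexCategory.const ⦋0⦌ m i).op s).2
      have e3 : (∂Δ[n] : SSet.{u}).map (SimplexCategory.const ⦋0⦌ m i).op s =
          ⟨vtx ((SSet.stdSimplex.objEquiv s.1).toOrderHom i), hv⟩ := by
        apply Subtype.ext
        exact map_vtx m s.1 i
      rw [e1, e2, e3, ha2]

  exact e0.trans goal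

end Groth.Agent.Lib.Helper24.CechKan
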