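import Groth.Prelude.Def_FibClv
set_option autoImplicit false
open CategoryTheory CategoryTheory.Functor
universe v₁ v₂ u₁ u₂
set_option backward.isDefEq.respectTransparency false
set_option backward.isDefEq.respectTransparency.types false

namespace Groth.Agent.Lib.Helper24.Clv

variable {𝒮 : Type u₁} {𝒳 : Type u₂} [Category.{v₁} 𝒮] [Category.{v₂} 𝒳] {p : 𝒳 ⥤ 𝒮}
  (K : FibCat.Cleavage p)

lemma congr_lift {R S : 𝒮} {f f' : R ⟶ S} (h : f = f') (a : p.Fiber S) :
    Fiber.fiberInclusion.map ((K.inverseImageCongr h).hom.app a) ≫ K.lift a.2 f' = K.lift a.2 f := by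
  subst h
  simp [FibCat.Cleavage.inverseImageCongr]

lemma comp_fac {R S T : 𝒮} (f : T ⟶ S) (g : R ⟶ T) (a : p.Fiber S) :
    Fiber.fiberInclusion.map ((K.comp f g).app a) ≫ K.lift a.2 (g ≫ f) =
      K.lift (K.obj_proj a.2 f) g ≫ K.lift a.2 f := by
  rw [K.comp_app]
  exact IsCartesian.fac p (g ≫ f) (K.lift a.2 (g ≫ f)) _

lemma map_fac {R S : 𝒮} (f : R ⟶ S) {a b : p.Fiber S} (φ : a ⟶ b) :
    Fiber.fiberInclusion.map ((K.inverseImage f).map φ) ≫ K.lift b.2 f =
      K.lift a.2 f ≫ Fiber.fiberInclusion.map φ := by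
  rw [K.inverseImage_map]
  exact IsCartesian.fac p f (K.lift b.2 f) _

/-- Two morphisms of the fibre over `R` into `f^* a` agree when they agree after the chosen lift. -/
lemma fiber_hom_ext {R S : 𝒮} (f : R ⟶ S) (a : p.Fiber S) {b : p.Fiber R}
    (φ ψ : b ⟶ (K.inverseImage f).obj a)
    (h : Fiber.fiberInclusion.map φ ≫ K.lift a.2 f = Fiber.fiberInclusion.map ψ ≫ K.lift a.2 f) :
    φ = ψ := by
  apply Fiber.hom_ext
  have h1 : p.IsHomLift (𝟙 R) (Fiber.fiberInclusion.map φ) := φ.2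
  have h2 : p.IsHomLift (𝟙 R) (Fiber.fiberInclusion.map ψ) := ψ.2
  exact IsCartesian.ext p f (K.lift a.2 f) _ _ h

end Groth.Agent.Lib.Helper24.Clv
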