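import Groth.Prelude.Def_FibClv
import Mathlib.CategoryTheory.Bicategory.Functor.LocallyDiscrete
import Mathlib.CategoryTheory.FiberedCategory.Grothendieck
import Groth.Agent.Lib.Helper24.Cleavage
import Mathlib.CategoryTheory.IsoCat
set_option autoImplicit false
open CategoryTheory CategoryTheory.Functor
universe v₁ v₂ u₁ u₂
set_option backward.isDefEq.respectTransparency false
set_option backward.isDefEq.respectTransparency.types false
open Groth.Agent.Lib.Helper24.Clv Opposite

namespace Groth.Agent.Lib.Helper24.ClvSplit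

section
variable {𝒮 : Type u₁} {𝒳 : Type u₂} [Category.{v₁} 𝒮] [Category.{v₂} 𝒳] {p : 𝒳 ⥤ 𝒮}
  (K : FibCat.Cleavage p)

lemma comp_fac' {R S T : 𝒮} (f : T ⟶ S) (g : R ⟶ T) (a : p.Fiber S) :
    Fiber.fiberInclusion.map ((K.comp f g).app a) ≫ (K.transport (g ≫ f)).app a =
      (K.transport g).app ((K.inverseImage f).obj a) ≫ (K.transport f).app a :=
  comp_fac K f g a

lemma map_fac' {R S : 𝒮} (f : R ⟶ S) {a b : p.Fiber S} (φ : a ⟶ b) :
    Fiber.fiberInclusion.map ((K.inverseImage f).map φ) ≫ (K.transport f).app b =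
      (K.transport f).app a ≫ Fiber.fiberInclusion.map φ :=
  (K.transport f).naturality φ

lemma fiber_hom_ext' {R S : 𝒮} (f : R ⟶ S) (a : p.Fiber S) {b : p.Fiber R}
    (φ ψ : b ⟶ (K.inverseImage f).obj a)
    (h : Fiber.fiberInclusion.map φ ≫ (K.transport f).app a =
      Fiber.fiberInclusion.map ψ ≫ (K.transport f).app a) :
    φ = ψ := fiber_hom_ext K f a φ ψ h

lemma inverseImage_id_obj (hK : K.IsNormalised) {S : 𝒮} (a : p.Fiber S) :
    (K.inverseImage (𝟙 S)).obj a = a := by
  obtain ⟨h, h'⟩ := hK a.2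
  exact Fiber.fiberInclusion_obj_inj h

lemma lift_id_eq (hK : K.IsNormalised) {S : 𝒮} (a : p.Fiber S) :
    (K.transport (𝟙 S)).app a = Fiber.fiberInclusion.map (eqToHom (inverseImage_id_obj K hK a)) := by
  obtain ⟨h, h'⟩ := hK a.2
  rw [eqToHom_map]
  exact h'

lemma inverseImage_id (hK : K.IsNormalised) (S : 𝒮) : K.inverseImage (𝟙 S) = 𝟭 (p.Fiber S) := by
  refine CategoryTheory.Functor.ext (fun a => inverseImage_id_obj K hK a) (fun a b φ => ?_)
  apply fiber_hom_ext' K (𝟙 S) b
  rw [map_fac', lift_id_eq K hK a, lift_id_eq K hK b]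
  simp only [← Functor.map_comp]
  congr 1
  simp

lemma inverseImage_comp_obj (hK : K.IsSplitting) {S T U : 𝒮} (f : T ⟶ S) (g : U ⟶ T) (a : p.Fiber S) :
    (K.inverseImage g).obj ((K.inverseImage f).obj a) = (K.inverseImage (g ≫ f)).obj a := by
  obtain ⟨h, h'⟩ := hK.2 f g a.2
  exact Fiber.fiberInclusion_obj_inj h

lemma lift_comp_eq (hK : K.IsSplitting) {S T U : 𝒮} (f : T ⟶ S) (g : U ⟶ T) (a : p.Fiber S) :
      (K.transport g).app ((K.inverseImage f).obj a) ≫ (K.transport f).app a =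
        Fiber.fiberInclusion.map (eqToHom (inverseImage_comp_obj K hK f g a)) ≫
          (K.transport (g ≫ f)).app a := by
  obtain ⟨h, h'⟩ := hK.2 f g a.2
  rw [eqToHom_map]
  exact h'

lemma lift_comp_eq' (hK : K.IsSplitting) {S T U : 𝒮} (f : T ⟶ S) (g : U ⟶ T) (a : p.Fiber S) :
    (K.transport (g ≫ f)).app a =
      Fiber.fiberInclusion.map (eqToHom (inverseImage_comp_obj K hK f g a).symm) ≫
      (K.transport g).app ((K.inverseImage f).obj a) ≫ (K.transport f).app a := by
  rw [lift_comp_eq K hK f g a, ← Category.assoc, ← Functor.map_comp]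
  simp

lemma inverseImage_comp (hK : K.IsSplitting) {S T U : 𝒮} (f : T ⟶ S) (g : U ⟶ T) :
    K.inverseImage (g ≫ f) = K.inverseImage f ⋙ K.inverseImage g := by
  refine CategoryTheory.Functor.ext (fun a => (inverseImage_comp_obj K hK f g a).symm) (fun a b φ => ?_)
  apply fiber_hom_ext' K (g ≫ f) b
  rw [map_fac']
  simp only [Functor.map_comp, Category.assoc, Functor.comp_map]
  rw [lift_comp_eq' K hK f g a, lift_comp_eq' K hK f g b]
  simp only [Category.assoc]
  congr 1
  rw [← Category.assoc (Fiber.fiberInclusion.map (eqToHom _)) (Fiber.fiberInclusion.map (eqToHom _)), ← Functor.map_comp, eqToHom_trans, eqToHom_refl, Functor.map_id, Category.id_comp]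
  rw [reassoc_of% (map_fac' K g ((K.inverseImage f).map φ)), map_fac']

end

section
variable {𝒮 : Type u₁} {𝒳 : Type u₂} [Category.{v₁} 𝒮] [Category.{v₂} 𝒳] {p : 𝒳 ⥤ 𝒮}
  (K : FibCat.Cleavage p) (hK : K.IsSplitting)

/-- the strict functor of fibres of a split cleavage -/
noncomputable def splitF : 𝒮ᵒᵖ ⥤ Cat.{v₂, u₂} where
  obj S := Cat.of (p.Fiber S.unop)
  map f := (K.inverseImage f.unop).toCatHom
  map_id S := by
    have := inverseImage_id K hK.1 S.unop
    exact congrArg Functor.toCatHom this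
  map_comp f g := by
    have := inverseImage_comp K hK f.unop g.unop
    exact congrArg Functor.toCatHom this

open Pseudofunctor CoGrothendieck

abbrev Tot := ∫ᶜ (splitF K hK).toPseudofunctor'

noncomputable def fib (X : Tot K hK) : p.Fiber X.base := X.fiber

noncomputable def fibHom {X Y : Tot K hK} (f : X ⟶ Y) :
    fib K hK X ⟶ (K.inverseImage f.base).obj (fib K hK Y) := f.fiber

end

section
variable {𝒮 : Type u₁} {𝒳 : Type u₂} [Category.{v₁} 𝒮] [Category.{v₂} 𝒳] {p : 𝒳 ⥤ 𝒮}
  (K : FibCat.Cleavage p) (hK : K.IsSplitting)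
open Pseudofunctor CoGrothendieck

lemma fibHom_id (X : Tot K hK) :
    fibHom K hK (𝟙 X) = eqToHom (inverseImage_id_obj K hK.1 (fib K hK X)).symm := by
  unfold fibHom
  simp

lemma fibHom_comp {X Y Z : Tot K hK} (f : X ⟶ Y) (g : Y ⟶ Z) :
    fibHom K hK (f ≫ g) = fibHom K hK f ≫ (K.inverseImage f.base).map (fibHom K hK g) ≫
      eqToHom (inverseImage_comp_obj K hK g.base f.base (fib K hK Z)) := by
  unfold fibHom
  simp
  rfl

noncomputable def PsiF : Tot K hK ⥤ 𝒳 where
  obj X := Fiber.fiberInclusion.obj (fib K hK X)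
  map {X Y} f := Fiber.fiberInclusion.map (fibHom K hK f) ≫ (K.transport f.base).app (fib K hK Y)
  map_id X := by
    rw [fibHom_id]
    change _ ≫ (K.transport (𝟙 X.base)).app (fib K hK X) = _
    rw [lift_id_eq K hK.1, ← Functor.map_comp, eqToHom_trans, eqToHom_refl, Functor.map_id]
  map_comp {X Y Z} f g := by
    rw [fibHom_comp]
    change _ ≫ (K.transport (f.base ≫ g.base)).app (fib K hK Z) = _
    rw [lift_comp_eq' K hK g.base f.base]
    simp only [Functor.map_comp, Category.assoc]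
    rw [← Category.assoc (Fiber.fiberInclusion.map (eqToHom _)) (Fiber.fiberInclusion.map (eqToHom _)), ← Functor.map_comp, eqToHom_trans, eqToHom_refl, Functor.map_id, Category.id_comp]
    rw [reassoc_of% (map_fac' K f.base (fibHom K hK g))]

end

section
variable {𝒮 : Type u₁} {𝒳 : Type u₂} [Category.{v₁} 𝒮] [Category.{v₂} 𝒳] {p : 𝒳 ⥤ 𝒮}
  (K : FibCat.Cleavage p) (hK : K.IsSplitting)
open Pseudofunctor CoGrothendieck

lemma base_unique {R S : 𝒮} {a b : 𝒳} (f f' : R ⟶ S) (φ : a ⟶ b) [p.IsHomLift f φ]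
    [p.IsHomLift f' φ] : f = f' := by
  rw [IsHomLift.fac p f φ, IsHomLift.fac p f' φ]

instance isHomLift_PsiF_map {X Y : Tot K hK} (f : X ⟶ Y) :
    p.IsHomLift f.base ((PsiF K hK).map f) := by
  have h1 : p.IsHomLift (𝟙 X.base) (Fiber.fiberInclusion.map (fibHom K hK f)) := (fibHom K hK f).2
  have h2 : p.IsHomLift f.base ((K.transport f.base).app (fib K hK Y)) :=
    (K.isCartesian (fib K hK Y).2 f.base).toIsHomLift
  change p.IsHomLift f.base (Fiber.fiberInclusion.map (fibHom K hK f) ≫ (K.transport f.base).app (fib K hK Y))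
  infer_instance

lemma PsiF_comp_p : PsiF K hK ⋙ p = forget _ := by
  refine CategoryTheory.Functor.ext (fun X => (fib K hK X).2) (fun X Y f => ?_)
  exact IsHomLift.fac' p f.base ((PsiF K hK).map f)

lemma PsiF_map_mk {X Y : Tot K hK} (f : X.base ⟶ Y.base)
    (χ : fib K hK X ⟶ (K.inverseImage f).obj (fib K hK Y)) :
    (PsiF K hK).map (⟨f, χ⟩ : X ⟶ Y) = Fiber.fiberInclusion.map χ ≫ (K.transport f).app (fib K hK Y) := rfl

instance : (PsiF K hK).Faithful := by
  constructor
  intro X Y f g h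
  have hg : p.IsHomLift g.base ((PsiF K hK).map f) := by rw [h]; infer_instance
  have hb : f.base = g.base := base_unique (p := p) f.base g.base ((PsiF K hK).map f)
  obtain ⟨fb, fχ⟩ := f
  obtain ⟨gb, gχ⟩ := g
  change fb = gb at hb
  subst hb
  congr 1
  exact fiber_hom_ext' K fb (fib K hK Y) fχ gχ h

end

section
variable {𝒮 : Type u₁} {𝒳 : Type u₂} [Category.{v₁} 𝒮] [Category.{v₂} 𝒳] {p : 𝒳 ⥤ 𝒮}
  (K : FibCat.Cleavage p) (hK : K.IsSplitting)
open Pseudofunctor CoGrothendieck

instance : (PsiF K hK).Full := by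
  constructor
  intro X Y φ
  let f : X.base ⟶ Y.base := eqToHom (fib K hK X).2.symm ≫ p.map φ ≫ eqToHom (fib K hK Y).2
  have hφ : p.IsHomLift f φ := IsHomLift.of_fac p f φ (fib K hK X).2 (fib K hK Y).2 rfl
  let χ₀ := IsCartesian.map p f (K.lift (fib K hK Y).2 f) φ
  have hχ₀ : χ₀ ≫ K.lift (fib K hK Y).2 f = φ := IsCartesian.fac p f (K.lift (fib K hK Y).2 f) φ
  have : p.IsHomLift (𝟙 X.base) χ₀ := inferInstance
  let χ : fib K hK X ⟶ (K.inverseImage f).obj (fib K hK Y) := Fiber.homMk p X.base χ₀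
  refine ⟨(⟨f, χ⟩ : X ⟶ Y), ?_⟩
  rw [PsiF_map_mk]
  exact hχ₀

lemma PsiF_obj_bijective : Function.Bijective (PsiF K hK).obj := by
  constructor
  · intro X Y h
    obtain ⟨S, a⟩ := X
    obtain ⟨T, b⟩ := Y
    change p.Fiber S at a
    change p.Fiber T at b
    change a.1 = b.1 at h
    have hST : S = T := by rw [← a.2, ← b.2, h]
    subst hST
    have : a = b := Fiber.fiberInclusion_obj_inj h
    subst this
    rfl
  · intro x
    exact ⟨⟨p.obj x, (Fiber.mk (p := p) (a := x) rfl : p.Fiber (p.obj x))⟩, rfl⟩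

instance : (PsiF K hK).IsIso where
  bijective_obj := PsiF_obj_bijective K hK

end


end Groth.Agent.Lib.Helper24.ClvSplit
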