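import Groth.Prelude.Def_FibClv
import Mathlib.CategoryTheory.IsoCat
set_option autoImplicit false
open CategoryTheory CategoryTheory.Functor
universe v₁ v₂ v₃ u₁ u₂ u₃
set_option backward.isDefEq.respectTransparency false
set_option backward.isDefEq.respectTransparency.types false

namespace Groth.Agent.Lib.Helper24.ClvTransport

variable {𝒮 : Type u₁} {𝒳 : Type u₂} {𝒴 : Type u₃} [Category.{v₁} 𝒮] [Category.{v₂} 𝒳]
  [Category.{v₃} 𝒴] {p : 𝒳 ⥤ 𝒮}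

lemma isHomLift_comp_iff (Ψ : 𝒴 ⥤ 𝒳) {R S : 𝒮} (f : R ⟶ S) {y y' : 𝒴} (ψ : y ⟶ y') :
    (Ψ ⋙ p).IsHomLift f ψ ↔ p.IsHomLift f (Ψ.map ψ) := by
  constructor
  · intro h
    exact IsHomLift.of_fac p f (Ψ.map ψ) (IsHomLift.domain_eq (Ψ ⋙ p) f ψ)
      (IsHomLift.codomain_eq (Ψ ⋙ p) f ψ) (IsHomLift.fac (Ψ ⋙ p) f ψ)
  · intro h
    exact IsHomLift.of_fac (Ψ ⋙ p) f ψ (IsHomLift.domain_eq p f (Ψ.map ψ))
      (IsHomLift.codomain_eq p f (Ψ.map ψ)) (IsHomLift.fac p f (Ψ.map ψ))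

/-- A fully faithful functor over the base that is surjective on objects preserves cartesian
morphisms. -/
lemma isCartesian_map (Ψ : 𝒴 ⥤ 𝒳) [Ψ.Full] [Ψ.Faithful] (hs : Function.Surjective Ψ.obj)
    {R S : 𝒮} (f : R ⟶ S) {y' y : 𝒴} (ℓ : y' ⟶ y) [hℓ : (Ψ ⋙ p).IsCartesian f ℓ] :
    p.IsCartesian f (Ψ.map ℓ) := by
  have h0 : p.IsHomLift f (Ψ.map ℓ) := (isHomLift_comp_iff Ψ f ℓ).1 hℓ.toIsHomLift
  refine { toIsHomLift := h0, universal_property := ?_ }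
  intro a' φ' hφ'
  obtain ⟨y'', rfl⟩ := hs a'
  obtain ⟨ψ', rfl⟩ := Ψ.map_surjective φ'
  have hψ' : (Ψ ⋙ p).IsHomLift f ψ' := (isHomLift_comp_iff Ψ f ψ').2 hφ'
  refine ⟨Ψ.map (IsCartesian.map (Ψ ⋙ p) f ℓ ψ'), ⟨?_, ?_⟩, ?_⟩
  · exact (isHomLift_comp_iff Ψ (𝟙 R) _).1 inferInstance
  · rw [← Ψ.map_comp, IsCartesian.fac]
  · rintro χ₂ ⟨h1, h2⟩
    obtain ⟨χ₂', rfl⟩ := Ψ.map_surjective χ₂
    have : (Ψ ⋙ p).IsHomLift (𝟙 R) χ₂' := (isHomLift_comp_iff Ψ (𝟙 R) _).2 h1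
    congr 1
    apply IsCartesian.map_uniq
    apply Ψ.map_injective
    rw [Ψ.map_comp, h2]

lemma isCartesian_comp_eqToHom {R S : 𝒮} (f : R ⟶ S) {a b b' : 𝒳} (φ : a ⟶ b) (e : b = b')
    [p.IsCartesian f φ] : p.IsCartesian f (φ ≫ eqToHom e) := by
  subst e
  simpa

variable {q : 𝒴 ⥤ 𝒮}

/-- Transport of a cleavage along a strict isomorphism of categories over the base. -/
noncomputable def transportClv (L : FibCat.Cleavage q) (Φ : 𝒳 ⥤ 𝒴) (Ψ : 𝒴 ⥤ 𝒳)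
    (h₁ : Φ ⋙ Ψ = 𝟭 𝒳) (h₂ : Ψ ⋙ Φ = 𝟭 𝒴) (h₃ : Φ ⋙ q = p) : FibCat.Cleavage p where
  obj {R S a} ha f := Ψ.obj (L.obj (a := Φ.obj a) ((Functor.congr_obj h₃ a).trans ha) f)
  lift {R S a} ha f := Ψ.map (L.lift (a := Φ.obj a) ((Functor.congr_obj h₃ a).trans ha) f) ≫
    eqToHom (Functor.congr_obj h₁ a)
  isCartesian {R S a} ha f := by
    have hq : Ψ ⋙ p = q := by
      rw [← h₃, ← Functor.assoc, h₂, Functor.id_comp]
    subst hq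
    let e : IsoCat 𝒳 𝒴 := ⟨Φ, Ψ, h₁.symm, h₂⟩
    have hΨ : Ψ.IsIso := e.symm.isIso_functor
    have := isCartesian_map (p := p) Ψ (Ψ.bijective_obj).2 f
      (L.lift (a := Φ.obj a) ((Functor.congr_obj h₃ a).trans ha) f)
    exact isCartesian_comp_eqToHom f _ _

lemma lift_congr (L : FibCat.Cleavage q) {R T : 𝒮} (g : R ⟶ T) {y y' : 𝒴} (e : y' = y)
    (hy : q.obj y = T) (hy' : q.obj y' = T) :
    ∃ h : L.obj hy' g = L.obj hy g, L.lift hy' g = eqToHom h ≫ L.lift hy g ≫ eqToHom e.symm := by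
  subst e
  exact ⟨rfl, by simp⟩

lemma transportClv_isSplitting (L : FibCat.Cleavage q) (Φ : 𝒳 ⥤ 𝒴) (Ψ : 𝒴 ⥤ 𝒳)
    (h₁ : Φ ⋙ Ψ = 𝟭 𝒳) (h₂ : Ψ ⋙ Φ = 𝟭 𝒴) (h₃ : Φ ⋙ q = p) (hL : L.IsSplitting) :
    (transportClv L Φ Ψ h₁ h₂ h₃).IsSplitting := by
  constructor
  · intro S a ha
    have hy : q.obj (Φ.obj a) = S := (Functor.congr_obj h₃ a).trans ha
    obtain ⟨h', e'⟩ := hL.1 hy
    refine ⟨(congrArg Ψ.obj h').trans (Functor.congr_obj h₁ a), ?_⟩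
    change Ψ.map (L.lift _ (𝟙 S)) ≫ eqToHom _ = _
    rw [e', eqToHom_map, eqToHom_trans]
  · intro S T U f g a ha
    have hy : q.obj (Φ.obj a) = S := (Functor.congr_obj h₃ a).trans ha
    have hz : q.obj (L.obj hy f) = T := L.obj_proj hy f
    have hy'' : q.obj (Φ.obj (Ψ.obj (L.obj hy f))) = T :=
      (Functor.congr_obj h₃ _).trans ((transportClv L Φ Ψ h₁ h₂ h₃).obj_proj ha f)
    obtain ⟨k1, e1⟩ := lift_congr L g (Functor.congr_obj h₂ (L.obj hy f)) hz hy''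
    obtain ⟨k2, e2⟩ := hL.2 f g hy
    refine ⟨congrArg Ψ.obj (k1.trans k2), ?_⟩
    change (Ψ.map (L.lift hy'' g) ≫ eqToHom _) ≫ (Ψ.map (L.lift hy f) ≫ eqToHom _) =
      eqToHom _ ≫ Ψ.map (L.lift hy (g ≫ f)) ≫ eqToHom _
    rw [e1]
    simp only [Functor.map_comp, eqToHom_map, Category.assoc, eqToHom_trans_assoc, eqToHom_refl,
      Category.id_comp]
    rw [← Category.assoc (Ψ.map (L.lift hz g)), ← Ψ.map_comp, e2]
    simp [eqToHom_map]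

end Groth.Agent.Lib.Helper24.ClvTransport
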