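import Groth.Agent.Lib.Helper24.ZarGlue
import Groth.Agent.Lib.Helper24.OpenSubSp
import Groth.Agent.Lib.Helper14.AlgSpPoints
import Groth.Agent.Lib.Helper14.AlgSpLargestOpen
import Groth.Agent.Lib.Helper8.AlgSpOpen
import Groth.Agent.Lib.Helper8.AlgSpPres
set_option autoImplicit false
set_option linter.unusedSectionVars false
set_option linter.unusedVariables false
universe u
open CategoryTheory CategoryTheory.Limits AlgebraicGeometry Opposite

/-! The schematic locus of an algebraic space is an open subscheme. -/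

namespace Groth.Agent.Lib.Helper24.SchLocus
open AlgSp Groth.Agent.Lib.Helper14.AS Groth.Agent.Lib.Helper24.ZarGlue
open Groth.Agent.Lib.Helper24.OpenSubSp

variable {S : Scheme.{u}}

/-- the schematic locus -/
def SchLocus (X : Sp S) : Set (Points X) :=
  {x | ∃ (V : Over S) (f : (yon S).obj V ⟶ X), RepWith @IsOpenImmersion f ∧
    x ∈ Set.range (Points.ofPt f)}

theorem isOpenImmersion_le_etale' : (@IsOpenImmersion : MorphismProperty Scheme.{u}) ≤ @Etale :=
  fun _ _ f h => by
    have : IsOpenImmersion f := h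
    infer_instance

theorem isOpen_range_ofPt {X : Sp S} {V : Over S} (f : (yon S).obj V ⟶ X)
    (hf : RepWith @IsOpenImmersion f) : IsOpen (Set.range (Points.ofPt f)) :=
  (isOpenMap_ofPt f (repWith_mono isOpenImmersion_le_etale' hf)).isOpen_range

theorem isOpen_schLocus (X : Sp S) : IsOpen (SchLocus X) := by
  rw [isOpen_iff_forall_mem_open]
  rintro x ⟨V, f, hf, hx⟩
  exact ⟨Set.range (Points.ofPt f), fun y hy => ⟨V, f, hf, hy⟩, isOpen_range_ofPt f hf, hx⟩

set_option backward.isDefEq.respectTransparency.types false in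
set_option maxHeartbeats 800000 in
theorem exists_largest_open_subscheme {X : Sp S} (hX : IsAlgSpace X) :
    ∃ (V : Over S) (f : (yon S).obj V ⟶ X), RepWith @IsOpenImmersion f ∧
      Set.range (Points.ofPt f) = SchLocus X := by
  obtain ⟨U₀, a₀, ha₀e, ha₀s⟩ := hX.atlas
  have hO := isOpen_schLocus X
  obtain ⟨E, ιE, hEalg, hιo, hιr⟩ : ∃ (E : Sp S) (ιE : E ⟶ X), IsAlgSpace E ∧
      RepWith @IsOpenImmersion ιE ∧ Set.range (Points.map ιE) = SchLocus X :=
    ⟨(openPred (SchLocus X)).sheaf, (openPred (SchLocus X)).ι, isAlgSpace_openPred hX hO,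
      repWith_openPred hO, range_openPred hO⟩
  have hιm : Mono ιE := mono_of_openImmersion hιo
  have hιinj := injective_of_openImmersion hιo
  let ι := {u : U₀.left // Points.ofPt a₀ u ∈ SchLocus X}
  choose V f hf hmem using fun i : ι => i.2
  have hfr : ∀ i, Set.range (Points.map (f i)) ⊆ Set.range (Points.map ιE) := by
    intro i
    rw [hιr, Groth.Agent.Lib.Helper8.AlgSpPres.range_points_map_yon]
    rintro _ ⟨v, rfl⟩
    exact ⟨V i, f i, hf i, ⟨v, rfl⟩⟩
  choose f' hf' using fun i =>
    Groth.Agent.Lib.Helper8.AlgSpOpen.exists_factor_of_range_subset ιE hιo (f i) (hfr i)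
  have hf'o : ∀ i, RepWith @IsOpenImmersion (f' i) := by
    intro i
    have sq := isPullback_of_factor_mono (f' i) ιE
    rw [hf' i] at sq
    exact repWith_of_isPullback _ sq (hf i)
  obtain ⟨U, e, j, -, -, -⟩ := exists_iso_yon_of_open_cover hf'o (by
    intro T t x
    have hy : Points.ofPt (t ≫ ιE) x ∈ SchLocus X := by
      rw [← hιr, ← Points.map_ofPt]
      exact ⟨_, rfl⟩
    obtain ⟨u, hu⟩ := ofPt_surjective_of_repWith ha₀s (Points.ofPt (t ≫ ιE) x)
    let i : ι := ⟨u, by rw [hu]; exact hy⟩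
    have hRo : IsOpen (Set.range (Points.ofPt (f i))) := isOpen_range_ofPt (f i) (hf i)
    let O : T.left.Opens := ⟨Points.ofPt (t ≫ ιE) ⁻¹' Set.range (Points.ofPt (f i)),
      hRo.preimage (Points.continuous_ofPt _)⟩
    have hxO : x ∈ O := by
      change Points.ofPt (t ≫ ιE) x ∈ Set.range (Points.ofPt (f i))
      rw [← hu]
      exact hmem i
    have hrange : Set.range (Points.map ((yon S).map (resOpenι T O) ≫ t)) ⊆
        Set.range (Points.map (f' i)) := by
      rw [Groth.Agent.Lib.Helper8.AlgSpPres.range_points_map_yon]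
      rintro _ ⟨o, rfl⟩
      rw [ofPt_yon_map_comp]
      have ho : Points.ofPt (t ≫ ιE) ((resOpenι T O).left o) ∈ Set.range (Points.ofPt (f i)) := o.2
      rw [← Groth.Agent.Lib.Helper8.AlgSpPres.range_points_map_yon, ← hf' i] at ho
      obtain ⟨w, hw⟩ := ho
      refine ⟨w, hιinj ?_⟩
      rw [← Points.map_comp, hw, Points.map_ofPt]
    obtain ⟨g, hg⟩ := Groth.Agent.Lib.Helper8.AlgSpOpen.exists_factor_of_range_subset (f' i) (hf'o i)
      _ hrange
    exact ⟨i, O, hxO, (yon S).preimage g, by rw [Functor.map_preimage, hg]⟩)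
  refine ⟨U, e.hom ≫ ιE, repWith_comp _ (repWith_of_isIso _ e.hom) hιo, ?_⟩
  rw [← Groth.Agent.Lib.Helper8.AlgSpPres.range_points_map_yon, ← hιr]
  apply Set.Subset.antisymm
  · rintro _ ⟨z, rfl⟩
    exact ⟨Points.map e.hom z, (Points.map_comp _ _ _).symm⟩
  · rintro _ ⟨z, rfl⟩
    refine ⟨Points.map e.inv z, ?_⟩
    rw [Points.map_comp, ← Points.map_comp e.inv, e.inv_hom_id, Points.map_id]

end Groth.Agent.Lib.Helper24.SchLocus
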