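import Groth.Agent.Lib.Helper24.CodimZeroA
import Groth.Agent.Lib.Helper24.Filt9
import Groth.Agent.Lib.Helper24.SchLocus
import Groth.Agent.Lib.Helper24.DecentDim
import Groth.Agent.S10337
set_option autoImplicit false
set_option linter.unusedSectionVars false
set_option linter.unusedVariables false
universe u
open CategoryTheory CategoryTheory.Limits AlgebraicGeometry Opposite

/-! Codimension 0 points of a space with a quasi-compact étale affine chart lie in the schematic
locus. -/

namespace Groth.Agent.Lib.Helper24.CodimZero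
open AlgSp Groth.Agent.Lib.Helper14.AS Groth.Agent.Lib.Helper24.Filt1 Groth.Agent.Lib.Helper24.ZarGlue
open Groth.Agent.Lib.Helper24.Filt2 Groth.Agent.Lib.Helper24.Filt3 Groth.Agent.Lib.Helper24.Filt7
open Groth.Agent.Lib.Helper24.Filt8 Groth.Agent.Lib.Helper24.Filt9 Groth.Agent.Lib.Helper24.OpenSubSp
open Groth.Agent.Lib.Helper24.SchLocus Groth.Agent.Lib.Helper24.CodimZeroA

variable {S : Scheme.{u}}

set_option backward.isDefEq.respectTransparency.types false in
theorem exists_open_disjoint_om (X : Space S) {U : Over S} [IsAffine U.left]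
    (a : (yon S).obj U ⟶ X.obj) (hae : RepWith @Etale a) (hqc : RepWith @QuasiCompact a) (n : ℕ)
    (u : U.left) (hu : ∀ y : U.left, y ⤳ u → y = u) (hx : Points.ofPt a u ∉ Om a (Idx n)) :
    ∃ V : U.left.Opens, u ∈ V ∧ ∀ v ∈ V, Points.ofPt a v ∉ Om a (Idx n) := by
  obtain ⟨hΔo, hΔc⟩ := diag_props X a hae
  obtain ⟨W, υ, hrep, ⟨i₀, hie, his⟩, hWc⟩ := exists_rep hΔo hΔc hae n
  have hW : CompactSpace W.left := hWc hqc inferInstance
  have har := hae.rep
  have sqD := har.isPullback' υ.base
  have hsq : QuasiCompact (har.snd υ.base).left :=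
    hqc.property υ.base ((yon S).map (har.fst' υ.base)) (har.snd υ.base) sqD
  have hD : CompactSpace ↥(har.pullback υ.base).left :=
    QuasiCompact.compactSpace_of_compactSpace (har.snd υ.base).left
  let P : Set U.left := Set.range (har.fst' υ.base).left
  have hPc : IsCompact P := isCompact_range (har.fst' υ.base).left.continuous
  have hPeq : P = Points.ofPt a ⁻¹' Om a (Idx n) := by
    rw [← range_ofPt_base hrep]
    ext v
    constructor
    · rintro ⟨d, rfl⟩
      refine ⟨(har.snd υ.base).left d, ?_⟩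
      rw [← ofPt_yon_map_comp, ← ofPt_yon_map_comp, sqD.w]
    · rintro ⟨w, hw⟩
      obtain ⟨d, hd1, hd2⟩ := exists_point_of_isPullback_yon sqD v w hw.symm
      exact ⟨d, hd1⟩
  have hPo : IsOpen P := by
    rw [hPeq]
    exact (isOpen_om X a hae n).preimage (Points.continuous_ofPt a)
  have huP : u ∉ P := by
    rw [hPeq]
    exact hx
  obtain ⟨V, huV, hVP⟩ := exists_open_disjoint_of_isAffine u hu P hPo hPc huP
  refine ⟨V, huV, fun v hv hmem => Set.disjoint_left.1 hVP hv ?_⟩
  rw [hPeq]
  exact hmem

set_option backward.isDefEq.respectTransparency.types false in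
theorem mem_schLocus_of_not_mem_om (X : Space S) (x : Points X.obj) :
    ∀ (n : ℕ) (U : Over S) (_ : IsAffine U.left) (a : (yon S).obj U ⟶ X.obj)
      (_ : RepWith @Etale a) (_ : RepWith @QuasiCompact a) (u : U.left)
      (_ : ∀ y : U.left, y ⤳ u → y = u),
      Points.ofPt a u = x → x ∉ Om a (Idx n) → x ∈ SchLocus X.obj
  | 0 => by
    intro U _ a hae hqc u hu hux hx
    exact absurd (hux ▸ Groth.Agent.S10337.ofPt_mem_om_zero a u) hx
  | n + 1 => by
    intro U hU a hae hqc u hu hux hx
    rw [← hux] at hx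
    obtain ⟨V, huV, hV⟩ := exists_open_disjoint_om X a hae hqc (n + 1) u hu hx
    obtain ⟨B, hB, huB, hBV⟩ := exists_isAffineOpen_mem_and_subset (x := u) (U := V) huV
    have hBaff : IsAffine (resOpen U B).left := hB
    have hBaff' : IsAffine B.toScheme := hB
    have hmono : Mono (resOpenι U B).left := inferInstanceAs (Mono B.ι)
    have hae' : RepWith @Etale ((yon S).map (resOpenι U B) ≫ a) :=
      repWith_comp _ ((repWith_yon_map_iff _ _).2 (inferInstanceAs (Etale B.ι))) hae
    have hqc' : RepWith @QuasiCompact ((yon S).map (resOpenι U B) ≫ a) :=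
      repWith_comp _ ((repWith_yon_map_iff _ _).2 (inferInstanceAs (QuasiCompact B.ι))) hqc
    have hemp : Om ((yon S).map (resOpenι U B) ≫ a) (Idx (n + 1)) = ∅ := by
      rw [Set.eq_empty_iff_forall_notMem]
      intro x' hx'
      have hx1 : x' ∈ Om a (Idx (n + 1)) := om_comp_subset a (resOpenι U B) _ hx'
      obtain ⟨v, rfl⟩ := om_subset_range _ _ hx'
      rw [ofPt_yon_map_comp] at hx1
      exact hV _ (hBV v.2) hx1
    have hu'x : Points.ofPt ((yon S).map (resOpenι U B) ≫ a) (⟨u, huB⟩ : ↥B) = x := by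
      rw [ofPt_yon_map_comp]
      exact hux
    have hu' : ∀ y : (resOpen U B).left, y ⤳ (⟨u, huB⟩ : ↥B) → y = (⟨u, huB⟩ : ↥B) := by
      intro y hy
      have h1 : (resOpenι U B).left y ⤳ u := hy.map (resOpenι U B).left.continuous
      have h2 := hu _ h1
      exact Subtype.ext h2
    by_cases h : x ∈ Om ((yon S).map (resOpenι U B) ≫ a) (Idx n)
    · obtain ⟨M, g, hgo, hgr⟩ := exists_open_subscheme_of_om_empty X _ hae' n hemp
      exact ⟨M, g, hgo, by rw [hgr]; exact h⟩
    · exact mem_schLocus_of_not_mem_om X x n (resOpen U B) hBaff _ hae' hqc' _ hu' hu'x h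

set_option backward.isDefEq.respectTransparency.types false in
/-- **Core**: a codimension 0 point under a quasi-compact étale affine chart of a decent space lies
in the schematic locus. -/
theorem mem_schLocus_of_dim_zero (X : Space S) (hX : IsDecent X.obj) {U : Over S}
    [IsAffine U.left] (a : (yon S).obj U ⟶ X.obj) (hae : RepWith @Etale a)
    (hqc : RepWith @QuasiCompact a) (u : U.left)
    (hdim : ringKrullDim ↥(U.left.presheaf.stalk u) = 0) :
    Points.ofPt a u ∈ SchLocus X.obj := by
  have hu : ∀ y : U.left, y ⤳ u → y = u := by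
    intro y hy
    rw [AlgebraicGeometry.ringKrullDim_stalk_eq_coheight] at hdim
    have h0 : Order.coheight u = 0 := by exact_mod_cast hdim
    rw [Order.coheight_eq_zero] at h0
    have h1 : u ⤳ y := h0 hy
    exact (hy.antisymm h1).eq
  obtain ⟨p, hp, -, hq⟩ := hX (Points.ofPt a u)
  obtain ⟨N, hN⟩ := exists_not_mem_om hae p hq
  rw [hp] at hN
  exact mem_schLocus_of_not_mem_om X _ N U inferInstance a hae hqc u hu rfl hN

end Groth.Agent.Lib.Helper24.CodimZero
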