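import Mathlib
set_option autoImplicit false
universe u
open CategoryTheory AlgebraicGeometry

namespace Groth.Agent.Lib.Helper24.CodimZeroA

/-- Stacks 00EU-style: a minimal prime outside a quasi-compact open has a basic open
neighbourhood disjoint from it. -/
theorem exists_basicOpen_disjoint {R : Type u} [CommRing R] (p : PrimeSpectrum R)
    (hp : ∀ q : PrimeSpectrum R, q ⤳ p → q = p) (P : Set (PrimeSpectrum R)) (hPo : IsOpen P)
    (hPc : IsCompact P) (hpP : p ∉ P) :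
    ∃ f : R, p ∈ PrimeSpectrum.basicOpen f ∧
      Disjoint (PrimeSpectrum.basicOpen f : Set (PrimeSpectrum R)) P := by
  classical
  obtain ⟨t, rfl⟩ := PrimeSpectrum.isCompact_isOpen_iff.1 ⟨hPc, hPo⟩
  have hmin : p.asIdeal ∈ minimalPrimes R := by
    refine ⟨⟨p.isPrime, bot_le⟩, fun q hq hqp => ?_⟩
    have h1 : (⟨q, hq.1⟩ : PrimeSpectrum R) ⤳ p := (PrimeSpectrum.le_iff_specializes _ _).1 hqp
    have h2 := hp _ h1
    rw [← h2]
  have htp : (t : Set R) ⊆ p.asIdeal := by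
    simpa using hpP
  have key : ∀ g ∈ p.asIdeal, ∃ s, s ∉ p.asIdeal ∧ IsNilpotent (s * g) := by
    intro g hg
    have h1 := IsLocalization.AtPrime.radical_map_of_mem_minimalPrimes
      (A := Localization.AtPrime p.asIdeal) p.asIdeal ⊥ hmin
    have h2 : algebraMap R (Localization.AtPrime p.asIdeal) g ∈
        (Ideal.map (algebraMap R (Localization.AtPrime p.asIdeal)) ⊥).radical := by
      rw [h1]
      exact Ideal.mem_map_of_mem _ hg
    rw [Ideal.map_bot] at h2
    obtain ⟨n, hn⟩ := h2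
    rw [Ideal.mem_bot, ← map_pow, IsLocalization.map_eq_zero_iff p.asIdeal.primeCompl] at hn
    obtain ⟨m, hm⟩ := hn
    refine ⟨m.1, m.2, n + 1, ?_⟩
    have : (m.1 * g) ^ (n + 1) = m.1 ^ n * g * (m.1 * g ^ n) := by ring
    rw [this, hm, mul_zero]
  choose! s hs using key
  refine ⟨∏ g ∈ t, s g, ?_, ?_⟩
  · change (∏ g ∈ t, s g) ∉ p.asIdeal
    rw [Ideal.IsPrime.prod_mem_iff]
    rintro ⟨g, hg, hsg⟩
    exact (hs g (htp hg)).1 hsg
  · rw [Set.disjoint_left]
    intro q hq hqP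
    have hq' : (∏ g ∈ t, s g) ∉ q.asIdeal := hq
    have : ¬ (t : Set R) ⊆ q.asIdeal := by simpa using hqP
    obtain ⟨g, hg, hgq⟩ := Set.not_subset.1 this
    have h1 : s g ∉ q.asIdeal := fun h =>
      hq' (Ideal.mem_of_dvd _ (Finset.dvd_prod_of_mem s hg) h)
    have h2 : s g * g ∈ q.asIdeal := by
      obtain ⟨n, hn⟩ := (hs g (htp hg)).2
      exact q.isPrime.mem_of_pow_mem n (by rw [hn]; exact q.asIdeal.zero_mem)
    rcases q.isPrime.mem_or_mem h2 with h | h
    · exact h1 h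
    · exact hgq h

/-- the same on an affine scheme -/
theorem exists_open_disjoint_of_isAffine {U : Scheme.{u}} [IsAffine U] (x : U)
    (hx : ∀ y : U, y ⤳ x → y = x) (P : Set U) (hPo : IsOpen P) (hPc : IsCompact P)
    (hxP : x ∉ P) : ∃ V : U.Opens, x ∈ V ∧ Disjoint (V : Set U) P := by
  let h : U ≃ₜ PrimeSpectrum Γ(U, ⊤) := Scheme.homeoOfIso U.isoSpec
  have hp : ∀ q : PrimeSpectrum Γ(U, ⊤), q ⤳ h x → q = h x := by
    intro q hq
    have h1 : h.symm q ⤳ x := by
      have := hq.map h.symm.continuous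
      rwa [h.symm_apply_apply] at this
    rw [← hx _ h1, h.apply_symm_apply]
  obtain ⟨f, hf1, hf2⟩ := exists_basicOpen_disjoint (h x) hp (h '' P) (h.isOpenMap _ hPo)
    (hPc.image h.continuous) (by rintro ⟨y, hy, e⟩; exact hxP (h.injective e ▸ hy))
  refine ⟨⟨h ⁻¹' (PrimeSpectrum.basicOpen f : Set (PrimeSpectrum Γ(U, ⊤))),
    (PrimeSpectrum.basicOpen f).2.preimage h.continuous⟩, show h x ∈ PrimeSpectrum.basicOpen f from hf1, ?_⟩
  rw [Set.disjoint_left]
  intro y hy hyP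
  exact Set.disjoint_left.1 hf2 hy ⟨y, hyP, rfl⟩

end Groth.Agent.Lib.Helper24.CodimZeroA
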