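import Mathlib

set_option backward.isDefEq.respectTransparency false
set_option backward.isDefEq.respectTransparency.types false
set_option autoImplicit false

universe v u

open CategoryTheory CategoryTheory.Limits Opposite Simplicial SimplexCategory

namespace Groth.Agent.Lib.Helper24.CoskHtpy

theorem toOrderHom_comp_δ {a : SimplexCategory} {m : ℕ} (φ : a ⟶ ⦋m⦌) (i : Fin (m + 2))
    (x : Fin (a.len + 1)) :
    (φ ≫ δ i).toOrderHom x = i.succAbove (φ.toOrderHom x) := rfl

theorem toOrderHom_comp_σ {a : SimplexCategory} {m : ℕ} (φ : a ⟶ ⦋m + 1⦌) (i : Fin (m + 1))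
    (x : Fin (a.len + 1)) :
    (φ ≫ σ i).toOrderHom x = i.predAbove (φ.toOrderHom x) := rfl

section Fin

variable {m : ℕ}

theorem big1 (v : Fin (m + 1)) : (0 : Fin (m + 1)).castSucc < (0 : Fin (m + 2)).succAbove v := by
  simp [Fin.lt_def, Fin.succAbove]

theorem big2 (v : Fin (m + 1)) :
    ¬ (Fin.last m).castSucc < (Fin.last (m + 1)).succAbove v := by
  simp only [Fin.succAbove_last, Fin.lt_def, not_lt]
  simp only [Fin.val_castSucc, Fin.val_last]
  omega

theorem big3 (i : Fin (m + 2)) (j : Fin (m + 1)) (hij : i ≤ j.castSucc) (v : Fin (m + 2)) :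
    j.succ.castSucc < i.castSucc.succAbove v ↔ j.castSucc < v := by
  rcases i with ⟨i, hi⟩
  rcases j with ⟨j, hj⟩
  rcases v with ⟨v, hv⟩
  simp only [Fin.le_def, Fin.val_castSucc] at hij
  simp only [Fin.succAbove, Fin.lt_def, Fin.val_castSucc, Fin.val_succ]
  split_ifs <;> simp <;> omega

theorem big4 (j : Fin (m + 1)) (v : Fin (m + 2)) :
    j.succ.castSucc < j.castSucc.succ.succAbove v ↔ j.castSucc.castSucc < j.castSucc.succ.succAbove v := by
  rcases j with ⟨j, hj⟩
  rcases v with ⟨v, hv⟩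
  simp only [Fin.succAbove, Fin.lt_def, Fin.val_castSucc, Fin.val_succ]
  split_ifs <;> simp <;> omega

theorem big5 (i : Fin (m + 2)) (j : Fin (m + 1)) (hji : j.castSucc < i) (v : Fin (m + 2)) :
    j.castSucc.castSucc < i.succ.succAbove v ↔ j.castSucc < v := by
  rcases i with ⟨i, hi⟩
  rcases j with ⟨j, hj⟩
  rcases v with ⟨v, hv⟩
  simp only [Fin.lt_def, Fin.val_castSucc] at hji
  simp only [Fin.succAbove, Fin.lt_def, Fin.val_castSucc, Fin.val_succ]
  split_ifs <;> simp <;> omega

theorem big6 (i j : Fin (m + 1)) (hij : i ≤ j) (v : Fin (m + 3)) :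
    j.castSucc < i.castSucc.predAbove v ↔ j.succ.castSucc < v := by
  rcases i with ⟨i, hi⟩
  rcases j with ⟨j, hj⟩
  rcases v with ⟨v, hv⟩
  simp only [Fin.le_def] at hij
  simp only [Fin.predAbove, Fin.lt_def, Fin.val_castSucc, Fin.val_succ]
  split_ifs <;> simp <;> omega

theorem big7 (i j : Fin (m + 1)) (hji : j ≤ i) (v : Fin (m + 3)) :
    j.castSucc < i.succ.predAbove v ↔ j.castSucc.castSucc < v := by
  rcases i with ⟨i, hi⟩
  rcases j with ⟨j, hj⟩
  rcases v with ⟨v, hv⟩
  simp only [Fin.le_def] at hji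
  simp only [Fin.predAbove, Fin.lt_def, Fin.val_castSucc, Fin.val_succ]
  split_ifs <;> simp <;> omega

end Fin

end Groth.Agent.Lib.Helper24.CoskHtpy
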