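import Mathlib
import Groth.Agent.Lib.Helper24.CoskHtpyA
import Groth.Agent.Lib.Helper24.CoskHtpyB

set_option backward.isDefEq.respectTransparency false
set_option backward.isDefEq.respectTransparency.types false
set_option autoImplicit false

universe v u

open CategoryTheory CategoryTheory.Limits Opposite Simplicial SimplexCategory

namespace Groth.Agent.Lib.Helper24.CoskHtpy

variable {E : Type u} [Category.{v} E] (n : ℕ)
  {X X' : SimplicialObject E} (f g : X ⟶ X')

/-- The choice between `f` and `g`. -/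
def cf {a : SimplexCategory} {m : ℕ} (i : Fin (m + 1)) (φ : a ⟶ ⦋m + 1⦌) :
    X.obj (op a) ⟶ X'.obj (op a) :=
  if i.castSucc < φ.toOrderHom 0 then g.app (op a) else f.app (op a)

theorem cf_congr {a : SimplexCategory} {m m' : ℕ} (i : Fin (m + 1)) (φ : a ⟶ ⦋m + 1⦌)
    (i' : Fin (m' + 1)) (φ' : a ⟶ ⦋m' + 1⦌)
    (h : i.castSucc < φ.toOrderHom 0 ↔ i'.castSucc < φ'.toOrderHom 0) :
    cf f g i φ = cf f g i' φ' := by
  unfold cf
  by_cases h1 : i.castSucc < φ.toOrderHom 0
  · rw [if_pos h1, if_pos (h.1 h1)]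
  · rw [if_neg h1, if_neg (fun h2 => h1 (h.2 h2))]

variable (hfg : ∀ p : ℕ, p < n → f.app (op ⦋p⦌) = g.app (op ⦋p⦌))

include hfg in
theorem map_eq_of_not_surjective {a b : SimplexCategory} (ha : a.len ≤ n) (ψ : b ⟶ a)
    (hψ : ¬ Function.Surjective ψ.toOrderHom) :
    X.map ψ.op ≫ f.app (op b) = X.map ψ.op ≫ g.app (op b) := by
  induction a using SimplexCategory.rec with | _ k =>
  cases k with
  | zero =>
    exfalso
    apply hψ
    intro y
    have hs : Subsingleton (Fin ((⦋0⦌ : SimplexCategory).len + 1)) :=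
      inferInstanceAs (Subsingleton (Fin 1))
    exact ⟨0, Subsingleton.elim _ _⟩
  | succ k =>
    obtain ⟨i, θ', rfl⟩ := SimplexCategory.eq_comp_δ_of_not_surjective ψ hψ
    have hk : k < n := by
      have : (⦋k + 1⦌ : SimplexCategory).len = k + 1 := rfl
      omega
    rw [op_comp, Functor.map_comp, Category.assoc, Category.assoc, f.naturality, g.naturality,
      hfg k hk]

include hfg in
theorem cf_compat {a b : SimplexCategory} {m : ℕ} (ha : a.len ≤ n) (i : Fin (m + 1))
    (φ : a ⟶ ⦋m + 1⦌) (ψ : b ⟶ a) :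
    cf f g i φ ≫ X'.map ψ.op = X.map ψ.op ≫ cf f g i (ψ ≫ φ) := by
  unfold cf
  by_cases h1 : i.castSucc < φ.toOrderHom 0
  · have h2 : i.castSucc < (ψ ≫ φ).toOrderHom 0 :=
      lt_of_lt_of_le h1 (φ.toOrderHom.monotone (Fin.zero_le _))
    rw [if_pos h1, if_pos h2, g.naturality]
  · rw [if_neg h1]
    by_cases h2 : i.castSucc < (ψ ≫ φ).toOrderHom 0
    · rw [if_pos h2]
      have hψ : ¬ Function.Surjective ψ.toOrderHom := by
        intro hs
        obtain ⟨x, hx⟩ := hs 0
        have : (ψ ≫ φ).toOrderHom 0 ≤ φ.toOrderHom 0 := by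
          change φ.toOrderHom (ψ.toOrderHom 0) ≤ _
          apply φ.toOrderHom.monotone
          rw [← hx]
          exact ψ.toOrderHom.monotone (Fin.zero_le _)
        exact h1 (lt_of_lt_of_le h2 this)
      rw [← f.naturality]
      exact map_eq_of_not_surjective n f g hfg ha ψ hψ
    · rw [if_neg h2, f.naturality]

end Groth.Agent.Lib.Helper24.CoskHtpy
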