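import Mathlib
import Groth.Agent.Lib.Helper24.CoskHtpyC

set_option backward.isDefEq.respectTransparency false
set_option backward.isDefEq.respectTransparency.types false
set_option autoImplicit false

universe v u

open CategoryTheory CategoryTheory.Limits Opposite Simplicial SimplexCategory

namespace Groth.Agent.Lib.Helper24.CoskHtpy

variable {E : Type u} [Category.{v} E] (n : ℕ)
  [∀ (F : (SimplexCategory.Truncated n)ᵒᵖ ⥤ E),
    (SimplexCategory.Truncated.inclusion n).op.HasRightKanExtension F]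
  [∀ (F : (SimplexCategory.Truncated n)ᵒᵖ ⥤ E),
    (SimplexCategory.Truncated.inclusion n).op.HasPointwiseRightKanExtension F]
  {X X' : SimplicialObject E} (f g : X ⟶ X')
  (hfg : ∀ p : ℕ, p < n → f.app (op ⦋p⦌) = g.app (op ⦋p⦌))

/-- The homotopy operators. -/
noncomputable def hh {m : ℕ} (i : Fin (m + 1)) :
    ((SimplicialObject.cosk n).obj X).obj (op ⦋m⦌) ⟶
      ((SimplicialObject.cosk n).obj X').obj (op ⦋m + 1⦌) :=
  lift n X' (fun a ha φ => pr n X a ha (φ ≫ σ i) ≫ cf f g i φ) (by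
    intro a b ha hb φ ψ
    rw [Category.assoc, cf_compat n f g hfg ha, ← Category.assoc, pr_map n X a b ha hb]
    simp only [Category.assoc])

theorem hh_pr {m : ℕ} (i : Fin (m + 1)) (a : SimplexCategory) (ha : a.len ≤ n)
    (φ : a ⟶ ⦋m + 1⦌) :
    hh n f g hfg i ≫ pr n X' a ha φ = pr n X a ha (φ ≫ σ i) ≫ cf f g i φ :=
  lift_pr n X' _ _ a ha φ

theorem δ_pr (Y : SimplicialObject E) {m : ℕ} (j : Fin (m + 2)) (a : SimplexCategory)
    (ha : a.len ≤ n) (φ : a ⟶ ⦋m⦌) :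
    ((SimplicialObject.cosk n).obj Y).δ j ≫ pr n Y a ha φ = pr n Y a ha (φ ≫ δ j) :=
  map_pr n Y a ha φ (δ j)

theorem σ_pr (Y : SimplicialObject E) {m : ℕ} (j : Fin (m + 1)) (a : SimplexCategory)
    (ha : a.len ≤ n) (φ : a ⟶ ⦋m + 1⦌) :
    ((SimplicialObject.cosk n).obj Y).σ j ≫ pr n Y a ha φ = pr n Y a ha (φ ≫ σ j) :=
  map_pr n Y a ha φ (σ j)

theorem L_δ {m : ℕ} (i' : Fin (m + 2)) (j' : Fin (m + 3)) (a : SimplexCategory) (ha : a.len ≤ n)
    (φ : a ⟶ ⦋m + 1⦌) :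
    (hh n f g hfg i' ≫ ((SimplicialObject.cosk n).obj X').δ j') ≫ pr n X' a ha φ =
      pr n X a ha ((φ ≫ δ j') ≫ σ i') ≫ cf f g i' (φ ≫ δ j') := by
  rw [Category.assoc, δ_pr, hh_pr]

theorem L_σ {m : ℕ} (i' : Fin (m + 1)) (j' : Fin (m + 2)) (a : SimplexCategory) (ha : a.len ≤ n)
    (φ : a ⟶ ⦋m + 2⦌) :
    (hh n f g hfg i' ≫ ((SimplicialObject.cosk n).obj X').σ j') ≫ pr n X' a ha φ =
      pr n X a ha ((φ ≫ σ j') ≫ σ i') ≫ cf f g i' (φ ≫ σ j') := by
  rw [Category.assoc, σ_pr, hh_pr]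

theorem R_δ {m : ℕ} (i' : Fin (m + 2)) (j' : Fin (m + 1)) (a : SimplexCategory) (ha : a.len ≤ n)
    (φ : a ⟶ ⦋m + 1⦌) :
    (((SimplicialObject.cosk n).obj X).δ i' ≫ hh n f g hfg j') ≫ pr n X' a ha φ =
      pr n X a ha ((φ ≫ σ j') ≫ δ i') ≫ cf f g j' φ := by
  rw [Category.assoc, hh_pr, ← Category.assoc, δ_pr]

theorem R_σ {m : ℕ} (i' : Fin (m + 1)) (j' : Fin (m + 2)) (a : SimplexCategory) (ha : a.len ≤ n)
    (φ : a ⟶ ⦋m + 2⦌) :
    (((SimplicialObject.cosk n).obj X).σ i' ≫ hh n f g hfg j') ≫ pr n X' a ha φ =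
      pr n X a ha ((φ ≫ σ j') ≫ σ i') ≫ cf f g j' φ := by
  rw [Category.assoc, hh_pr, ← Category.assoc, σ_pr]

/-- The homotopy between the coskeleta of two maps agreeing in low degrees. -/
noncomputable def homotopy :
    SimplicialObject.Homotopy ((SimplicialObject.cosk n).map f) ((SimplicialObject.cosk n).map g) where
  h i := hh n f g hfg i
  h_zero_comp_δ_zero m := by
    apply hom_ext n X'
    intro a ha φ
    rw [Category.assoc, δ_pr, hh_pr, cosk_map_pr]
    have e1 : (φ ≫ δ 0) ≫ σ 0 = φ := by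
      rw [Category.assoc, δ_comp_σ_self' (by rfl), Category.comp_id]
    have e2 : cf f g (0 : Fin (m + 1)) (φ ≫ δ 0) = g.app (op a) := by
      unfold cf
      rw [if_pos]
      rw [toOrderHom_comp_δ]
      exact big1 _
    rw [e1, e2]
  h_last_comp_δ_last m := by
    apply hom_ext n X'
    intro a ha φ
    rw [Category.assoc, δ_pr, hh_pr, cosk_map_pr]
    have e1 : (φ ≫ δ (Fin.last (m + 1))) ≫ σ (Fin.last m) = φ := by
      rw [Category.assoc, δ_comp_σ_succ' (by rfl), Category.comp_id]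
    have e2 : cf f g (Fin.last m) (φ ≫ δ (Fin.last (m + 1))) = f.app (op a) := by
      unfold cf
      rw [if_neg]
      rw [toOrderHom_comp_δ]
      exact big2 _
    rw [e1, e2]
  h_succ_comp_δ_castSucc_of_lt {m} i j hij := by
    apply hom_ext n X'
    intro a ha φ
    rw [L_δ, R_δ]
    have e1 : (φ ≫ δ i.castSucc) ≫ σ j.succ = (φ ≫ σ j) ≫ δ i := by
      rw [Category.assoc, Category.assoc, δ_comp_σ_of_le hij]
    have e2 : cf f g j.succ (φ ≫ δ i.castSucc) = cf f g j φ := by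
      apply cf_congr
      rw [toOrderHom_comp_δ]
      exact big3 i j hij _
    rw [e1, e2]
  h_succ_comp_δ_castSucc_succ {m} j := by
    apply hom_ext n X'
    intro a ha φ
    rw [L_δ, L_δ]
    have e1 : (φ ≫ δ j.castSucc.succ) ≫ σ j.succ = (φ ≫ δ j.castSucc.succ) ≫ σ j.castSucc := by
      rw [Category.assoc, Category.assoc, δ_comp_σ_self' (by rfl), δ_comp_σ_succ' (by rfl)]
    have e2 : cf f g j.succ (φ ≫ δ j.castSucc.succ) = cf f g j.castSucc (φ ≫ δ j.castSucc.succ) := by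
      apply cf_congr
      rw [toOrderHom_comp_δ]
      exact big4 j _
    rw [e1, e2]
  h_castSucc_comp_δ_succ_of_lt {m} i j hji := by
    apply hom_ext n X'
    intro a ha φ
    rw [L_δ, R_δ]
    have e1 : (φ ≫ δ i.succ) ≫ σ j.castSucc = (φ ≫ σ j) ≫ δ i := by
      rw [Category.assoc, Category.assoc, δ_comp_σ_of_gt hji]
    have e2 : cf f g j.castSucc (φ ≫ δ i.succ) = cf f g j φ := by
      apply cf_congr
      rw [toOrderHom_comp_δ]
      exact big5 i j hji _
    rw [e1, e2]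
  h_comp_σ_castSucc_of_le {m} i j hij := by
    apply hom_ext n X'
    intro a ha φ
    rw [L_σ, R_σ]
    have e1 : (φ ≫ σ i.castSucc) ≫ σ j = (φ ≫ σ j.succ) ≫ σ i := by
      rw [Category.assoc, Category.assoc, σ_comp_σ hij]
    have e2 : cf f g j (φ ≫ σ i.castSucc) = cf f g j.succ φ := by
      apply cf_congr
      rw [toOrderHom_comp_σ]
      exact big6 i j hij _
    rw [e1, e2]
  h_comp_σ_succ_of_lt {m} i j hji := by
    apply hom_ext n X'
    intro a ha φ
    rw [L_σ, R_σ]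
    have e1 : (φ ≫ σ i.succ) ≫ σ j = (φ ≫ σ j.castSucc) ≫ σ i := by
      rw [Category.assoc, Category.assoc, ← σ_comp_σ hji]
    have e2 : cf f g j (φ ≫ σ i.succ) = cf f g j.castSucc φ := by
      apply cf_congr
      rw [toOrderHom_comp_σ]
      exact big7 i j hji _
    rw [e1, e2]

end Groth.Agent.Lib.Helper24.CoskHtpy
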