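import Mathlib
import Groth.Agent.Lib.Helper17.ExtEff

set_option backward.isDefEq.respectTransparency false
set_option backward.isDefEq.respectTransparency.types false
set_option autoImplicit false

universe w v u

open CategoryTheory CategoryTheory.Limits CategoryTheory.Abelian

namespace Groth.Agent.Lib.Helper24.DbCount

variable {A : Type u} [Category.{v} A] [Abelian A] [HasExt.{w} A]

/-- In a countable abelian category all `Ext` groups are countable. -/
theorem countable_ext (hhom : ∀ X Y : A, Countable (X ⟶ Y))
    (e : ℕ → A) (he : ∀ X : A, ∃ n : ℕ, Nonempty (X ≅ e n)) (n : ℕ) :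
    ∀ (X Y : A), Countable (Ext.{w} X Y n) := by
  induction n with
  | zero =>
    intro X Y
    exact Ext.homEquiv₀.countable_iff.2 (hhom X Y)
  | succ n ih =>
    intro X Y
    -- the countable family of maps covering `Ext X Y (n+1)`
    let I := Σ m : ℕ, {p : e m ⟶ X // Epi p}
    have : ∀ m, Countable {p : e m ⟶ X // Epi p} := fun m => by
      have := hhom (e m) X
      infer_instance
    have : Countable I := inferInstance
    let S : I → ShortComplex A := fun i => ShortComplex.mk (kernel.ι i.2.1) i.2.1 (kernel.condition _)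
    have hS : ∀ i, (S i).ShortExact := fun i => by
      have : Epi (S i).g := i.2.2
      have : Mono (S i).f := by dsimp [S]; infer_instance
      exact { exact := ShortComplex.exact_of_f_is_kernel _ (kernelIsKernel _) }
    let φ : (Σ i : I, Ext.{w} (kernel i.2.1) Y n) → Ext.{w} X Y (n + 1) :=
      fun x => (hS x.1).extClass.comp x.2 (add_comm 1 n)
    have : ∀ i : I, Countable (Ext.{w} (kernel i.2.1) Y n) := fun i => ih _ _
    have hφ : Function.Surjective φ := by
      intro α
      obtain ⟨L', p, hp, h0⟩ :=
        Groth.Agent.Lib.Helper17.ExtEff.exists_epi_comp_eq_zero (n := n + 1) (by omega) α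
      obtain ⟨m, ⟨iso⟩⟩ := he L'
      have hp' : Epi (iso.inv ≫ p) := epi_comp _ _
      let i : I := ⟨m, ⟨iso.inv ≫ p, hp'⟩⟩
      have h1 : (Ext.mk₀ (S i).g).comp α (zero_add (n + 1)) = 0 := by
        change (Ext.mk₀ (iso.inv ≫ p)).comp α (zero_add (n + 1)) = 0
        rw [← Ext.mk₀_comp_mk₀_assoc, h0, Ext.comp_zero]
      obtain ⟨x₁, hx₁⟩ := Ext.contravariant_sequence_exact₃ (hS i) Y α h1 (add_comm 1 n)
      exact ⟨⟨i, x₁⟩, hx₁⟩
    exact hφ.countable

end Groth.Agent.Lib.Helper24.DbCount
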