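import Mathlib

set_option backward.isDefEq.respectTransparency false
set_option backward.isDefEq.respectTransparency.types false
set_option autoImplicit false

universe w v u

open CategoryTheory CategoryTheory.Limits CategoryTheory.Pretriangulated

namespace Groth.Agent.Lib.Helper24.DbCount

section Tri

variable {D : Type u} [Category.{v} D] [Preadditive D] [HasZeroObject D] [HasShift D ℤ]
  [∀ n : ℤ, (shiftFunctor D n).Additive] [Pretriangulated D]

/-- Countability of homs is stable under extensions in the first variable. -/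
theorem countable_hom_of_dist₁ (T : Triangle D) (hT : T ∈ distTriang D) (L : D)
    (h₁ : Countable (T.obj₁ ⟶ L)) (h₃ : Countable (T.obj₃ ⟶ L)) : Countable (T.obj₂ ⟶ L) := by
  let ψ : (T.obj₂ ⟶ L) → (T.obj₁ ⟶ L) := fun f => T.mor₁ ≫ f
  have hσ : ∀ c : Set.range ψ, ∃ f, ψ f = c.1 := fun c => c.2
  choose σ hσ' using hσ
  let Φ : (Set.range ψ) × (T.obj₃ ⟶ L) → (T.obj₂ ⟶ L) := fun x => σ x.1 + T.mor₂ ≫ x.2
  have hΦ : Function.Surjective Φ := by
    intro f
    let c : Set.range ψ := ⟨ψ f, ⟨f, rfl⟩⟩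
    have h0 : T.mor₁ ≫ (f - σ c) = 0 := by
      have := hσ' c
      change T.mor₁ ≫ σ c = T.mor₁ ≫ f at this
      rw [Preadditive.comp_sub, this, sub_self]
    obtain ⟨g, hg⟩ := Triangle.yoneda_exact₂ T hT _ h0
    refine ⟨⟨c, g⟩, ?_⟩
    change σ c + T.mor₂ ≫ g = f
    rw [← hg]; abel
  exact hΦ.countable

/-- Countability of homs is stable under extensions in the second variable. -/
theorem countable_hom_of_dist₂ (T : Triangle D) (hT : T ∈ distTriang D) (K : D)
    (h₁ : Countable (K ⟶ T.obj₁)) (h₃ : Countable (K ⟶ T.obj₃)) : Countable (K ⟶ T.obj₂) := by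
  let ψ : (K ⟶ T.obj₂) → (K ⟶ T.obj₃) := fun f => f ≫ T.mor₂
  have hσ : ∀ c : Set.range ψ, ∃ f, ψ f = c.1 := fun c => c.2
  choose σ hσ' using hσ
  let Φ : (Set.range ψ) × (K ⟶ T.obj₁) → (K ⟶ T.obj₂) := fun x => σ x.1 + x.2 ≫ T.mor₁
  have hΦ : Function.Surjective Φ := by
    intro f
    let c : Set.range ψ := ⟨ψ f, ⟨f, rfl⟩⟩
    have h0 : (f - σ c) ≫ T.mor₂ = 0 := by
      have := hσ' c
      change σ c ≫ T.mor₂ = f ≫ T.mor₂ at this
      rw [Preadditive.sub_comp, this, sub_self]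
    obtain ⟨g, hg⟩ := Triangle.coyoneda_exact₂ T hT _ h0
    refine ⟨⟨c, g⟩, ?_⟩
    change σ c + g ≫ T.mor₁ = f
    rw [← hg]; abel
  exact hΦ.countable

/-- All shifted homs from `K` to `L` are countable. -/
def CH (K L : D) : Prop := ∀ j : ℤ, Countable (K ⟶ L⟦j⟧)

theorem CH_of_iso₁ {K K' : D} (e : K ≅ K') (L : D) (h : CH K L) : CH K' L := fun j =>
  have := h j
  Function.Injective.countable (f := fun f : K' ⟶ L⟦j⟧ => e.hom ≫ f)
    (fun f g hfg => (cancel_epi e.hom).1 hfg)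

theorem CH_of_iso₂ (K : D) {L L' : D} (e : L ≅ L') (h : CH K L) : CH K L' := fun j =>
  have := h j
  Function.Injective.countable (f := fun f : K ⟶ L'⟦j⟧ => f ≫ (e.inv)⟦j⟧')
    (fun f g hfg => (cancel_mono ((e.inv)⟦j⟧')).1 hfg)

theorem CH_shift₂ (K L : D) (i : ℤ) (h : CH K L) : CH K (L⟦i⟧) := fun j =>
  have := h (i + j)
  Function.Injective.countable
    (f := fun f : K ⟶ L⟦i⟧⟦j⟧ => f ≫ (shiftFunctorAdd' D i j (i + j) rfl).inv.app L)
    (fun f g hfg => (cancel_mono _).1 hfg)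

theorem CH_shift₁ (K L : D) (i : ℤ) (h : CH K L) : CH (K⟦i⟧) L := fun j => by
  have := h (j + -i)
  let φ : (K⟦i⟧ ⟶ L⟦j⟧) → (K ⟶ L⟦j + -i⟧) := fun f =>
    (shiftFunctorCompIsoId D i (-i) (add_neg_cancel i)).inv.app K ≫
      f⟦-i⟧' ≫ (shiftFunctorAdd' D j (-i) (j + -i) rfl).inv.app L
  have hφ : Function.Injective φ := by
    intro f g hfg
    have h1 := (cancel_epi _).1 hfg
    have h2 := (cancel_mono _).1 h1
    exact (shiftFunctor D (-i)).map_injective h2
  exact hφ.countable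

theorem CH_of_dist₁ (T : Triangle D) (hT : T ∈ distTriang D) (L : D)
    (h₁ : CH T.obj₁ L) (h₃ : CH T.obj₃ L) : CH T.obj₂ L := fun j =>
  countable_hom_of_dist₁ T hT _ (h₁ j) (h₃ j)

theorem CH_of_dist₂ (T : Triangle D) (hT : T ∈ distTriang D) (K : D)
    (h₁ : CH K T.obj₁) (h₃ : CH K T.obj₃) : CH K T.obj₂ := fun j =>
  countable_hom_of_dist₂ _ (Triangle.shift_distinguished T hT j) K (h₁ j) (h₃ j)

theorem CH.countable {K L : D} (h : CH K L) : Countable (K ⟶ L) :=
  have := h 0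
  Function.Injective.countable (f := fun f : K ⟶ L => f ≫ (shiftFunctorZero D ℤ).inv.app L)
    (fun f g hfg => (cancel_mono _).1 hfg)

end Tri

end Groth.Agent.Lib.Helper24.DbCount
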