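import Mathlib
import Groth.Agent.Lib.Helper24.DbCountA
import Groth.Agent.Lib.Helper24.DbCountB

set_option backward.isDefEq.respectTransparency false
set_option backward.isDefEq.respectTransparency.types false
set_option autoImplicit false

universe w v u

open CategoryTheory CategoryTheory.Limits CategoryTheory.Pretriangulated CategoryTheory.Abelian

namespace Groth.Agent.Lib.Helper24.DbCount

variable {A : Type u} [Category.{v} A] [Abelian A] [HasDerivedCategory.{w} A]

open DerivedCategory DerivedCategory.TStructure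

/-- An object concentrated in one degree is a shifted single. -/
theorem exists_iso_shift_single (K : DerivedCategory A) (b : ℤ) [K.IsGE b] [K.IsLE b] :
    ∃ X : A, Nonempty (K ≅ ((singleFunctor A 0).obj X)⟦-b⟧) := by
  obtain ⟨X, ⟨e⟩⟩ := exists_iso_singleFunctor_obj_of_isGE_of_isLE K b
  exact ⟨X, ⟨e ≪≫ (((singleFunctors A).shiftIso (-b) b 0 (by omega)).app X).symm⟩⟩

/-- Dévissage of bounded objects of the derived category. -/
theorem induction_bounded (P : DerivedCategory A → Prop)
    (hiso : ∀ K L : DerivedCategory A, (K ≅ L) → P K → P L)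
    (hext : ∀ T ∈ distTriang (DerivedCategory A), P T.obj₁ → P T.obj₃ → P T.obj₂)
    (hsingle : ∀ (n : ℤ) (X : A), P (((singleFunctor A 0).obj X)⟦n⟧)) :
    ∀ (k : ℕ) (K : DerivedCategory A) (a : ℤ), K.IsGE a → K.IsLE (a + k) → P K := by
  have h0 : ∀ (K : DerivedCategory A) (b : ℤ), K.IsGE b → K.IsLE b → P K := by
    intro K b _ _
    obtain ⟨X, ⟨e⟩⟩ := exists_iso_shift_single K b
    exact hiso _ _ e.symm (hsingle _ _)
  intro k
  induction k with
  | zero =>
    intro K a h1 h2
    have : K.IsLE a := by simpa using h2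
    exact h0 K a h1 this
  | succ k ih =>
    intro K a h1 h2
    have hT := t.triangleLEGE_distinguished (a + k) (a + k + 1) rfl K
    have : K.IsLE (a + k + 1) := by
      have : a + ((k + 1 : ℕ) : ℤ) = a + k + 1 := by push_cast; ring
      rwa [this] at h2
    have p1 : P ((t.truncLE (a + k)).obj K) := ih _ a inferInstance inferInstance
    have p3 : P ((t.truncGE (a + k + 1)).obj K) := h0 _ (a + k + 1) inferInstance inferInstance
    exact hext _ hT p1 p3

theorem induction_bounded' (P : DerivedCategory A → Prop)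
    (hiso : ∀ K L : DerivedCategory A, (K ≅ L) → P K → P L)
    (hext : ∀ T ∈ distTriang (DerivedCategory A), P T.obj₁ → P T.obj₃ → P T.obj₂)
    (hsingle : ∀ (n : ℤ) (X : A), P (((singleFunctor A 0).obj X)⟦n⟧))
    (K : DerivedCategory A) (hK : t.bounded K) : P K := by
  obtain ⟨⟨a, ha⟩, ⟨b, hb⟩⟩ := hK
  have h1 : K.IsGE (min a b) := t.isGE_of_ge K (min a b) a (min_le_left _ _)
  have h2 : K.IsLE (min a b + ((b - min a b).toNat : ℤ)) := by
    have : min a b + ((b - min a b).toNat : ℤ) = b := by
      have : 0 ≤ b - min a b := by have := min_le_right a b; omega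
      rw [Int.toNat_of_nonneg this]; ring
    rw [this]; exact hb
  exact induction_bounded P hiso hext hsingle _ K _ h1 h2

variable (hhom : ∀ X Y : A, Countable (X ⟶ Y))
  (e : ℕ → A) (he : ∀ X : A, ∃ n : ℕ, Nonempty (X ≅ e n))

include hhom he in
theorem CH_single (X Y : A) : CH ((singleFunctor A 0).obj X) ((singleFunctor A 0).obj Y) := by
  intro j
  by_cases hj : 0 ≤ j
  · obtain ⟨k, rfl⟩ := Int.eq_ofNat_of_zero_le hj
    haveI : HasExt.{w} A := hasExt_of_hasDerivedCategory A
    have := countable_ext.{w} hhom e he k X Y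
    exact (Ext.homEquiv (X := X) (Y := Y) (n := k)).symm.countable_iff.2 this
  · have : t.IsGE (((singleFunctor A 0).obj Y)⟦j⟧) (-j) :=
      t.isGE_shift _ 0 j (-j) (by omega)
    have hs : Subsingleton ((singleFunctor A 0).obj X ⟶ ((singleFunctor A 0).obj Y)⟦j⟧) :=
      ⟨fun f g => by rw [t.zero f 0 (-j) (by omega), t.zero g 0 (-j) (by omega)]⟩
    infer_instance

include hhom he in
theorem CH_bounded (K L : DerivedCategory A) (hK : t.bounded K) (hL : t.bounded L) : CH K L := by
  have step1 : ∀ (Y : A) (K : DerivedCategory A), t.bounded K →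
      CH K ((singleFunctor A 0).obj Y) := by
    intro Y K hK
    refine induction_bounded' (fun K => CH K ((singleFunctor A 0).obj Y)) ?_ ?_ ?_ K hK
    · intro K L e h
      exact CH_of_iso₁ e _ h
    · intro T hT h1 h3
      exact CH_of_dist₁ T hT _ h1 h3
    · intro n X
      exact CH_shift₁ _ _ n (CH_single hhom e he X Y)
  refine induction_bounded' (fun L => CH K L) ?_ ?_ ?_ L hL
  · intro L L' e h
    exact CH_of_iso₂ K e h
  · intro T hT h1 h3
    exact CH_of_dist₂ T hT K h1 h3
  · intro n Y
    exact CH_shift₂ _ _ n (step1 Y K hK)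

include hhom he in
theorem countable_hom_bounded (K L : DerivedCategory A) (hK : t.bounded K) (hL : t.bounded L) :
    Countable (K ⟶ L) :=
  (CH_bounded hhom e he K L hK hL).countable

end Groth.Agent.Lib.Helper24.DbCount
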