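import Mathlib
import Groth.Agent.Lib.Helper24.DbCountC

set_option backward.isDefEq.respectTransparency false
set_option backward.isDefEq.respectTransparency.types false
set_option autoImplicit false

universe w v u

open CategoryTheory CategoryTheory.Limits CategoryTheory.Pretriangulated CategoryTheory.Abelian

namespace Groth.Agent.Lib.Helper24.DbCount

variable {A : Type u} [Category.{v} A] [Abelian A] [HasDerivedCategory.{w} A]

open DerivedCategory DerivedCategory.TStructure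

variable (hhom : ∀ X Y : A, Countable (X ⟶ Y))
  (e : ℕ → A) (he : ∀ X : A, ∃ n : ℕ, Nonempty (X ≅ e n))

include he in
theorem exists_enum_single (a : ℤ) : ∃ E : ℕ → DerivedCategory A, (∀ n, t.bounded (E n)) ∧
    ∀ K : DerivedCategory A, K.IsGE a → K.IsLE a → ∃ n, Nonempty (K ≅ E n) := by
  refine ⟨fun n => ((singleFunctor A 0).obj (e n))⟦-a⟧, fun n => ?_, ?_⟩
  · exact t.bounded.le_shift (-a) _ ⟨⟨0, inferInstance⟩, ⟨0, inferInstance⟩⟩
  · intro K _ _
    obtain ⟨X, ⟨i⟩⟩ := exists_iso_shift_single K a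
    obtain ⟨n, ⟨j⟩⟩ := he X
    exact ⟨n, ⟨i ≪≫ (shiftFunctor _ (-a)).mapIso ((singleFunctor A 0).mapIso j)⟩⟩

include hhom he in
theorem exists_enum (k : ℕ) : ∀ a : ℤ, ∃ E : ℕ → DerivedCategory A, (∀ n, t.bounded (E n)) ∧
    ∀ K : DerivedCategory A, K.IsGE a → K.IsLE (a + k) → ∃ n, Nonempty (K ≅ E n) := by
  induction k with
  | zero =>
    intro a
    obtain ⟨E, hE, h⟩ := exists_enum_single e he a
    exact ⟨E, hE, fun K h1 h2 => h K h1 (by simpa using h2)⟩
  | succ k ih =>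
    intro a
    obtain ⟨E', hE', h'⟩ := ih a
    obtain ⟨E₀, hE₀, h₀⟩ := exists_enum_single e he (a + k + 1)
    let I := Σ p : ℕ × ℕ, (E₀ p.2 ⟶ (E' p.1)⟦(1 : ℤ)⟧)
    have : ∀ p : ℕ × ℕ, Countable (E₀ p.2 ⟶ (E' p.1)⟦(1 : ℤ)⟧) := fun p =>
      countable_hom_bounded hhom e he _ _ (hE₀ _) (t.bounded.le_shift 1 _ (hE' _))
    have : Countable I := inferInstance
    have : Nonempty I := ⟨⟨(0, 0), 0⟩⟩
    obtain ⟨s, hs⟩ := exists_surjective_nat I
    have hF : ∀ i : I, ∃ (Y : DerivedCategory A) (f : E' i.1.1 ⟶ Y) (g : Y ⟶ E₀ i.1.2),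
        Triangle.mk f g i.2 ∈ distTriang _ := fun i => distinguished_cocone_triangle₂ i.2
    choose F f g hT using hF
    refine ⟨fun n => F (s n), fun n => ?_, ?_⟩
    · exact t.bounded.ext_of_isTriangulatedClosed₂ _ (hT (s n)) (hE' _) (hE₀ _)
    · intro K h1 h2
      have : K.IsLE (a + k + 1) := by
        have : a + ((k + 1 : ℕ) : ℤ) = a + k + 1 := by push_cast; ring
        rwa [this] at h2
      have hTK := t.triangleLEGE_distinguished (a + k) (a + k + 1) rfl K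
      obtain ⟨p, ⟨e₁⟩⟩ := h' ((t.truncLE (a + k)).obj K) inferInstance inferInstance
      obtain ⟨q, ⟨e₃⟩⟩ := h₀ ((t.truncGE (a + k + 1)).obj K) inferInstance inferInstance
      let δ' : E₀ q ⟶ (E' p)⟦(1 : ℤ)⟧ :=
        e₃.inv ≫ (t.truncGEδLE (a + k) (a + k + 1) rfl).app K ≫ e₁.hom⟦(1 : ℤ)⟧'
      obtain ⟨n, hn⟩ := hs ⟨(p, q), δ'⟩
      refine ⟨n, ⟨?_⟩⟩
      have iso := isoTriangleOfIso₁₃ _ _ hTK (hT ⟨(p, q), δ'⟩) e₁ e₃ (by
        change (t.truncGEδLE (a + k) (a + k + 1) rfl).app K ≫ e₁.hom⟦(1 : ℤ)⟧' =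
          e₃.hom ≫ e₃.inv ≫ (t.truncGEδLE (a + k) (a + k + 1) rfl).app K ≫ e₁.hom⟦(1 : ℤ)⟧'
        rw [Iso.hom_inv_id_assoc])
      have iso₂ : K ≅ F ⟨(p, q), δ'⟩ := Triangle.π₂.mapIso iso
      change K ≅ F (s n)
      rw [hn]
      exact iso₂

include hhom he in
/-- The bounded derived category of a countable abelian category is countable. -/
theorem main : (∀ K L : DerivedCategory.Bounded A, Countable (K ⟶ L)) ∧
    ∃ E : ℕ → DerivedCategory.Bounded A, ∀ K : DerivedCategory.Bounded A,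
      ∃ n : ℕ, Nonempty (K ≅ E n) := by
  constructor
  · intro K L
    have : Countable (t.bounded.ι.obj K ⟶ t.bounded.ι.obj L) :=
      countable_hom_bounded hhom e he K.obj L.obj K.property L.property
    exact Function.Injective.countable (f := fun f : K ⟶ L => (t.bounded.ι).map f)
      (t.bounded.ι).map_injective
  · have H := fun (x : ℤ × ℕ) => exists_enum hhom e he x.2 x.1
    choose E hE hE' using H
    obtain ⟨σ, hσ⟩ := exists_surjective_nat (ℤ × ℕ × ℕ)
    refine ⟨fun n => ⟨E ((σ n).1, (σ n).2.1) (σ n).2.2, hE _ _⟩, ?_⟩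
    intro K
    obtain ⟨⟨a, ha⟩, ⟨b, hb⟩⟩ := K.property
    have h1 : K.obj.IsGE (min a b) := t.isGE_of_ge K.obj (min a b) a (min_le_left _ _)
    have h2 : K.obj.IsLE (min a b + ((b - min a b).toNat : ℤ)) := by
      have : min a b + ((b - min a b).toNat : ℤ) = b := by
        have : 0 ≤ b - min a b := by have := min_le_right a b; omega
        rw [Int.toNat_of_nonneg this]; ring
      rw [this]; exact hb
    obtain ⟨n', ⟨i⟩⟩ := hE' (min a b, (b - min a b).toNat) K.obj h1 h2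
    obtain ⟨n, hn⟩ := hσ (min a b, (b - min a b).toNat, n')
    refine ⟨n, ⟨t.bounded.isoMk ?_⟩⟩
    change K.obj ≅ E ((σ n).1, (σ n).2.1) (σ n).2.2
    rw [hn]
    exact i

end Groth.Agent.Lib.Helper24.DbCount
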