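import Groth.Agent.Lib.Helper24.Sober1
import Groth.Agent.Lib.Helper14.AlgSpRedFactor
set_option autoImplicit false
set_option linter.unusedSectionVars false
set_option linter.unusedVariables false
universe u
open CategoryTheory CategoryTheory.Limits AlgebraicGeometry Opposite

/-! Elementary etale neighbourhoods on decent spaces. -/

namespace Groth.Agent.Lib.Helper24.ElemNbhd
open AlgSp Groth.Agent.Lib.Helper14.AS Groth.Agent.Lib.Helper24.Filt1 Groth.Agent.Lib.Helper24.ZarGlue
open Groth.Agent.Lib.Helper24.Filt2 Groth.Agent.Lib.Helper24.Filt3 Groth.Agent.Lib.Helper24.Filt7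
open Groth.Agent.Lib.Helper24.Filt8

variable {S : Scheme.{u}}

theorem mono_yon_map_of_mono_left {A B : Over S} (g : A ⟶ B) [Mono g.left] : Mono ((yon S).map g) := by
  have hg : Mono g := (Over.forget S).mono_of_mono_map ‹Mono g.left›
  refine mono_of_yon_test _ fun T p p' h => ?_
  obtain ⟨p₀, rfl⟩ := (yon S).map_surjective p
  obtain ⟨p₀', rfl⟩ := (yon S).map_surjective p'
  rw [← Functor.map_comp, ← Functor.map_comp] at h
  rw [(cancel_mono g).1 ((yon S).map_injective h)]

theorem isReducedSp_yon (T : Over S) [IsReduced T.left] : IsReducedSp ((yon S).obj T) :=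
  ⟨T, 𝟙 _,
    by rw [← (yon S).map_id]; exact (repWith_yon_map_iff _ _).2 (by dsimp; infer_instance),
    by rw [← (yon S).map_id]; exact (repWith_yon_map_iff _ _).2 (by dsimp; infer_instance), ‹_›⟩

/-- a chart which is an isomorphism over a closed subspace is injective over its points -/
theorem inj_over_closed {Y Z : Sp S} {V : Over S} (i : Z ⟶ Y) (f : (yon S).obj V ⟶ Y)
    (hiso : ∀ (P : Sp S) (fst : P ⟶ Z) (snd : P ⟶ (yon S).obj V), IsPullback fst snd i f → IsIso fst)
    (z : Points Z) (v₁ v₂ : V.left) (h₁ : Points.ofPt f v₁ = Points.map i z)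
    (h₂ : Points.ofPt f v₂ = Points.map i z) : v₁ = v₂ := by
  have sq : IsPullback (pullback.fst i f) (pullback.snd i f) i f := IsPullback.of_hasPullback _ _
  have hfi : IsIso (pullback.fst i f) := hiso _ _ _ sq
  have hfinj : Function.Injective (Points.map (pullback.fst i f)) := by
    intro w w' hww'
    have h := congrArg (Points.map (inv (pullback.fst i f))) hww'
    rwa [← Points.map_comp, ← Points.map_comp, IsIso.hom_inv_id, Points.map_id, Points.map_id] at h
  obtain ⟨w₁, hw₁a, hw₁b⟩ := points_exists_of_isPullback sq z (Points.ofScheme V v₁)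
    (by rw [← h₁, Points.ofPt_eq_map_ofScheme])
  obtain ⟨w₂, hw₂a, hw₂b⟩ := points_exists_of_isPullback sq z (Points.ofScheme V v₂)
    (by rw [← h₂, Points.ofPt_eq_map_ofScheme])
  have hww : w₁ = w₂ := hfinj (hw₁a.trans hw₂a.symm)
  have h3 : Points.ofScheme V v₁ = Points.ofScheme V v₂ := by rw [← hw₁b, ← hw₂b, hww]
  have h4' := congrArg (Points.toScheme V) h3
  rwa [Points.toScheme_ofScheme, Points.toScheme_ofScheme] at h4'

set_option backward.isDefEq.respectTransparency.types false in
/-- a residue point of a chart which is an isomorphism over a closed subspace maps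
monomorphically when its image lies in that closed subspace -/
theorem mono_of_iso_over_closed {Y Z : Sp S} {V A : Over S} [IsReduced A.left] (i : Z ⟶ Y)
    (hi : RepWith @IsClosedImmersion i) (f : (yon S).obj V ⟶ Y)
    (hiso : ∀ (P : Sp S) (fst : P ⟶ Z) (snd : P ⟶ (yon S).obj V), IsPullback fst snd i f → IsIso fst)
    (r : A ⟶ V) [Mono r.left]
    (hr : Set.range (Points.map ((yon S).map r ≫ f)) ⊆ Set.range (Points.map i)) :
    Mono ((yon S).map r ≫ f) := by
  obtain ⟨z', hz'⟩ := exists_factor_of_range_subset_of_reduced hi (isReducedSp_yon A) _ hr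
  have sq : IsPullback (pullback.fst i f) (pullback.snd i f) i f := IsPullback.of_hasPullback _ _
  have hfi : IsIso (pullback.fst i f) := hiso _ _ _ sq
  have hw2 : sq.lift z' ((yon S).map r) hz' ≫ pullback.snd i f = (yon S).map r := sq.lift_snd _ _ _
  have hw1 : sq.lift z' ((yon S).map r) hz' ≫ pullback.fst i f = z' := sq.lift_fst _ _ _
  have hmr : Mono ((yon S).map r) := mono_yon_map_of_mono_left r
  have hmw : Mono (sq.lift z' ((yon S).map r) hz') := by
    have : Mono (sq.lift z' ((yon S).map r) hz' ≫ pullback.snd i f) := by rw [hw2]; exact hmr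
    exact mono_of_mono _ (pullback.snd i f)
  have hmi : Mono i := mono_of_repWith_isClosedImmersion hi
  rw [← hz', ← hw1]
  infer_instance

set_option backward.isDefEq.respectTransparency.types false in
set_option maxHeartbeats 800000 in
theorem exists_elem_nbhd_of_affine_chart (X : Space S) (hX : IsDecent X.obj) {U : Over S}
    [IsAffine U.left] (a : (yon S).obj U ⟶ X.obj) (hae : RepWith @Etale a)
    (has : RepWith @Surjective a) (x : Points X.obj) :
    ∃ (U' : Over S) (a' : (yon S).obj U' ⟶ X.obj) (u' : ↥U'.left), IsAffine U'.left ∧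
      IsElemEtaleNbhd a' u' x ∧ Points.ofPt a' ⁻¹' {x} = {u'} := by
  obtain ⟨Uo, j, k, Tt, i, h1, h2, -, h4, h5, h6, h7⟩ := main X a hae has
  have hUc : CompactSpace ↥U.left := inferInstance
  obtain ⟨p₀, hp₀, -, hq⟩ := hX x
  obtain ⟨N, hN⟩ := exists_not_mem_om hae p₀ hq
  rw [hp₀] at hN
  obtain ⟨p, hp, z, hz⟩ := h7 x ⟨N, hN⟩
  have hz' : Points.map (j p).hom (Points.map (i p).hom z) = x := by
    rw [← Points.map_comp]; exact hz
  obtain ⟨V, f, -, -, hfe, hfs, hiso⟩ := h5 p hp
  obtain ⟨v, hv⟩ := ofPt_surjective_of_repWith hfs (Points.map (i p).hom z)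
  obtain ⟨B, hB, hvB, -⟩ := exists_isAffineOpen_mem_and_subset (x := v) (U := ⊤) trivial
  have hjet : RepWith @Etale (j p).hom := repWith_mono isOpenImmersion_le_etale (h1 p)
  have hjm : Mono (j p).hom := mono_of_openImmersion (h1 p)
  have hjinj := injective_of_openImmersion (h1 p)
  have hret : RepWith @Etale ((yon S).map (resOpenι V B)) :=
    (repWith_yon_map_iff _ _).2 (inferInstanceAs (Etale B.ι))
  have hofpt : ∀ w : (resOpen V B).left,
      Points.ofPt ((yon S).map (resOpenι V B) ≫ f ≫ (j p).hom) w =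
        Points.map (j p).hom (Points.ofPt f ((resOpenι V B).left w)) := fun w => by
    rw [ofPt_yon_map_comp, Points.map_ofPt]
  have hu' : Points.ofPt ((yon S).map (resOpenι V B) ≫ f ≫ (j p).hom) (⟨v, hvB⟩ : ↥B) = x := by
    rw [hofpt]
    change Points.map (j p).hom (Points.ofPt f v) = x
    rw [hv, hz']
  refine ⟨resOpen V B, (yon S).map (resOpenι V B) ≫ f ≫ (j p).hom, ⟨v, hvB⟩, hB,
    ⟨repWith_comp _ hret (repWith_comp _ hfe hjet), hu', ?_⟩, ?_⟩
  · have hm1 : Mono (ptHom (resOpen V B) (⟨v, hvB⟩ : ↥B) ≫ resOpenι V B).left := by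
      have : Mono ((resOpen V B).left.fromSpecResidueField (⟨v, hvB⟩ : ↥B)) := inferInstance
      have : Mono B.ι := inferInstance
      change Mono ((resOpen V B).left.fromSpecResidueField (⟨v, hvB⟩ : ↥B) ≫ B.ι)
      infer_instance
    have hred : IsReduced (ptOver (resOpen V B) (⟨v, hvB⟩ : ↥B)).left :=
      inferInstanceAs (IsReduced (Spec ((resOpen V B).left.residueField (⟨v, hvB⟩ : ↥B))))
    have hmono := mono_of_iso_over_closed (i p).hom (h4 p).1 f hiso
      (ptHom (resOpen V B) (⟨v, hvB⟩ : ↥B) ≫ resOpenι V B) (by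
        rw [Groth.Agent.Lib.Helper8.AlgSpPres.range_points_map_yon]
        rintro _ ⟨t, rfl⟩
        refine ⟨z, ?_⟩
        rw [ofPt_yon_map_comp, ← hv]
        congr 1
        symm
        change B.ι ((resOpen V B).left.fromSpecResidueField (⟨v, hvB⟩ : ↥B) t) = v
        rw [Scheme.fromSpecResidueField_apply]
        rfl)
    have e : (FieldPt.ofPt ((yon S).map (resOpenι V B) ≫ f ≫ (j p).hom) (⟨v, hvB⟩ : ↥B)).toHom =
        ((yon S).map (ptHom (resOpen V B) (⟨v, hvB⟩ : ↥B) ≫ resOpenι V B) ≫ f) ≫ (j p).hom := by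
      rw [FieldPt.toHom_ofPt]
      simp only [Functor.map_comp, Category.assoc]
      rfl
    rw [e]
    exact @mono_comp _ _ _ _ _ _ hmono _ hjm
  · ext w
    constructor
    · intro hw
      have hw' : Points.ofPt ((yon S).map (resOpenι V B) ≫ f ≫ (j p).hom) w = x := hw
      rw [hofpt, ← hz'] at hw'
      have h3 := hjinj hw'
      have h5' := inj_over_closed (i p).hom f hiso z _ _ h3 hv
      exact Subtype.ext h5'
    · rintro rfl
      exact hu'

end Groth.Agent.Lib.Helper24.ElemNbhd
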