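import Groth.Agent.Lib.Helper24.DecentFinA
import Groth.Agent.Lib.Helper24.Filt9
import Groth.Agent.Lib.Helper14.AlgSpFieldQC2
import Groth.Agent.Lib.Helper14.AlgSpResidual
import Groth.Agent.Lib.Helper14.EtaleLQF
import Groth.Agent.S10337
import Groth.Agent.Lib.Helper24.ElemNbhd
set_option autoImplicit false
set_option linter.unusedSectionVars false
set_option linter.unusedVariables false
universe u
open CategoryTheory CategoryTheory.Limits AlgebraicGeometry Opposite

/-! Bounded strata and decency. -/

namespace Groth.Agent.Lib.Helper24.DecentFin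
open AlgSp Groth.Agent.Lib.Helper14.AS Groth.Agent.Lib.Helper24.Filt1 Groth.Agent.Lib.Helper24.ZarGlue
open Groth.Agent.Lib.Helper24.Filt2 Groth.Agent.Lib.Helper24.Filt3 Groth.Agent.Lib.Helper24.Filt7
open Groth.Agent.Lib.Helper24.Filt8 Groth.Agent.Lib.Helper24.Filt9
open Groth.Agent.Lib.Helper24.DecentFinA

variable {S : Scheme.{u}}

set_option backward.isDefEq.respectTransparency.types false in
/-- If `x ∉ Om φ (Idx N)` then the fibre scheme over a representative of `x` has no `N + 1`
distinct points. -/
theorem not_injective_of_not_mem_om {X : Sp S} {U : Over S} (φ : (yon S).obj U ⟶ X)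
    (q₀ : FieldPt X) {F : Over S} (c : F ⟶ q₀.pt) (d : F ⟶ U)
    (sq : IsPullback ((yon S).map c) ((yon S).map d) q₀.toHom φ) {N : ℕ}
    (hN : Points.mk q₀ ∉ Om φ (Idx N)) (z : Idx N → F.left) : ¬ Function.Injective z := by
  intro hz
  obtain ⟨Ω, hΩ, β₀, h⟩ := exists_common_field (K := q₀.K) c.left z
  choose ℓ hℓ1 hℓ2 using h
  let T : Over S := Over.mk (β₀ ≫ q₀.str)
  let β : T ⟶ q₀.pt := Over.homMk β₀ rfl
  let L : ∀ i, T ⟶ F := fun i => Over.homMk (ℓ i) (by
    have h1 := Over.w c
    change ℓ i ≫ F.hom = β₀ ≫ q₀.str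
    rw [← h1, ← Category.assoc, hℓ1 i]
    rfl)
  have hLc : ∀ i, L i ≫ c = β := fun i => by
    ext1
    exact hℓ1 i
  have hcompat : ∀ i, (yon S).map (L i ≫ d) ≫ φ = (yon S).map β ≫ q₀.toHom := fun i => by
    rw [Functor.map_comp, Category.assoc, ← sq.w, ← Category.assoc, ← Functor.map_comp, hLc i]
  let τ : Tup φ (Idx N) T :=
    { u := fun i => L i ≫ d
      compat := fun i j => by rw [hcompat i, hcompat j]
      apart := fun i j hij t hE => by
        apply hij
        apply hz
        rw [eqAt_iff_ptHom] at hE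
        have h1 : ptHom T t ≫ L i = ptHom T t ≫ L j := by
          apply (yon S).map_injective
          apply sq.hom_ext
          · rw [← Functor.map_comp, ← Functor.map_comp, Category.assoc, Category.assoc, hLc i, hLc j]
          · rw [← Functor.map_comp, ← Functor.map_comp, Category.assoc, Category.assoc]
            exact congrArg (yon S).map hE
        have h2 : T.left.fromSpecResidueField t ≫ ℓ i = T.left.fromSpecResidueField t ≫ ℓ j :=
          congrArg CommaMorphism.left h1
        have h3 := congrArg (fun f : Spec (T.left.residueField t) ⟶ F.left =>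
          f (IsLocalRing.closedPoint _)) h2
        simp only [Scheme.Hom.comp_apply] at h3
        rw [hℓ2 i, hℓ2 j] at h3
        exact h3 }
  apply hN
  refine ⟨T, (IsLocalRing.closedPoint Ω : Spec (CommRingCat.of Ω)), τ, ?_⟩
  have hb : τ.base = (yon S).map β ≫ q₀.toHom := hcompat default
  rw [hb, ofPt_yon_map_comp, Points.ofPt_toHom]

theorem finite_of_forall_not_injective {α : Type*} {N : ℕ}
    (h : ∀ z : Idx N → α, ¬ Function.Injective z) : Finite α := by
  by_contra hinf
  rw [not_finite_iff_infinite] at hinf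
  have := instFiniteIdx N
  obtain ⟨n, ⟨e⟩⟩ := Finite.exists_equiv_fin (Idx N)
  exact h (fun i => Infinite.natEmbedding α (e i : ℕ))
    (fun a b hab => e.injective (Fin.val_injective ((Infinite.natEmbedding α).injective hab)))

set_option backward.isDefEq.respectTransparency.types false in
/-- the fibre scheme over any representative of a point outside `Om φ (Idx N)` is finite -/
theorem finite_fibreScheme_of_not_mem_om {X : Sp S} {U : Over S} (φ : (yon S).obj U ⟶ X)
    (q₀ : FieldPt X) {F : Over S} (c : F ⟶ q₀.pt) (d : F ⟶ U)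
    (sq : IsPullback ((yon S).map c) ((yon S).map d) q₀.toHom φ) {N : ℕ}
    (hN : Points.mk q₀ ∉ Om φ (Idx N)) : Finite ↥F.left :=
  finite_of_forall_not_injective (not_injective_of_not_mem_om φ q₀ c d sq hN)

set_option backward.isDefEq.respectTransparency.types false in
theorem finite_fibre_of_not_mem_om {X : Sp S} (hX : IsAlgSpace X) {U : Over S}
    (φ : (yon S).obj U ⟶ X) {N : ℕ} (x : Points X) (hN : x ∉ Om φ (Idx N)) :
    (Points.ofPt φ ⁻¹' {x}).Finite := by
  induction x using Points.ind with
  | h q =>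
  have hrep := hX.representable_from_yon φ
  have sq := hrep.isPullback' q.toHom
  have hfin : Finite ↥(hrep.pullback q.toHom).left :=
    finite_fibreScheme_of_not_mem_om φ q (hrep.snd q.toHom) (hrep.fst' q.toHom) sq.flip hN
  refine (Set.finite_range (hrep.fst' q.toHom).left).subset ?_
  intro u hu
  rw [Set.mem_preimage, Set.mem_singleton_iff] at hu
  have e : Points.ofPt φ u = Points.ofPt q.toHom (IsLocalRing.closedPoint q.K : Spec (CommRingCat.of q.K)) := by
    rw [hu, Points.ofPt_toHom]
  obtain ⟨z, hz1, -⟩ := exists_point_of_isPullback_yon sq u _ e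
  exact ⟨z, hz1⟩

set_option backward.isDefEq.respectTransparency.types false in
set_option maxHeartbeats 800000 in
theorem exists_mono_point_of_not_mem_om {X : Sp S} (hX : IsAlgSpace X) {U : Over S}
    (φ : (yon S).obj U ⟶ X) (hφ : RepWith @Etale φ) (u : ↥U.left) {N : ℕ}
    (hN : Points.ofPt φ u ∉ Om φ (Idx N)) :
    ∃ p : FieldPt X, Points.mk p = Points.ofPt φ u ∧ Mono p.toHom := by
  let q : FieldPt X := FieldPt.ofPt φ u
  let g : q.pt ⟶ U := Over.homMk (U.left.fromSpecResidueField u) rfl
  have hgm : Mono g.left := (inferInstance : Mono (U.left.fromSpecResidueField u))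
  have hgm' : Mono g := (Over.forget S).mono_of_mono_map hgm
  have hc : q.toHom = (yon S).map g ≫ φ := FieldPt.toHom_ofPt φ u
  have hrep : Representable q.toHom := repDiag_of_isAlgSpace hX _
  have sqR := hrep.isPullback' q.toHom
  set r1 := hrep.fst' q.toHom with hr1
  set r2 := hrep.snd q.toHom with hr2
  -- the fibre scheme
  have hrepφ := hX.representable_from_yon φ
  have sqF := hrepφ.isPullback' q.toHom
  have hFfin : Finite ↥(hrepφ.pullback q.toHom).left :=
    finite_fibreScheme_of_not_mem_om φ q (hrepφ.snd q.toHom) (hrepφ.fst' q.toHom) sqF.flip hN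
  have cond : (yon S).map (r2 ≫ g) ≫ φ = (yon S).map r1 ≫ q.toHom := by
    rw [Functor.map_comp, Category.assoc, ← hc]
    exact sqR.w.symm
  obtain ⟨m, hm⟩ := (yon S).map_surjective (sqF.lift _ _ cond)
  have hm1 : m ≫ hrepφ.fst' q.toHom = r2 ≫ g :=
    (yon S).map_injective (by rw [Functor.map_comp, hm, sqF.lift_fst])
  have hm2 : m ≫ hrepφ.snd q.toHom = r1 :=
    (yon S).map_injective (by rw [Functor.map_comp, hm, sqF.lift_snd])
  have hmm : Mono m := by
    constructor
    intro Z a b hab
    have e1 : a ≫ r1 = b ≫ r1 := by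
      rw [← hm2, ← Category.assoc, ← Category.assoc, hab]
    have e2 : a ≫ r2 = b ≫ r2 := by
      rw [← cancel_mono g, Category.assoc, Category.assoc, ← hm1, ← Category.assoc,
        ← Category.assoc, hab]
    apply (yon S).map_injective
    apply sqR.hom_ext
    · rw [← Functor.map_comp, ← Functor.map_comp, e1]
    · rw [← Functor.map_comp, ← Functor.map_comp, e2]
  have hmm' : Mono m.left := inferInstance
  have hinj : Function.Injective m.left := m.left.injective
  have hfinT : Finite ↥(hrep.pullback q.toHom).left := Finite.of_injective _ hinj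
  have hcpt : CompactSpace ↥(hrep.pullback q.toHom).left := Finite.compactSpace
  have haff : IsAffine (Over.mk q.str).left :=
    inferInstanceAs (IsAffine (Spec (CommRingCat.of q.K)))
  have hqc : QuasiCompact r2.left :=
    (HasAffineProperty.iff_of_isAffine (P := @QuasiCompact) (f := r2.left)).2 hcpt
  have sqR' : IsPullback ((yon S).map r1) ((yon S).map r2) ((yon S).map g ≫ φ)
      ((yon S).map g ≫ φ) := by
    rw [← hc]; exact sqR
  obtain ⟨het, -⟩ := etale_kernel_pair_of_mono_field φ hφ q.str g _ _ sqR'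
  have hlqf : LocallyQuasiFinite r2.left := etale_locallyQuasiFinite _
  have hart : IsLocallyArtinian (Over.mk q.str).left :=
    inferInstanceAs (IsLocallyArtinian (Spec (CommRingCat.of q.K)))
  have hfin' : IsFinite r2.left := IsFinite.of_locallyQuasiFinite _
  obtain ⟨P, π, -, hPm, hPq⟩ := exists_mono_point_of_finite_kernel_pair q r2 r1 sqR.flip hfin'
  exact ⟨P, hPq, hPm⟩

set_option backward.isDefEq.respectTransparency.types false in
/-- A space all of whose affine étale charts have a bounded stratification is decent. -/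
theorem isDecent_of_bounded_om {X : Sp S} (hX : IsAlgSpace X)
    (H : ∀ (U : Over S) (φ : (yon S).obj U ⟶ X), IsAffine U.left → RepWith @Etale φ →
      ∃ N, ∀ x, x ∉ Om φ (Idx N)) : IsDecent X := by
  intro x
  obtain ⟨U₀, a₀, hae, has⟩ := hX.atlas
  obtain ⟨u₀, hu₀⟩ := ofPt_surjective_of_repWith has x
  obtain ⟨B, hB, huB, -⟩ := exists_isAffineOpen_mem_and_subset (x := u₀) (U := ⊤) trivial
  have hBaff : IsAffine (resOpen U₀ B).left := hB
  have hb : RepWith @Etale ((yon S).map (resOpenι U₀ B) ≫ a₀) :=
    repWith_comp _ ((repWith_yon_map_iff _ _).2 (inferInstanceAs (Etale B.ι))) hae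
  have e1 : Points.ofPt ((yon S).map (resOpenι U₀ B) ≫ a₀) (⟨u₀, huB⟩ : ↥B) = x := by
    rw [ofPt_yon_map_comp]
    exact hu₀
  obtain ⟨N, hN⟩ := H _ _ hBaff hb
  obtain ⟨P, hP, hPm⟩ := exists_mono_point_of_not_mem_om hX _ hb (⟨u₀, huB⟩ : ↥B) (hN _)
  rw [e1] at hP
  refine ⟨P, hP, hPm, repWith_quasiCompact_of_mono_of_finite_fibres hX P hPm ?_⟩
  intro W b hW hbe
  obtain ⟨N', hN'⟩ := H W b hW hbe
  exact finite_fibre_of_not_mem_om hX b _ (hN' _)

theorem om_mono {X : Sp S} {U : Over S} (φ : (yon S).obj U ⟶ X) {n m : ℕ} (h : n ≤ m) :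
    Om φ (Idx m) ⊆ Om φ (Idx n) := by
  induction m, h using Nat.le_induction with
  | base => exact subset_rfl
  | succ m _ ih => exact (om_succ_subset (a := φ) m).trans ih

set_option backward.isDefEq.respectTransparency.types false in
/-- **Key bound**: if `X` has a dense open subscheme with finitely many irreducible components whose
generic points are quasi-compact in `X`, every affine étale chart has a bounded stratification. -/
theorem exists_bound_om (X : Space S) {X' : Over S} (j : (yon S).obj X' ⟶ X.obj)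
    (hjo : RepWith @IsOpenImmersion j) (hjd : Dense (Set.range (Points.ofPt j)))
    (hfin : (irreducibleComponents ↥X'.left).Finite)
    (hqc : ∀ x' : ↥X'.left, (∃ T ∈ irreducibleComponents ↥X'.left, IsGenericPoint x' T) →
      RepWith @QuasiCompact (FieldPt.ofPt j x').toHom)
    {U : Over S} [IsAffine U.left] (φ : (yon S).obj U ⟶ X.obj) (hφ : RepWith @Etale φ) :
    ∃ N, ∀ x, x ∉ Om φ (Idx N) := by
  have hX := X.property
  have hjm : Mono j := Groth.Agent.Lib.Helper14.AS.mono_of_openImmersion hjo
  let G : Set ↥X'.left := {x' | ∃ T ∈ irreducibleComponents ↥X'.left, IsGenericPoint x' T}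
  have hGfin : G.Finite := by
    refine Set.Finite.of_finite_image (f := fun x' => closure ({x'} : Set ↥X'.left)) (hfin.subset ?_) ?_
    · rintro _ ⟨x', ⟨T, hT, hx'⟩, rfl⟩
      change closure {x'} ∈ irreducibleComponents ↥X'.left
      rw [hx'.def]
      exact hT
    · intro a _ b _ hab
      have h1 : a ⤳ b := specializes_iff_closure_subset.2 (by rw [show closure {a} = closure {b} from hab])
      have h2 : b ⤳ a := specializes_iff_closure_subset.2 (by rw [show closure {a} = closure {b} from hab])
      exact (h1.antisymm h2).eq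
  have hmono : ∀ x' : ↥X'.left, Mono (FieldPt.ofPt j x').toHom := by
    intro x'
    rw [FieldPt.toHom_ofPt]
    have : Mono (Over.homMk (X'.left.fromSpecResidueField x') rfl :
        Over.mk (X'.left.fromSpecResidueField x' ≫ X'.hom) ⟶ X').left :=
      (inferInstance : Mono (X'.left.fromSpecResidueField x'))
    have h2 := Groth.Agent.Lib.Helper24.ElemNbhd.mono_yon_map_of_mono_left
      (Over.homMk (X'.left.fromSpecResidueField x') rfl :
        Over.mk (X'.left.fromSpecResidueField x' ≫ X'.hom) ⟶ X')
    exact @mono_comp _ _ _ _ _ _ h2 _ hjm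
  have hNx : ∀ x' : ↥X'.left, x' ∈ G → ∃ N, Points.ofPt j x' ∉ Om φ (Idx N) := by
    intro x' hx'
    exact exists_not_mem_om hφ (FieldPt.ofPt j x') (hqc x' hx')
  choose! Nf hNf using hNx
  refine ⟨hGfin.toFinset.sup Nf, ?_⟩
  intro x hx
  obtain ⟨u, rfl⟩ := om_subset_range φ _ hx
  -- the finite dense set of points of `U` over generic points of `X'`
  have hrep := hφ.rep
  have sqR := hrep.isPullback' φ
  let FG : Set ↥U.left := ⋃ x' ∈ G, Points.ofPt φ ⁻¹' {Points.ofPt j x'}
  have hFGfin : FG.Finite := by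
    refine hGfin.biUnion fun x' hx' => ?_
    exact (finite_fibres_of_mono_qc_point hX (FieldPt.ofPt j x') (hmono x') (hqc x' hx') U φ
      inferInstance hφ _ _ _ sqR).1
  have hFGd : Dense FG := by
    rw [dense_iff_inter_open]
    intro O hO hOne
    have hφO : IsOpen (Points.ofPt φ '' O) := isOpenMap_ofPt φ hφ O hO
    obtain ⟨_, ⟨η₀, hη₀, rfl⟩, ⟨x₀, hx₀⟩⟩ :=
      hjd.inter_open_nonempty _ hφO (hOne.image _)
    -- a generic point generizing x₀
    have hTirr := irreducibleComponent_mem_irreducibleComponents x₀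
    have hTcl : IsClosed (irreducibleComponent x₀) := isClosed_irreducibleComponent
    let x' := hTirr.1.genericPoint
    have hx'gen : IsGenericPoint x' (irreducibleComponent x₀) := by
      have := hTirr.1.isGenericPoint_genericPoint_closure
      rwa [hTcl.closure_eq] at this
    have hx'G : x' ∈ G := ⟨_, hTirr, hx'gen⟩
    have hspec : x' ⤳ x₀ := hx'gen.specializes mem_irreducibleComponent
    have hopen : IsOpen (Points.ofPt j ⁻¹' (Points.ofPt φ '' O)) :=
      hφO.preimage (Points.continuous_ofPt j)
    have hx₀O : x₀ ∈ Points.ofPt j ⁻¹' (Points.ofPt φ '' O) := by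
      rw [Set.mem_preimage, hx₀]
      exact ⟨η₀, hη₀, rfl⟩
    obtain ⟨η, hηO, hη⟩ := hspec.mem_open hopen hx₀O
    exact ⟨η, hηO, Set.mem_biUnion hx'G hη⟩
  have hcl : closure FG = ⋃ η ∈ FG, closure ({η} : Set ↥U.left) := by
    have : FG = ⋃ η ∈ FG, ({η} : Set ↥U.left) := by simp
    conv_lhs => rw [this]
    exact hFGfin.closure_biUnion _
  have hu : u ∈ closure FG := hFGd u
  rw [hcl] at hu
  simp only [Set.mem_iUnion] at hu
  obtain ⟨η, hηFG, hηu⟩ := hu
  have hspec : η ⤳ u := specializes_iff_mem_closure.2 hηu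
  have hspec' : Points.ofPt φ η ⤳ Points.ofPt φ u := hspec.map (Points.continuous_ofPt φ)
  have hOmo : IsOpen (Om φ (Idx (hGfin.toFinset.sup Nf))) := isOpen_om X φ hφ _
  have hηOm := hspec'.mem_open hOmo hx
  simp only [FG, Set.mem_iUnion] at hηFG
  obtain ⟨x', hx'G, hηx'⟩ := hηFG
  rw [Set.mem_preimage, Set.mem_singleton_iff] at hηx'
  rw [hηx'] at hηOm
  have hle : Nf x' ≤ hGfin.toFinset.sup Nf := Finset.le_sup (hGfin.mem_toFinset.2 hx'G)
  exact hNf x' hx'G (om_mono φ hle hηOm)

end Groth.Agent.Lib.Helper24.DecentFin
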