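import Mathlib
set_option autoImplicit false
universe u
open CategoryTheory CategoryTheory.Limits AlgebraicGeometry

namespace Groth.Agent.Lib.Helper24.DecentFinA

/-- finitely many points of a scheme over a field can be realized over a common field extension -/
theorem exists_common_field {K : Type u} [Field K] {F : Scheme.{u}}
    (c : F ⟶ Spec (CommRingCat.of K)) {ι : Type} [Finite ι] (z : ι → F) :
    ∃ (Ω : Type u) (_ : Field Ω) (β₀ : Spec (CommRingCat.of Ω) ⟶ Spec (CommRingCat.of K)),
      ∀ i, ∃ ℓ : Spec (CommRingCat.of Ω) ⟶ F, ℓ ≫ c = β₀ ∧ ∀ t, ℓ t = z i := by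
  induction ι using Finite.induction_empty_option with
  | of_equiv e ih =>
    obtain ⟨Ω, hΩ, β₀, h⟩ := ih (fun a => z (e a))
    exact ⟨Ω, hΩ, β₀, fun i => by simpa using h (e.symm i)⟩
  | h_empty => exact ⟨K, inferInstance, 𝟙 _, fun i => i.elim⟩
  | h_option ih =>
    rename_i α _
    obtain ⟨Ω, hΩ, β₀, h⟩ := ih (fun a => z (some a))
    -- the new point
    let g : Spec (F.residueField (z none)) ⟶ Spec (CommRingCat.of K) :=
      F.fromSpecResidueField (z none) ≫ c
    have hgs : Surjective g := by
      refine ⟨fun y => ⟨IsLocalRing.closedPoint _, Subsingleton.elim _ _⟩⟩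
    have hfs : Surjective (pullback.fst β₀ g) := inferInstance
    obtain ⟨w, -⟩ := hfs.surj (IsLocalRing.closedPoint Ω)
    let P := pullback β₀ g
    refine ⟨↑(P.residueField w), inferInstance,
      P.fromSpecResidueField w ≫ pullback.fst β₀ g ≫ β₀, fun i => ?_⟩
    cases i with
    | none =>
      refine ⟨P.fromSpecResidueField w ≫ pullback.snd β₀ g ≫ F.fromSpecResidueField (z none), ?_, ?_⟩
      · rw [Category.assoc, Category.assoc, pullback.condition]
      · intro t
        rw [Scheme.Hom.comp_apply, Scheme.Hom.comp_apply]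
        exact Scheme.fromSpecResidueField_apply _ _
    | some a =>
      obtain ⟨ℓ, hℓ1, hℓ2⟩ := h a
      refine ⟨P.fromSpecResidueField w ≫ pullback.fst β₀ g ≫ ℓ, ?_, ?_⟩
      · rw [Category.assoc, Category.assoc, hℓ1]
      · intro t
        rw [Scheme.Hom.comp_apply, Scheme.Hom.comp_apply]
        exact hℓ2 _

end Groth.Agent.Lib.Helper24.DecentFinA
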