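import Groth.Agent.S10374
import Groth.Agent.S10338
import Groth.Agent.S10339
import Groth.Agent.Lib.Helper14.AlgSpFieldQC2
import Groth.Agent.Lib.Helper14.EtaleLQF
set_option autoImplicit false
set_option linter.unusedSectionVars false
set_option linter.unusedVariables false
set_option linter.style.haveILetI false
universe u
open CategoryTheory CategoryTheory.Limits AlgebraicGeometry Opposite

/-! Specializations on decent spaces: no specializations in fibres of etale charts,
generizations lift, codimension via charts. -/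

namespace Groth.Agent.Lib.Helper24.DecentSpec
open AlgSp Groth.Agent.Lib.Helper14.AS Groth.Agent.Lib.Helper24.ZarGlue

variable {S : Scheme.{u}}

/-- no nontrivial specializations in the fibres of an etale morphism of schemes -/
theorem eq_of_specializes_of_etale {W V : Scheme.{u}} (e : W ⟶ V) [Etale e] {w w' : ↥W}
    (hs : w ⤳ w') (he : e w = e w') : w = w' := by
  have hlqf : LocallyQuasiFinite e := etale_locallyQuasiFinite e
  have hd : DiscreteTopology ↥(e ⁻¹' {e w'}) := (e.isDiscrete_preimage_singleton (e w')).to_subtype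
  have hs' : (⟨w, he⟩ : ↥(e ⁻¹' {e w'})) ⤳ ⟨w', rfl⟩ := (subtype_specializes_iff _ _).2 hs
  exact congrArg Subtype.val hs'.eq

set_option backward.isDefEq.respectTransparency.types false in
/-- Stacks 0ABV: no specializations between distinct points of a fibre of an etale chart of a
decent space. -/
theorem eq_of_specializes (X : Space S) (hX : IsDecent X.obj) {U : Over S}
    (a : (yon S).obj U ⟶ X.obj) (hae : RepWith @Etale a) {u u' : ↥U.left} (hs : u ⤳ u')
    (he : Points.ofPt a u = Points.ofPt a u') : u = u' := by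
  obtain ⟨V, g, v, -, hg, hfib⟩ := Groth.Agent.S10374.result X hX (Points.ofPt a u')
  have sq := hae.rep.isPullback' g
  obtain ⟨W, p₁, p₂, sq⟩ : ∃ (W : Over S) (p₁ : W ⟶ U) (p₂ : W ⟶ V),
      IsPullback ((yon S).map p₁) ((yon S).map p₂) a g := ⟨_, _, _, sq⟩
  have hp₁e : Etale p₁.left :=
    (repWith_yon_map_iff @Etale p₁).1 (repWith_of_isPullback _ sq.flip hg.etale)
  have hp₂e : Etale p₂.left :=
    (repWith_yon_map_iff @Etale p₂).1 (repWith_of_isPullback _ sq hae)
  obtain ⟨w', hw'1, hw'2⟩ := exists_point_of_isPullback_yon sq u' v hg.ofPt_eq.symm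
  have hgen : GeneralizingMap p₁.left := Flat.generalizingMap p₁.left
  obtain ⟨w, hww', hw1⟩ := hgen (show u ⤳ p₁.left w' by rw [hw'1]; exact hs)
  have hw2 : p₂.left w = v := by
    have : p₂.left w ∈ Points.ofPt g ⁻¹' {Points.ofPt a u'} := by
      change Points.ofPt g (p₂.left w) = Points.ofPt a u'
      rw [← ofPt_yon_map_comp, ← sq.w, ofPt_yon_map_comp, hw1, he]
    rw [hfib] at this
    exact this
  have hww : w = w' := eq_of_specializes_of_etale p₂.left hww' (by rw [hw2, hw'2])
  rw [← hw1, ← hw'1, hww]

set_option backward.isDefEq.respectTransparency.types false in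
/-- generizations lift along etale charts of decent spaces -/
theorem exists_generization (X : Space S) (hX : IsDecent X.obj) {U : Over S}
    (a : (yon S).obj U ⟶ X.obj) (hae : RepWith @Etale a) (u : ↥U.left) (x' : Points X.obj)
    (h : x' ⤳ Points.ofPt a u) : ∃ u₁ : ↥U.left, u₁ ⤳ u ∧ Points.ofPt a u₁ = x' := by
  obtain ⟨A, hA, huA, -⟩ := exists_isAffineOpen_mem_and_subset (x := u) (U := ⊤) trivial
  have hUaff : IsAffine (resOpen U A).left := hA
  have haeA : RepWith @Etale ((yon S).map (resOpenι U A) ≫ a) :=
    repWith_comp _ ((repWith_yon_map_iff _ _).2 (inferInstanceAs (Etale A.ι))) hae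
  obtain ⟨p, hp, hm, hq⟩ := hX x'
  have sqR := haeA.rep.isPullback' ((yon S).map (resOpenι U A) ≫ a)
  have hfin := (finite_fibres_of_mono_qc_point X.property p hm hq (resOpen U A) _ hUaff haeA
    _ _ _ sqR).1
  rw [hp] at hfin
  have hofpt : ∀ w : (resOpen U A).left,
      Points.ofPt ((yon S).map (resOpenι U A) ≫ a) w = Points.ofPt a ((resOpenι U A).left w) :=
    fun w => ofPt_yon_map_comp _ _ _
  have hmem : (⟨u, huA⟩ : ↥A) ∈
      closure (Points.ofPt ((yon S).map (resOpenι U A) ≫ a) ⁻¹' {x'}) := by
    apply (isOpenMap_ofPt _ haeA).preimage_closure_subset_closure_preimage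
    change Points.ofPt ((yon S).map (resOpenι U A) ≫ a) (⟨u, huA⟩ : ↥A) ∈ closure {x'}
    rw [hofpt]
    exact specializes_iff_mem_closure.1 h
  rw [← Set.biUnion_of_singleton (Points.ofPt ((yon S).map (resOpenι U A) ≫ a) ⁻¹' {x'}),
    hfin.closure_biUnion] at hmem
  obtain ⟨w, hwF, hw⟩ := Set.mem_iUnion₂.1 hmem
  have hsp : w ⤳ (⟨u, huA⟩ : ↥A) := specializes_iff_mem_closure.2 hw
  refine ⟨(resOpenι U A).left w, ?_, ?_⟩
  · exact hsp.map (resOpenι U A).left.continuous
  · rw [← hofpt]; exact hwF

attribute [local instance] specializationOrder in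
/-- the codimension of a point of a decent space can be read on any etale chart -/
theorem coheight_ofPt (X : Space S) (hX : IsDecent X.obj) {U : Over S}
    (a : (yon S).obj U ⟶ X.obj) (hae : RepWith @Etale a) (u : ↥U.left) :
    haveI : T0Space (Points X.obj) := Groth.Agent.S10338.result X hX
    Order.coheight u = Order.coheight (Points.ofPt a u) := by
  haveI : T0Space (Points X.obj) := Groth.Agent.S10338.result X hX
  have hcont := Points.continuous_ofPt a
  refine Order.coheight_eq_of_strictMono (Points.ofPt a) ?_ ?_ u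
  · intro u₁ u₂ hlt
    have h1 : u₂ ⤳ u₁ := hlt.le
    refine lt_of_le_of_ne (h1.map hcont) fun heq => ?_
    exact hlt.ne (eq_of_specializes X hX a hae h1 heq.symm).symm
  · intro u₁ y hlt
    have h1 : y ⤳ Points.ofPt a u₁ := hlt.le
    obtain ⟨u', hu', hy⟩ := exists_generization X hX a hae u₁ y h1
    refine ⟨u', lt_of_le_of_ne hu' fun heq => ?_, hy⟩
    rw [← heq] at hy
    exact hlt.ne hy

attribute [local instance] specializationOrder in
/-- Stacks 0ABY-type: codimension of an irreducible closed subset of a decent space equals the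
dimension of the local ring of a chart at a point over its generic point -/
theorem coheight_irreducibleCloseds (X : Space S) (hX : IsDecent X.obj)
    (T : TopologicalSpace.IrreducibleCloseds (Points X.obj)) (ξ : Points X.obj)
    (hξ : IsGenericPoint ξ (T : Set (Points X.obj))) {U : Over S} (a : (yon S).obj U ⟶ X.obj)
    (ha : RepWith @Etale a) (u : ↥U.left) (hu : Points.ofPt a u = ξ) :
    (Order.coheight T : WithBot ℕ∞) = ringKrullDim ↥(U.left.presheaf.stalk u) := by
  haveI : T0Space (Points X.obj) := Groth.Agent.S10338.result X hX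
  haveI : QuasiSober (Points X.obj) := Groth.Agent.S10339.result X hX
  rw [AlgebraicGeometry.ringKrullDim_stalk_eq_coheight, coheight_ofPt X hX a ha u, hu]
  have h1 := Order.coheight_orderIso (irreducibleSetEquivPoints (α := Points X.obj)) T
  have h2 : irreducibleSetEquivPoints T = ξ :=
    (T.2.isGenericPoint_genericPoint_closure).eq (by
      rw [closure_eq_iff_isClosed.mpr T.3]; exact hξ)
  rw [← h1, h2]

end Groth.Agent.Lib.Helper24.DecentSpec
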