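import Groth.Prelude.Def_W4decUnivBdd
import Groth.Agent.Lib.Helper6.BddFibFinrank
import Groth.Agent.Lib.Helper6.BddFibComp
import Groth.Agent.Lib.Helper14.AlgSpDecent3
import Groth.Agent.Lib.Helper14.AlgSpFieldPts

/-!
# Universally bounded fibres for maps from schemes to algebraic spaces (helper24)

Bridge between `W4dec.DegFibresLE` and helper6's `BddFib.FiniteOfDegLE` toolkit.
-/

set_option autoImplicit false
universe u

open CategoryTheory CategoryTheory.Limits AlgebraicGeometry Opposite AlgSp
open Groth.Agent.Lib.Helper14.AS Groth.Agent.Lib.Helper6.BddFibLib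

namespace Groth.Agent.Lib.Helper24.UnivBdd

variable {S : Scheme.{u}}

theorem isField_of (K : Type u) [Field K] : IsField (CommRingCat.of K) := Field.toIsField K

theorem FiniteOfDegLE.mono {K : CommRingCat.{u}} {T : Scheme.{u}} {p : T ⟶ Spec K} {n m : ℕ}
    (h : BddFib.FiniteOfDegLE K p n) (hnm : n ≤ m) : BddFib.FiniteOfDegLE K p m :=
  ⟨h.1, h.2.1, h.2.2.trans hnm⟩

set_option backward.isDefEq.respectTransparency.types false in
/-- Over a field, `FiniteOfDegLE` is the same as being finite with rank function at most `n`. -/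
theorem finiteOfDegLE_iff_finite_finrank {K : Type u} [Field K] {T : Scheme.{u}}
    (p : T ⟶ Spec (CommRingCat.of K)) (n : ℕ) :
    BddFib.FiniteOfDegLE (CommRingCat.of K) p n ↔ IsFinite p ∧ ∀ s, p.finrank s ≤ n := by
  constructor
  · intro h
    rw [finiteOfDegLE_iff] at h
    obtain ⟨hT, hfin, hrk⟩ := h
    set ψ : CommRingCat.of K ⟶ Γ(T, ⊤) := (Scheme.ΓSpecIso (CommRingCat.of K)).inv ≫ p.appTop with hψ
    have hp : p = T.isoSpec.hom ≫ Spec.map ψ := eq_isoSpec_hom_comp p
    let _ : Algebra K Γ(T, ⊤) := ψ.hom.toAlgebra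
    have h1' : ψ.hom.Finite := hfin
    have h2' : ψ.hom.Flat := by
      change Module.Flat K Γ(T, ⊤)
      infer_instance
    have h1 : IsFinite (Spec.map ψ) := (IsFinite.SpecMap_iff ψ).mpr h1'
    have hpf : IsFinite p := by
      rw [hp]; infer_instance
    refine ⟨hpf, fun s => ?_⟩
    have e1 : p.finrank s = (Spec.map ψ).finrank s := by
      conv_lhs => rw [hp]
      rw [Scheme.Hom.finrank_comp_left_of_isIso]
    rw [e1, Scheme.Hom.finrank_SpecMap_eq_finrank h1' h2']
    change Module.rankAtStalk (R := K) Γ(T, ⊤) s ≤ n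
    rw [Module.rankAtStalk_eq_finrank_of_free]
    exact hrk
  · rintro ⟨hfin, hrk⟩
    have hflat : Flat p := inferInstance
    let pt : Spec (CommRingCat.of K) := IsLocalRing.closedPoint K
    exact FiniteOfDegLE.mono (finiteOfDegLE_of_finite_flat (isField_of K) p pt) (hrk pt)


/-- `DegFibresLE` phrased with helper6's `FiniteOfDegLE`. -/
theorem degFibresLE_iff {F : Sp S} {U : Over S} (a : (yon S).obj U ⟶ F) (n : ℕ) :
    W4dec.DegFibresLE n a ↔ ∀ (q : FieldPt F) (T : Over S) (c : T ⟶ q.pt)
      (snd : (yon S).obj T ⟶ (yon S).obj U), IsPullback ((yon S).map c) snd q.toHom a →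
      BddFib.FiniteOfDegLE (CommRingCat.of q.K) c.left n := by
  constructor
  · intro h q T c snd sq
    exact (finiteOfDegLE_iff_finite_finrank _ n).2 (h q T c snd sq)
  · intro h q T c snd sq
    exact (finiteOfDegLE_iff_finite_finrank _ n).1 (h q T c snd sq)

/-- The field-valued point defined by a morphism from the spectrum of a field. -/
noncomputable abbrev fieldPtOfHom {F : Sp S} (k : Type u) [Field k] (str : Spec (CommRingCat.of k) ⟶ S)
    (h : (yon S).obj (Over.mk str) ⟶ F) : FieldPt F := ⟨k, str, yEquiv h⟩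

theorem fieldPtOfHom_toHom {F : Sp S} (k : Type u) [Field k] (str : Spec (CommRingCat.of k) ⟶ S)
    (h : (yon S).obj (Over.mk str) ⟶ F) : (fieldPtOfHom k str h).toHom = h :=
  Equiv.symm_apply_apply _ _

/-- If `n` bounds the degrees of the fibres of `a : h_U ⟶ F`, then for any base change `P ⟶ W` of `a`
to a scheme `W` and any field point `Spec k ⟶ W`, the fibre is finite of degree at most `n`. -/
theorem finiteOfDegLE_of_degFibresLE {F : Sp S} {U : Over S} {a : (yon S).obj U ⟶ F} {n : ℕ}
    (h : W4dec.DegFibresLE n a) {W P : Over S} (w : (yon S).obj W ⟶ F) (fst : P ⟶ W)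
    (snd : (yon S).obj P ⟶ (yon S).obj U) (sq : IsPullback ((yon S).map fst) snd w a)
    (k : Type u) [Field k] (g : Spec (CommRingCat.of k) ⟶ W.left) :
    BddFib.FiniteOfDegLE (CommRingCat.of k) (pullback.snd fst.left g) n := by
  let str := g ≫ W.hom
  let gO : Over.mk str ⟶ W := Over.homMk g rfl
  let q : FieldPt F := fieldPtOfHom k str ((yon S).map gO ≫ w)
  have hq : q.toHom = (yon S).map gO ≫ w := fieldPtOfHom_toHom _ _ _
  let T : Over S := Over.mk (pullback.snd fst.left g ≫ str)
  let c : T ⟶ q.pt := Over.homMk (pullback.snd fst.left g) rfl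
  let tP : T ⟶ P := Over.homMk (pullback.fst fst.left g) (by
    have := Over.w fst
    change pullback.fst fst.left g ≫ P.hom = pullback.snd fst.left g ≫ g ≫ W.hom
    rw [← this, ← Category.assoc, pullback.condition, Category.assoc])
  have sqT : IsPullback tP c fst gO :=
    IsPullback.of_map (Over.forget S) (by ext; exact pullback.condition)
      (IsPullback.of_hasPullback fst.left g)
  have sqY := sqT.map (yon S)
  have big : IsPullback ((yon S).map c) ((yon S).map tP ≫ snd) q.toHom a := by
    rw [hq]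
    exact sqY.flip.paste_vert sq
  exact (finiteOfDegLE_iff_finite_finrank _ n).2 (h q T c _ big)

/-- `FibreDegLE` form. -/
theorem fibreDegLE_of_degFibresLE {F : Sp S} {U : Over S} {a : (yon S).obj U ⟶ F} {n : ℕ}
    (h : W4dec.DegFibresLE n a) {W P : Over S} (w : (yon S).obj W ⟶ F) (fst : P ⟶ W)
    (snd : (yon S).obj P ⟶ (yon S).obj U) (sq : IsPullback ((yon S).map fst) snd w a) :
    BddFib.FibreDegLE fst.left n := by
  rw [Groth.Agent.S7433.result]
  intro k _ g
  exact finiteOfDegLE_of_degFibresLE h w fst snd sq k g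


/-- Composition: `V ⟶ U ⟶ X`. -/
theorem degFibresLE_comp {X : Sp S} (hX : IsAlgSpace X) {U V : Over S} (f : V ⟶ U)
    (g : (yon S).obj U ⟶ X) {n m : ℕ} (hf : W4dec.DegFibresLE n ((yon S).map f))
    (hg : W4dec.DegFibresLE m g) : W4dec.DegFibresLE (n * m) ((yon S).map f ≫ g) := by
  rw [degFibresLE_iff] at hg ⊢
  intro q T c snd sq
  have hrep : Representable g := hX.representable_from_yon g
  have sqU := hrep.isPullback' q.toHom
  -- the lift T ⟶ PU
  obtain ⟨l, hl⟩ := (yon S).map_surjective (sqU.lift (snd ≫ (yon S).map f) ((yon S).map c)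
    (by rw [Category.assoc, sq.w]))
  have hl1 : (yon S).map l ≫ (yon S).map (hrep.fst' q.toHom) = snd ≫ (yon S).map f := by
    rw [hl]; exact sqU.lift_fst _ _ _
  have hl2 : (yon S).map l ≫ (yon S).map (hrep.snd q.toHom) = (yon S).map c := by
    rw [hl]; exact sqU.lift_snd _ _ _
  have hlc : l ≫ hrep.snd q.toHom = c := by
    apply (yon S).map_injective
    rw [Functor.map_comp, hl2]
  have top : IsPullback snd ((yon S).map l) ((yon S).map f) ((yon S).map (hrep.fst' q.toHom)) := by
    refine IsPullback.of_bot ?_ hl1.symm sqU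
    rw [hl2]
    exact sq.flip
  have h1 := hg q _ (hrep.snd q.toHom) _ sqU.flip
  have h2 : BddFib.FibreDegLE l.left n :=
    fibreDegLE_of_degFibresLE hf ((yon S).map (hrep.fst' q.toHom)) l snd top.flip
  have := finiteOfDegLE_comp (isField_of q.K) l.left (hrep.snd q.toHom).left n m h1 h2
  rw [← hlc]
  exact this


/-- Flat surjective triangle `U ⟶ V ⟶ X`. -/
theorem degFibresLE_of_flat_surjective {X : Sp S} {U V : Over S} (f : U ⟶ V)
    [Surjective f.left] [Flat f.left] (h : (yon S).obj V ⟶ X) {n : ℕ}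
    (hg : W4dec.DegFibresLE n ((yon S).map f ≫ h)) : W4dec.DegFibresLE n h := by
  rw [degFibresLE_iff] at hg ⊢
  intro q T c snd sq
  obtain ⟨snd', rfl⟩ := (yon S).map_surjective snd
  let TU : Over S := Over.mk (pullback.fst snd'.left f.left ≫ T.hom)
  let r : TU ⟶ T := Over.homMk (pullback.fst snd'.left f.left) rfl
  let sU : TU ⟶ U := Over.homMk (pullback.snd snd'.left f.left) (by
    have h1 := Over.w f
    have h2 := Over.w snd'
    change pullback.snd snd'.left f.left ≫ U.hom = pullback.fst snd'.left f.left ≫ T.hom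
    rw [← h1, ← h2, ← Category.assoc, ← Category.assoc, pullback.condition])
  have sqS : IsPullback r sU snd' f :=
    IsPullback.of_map (Over.forget S) (by ext; exact pullback.condition)
      (IsPullback.of_hasPullback snd'.left f.left)
  have big := (sqS.map (yon S)).paste_horiz sq
  rw [← Functor.map_comp] at big
  have h1 := hg q TU (r ≫ c) _ big
  have hr1 : Flat r.left := inferInstanceAs (Flat (pullback.fst snd'.left f.left))
  have hr2 : Surjective r.left := inferInstanceAs (Surjective (pullback.fst snd'.left f.left))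
  exact finiteOfDegLE_of_flat_surjective (isField_of q.K) r.left c.left n h1


theorem mk_eq_fpt_toHom' {X : Sp S} (p : FieldPt X) : Points.mk p = fpt p.toHom := by
  rw [fpt]
  congr 1
  have := p.uliftYonedaEquiv_toHom
  cases p
  simp only at this ⊢
  congr 1
  exact this.symm

theorem finiteOfDegLE_of_isEmpty {K : CommRingCat.{u}} (hK : IsField K) {T : Scheme.{u}} [IsEmpty T]
    (p : T ⟶ Spec K) (n : ℕ) : BddFib.FiniteOfDegLE K p n := by
  let _ := hK.toField
  letI : Algebra K Γ(T, ⊤) := BddFib.secAlgebra K p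
  refine ⟨inferInstance, ?_, ?_⟩
  · exact Module.Finite.of_finite
  · rw [Module.finrank_zero_of_subsingleton]
    exact Nat.zero_le n

set_option backward.isDefEq.respectTransparency.types false in
/-- Descent of the bound along a representable base change hitting the image (S10426). -/
theorem degFibresLE_of_baseChange {X Y : Sp S} (g : Y ⟶ X) {U V : Over S}
    (f : (yon S).obj U ⟶ X) (fst : (yon S).obj V ⟶ (yon S).obj U) (f' : (yon S).obj V ⟶ Y)
    (h : IsPullback fst f' f g)
    (him : Set.range (Points.ofPt f) ⊆ Set.range (Points.map g)) {n : ℕ}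
    (hf' : W4dec.DegFibresLE n f') : W4dec.DegFibresLE n f := by
  rw [degFibresLE_iff] at hf' ⊢
  intro q T c snd sq
  by_cases hT : IsEmpty T.left
  · exact finiteOfDegLE_of_isEmpty (isField_of q.K) _ n
  rw [not_isEmpty_iff] at hT
  obtain ⟨t⟩ := hT
  obtain ⟨snd', rfl⟩ := (yon S).map_surjective snd
  -- the class of q is in the image of |U|
  have hmem : Points.mk q ∈ Set.range (Points.ofPt f) := by
    refine ⟨snd'.left t, ?_⟩
    rw [← ofPt_yon_map_comp snd' f t, ← sq.w, ofPt_yon_map_comp c q.toHom t, Points.ofPt_toHom]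
  obtain ⟨y, hy⟩ := him hmem
  obtain ⟨L, _, strL, b, rfl⟩ := exists_fpt_eq y
  rw [map_fpt, mk_eq_fpt_toHom', fpt_eq_iff] at hy
  obtain ⟨Ω, _, w, i, j, hij⟩ := hy
  let TΩ : Over S := Over.mk (pullback.snd c.left j.left ≫ w)
  let cΩ : TΩ ⟶ Over.mk w := Over.homMk (pullback.snd c.left j.left) rfl
  let a : TΩ ⟶ T := Over.homMk (pullback.fst c.left j.left) (by
    have h1 := Over.w c
    have h2 := Over.w j
    change pullback.fst c.left j.left ≫ T.hom = pullback.snd c.left j.left ≫ w
    rw [← h1, ← Category.assoc, pullback.condition, Category.assoc]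
    congr 1)
  have sqΩ : IsPullback a cΩ c j :=
    IsPullback.of_map (Over.forget S) (by ext; exact pullback.condition)
      (IsPullback.of_hasPullback c.left j.left)
  let qΩ : FieldPt Y := fieldPtOfHom Ω w ((yon S).map i ≫ b)
  have hqΩ : qΩ.toHom = (yon S).map i ≫ b := fieldPtOfHom_toHom _ _ _
  have big : IsPullback ((yon S).map cΩ) ((yon S).map a ≫ (yon S).map snd')
      ((yon S).map j ≫ q.toHom) f := (sqΩ.map (yon S)).flip.paste_vert sq
  have hcomm : ((yon S).map a ≫ (yon S).map snd') ≫ f = ((yon S).map cΩ ≫ (yon S).map i ≫ b) ≫ g := by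
    rw [← big.w, Category.assoc, Category.assoc, hij]
  let sndΩ : (yon S).obj TΩ ⟶ (yon S).obj V := h.lift _ _ hcomm
  have e1 : sndΩ ≫ fst = (yon S).map a ≫ (yon S).map snd' := h.lift_fst _ _ _
  have e2 : sndΩ ≫ f' = (yon S).map cΩ ≫ (yon S).map i ≫ b := h.lift_snd _ _ _
  have sqV : IsPullback sndΩ ((yon S).map cΩ) f' ((yon S).map i ≫ b) := by
    refine IsPullback.of_right ?_ e2 h
    rw [e1, Category.assoc, hij]
    exact big.flip
  have h1 := hf' qΩ TΩ cΩ sndΩ (by rw [hqΩ]; exact sqV.flip)
  exact (finiteOfDegLE_baseChange_iff (isField_of q.K) (isField_of Ω) c.left j.left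
    (pullback.snd c.left j.left) (pullback.fst c.left j.left)
    (IsPullback.of_hasPullback c.left j.left).flip n).2 h1


/-- Fibres of `|U| ⟶ |X|` have at most `n` points (S10428). -/
theorem encard_fibre_le {X : Sp S} (hX : IsAlgSpace X) {U : Over S} (φ : (yon S).obj U ⟶ X)
    {n : ℕ} (h : W4dec.DegFibresLE n φ) (x : Points X) :
    (Points.ofPt φ ⁻¹' {x}).encard ≤ n := by
  rw [degFibresLE_iff] at h
  induction x using Points.ind with
  | h q =>
  have hrep := hX.representable_from_yon φ
  have sq := hrep.isPullback' q.toHom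
  have h1 := h q _ (hrep.snd q.toHom) _ sq.flip
  obtain ⟨hfin, hcard⟩ := finite_and_card_le_of_finiteOfDegLE (isField_of q.K) _ n h1
  have hsub : Points.ofPt φ ⁻¹' {Points.mk q} ⊆ Set.range (hrep.fst' q.toHom).left := by
    intro u hu
    rw [Set.mem_preimage, Set.mem_singleton_iff] at hu
    let s : Spec (CommRingCat.of q.K) := IsLocalRing.closedPoint q.K
    have e : Points.map φ (Points.ofScheme U u) = Points.map q.toHom (Points.ofScheme q.pt s) := by
      rw [← Points.ofPt_eq_map_ofScheme, ← Points.ofPt_eq_map_ofScheme, hu, Points.ofPt_toHom]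
    obtain ⟨z, hz1, hz2⟩ := points_exists_of_isPullback sq _ _ e
    refine ⟨Points.toScheme _ z, ?_⟩
    have hz : z = Points.ofScheme _ (Points.toScheme _ z) := (Points.ofScheme_toScheme _ z).symm
    rw [hz] at hz1
    have h2 := Points.toScheme_ofPt (hrep.fst' q.toHom) (Points.toScheme _ z)
    rw [Points.ofPt_eq_map_ofScheme, hz1, Points.toScheme_ofScheme] at h2
    exact h2.symm
  calc (Points.ofPt φ ⁻¹' {Points.mk q}).encard
      ≤ (Set.range (hrep.fst' q.toHom).left).encard := Set.encard_le_encard hsub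
    _ = ((hrep.fst' q.toHom).left '' Set.univ).encard := by rw [Set.image_univ]
    _ ≤ (Set.univ : Set ↥(hrep.pullback q.toHom).left).encard := Set.encard_image_le _ _
    _ = ENat.card ↥(hrep.pullback q.toHom).left := Set.encard_univ _
    _ = (Nat.card ↥(hrep.pullback q.toHom).left : ℕ∞) := ENat.card_eq_coe_natCard _
    _ ≤ n := by exact_mod_cast hcard

end Groth.Agent.Lib.Helper24.UnivBdd
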