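import Groth.Agent.Lib.Helper6.FD6
import Groth.Agent.Lib.Helper6.BddFibCount
import Groth.Agent.Lib.Helper24.UnivBdd
import Groth.Agent.Lib.Helper14.AlgSpGeomPts
import Groth.Prelude.Def_AlgSpMor5
import Groth.Prelude.Def_AlgSpSub

/-!
# Degree stratification for a flat, separated, lfp, lqf morphism with universally bounded fibres
(helper24): scheme-level facts and the degree function on points.
-/

set_option autoImplicit false
universe u

open CategoryTheory CategoryTheory.Limits AlgebraicGeometry Opposite AlgSp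
open Groth.Agent.Lib.Helper14.AS Groth.Agent.Lib.Helper6.BddFibLib Groth.Agent.Lib.Helper6.FD
open Groth.Agent.Lib.Helper24.UnivBdd

namespace Groth.Agent.Lib.Helper24.DegStrat

variable {S : Scheme.{u}}

/-- Scheme-level consequences of a bound on fibre degrees. -/
theorem facts_of_fibreDegLE {X Y : Scheme.{u}} (f : X ⟶ Y) (n : ℕ) (h : BddFib.FibreDegLE f n) :
    (∀ s : Y, (f ⁻¹' {s}).Finite) ∧ FinFib f ∧ ∀ s, fdeg f s ≤ n := by
  have key : ∀ s : Y, IsFinite (f.fiberToSpecResidueField s) ∧
      ∀ t, (f.fiberToSpecResidueField s).finrank t ≤ n := fun s =>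
    (finiteOfDegLE_iff_finite_finrank (K := Y.residueField s) _ n).1 (h s)
  refine ⟨fun s => ?_, fun s => (key s).1, fun s => (key s).2 _⟩
  obtain ⟨hfin, -⟩ := finite_and_card_le_of_finiteOfDegLE (isField_of (Y.residueField s)) _ n (h s)
  haveI : Finite (f.fiber s) := hfin
  haveI : Finite (f ⁻¹' {s}) := Finite.of_equiv _ (f.fiberHomeo s).toEquiv
  exact Set.toFinite _

/-- The hypotheses of the stratification theorem on `w : h_W ⟶ X`. -/
structure Hyp {X : Sp S} {W : Over S} (w : (yon S).obj W ⟶ X) (n : ℕ) : Prop where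
  fl : RepWith @Flat w
  fp : RepWith @LocallyOfFinitePresentation w
  sep : RepWith @IsSeparated w
  qf : RepWith @LocallyQuasiFinite w
  bdd : W4dec.DegFibresLE n w

variable {X : Sp S} {W : Over S} {w : (yon S).obj W ⟶ X} {n : ℕ}

/-- Scheme-level facts for any represented base change of `w`. -/
theorem Hyp.base_facts (H : Hyp w n) {V Q : Over S} (g : (yon S).obj V ⟶ X)
    (fst : (yon S).obj Q ⟶ (yon S).obj W) (p : Q ⟶ V) (sq : IsPullback fst ((yon S).map p) w g) :
    Flat p.left ∧ LocallyOfFinitePresentation p.left ∧ IsSeparated p.left ∧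
      LocallyQuasiFinite p.left ∧ (∀ s, (p.left ⁻¹' {s}).Finite) ∧ FinFib p.left ∧
      ∀ s, fdeg p.left s ≤ n := by
  have h1 : Flat p.left := H.fl.property g fst p sq
  have h2 : LocallyOfFinitePresentation p.left := H.fp.property g fst p sq
  have h3 : IsSeparated p.left := H.sep.property g fst p sq
  have h4 : LocallyQuasiFinite p.left := H.qf.property g fst p sq
  have h5 := fibreDegLE_of_degFibresLE H.bdd g p fst sq.flip
  obtain ⟨a, b, c⟩ := facts_of_fibreDegLE p.left n h5
  exact ⟨h1, h2, h3, h4, a, b, c⟩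

/-- The fibre degree is compatible with base change between two represented pullbacks of `w`. -/
theorem Hyp.fdeg_eq_of_squares (H : Hyp w n) {V Q V' Q' : Over S} (g : (yon S).obj V ⟶ X)
    (fst : (yon S).obj Q ⟶ (yon S).obj W) (p : Q ⟶ V) (sq : IsPullback fst ((yon S).map p) w g)
    (g' : (yon S).obj V' ⟶ X) (fst' : (yon S).obj Q' ⟶ (yon S).obj W) (p' : Q' ⟶ V')
    (sq' : IsPullback fst' ((yon S).map p') w g') (h : V' ⟶ V) (hh : (yon S).map h ≫ g = g')
    (v' : V'.left) : fdeg p'.left v' = fdeg p.left (h.left v') := by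
  obtain ⟨hfl, -, -, -, -, hFib, -⟩ := H.base_facts g fst p sq
  have hcomm : fst' ≫ w = ((yon S).map p' ≫ (yon S).map h) ≫ g := by
    rw [sq'.w, Category.assoc, hh]
  obtain ⟨l, hl⟩ := (yon S).map_surjective (sq.lift fst' ((yon S).map p' ≫ (yon S).map h) hcomm)
  have e1 : (yon S).map l ≫ fst = fst' := by rw [hl]; exact sq.lift_fst _ _ _
  have e2 : (yon S).map l ≫ (yon S).map p = (yon S).map p' ≫ (yon S).map h := by
    rw [hl]; exact sq.lift_snd _ _ _
  have big : IsPullback ((yon S).map l ≫ fst) ((yon S).map p') w ((yon S).map h ≫ g) := by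
    rw [e1, hh]; exact sq'
  have sqL : IsPullback ((yon S).map l) ((yon S).map p') ((yon S).map p) ((yon S).map h) :=
    IsPullback.of_right big e2 sq
  have sqS := (IsPullback.of_map_of_faithful (yon S) sqL).map (Over.forget S)
  exact fdeg_of_isPullback hFib sqS v'

end Groth.Agent.Lib.Helper24.DegStrat

namespace Groth.Agent.Lib.Helper24.DegStrat

variable {S : Scheme.{u}} {X : Sp S} {W : Over S} {w : (yon S).obj W ⟶ X} {n : ℕ}

/-- The fibre degree of the chosen base change of `w` along `g : h_V ⟶ X`. -/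
noncomputable def dg (hrep : Representable w) {V : Over S} (g : (yon S).obj V ⟶ X) (v : V.left) : ℕ :=
  fdeg (hrep.snd g).left v

theorem Hyp.fdeg_eq_dg (H : Hyp w n) (hrep : Representable w) {V Q : Over S}
    (g : (yon S).obj V ⟶ X) (fst : (yon S).obj Q ⟶ (yon S).obj W) (p : Q ⟶ V)
    (sq : IsPullback fst ((yon S).map p) w g) (v : V.left) : fdeg p.left v = dg hrep g v := by
  have := H.fdeg_eq_of_squares g _ (hrep.snd g) (hrep.isPullback' g) g fst p sq (𝟙 V)
    (by rw [CategoryTheory.Functor.map_id, Category.id_comp]) v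
  exact this

theorem Hyp.dg_comp (H : Hyp w n) (hrep : Representable w) {V V' : Over S}
    (g : (yon S).obj V ⟶ X) (h : V' ⟶ V) (v' : V'.left) :
    dg hrep ((yon S).map h ≫ g) v' = dg hrep g (h.left v') :=
  H.fdeg_eq_of_squares g _ (hrep.snd g) (hrep.isPullback' g) _ _ (hrep.snd _)
    (hrep.isPullback' _) h rfl v'

theorem Hyp.dg_le (H : Hyp w n) (hrep : Representable w) {V : Over S}
    (g : (yon S).obj V ⟶ X) (v : V.left) : dg hrep g v ≤ n :=
  (H.base_facts g _ (hrep.snd g) (hrep.isPullback' g)).2.2.2.2.2.2 v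

theorem Hyp.dg_fpt_eq (H : Hyp w n) (hrep : Representable w) {K L : Type u} [Field K] [Field L]
    {strK : Spec (CommRingCat.of K) ⟶ S} {strL : Spec (CommRingCat.of L) ⟶ S}
    (a : (yon S).obj (Over.mk strK) ⟶ X) (b : (yon S).obj (Over.mk strL) ⟶ X)
    (hab : fpt a = fpt b) (s : Spec (CommRingCat.of K)) (t : Spec (CommRingCat.of L)) :
    dg hrep a s = dg hrep b t := by
  obtain ⟨Ω, _, str, i, j, hij⟩ := (fpt_eq_iff a b).1 hab
  let z : Spec (CommRingCat.of Ω) := IsLocalRing.closedPoint Ω
  have h1 := H.dg_comp hrep a i z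
  have h2 := H.dg_comp hrep b j z
  rw [hij] at h1
  have e1 : i.left z = s := Subsingleton.elim (α := Spec (CommRingCat.of K)) _ _
  have e2 : j.left z = t := Subsingleton.elim (α := Spec (CommRingCat.of L)) _ _
  rw [← e1, ← e2, ← h1, ← h2]

/-- The degree function on the points of `X`. -/
noncomputable def deg (H : Hyp w n) (hrep : Representable w) : Points X → ℕ :=
  Quotient.lift (fun q : FieldPt X => dg hrep q.toHom (IsLocalRing.closedPoint q.K))
    (fun p q hpq => by
      have h1 : Points.mk p = Points.mk q := Quotient.sound hpq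
      rw [mk_eq_fpt_toHom', mk_eq_fpt_toHom'] at h1
      exact H.dg_fpt_eq hrep _ _ h1 _ _)

theorem Hyp.deg_mk (H : Hyp w n) (hrep : Representable w) (q : FieldPt X) :
    deg H hrep (Points.mk q) = dg hrep q.toHom (IsLocalRing.closedPoint q.K) := rfl

theorem Hyp.deg_fpt (H : Hyp w n) (hrep : Representable w) {K : Type u} [Field K]
    {str : Spec (CommRingCat.of K) ⟶ S} (a : (yon S).obj (Over.mk str) ⟶ X)
    (s : Spec (CommRingCat.of K)) : deg H hrep (fpt a) = dg hrep a s := by
  change deg H hrep (Points.mk (fieldPtOfHom K str a)) = _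
  rw [H.deg_mk]
  refine H.dg_fpt_eq hrep _ _ ?_ _ _
  rw [fieldPtOfHom_toHom]

set_option backward.isDefEq.respectTransparency.types false in
theorem Hyp.deg_ofPt (H : Hyp w n) (hrep : Representable w) {V : Over S}
    (g : (yon S).obj V ⟶ X) (v : V.left) : deg H hrep (Points.ofPt g v) = dg hrep g v := by
  let m : Over.mk (V.left.fromSpecResidueField v ≫ V.hom) ⟶ V :=
    Over.homMk (V.left.fromSpecResidueField v) rfl
  have h1 : fpt ((yon S).map m ≫ g) = Points.ofPt g v := by
    rw [fpt_yon_map_comp m g]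
    congr 1
    exact Scheme.fromSpecResidueField_apply _ _
  rw [← h1, H.deg_fpt hrep _ (IsLocalRing.closedPoint (V.left.residueField v)), H.dg_comp]
  congr 1
  exact Scheme.fromSpecResidueField_apply _ _

theorem Hyp.deg_le (H : Hyp w n) (hrep : Representable w) (x : Points X) : deg H hrep x ≤ n := by
  obtain ⟨T, g, t, rfl⟩ := exists_ofPt_eq x
  rw [H.deg_ofPt]
  exact H.dg_le hrep g t

/-- Sublevel sets of the degree are closed. -/
theorem Hyp.isClosed_deg_le (H : Hyp w n) (hrep : Representable w) (r : ℕ) :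
    IsClosed {x : Points X | deg H hrep x ≤ r} := by
  rw [← isOpen_compl_iff, Points.isOpen_iff]
  intro T g
  obtain ⟨h1, h2, h3, h4, hfin, hFib, -⟩ := H.base_facts g _ (hrep.snd g) (hrep.isPullback' g)
  have hcl := isClosed_fdeg_le (hrep.snd g).left hfin hFib r
  have : Points.ofPt g ⁻¹' {x : Points X | deg H hrep x ≤ r}ᶜ =
      {s : T.left | fdeg (hrep.snd g).left s ≤ r}ᶜ := by
    ext v
    simp only [Set.mem_preimage, Set.mem_compl_iff, Set.mem_ofPred_eq]
    rw [H.deg_ofPt hrep g v]
    rfl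
  rw [this]
  exact hcl.isOpen_compl

end Groth.Agent.Lib.Helper24.DegStrat
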