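import Groth.Agent.Lib.Helper24.DescRep
set_option autoImplicit false
set_option linter.unusedSectionVars false
universe u
open CategoryTheory CategoryTheory.Limits AlgebraicGeometry Opposite

/-! Representability with a property `P` via an fppf chart and effective descent for `P`. -/

namespace Groth.Agent.Lib.Helper24.DescChart
open AlgSp Desc Groth.Agent.Lib.Helper14.AS Groth.Agent.Lib.Helper24.DescSheaf
open Groth.Agent.Lib.Helper24.DescBridge Groth.Agent.Lib.Helper24.DescRep

variable {S : Scheme.{u}}

/-- Let `q : h_U ⟶ F` be representable, flat, locally of finite presentation and surjective and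
suppose the base change of `f : G ⟶ F` along `q` is represented by `g : V ⟶ U` with `P g`. If
descent data with structure morphism in `P` are effective along fppf covers and `P` descends along
fppf covers, then `f` is representable with `P`. -/
theorem repWith_of_fppf_chart (P : MorphismProperty Scheme.{u}) [P.IsStableUnderBaseChange]
    [P.DescendsAlong (@Surjective ⊓ @Flat ⊓ @LocallyOfFinitePresentation)]
    (hdesc : ∀ ⦃X' S' : Scheme.{u}⦄ (p : X' ⟶ S'), Surjective p → Flat p →
      LocallyOfFinitePresentation p →
      ∀ D : Desc.SchDD p, P D.obj.hom → ∃ U : Over S', Nonempty ((Desc.toDD p).obj U ≅ D))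
    {F G : Sp S} (f : G ⟶ F) {U V : Over S} (q : (yon S).obj U ⟶ F)
    (hqf : RepWith @Flat q) (hql : RepWith @LocallyOfFinitePresentation q)
    (hqs : RepWith @Surjective q) (fst : (yon S).obj V ⟶ G)
    (g : V ⟶ U) (sq : IsPullback fst ((yon S).map g) f q) (hP : P g.left) :
    RepWith P f := by
  refine MorphismProperty.relative.of_exists fun T t => ?_
  obtain ⟨T', V', c, a', r, b, fstV, sqT, sqV, sqE⟩ := exists_chart_sq f q hqf.rep fst g sq t
  have hcf : Flat c.left := hqf.property t _ _ sqT
  have hcl : LocallyOfFinitePresentation c.left := hql.property t _ _ sqT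
  have hcs : Surjective c.left := hqs.property t _ _ sqT
  have hr : P r.left := P.of_isPullback (sqV.map (Over.forget S)) hP
  obtain ⟨U₀, ⟨i⟩⟩ := hdesc c.left hcs hcf hcl (ddOfSq sqE) hr
  obtain ⟨fstW, hW⟩ := exists_isPullback_of_effective f t c r fstV sqE U₀ i
  refine ⟨descObj U₀, fstW, descProj U₀, hW, ?_⟩
  change P U₀.hom
  obtain ⟨e, he⟩ := exists_iso_pullback sqE U₀ i
  refine MorphismProperty.of_pullback_snd_of_descendsAlong
    (Q := @Surjective ⊓ @Flat ⊓ @LocallyOfFinitePresentation) (g := c.left)
    ⟨⟨hcs, hcf⟩, hcl⟩ ?_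
  rw [he]
  exact (P.cancel_left_of_respectsIso _ _).2 hr

end Groth.Agent.Lib.Helper24.DescChart
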