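import Mathlib
import Groth.Prelude.Def_DescFam
import Groth.Prelude.Def_AlgSp
import Groth.Agent.Lib.Helper20.DescFamFF
set_option autoImplicit false
set_option linter.unusedSectionVars false
set_option backward.isDefEq.respectTransparency false
universe u
open CategoryTheory CategoryTheory.Limits AlgebraicGeometry Opposite

/-! # The descended functor of a descent datum for schemes

For a descent datum `D` relative to a family `u i : U i ⟶ S`, the presheaf `pre D` on `Over S`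
of "sections of `D`": compatible families of points of the `D.obj i`.  It is a sheaf for the fpqc
topology, and over any `T` mapping to some `U i` its sections are the points of `D.obj i`. -/

namespace Groth.Agent.Lib.Helper24.DescE
open Desc Groth.Agent.Lib.Helper20.DescFamFF

variable {S : Scheme.{u}} {ι : Type u} {U : ι → Scheme.{u}} {u : ∀ i, U i ⟶ S} (D : SchDDFam u)

/-- sections of the descended functor over `T` -/
structure Sec (T : Over S) : Type (u + 1) where
  s : ∀ ⦃T' : Scheme.{u}⦄ (k : T' ⟶ T.left) ⦃i : ι⦄ (x : T' ⟶ U i), k ≫ T.hom = x ≫ u i →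
    Lifts (D.obj i) x
  nat : ∀ ⦃T' T'' : Scheme.{u}⦄ (m : T'' ⟶ T') (k : T' ⟶ T.left) ⦃i : ι⦄ (x : T' ⟶ U i)
    (h : k ≫ T.hom = x ≫ u i) (k' : T'' ⟶ T.left) (x' : T'' ⟶ U i) (h' : k' ≫ T.hom = x' ≫ u i),
    m ≫ k = k' → m ≫ x = x' → (s k' x' h').1 = m ≫ (s k x h).1
  compat : ∀ ⦃T' : Scheme.{u}⦄ (k : T' ⟶ T.left) ⦃i j : ι⦄ (x : T' ⟶ U i) (y : T' ⟶ U j)
    (hx : k ≫ T.hom = x ≫ u i) (hy : k ≫ T.hom = y ≫ u j),
    D.φ x y (hx.symm.trans hy) (s k x hx) = s k y hy

variable {D}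

theorem Sec.ext' {T : Over S} {a b : Sec D T}
    (h : ∀ ⦃T' : Scheme.{u}⦄ (k : T' ⟶ T.left) ⦃i : ι⦄ (x : T' ⟶ U i) (hx : k ≫ T.hom = x ≫ u i),
      (a.s k x hx).1 = (b.s k x hx).1) : a = b := by
  cases a; cases b
  congr
  funext T' k i x hx
  exact Subtype.ext (h k x hx)

theorem Sec.s_congr {T : Over S} (a : Sec D T) {T' : Scheme.{u}} {k k' : T' ⟶ T.left} {i : ι}
    {x x' : T' ⟶ U i} (hk : k = k') (hx : x = x') (h : k ≫ T.hom = x ≫ u i)
    (h' : k' ≫ T.hom = x' ≫ u i) : (a.s k x h).1 = (a.s k' x' h').1 := by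
  subst hk hx; rfl

/-- restriction of sections -/
def Sec.map {T T' : Over S} (t : T' ⟶ T) (a : Sec D T) : Sec D T' where
  s T'' k i x h := a.s (k ≫ t.left) x (by rw [Category.assoc, Over.w t, h])
  nat T'' T''' m k i x h k' x' h' hk hx :=
    a.nat m (k ≫ t.left) x _ (k' ≫ t.left) x' _ (by rw [← hk, Category.assoc]) hx
  compat T'' k i j x y hx hy := a.compat (k ≫ t.left) x y _ _

@[simp] theorem Sec.map_s {T T' : Over S} (t : T' ⟶ T) (a : Sec D T) {T'' : Scheme.{u}}
    (k : T'' ⟶ T'.left) {i : ι} (x : T'' ⟶ U i) (h : k ≫ T'.hom = x ≫ u i) :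
    (Sec.map t a).s k x h = a.s (k ≫ t.left) x (by rw [Category.assoc, Over.w t, h]) := rfl

variable (D)

/-- the descended presheaf -/
def pre : (Over S)ᵒᵖ ⥤ Type (u + 1) where
  obj T := Sec D T.unop
  map t := ↾(Sec.map t.unop)
  map_id T := by
    ext a
    apply Sec.ext'
    intro T' k i x hx
    exact a.s_congr (Category.comp_id k) rfl _ _
  map_comp f g := by
    ext a
    apply Sec.ext'
    intro T' k i x hx
    exact a.s_congr (Category.assoc _ _ _).symm rfl _ _

variable {D}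

@[simp] theorem pre_map_apply {T T' : Over S} (t : T' ⟶ T) (a : Sec D T) :
    (pre D).map t.op a = Sec.map t a := rfl

/-- the section attached to a point of `D.obj i` -/
def ofLift {T : Over S} {i : ι} (x : T.left ⟶ U i) (hx : T.hom = x ≫ u i)
    (v : Lifts (D.obj i) x) : Sec D T where
  s T' k j y h := D.φ (k ≫ x) y (by rw [Category.assoc, ← hx, h])
    ⟨k ≫ v.1, by rw [Category.assoc, v.2]⟩
  nat T' T'' m k j y h k' y' h' hk hy := by
    refine D.φ_natural m (k ≫ x) y _ (k' ≫ x) y' (by rw [← hk, Category.assoc]) hy _ _ _ ?_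
    change k' ≫ v.1 = m ≫ k ≫ v.1
    rw [← hk, Category.assoc]
  compat T' k j j' y y' hy hy' := by rw [D.φ_comp]

/-- over a scheme mapping to `U i`, sections are points of `D.obj i` -/
def secEquiv {T : Over S} {i : ι} (x : T.left ⟶ U i) (hx : T.hom = x ≫ u i) :
    Sec D T ≃ Lifts (D.obj i) x where
  toFun a := a.s (𝟙 _) x (by rw [Category.id_comp, hx])
  invFun v := ofLift x hx v
  left_inv a := by
    apply Sec.ext'
    intro T' k j y hy
    have h1 : k ≫ T.hom = (k ≫ x) ≫ u i := by rw [Category.assoc, ← hx]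
    have e1 : (a.s k (k ≫ x) h1).1 = k ≫ (a.s (𝟙 _) x (by rw [Category.id_comp, hx])).1 :=
      a.nat k (𝟙 _) x _ k (k ≫ x) h1 (Category.comp_id k) rfl
    have e2 := a.compat k (k ≫ x) y h1 hy
    change (D.φ (k ≫ x) y _ ⟨k ≫ (a.s (𝟙 _) x _).1, _⟩).1 = _
    rw [← e2]
    exact φ_congr D rfl rfl _ _ _ _ e1.symm
  right_inv v := by
    apply Subtype.ext
    change (D.φ (𝟙 _ ≫ x) x _ ⟨𝟙 _ ≫ v.1, _⟩).1 = v.1
    rw [φ_self' D (Category.id_comp x)]
    exact Category.id_comp _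

theorem secEquiv_apply {T : Over S} {i : ι} (x : T.left ⟶ U i) (hx : T.hom = x ≫ u i)
    (a : Sec D T) : (secEquiv x hx a) = a.s (𝟙 _) x (by rw [Category.id_comp, hx]) := rfl

/-- evaluation of a section in terms of `secEquiv` -/
theorem s_eq_secEquiv {T : Over S} (a : Sec D T) {T' : Scheme.{u}} (k : T' ⟶ T.left) {i : ι}
    (x : T' ⟶ U i) (h : k ≫ T.hom = x ≫ u i) :
    a.s k x h = secEquiv (T := Over.mk (k ≫ T.hom)) x h
      (Sec.map (Over.homMk k rfl : Over.mk (k ≫ T.hom) ⟶ T) a) := by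
  apply Subtype.ext
  exact a.s_congr (Category.id_comp k).symm rfl _ _

/-- naturality of `secEquiv` -/
theorem secEquiv_map {T T' : Over S} (t : T' ⟶ T) {i : ι} (x : T.left ⟶ U i)
    (hx : T.hom = x ≫ u i) (a : Sec D T) :
    (secEquiv (t.left ≫ x) (by rw [Category.assoc, ← hx, Over.w t]) (Sec.map t a)).1 =
      t.left ≫ (secEquiv x hx a).1 := by
  change (a.s (𝟙 _ ≫ t.left) (t.left ≫ x) _).1 = t.left ≫ (a.s (𝟙 _) x _).1
  exact a.nat t.left (𝟙 _) x _ _ _ _ (by rw [Category.comp_id, Category.id_comp]) rfl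

end Groth.Agent.Lib.Helper24.DescE
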