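import Groth.Agent.Lib.Helper24.DescE9
set_option autoImplicit false
set_option linter.unusedSectionVars false
set_option backward.isDefEq.respectTransparency false
universe u
open CategoryTheory CategoryTheory.Limits AlgebraicGeometry Opposite

/-! # Essential surjectivity of pullback of descent data, given charts -/

namespace Groth.Agent.Lib.Helper24.DescE
open Desc AlgSp Groth.Agent.Lib.Helper20.DescFamFF

variable {S : Scheme.{u}} {ι : Type u} {U : ι → Scheme.{u}} {u : ∀ i, U i ⟶ S}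

/-- the canonical charts of the descended functor recover the gluing bijections -/
lemma chartOfDD_equiv_eq_iff (D : SchDDFam u) {T : Scheme.{u}} {i j : ι} (x₀ : T ⟶ U i)
    (x₁ : T ⟶ U j) (t : T ⟶ S) (h₀ : x₀ ≫ u i = t) (h₁ : x₁ ≫ u j = t)
    (n₀ : Lifts (D.obj i) x₀) (n₁ : Lifts (D.obj j) x₁) :
    (chartOfDD D i).equiv t x₀ h₀ n₀ = (chartOfDD D j).equiv t x₁ h₁ n₁ ↔
      D.φ x₀ x₁ (h₀.trans h₁.symm) n₀ = n₁ := by
  rw [chartOfDD_equiv, chartOfDD_equiv]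
  have key : secEquiv (T := Over.mk t) x₁ h₁.symm (ofLift (T := Over.mk t) x₀ h₀.symm n₀) =
      D.φ x₀ x₁ (h₀.trans h₁.symm) n₀ := by
    apply Subtype.ext
    change (D.φ (𝟙 _ ≫ x₀) x₁ _ ⟨𝟙 _ ≫ n₀.1, _⟩).1 = _
    exact φ_congr D (Category.id_comp _) rfl _ _ _ _ (Category.id_comp _)
  constructor
  · intro h
    rw [← key, h]
    exact (secEquiv (T := Over.mk t) x₁ h₁.symm).right_inv n₁
  · intro h
    apply (secEquiv (T := Over.mk t) x₁ h₁.symm).injective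
    rw [key, h]
    exact ((secEquiv (T := Over.mk t) x₁ h₁.symm).right_inv n₁).symm

section EssSurj
variable {κ : Type u} {V : κ → Scheme.{u}} {v : ∀ j, V j ⟶ S} {α : ι → κ}
  {g : ∀ i, U i ⟶ V (α i)} (W : ∀ i, g i ≫ v (α i) = u i ≫ 𝟙 S)
  (D' : SchDDFam u) (N : ∀ j, Over (V j)) (c : ∀ j, Chart (pre D') (v j ≫ 𝟙 S) (N j))

include W in
lemma W'' (i : ι) {T : Scheme.{u}} (m₀ : T ⟶ U i) :
    (m₀ ≫ g i) ≫ v (α i) ≫ 𝟙 S = m₀ ≫ u i := by
  rw [Category.comp_id, Category.assoc, W, Category.comp_id]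

/-- the comparison bijection on points -/
noncomputable def bEquiv (i : ι) {T : Scheme.{u}} (m₀ : T ⟶ U i) :
    Lifts (((pullDDFam W).obj (ddFam (pre D') (𝟙 S) v N c)).obj i) m₀ ≃ Lifts (D'.obj i) m₀ :=
  (liftsPullbackEquiv (N (α i)) (g i) m₀).trans
    (((c (α i)).equiv (m₀ ≫ u i) (m₀ ≫ g i) (W'' W i m₀)).trans
      ((chartOfDD D' i).equiv (m₀ ≫ u i) m₀ rfl).symm)

lemma bEquiv_spec (i : ι) {T : Scheme.{u}} (m₀ : T ⟶ U i)
    (n : Lifts (((pullDDFam W).obj (ddFam (pre D') (𝟙 S) v N c)).obj i) m₀) :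
    (chartOfDD D' i).equiv (m₀ ≫ u i) m₀ rfl (bEquiv W D' N c i m₀ n) =
      (c (α i)).equiv (m₀ ≫ u i) (m₀ ≫ g i) (W'' W i m₀) (liftsPullbackEquiv (N (α i)) (g i) m₀ n) := by
  unfold bEquiv
  simp only [Equiv.trans_apply, Equiv.apply_symm_apply]
  rfl

/-- **essential surjectivity of the pullback of descent data, given charts** -/
theorem nonempty_pull_iso :
    Nonempty ((pullDDFam W).obj (ddFam (pre D') (𝟙 S) v N c) ≅ D') := by
  refine ⟨isoOfEquiv (fun i T m₀ => bEquiv W D' N c i m₀) ?_ ?_⟩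
  · intro i T T' k m₀ m₀' n n' hn
    have hm : m₀' = k ≫ m₀ := by
      have e1 : n'.1 ≫ pullback.snd (N (α i)).hom (g i) = m₀' := n'.2
      have e2 : n.1 ≫ pullback.snd (N (α i)).hom (g i) = m₀ := n.2
      rw [← e1, hn, Category.assoc, e2]
    subst hm
    have e0 : k ≫ m₀ ≫ u i = (k ≫ m₀) ≫ u i := (Category.assoc _ _ _).symm
    -- both sides have the same image under the chart of `D'`
    have h1 := bEquiv_spec W D' N c i (k ≫ m₀) n'
    have h2 := bEquiv_spec W D' N c i m₀ n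
    have h3 := (c (α i)).equiv_nat (m₀ ≫ u i) (m₀ ≫ g i) (W'' W i m₀)
      (liftsPullbackEquiv (N (α i)) (g i) m₀ n) ((k ≫ m₀) ≫ u i) k e0 ((k ≫ m₀) ≫ g i)
      (W'' W i (k ≫ m₀)) (liftsPullbackEquiv (N (α i)) (g i) (k ≫ m₀) n') (by
        change n'.1 ≫ pullback.fst _ _ = k ≫ n.1 ≫ pullback.fst _ _
        rw [hn, Category.assoc])
    have h4 := (chartOfDD D' i).equiv_nat (m₀ ≫ u i) m₀ rfl (bEquiv W D' N c i m₀ n)
      ((k ≫ m₀) ≫ u i) k e0 (k ≫ m₀) rfl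
      ⟨k ≫ (bEquiv W D' N c i m₀ n).1, by rw [Category.assoc, (bEquiv W D' N c i m₀ n).2]⟩ rfl
    rw [h2, ← h3, ← h1] at h4
    exact congrArg Subtype.val (((chartOfDD D' i).equiv _ _ rfl).injective h4).symm
  · intro T i i' x₀ x₁ h n
    have ht : x₁ ≫ u i' = x₀ ≫ u i := h.symm
    rw [← chartOfDD_equiv_eq_iff D' x₀ x₁ (x₀ ≫ u i) rfl ht]
    rw [bEquiv_spec]
    -- the right-hand side
    have h1 := bEquiv_spec W D' N c i' x₁
      (((pullDDFam W).obj (ddFam (pre D') (𝟙 S) v N c)).φ x₀ x₁ h n)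
    have gen : ∀ (t : T ⟶ S) (e : x₁ ≫ u i' = t) (d : Lifts (D'.obj i') x₁)
        (m : Lifts (N (α i')) (x₁ ≫ g i')) (q : (x₁ ≫ g i') ≫ v (α i') ≫ 𝟙 S = x₁ ≫ u i'),
        (chartOfDD D' i').equiv (x₁ ≫ u i') x₁ rfl d = (c (α i')).equiv (x₁ ≫ u i') (x₁ ≫ g i') q m →
        (chartOfDD D' i').equiv t x₁ e d =
          (c (α i')).equiv t (x₁ ≫ g i') (q.trans e) m := by
      intro t e d m q hh
      subst e
      exact hh
    rw [gen (x₀ ≫ u i) ht _ _ _ h1]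
    -- unfold the pulled back gluing bijection
    symm
    have hφ : liftsPullbackEquiv (N (α i')) (g i') x₁
        (((pullDDFam W).obj (ddFam (pre D') (𝟙 S) v N c)).φ x₀ x₁ h n) =
        ddφ (pre D') (𝟙 S) v N c (x₀ ≫ g i) (x₁ ≫ g i') (pull_compat W x₀ x₁ h)
          (liftsPullbackEquiv (N (α i)) (g i) x₀ n) := by
      change liftsPullbackEquiv (N (α i')) (g i') x₁ ((liftsPullbackEquiv (N (α i')) (g i') x₁).symm _) = _
      rw [Equiv.apply_symm_apply]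
      rfl
    rw [hφ]
    exact ((ddφ_eq_iff c (x₀ ≫ g i) (x₁ ≫ g i') (pull_compat W x₀ x₁ h) (x₀ ≫ u i)
      (W'' W i x₀) ((W'' W i' x₁).trans ht) _ _).1 rfl).symm

end EssSurj

end Groth.Agent.Lib.Helper24.DescE
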