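import Groth.Agent.Lib.Helper24.DescE1
set_option autoImplicit false
set_option linter.unusedSectionVars false
set_option backward.isDefEq.respectTransparency false
universe u
open CategoryTheory CategoryTheory.Limits AlgebraicGeometry Opposite

/-! # The descended functor is an fpqc sheaf -/

namespace Groth.Agent.Lib.Helper24.DescE
open Desc Groth.Agent.Lib.Helper20.DescFamFF

variable {S : Scheme.{u}} {ι : Type u} {U : ι → Scheme.{u}} {u : ∀ i, U i ⟶ S} {D : SchDDFam u}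

/-- the object over `S` attached to a point of `T` -/
abbrev ovr {T : Over S} {T' : Scheme.{u}} (k : T' ⟶ T.left) : Over S := Over.mk (k ≫ T.hom)

/-- a point of `T` as a morphism over `S` -/
abbrev ovrHom {T : Over S} {T' : Scheme.{u}} (k : T' ⟶ T.left) : ovr k ⟶ T := Over.homMk k rfl

section Glue
variable {T : Over S} (R : Sieve T) (hR : Sieve.overEquiv T R ∈ Scheme.fpqcTopology T.left)
  (x : Presieve.FamilyOfElements (pre D) R.arrows) (hx : x.Compatible)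

lemma mem_of_pullback {T' T'' : Scheme.{u}} (k : T' ⟶ T.left) (m : T'' ⟶ T')
    (hm : (Sieve.overEquiv T R).pullback k m) : R (ovrHom (m ≫ k)) :=
  (Sieve.overEquiv_iff R (m ≫ k)).1 hm

include hx in
lemma x_compat {Z₁ Z₂ : Over S} (g₁ : Z₁ ⟶ T) (g₂ : Z₂ ⟶ T) (hg₁ : R g₁) (hg₂ : R g₂)
    {T'' : Scheme.{u}} (a₁ : T'' ⟶ Z₁.left) (a₂ : T'' ⟶ Z₂.left)
    (e : a₁ ≫ g₁.left = a₂ ≫ g₂.left) {i : ι} (y : T'' ⟶ U i) (h₁ : a₁ ≫ Z₁.hom = y ≫ u i)
    (h₂ : a₂ ≫ Z₂.hom = y ≫ u i) :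
    ((x g₁ hg₁).s a₁ y h₁).1 = ((x g₂ hg₂).s a₂ y h₂).1 := by
  have e12 : a₂ ≫ Z₂.hom = a₁ ≫ Z₁.hom := by
    rw [← Over.w g₂, ← Over.w g₁, ← Category.assoc, ← Category.assoc, e]
  let b₁ : ovr a₁ ⟶ Z₁ := ovrHom a₁
  let b₂ : ovr a₁ ⟶ Z₂ := Over.homMk a₂ e12
  have hb : b₁ ≫ g₁ = b₂ ≫ g₂ := by
    ext1
    exact e
  have key := hx b₁ b₂ hg₁ hg₂ hb
  have key' : Sec.map b₁ (x g₁ hg₁) = Sec.map b₂ (x g₂ hg₂) := key
  have h3 : (𝟙 T'' : T'' ⟶ (ovr a₁).left) ≫ (ovr a₁).hom = y ≫ u i := by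
    change 𝟙 _ ≫ a₁ ≫ Z₁.hom = _
    rw [Category.id_comp, h₁]
  have := congrArg (fun a => (a.s (𝟙 T'' : T'' ⟶ (ovr a₁).left) y h3).1) key'
  simp only [Sec.map_s] at this
  refine (Sec.s_congr _ ?_ rfl _ _).trans (this.trans (Sec.s_congr _ ?_ rfl _ _))
  · exact (Category.id_comp _).symm
  · exact Category.id_comp _

/-- the local pieces of the glued section -/
noncomputable def piece {T' : Scheme.{u}} (k : T' ⟶ T.left) {i : ι} (y : T' ⟶ U i)
    (h : k ≫ T.hom = y ≫ u i) ⦃T'' : Scheme.{u}⦄ (m : T'' ⟶ T')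
    (hm : (Sieve.overEquiv T R).pullback k m) : Lifts (D.obj i) (m ≫ y) :=
  (x (ovrHom (m ≫ k)) (mem_of_pullback R k m hm)).s (𝟙 _) (m ≫ y) (by
    change 𝟙 _ ≫ (m ≫ k) ≫ T.hom = _
    rw [Category.id_comp, Category.assoc, h, Category.assoc])

include hx in
/-- a piece in terms of any member of the sieve through which the point factors -/
lemma piece_eq {T' : Scheme.{u}} (k : T' ⟶ T.left) {i : ι} (y : T' ⟶ U i)
    (h : k ≫ T.hom = y ≫ u i) ⦃T'' : Scheme.{u}⦄ (m : T'' ⟶ T')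
    (hm : (Sieve.overEquiv T R).pullback k m) {Z : Over S} (g : Z ⟶ T) (hg : R g)
    (a : T'' ⟶ Z.left) (e : a ≫ g.left = m ≫ k) (h' : a ≫ Z.hom = (m ≫ y) ≫ u i) :
    (piece R x k y h m hm).1 = ((x g hg).s a (m ≫ y) h').1 := by
  unfold piece
  refine x_compat R x hx (ovrHom (m ≫ k)) g (mem_of_pullback R k m hm) hg (𝟙 _) a ?_ (m ≫ y) _ h'
  rw [e]
  exact Category.id_comp _

include hx in
lemma piece_compat {T' : Scheme.{u}} (k : T' ⟶ T.left) {i : ι} (y : T' ⟶ U i)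
    (h : k ≫ T.hom = y ≫ u i) ⦃T₁ T₂ T₃ : Scheme.{u}⦄ (k₁ : T₃ ⟶ T₁) (k₂ : T₃ ⟶ T₂)
    (m₁ : T₁ ⟶ T') (m₂ : T₂ ⟶ T') (hm₁ : (Sieve.overEquiv T R).pullback k m₁)
    (hm₂ : (Sieve.overEquiv T R).pullback k m₂) (e : k₁ ≫ m₁ = k₂ ≫ m₂) :
    k₁ ≫ (piece R x k y h m₁ hm₁).1 = k₂ ≫ (piece R x k y h m₂ hm₂).1 := by
  have hh : ∀ ⦃T₁ : Scheme.{u}⦄ (k₁ : T₃ ⟶ T₁) (m₁ : T₁ ⟶ T')
      (hm₁ : (Sieve.overEquiv T R).pullback k m₁),
      (k₁ ≫ (ovrHom (T := T) (m₁ ≫ k)).left) ≫ T.hom = ((k₁ ≫ m₁) ≫ y) ≫ u i := by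
    intro T₁ k₁ m₁ _
    change (k₁ ≫ m₁ ≫ k) ≫ T.hom = _
    rw [Category.assoc, Category.assoc, h, Category.assoc, Category.assoc]
  have key : ∀ ⦃T₁ : Scheme.{u}⦄ (k₁ : T₃ ⟶ T₁) (m₁ : T₁ ⟶ T')
      (hm₁ : (Sieve.overEquiv T R).pullback k m₁),
      k₁ ≫ (piece R x k y h m₁ hm₁).1 =
        ((x (ovrHom (m₁ ≫ k)) (mem_of_pullback R k m₁ hm₁)).s k₁ ((k₁ ≫ m₁) ≫ y)
          (hh k₁ m₁ hm₁)).1 := by
    intro T₁ k₁ m₁ hm₁
    unfold piece
    refine ((x (ovrHom (m₁ ≫ k)) (mem_of_pullback R k m₁ hm₁)).nat k₁ (𝟙 _) (m₁ ≫ y) _ k₁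
      ((k₁ ≫ m₁) ≫ y) (hh k₁ m₁ hm₁) (Category.comp_id _) (Category.assoc _ _ _).symm).symm
  rw [key k₁ m₁ hm₁, key k₂ m₂ hm₂]
  have e' : (k₁ ≫ m₁) ≫ y = (k₂ ≫ m₂) ≫ y := by rw [e]
  refine (x_compat R x hx (ovrHom (m₁ ≫ k)) (ovrHom (m₂ ≫ k)) (mem_of_pullback R k m₁ hm₁)
    (mem_of_pullback R k m₂ hm₂) k₁ k₂ ?_ ((k₁ ≫ m₁) ≫ y) _ ?_).trans
    (Sec.s_congr _ rfl e' _ _)
  · change k₁ ≫ m₁ ≫ k = k₂ ≫ m₂ ≫ k
    rw [← Category.assoc, e, Category.assoc]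
  · rw [e']
    exact hh k₂ m₂ hm₂

include hR hx in
lemma exists_glued {T' : Scheme.{u}} (k : T' ⟶ T.left) {i : ι} (y : T' ⟶ U i)
    (h : k ≫ T.hom = y ≫ u i) :
    ∃ v : Lifts (D.obj i) y, ∀ ⦃T'' : Scheme.{u}⦄ (m : T'' ⟶ T')
      (hm : (Sieve.overEquiv T R).pullback k m), m ≫ v.1 = (piece R x k y h m hm).1 := by
  have hRk : (Sieve.overEquiv T R).pullback k ∈ Scheme.fpqcTopology T' :=
    Scheme.fpqcTopology.pullback_stable k hR
  obtain ⟨t, ht⟩ := glue _ hRk (fun T'' m hm => (piece R x k y h m hm).1)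
    (fun T₁ T₂ T₃ k₁ k₂ m₁ m₂ hm₁ hm₂ e => piece_compat R x hx k y h k₁ k₂ m₁ m₂ hm₁ hm₂ e)
  refine ⟨⟨t, ?_⟩, ht⟩
  refine sep _ hRk _ _ fun T'' m hm => ?_
  rw [← Category.assoc, ht m hm]
  exact (piece R x k y h m hm).2

/-- the glued values -/
noncomputable def gl {T' : Scheme.{u}} (k : T' ⟶ T.left) {i : ι} (y : T' ⟶ U i)
    (h : k ≫ T.hom = y ≫ u i) : Lifts (D.obj i) y := (exists_glued R hR x hx k y h).choose

lemma gl_spec {T' : Scheme.{u}} (k : T' ⟶ T.left) {i : ι} (y : T' ⟶ U i)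
    (h : k ≫ T.hom = y ≫ u i) ⦃T'' : Scheme.{u}⦄ (m : T'' ⟶ T')
    (hm : (Sieve.overEquiv T R).pullback k m) :
    m ≫ (gl R hR x hx k y h).1 = (piece R x k y h m hm).1 :=
  (exists_glued R hR x hx k y h).choose_spec m hm

/-- the glued section -/
noncomputable def glSec : Sec D T where
  s T' k i y h := gl R hR x hx k y h
  nat T' T'' m k i y h k' y' h' hk hy := by
    subst hk hy
    have hRk : (Sieve.overEquiv T R).pullback (m ≫ k) ∈ Scheme.fpqcTopology T'' :=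
      Scheme.fpqcTopology.pullback_stable _ hR
    refine sep _ hRk _ _ fun T₃ n hn => ?_
    have hn' : (Sieve.overEquiv T R).pullback k (n ≫ m) := by
      change (Sieve.overEquiv T R) ((n ≫ m) ≫ k)
      rw [Category.assoc]
      exact hn
    have hmem := mem_of_pullback R k (n ≫ m) hn'
    have e1 := gl_spec R hR x hx (m ≫ k) (m ≫ y) h' n hn
    have e2 : n ≫ m ≫ (gl R hR x hx k y h).1 = (piece R x k y h (n ≫ m) hn').1 := by
      rw [← Category.assoc]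
      exact gl_spec R hR x hx k y h (n ≫ m) hn'
    have e3 := piece_eq R x hx (m ≫ k) (m ≫ y) h' n hn (ovrHom ((n ≫ m) ≫ k)) hmem (𝟙 _)
      (by change 𝟙 _ ≫ (n ≫ m) ≫ k = _; rw [Category.id_comp, Category.assoc])
      (by
        change 𝟙 _ ≫ ((n ≫ m) ≫ k) ≫ T.hom = _
        rw [Category.id_comp, Category.assoc, h]
        simp only [Category.assoc])
    refine e1.trans (e3.trans (Eq.trans ?_ e2.symm))
    unfold piece
    exact Sec.s_congr _ rfl (Category.assoc _ _ _).symm _ _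
  compat T' k i j y y' hy hy' := by
    apply Subtype.ext
    have hRk : (Sieve.overEquiv T R).pullback k ∈ Scheme.fpqcTopology T' :=
      Scheme.fpqcTopology.pullback_stable _ hR
    refine sep _ hRk _ _ fun T₃ n hn => ?_
    rw [gl_spec R hR x hx k y' hy' n hn]
    have h1 : (D.φ (n ≫ y) (n ≫ y') (by rw [Category.assoc, Category.assoc, ← hy, ← hy'])
        (piece R x k y hy n hn)).1 = n ≫ (D.φ y y' (hy.symm.trans hy') (gl R hR x hx k y hy)).1 :=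
      D.φ_natural n y y' _ (n ≫ y) (n ≫ y') rfl rfl _ _ _ (gl_spec R hR x hx k y hy n hn).symm
    rw [← h1]
    unfold piece
    exact congrArg Subtype.val
      ((x (ovrHom (n ≫ k)) (mem_of_pullback R k n hn)).compat (𝟙 _) (n ≫ y) (n ≫ y') _ _)

include hx in
lemma glSec_isAmalgamation : x.IsAmalgamation (glSec R hR x hx) := by
  intro Y f hf
  change Sec.map f (glSec R hR x hx) = x f hf
  apply Sec.ext'
  intro T' k i y hy
  change (gl R hR x hx (k ≫ f.left) y _).1 = _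
  have hk : k ≫ f.left ≫ T.hom = y ≫ u i := by rw [Over.w f, hy]
  have htop : (Sieve.overEquiv T R).pullback (k ≫ f.left) (𝟙 T') := by
    change (Sieve.overEquiv T R) (𝟙 _ ≫ k ≫ f.left)
    rw [Category.id_comp, Sieve.overEquiv_iff]
    have e : (ovrHom (T := T) (k ≫ f.left)) =
        (Over.homMk k (by
          change k ≫ Y.hom = (k ≫ f.left) ≫ T.hom
          rw [Category.assoc, Over.w f]) : ovr (T := T) (k ≫ f.left) ⟶ Y) ≫ f := by
      ext1; rfl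
    change R.arrows (ovrHom (T := T) (k ≫ f.left))
    rw [e]
    exact R.downward_closed hf _
  have e1 := gl_spec R hR x hx (k ≫ f.left) y (by rw [Category.assoc, hk]) (𝟙 _) htop
  rw [Category.id_comp] at e1
  rw [e1]
  have e2 := piece_eq R x hx (k ≫ f.left) y (by rw [Category.assoc, hk]) (𝟙 _) htop f hf k
    (Category.id_comp _).symm (by rw [Category.id_comp]; exact hy)
  exact e2.trans (Sec.s_congr _ rfl (Category.id_comp _) _ _)

include hR in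
lemma isSeparatedFor_pre : Presieve.IsSeparatedFor (pre D) R.arrows := by
  intro x a b ha hb
  apply Sec.ext'
  intro T' k i y hy
  have hRk : (Sieve.overEquiv T R).pullback k ∈ Scheme.fpqcTopology T' :=
    Scheme.fpqcTopology.pullback_stable _ hR
  refine sep _ hRk _ _ fun T₃ n hn => ?_
  have hmem := mem_of_pullback R k n hn
  have h1 : ∀ c : Sec D T, n ≫ (c.s k y hy).1 =
      ((Sec.map (ovrHom (n ≫ k)) c).s (𝟙 _) (n ≫ y) (by
        change 𝟙 _ ≫ (n ≫ k) ≫ T.hom = _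
        rw [Category.id_comp, Category.assoc, hy, Category.assoc])).1 := by
    intro c
    rw [Sec.map_s]
    exact (c.nat n k y hy _ (n ≫ y) _ (by simp) rfl).symm
  rw [h1 a, h1 b]
  have ea : Sec.map (ovrHom (n ≫ k)) a = x _ hmem := ha _ hmem
  have eb : Sec.map (ovrHom (n ≫ k)) b = x _ hmem := hb _ hmem
  rw [ea, eb]

end Glue

variable (D) in
/-- **The descended presheaf is a sheaf for the fpqc topology on `Over S`.** -/
theorem isSheaf_pre_fpqc : Presieve.IsSheaf (Scheme.fpqcTopology.over S) (pre D) := by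
  intro T R hR
  have hR' : Sieve.overEquiv T R ∈ Scheme.fpqcTopology T.left :=
    (GrothendieckTopology.mem_over_iff _ _).1 hR
  rw [← Presieve.isSeparatedFor_and_exists_isAmalgamation_iff_isSheafFor]
  refine ⟨isSeparatedFor_pre R hR', fun x hx => ⟨glSec R hR' x hx, glSec_isAmalgamation R hR' x hx⟩⟩

variable (D) in
theorem isSheaf_pre : Presieve.IsSheaf (AlgSp.J S) (pre D) := by
  refine Presieve.isSheaf_of_le _ ?_ (isSheaf_pre_fpqc D)
  intro T R hR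
  rw [GrothendieckTopology.mem_over_iff] at hR ⊢
  exact Scheme.fppfTopology_le_fpqcTopology _ hR

variable (D) in
/-- the descended sheaf -/
def E : AlgSp.Sp S := ⟨pre D, (isSheaf_iff_isSheaf_of_type _ _).2 (isSheaf_pre D)⟩

end Groth.Agent.Lib.Helper24.DescE
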