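import Groth.Agent.Lib.Helper24.DescE2
set_option autoImplicit false
set_option linter.unusedSectionVars false
set_option backward.isDefEq.respectTransparency false
universe u
open CategoryTheory CategoryTheory.Limits AlgebraicGeometry Opposite

/-! # Charts of a presheaf on `Over S` and the induced descent data -/

namespace Groth.Agent.Lib.Helper24.DescE
open Desc Groth.Agent.Lib.Helper20.DescFamFF

variable {S : Scheme.{u}}

section Chart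
variable (F : (Over S)ᵒᵖ ⥤ Type (u + 1))

/-- the morphism over `S` attached to a point of `N` -/
abbrev liftHom {V : Scheme.{u}} (v : V ⟶ S) (N : Over V) {T : Scheme.{u}} (t : T ⟶ S)
    (m₀ : T ⟶ V) (hm : m₀ ≫ v = t) (n : Lifts N m₀) : Over.mk t ⟶ Over.mk (N.hom ≫ v) :=
  Over.homMk n.1 (by
    change n.1 ≫ N.hom ≫ v = t
    rw [← Category.assoc, n.2, hm])

/-- a chart of `F` over `v : V ⟶ S`: a scheme `N` over `V` representing `F ×_S V` -/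
structure Chart {V : Scheme.{u}} (v : V ⟶ S) (N : Over V) where
  ξ : F.obj (op (Over.mk (N.hom ≫ v)))
  bij : ∀ ⦃T : Scheme.{u}⦄ (t : T ⟶ S) (m₀ : T ⟶ V) (hm : m₀ ≫ v = t),
    Function.Bijective (fun n : Lifts N m₀ => F.map (liftHom v N t m₀ hm n).op ξ)

variable {F}

/-- the bijection of a chart -/
noncomputable def Chart.equiv {V : Scheme.{u}} {v : V ⟶ S} {N : Over V} (c : Chart F v N)
    {T : Scheme.{u}} (t : T ⟶ S) (m₀ : T ⟶ V) (hm : m₀ ≫ v = t) :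
    Lifts N m₀ ≃ F.obj (op (Over.mk t)) :=
  Equiv.ofBijective _ (c.bij t m₀ hm)

lemma Chart.equiv_apply {V : Scheme.{u}} {v : V ⟶ S} {N : Over V} (c : Chart F v N)
    {T : Scheme.{u}} (t : T ⟶ S) (m₀ : T ⟶ V) (hm : m₀ ≫ v = t) (n : Lifts N m₀) :
    c.equiv t m₀ hm n = F.map (liftHom v N t m₀ hm n).op c.ξ := rfl

/-- naturality of the chart bijection -/
lemma Chart.equiv_nat {V : Scheme.{u}} {v : V ⟶ S} {N : Over V} (c : Chart F v N)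
    {T T' : Scheme.{u}} (t : T ⟶ S) (m₀ : T ⟶ V) (hm : m₀ ≫ v = t) (n : Lifts N m₀)
    (t' : T' ⟶ S) (g : T' ⟶ T) (hg : g ≫ t = t') (m₀' : T' ⟶ V) (hm' : m₀' ≫ v = t')
    (n' : Lifts N m₀') (hn : n'.1 = g ≫ n.1) :
    c.equiv t' m₀' hm' n' = F.map (Over.homMk g hg : Over.mk t' ⟶ Over.mk t).op
      (c.equiv t m₀ hm n) := by
  rw [Chart.equiv_apply, Chart.equiv_apply, ← Functor.map_comp_apply, ← op_comp]
  have e : liftHom v N t' m₀' hm' n' =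
      (Over.homMk g hg : Over.mk t' ⟶ Over.mk t) ≫ liftHom v N t m₀ hm n := by
    ext1
    exact hn
  rw [e]

/-- transport of a chart along an equality of structure morphisms -/
def Chart.cast {V : Scheme.{u}} {v v' : V ⟶ S} {N : Over V} (h : v = v') (c : Chart F v N) :
    Chart F v' N := h ▸ c

end Chart

section DD
variable (F : (Over S)ᵒᵖ ⥤ Type (u + 1)) {B : Scheme.{u}} (o : B ⟶ S) {κ : Type u}
  {V : κ → Scheme.{u}} (v : ∀ j, V j ⟶ B) (N : ∀ j, Over (V j))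
  (c : ∀ j, Chart F (v j ≫ o) (N j))

/-- the gluing bijections induced by charts -/
noncomputable def ddφ {T : Scheme.{u}} {j j' : κ} (x₀ : T ⟶ V j) (x₁ : T ⟶ V j')
    (h : x₀ ≫ v j = x₁ ≫ v j') : Lifts (N j) x₀ ≃ Lifts (N j') x₁ :=
  ((c j).equiv (x₀ ≫ v j ≫ o) x₀ rfl).trans
    ((c j').equiv (x₀ ≫ v j ≫ o) x₁ (by rw [← Category.assoc, ← h, Category.assoc])).symm

variable {F o v N}

lemma ddφ_eq_iff {T : Scheme.{u}} {j j' : κ} (x₀ : T ⟶ V j) (x₁ : T ⟶ V j')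
    (h : x₀ ≫ v j = x₁ ≫ v j') (t : T ⟶ S) (h₀ : x₀ ≫ v j ≫ o = t) (h₁ : x₁ ≫ v j' ≫ o = t)
    (n₀ : Lifts (N j) x₀) (n₁ : Lifts (N j') x₁) :
    ddφ F o v N c x₀ x₁ h n₀ = n₁ ↔ (c j).equiv t x₀ h₀ n₀ = (c j').equiv t x₁ h₁ n₁ := by
  subst h₀
  unfold ddφ
  rw [Equiv.trans_apply, Equiv.symm_apply_eq]

variable (F o v N)

/-- **the descent datum induced by charts** -/
noncomputable def ddFam : SchDDFam v where
  obj := N
  φ T j j' x₀ x₁ h := ddφ F o v N c x₀ x₁ h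
  φ_natural T T' g j j' x₀ x₁ h y₀ y₁ hy₀ hy₁ h' n n' hn := by
    have key : ddφ F o v N c y₀ y₁ h' n' =
        ⟨g ≫ (ddφ F o v N c x₀ x₁ h n).1, by rw [Category.assoc, (ddφ F o v N c x₀ x₁ h n).2, hy₁]⟩ := by
      rw [ddφ_eq_iff c y₀ y₁ h' (y₀ ≫ v j ≫ o) rfl (by rw [← Category.assoc, ← h', Category.assoc])]
      have e0 : g ≫ x₀ ≫ v j ≫ o = y₀ ≫ v j ≫ o := by rw [← hy₀, Category.assoc]
      rw [(c j).equiv_nat (x₀ ≫ v j ≫ o) x₀ rfl n (y₀ ≫ v j ≫ o) g e0 y₀ rfl n' hn,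
        (c j').equiv_nat (x₀ ≫ v j ≫ o) x₁ (by rw [← Category.assoc, ← h, Category.assoc])
          (ddφ F o v N c x₀ x₁ h n) (y₀ ≫ v j ≫ o) g e0 y₁ _ _ rfl]
      congr 1
      exact ((ddφ_eq_iff c x₀ x₁ h _ rfl _ n _).1 rfl)
    exact congrArg Subtype.val key
  φ_self T j x n := by
    rw [ddφ_eq_iff c x x rfl (x ≫ v j ≫ o) rfl rfl]
  φ_comp T j j' j'' x₀ x₁ x₂ h₀₁ h₁₂ n := by
    have h1 : x₁ ≫ v j' ≫ o = x₀ ≫ v j ≫ o := by rw [← Category.assoc, ← h₀₁, Category.assoc]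
    have h2 : x₂ ≫ v j'' ≫ o = x₀ ≫ v j ≫ o := by
      rw [← Category.assoc, ← h₁₂, ← h₀₁, Category.assoc]
    symm
    rw [ddφ_eq_iff c x₀ x₂ _ (x₀ ≫ v j ≫ o) rfl h2]
    have e1 := (ddφ_eq_iff c x₀ x₁ h₀₁ (x₀ ≫ v j ≫ o) rfl h1 n _).1 rfl
    have e2 := (ddφ_eq_iff c x₁ x₂ h₁₂ (x₀ ≫ v j ≫ o) h1 h2 (ddφ F o v N c x₀ x₁ h₀₁ n) _).1 rfl
    exact e1.trans e2

@[simp] lemma ddFam_obj (j : κ) : (ddFam F o v N c).obj j = N j := rfl

lemma ddFam_φ {T : Scheme.{u}} {j j' : κ} (x₀ : T ⟶ V j) (x₁ : T ⟶ V j')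
    (h : x₀ ≫ v j = x₁ ≫ v j') : (ddFam F o v N c).φ x₀ x₁ h = ddφ F o v N c x₀ x₁ h := rfl

end DD

section Iso
variable {κ : Type u} {B : Scheme.{u}} {V : κ → Scheme.{u}} {v : ∀ j, V j ⟶ B}

/-- an isomorphism of descent data from isomorphisms of the members -/
def isoMk {D D' : SchDDFam v} (e : ∀ j, D.obj j ≅ D'.obj j)
    (comm : ∀ ⦃T : Scheme.{u}⦄ ⦃j j' : κ⦄ (x₀ : T ⟶ V j) (x₁ : T ⟶ V j')
      (h : x₀ ≫ v j = x₁ ≫ v j') (n : Lifts (D.obj j) x₀) (w : Lifts (D'.obj j) x₀),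
      w.1 = n.1 ≫ (e j).hom.left → (D'.φ x₀ x₁ h w).1 = (D.φ x₀ x₁ h n).1 ≫ (e j').hom.left) :
    D ≅ D' where
  hom := ⟨fun j => (e j).hom, comm⟩
  inv := ⟨fun j => (e j).inv, fun T j j' x₀ x₁ h n w hw => by
    have hn : n.1 = w.1 ≫ (e j).hom.left := by
      rw [hw, Category.assoc, ← Over.comp_left, Iso.inv_hom_id, Over.id_left, Category.comp_id]
    have := comm x₀ x₁ h w n hn
    rw [this, Category.assoc, ← Over.comp_left, Iso.hom_inv_id, Over.id_left, Category.comp_id]⟩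
  hom_inv_id := by
    apply SchDDFam.hom_ext
    funext j
    exact (e j).hom_inv_id
  inv_hom_id := by
    apply SchDDFam.hom_ext
    funext j
    exact (e j).inv_hom_id

/-- an isomorphism over `V` from a natural bijection on points -/
noncomputable def overIsoOfEquiv {V : Scheme.{u}} (A A' : Over V)
    (b : ∀ ⦃T : Scheme.{u}⦄ (m₀ : T ⟶ V), Lifts A m₀ ≃ Lifts A' m₀)
    (nat : ∀ ⦃T T' : Scheme.{u}⦄ (g : T' ⟶ T) (m₀ : T ⟶ V) (m₀' : T' ⟶ V) (n : Lifts A m₀)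
      (n' : Lifts A m₀'), n'.1 = g ≫ n.1 → (b m₀' n').1 = g ≫ (b m₀ n).1) : A ≅ A' where
  hom := Over.homMk (b A.hom ⟨𝟙 _, Category.id_comp _⟩).1 (b A.hom ⟨𝟙 _, Category.id_comp _⟩).2
  inv := Over.homMk ((b A'.hom).symm ⟨𝟙 _, Category.id_comp _⟩).1
    ((b A'.hom).symm ⟨𝟙 _, Category.id_comp _⟩).2
  hom_inv_id := by
    ext1
    change (b A.hom ⟨𝟙 _, Category.id_comp _⟩).1 ≫ ((b A'.hom).symm ⟨𝟙 _, Category.id_comp _⟩).1 = 𝟙 _
    set β := b A.hom ⟨𝟙 _, Category.id_comp _⟩ with hβ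
    set γ := (b A'.hom).symm ⟨𝟙 _, Category.id_comp _⟩ with hγ
    have h1 : (b A.hom ⟨β.1 ≫ γ.1, by rw [Category.assoc, γ.2, β.2]⟩).1 = β.1 ≫ (b A'.hom γ).1 :=
      nat β.1 A'.hom A.hom γ _ rfl
    rw [hγ, Equiv.apply_symm_apply, Category.comp_id] at h1
    have h2 : b A.hom ⟨β.1 ≫ γ.1, by rw [Category.assoc, γ.2, β.2]⟩ = β := Subtype.ext h1
    rw [hβ] at h2
    exact congrArg Subtype.val ((b A.hom).injective h2)
  inv_hom_id := by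
    ext1
    change ((b A'.hom).symm ⟨𝟙 _, Category.id_comp _⟩).1 ≫ (b A.hom ⟨𝟙 _, Category.id_comp _⟩).1 = 𝟙 _
    set γ := (b A'.hom).symm ⟨𝟙 _, Category.id_comp _⟩ with hγ
    have h1 : (b A'.hom γ).1 = γ.1 ≫ (b A.hom ⟨𝟙 _, Category.id_comp _⟩).1 :=
      nat γ.1 A.hom A'.hom ⟨𝟙 _, Category.id_comp _⟩ γ (Category.comp_id _).symm
    rw [← h1, hγ, Equiv.apply_symm_apply]

lemma overIsoOfEquiv_hom {V : Scheme.{u}} (A A' : Over V)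
    (b : ∀ ⦃T : Scheme.{u}⦄ (m₀ : T ⟶ V), Lifts A m₀ ≃ Lifts A' m₀)
    (nat : ∀ ⦃T T' : Scheme.{u}⦄ (g : T' ⟶ T) (m₀ : T ⟶ V) (m₀' : T' ⟶ V) (n : Lifts A m₀)
      (n' : Lifts A m₀'), n'.1 = g ≫ n.1 → (b m₀' n').1 = g ≫ (b m₀ n).1)
    {T : Scheme.{u}} (m₀ : T ⟶ V) (n : Lifts A m₀) :
    n.1 ≫ (overIsoOfEquiv A A' b nat).hom.left = (b m₀ n).1 :=
  (nat n.1 A.hom m₀ ⟨𝟙 _, Category.id_comp _⟩ n (Category.comp_id _).symm).symm

/-- **an isomorphism of descent data from natural bijections on points compatible with the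
gluing bijections** -/
noncomputable def isoOfEquiv {D D' : SchDDFam v}
    (b : ∀ (j : κ) ⦃T : Scheme.{u}⦄ (m₀ : T ⟶ V j), Lifts (D.obj j) m₀ ≃ Lifts (D'.obj j) m₀)
    (nat : ∀ (j : κ) ⦃T T' : Scheme.{u}⦄ (g : T' ⟶ T) (m₀ : T ⟶ V j) (m₀' : T' ⟶ V j)
      (n : Lifts (D.obj j) m₀) (n' : Lifts (D.obj j) m₀'), n'.1 = g ≫ n.1 →
      (b j m₀' n').1 = g ≫ (b j m₀ n).1)
    (comm : ∀ ⦃T : Scheme.{u}⦄ ⦃j j' : κ⦄ (x₀ : T ⟶ V j) (x₁ : T ⟶ V j')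
      (h : x₀ ≫ v j = x₁ ≫ v j') (n : Lifts (D.obj j) x₀),
      D'.φ x₀ x₁ h (b j x₀ n) = b j' x₁ (D.φ x₀ x₁ h n)) : D ≅ D' :=
  isoMk (fun j => overIsoOfEquiv (D.obj j) (D'.obj j) (b j) (nat j))
    (fun T j j' x₀ x₁ h n w hw => by
      have e1 : w = b j x₀ n := Subtype.ext (by rw [hw, overIsoOfEquiv_hom])
      rw [e1, comm, overIsoOfEquiv_hom])

end Iso

end Groth.Agent.Lib.Helper24.DescE
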