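import Groth.Agent.Lib.Helper24.DescE3
set_option autoImplicit false
set_option linter.unusedSectionVars false
set_option backward.isDefEq.respectTransparency false
universe u
open CategoryTheory CategoryTheory.Limits AlgebraicGeometry Opposite

/-! # Charts of the descended functor; effectiveness from representability -/

namespace Groth.Agent.Lib.Helper24.DescE
open Desc Groth.Agent.Lib.Helper20.DescFamFF

variable {S : Scheme.{u}} {ι : Type u} {U : ι → Scheme.{u}} {u : ∀ i, U i ⟶ S} {D : SchDDFam u}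

lemma map_ofLift {T T' : Over S} (t : T' ⟶ T) {i : ι} (x : T.left ⟶ U i) (hx : T.hom = x ≫ u i)
    (n : Lifts (D.obj i) x) (x' : T'.left ⟶ U i) (hx' : T'.hom = x' ≫ u i)
    (n' : Lifts (D.obj i) x') (hxx : x' = t.left ≫ x) (hn : n'.1 = t.left ≫ n.1) :
    Sec.map t (ofLift x hx n) = ofLift x' hx' n' := by
  apply Sec.ext'
  intro T'' k j y hy
  change (D.φ ((k ≫ t.left) ≫ x) y _ ⟨(k ≫ t.left) ≫ n.1, _⟩).1 =
    (D.φ (k ≫ x') y _ ⟨k ≫ n'.1, _⟩).1
  refine φ_congr D ?_ rfl _ _ _ _ ?_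
  · rw [hxx, Category.assoc]
  · change (k ≫ t.left) ≫ n.1 = k ≫ n'.1
    rw [hn, Category.assoc]

variable (D) in
/-- the canonical chart of the descended functor over `U i` -/
def chartOfDD (i : ι) : Chart (pre D) (u i) (D.obj i) where
  ξ := ofLift (T := Over.mk ((D.obj i).hom ≫ u i)) (D.obj i).hom rfl ⟨𝟙 _, Category.id_comp _⟩
  bij T t m₀ hm := by
    have key : (fun n : Lifts (D.obj i) m₀ => (pre D).map (liftHom (u i) (D.obj i) t m₀ hm n).op
        (ofLift (T := Over.mk ((D.obj i).hom ≫ u i)) (D.obj i).hom rfl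
          ⟨𝟙 _, Category.id_comp _⟩)) =
        (secEquiv (T := Over.mk t) m₀ hm.symm).symm := by
      funext n
      change Sec.map _ _ = ofLift (T := Over.mk t) m₀ hm.symm n
      refine map_ofLift _ _ _ _ _ _ _ ?_ ?_
      · exact n.2.symm
      · exact (Category.comp_id _).symm
    rw [key]
    exact (secEquiv (T := Over.mk t) m₀ hm.symm).symm.bijective

lemma chartOfDD_equiv (i : ι) {T : Scheme.{u}} (t : T ⟶ S) (m₀ : T ⟶ U i) (hm : m₀ ≫ u i = t)
    (n : Lifts (D.obj i) m₀) :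
    (chartOfDD D i).equiv t m₀ hm n = ofLift (T := Over.mk t) m₀ hm.symm n := by
  rw [Chart.equiv_apply]
  change Sec.map (liftHom (u i) (D.obj i) t m₀ hm n)
    (ofLift (T := Over.mk ((D.obj i).hom ≫ u i)) (D.obj i).hom rfl ⟨𝟙 _, Category.id_comp _⟩) =
      ofLift (T := Over.mk t) m₀ hm.symm n
  refine map_ofLift _ _ _ _ _ _ _ ?_ ?_
  · exact n.2.symm
  · exact (Category.comp_id _).symm

section Eff
variable (W : Over S)
  (ψ : ∀ T : Over S, (T ⟶ W) ≃ Sec D T)
  (hψ : ∀ ⦃T T' : Over S⦄ (t : T' ⟶ T) (w : T ⟶ W), ψ T' (t ≫ w) = Sec.map t (ψ T w))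

/-- points of `U i ×_S W` over `m₀` are morphisms to `W` over `S` -/
noncomputable def liftsCanEquiv (i : ι) {T : Scheme.{u}} (m₀ : T ⟶ U i) :
    Lifts (((toDDFam u).obj W).obj i) m₀ ≃ (Over.mk (m₀ ≫ u i) ⟶ W) where
  toFun n := Over.homMk (n.1 ≫ pullback.snd (u i) W.hom) (by
    have e : n.1 ≫ pullback.fst (u i) W.hom = m₀ := n.2
    change (n.1 ≫ pullback.snd (u i) W.hom) ≫ W.hom = m₀ ≫ u i
    rw [Category.assoc, ← pullback.condition, ← Category.assoc, e])
  invFun w := ⟨pullback.lift m₀ w.left (Over.w w).symm, pullback.lift_fst _ _ _⟩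
  left_inv n := by
    apply Subtype.ext
    apply pullback.hom_ext
    · rw [pullback.lift_fst]; exact n.2.symm
    · rw [pullback.lift_snd]; rfl
  right_inv w := by
    ext1
    exact pullback.lift_snd _ _ _

include hψ in
/-- **effectiveness from representability of the descended functor** -/
theorem nonempty_iso_toDDFam : Nonempty ((toDDFam u).obj W ≅ D) := by
  refine ⟨isoOfEquiv (fun i T m₀ => (liftsCanEquiv W i m₀).trans
    ((ψ (Over.mk (m₀ ≫ u i))).trans (secEquiv (T := Over.mk (m₀ ≫ u i)) m₀ rfl))) ?_ ?_⟩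
  · intro i T T' g m₀ m₀' n n' hn
    have hm : m₀' = g ≫ m₀ := by
      have e1 : n'.1 ≫ pullback.fst (u i) W.hom = m₀' := n'.2
      have e2 : n.1 ≫ pullback.fst (u i) W.hom = m₀ := n.2
      rw [← e1, hn, Category.assoc, e2]
    subst hm
    let t : Over.mk ((g ≫ m₀) ≫ u i) ⟶ Over.mk (m₀ ≫ u i) := Over.homMk g (Category.assoc _ _ _).symm
    have e : liftsCanEquiv W i (g ≫ m₀) n' = t ≫ liftsCanEquiv W i m₀ n := by
      ext1
      change n'.1 ≫ pullback.snd (u i) W.hom = g ≫ n.1 ≫ pullback.snd (u i) W.hom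
      rw [hn, Category.assoc]
    simp only [Equiv.trans_apply]
    rw [e, hψ]
    exact secEquiv_map t m₀ rfl _
  · intro T i j x₀ x₁ h n
    simp only [Equiv.trans_apply]
    let τ : Over.mk (x₁ ≫ u j) ⟶ Over.mk (x₀ ≫ u i) := Over.homMk (𝟙 T) (by
      change 𝟙 T ≫ x₀ ≫ u i = x₁ ≫ u j
      rw [Category.id_comp, h])
    have e : liftsCanEquiv W j x₁ (((toDDFam u).obj W).φ x₀ x₁ h n) =
        τ ≫ liftsCanEquiv W i x₀ n := by
      ext1
      change (canMapFam u W x₀ x₁ h n).1 ≫ pullback.snd (u j) W.hom =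
        𝟙 T ≫ n.1 ≫ pullback.snd (u i) W.hom
      rw [canMapFam_val, pullback.lift_snd, Category.id_comp]
    rw [e, hψ]
    set a := ψ (Over.mk (x₀ ≫ u i)) (liftsCanEquiv W i x₀ n) with ha
    apply Subtype.ext
    have e1 := congrArg Subtype.val (a.compat (𝟙 T) x₀ x₁ (by rw [Category.id_comp]; rfl)
      (by rw [Category.id_comp]; exact h))
    refine Eq.trans ?_ (e1.trans ?_)
    · rfl
    · change _ = (a.s (𝟙 T ≫ 𝟙 T) x₁ _).1
      exact a.s_congr (Category.id_comp _).symm rfl _ _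

end Eff

end Groth.Agent.Lib.Helper24.DescE
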