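import Groth.Agent.Lib.Helper24.DescE4
set_option autoImplicit false
set_option linter.unusedSectionVars false
set_option backward.isDefEq.respectTransparency false
universe u
open CategoryTheory CategoryTheory.Limits AlgebraicGeometry Opposite

/-! # Descending a chart along an fpqc covering, given effectiveness of the induced datum -/

namespace Groth.Agent.Lib.Helper24.DescE
open Desc Groth.Agent.Lib.Helper20.DescFamFF

variable {S : Scheme.{u}}

section Cov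
variable {O X : Scheme.{u}} (c : X ⟶ O)

/-- the sieve of points of `T` over `O` which lift to `X` -/
def cov {T : Scheme.{u}} (m₀ : T ⟶ O) : Sieve T where
  arrows T' k := ∃ x : T' ⟶ X, x ≫ c = k ≫ m₀
  downward_closed := by
    rintro T' T'' k ⟨x, hx⟩ g
    exact ⟨g ≫ x, by rw [Category.assoc, hx, Category.assoc]⟩

lemma cov_mem (hc : Sieve.generate (Presieve.singleton c) ∈ Scheme.fpqcTopology O)
    {T : Scheme.{u}} (m₀ : T ⟶ O) : cov c m₀ ∈ Scheme.fpqcTopology T := by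
  refine Scheme.fpqcTopology.superset_covering ?_ (Scheme.fpqcTopology.pullback_stable m₀ hc)
  rintro T' k ⟨Y, a, b, ⟨⟩, hab⟩
  exact ⟨a, hab⟩

end Cov

section Main
variable (F : (Over S)ᵒᵖ ⥤ Type (u + 1))
  {O X : Scheme.{u}} (o : O ⟶ S) (c : X ⟶ O)
  (N : Over X) (ch : Chart F (c ≫ o) N)

/-- the descent datum on a chart over a covering -/
noncomputable def ddX : SchDD c :=
  (SchDDFam.toSchDD c).obj (ddFam F o (fun _ : PUnit.{u + 1} => c) (fun _ => N) (fun _ => ch))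

lemma ddX_obj : (ddX F o c N ch).obj = N := rfl

variable {F o c N}

/-- the gluing bijection of `ddX`, with the expected types -/
noncomputable def φX {T : Scheme.{u}} (x₀ x₁ : T ⟶ X) (h : x₀ ≫ c = x₁ ≫ c) :
    Lifts N x₀ ≃ Lifts N x₁ := (ddX F o c N ch).φ x₀ x₁ h

lemma φX_eq_iff {T : Scheme.{u}} (x₀ x₁ : T ⟶ X) (h : x₀ ≫ c = x₁ ≫ c) (t : T ⟶ S)
    (h₀ : x₀ ≫ c ≫ o = t) (h₁ : x₁ ≫ c ≫ o = t) (n₀ : Lifts N x₀) (n₁ : Lifts N x₁) :
    φX ch x₀ x₁ h n₀ = n₁ ↔ ch.equiv t x₀ h₀ n₀ = ch.equiv t x₁ h₁ n₁ :=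
  ddφ_eq_iff (fun _ : PUnit.{u + 1} => ch) (j := PUnit.unit) (j' := PUnit.unit) x₀ x₁ h t h₀ h₁ n₀ n₁

variable (W : Over O) (θ : (toDD c).obj W ≅ ddX F o c N ch)

/-- the comparison map `X ×_O W ⟶ N` -/
noncomputable def θl : pullback c W.hom ⟶ N.left := θ.hom.hom.left
/-- its inverse -/
noncomputable def θr : N.left ⟶ pullback c W.hom := θ.inv.hom.left

lemma θl_hom : θl ch W θ ≫ N.hom = pullback.fst c W.hom := Over.w θ.hom.hom
lemma θr_fst : θr ch W θ ≫ pullback.fst c W.hom = N.hom := Over.w θ.inv.hom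

lemma θl_θr : θl ch W θ ≫ θr ch W θ = 𝟙 _ := by
  have := congrArg (fun f => f.hom.left) θ.hom_inv_id
  exact this

lemma θr_θl : θr ch W θ ≫ θl ch W θ = 𝟙 _ := by
  have := congrArg (fun f => f.hom.left) θ.inv_hom_id
  exact this

/-- a point of `X ×_O W` as a point of `N` -/
noncomputable def toN {Z : Scheme.{u}} (p : Z ⟶ pullback c W.hom) :
    Lifts N (p ≫ pullback.fst c W.hom) :=
  ⟨p ≫ θl ch W θ, (Category.assoc _ _ _).trans (congrArg (p ≫ ·) (θl_hom ch W θ))⟩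

lemma toN_val {Z : Scheme.{u}} (p : Z ⟶ pullback c W.hom) : (toN ch W θ p).1 = p ≫ θl ch W θ := rfl

lemma θ_comm_l {T : Scheme.{u}} (x₀ x₁ : T ⟶ X) (h : x₀ ≫ c = x₁ ≫ c)
    (p : T ⟶ pullback c W.hom) (hp : p ≫ pullback.fst c W.hom = x₀) (n : Lifts N x₀)
    (hn : n.1 = p ≫ θl ch W θ) :
    (φX ch x₀ x₁ h n).1 = pullback.lift x₁ (p ≫ pullback.snd c W.hom) (by
      rw [← h, ← hp, Category.assoc, Category.assoc, pullback.condition]) ≫ θl ch W θ := by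
  have hc := θ.hom.comm x₀ x₁ h ⟨p, hp⟩ n hn
  refine hc.trans ?_
  rfl

lemma θ_comm_r {T : Scheme.{u}} (x₀ x₁ : T ⟶ X) (h : x₀ ≫ c = x₁ ≫ c) (n : Lifts N x₀) :
    (φX ch x₀ x₁ h n).1 ≫ θr ch W θ ≫ pullback.snd c W.hom =
      n.1 ≫ θr ch W θ ≫ pullback.snd c W.hom := by
  have hc := θ.inv.comm x₀ x₁ h n ⟨n.1 ≫ θr ch W θ, by
    refine (Category.assoc _ _ _).trans ?_
    exact (congrArg (n.1 ≫ ·) (θr_fst ch W θ)).trans n.2⟩ rfl
  have hc' : pullback.lift x₁ ((n.1 ≫ θr ch W θ) ≫ pullback.snd c W.hom) (by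
      rw [Category.assoc, Category.assoc, ← pullback.condition, ← Category.assoc (θr ch W θ),
        θr_fst, ← Category.assoc, n.2, h]) = (φX ch x₀ x₁ h n).1 ≫ θr ch W θ := hc
  rw [← Category.assoc, ← hc', pullback.lift_snd, Category.assoc]

/-- two points of `X ×_O W` with the same `W`-component give the same section -/
lemma key1 {Z : Scheme.{u}} (p₁ p₂ : Z ⟶ pullback c W.hom)
    (hp : p₁ ≫ pullback.snd c W.hom = p₂ ≫ pullback.snd c W.hom) (t : Z ⟶ S)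
    (h₁ : (p₁ ≫ pullback.fst c W.hom) ≫ c ≫ o = t) (h₂ : (p₂ ≫ pullback.fst c W.hom) ≫ c ≫ o = t) :
    ch.equiv t (p₁ ≫ pullback.fst c W.hom) h₁ (toN ch W θ p₁) =
      ch.equiv t (p₂ ≫ pullback.fst c W.hom) h₂ (toN ch W θ p₂) := by
  have h : (p₁ ≫ pullback.fst c W.hom) ≫ c = (p₂ ≫ pullback.fst c W.hom) ≫ c := by
    rw [Category.assoc, Category.assoc, pullback.condition, ← Category.assoc, hp, Category.assoc]
  rw [← φX_eq_iff ch _ _ h]
  apply Subtype.ext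
  rw [θ_comm_l ch W θ _ _ h p₁ rfl (toN ch W θ p₁) rfl, toN_val]
  congr 1
  apply pullback.hom_ext
  · rw [pullback.lift_fst]
  · rw [pullback.lift_snd]; exact hp

/-- two points of `N` giving the same section have the same `W`-component -/
lemma key2 {Z : Scheme.{u}} (x₁ x₂ : Z ⟶ X) (n₁ : Lifts N x₁) (n₂ : Lifts N x₂) (t : Z ⟶ S)
    (h₁ : x₁ ≫ c ≫ o = t) (h₂ : x₂ ≫ c ≫ o = t) (h : x₁ ≫ c = x₂ ≫ c)
    (e : ch.equiv t x₁ h₁ n₁ = ch.equiv t x₂ h₂ n₂) :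
    n₁.1 ≫ θr ch W θ ≫ pullback.snd c W.hom = n₂.1 ≫ θr ch W θ ≫ pullback.snd c W.hom := by
  have e1 := (φX_eq_iff ch x₁ x₂ h t h₁ h₂ n₁ n₂).2 e
  rw [← θ_comm_r ch W θ x₁ x₂ h n₁, e1]

lemma chart_inj' {T' : Scheme.{u}} (t' : T' ⟶ S) (y₁ y₂ : T' ⟶ X) (e : y₁ = y₂)
    (n₁ : Lifts N y₁) (n₂ : Lifts N y₂) (q₁ : y₁ ≫ c ≫ o = t') (q₂ : y₂ ≫ c ≫ o = t')
    (hh : ch.equiv t' y₁ q₁ n₁ = ch.equiv t' y₂ q₂ n₂) : n₁.1 = n₂.1 := by
  subst e
  exact congrArg Subtype.val ((ch.equiv _ _ q₁).injective hh)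

section Glue
variable (hF : Presieve.IsSheaf (Scheme.fpqcTopology.over S) F)
  (hc : Sieve.generate (Presieve.singleton c) ∈ Scheme.fpqcTopology O)

/-- the covering sieve on `Over.mk t` attached to a point of `W` -/
def covOver {T : Scheme.{u}} (t : T ⟶ S) (m₀ : T ⟶ O) : Sieve (Over.mk t) :=
  (Sieve.overEquiv (Over.mk t)).symm (cov c m₀)

include hc in
lemma covOver_mem {T : Scheme.{u}} (t : T ⟶ S) (m₀ : T ⟶ O) :
    covOver (c := c) t m₀ ∈ (Scheme.fpqcTopology.over S) (Over.mk t) := by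
  rw [GrothendieckTopology.mem_over_iff]
  unfold covOver
  rw [OrderIso.apply_symm_apply]
  exact cov_mem c hc m₀

lemma covOver_iff {T : Scheme.{u}} (t : T ⟶ S) (m₀ : T ⟶ O) {Y : Over S} (f : Y ⟶ Over.mk t) :
    covOver (c := c) t m₀ f ↔ ∃ x : Y.left ⟶ X, x ≫ c = f.left ≫ m₀ :=
  Sieve.overEquiv_symm_iff _ _

variable {T : Scheme.{u}} (t : T ⟶ S) (w : T ⟶ W.left) (hw : w ≫ W.hom ≫ o = t)

/-- the point of `X ×_O W` attached to a lift -/
noncomputable def pt {Y : Over S} (f : Y ⟶ Over.mk t) (x : Y.left ⟶ X)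
    (hx : x ≫ c = f.left ≫ w ≫ W.hom) : Y.left ⟶ pullback c W.hom :=
  pullback.lift x (f.left ≫ w) (by rw [hx, Category.assoc])

include hw in
lemma pt_cond {Y : Over S} (f : Y ⟶ Over.mk t) (x : Y.left ⟶ X)
    (hx : x ≫ c = f.left ≫ w ≫ W.hom) :
    (pt W t w f x hx ≫ pullback.fst c W.hom) ≫ c ≫ o = Y.hom := by
  unfold pt
  rw [pullback.lift_fst, ← Category.assoc, hx, Category.assoc, Category.assoc, hw]
  exact Over.w f

/-- the local value of the section attached to `w` -/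
noncomputable def locVal {Y : Over S} (f : Y ⟶ Over.mk t) (x : Y.left ⟶ X)
    (hx : x ≫ c = f.left ≫ w ≫ W.hom) : F.obj (op Y) :=
  ch.equiv Y.hom _ (pt_cond W t w hw f x hx) (toN ch W θ (pt W t w f x hx))

lemma locVal_indep {Y : Over S} (f : Y ⟶ Over.mk t) (x x' : Y.left ⟶ X)
    (hx : x ≫ c = f.left ≫ w ≫ W.hom) (hx' : x' ≫ c = f.left ≫ w ≫ W.hom) :
    locVal ch W θ t w hw f x hx = locVal ch W θ t w hw f x' hx' := by
  unfold locVal
  refine key1 ch W θ _ _ ?_ _ _ _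
  unfold pt
  rw [pullback.lift_snd, pullback.lift_snd]

lemma locVal_map {Y Z : Over S} (f : Y ⟶ Over.mk t) (g : Z ⟶ Y) (x : Y.left ⟶ X)
    (hx : x ≫ c = f.left ≫ w ≫ W.hom) :
    F.map g.op (locVal ch W θ t w hw f x hx) =
      locVal ch W θ t w hw (g ≫ f) (g.left ≫ x) (by
        rw [Category.assoc, hx, Over.comp_left, Category.assoc]) := by
  unfold locVal
  have hg : g = (Over.homMk g.left (Over.w g) : Over.mk Z.hom ⟶ Over.mk Y.hom) := by
    ext1; rfl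
  conv_lhs => rw [hg]
  refine (Chart.equiv_nat ch _ _ _ _ _ g.left (Over.w g) _ _ _ ?_).symm
  rw [toN_val, toN_val]
  refine Eq.trans ?_ (Category.assoc _ _ _)
  congr 1
  unfold pt
  apply pullback.hom_ext
  · rw [pullback.lift_fst, Category.assoc, pullback.lift_fst]
  · rw [pullback.lift_snd, Category.assoc, pullback.lift_snd, Over.comp_left, Category.assoc]

/-- the family of local values -/
noncomputable def fam : Presieve.FamilyOfElements F (covOver (c := c) t (w ≫ W.hom)).arrows :=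
  fun Y f hf => locVal ch W θ t w hw f ((covOver_iff t (w ≫ W.hom) f).1 hf).choose
    ((covOver_iff t (w ≫ W.hom) f).1 hf).choose_spec

lemma fam_eq {Y : Over S} (f : Y ⟶ Over.mk t) (hf : covOver (c := c) t (w ≫ W.hom) f)
    (x : Y.left ⟶ X) (hx : x ≫ c = f.left ≫ w ≫ W.hom) :
    fam ch W θ t w hw f hf = locVal ch W θ t w hw f x hx :=
  locVal_indep ch W θ t w hw f _ _ _ _

lemma fam_compatible : (fam ch W θ t w hw).Compatible := by
  rw [Presieve.compatible_iff_sieveCompatible]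
  intro Y Z f g hf
  obtain ⟨x, hx⟩ := (covOver_iff t (w ≫ W.hom) f).1 hf
  rw [fam_eq ch W θ t w hw f hf x hx, locVal_map ch W θ t w hw f g x hx]
  exact fam_eq ch W θ t w hw (g ≫ f) _ _ _

/-- the section attached to a point of `W` -/
noncomputable def eps : F.obj (op (Over.mk t)) :=
  (hF _ (covOver_mem hc t (w ≫ W.hom))).amalgamate (fam ch W θ t w hw) (fam_compatible ch W θ t w hw)

lemma eps_spec {Y : Over S} (f : Y ⟶ Over.mk t) (x : Y.left ⟶ X)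
    (hx : x ≫ c = f.left ≫ w ≫ W.hom) :
    F.map f.op (eps ch W θ hF hc t w hw) = locVal ch W θ t w hw f x hx := by
  have hf : covOver (c := c) t (w ≫ W.hom) f := (covOver_iff t (w ≫ W.hom) f).2 ⟨x, hx⟩
  have := (hF _ (covOver_mem hc t (w ≫ W.hom))).valid_glue (fam_compatible ch W θ t w hw) f hf
  exact this.trans (fam_eq ch W θ t w hw f hf x hx)

include hF hc in
/-- separatedness of `F` along the covering sieves -/
lemma F_sep {T : Scheme.{u}} (t : T ⟶ S) (m₀ : T ⟶ O) (a b : F.obj (op (Over.mk t)))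
    (h : ∀ ⦃Y : Over S⦄ (f : Y ⟶ Over.mk t) (x : Y.left ⟶ X), x ≫ c = f.left ≫ m₀ →
      F.map f.op a = F.map f.op b) : a = b := by
  refine (hF _ (covOver_mem hc t m₀)).isSeparatedFor.ext ?_
  intro Y f hf
  obtain ⟨x, hx⟩ := (covOver_iff t m₀ f).1 hf
  exact h f x hx

/-- naturality of `eps` -/
lemma eps_nat {T T' : Scheme.{u}} (t : T ⟶ S) (w : T ⟶ W.left) (hw : w ≫ W.hom ≫ o = t)
    (g : T' ⟶ T) (t' : T' ⟶ S) (hg : g ≫ t = t') (w' : T' ⟶ W.left) (hw' : w' ≫ W.hom ≫ o = t')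
    (hww : w' = g ≫ w) :
    F.map (Over.homMk g hg : Over.mk t' ⟶ Over.mk t).op (eps ch W θ hF hc t w hw) =
      eps ch W θ hF hc t' w' hw' := by
  subst hww
  refine F_sep hF hc t' ((g ≫ w) ≫ W.hom) _ _ fun Y f x hx => ?_
  rw [eps_spec ch W θ hF hc t' (g ≫ w) hw' f x hx, ← Functor.map_comp_apply, ← op_comp,
    eps_spec ch W θ hF hc t w hw (f ≫ (Over.homMk g hg : Over.mk t' ⟶ Over.mk t)) x (by
      rw [hx, Over.comp_left]
      simp only [Over.homMk_left, Category.assoc])]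
  unfold locVal
  refine key1 ch W θ _ _ ?_ _ _ _
  unfold pt
  rw [pullback.lift_snd, pullback.lift_snd, Over.comp_left]
  simp only [Over.homMk_left, Category.assoc]

/-- the universal element of the descended chart -/
noncomputable def xiW : F.obj (op (Over.mk (W.hom ≫ o))) :=
  eps ch W θ hF hc (W.hom ≫ o) (𝟙 _) (Category.id_comp _)

lemma map_xiW {T : Scheme.{u}} (t : T ⟶ S) (m₀ : T ⟶ O) (hm : m₀ ≫ o = t) (n : Lifts W m₀) :
    F.map (liftHom o W t m₀ hm n).op (xiW ch W θ hF hc) =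
      eps ch W θ hF hc t n.1 (by rw [← Category.assoc, n.2, hm]) := by
  unfold xiW
  exact eps_nat ch W θ hF hc _ _ _ n.1 t _ n.1 _ (Category.comp_id _).symm

include hc in
lemma eps_injective {T : Scheme.{u}} (t : T ⟶ S) (m₀ : T ⟶ O) (w₁ w₂ : T ⟶ W.left)
    (h₁ : w₁ ≫ W.hom = m₀) (h₂ : w₂ ≫ W.hom = m₀) (hw₁ : w₁ ≫ W.hom ≫ o = t)
    (hw₂ : w₂ ≫ W.hom ≫ o = t)
    (e : eps ch W θ hF hc t w₁ hw₁ = eps ch W θ hF hc t w₂ hw₂) : w₁ = w₂ := by
  refine sep _ (cov_mem c hc m₀) _ _ ?_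
  rintro T' k ⟨x, hx⟩
  let f : Over.mk (k ≫ t) ⟶ Over.mk t := Over.homMk k rfl
  have hx₁ : x ≫ c = f.left ≫ w₁ ≫ W.hom := by rw [hx, h₁]; rfl
  have hx₂ : x ≫ c = f.left ≫ w₂ ≫ W.hom := by rw [hx, h₂]; rfl
  have e1 := eps_spec ch W θ hF hc t w₁ hw₁ f x hx₁
  have e2 := eps_spec ch W θ hF hc t w₂ hw₂ f x hx₂
  rw [e] at e1
  have e3 := e1.symm.trans e2
  unfold locVal at e3
  -- transport both to the base point `x`
  have hp₁ : pt W t w₁ f x hx₁ ≫ pullback.fst c W.hom = x := pullback.lift_fst _ _ _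
  have hp₂ : pt W t w₂ f x hx₂ ≫ pullback.fst c W.hom = x := pullback.lift_fst _ _ _
  have e4 := chart_inj' ch _ _ _ (hp₁.trans hp₂.symm) _ _ _ _ e3
  rw [toN_val, toN_val] at e4
  have e5 : pt W t w₁ f x hx₁ = pt W t w₂ f x hx₂ := by
    have := congrArg (· ≫ θr ch W θ) e4
    simpa only [Category.assoc, θl_θr, Category.comp_id] using this
  have e6 : pt W t w₁ f x hx₁ ≫ pullback.snd c W.hom = pt W t w₂ f x hx₂ ≫ pullback.snd c W.hom := by
    rw [e5]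
  unfold pt at e6
  rw [pullback.lift_snd, pullback.lift_snd] at e6
  exact e6

lemma chart_congr {T' : Scheme.{u}} (t' : T' ⟶ S) (y₁ y₂ : T' ⟶ X) (e : y₁ = y₂)
    (n₁ : Lifts N y₁) (n₂ : Lifts N y₂) (q₁ : y₁ ≫ c ≫ o = t') (q₂ : y₂ ≫ c ≫ o = t')
    (hn : n₁.1 = n₂.1) : ch.equiv t' y₁ q₁ n₁ = ch.equiv t' y₂ q₂ n₂ := by
  subst e
  have : n₁ = n₂ := Subtype.ext hn
  subst this
  rfl

section Surj
variable {T : Scheme.{u}} (t : T ⟶ S) (m₀ : T ⟶ O) (hm : m₀ ≫ o = t) (e : F.obj (op (Over.mk t)))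

include hm in
lemma hq {Y : Over S} (f : Y ⟶ Over.mk t) (x : Y.left ⟶ X) (hx : x ≫ c = f.left ≫ m₀) :
    x ≫ c ≫ o = Y.hom := by
  rw [← Category.assoc, hx, Category.assoc, hm]
  exact Over.w f

/-- the local point of `N` attached to a section -/
noncomputable def nfx {Y : Over S} (f : Y ⟶ Over.mk t) (x : Y.left ⟶ X)
    (hx : x ≫ c = f.left ≫ m₀) : Lifts N x :=
  (ch.equiv Y.hom x (hq t m₀ hm f x hx)).symm (F.map f.op e)

lemma equiv_nfx {Y : Over S} (f : Y ⟶ Over.mk t) (x : Y.left ⟶ X) (hx : x ≫ c = f.left ≫ m₀) :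
    ch.equiv Y.hom x (hq t m₀ hm f x hx) (nfx ch t m₀ hm e f x hx) = F.map f.op e :=
  Equiv.apply_symm_apply _ _

/-- the local point of `W` attached to a section -/
noncomputable def wfx {Y : Over S} (f : Y ⟶ Over.mk t) (x : Y.left ⟶ X)
    (hx : x ≫ c = f.left ≫ m₀) : Y.left ⟶ W.left :=
  (nfx ch t m₀ hm e f x hx).1 ≫ θr ch W θ ≫ pullback.snd c W.hom

lemma wfx_indep {Y : Over S} (f : Y ⟶ Over.mk t) (x x' : Y.left ⟶ X) (hx : x ≫ c = f.left ≫ m₀)
    (hx' : x' ≫ c = f.left ≫ m₀) : wfx ch W θ t m₀ hm e f x hx = wfx ch W θ t m₀ hm e f x' hx' := by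
  unfold wfx
  refine key2 ch W θ x x' _ _ Y.hom (hq t m₀ hm f x hx) (hq t m₀ hm f x' hx') (hx.trans hx'.symm) ?_
  rw [equiv_nfx, equiv_nfx]

lemma nfx_nat {Y Z : Over S} (f : Y ⟶ Over.mk t) (g : Z ⟶ Y) (x : Y.left ⟶ X)
    (hx : x ≫ c = f.left ≫ m₀) :
    (nfx ch t m₀ hm e (g ≫ f) (g.left ≫ x) (by
      rw [Category.assoc, hx, Over.comp_left, Category.assoc])).1 =
      g.left ≫ (nfx ch t m₀ hm e f x hx).1 := by
  have hx' : (g.left ≫ x) ≫ c = (g ≫ f).left ≫ m₀ := by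
    rw [Category.assoc, hx, Over.comp_left, Category.assoc]
  have h1 : ch.equiv Z.hom (g.left ≫ x) (hq t m₀ hm (g ≫ f) _ hx')
      ⟨g.left ≫ (nfx ch t m₀ hm e f x hx).1, by
        rw [Category.assoc, (nfx ch t m₀ hm e f x hx).2]⟩ = F.map (g ≫ f).op e := by
    have hg : g = (Over.homMk g.left (Over.w g) : Over.mk Z.hom ⟶ Over.mk Y.hom) := by
      ext1; rfl
    rw [Chart.equiv_nat ch Y.hom x (hq t m₀ hm f x hx) (nfx ch t m₀ hm e f x hx) Z.hom g.left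
      (Over.w g) (g.left ≫ x) _ _ rfl, equiv_nfx, ← hg, op_comp, Functor.map_comp_apply]
    rfl
  have h2 := equiv_nfx ch t m₀ hm e (g ≫ f) (g.left ≫ x) hx'
  exact congrArg Subtype.val ((ch.equiv Z.hom (g.left ≫ x) _).injective (h2.trans h1.symm))

lemma wfx_nat {Y Z : Over S} (f : Y ⟶ Over.mk t) (g : Z ⟶ Y) (x : Y.left ⟶ X)
    (hx : x ≫ c = f.left ≫ m₀) :
    wfx ch W θ t m₀ hm e (g ≫ f) (g.left ≫ x) (by
      rw [Category.assoc, hx, Over.comp_left, Category.assoc]) =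
      g.left ≫ wfx ch W θ t m₀ hm e f x hx := by
  unfold wfx
  rw [nfx_nat ch t m₀ hm e f g x hx, Category.assoc]

/-- the point of `T` over `S` attached to a point of `T` -/
abbrev kHom {T' : Scheme.{u}} (k : T' ⟶ T) : Over.mk (k ≫ t) ⟶ Over.mk t := Over.homMk k rfl

lemma wfx_congr_f {Y : Over S} (f f' : Y ⟶ Over.mk t) (hf : f = f') (x x' : Y.left ⟶ X)
    (hxx : x = x') (hx : x ≫ c = f.left ≫ m₀) (hx' : x' ≫ c = f'.left ≫ m₀) :
    wfx ch W θ t m₀ hm e f x hx = wfx ch W θ t m₀ hm e f' x' hx' := by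
  subst hf hxx
  rfl

lemma wfx_eq_kHom {Y : Over S} (f : Y ⟶ Over.mk t) (x : Y.left ⟶ X)
    (hx : x ≫ c = f.left ≫ m₀) :
    wfx ch W θ t m₀ hm e f x hx = wfx ch W θ t m₀ hm e (kHom t f.left) x hx := by
  let ι : Over.mk (f.left ≫ t) ⟶ Y := Over.homMk (𝟙 _) (by
    change 𝟙 _ ≫ Y.hom = f.left ≫ t
    rw [Category.id_comp]
    exact (Over.w f).symm)
  have h1 := wfx_nat ch W θ t m₀ hm e f ι x hx
  have h2 : ι.left ≫ wfx ch W θ t m₀ hm e f x hx = wfx ch W θ t m₀ hm e f x hx :=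
    Category.id_comp _
  rw [← h2, ← h1]
  refine wfx_congr_f ch W θ t m₀ hm e _ _ ?_ _ _ ?_ _ _
  · ext1
    exact Category.id_comp _
  · exact Category.id_comp _

lemma wfx_congr {T' : Scheme.{u}} (k k' : T' ⟶ T) (hk : k = k') (x x' : T' ⟶ X)
    (hx : x ≫ c = k ≫ m₀) (hx' : x' ≫ c = k' ≫ m₀) :
    wfx ch W θ t m₀ hm e (kHom t k) x hx = wfx ch W θ t m₀ hm e (kHom t k') x' hx' := by
  subst hk
  exact wfx_indep ch W θ t m₀ hm e _ _ _ _ _

include hc in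
lemma exists_w : ∃ w : T ⟶ W.left, ∀ ⦃T' : Scheme.{u}⦄ (k : T' ⟶ T) (x : T' ⟶ X)
    (hx : x ≫ c = k ≫ m₀), k ≫ w = wfx ch W θ t m₀ hm e (kHom t k) x hx := by
  obtain ⟨w, hw⟩ := glue (cov c m₀) (cov_mem c hc m₀)
    (fun T' k hk => wfx ch W θ t m₀ hm e (kHom t k) hk.choose hk.choose_spec) (by
      intro T₁ T₂ T₃ k₁ k₂ m₁ m₂ hm₁ hm₂ e12
      have h1 := wfx_nat ch W θ t m₀ hm e (kHom t m₁)
        (Over.homMk k₁ rfl : Over.mk (k₁ ≫ m₁ ≫ t) ⟶ Over.mk (m₁ ≫ t)) hm₁.choose hm₁.choose_spec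
      have h2 := wfx_nat ch W θ t m₀ hm e (kHom t m₂)
        (Over.homMk k₂ rfl : Over.mk (k₂ ≫ m₂ ≫ t) ⟶ Over.mk (m₂ ≫ t)) hm₂.choose hm₂.choose_spec
      refine h1.symm.trans (Eq.trans ?_ h2)
      rw [wfx_eq_kHom ch W θ t m₀ hm e ((Over.homMk k₁ rfl : Over.mk (k₁ ≫ m₁ ≫ t) ⟶
          Over.mk (m₁ ≫ t)) ≫ kHom t m₁),
        wfx_eq_kHom ch W θ t m₀ hm e ((Over.homMk k₂ rfl : Over.mk (k₂ ≫ m₂ ≫ t) ⟶
          Over.mk (m₂ ≫ t)) ≫ kHom t m₂)]
      exact wfx_congr ch W θ t m₀ hm e _ _ e12 _ _ _ _)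
  refine ⟨w, fun T' k x hx => ?_⟩
  rw [hw k ⟨x, hx⟩]
  exact wfx_indep ch W θ t m₀ hm e _ _ _ _ _

include hc in
lemma exists_w_hom (w : T ⟶ W.left) (hw : ∀ ⦃T' : Scheme.{u}⦄ (k : T' ⟶ T) (x : T' ⟶ X)
    (hx : x ≫ c = k ≫ m₀), k ≫ w = wfx ch W θ t m₀ hm e (kHom t k) x hx) : w ≫ W.hom = m₀ := by
  refine sep _ (cov_mem c hc m₀) _ _ ?_
  rintro T' k ⟨x, hx⟩
  rw [← Category.assoc, hw k x hx]
  unfold wfx
  rw [Category.assoc, Category.assoc, ← pullback.condition, ← Category.assoc (θr ch W θ), θr_fst,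
    ← Category.assoc, (nfx ch t m₀ hm e (kHom t k) x hx).2, hx]

end Surj

/-- **Descent of charts.** If the descent datum induced on a chart over an fpqc covering
`c : X ⟶ O` is effective, the descended scheme is a chart over `O`. -/
noncomputable def chartOfEffective : Chart F o W where
  ξ := xiW ch W θ hF hc
  bij T t m₀ hm := by
    constructor
    · intro n₁ n₂ h12
      simp only [map_xiW] at h12
      exact Subtype.ext (eps_injective ch W θ hF hc t m₀ n₁.1 n₂.1 n₁.2 n₂.2 _ _ h12)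
    · intro e
      obtain ⟨w, hw⟩ := exists_w ch W θ hc t m₀ hm e
      have hwm := exists_w_hom ch W θ hc t m₀ hm e w hw
      refine ⟨⟨w, hwm⟩, ?_⟩
      simp only [map_xiW]
      refine F_sep hF hc t m₀ _ _ fun Y f x hx => ?_
      have hx' : x ≫ c = f.left ≫ w ≫ W.hom := by rw [hx, hwm]
      rw [eps_spec ch W θ hF hc t w _ f x hx', ← equiv_nfx ch t m₀ hm e f x hx]
      unfold locVal
      have hfw : f.left ≫ w = (nfx ch t m₀ hm e f x hx).1 ≫ θr ch W θ ≫ pullback.snd c W.hom := by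
        rw [hw f.left x hx, ← wfx_eq_kHom ch W θ t m₀ hm e f x hx]
        rfl
      have hpt : pt W t w f x hx' = (nfx ch t m₀ hm e f x hx).1 ≫ θr ch W θ := by
        unfold pt
        apply pullback.hom_ext
        · rw [pullback.lift_fst, Category.assoc, θr_fst]
          exact (nfx ch t m₀ hm e f x hx).2.symm
        · rw [pullback.lift_snd, hfw, Category.assoc]
      refine chart_congr ch _ _ _ (pullback.lift_fst _ _ _) _ _ _ _ ?_
      rw [toN_val, hpt, Category.assoc, θr_θl, Category.comp_id]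

end Glue

end Main

end Groth.Agent.Lib.Helper24.DescE
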