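import Groth.Agent.Lib.Helper24.DescE5
import Groth.Agent.Lib.Helper24.ZarGlue
set_option autoImplicit false
set_option linter.unusedSectionVars false
set_option backward.isDefEq.respectTransparency false
universe u
open CategoryTheory CategoryTheory.Limits AlgebraicGeometry Opposite

/-! # Charts and pullback squares of fppf sheaves; Zariski gluing of charts -/

namespace Groth.Agent.Lib.Helper24.DescE
open Desc AlgSp Groth.Agent.Lib.Helper14.AS Groth.Agent.Lib.Helper24.ZarGlue

variable {S : Scheme.{u}} (E : Sp S)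

section ToSq
variable {V : Scheme.{u}} (v : V ⟶ S)

/-- `V` as an object over `S` -/
abbrev ovS : Over S := Over.mk v

/-- the projection `E × h_V ⟶ h_V` -/
noncomputable abbrev prV : E ⨯ (yon S).obj (ovS v) ⟶ (yon S).obj (ovS v) := prod.snd

variable {E v}
variable {O : V.Opens} {N : Over (O : Scheme.{u})} (ch : Chart E.obj (O.ι ≫ v) N)

/-- the total space of a chart over an open, over `S` -/
abbrev chTot : Over S := Over.mk (N.hom ≫ O.ι ≫ v)

/-- the structure morphism of a chart over an open -/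
abbrev chHom : chTot (v := v) (N := N) ⟶ resOpen (ovS v) O := Over.homMk N.hom rfl

/-- the map of a chart to `E × h_V` -/
noncomputable def chFst : (yon S).obj (chTot (v := v) (N := N)) ⟶ E ⨯ (yon S).obj (ovS v) :=
  prod.lift (yEquiv.symm ch.ξ) ((yon S).map (chHom ≫ resOpenι (ovS v) O))

lemma chFst_fst : chFst ch ≫ prod.fst = yEquiv.symm ch.ξ := prod.lift_fst _ _
lemma chFst_snd : chFst ch ≫ prod.snd = (yon S).map (chHom ≫ resOpenι (ovS v) O) :=
  prod.lift_snd _ _

lemma yEquiv_map_comp {T T' : Over S} (g : T' ⟶ T) (x : (yon S).obj T ⟶ E) :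
    yEquiv ((yon S).map g ≫ x) = E.obj.map g.op (yEquiv x) :=
  ((AlgSp.J S).uliftYonedaEquiv_naturality x g).symm

/-- **a chart over an open gives a pullback square** -/
theorem isPullback_of_chart :
    IsPullback (chFst ch) ((yon S).map (chHom (v := v) (N := N))) (prV E v)
      ((yon S).map (resOpenι (ovS v) O)) := by
  refine isPullback_iff_yon.2 ⟨?_, fun T x y hxy => ?_⟩
  · rw [chFst_snd, Functor.map_comp]
  · obtain ⟨y₀, rfl⟩ := (yon S).map_surjective y
    have hm : y₀.left ≫ O.ι ≫ v = T.hom := Over.w y₀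
    obtain ⟨n, hn⟩ := (ch.bij T.hom y₀.left hm).2 (yEquiv (x ≫ prod.fst))
    let z₀ : T ⟶ chTot (v := v) (N := N) := liftHom (O.ι ≫ v) N T.hom y₀.left hm n
    have hz₀ : z₀ ≫ chHom = y₀ := by
      ext1
      exact n.2
    refine ⟨(yon S).map z₀, ⟨?_, ?_⟩, ?_⟩
    · apply prod.hom_ext
      · rw [Category.assoc, chFst_fst]
        apply yEquiv.injective
        rw [yEquiv_map_comp, Equiv.apply_symm_apply]
        exact hn
      · rw [Category.assoc, chFst_snd, ← Functor.map_comp, ← Category.assoc, hz₀]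
        exact hxy.symm
    · rw [← Functor.map_comp, hz₀]
    · rintro z' ⟨h1, h2⟩
      obtain ⟨z₁, rfl⟩ := (yon S).map_surjective z'
      have h2' : z₁ ≫ chHom = y₀ := (yon S).map_injective (by rw [Functor.map_comp]; exact h2)
      let n' : Lifts N y₀.left := ⟨z₁.left, congrArg (fun m => m.left) h2'⟩
      have hn' : E.obj.map (liftHom (O.ι ≫ v) N T.hom y₀.left hm n').op ch.ξ =
          yEquiv (x ≫ prod.fst) := by
        rw [← h1, Category.assoc, chFst_fst, yEquiv_map_comp, Equiv.apply_symm_apply]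
        rfl
      have : n' = n := (ch.bij T.hom y₀.left hm).1 (hn'.trans hn.symm)
      congr 1
      ext1
      exact congrArg Subtype.val this

end ToSq

section OfIso
variable {E} {V : Scheme.{u}} {v : V ⟶ S} {U : Over S} (ρ : U ⟶ ovS v)
  (e : (yon S).obj U ≅ E ⨯ (yon S).obj (ovS v)) (he : e.hom ≫ prod.snd = (yon S).map ρ)

/-- the comparison `Over.mk (ρ.left ≫ v) ⟶ U` -/
abbrev kap : Over.mk (ρ.left ≫ v) ⟶ U := Over.homMk (𝟙 _) (by
  change 𝟙 _ ≫ U.hom = ρ.left ≫ v
  rw [Category.id_comp]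
  exact (Over.w ρ).symm)

include he in
/-- **a representing object of `E × h_V` over `h_V` is a chart** -/
noncomputable def chartOfIso : Chart E.obj v (Over.mk ρ.left) where
  ξ := E.obj.map (kap ρ).op (yEquiv (e.hom ≫ prod.fst))
  bij T t m₀ hm := by
    have hval : ∀ n : Lifts (Over.mk ρ.left) m₀,
        E.obj.map (liftHom v (Over.mk ρ.left) t m₀ hm n).op
          (E.obj.map (kap ρ).op (yEquiv (e.hom ≫ prod.fst))) =
        yEquiv ((yon S).map (liftHom v (Over.mk ρ.left) t m₀ hm n ≫ kap ρ) ≫ e.hom ≫ prod.fst) := by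
      intro n
      rw [yEquiv_map_comp, op_comp, Functor.map_comp_apply]
      rfl
    have hρ : ∀ n : Lifts (Over.mk ρ.left) m₀,
        (liftHom v (Over.mk ρ.left) t m₀ hm n ≫ kap ρ) ≫ ρ =
          (Over.homMk m₀ hm : Over.mk t ⟶ ovS v) := by
      intro n
      ext1
      change (n.1 ≫ 𝟙 _) ≫ ρ.left = m₀
      rw [Category.comp_id]
      exact n.2
    constructor
    · intro n₁ n₂ h12
      simp only [hval] at h12
      have h1 := yEquiv.injective h12
      have h2 : (yon S).map (liftHom v (Over.mk ρ.left) t m₀ hm n₁ ≫ kap ρ) ≫ e.hom =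
          (yon S).map (liftHom v (Over.mk ρ.left) t m₀ hm n₂ ≫ kap ρ) ≫ e.hom := by
        apply prod.hom_ext
        · simpa only [Category.assoc] using h1
        · rw [Category.assoc, Category.assoc, he, ← Functor.map_comp, ← Functor.map_comp, hρ, hρ]
      have h3 := (yon S).map_injective ((cancel_mono e.hom).1 h2)
      apply Subtype.ext
      have h4 := congrArg (fun m => m.left) h3
      change n₁.1 ≫ 𝟙 _ = n₂.1 ≫ 𝟙 _ at h4
      simpa only [Category.comp_id] using h4
    · intro e'
      let x : (yon S).obj (Over.mk t) ⟶ E ⨯ (yon S).obj (ovS v) :=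
        prod.lift (yEquiv.symm e') ((yon S).map (Over.homMk m₀ hm : Over.mk t ⟶ ovS v))
      obtain ⟨z₀, hz₀⟩ := (yon S).map_surjective (x ≫ e.inv)
      have hzρ : z₀ ≫ ρ = (Over.homMk m₀ hm : Over.mk t ⟶ ovS v) := by
        apply (yon S).map_injective
        rw [Functor.map_comp, hz₀, Category.assoc, ← he, Iso.inv_hom_id_assoc]
        exact prod.lift_snd _ _
      let n : Lifts (Over.mk ρ.left) m₀ := ⟨z₀.left, congrArg (fun m => m.left) hzρ⟩
      refine ⟨n, ?_⟩
      change E.obj.map (liftHom v (Over.mk ρ.left) t m₀ hm n).op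
          (E.obj.map (kap ρ).op (yEquiv (e.hom ≫ prod.fst))) = e'
      rw [hval]
      have hz : liftHom v (Over.mk ρ.left) t m₀ hm n ≫ kap ρ = z₀ := by
        ext1
        exact Category.comp_id _
      rw [hz, hz₀, Category.assoc, Iso.inv_hom_id_assoc]
      have : x ≫ prod.fst = yEquiv.symm e' := prod.lift_fst _ _
      rw [this, Equiv.apply_symm_apply]

end OfIso

/-- **Zariski gluing of charts.** If `E` has charts over the members of an open cover of `V`,
it has a chart over `V`, restricting to the given ones. -/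
theorem exists_chart_of_locally {V : Scheme.{u}} (v : V ⟶ S)
    (Q : ∀ (O : V.Opens), Over (O : Scheme.{u}) → Prop)
    (h : ∀ w : V, ∃ (O : V.Opens) (_ : w ∈ O) (N : Over (O : Scheme.{u}))
      (_ : Chart E.obj (O.ι ≫ v) N), Q O N) :
    ∃ (N : Over V) (_ : Chart E.obj v N), ∀ w : V, ∃ (O : V.Opens) (_ : w ∈ O)
      (N' : Over (O : Scheme.{u})) (j : N'.left ⟶ N.left), IsPullback j N'.hom N.hom O.ι ∧ Q O N' := by
  obtain ⟨U, ρ, e, he, hloc⟩ := exists_rep_of_locally (prV E v)
    (fun O X r => Q O (Over.mk r.left)) (fun w => by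
      obtain ⟨O, hwO, N, ch, hQ⟩ := h w
      exact ⟨O, hwO, chTot (v := v) (N := N), chHom, chFst ch, isPullback_of_chart ch, hQ⟩)
  refine ⟨Over.mk ρ.left, chartOfIso ρ e he, fun w => ?_⟩
  obtain ⟨O, hwO, X, r, fst, j, -, sq, hQ⟩ := hloc w
  exact ⟨O, hwO, Over.mk r.left, j.left, sq, hQ⟩

end Groth.Agent.Lib.Helper24.DescE
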