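import Groth.Agent.Lib.Helper24.DescE6
set_option autoImplicit false
set_option linter.unusedSectionVars false
set_option backward.isDefEq.respectTransparency false
universe u
open CategoryTheory CategoryTheory.Limits AlgebraicGeometry Opposite

/-! # Operations on charts: pullback, uniqueness; morphisms over finite coproducts -/

namespace Groth.Agent.Lib.Helper24.DescE
open Desc AlgSp

variable {S : Scheme.{u}} {F : (Over S)ᵒᵖ ⥤ Type (u + 1)}

section Pullback
variable {V V' : Scheme.{u}} {v : V ⟶ S} {N : Over V} (ch : Chart F v N) (g : V' ⟶ V)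

/-- the projection from the pulled-back chart, over `S` -/
noncomputable abbrev pbHom : Over.mk (pullback.snd N.hom g ≫ g ≫ v) ⟶ Over.mk (N.hom ≫ v) :=
  Over.homMk (pullback.fst N.hom g) (by
    change pullback.fst N.hom g ≫ N.hom ≫ v = pullback.snd N.hom g ≫ g ≫ v
    rw [← Category.assoc, pullback.condition, Category.assoc])

/-- **pullback of a chart** -/
noncomputable def Chart.pullback : Chart F (g ≫ v) (Over.mk (pullback.snd N.hom g)) where
  ξ := F.map (pbHom (v := v) (N := N) g).op ch.ξ
  bij T t m₀ hm := by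
    have key : (fun n : Lifts (Over.mk (pullback.snd N.hom g)) m₀ =>
        F.map (liftHom (g ≫ v) (Over.mk (pullback.snd N.hom g)) t m₀ hm n).op
          (F.map (pbHom (v := v) (N := N) g).op ch.ξ)) =
        (ch.equiv t (m₀ ≫ g) (by rw [Category.assoc, hm])) ∘ (liftsPullbackEquiv N g m₀) := by
      funext n
      rw [Function.comp_apply, Chart.equiv_apply]
      have e : liftHom v N t (m₀ ≫ g) (by rw [Category.assoc, hm]) (liftsPullbackEquiv N g m₀ n) =
          liftHom (g ≫ v) (Over.mk (pullback.snd N.hom g)) t m₀ hm n ≫ pbHom (v := v) (N := N) g := by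
        ext1; rfl
      rw [e, op_comp, Functor.map_comp_apply]
      rfl
    rw [key]
    exact (ch.equiv t (m₀ ≫ g) _).bijective.comp (liftsPullbackEquiv N g m₀).bijective

end Pullback

section Unique
variable {V : Scheme.{u}} {v : V ⟶ S} {N N' : Over V} (ch : Chart F v N) (ch' : Chart F v N')

/-- **two charts over the same base are isomorphic** -/
noncomputable def Chart.iso : N ≅ N' :=
  overIsoOfEquiv N N' (fun T m₀ => (ch.equiv (m₀ ≫ v) m₀ rfl).trans (ch'.equiv (m₀ ≫ v) m₀ rfl).symm)
    (fun T T' g m₀ m₀' n n' hn => by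
      have hm : m₀' = g ≫ m₀ := by rw [← n'.2, hn, Category.assoc, n.2]
      subst hm
      simp only [Equiv.trans_apply]
      have e1 := ch.equiv_nat (m₀ ≫ v) m₀ rfl n ((g ≫ m₀) ≫ v) g (Category.assoc _ _ _).symm
        (g ≫ m₀) rfl n' hn
      set a := (ch'.equiv (m₀ ≫ v) m₀ rfl).symm (ch.equiv (m₀ ≫ v) m₀ rfl n) with ha
      have e2 := ch'.equiv_nat (m₀ ≫ v) m₀ rfl a ((g ≫ m₀) ≫ v) g (Category.assoc _ _ _).symm
        (g ≫ m₀) rfl ⟨g ≫ a.1, by rw [Category.assoc, a.2]⟩ rfl
      rw [ha, Equiv.apply_symm_apply, ← e1] at e2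
      rw [← e2, Equiv.symm_apply_apply])

end Unique

section PropSec
variable (P : MorphismProperty Scheme.{u}) [P.RespectsIso]

lemma prop_of_iso {V : Scheme.{u}} {N N' : Over V} (e : N ≅ N') (h : P N.hom) : P N'.hom := by
  have : N'.hom = e.inv.left ≫ N.hom := (Over.w e.inv).symm
  rw [this]
  have : IsIso e.inv.left := inferInstanceAs (IsIso ((Over.forget V).map e.inv))
  exact (P.cancel_left_of_respectsIso _ _).2 h

/-- a morphism to a finite coproduct is the coproduct of its restrictions -/
lemma prop_of_sigma {n : ℕ} (V : Fin n → Scheme.{u}) (N : Over (∐ V))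
    (h2 : ∀ (Y : Fin n → Scheme.{u}) (q : ∀ j, Y j ⟶ V j), (∀ j, P (q j)) → P (Limits.Sigma.map q))
    (h : ∀ k, P (pullback.snd N.hom (Sigma.ι V k))) : P N.hom := by
  have hiso : IsIso (Sigma.desc (Sigma.ι V)) := by
    have : Sigma.desc (Sigma.ι V) = 𝟙 _ := by
      apply Sigma.hom_ext
      intro k
      simp
    rw [this]
    infer_instance
  have h1 := FinitaryPreExtensive.isIso_sigmaDesc_fst (Sigma.ι V) N.hom hiso
  have h3 : Sigma.desc (fun k => pullback.fst N.hom (Sigma.ι V k)) ≫ N.hom =
      Limits.Sigma.map (fun k => pullback.snd N.hom (Sigma.ι V k)) := by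
    apply Sigma.hom_ext
    intro k
    simp [pullback.condition]
  rw [← P.cancel_left_of_respectsIso (Sigma.desc (fun k => pullback.fst N.hom (Sigma.ι V k))), h3]
  exact h2 _ _ h

end PropSec

end Groth.Agent.Lib.Helper24.DescE
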