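import Groth.Agent.Lib.Helper24.DescE7
set_option autoImplicit false
set_option linter.unusedSectionVars false
set_option backward.isDefEq.respectTransparency false
universe u
open CategoryTheory CategoryTheory.Limits AlgebraicGeometry Opposite

/-! # Affine charts of the descended functor over affine opens of the base -/

namespace Groth.Agent.Lib.Helper24.DescE
open Desc AlgSp

variable {S : Scheme.{u}} {ι : Type u} {U : ι → Scheme.{u}} {u : ∀ i, U i ⟶ S}

lemma flat_of_mem_fpqc (hu : Presieve.ofArrows U u ∈ Scheme.fpqcPrecoverage S) (i : ι) :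
    Flat (u i) := by
  have h2 : Presieve.ofArrows U u ∈ Scheme.precoverage @Flat S := hu.2
  rw [Scheme.ofArrows_mem_precoverage_iff] at h2
  exact h2.2 i

lemma exists_affine_refinement (hu : Presieve.ofArrows U u ∈ Scheme.fpqcPrecoverage S)
    (O : S.Opens) (hO : IsAffineOpen O) :
    ∃ (n : ℕ) (idx : Fin n → ι) (V : ∀ k, (U (idx k)).Opens), (∀ k, IsAffineOpen (V k)) ∧
      ⋃ k, u (idx k) '' (V k) = (O : Set S) := by
  let 𝒰 : PreZeroHypercover.{u} S := ⟨ι, U, u⟩
  have h1 : 𝒰.presieve₀ ∈ Scheme.qcPrecoverage S := hu.1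
  rw [Scheme.presieve₀_mem_qcPrecoverage_iff] at h1
  exact QuasiCompactCover.exists_isAffineOpen_of_isCompact 𝒰 hO.isCompact

section Main
variable (D : SchDDFam u) (P : MorphismProperty Scheme.{u}) [P.IsStableUnderBaseChange]
  (h2 : ∀ (m : ℕ) (Y V : Fin m → Scheme.{u}) (q : ∀ j, Y j ⟶ V j), (∀ j, P (q j)) →
    P (Limits.Sigma.map q))
  (hD : ∀ i, P (D.obj i).hom)

include h2 hD in
theorem exists_affine_chart_aux {n : ℕ} (idx : Fin n → ι) (Vs : Fin n → Scheme.{u})
    (jk : ∀ k, Vs k ⟶ U (idx k)) {B : Scheme.{u}} (o : B ⟶ S) (ck : ∀ k, Vs k ⟶ B)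
    (hck : ∀ k, ck k ≫ o = jk k ≫ u (idx k)) :
    ∃ (N : Over (∐ Vs)) (_ : Chart (pre D) (Sigma.desc ck ≫ o ≫ 𝟙 S) N), P N.hom := by
  have hιc : ∀ k, Sigma.ι Vs k ≫ Sigma.desc ck = ck k := fun k => Sigma.ι_desc _ _
  let v : ∐ Vs ⟶ S := Sigma.desc ck ≫ o ≫ 𝟙 S
  have hv : ∀ k, jk k ≫ u (idx k) = Sigma.ι Vs k ≫ v := fun k => by
    simp only [v]
    rw [← Category.assoc, hιc, Category.comp_id, hck]
  let Nk : ∀ k, Over (Vs k) := fun k => Over.mk (pullback.snd (D.obj (idx k)).hom (jk k))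
  let chk : ∀ k, Chart (pre D) (Sigma.ι Vs k ≫ v) (Nk k) := fun k =>
    ((chartOfDD D (idx k)).pullback (jk k)).cast (hv k)
  have hNk : ∀ k, P (Nk k).hom := fun k => P.pullback_snd _ _ (hD (idx k))
  -- glue
  obtain ⟨N, chN, -⟩ := exists_chart_of_locally (E D) v (fun _ _ => True) (fun w => by
    obtain ⟨k, y, hy⟩ := (sigmaOpenCover Vs).exists_eq w
    have hy' : Sigma.ι Vs k y = w := hy
    let O' : (∐ Vs).Opens := (Sigma.ι Vs k).opensRange
    let e : Vs k ≅ (O' : Scheme.{u}) := (Sigma.ι Vs k).isoOpensRange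
    have he : e.inv ≫ Sigma.ι Vs k = O'.ι := (Sigma.ι Vs k).isoOpensRange_inv_comp
    refine ⟨O', ⟨y, hy'⟩, Over.mk (pullback.snd (Nk k).hom e.inv),
      ((chk k).pullback e.inv).cast ?_, trivial⟩
    rw [← Category.assoc, he])
  refine ⟨N, chN, ?_⟩
  refine prop_of_sigma P Vs N (h2 n · Vs) fun k => ?_
  exact prop_of_iso P (Chart.iso (chk k) (chN.pullback (Sigma.ι Vs k))) (hNk k)

include h2 hD in
/-- **Affine charts.** Over an affine open `O` of `S`, an fpqc covering family is refined by a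
flat surjection `c : X ⟶ O` from an affine scheme over which the descended functor has a chart
with property `P`. -/
theorem exists_affine_chart (hu : Presieve.ofArrows U u ∈ Scheme.fpqcPrecoverage S)
    (O : S.Opens) (hO : IsAffineOpen O) :
    ∃ (X : Scheme.{u}) (c : X ⟶ (O : Scheme.{u})) (N : Over X)
      (_ : Chart (pre D) (c ≫ O.ι ≫ 𝟙 S) N), IsAffine X ∧ Flat c ∧ Surjective c ∧ P N.hom := by
  obtain ⟨n, idx, V, hV, hUn⟩ := exists_affine_refinement hu O hO
  have hflat := flat_of_mem_fpqc hu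
  have hrange : ∀ k, Set.range ((V k).ι ≫ u (idx k)) ⊆ Set.range O.ι := by
    intro k
    rw [Scheme.Opens.range_ι, ← hUn]
    rintro _ ⟨x, rfl⟩
    refine Set.mem_iUnion.2 ⟨k, x.1, x.2, ?_⟩
    rw [Scheme.Hom.comp_apply]
    rfl
  have hex : ∀ k, ∃ ck : (V k : Scheme.{u}) ⟶ (O : Scheme.{u}), ck ≫ O.ι = (V k).ι ≫ u (idx k) :=
    fun k => ⟨IsOpenImmersion.lift O.ι ((V k).ι ≫ u (idx k)) (hrange k),
      IsOpenImmersion.lift_fac _ _ _⟩
  choose ck hck using hex
  have hckflat : ∀ k, Flat (ck k) := fun k => by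
    have : Flat ((V k).ι ≫ u (idx k)) := by
      have := hflat (idx k)
      infer_instance
    have h' : Flat (ck k ≫ O.ι) := by rw [hck]; exact this
    exact MorphismProperty.of_postcomp (W := @Flat) (W' := @IsOpenImmersion) (ck k) O.ι
      inferInstance h'
  obtain ⟨N, chN, hN⟩ := exists_affine_chart_aux D P h2 hD idx (fun k => (V k : Scheme.{u}))
    (fun k => (V k).ι) O.ι ck hck
  refine ⟨_, Sigma.desc ck, N, chN, ?_, IsZariskiLocalAtSource.sigmaDesc hckflat, ?_, hN⟩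
  · have : ∀ k, IsAffine ((fun k => (V k : Scheme.{u})) k) := fun k => hV k
    infer_instance
  · constructor
    intro y
    have hy : O.ι y ∈ (O : Set S) := by
      rw [← Scheme.Opens.range_ι]
      exact ⟨y, rfl⟩
    rw [← hUn] at hy
    obtain ⟨k, x, hx, hxy⟩ := Set.mem_iUnion.1 hy
    let z : ↥(V k : Scheme.{u}) := ⟨x, hx⟩
    refine ⟨Sigma.ι (fun k => (V k : Scheme.{u})) k z, ?_⟩
    apply O.ι.injective
    have e1 : (Sigma.ι (fun k => (V k : Scheme.{u})) k ≫ Sigma.desc ck) ≫ O.ι =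
        (V k).ι ≫ u (idx k) := by rw [Sigma.ι_desc, hck]
    calc O.ι (Sigma.desc ck (Sigma.ι (fun k => (V k : Scheme.{u})) k z))
        = ((Sigma.ι (fun k => (V k : Scheme.{u})) k ≫ Sigma.desc ck) ≫ O.ι) z := by
          simp only [Scheme.Hom.comp_apply]
      _ = ((V k).ι ≫ u (idx k)) z := by rw [e1]
      _ = O.ι y := by rw [Scheme.Hom.comp_apply]; exact hxy

end Main

end Groth.Agent.Lib.Helper24.DescE
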