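import Groth.Agent.Lib.Helper24.DescE8
set_option autoImplicit false
set_option linter.unusedSectionVars false
set_option backward.isDefEq.respectTransparency false
universe u
open CategoryTheory CategoryTheory.Limits AlgebraicGeometry Opposite

/-! # Effectiveness of descent data from the affine case -/

namespace Groth.Agent.Lib.Helper24.DescE
open Desc AlgSp

variable {S : Scheme.{u}} {ι : Type u} {U : ι → Scheme.{u}} {u : ∀ i, U i ⟶ S}

/-- effectiveness from a global chart of the descended functor -/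
theorem isEffective_of_chart (D : SchDDFam u) (N : Over S) (chN : Chart (pre D) (𝟙 S) N) :
    D.IsEffective := by
  let ψ : ∀ T : Over S, (T ⟶ N) ≃ Sec D T := fun T =>
    { toFun := fun f => chN.equiv T.hom T.hom (Category.comp_id _) ⟨f.left, Over.w f⟩
      invFun := fun s => Over.homMk ((chN.equiv T.hom T.hom (Category.comp_id _)).symm s).1
        ((chN.equiv T.hom T.hom (Category.comp_id _)).symm s).2
      left_inv := fun f => by
        ext1
        change ((chN.equiv T.hom T.hom (Category.comp_id _)).symm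
          (chN.equiv T.hom T.hom (Category.comp_id _) ⟨f.left, Over.w f⟩)).1 = f.left
        rw [Equiv.symm_apply_apply]
      right_inv := fun s => by
        change chN.equiv T.hom T.hom (Category.comp_id _)
          ⟨((chN.equiv T.hom T.hom (Category.comp_id _)).symm s).1, _⟩ = s
        exact Equiv.apply_symm_apply _ _ }
  have hψ : ∀ ⦃T T' : Over S⦄ (t : T' ⟶ T) (w : T ⟶ N), ψ T' (t ≫ w) = Sec.map t (ψ T w) := by
    intro T T' t w
    have hg : t = (Over.homMk t.left (Over.w t) : Over.mk T'.hom ⟶ Over.mk T.hom) := by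
      ext1; rfl
    have := chN.equiv_nat T.hom T.hom (Category.comp_id _) ⟨w.left, Over.w w⟩ T'.hom t.left
      (Over.w t) T'.hom (Category.comp_id _) ⟨(t ≫ w).left, Over.w (t ≫ w)⟩ rfl
    rw [← hg] at this
    exact this
  obtain ⟨e⟩ := nonempty_iso_toDDFam N ψ hψ
  exact ⟨N, ⟨e⟩⟩

/-- **Effectiveness for fpqc covering families from the affine case.** -/
theorem isEffective_of_affine_case (P : MorphismProperty Scheme.{u}) [P.IsStableUnderBaseChange]
    (h2 : ∀ (m : ℕ) (Y V : Fin m → Scheme.{u}) (q : ∀ j, Y j ⟶ V j), (∀ j, P (q j)) →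
      P (Limits.Sigma.map q))
    (h3 : ∀ (X S : Scheme.{u}) (p : X ⟶ S), IsAffine X → IsAffine S → Flat p → Surjective p →
      ∀ D : Desc.SchDD p, P D.obj.hom → ∃ U : Over S, Nonempty ((Desc.toDD p).obj U ≅ D))
    (hu : Presieve.ofArrows U u ∈ Scheme.fpqcPrecoverage S) (D : Desc.SchDDFam u)
    (hD : ∀ i, P (D.obj i).hom) : D.IsEffective := by
  obtain ⟨N, chN, -⟩ := exists_chart_of_locally (E D) (𝟙 S) (fun _ _ => True) (fun s => by
    obtain ⟨O, hO, hs, -⟩ : ∃ O : S.Opens, IsAffineOpen O ∧ s ∈ O ∧ O ≤ ⊤ := by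
      obtain ⟨O, hO, hs, hle⟩ := TopologicalSpace.Opens.isBasis_iff_nbhd.mp S.isBasis_affineOpens
        (TopologicalSpace.Opens.mem_top s)
      exact ⟨O, hO, hs, hle⟩
    obtain ⟨X, c, N, ch, hXaff, hflat, hsurj, hP⟩ := exists_affine_chart D P h2 hD hu O hO
    have hOaff : IsAffine (O : Scheme.{u}) := hO
    have hc : Sieve.generate (Presieve.singleton c) ∈ Scheme.fpqcTopology (O : Scheme.{u}) :=
      Precoverage.generate_mem_toGrothendieck c.singleton_mem_fpqcPrecoverage
    obtain ⟨W, ⟨θ⟩⟩ := h3 X O c hXaff hOaff hflat hsurj (ddX (pre D) (O.ι ≫ 𝟙 S) c N ch) hP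
    exact ⟨O, hs, W, chartOfEffective ch W θ (isSheaf_pre_fpqc D) hc, trivial⟩)
  exact isEffective_of_chart D N chN

end Groth.Agent.Lib.Helper24.DescE
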