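import Groth.Agent.Lib.Helper14.EtaleLQF
import Groth.Agent.Lib.Helper25.ProperDescent
import Groth.Agent.S1134
import Mathlib
set_option autoImplicit false
set_option linter.style.haveILetI false
universe u
open CategoryTheory CategoryTheory.Limits AlgebraicGeometry Opposite

/-! # Descent of quasi-finite separated schemes along fpqc morphisms -/

namespace Groth.Agent.Lib.Helper24.DescEt

/-- a separated quasi-finite morphism is quasi-affine (Zariski's main theorem) -/
theorem isQuasiAffine_of_locallyQuasiFinite {X Y : Scheme.{u}} (f : X ⟶ Y) [LocallyQuasiFinite f]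
    [LocallyOfFiniteType f] [IsSeparated f] [QuasiCompact f] : Mor2.IsQuasiAffine f := by
  refine ⟨inferInstance, fun V hV => ?_⟩
  haveI : IsAffine (V : Scheme.{u}) := hV
  haveI : IsAffineHom (f ∣_ V).fromNormalization := inferInstance
  haveI : IsAffine (f ∣_ V).normalization := isAffine_of_isAffineHom (f ∣_ V).fromNormalization
  haveI : CompactSpace (f ⁻¹ᵁ V : Scheme.{u}) :=
    QuasiCompact.compactSpace_of_compactSpace (f ∣_ V)
  exact Scheme.IsQuasiAffine.of_isImmersion (f ∣_ V).toNormalization

/-- quasi-compactness descends along surjective quasi-compact base change -/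
theorem quasiCompact_of_pullback_fst {X S U : Scheme.{u}} (g : X ⟶ S) [Surjective g] [QuasiCompact g]
    (h : U ⟶ S) [QuasiCompact (pullback.fst g h)] : QuasiCompact h := by
  refine ⟨fun W hW hWc => ?_⟩
  have h1 : IsCompact (g ⁻¹' W) := QuasiCompact.isCompact_preimage (f := g) W hW hWc
  have h2 : IsCompact ((pullback.fst g h) ⁻¹' (g ⁻¹' W)) :=
    QuasiCompact.isCompact_preimage (f := pullback.fst g h) _ (hW.preimage g.continuous) h1
  have h3 : IsCompact ((pullback.snd g h) '' ((pullback.fst g h) ⁻¹' (g ⁻¹' W))) :=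
    h2.image (pullback.snd g h).continuous
  convert h3 using 1
  ext u
  constructor
  · intro hu
    obtain ⟨x, hx⟩ := Surjective.surj (f := g) (h u)
    obtain ⟨z, hz1, hz2⟩ := Scheme.Pullback.exists_preimage_pullback x u hx
    refine ⟨z, ?_, hz2⟩
    change g (pullback.fst g h z) ∈ W
    rw [hz1, hx]; exact hu
  · rintro ⟨z, hz, rfl⟩
    change h (pullback.snd g h z) ∈ W
    rw [← Scheme.Hom.comp_apply, ← pullback.condition, Scheme.Hom.comp_apply]
    exact hz

open Desc in
/-- descent of separated quasi-finite schemes along fpqc morphisms -/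
theorem exists_iso_toDD_of_locallyQuasiFinite {X S : Scheme.{u}} (p : X ⟶ S) [Surjective p]
    [Flat p] [QuasiCompact p] (D : SchDD p) [LocallyQuasiFinite D.obj.hom]
    [LocallyOfFiniteType D.obj.hom] [IsSeparated D.obj.hom] [QuasiCompact D.obj.hom] :
    ∃ U : Over S, Nonempty ((toDD p).obj U ≅ D) :=
  Groth.Agent.S1134.result p D (isQuasiAffine_of_locallyQuasiFinite D.obj.hom)

open Desc in
/-- the structure morphism of the canonical descent datum of `U` is isomorphic to that of `D` -/
theorem pullback_fst_iff_of_iso {X S : Scheme.{u}} (p : X ⟶ S) (D : SchDD p) (U : Over S)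
    (e : (toDD p).obj U ≅ D) (P : MorphismProperty Scheme.{u}) [P.RespectsIso] :
    P (pullback.fst p U.hom) ↔ P D.obj.hom := by
  have h1 : e.hom.hom.left ≫ D.obj.hom = pullback.fst p U.hom := Over.w e.hom.hom
  haveI : IsIso e.hom.hom.left := by
    refine ⟨e.inv.hom.left, ?_, ?_⟩
    · rw [← Over.comp_left, ← SchDD.comp_hom, e.hom_inv_id]; rfl
    · rw [← Over.comp_left, ← SchDD.comp_hom, e.inv_hom_id]; rfl
  rw [← h1]
  exact P.cancel_left_of_respectsIso e.hom.hom.left D.obj.hom

end Groth.Agent.Lib.Helper24.DescEt
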