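import Groth.Prelude
import Mathlib
set_option autoImplicit false
set_option linter.unusedSectionVars false
set_option linter.style.haveILetI false
universe u
open CategoryTheory CategoryTheory.Limits AlgebraicGeometry Opposite

/-! # Fullness of the canonical descent datum functor on étale schemes, for submersive morphisms -/

namespace Groth.Agent.Lib.Helper24.DescEtFull
open Desc

/-- two morphisms into an unramified scheme over a base which agree after a surjection agree -/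
lemma eq_of_surjective_comp {U V T T' : Scheme.{u}} (h : U ⟶ V) [FormallyUnramified h]
    [LocallyOfFiniteType h] (a b : T ⟶ U) (hab : a ≫ h = b ≫ h) (π : T' ⟶ T) [Surjective π]
    (hπ : π ≫ a = π ≫ b) : a = b := by
  haveI : IsOpenImmersion (pullback.diagonal h) := inferInstance
  let c : T ⟶ pullback h h := pullback.lift a b hab
  have hc : π ≫ c = (π ≫ a) ≫ pullback.diagonal h := by
    apply pullback.hom_ext
    · rw [Category.assoc, Category.assoc, pullback.lift_fst, pullback.diagonal_fst,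
        Category.comp_id]
    · rw [Category.assoc, Category.assoc, pullback.lift_snd, pullback.diagonal_snd,
        Category.comp_id, hπ]
  have hr : Set.range c ⊆ Set.range (pullback.diagonal h) := by
    rintro _ ⟨t, rfl⟩
    obtain ⟨t', rfl⟩ := Surjective.surj (f := π) t
    refine ⟨(π ≫ a) t', ?_⟩
    rw [← Scheme.Hom.comp_apply, ← Scheme.Hom.comp_apply, hc]
  let l := IsOpenImmersion.lift (pullback.diagonal h) c hr
  have hl : l ≫ pullback.diagonal h = c := IsOpenImmersion.lift_fac _ _ _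
  have h1 : a = l := by
    have := congrArg (· ≫ pullback.fst h h) hl
    simp only [Category.assoc, pullback.diagonal_fst, Category.comp_id] at this
    rw [this]
    exact (pullback.lift_fst _ _ _).symm
  have h2 : b = l := by
    have := congrArg (· ≫ pullback.snd h h) hl
    simp only [Category.assoc, pullback.diagonal_snd, Category.comp_id] at this
    rw [this]
    exact (pullback.lift_snd _ _ _).symm
  rw [h1, h2]

section Main
variable {X S : Scheme.{u}} (p : X ⟶ S) (U₁ U₂ : Over S) [Etale U₁.hom] [Etale U₂.hom]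
  (F : (toDD p).obj U₁ ⟶ (toDD p).obj U₂)

/-- the underlying morphism `X ×_S U₁ ⟶ X ×_S U₂` -/
noncomputable abbrev fF : pullback p U₁.hom ⟶ pullback p U₂.hom := F.hom.left

lemma fF_fst : fF p U₁ U₂ F ≫ pullback.fst p U₂.hom = pullback.fst p U₁.hom := Over.w F.hom

/-- `U₁ ×_S U₂ ⟶ S` -/
noncomputable abbrev hU : pullback U₁.hom U₂.hom ⟶ S := pullback.fst U₁.hom U₂.hom ≫ U₁.hom

lemma cond₁ : pullback.snd p U₁.hom ≫ U₁.hom =
    (fF p U₁ U₂ F ≫ pullback.snd p U₂.hom) ≫ U₂.hom := by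
  calc pullback.snd p U₁.hom ≫ U₁.hom = pullback.fst p U₁.hom ≫ p := pullback.condition.symm
    _ = (fF p U₁ U₂ F ≫ pullback.fst p U₂.hom) ≫ p := by rw [fF_fst]
    _ = (fF p U₁ U₂ F ≫ pullback.snd p U₂.hom) ≫ U₂.hom := by
      rw [Category.assoc, pullback.condition, Category.assoc]

/-- the graph `X ×_S U₁ ⟶ X ×_S (U₁ ×_S U₂)` -/
noncomputable def gr : pullback p U₁.hom ⟶ pullback p (hU U₁ U₂) :=
  pullback.lift (pullback.fst p U₁.hom)
    (pullback.lift (pullback.snd p U₁.hom) (fF p U₁ U₂ F ≫ pullback.snd p U₂.hom)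
      (cond₁ p U₁ U₂ F))
    (by rw [← Category.assoc, pullback.lift_fst, pullback.condition])

@[reassoc] lemma gr_fst : gr p U₁ U₂ F ≫ pullback.fst p (hU U₁ U₂) = pullback.fst p U₁.hom :=
  pullback.lift_fst _ _ _

@[reassoc] lemma gr_snd_fst : gr p U₁ U₂ F ≫ pullback.snd p (hU U₁ U₂) ≫ pullback.fst U₁.hom U₂.hom =
    pullback.snd p U₁.hom := by
  rw [gr, pullback.lift_snd_assoc, pullback.lift_fst]

@[reassoc] lemma gr_snd_snd : gr p U₁ U₂ F ≫ pullback.snd p (hU U₁ U₂) ≫ pullback.snd U₁.hom U₂.hom =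
    fF p U₁ U₂ F ≫ pullback.snd p U₂.hom := by
  rw [gr, pullback.lift_snd_assoc, pullback.lift_snd]

/-- the projection `X ×_S (U₁ ×_S U₂) ⟶ X ×_S U₁` -/
noncomputable def pr : pullback p (hU U₁ U₂) ⟶ pullback p U₁.hom :=
  pullback.lift (pullback.fst p (hU U₁ U₂))
    (pullback.snd p (hU U₁ U₂) ≫ pullback.fst U₁.hom U₂.hom)
    (by rw [pullback.condition, Category.assoc])

lemma gr_pr : gr p U₁ U₂ F ≫ pr p U₁ U₂ = 𝟙 _ := by
  apply pullback.hom_ext
  · rw [Category.assoc, pr, pullback.lift_fst, gr_fst, Category.id_comp]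
  · rw [Category.assoc, pr, pullback.lift_snd, gr_snd_fst, Category.id_comp]

instance : Etale (hU U₁ U₂) := by
  haveI : Etale (pullback.fst U₁.hom U₂.hom) := inferInstance
  infer_instance

instance : IsOpenImmersion (gr p U₁ U₂ F) := by
  haveI : Mono (gr p U₁ U₂ F) := mono_of_mono_fac (gr_pr p U₁ U₂ F)
  haveI h1 : Etale (pullback.fst p U₁.hom) := inferInstance
  haveI h2 : Etale (pullback.fst p (hU U₁ U₂)) := inferInstance
  haveI : Etale (gr p U₁ U₂ F) := by
    refine MorphismProperty.of_postcomp (W := @Etale) (W' := @Etale) (gr p U₁ U₂ F)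
      (pullback.fst p (hU U₁ U₂)) h2 ?_
    rw [gr_fst]; exact h1
  exact IsOpenImmersion.of_flat_of_mono _

/-- the graph is saturated for the projection to `U₁ ×_S U₂` -/
lemma range_gr_saturated {z z' : ↥(pullback p (hU U₁ U₂))} (hz : z ∈ Set.range (gr p U₁ U₂ F))
    (h : pullback.snd p (hU U₁ U₂) z = pullback.snd p (hU U₁ U₂) z') :
    z' ∈ Set.range (gr p U₁ U₂ F) := by
  obtain ⟨w, hw1, hw2⟩ := Scheme.Pullback.exists_preimage_pullback (f := (pullback.snd p (hU U₁ U₂))) (g := (pullback.snd p (hU U₁ U₂))) z z' h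
  let T : (pullback (pullback.snd p (hU U₁ U₂)) (pullback.snd p (hU U₁ U₂))).Opens := (pullback.fst (pullback.snd p (hU U₁ U₂)) (pullback.snd p (hU U₁ U₂))) ⁻¹ᵁ (gr p U₁ U₂ F).opensRange
  let a : (T : Scheme.{u}) ⟶ pullback p (hU U₁ U₂) := T.ι ≫ pullback.fst (pullback.snd p (hU U₁ U₂)) (pullback.snd p (hU U₁ U₂))
  let b : (T : Scheme.{u}) ⟶ pullback p (hU U₁ U₂) := T.ι ≫ pullback.snd (pullback.snd p (hU U₁ U₂)) (pullback.snd p (hU U₁ U₂))
  have hab : a ≫ (pullback.snd p (hU U₁ U₂)) = b ≫ (pullback.snd p (hU U₁ U₂)) := by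
    simp only [a, b, Category.assoc, pullback.condition]
  have hr : Set.range a ⊆ Set.range (gr p U₁ U₂ F) := by
    rintro _ ⟨t, rfl⟩
    change (T.ι ≫ pullback.fst (pullback.snd p (hU U₁ U₂)) (pullback.snd p (hU U₁ U₂))) t ∈ (gr p U₁ U₂ F).opensRange
    rw [Scheme.Hom.comp_apply]
    exact t.2
  let a' : (T : Scheme.{u}) ⟶ pullback p U₁.hom := IsOpenImmersion.lift (gr p U₁ U₂ F) a hr
  have ha' : a' ≫ gr p U₁ U₂ F = a := IsOpenImmersion.lift_fac _ _ _
  have e2 : a ≫ (pullback.snd p (hU U₁ U₂)) ≫ pullback.fst U₁.hom U₂.hom = a' ≫ pullback.snd p U₁.hom := by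
    rw [← ha', Category.assoc, gr_snd_fst]
  have e3 : b ≫ (pullback.snd p (hU U₁ U₂)) ≫ pullback.fst U₁.hom U₂.hom = a' ≫ pullback.snd p U₁.hom := by
    rw [← Category.assoc, ← hab, Category.assoc, e2]
  have hc : (b ≫ pullback.fst p (hU U₁ U₂)) ≫ p = (a' ≫ pullback.snd p U₁.hom) ≫ U₁.hom := by
    calc (b ≫ pullback.fst p (hU U₁ U₂)) ≫ p
        = b ≫ (pullback.fst p (hU U₁ U₂) ≫ p) := Category.assoc _ _ _
      _ = b ≫ ((pullback.snd p (hU U₁ U₂)) ≫ hU U₁ U₂) := by rw [pullback.condition]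
      _ = (b ≫ (pullback.snd p (hU U₁ U₂)) ≫ pullback.fst U₁.hom U₂.hom) ≫ U₁.hom := by
        simp only [Category.assoc]
      _ = (a' ≫ pullback.snd p U₁.hom) ≫ U₁.hom := by rw [e3]
  let b' : (T : Scheme.{u}) ⟶ pullback p U₁.hom :=
    pullback.lift (b ≫ pullback.fst p (hU U₁ U₂)) (a' ≫ pullback.snd p U₁.hom) hc
  -- compatibility of `F` with the canonical descent data
  have hx : (a' ≫ pullback.fst p U₁.hom) ≫ p = (b ≫ pullback.fst p (hU U₁ U₂)) ≫ p := by
    rw [hc, Category.assoc, pullback.condition, Category.assoc]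
  have hcomm := F.comm (a' ≫ pullback.fst p U₁.hom) (b ≫ pullback.fst p (hU U₁ U₂)) hx
    ⟨a', rfl⟩ ⟨a' ≫ fF p U₁ U₂ F, by
      change (a' ≫ fF p U₁ U₂ F) ≫ pullback.fst p U₂.hom = _
      rw [Category.assoc, fF_fst]⟩ rfl
  have key : a' ≫ fF p U₁ U₂ F ≫ pullback.snd p U₂.hom =
      b' ≫ fF p U₁ U₂ F ≫ pullback.snd p U₂.hom := by
    have h1 := congrArg (· ≫ pullback.snd p U₂.hom) hcomm
    change pullback.lift _ _ _ ≫ pullback.snd p U₂.hom =
      (pullback.lift _ _ _ ≫ fF p U₁ U₂ F) ≫ pullback.snd p U₂.hom at h1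
    rw [pullback.lift_snd] at h1
    exact (Category.assoc _ _ _).symm.trans (h1.trans (Category.assoc _ _ _))
  have hb' : b' ≫ gr p U₁ U₂ F = b := by
    apply pullback.hom_ext
    · rw [Category.assoc, gr_fst, pullback.lift_fst]
    · apply pullback.hom_ext
      · rw [Category.assoc, Category.assoc, gr_snd_fst, pullback.lift_snd, Category.assoc, e3]
      · have e4 : a ≫ (pullback.snd p (hU U₁ U₂)) ≫ pullback.snd U₁.hom U₂.hom =
            a' ≫ fF p U₁ U₂ F ≫ pullback.snd p U₂.hom := by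
          rw [← ha', Category.assoc, gr_snd_snd]
        have e5 : b ≫ (pullback.snd p (hU U₁ U₂)) ≫ pullback.snd U₁.hom U₂.hom =
            a' ≫ fF p U₁ U₂ F ≫ pullback.snd p U₂.hom := by
          rw [← Category.assoc, ← hab, Category.assoc, e4]
        rw [Category.assoc, Category.assoc, gr_snd_snd, ← key, Category.assoc, e5]
  have hwT : w ∈ T := by
    change pullback.fst (pullback.snd p (hU U₁ U₂)) (pullback.snd p (hU U₁ U₂)) w ∈ (gr p U₁ U₂ F).opensRange
    rw [hw1]; exact hz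
  let wT : (T : Scheme.{u}) := ⟨w, hwT⟩
  refine ⟨b' wT, ?_⟩
  rw [← Scheme.Hom.comp_apply, hb']
  change (T.ι ≫ pullback.snd (pullback.snd p (hU U₁ U₂)) (pullback.snd p (hU U₁ U₂))) wT = z'
  rw [Scheme.Hom.comp_apply]
  exact hw2

/-- **Fullness on étale schemes.** -/
theorem exists_map_eq
    (hp : ∀ U : Over S, Etale U.hom → Topology.IsQuotientMap (pullback.snd p U.hom).base) :
    ∃ g : U₁ ⟶ U₂, (toDD p).map g = F := by
  haveI hps : Surjective p := by
    have h := (hp (Over.mk (𝟙 S)) (by change Etale (𝟙 S); infer_instance)).surjective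
    refine ⟨fun s => ?_⟩
    obtain ⟨z, hz⟩ := h s
    refine ⟨pullback.fst p (𝟙 S) z, ?_⟩
    rw [← Scheme.Hom.comp_apply, pullback.condition, Category.comp_id]; exact hz
  have hq : Topology.IsQuotientMap (pullback.snd p (hU U₁ U₂)) :=
    hp (Over.mk (hU U₁ U₂)) (inferInstanceAs (Etale (hU U₁ U₂)))
  have hpre : (pullback.snd p (hU U₁ U₂)) ⁻¹' ((pullback.snd p (hU U₁ U₂)) ''
      Set.range (gr p U₁ U₂ F)) = Set.range (gr p U₁ U₂ F) := by
    ext z'
    constructor
    · rintro ⟨z, hz, hzz'⟩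
      exact range_gr_saturated p U₁ U₂ F hz hzz'
    · intro hz'
      exact ⟨z', hz', rfl⟩
  have hopen : IsOpen ((pullback.snd p (hU U₁ U₂)) '' Set.range (gr p U₁ U₂ F)) := by
    rw [← hq.isOpen_preimage, hpre]
    exact (gr p U₁ U₂ F).isOpenEmbedding.isOpen_range
  let Γ : (pullback U₁.hom U₂.hom).Opens := ⟨_, hopen⟩
  let r : (Γ : Scheme.{u}) ⟶ U₁.left := Γ.ι ≫ pullback.fst U₁.hom U₂.hom
  have hlr : Set.range (gr p U₁ U₂ F ≫ pullback.snd p (hU U₁ U₂)) ⊆ Set.range Γ.ι := by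
    rw [Scheme.Opens.range_ι]
    rintro _ ⟨t, rfl⟩
    rw [Scheme.Hom.comp_apply]
    exact ⟨_, ⟨t, rfl⟩, rfl⟩
  let lam : pullback p U₁.hom ⟶ (Γ : Scheme.{u}) :=
    IsOpenImmersion.lift Γ.ι (gr p U₁ U₂ F ≫ pullback.snd p (hU U₁ U₂)) hlr
  have hlam : lam ≫ Γ.ι = gr p U₁ U₂ F ≫ pullback.snd p (hU U₁ U₂) :=
    IsOpenImmersion.lift_fac _ _ _
  have hlamr : lam ≫ r = pullback.snd p U₁.hom := by
    change lam ≫ Γ.ι ≫ pullback.fst U₁.hom U₂.hom = _
    rw [← Category.assoc, hlam, Category.assoc, gr_snd_fst]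
  haveI het : Etale r := by
    haveI : Etale (pullback.fst U₁.hom U₂.hom) := inferInstance
    infer_instance
  haveI hsurj : Surjective r := by
    refine ⟨fun u₁ => ?_⟩
    obtain ⟨z, hz⟩ := Surjective.surj (f := pullback.snd p U₁.hom) u₁
    refine ⟨lam z, ?_⟩
    rw [← Scheme.Hom.comp_apply, hlamr]; exact hz
  haveI hmono : Mono r := by
    refine ⟨fun {T} a b hab => ?_⟩
    let t : T ⟶ S := a ≫ r ≫ U₁.hom
    let π := pullback.snd p t
    have hΓ : Γ.ι ≫ hU U₁ U₂ = r ≫ U₁.hom := Category.assoc _ _ _ |>.symm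
    have ca : pullback.fst p t ≫ p = (π ≫ a ≫ Γ.ι) ≫ hU U₁ U₂ := by
      rw [pullback.condition, Category.assoc, Category.assoc, hΓ]
    have cb : pullback.fst p t ≫ p = (π ≫ b ≫ Γ.ι) ≫ hU U₁ U₂ := by
      rw [pullback.condition, Category.assoc, Category.assoc, hΓ, ← Category.assoc b, ← hab,
        Category.assoc]
    let za : pullback p t ⟶ pullback p (hU U₁ U₂) :=
      pullback.lift (pullback.fst p t) (π ≫ a ≫ Γ.ι) ca
    let zb : pullback p t ⟶ pullback p (hU U₁ U₂) :=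
      pullback.lift (pullback.fst p t) (π ≫ b ≫ Γ.ι) cb
    have hra : Set.range za ⊆ Set.range (gr p U₁ U₂ F) := by
      rintro _ ⟨t', rfl⟩
      rw [← hpre]
      change pullback.snd p (hU U₁ U₂) (za t') ∈ Γ
      rw [← Scheme.Hom.comp_apply, pullback.lift_snd, Scheme.Hom.comp_apply,
        Scheme.Hom.comp_apply]
      exact (a (π t')).2
    have hrb : Set.range zb ⊆ Set.range (gr p U₁ U₂ F) := by
      rintro _ ⟨t', rfl⟩
      rw [← hpre]
      change pullback.snd p (hU U₁ U₂) (zb t') ∈ Γ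
      rw [← Scheme.Hom.comp_apply, pullback.lift_snd, Scheme.Hom.comp_apply,
        Scheme.Hom.comp_apply]
      exact (b (π t')).2
    have hla := IsOpenImmersion.lift_fac (gr p U₁ U₂ F) za hra
    have hlb := IsOpenImmersion.lift_fac (gr p U₁ U₂ F) zb hrb
    have hzpr : za ≫ pr p U₁ U₂ = zb ≫ pr p U₁ U₂ := by
      apply pullback.hom_ext
      · rw [Category.assoc, Category.assoc, pr, pullback.lift_fst, pullback.lift_fst,
          pullback.lift_fst]
      · rw [Category.assoc, Category.assoc, pr, pullback.lift_snd, pullback.lift_snd_assoc,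
          pullback.lift_snd_assoc]
        simp only [Category.assoc]
        change π ≫ a ≫ r = π ≫ b ≫ r
        rw [hab]
    have hzz : za = zb := by
      rw [← hla, ← hlb]
      congr 1
      calc IsOpenImmersion.lift (gr p U₁ U₂ F) za hra
          = (IsOpenImmersion.lift (gr p U₁ U₂ F) za hra ≫ gr p U₁ U₂ F) ≫ pr p U₁ U₂ := by
            rw [Category.assoc, gr_pr, Category.comp_id]
        _ = (IsOpenImmersion.lift (gr p U₁ U₂ F) zb hrb ≫ gr p U₁ U₂ F) ≫ pr p U₁ U₂ := by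
            rw [hla, hlb, hzpr]
        _ = IsOpenImmersion.lift (gr p U₁ U₂ F) zb hrb := by
            rw [Category.assoc, gr_pr, Category.comp_id]
    have hπ : π ≫ (a ≫ Γ.ι) = π ≫ (b ≫ Γ.ι) := by
      have h1 : za ≫ pullback.snd p (hU U₁ U₂) = π ≫ a ≫ Γ.ι := pullback.lift_snd _ _ _
      have h2 : zb ≫ pullback.snd p (hU U₁ U₂) = π ≫ b ≫ Γ.ι := pullback.lift_snd _ _ _
      rw [← h1, ← h2, hzz]
    haveI : Etale (pullback.fst U₁.hom U₂.hom) := inferInstance
    have hab' : (a ≫ Γ.ι) ≫ pullback.fst U₁.hom U₂.hom = (b ≫ Γ.ι) ≫ pullback.fst U₁.hom U₂.hom := by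
      rw [Category.assoc, Category.assoc]; exact hab
    have := eq_of_surjective_comp (pullback.fst U₁.hom U₂.hom) (a ≫ Γ.ι) (b ≫ Γ.ι) hab' π hπ
    exact (cancel_mono Γ.ι).mp this
  haveI : IsOpenImmersion r := IsOpenImmersion.of_flat_of_mono r
  haveI : IsIso r := by
    apply isIso_of_isOpenImmersion_of_opensRange_eq_top
    rw [eq_top_iff]
    intro x _
    exact Surjective.surj (f := r) x
  have hw : (inv r ≫ Γ.ι ≫ pullback.snd U₁.hom U₂.hom) ≫ U₂.hom = U₁.hom := by
    rw [Category.assoc, Category.assoc, ← pullback.condition, ← Category.assoc Γ.ι]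
    change inv r ≫ r ≫ U₁.hom = _
    rw [IsIso.inv_hom_id_assoc]
  refine ⟨Over.homMk (inv r ≫ Γ.ι ≫ pullback.snd U₁.hom U₂.hom) hw, ?_⟩
  apply SchDD.hom_ext
  apply Over.OverMorphism.ext
  change pullback.map p U₁.hom p U₂.hom (𝟙 X) (inv r ≫ Γ.ι ≫ pullback.snd U₁.hom U₂.hom) (𝟙 S)
    (by simp) (by rw [Category.comp_id]; exact hw.symm) = fF p U₁ U₂ F
  apply pullback.hom_ext
  · rw [pullback.lift_fst, Category.comp_id, fF_fst]
  · rw [pullback.lift_snd, ← hlamr, Category.assoc, IsIso.hom_inv_id_assoc, ← Category.assoc,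
      hlam, Category.assoc, gr_snd_snd]

end Main

end Groth.Agent.Lib.Helper24.DescEtFull
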