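import Groth.Agent.Lib.Helper24.DescLoc3
set_option autoImplicit false
set_option linter.unusedSectionVars false
set_option backward.isDefEq.respectTransparency false
universe u
open CategoryTheory CategoryTheory.Limits AlgebraicGeometry Opposite

/-! # Effectiveness of descent data is local on the base -/

namespace Groth.Agent.Lib.Helper24.DescFin
open Desc AlgSp Groth.Agent.Lib.Helper24.DescE Groth.Agent.Lib.Helper20.DescFamFF
  Groth.Agent.Lib.Helper24.DescLoc

/-- **Effectiveness is local on the base.** If the base is covered by opens `O` such that every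
descent datum relative to the restriction of `p` over `O` whose scheme is the restriction of that of
`D` is effective, then `D` is effective. -/
theorem exists_iso_toDD_of_locally_on_base {X Y : Scheme.{u}} (p : X ⟶ Y) [Surjective p] [Flat p]
    [QuasiCompact p] (D : SchDD p)
    (h : ∀ y : Y, ∃ (O : Y.Opens) (_ : y ∈ O), ∀ D' : SchDD (p ∣_ O),
      D'.obj = Over.mk (pullback.snd D.obj.hom (p ⁻¹ᵁ O).ι) →
        ∃ W : Over (O : Scheme.{u}), Nonempty ((toDD (p ∣_ O)).obj W ≅ D')) :
    ∃ U : Over Y, Nonempty ((toDD p).obj U ≅ D) := by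
  obtain ⟨N, chN, -⟩ := exists_chart_of_locally (E (fam D)) (𝟙 Y) (fun _ _ => True) (fun s => by
    obtain ⟨O, hs, hO⟩ := h s
    have e : (p ⁻¹ᵁ O).ι ≫ p = (p ∣_ O) ≫ O.ι ≫ 𝟙 Y := by
      rw [Category.comp_id]; exact (morphismRestrict_ι p O).symm
    let ch0 : Chart (pre (fam D)) ((p ⁻¹ᵁ O).ι ≫ p)
        (Over.mk (pullback.snd D.obj.hom (p ⁻¹ᵁ O).ι)) :=
      (chartOfDD (fam D) PUnit.unit).pullback (p ⁻¹ᵁ O).ι
    let ch := ch0.cast e
    have hsurj : Surjective (p ∣_ O) :=
      MorphismProperty.of_isPullback (P := @Surjective) (isPullback_morphismRestrict p O).flip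
        ‹Surjective p›
    have hc : Sieve.generate (Presieve.singleton (p ∣_ O)) ∈
        Scheme.fpqcTopology (O : Scheme.{u}) :=
      Precoverage.generate_mem_toGrothendieck (p ∣_ O).singleton_mem_fpqcPrecoverage
    obtain ⟨W, ⟨θ⟩⟩ := hO (ddX (pre (fam D)) (O.ι ≫ 𝟙 Y) (p ∣_ O) _ ch) rfl
    exact ⟨O, hs, W, chartOfEffective ch W θ (isSheaf_pre_fpqc (fam D)) hc, trivial⟩)
  exact Groth.Agent.Lib.Helper24.DescSigma.exists_iso_toDD_of_isEffective p D
    (isEffective_of_chart (fam D) N chN)

end Groth.Agent.Lib.Helper24.DescFin
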