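import Mathlib
set_option autoImplicit false
set_option linter.style.haveILetI false
universe u
open CategoryTheory CategoryTheory.Limits AlgebraicGeometry Opposite

namespace Groth.Agent.Lib.Helper24.FibCount

/-- the number of geometric points in the fibres of `p` is at most `d` -/
def GeomFibLE {X Y : Scheme.{u}} (p : X ⟶ Y) (d : ℕ∞) : Prop :=
  ∀ (k : Type u) [Field k] [IsAlgClosed k] (y : Spec (CommRingCat.of k) ⟶ Y),
    Set.encard {x : Spec (CommRingCat.of k) ⟶ X | x ≫ p = y} ≤ d

lemma geomFibLE_top {X Y : Scheme.{u}} (p : X ⟶ Y) : GeomFibLE p ⊤ := fun _ _ _ _ => le_top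

lemma GeomFibLE.of_mono {X' X Y' Y : Scheme.{u}} {p' : X' ⟶ Y'} {p : X ⟶ Y} {d : ℕ∞}
    (hp : GeomFibLE p d) (i : X' ⟶ X) (j : Y' ⟶ Y) [Mono i] (w : i ≫ p = p' ≫ j) :
    GeomFibLE p' d := by
  intro k _ _ y
  refine le_trans ?_ (hp k (y ≫ j))
  refine Set.encard_le_encard_of_injOn (f := fun x => x ≫ i) ?_ ?_
  · intro x hx
    change (x ≫ i) ≫ p = y ≫ j
    rw [Category.assoc, w, ← Category.assoc]
    exact congrArg (· ≫ j) hx
  · intro x _ x' _ h
    exact (cancel_mono i).mp h

lemma GeomFibLE.pullback_snd {X Y V : Scheme.{u}} {p : X ⟶ Y} {d : ℕ∞}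
    (hp : GeomFibLE p d) (g : V ⟶ Y) : GeomFibLE (pullback.snd p g) d := by
  intro k _ _ y
  refine le_trans ?_ (hp k (y ≫ g))
  refine Set.encard_le_encard_of_injOn (f := fun x => x ≫ pullback.fst p g) ?_ ?_
  · intro x hx
    change (x ≫ pullback.fst p g) ≫ p = y ≫ g
    rw [Category.assoc, pullback.condition, ← Category.assoc]
    exact congrArg (· ≫ g) hx
  · intro x hx x' hx' h
    exact pullback.hom_ext h ((show x ≫ pullback.snd p g = y from hx).trans
      (show x' ≫ pullback.snd p g = y from hx').symm)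

/-- a point of a scheme finite over a field `κ` is the image of a `K`-point, for `K` an algebraic
closure of `κ` -/
lemma exists_geom_point {F : Scheme.{u}} {κ : Type u} [Field κ]
    (g : F ⟶ Spec (CommRingCat.of κ)) [IsFinite g] [DiscreteTopology F] (w : F) :
    ∃ t : Spec (CommRingCat.of (AlgebraicClosure κ)) ⟶ F,
      t ≫ g = Spec.map (CommRingCat.ofHom (algebraMap κ (AlgebraicClosure κ))) ∧
      ∀ a, t a = w := by
  have hcl : IsClosed ({w} : Set F) := isClosed_discrete _
  haveI : IsClosedImmersion (F.fromSpecResidueField w) :=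
    isClosed_singleton_iff_isClosedImmersion.mp hcl
  haveI : IsFinite (F.fromSpecResidueField w ≫ g) := inferInstance
  obtain ⟨φ, hφ⟩ := Spec.map_surjective (F.fromSpecResidueField w ≫ g)
  have hfin : φ.hom.Finite := by
    rw [← IsFinite.SpecMap_iff, hφ]; infer_instance
  algebraize [φ.hom]
  haveI : Algebra.IsAlgebraic κ (F.residueField w) := Algebra.IsIntegral.isAlgebraic
  let ψ : F.residueField w →ₐ[κ] AlgebraicClosure κ := IsAlgClosed.lift
  refine ⟨Spec.map (CommRingCat.ofHom ψ.toRingHom) ≫ F.fromSpecResidueField w, ?_, ?_⟩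
  · rw [Category.assoc, ← hφ, ← Spec.map_comp]
    congr 1
    ext x
    exact ψ.commutes x
  · intro a
    rw [Scheme.Hom.comp_apply, Scheme.fromSpecResidueField_apply]

/-- the fibres of a quasi-finite morphism have at most as many points as the geometric fibres -/
theorem encard_preimage_singleton_le {T V : Scheme.{u}} (f : T ⟶ V) [LocallyQuasiFinite f]
    [QuasiCompact f] {d : ℕ∞} (hf : GeomFibLE f d) (v : V) : (f ⁻¹' {v}).encard ≤ d := by
  let K := AlgebraicClosure (V.residueField v)
  let vbar : Spec (CommRingCat.of K) ⟶ V :=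
    Spec.map (CommRingCat.ofHom (algebraMap (V.residueField v) K)) ≫ V.fromSpecResidueField v
  refine le_trans ?_ (hf K vbar)
  rw [← f.range_fiberι v, ← Set.image_univ,
    (f.fiberι v).isEmbedding.injective.encard_image]
  haveI hfin : IsFinite (f.fiberToSpecResidueField v) := inferInstance
  haveI : DiscreteTopology (f.fiber v) := inferInstance
  have key : ∀ w : f.fiber v, ∃ t : Spec (CommRingCat.of K) ⟶ f.fiber v,
      t ≫ f.fiberToSpecResidueField v =
        Spec.map (CommRingCat.ofHom (algebraMap (V.residueField v) K)) ∧ ∀ a, t a = w :=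
    fun w => @exists_geom_point (f.fiber v) (V.residueField v) _
      (f.fiberToSpecResidueField v) hfin _ w
  choose t ht1 ht2 using key
  have hinj : Function.Injective fun w => t w ≫ f.fiberι v := by
    intro w w' h
    have a : Spec (CommRingCat.of K) := default
    have := congrArg (fun m : Spec (CommRingCat.of K) ⟶ T => m a) h
    simp only [Scheme.Hom.comp_apply, ht2] at this
    exact (f.fiberι v).isEmbedding.injective this
  rw [← hinj.encard_image]
  refine Set.encard_le_encard ?_
  rintro _ ⟨w, -, rfl⟩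
  change (t w ≫ f.fiberι v) ≫ f = vbar
  rw [Category.assoc, f.fiber_fac, ← Category.assoc, ht1]

end Groth.Agent.Lib.Helper24.FibCount
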