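import Groth.Agent.Lib.Helper24.DescFin1
import Groth.Agent.Lib.Helper24.DescFin2
import Groth.Agent.Lib.Helper24.DescQAff
import Groth.Agent.S1131
import Groth.Agent.S1132
import Groth.Agent.Lib.Helper24.FibCount
set_option autoImplicit false
set_option linter.style.haveILetI false
set_option linter.unusedSectionVars false
universe u
open CategoryTheory CategoryTheory.Limits AlgebraicGeometry Opposite

/-! # Effective descent along finite locally free morphisms when finite subsets of fibres lie in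
affine opens -/

namespace Groth.Agent.Lib.Helper24.DescFin
open Desc Groth.Agent.Lib.Helper24.DescAffine Groth.Agent.Lib.Helper24.DescSat
  Groth.Agent.Lib.Helper24.DescLoc Groth.Agent.Lib.Helper24.DescQAff
  Groth.Agent.Lib.Helper24.FibCount

/-- finite subsets of the total space lying over one point of the base are contained in an open
which admits an open immersion into an affine scheme -/
def FinOpenAff {X Y : Scheme.{u}} (p : X ⟶ Y) (D : SchDD p) (d : ℕ∞) : Prop :=
  ∀ (y : Y) (s : Finset D.obj.left), (s.card : ℕ∞) ≤ d → (∀ v ∈ s, p (D.obj.hom v) = y) →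
    ∃ U : D.obj.left.Opens, (∀ v ∈ s, v ∈ U) ∧
      ∃ (A : Scheme.{u}) (_ : IsAffine A) (i : (U : Scheme.{u}) ⟶ A), IsOpenImmersion i

section Aff
variable {X Y : Scheme.{u}} [IsAffine X] [IsAffine Y] (p : X ⟶ Y) [Surjective p] [IsFinite p]
  [Flat p] [LocallyOfFinitePresentation p] (D : SchDD p)

instance : IsFinite (act D) := by
  rw [act_eq]
  infer_instance

/-- the affine case -/
theorem exists_iso_toDD_of_finite_of_isAffine {d : ℕ∞} (hp : GeomFibLE p d)
    (hV : FinOpenAff p D d) :
    ∃ W : Over Y, Nonempty ((toDD p).obj W ≅ D) := by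
  classical
  haveI := Groth.Agent.S1131.result p
  haveI := Groth.Agent.S1132.result p
  refine exists_iso_toDD_of_locally p D fun v => ?_
  let sn := pullback.snd p (D.obj.hom ≫ p)
  have hfin : (sn ⁻¹' {v}).Finite := Scheme.Hom.finite_preimage_singleton sn v
  let s : Finset D.obj.left := (hfin.image (act D)).toFinset
  have hs : ∀ v' ∈ s, p (D.obj.hom v') = p (D.obj.hom v) := by
    intro v' hv'
    rw [Set.Finite.mem_toFinset] at hv'
    obtain ⟨z, hz, rfl⟩ := hv'
    have hz' : sn z = v := hz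
    have e := congrArg (fun m : TT D ⟶ Y => m z) (sig_cond D)
    simp only [Scheme.Hom.comp_apply] at e
    rw [← e, hz']
  have hcard : (s.card : ℕ∞) ≤ d := by
    rw [← Set.encard_coe_eq_coe_finsetCard, Set.Finite.coe_toFinset]
    exact (Set.encard_image_le _ _).trans
      (encard_preimage_singleton_le sn (hp.pullback_snd (D.obj.hom ≫ p)) v)
  obtain ⟨U, hsU, A, hA, i, hi⟩ := hV _ s hcard hs
  haveI : IsOpenImmersion i := hi
  have hcl : IsClosed (act D '' (sn ⁻¹' (U : Set D.obj.left)ᶜ)) :=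
    (act D).isClosedMap _ (U.2.isClosed_compl.preimage sn.continuous)
  have hv : v ∉ act D '' (sn ⁻¹' (U : Set D.obj.left)ᶜ) := by
    rintro ⟨z, hz, hzv⟩
    apply hz
    have h1 : sn (sig D z) = v := by
      rw [← Scheme.Hom.comp_apply, sig_snd]; exact hzv
    have h2 : act D (sig D z) = sn z := by
      rw [← Scheme.Hom.comp_apply, sig_act]
    apply hsU
    rw [Set.Finite.mem_toFinset]
    exact ⟨sig D z, h1, h2⟩
  let W₁ : D.obj.left.Opens := ⟨(act D '' (sn ⁻¹' (U : Set D.obj.left)ᶜ))ᶜ, hcl.isOpen_compl⟩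
  obtain ⟨A₀, hA₀aff, hvA₀, hA₀le⟩ := TopologicalSpace.Opens.isBasis_iff_nbhd.mp
    D.obj.left.isBasis_affineOpens (show v ∈ W₁ from hv)
  have hvW : v ∈ sat D A₀ := le_sat D A₀ hvA₀
  have hWc : IsCompact (sat D A₀ : Set D.obj.left) := isCompact_sat D A₀ hA₀aff.isCompact
  have hWU : sat D A₀ ≤ U := by
    rintro w' ⟨z, hz, rfl⟩
    by_contra hnot
    have h1 : sn (sig D z) = act D z := by rw [← Scheme.Hom.comp_apply, sig_snd]
    have h2 : act D (sig D z) = sn z := by rw [← Scheme.Hom.comp_apply, sig_act]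
    have : sn z ∈ act D '' (sn ⁻¹' (U : Set D.obj.left)ᶜ) :=
      ⟨sig D z, by change sn (sig D z) ∈ (U : Set D.obj.left)ᶜ; rw [h1]; exact hnot, h2⟩
    exact hA₀le hz this
  have hst := isStable_sat D A₀
  have hqa : (restrictDD (sat D A₀) hst).obj.left.IsQuasiAffine := by
    have : CompactSpace ↥(sat D A₀) := isCompact_iff_compactSpace.mp hWc
    haveI h1 : IsOpenImmersion (D.obj.left.homOfLE hWU) := inferInstance
    haveI h2 : IsOpenImmersion (D.obj.left.homOfLE hWU ≫ i) := inferInstance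
    haveI h3 : IsImmersion (D.obj.left.homOfLE hWU ≫ i) := inferInstance
    haveI h4 : CompactSpace (↑(sat D A₀) : Scheme.{u}) := this
    have hq : (↑(sat D A₀) : Scheme.{u}).IsQuasiAffine :=
      Scheme.IsQuasiAffine.of_isImmersion (D.obj.left.homOfLE hWU ≫ i)
    exact hq
  obtain ⟨U', -, hU'⟩ := exists_iso_toDD_of_isQuasiAffine (restrictDD (sat D A₀) hst)
  exact ⟨restrictDD (sat D A₀) hst, restrictHom (sat D A₀) hst, inferInstance,
    ⟨⟨v, hvW⟩, rfl⟩, U', hU'⟩

end Aff

/-- **Effective descent along a finite locally free morphism** for descent data in which finite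
subsets of fibres lie in (opens of) affine opens. -/
theorem exists_iso_toDD_of_finite {X Y : Scheme.{u}} (p : X ⟶ Y) [Surjective p] [IsFinite p]
    [Flat p] [LocallyOfFinitePresentation p] (D : SchDD p) {d : ℕ∞} (hp : GeomFibLE p d)
    (hV : FinOpenAff p D d) :
    ∃ W : Over Y, Nonempty ((toDD p).obj W ≅ D) := by
  classical
  refine exists_iso_toDD_of_locally_on_base p D fun y => ?_
  obtain ⟨O, hOaff, hy, -⟩ := TopologicalSpace.Opens.isBasis_iff_nbhd.mp Y.isBasis_affineOpens
    (TopologicalSpace.Opens.mem_top y)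
  refine ⟨O, hy, fun D' hD' => ?_⟩
  have h1 : IsAffine (O : Scheme.{u}) := hOaff
  have h2 : IsAffine (p ⁻¹ᵁ O : Scheme.{u}) := hOaff.preimage p
  have h3 : Surjective (p ∣_ O) :=
    MorphismProperty.of_isPullback (P := @Surjective) (isPullback_morphismRestrict p O).flip
      ‹Surjective p›
  refine exists_iso_toDD_of_finite_of_isAffine (p ∣_ O) D'
    (hp.of_mono (p ⁻¹ᵁ O).ι (Scheme.Opens.ι O) (morphismRestrict_ι p O).symm) ?_
  obtain ⟨obj, φ, hn, hs, hc⟩ := D'
  change obj = _ at hD'
  subst hD'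
  intro y' s hsc hs
  let g := pullback.fst D.obj.hom (p ⁻¹ᵁ O).ι
  have hs' : ∀ v ∈ s.image g, p (D.obj.hom v) = Scheme.Opens.ι O y' := by
    intro v hv
    rw [Finset.mem_image] at hv
    obtain ⟨w, hw, rfl⟩ := hv
    have e1 := hs w hw
    change (p ∣_ O) (pullback.snd D.obj.hom (p ⁻¹ᵁ O).ι w) = y' at e1
    rw [← e1, ← Scheme.Hom.comp_apply, ← Scheme.Hom.comp_apply, ← Scheme.Hom.comp_apply,
      ← Scheme.Hom.comp_apply, morphismRestrict_ι]
    change (pullback.fst D.obj.hom (p ⁻¹ᵁ O).ι ≫ D.obj.hom ≫ p) w = _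
    rw [pullback.condition_assoc]
  obtain ⟨U, hU, A, hA, i, hi⟩ := hV _ (s.image g)
    (le_trans (by exact_mod_cast Finset.card_image_le) hsc) hs'
  haveI : IsOpenImmersion i := hi
  refine ⟨g ⁻¹ᵁ U, fun v hv => hU _ (Finset.mem_image_of_mem g hv), A, hA, (g ∣_ U) ≫ i,
    inferInstance⟩

end Groth.Agent.Lib.Helper24.DescFin
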