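import Groth.Agent.Lib.Helper24.DescE9
import Groth.Agent.Lib.Helper24.DescSigma
set_option autoImplicit false
set_option linter.unusedSectionVars false
set_option backward.isDefEq.respectTransparency false
universe u
open CategoryTheory CategoryTheory.Limits AlgebraicGeometry Opposite

/-! # Sections of the descended functor of a descent datum relative to one morphism are morphisms
of descent data from canonical descent data -/

namespace Groth.Agent.Lib.Helper24.DescLoc
open Desc AlgSp Groth.Agent.Lib.Helper24.DescE Groth.Agent.Lib.Helper20.DescFamFF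

variable {X S : Scheme.{u}} {p : X ⟶ S} (D : SchDD p)

/-- the descent datum relative to the one-member family -/
abbrev fam : SchDDFam (fun _ : PUnit.{u + 1} => p) := (SchDDFam.ofSchDD.{u} p).obj D

variable {D}

/-- values of a section -/
abbrev sv {T : Over S} (a : Sec (fam D) T) {T' : Scheme.{u}} (k : T' ⟶ T.left) (x : T' ⟶ X)
    (h : k ≫ T.hom = x ≫ p) : Lifts D.obj x := a.s k (i := PUnit.unit) x h

/-- the universal value of a section -/
noncomputable def univ {T : Over S} (a : Sec (fam D) T) : pullback p T.hom ⟶ D.obj.left :=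
  (sv a (pullback.snd p T.hom) (pullback.fst p T.hom) pullback.condition.symm).1

lemma univ_hom {T : Over S} (a : Sec (fam D) T) : univ a ≫ D.obj.hom = pullback.fst p T.hom :=
  (sv a (pullback.snd p T.hom) (pullback.fst p T.hom) pullback.condition.symm).2

lemma sv_eq_univ {T : Over S} (a : Sec (fam D) T) {T' : Scheme.{u}} (k : T' ⟶ T.left) (x : T' ⟶ X)
    (h : k ≫ T.hom = x ≫ p) : (sv a k x h).1 = pullback.lift x k h.symm ≫ univ a :=
  a.nat (pullback.lift x k h.symm) (pullback.snd p T.hom) (pullback.fst p T.hom)
    pullback.condition.symm k x h (pullback.lift_snd _ _ _) (pullback.lift_fst _ _ _)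

lemma univ_map {T T' : Over S} (t : T' ⟶ T) (a : Sec (fam D) T) :
    univ (Sec.map t a) = pullback.map p T'.hom p T.hom (𝟙 X) t.left (𝟙 S) (by simp) (by simp) ≫
      univ a := by
  refine (sv_eq_univ a (pullback.snd p T'.hom ≫ t.left) (pullback.fst p T'.hom) _).trans ?_
  congr 1

/-- the morphism of descent data attached to a section -/
noncomputable def homOfSec {T : Over S} (a : Sec (fam D) T) : (toDD p).obj T ⟶ D :=
  ⟨Over.homMk (univ a) (univ_hom a), fun T' x₀ x₁ h v w hw => by
    have hv : v.1 ≫ pullback.fst p T.hom = x₀ := v.2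
    have hk : (v.1 ≫ pullback.snd p T.hom) ≫ T.hom = x₀ ≫ p := by
      rw [Category.assoc, ← pullback.condition, ← Category.assoc, hv]
    have e0 : v.1 = pullback.lift x₀ (v.1 ≫ pullback.snd p T.hom) hk.symm := by
      apply pullback.hom_ext
      · rw [pullback.lift_fst]; exact hv
      · rw [pullback.lift_snd]
    have e1 : w = sv a (v.1 ≫ pullback.snd p T.hom) x₀ hk := by
      apply Subtype.ext
      rw [sv_eq_univ, ← e0]
      exact hw
    have e2 := a.compat (v.1 ≫ pullback.snd p T.hom) (i := PUnit.unit) (j := PUnit.unit) x₀ x₁ hk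
      (hk.trans h)
    rw [e1]
    refine (congrArg Subtype.val e2).trans ?_
    exact sv_eq_univ a _ _ _⟩

lemma homOfSec_left {T : Over S} (a : Sec (fam D) T) : (homOfSec a).hom.left = univ a := rfl

/-- the section attached to a morphism of descent data -/
noncomputable def secOfHom {T : Over S} (m : (toDD p).obj T ⟶ D) : Sec (fam D) T where
  s T' k i x h := ⟨pullback.lift x k h.symm ≫ m.hom.left, by
    change (pullback.lift x k h.symm ≫ m.hom.left) ≫ D.obj.hom = x
    rw [Category.assoc, Over.w m.hom]; exact pullback.lift_fst _ _ _⟩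
  nat T' T'' μ k i x h k' x' h' hk hx := by
    change pullback.lift x' k' _ ≫ m.hom.left = μ ≫ pullback.lift x k _ ≫ m.hom.left
    rw [← Category.assoc]
    congr 1
    apply pullback.hom_ext <;> simp [hk, hx]
  compat T' k i j x y hx hy := by
    apply Subtype.ext
    have := m.comm x y (hx.symm.trans hy) ⟨pullback.lift x k hx.symm, pullback.lift_fst _ _ _⟩
      ⟨pullback.lift x k hx.symm ≫ m.hom.left, by
        rw [Category.assoc, Over.w m.hom]; exact pullback.lift_fst _ _ _⟩ rfl
    have e : (canMap p T x y (hx.symm.trans hy)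
        ⟨pullback.lift x k hx.symm, pullback.lift_fst _ _ _⟩).1 = pullback.lift y k hy.symm := by
      rw [canMap_val]
      apply pullback.hom_ext <;> simp
    exact this.trans (congrArg (· ≫ m.hom.left) e)

lemma secOfHom_val {T : Over S} (m : (toDD p).obj T ⟶ D) {T' : Scheme.{u}} (k : T' ⟶ T.left)
    (x : T' ⟶ X) (h : k ≫ T.hom = x ≫ p) :
    (sv (secOfHom m) k x h).1 = pullback.lift x k h.symm ≫ m.hom.left := rfl

lemma univ_secOfHom {T : Over S} (m : (toDD p).obj T ⟶ D) : univ (secOfHom m) = m.hom.left := by
  change pullback.lift _ _ _ ≫ m.hom.left = m.hom.left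
  have : pullback.lift (pullback.fst p T.hom) (pullback.snd p T.hom) pullback.condition = 𝟙 _ := by
    apply pullback.hom_ext <;> simp
  exact (congrArg (· ≫ m.hom.left) this).trans (Category.id_comp _)

lemma homOfSec_secOfHom {T : Over S} (m : (toDD p).obj T ⟶ D) : homOfSec (secOfHom m) = m := by
  apply SchDD.hom_ext
  apply Over.OverMorphism.ext
  exact univ_secOfHom m

lemma secOfHom_homOfSec {T : Over S} (a : Sec (fam D) T) : secOfHom (homOfSec a) = a := by
  apply Sec.ext'
  intro T' k i x hx
  exact (sv_eq_univ a k x hx).symm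

lemma secOfHom_injective {T : Over S} : Function.Injective (secOfHom (D := D) (T := T)) := by
  intro m m' h
  rw [← homOfSec_secOfHom m, h, homOfSec_secOfHom]

lemma secOfHom_map {T T' : Over S} (t : T' ⟶ T) (m : (toDD p).obj T ⟶ D) :
    secOfHom ((toDD p).map t ≫ m) = Sec.map t (secOfHom m) := by
  apply Sec.ext'
  intro T'' k i x hx
  change pullback.lift x k _ ≫ (pullback.map p T'.hom p T.hom (𝟙 X) t.left (𝟙 S) (by simp)
    (by simp)) ≫ m.hom.left = pullback.lift x (k ≫ t.left) _ ≫ m.hom.left
  rw [← Category.assoc]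
  congr 1
  apply pullback.hom_ext <;> simp

end Groth.Agent.Lib.Helper24.DescLoc
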