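import Groth.Agent.Lib.Helper24.DescLoc1
set_option autoImplicit false
set_option linter.unusedSectionVars false
set_option backward.isDefEq.respectTransparency false
universe u
open CategoryTheory CategoryTheory.Limits AlgebraicGeometry Opposite

/-! # Open sub-data of a descent datum: sections with values in the sub-datum form an open
subfunctor of the descended functor -/

namespace Groth.Agent.Lib.Helper24.DescLoc
open Desc AlgSp Groth.Agent.Lib.Helper24.DescE Groth.Agent.Lib.Helper20.DescFamFF

variable {X S : Scheme.{u}} {p : X ⟶ S} {D D' : SchDD p} (j : D' ⟶ D) [IsOpenImmersion j.hom.left]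

/-- a section has values in the open sub-datum -/
def InSub {T : Over S} (a : Sec (fam D) T) : Prop := Set.range (univ a) ⊆ Set.range j.hom.left

lemma mono_of_isOpenImmersion : Mono j := by
  constructor
  intro Z a b hab
  apply SchDD.hom_ext
  apply Over.OverMorphism.ext
  have h1 : a.hom.left ≫ j.hom.left = b.hom.left ≫ j.hom.left :=
    congrArg (fun m : Z ⟶ D => m.hom.left) hab
  exact (cancel_mono j.hom.left).1 h1

omit [IsOpenImmersion j.hom.left] in
lemma range_comp_subset {A B C : Scheme.{u}} (f : A ⟶ B) (g : B ⟶ C) :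
    Set.range (f ≫ g) ⊆ Set.range g := by
  rintro _ ⟨t, rfl⟩
  exact ⟨f t, (Scheme.Hom.comp_apply f g t).symm⟩

/-- transfer of the range condition between base points with the same image -/
lemma range_sv_subset {T : Over S} (a : Sec (fam D) T) {K : Scheme.{u}} (k : K ⟶ T.left)
    (x₁ x : K ⟶ X) (h₁ : k ≫ T.hom = x₁ ≫ p) (h : k ≫ T.hom = x ≫ p)
    (hr : Set.range (sv a k x₁ h₁).1 ⊆ Set.range j.hom.left) :
    Set.range (sv a k x h).1 ⊆ Set.range j.hom.left := by
  have hfac : IsOpenImmersion.lift j.hom.left (sv a k x₁ h₁).1 hr ≫ j.hom.left = (sv a k x₁ h₁).1 :=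
    IsOpenImmersion.lift_fac _ _ _
  let n₁ : Lifts D'.obj x₁ := ⟨IsOpenImmersion.lift j.hom.left (sv a k x₁ h₁).1 hr, by
    rw [← Over.w j.hom, ← Category.assoc, hfac]
    exact (sv a k x₁ h₁).2⟩
  have e1 := j.comm x₁ x (h₁.symm.trans h) n₁ (sv a k x₁ h₁) hfac.symm
  have e2 := congrArg Subtype.val
    (a.compat k (i := PUnit.unit) (j := PUnit.unit) x₁ x h₁ h)
  have e3 : (sv a k x h).1 = (D'.φ x₁ x (h₁.symm.trans h) n₁).1 ≫ j.hom.left := e2.symm.trans e1
  rw [e3]
  exact range_comp_subset _ _

/-- **saturation**: the preimage of the open sub-datum under the universal value of a section is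
saturated for the projection to `T` -/
lemma univ_mem_of_same_image {T : Over S} (a : Sec (fam D) T) (z₁ z : ↥(pullback p T.hom))
    (hq : pullback.snd p T.hom z₁ = pullback.snd p T.hom z)
    (hz₁ : univ a z₁ ∈ Set.range j.hom.left) : univ a z ∈ Set.range j.hom.left := by
  obtain ⟨ζ, h1, h2⟩ := Scheme.Pullback.exists_preimage_pullback
    (f := pullback.snd p T.hom) (g := pullback.snd p T.hom) z₁ z hq
  let Z := pullback (pullback.snd p T.hom) (pullback.snd p T.hom)
  let sK : Spec (Z.residueField ζ) ⟶ Z := Z.fromSpecResidueField ζ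
  let y₁ : Spec (Z.residueField ζ) ⟶ pullback p T.hom := sK ≫ pullback.fst _ _
  let y : Spec (Z.residueField ζ) ⟶ pullback p T.hom := sK ≫ pullback.snd _ _
  have hyy : y₁ ≫ pullback.snd p T.hom = y ≫ pullback.snd p T.hom := by
    simp only [y₁, y, Category.assoc, pullback.condition]
  have h₁ : (y₁ ≫ pullback.snd p T.hom) ≫ T.hom = (y₁ ≫ pullback.fst p T.hom) ≫ p := by
    simp only [Category.assoc, pullback.condition]
  have h : (y₁ ≫ pullback.snd p T.hom) ≫ T.hom = (y ≫ pullback.fst p T.hom) ≫ p := by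
    rw [hyy]
    simp only [Category.assoc, pullback.condition]
  have e₁ : (sv a (y₁ ≫ pullback.snd p T.hom) (y₁ ≫ pullback.fst p T.hom) h₁).1 = y₁ ≫ univ a := by
    rw [sv_eq_univ]
    congr 1
    apply pullback.hom_ext <;> simp
  have e : (sv a (y₁ ≫ pullback.snd p T.hom) (y ≫ pullback.fst p T.hom) h).1 = y ≫ univ a := by
    rw [sv_eq_univ]
    congr 1
    apply pullback.hom_ext
    · simp
    · rw [pullback.lift_snd]; exact hyy
  have hr : Set.range (sv a (y₁ ≫ pullback.snd p T.hom) (y₁ ≫ pullback.fst p T.hom) h₁).1 ⊆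
      Set.range j.hom.left := by
    rw [e₁]
    rintro _ ⟨t, rfl⟩
    have : y₁ t = z₁ := by
      simp only [y₁, sK, Scheme.Hom.comp_apply]
      rw [Scheme.fromSpecResidueField_apply, h1]
    rw [Scheme.Hom.comp_apply, this]
    exact hz₁
  have hr' := range_sv_subset j a _ _ _ h₁ h hr
  rw [e] at hr'
  obtain ⟨pt⟩ : Nonempty ↥(Spec (Z.residueField ζ)) := inferInstance
  have : y pt = z := by
    simp only [y, sK, Scheme.Hom.comp_apply]
    rw [Scheme.fromSpecResidueField_apply, h2]
  have h3 := hr' ⟨pt, rfl⟩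
  rw [Scheme.Hom.comp_apply, this] at h3
  exact h3

section Open
variable [Surjective p] [Flat p] [QuasiCompact p]

/-- the preimage of the sub-datum in `X ×_S T` -/
noncomputable def Om {T : Over S} (a : Sec (fam D) T) : (pullback p T.hom).Opens :=
  (univ a) ⁻¹ᵁ j.hom.left.opensRange

lemma mem_Om {T : Over S} (a : Sec (fam D) T) (z : ↥(pullback p T.hom)) :
    z ∈ Om j a ↔ univ a z ∈ Set.range j.hom.left := Iff.rfl

lemma preimage_image_Om {T : Over S} (a : Sec (fam D) T) :
    (pullback.snd p T.hom) ⁻¹' ((pullback.snd p T.hom) '' (Om j a : Set ↥(pullback p T.hom))) =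
      (Om j a : Set ↥(pullback p T.hom)) := by
  ext z
  constructor
  · rintro ⟨z₁, hz₁, hq⟩
    exact univ_mem_of_same_image j a z₁ z hq hz₁
  · intro hz
    exact ⟨z, hz, rfl⟩

/-- the open of `T` over which the section has values in the sub-datum -/
noncomputable def Tv {T : Over S} (a : Sec (fam D) T) : T.left.Opens :=
  ⟨(pullback.snd p T.hom) '' (Om j a : Set ↥(pullback p T.hom)), by
    rw [← (Flat.isQuotientMap_of_surjective (pullback.snd p T.hom)).isOpen_preimage,
      preimage_image_Om]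
    exact (Om j a).2⟩

lemma mem_Tv {T : Over S} (a : Sec (fam D) T) (x : T.left) :
    x ∈ Tv j a ↔ ∃ z, z ∈ Om j a ∧ pullback.snd p T.hom z = x := Iff.rfl

/-- the pulled back section has values in the sub-datum iff the morphism lands in the open -/
lemma inSub_map_iff {T T' : Over S} (t : T' ⟶ T) (a : Sec (fam D) T) :
    InSub j (Sec.map t a) ↔ Set.range t.left ⊆ (Tv j a : Set T.left) := by
  set μ := pullback.map p T'.hom p T.hom (𝟙 X) t.left (𝟙 S) (by simp) (by simp) with hμ
  have hμs : μ ≫ pullback.snd p T.hom = pullback.snd p T'.hom ≫ t.left := by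
    simp [hμ]
  unfold InSub
  rw [univ_map]
  constructor
  · rintro hr _ ⟨y', rfl⟩
    obtain ⟨z', rfl⟩ := (pullback.snd p T'.hom).surjective y'
    refine ⟨μ z', ?_, ?_⟩
    · have := hr ⟨z', rfl⟩
      rw [Scheme.Hom.comp_apply] at this
      exact this
    · rw [← Scheme.Hom.comp_apply, hμs, Scheme.Hom.comp_apply]
  · rintro hr _ ⟨z', rfl⟩
    rw [Scheme.Hom.comp_apply]
    obtain ⟨z₁, hz₁, hq⟩ := hr ⟨pullback.snd p T'.hom z', rfl⟩
    refine univ_mem_of_same_image j a z₁ (μ z') ?_ hz₁
    rw [hq, ← Scheme.Hom.comp_apply, ← Scheme.Hom.comp_apply, hμs]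

end Open

end Groth.Agent.Lib.Helper24.DescLoc
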