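import Groth.Agent.Lib.Helper24.DescAffine
set_option autoImplicit false
set_option linter.unusedSectionVars false
universe u
open CategoryTheory CategoryTheory.Limits AlgebraicGeometry

/-! Effective descent for open immersions along a flat, surjective, locally finitely presented
morphism (opens descend). -/

namespace Groth.Agent.Lib.Helper24.DescOpen
open Desc Groth.Agent.Lib.Helper24.DescAffine

variable {X S : Scheme.{u}} {p : X ⟶ S}

/-- a descent datum whose structure morphism is an open immersion has a saturated range -/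
theorem mem_range_of_same_image (D : SchDD p) [IsOpenImmersion D.obj.hom] (x w : X)
    (hw : w ∈ Set.range D.obj.hom) (h : p x = p w) : x ∈ Set.range D.obj.hom := by
  obtain ⟨z, hz1, hz2⟩ := Scheme.Pullback.exists_preimage_pullback (f := p) (g := p) w x h.symm
  let Z := pullback p p
  let s : Spec (Z.residueField z) ⟶ Z := Z.fromSpecResidueField z
  let x₀ : Spec (Z.residueField z) ⟶ X := s ≫ pullback.fst p p
  let x₁ : Spec (Z.residueField z) ⟶ X := s ≫ pullback.snd p p
  have h01 : x₀ ≫ p = x₁ ≫ p := by
    simp only [x₀, x₁, Category.assoc, pullback.condition]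
  have hr : Set.range x₀ ⊆ Set.range D.obj.hom := by
    rintro _ ⟨t, rfl⟩
    have : x₀ t = w := by
      simp only [x₀, s, Scheme.Hom.comp_apply]
      rw [Scheme.fromSpecResidueField_apply, hz1]
    rw [this]
    exact hw
  let v : Lifts D.obj x₀ := ⟨IsOpenImmersion.lift D.obj.hom x₀ hr, IsOpenImmersion.lift_fac _ _ _⟩
  let v' := D.φ x₀ x₁ h01 v
  obtain ⟨pt⟩ : Nonempty ↥(Spec (Z.residueField z)) := inferInstance
  refine ⟨v'.1 pt, ?_⟩
  rw [← Scheme.Hom.comp_apply, v'.2]
  simp only [x₁, s, Scheme.Hom.comp_apply]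
  rw [Scheme.fromSpecResidueField_apply, hz2]

/-- **Opens descend.** A descent datum relative to a flat, surjective, locally finitely presented
morphism whose structure morphism is an open immersion is effective. -/
theorem exists_iso_toDD_of_isOpenImmersion [Flat p] [Surjective p]
    [LocallyOfFinitePresentation p] (D : SchDD p) [IsOpenImmersion D.obj.hom] :
    ∃ U : Over S, IsOpenImmersion U.hom ∧ Nonempty ((toDD p).obj U ≅ D) := by
  let W : X.Opens := D.obj.hom.opensRange
  let O : S.Opens := ⟨p '' (W : Set X), p.isOpenMap _ W.2⟩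
  have hpre : p ⁻¹' (O : Set S) = Set.range D.obj.hom := by
    ext x
    constructor
    · rintro ⟨w, hw, hwx⟩
      exact mem_range_of_same_image D x w hw hwx.symm
    · intro hx
      exact ⟨x, hx, rfl⟩
  let U : Over S := Over.mk O.ι
  have hrange : Set.range (pullback.fst p O.ι) = Set.range D.obj.hom := by
    rw [Scheme.Pullback.range_fst, Scheme.Opens.range_ι]
    exact hpre
  let β : D.obj.left ≅ pullback p O.ι :=
    IsOpenImmersion.isoOfRangeEq D.obj.hom (pullback.fst p O.ι) hrange.symm
  have hβ1 : β.hom ≫ pullback.fst p O.ι = D.obj.hom := IsOpenImmersion.isoOfRangeEq_hom_fac _ _ _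
  let f : D ⟶ (toDD p).obj U :=
    ⟨Over.homMk β.hom hβ1, fun T x₀ x₁ h v w hw => by
      have key : ∀ (a b : T ⟶ pullback p O.ι),
          a ≫ pullback.fst p O.ι = b ≫ pullback.fst p O.ι → a = b :=
        fun a b e => (cancel_mono _).1 e
      apply key
      refine Eq.trans (((toDD p).obj U).φ x₀ x₁ h w).2 ?_
      change x₁ = ((D.φ x₀ x₁ h v).1 ≫ β.hom) ≫ pullback.fst p O.ι
      rw [Category.assoc, hβ1]
      exact ((D.φ x₀ x₁ h v).2).symm⟩
  have hf : IsIso f.hom := by
    have : IsIso ((Over.forget X).map f.hom) := inferInstanceAs (IsIso β.hom)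
    exact isIso_of_reflects_iso f.hom (Over.forget X)
  have := isIso_of_isIso_hom f
  exact ⟨U, inferInstanceAs (IsOpenImmersion O.ι), ⟨(asIso f).symm⟩⟩

end Groth.Agent.Lib.Helper24.DescOpen
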