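import Groth.Agent.Lib.Helper24.DescAffine
import Mathlib
set_option autoImplicit false
set_option linter.unusedSectionVars false
set_option linter.style.haveILetI false
universe u
open CategoryTheory CategoryTheory.Limits AlgebraicGeometry Opposite

/-! # Descent of open immersions along flat surjective quasi-compact morphisms -/

namespace Groth.Agent.Lib.Helper24.DescOpenQc
open Desc Groth.Agent.Lib.Helper24.DescAffine

variable {X S : Scheme.{u}} (p : X ⟶ S) (D : SchDD p)

/-- a morphism over `X` into a descent datum with monic structure morphism is a morphism of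
descent data -/
def homOfMono [Mono D.obj.hom] (D' : SchDD p) (f : D'.obj ⟶ D.obj) : D' ⟶ D :=
  ⟨f, fun T x₀ x₁ h v w hw => by
    rw [← cancel_mono D.obj.hom, Category.assoc, Over.w f]
    exact (D.φ x₀ x₁ h w).2.trans (D'.φ x₀ x₁ h v).2.symm⟩

/-- the range of the structure morphism is saturated -/
lemma range_saturated [IsOpenImmersion D.obj.hom] {x x' : X} (hx : x ∈ Set.range D.obj.hom)
    (h : p x = p x') : x' ∈ Set.range D.obj.hom := by
  obtain ⟨z, hz1, hz2⟩ := Scheme.Pullback.exists_preimage_pullback x x' h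
  let W : X.Opens := D.obj.hom.opensRange
  let T : (pullback p p).Opens := (pullback.fst p p) ⁻¹ᵁ W
  let x₀ : (T : Scheme.{u}) ⟶ X := T.ι ≫ pullback.fst p p
  let x₁ : (T : Scheme.{u}) ⟶ X := T.ι ≫ pullback.snd p p
  have hc : x₀ ≫ p = x₁ ≫ p := by
    simp only [x₀, x₁, Category.assoc, pullback.condition]
  have hr : Set.range x₀ ⊆ Set.range D.obj.hom := by
    rintro _ ⟨t, rfl⟩
    change (T.ι ≫ pullback.fst p p) t ∈ W
    rw [Scheme.Hom.comp_apply]
    exact t.2
  let n : Lifts D.obj x₀ := ⟨IsOpenImmersion.lift D.obj.hom x₀ hr, IsOpenImmersion.lift_fac _ _ _⟩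
  have hzT : z ∈ T := by
    change pullback.fst p p z ∈ W
    rw [hz1]; exact hx
  let zT : (T : Scheme.{u}) := ⟨z, hzT⟩
  refine ⟨(D.φ x₀ x₁ hc n).1 zT, ?_⟩
  have e1 : ((D.φ x₀ x₁ hc n).1 ≫ D.obj.hom) zT = x₁ zT :=
    congrArg (fun m : (T : Scheme.{u}) ⟶ X => m zT) (D.φ x₀ x₁ hc n).2
  rw [Scheme.Hom.comp_apply] at e1
  rw [e1]
  change (T.ι ≫ pullback.snd p p) zT = x'
  rw [Scheme.Hom.comp_apply]
  exact hz2

/-- **Open immersions descend along flat surjective quasi-compact morphisms.** -/
theorem exists_iso_toDD_of_isOpenImmersion [Flat p] [Surjective p] [QuasiCompact p]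
    [IsOpenImmersion D.obj.hom] : ∃ U : Over S, Nonempty ((toDD p).obj U ≅ D) := by
  have hq : Topology.IsQuotientMap p := Flat.isQuotientMap_of_surjective p
  have hpre : p ⁻¹' (p '' Set.range D.obj.hom) = Set.range D.obj.hom := by
    ext x'
    constructor
    · rintro ⟨x, hx, hxx'⟩
      exact range_saturated p D hx hxx'
    · intro hx'
      exact ⟨x', hx', rfl⟩
  have hopen : IsOpen (p '' Set.range D.obj.hom) := by
    rw [← hq.isOpen_preimage, hpre]
    exact D.obj.hom.isOpenEmbedding.isOpen_range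
  let U : S.Opens := ⟨p '' Set.range D.obj.hom, hopen⟩
  have hrange : Set.range (pullback.fst p U.ι) = Set.range D.obj.hom := by
    rw [Scheme.Pullback.range_fst, Scheme.Opens.range_ι]
    exact hpre
  let e : pullback p U.ι ≅ D.obj.left :=
    IsOpenImmersion.isoOfRangeEq (pullback.fst p U.ι) D.obj.hom hrange
  have he : e.hom ≫ D.obj.hom = pullback.fst p U.ι :=
    IsOpenImmersion.isoOfRangeEq_hom_fac _ _ _
  let f : ((toDD p).obj (Over.mk U.ι)).obj ⟶ D.obj := Over.homMk e.hom he
  haveI : IsIso f := by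
    haveI : IsIso ((Over.forget X).map f) := by
      change IsIso e.hom
      infer_instance
    exact isIso_of_reflects_iso f (Over.forget X)
  haveI : IsIso (homOfMono p D _ f).hom := ‹IsIso f›
  haveI := isIso_of_isIso_hom (homOfMono p D _ f)
  exact ⟨Over.mk U.ι, ⟨asIso (homOfMono p D _ f)⟩⟩

end Groth.Agent.Lib.Helper24.DescOpenQc
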