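import Groth.Agent.Lib.Helper24.DescE3
set_option autoImplicit false
set_option linter.unusedSectionVars false
set_option backward.isDefEq.respectTransparency false
universe u
open CategoryTheory CategoryTheory.Limits AlgebraicGeometry Opposite

/-! # Natural isomorphisms of functors to descent data from bijections on points;
pullback along endomorphisms over the base -/

namespace Groth.Agent.Lib.Helper24.DescPull
open Desc Groth.Agent.Lib.Helper24.DescE Groth.Agent.Lib.Helper20.DescFamFF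

section NatIso
variable {κ : Type u} {B : Scheme.{u}} {V : κ → Scheme.{u}} {v : ∀ j, V j ⟶ B}
  {𝒞 : Type*} [Category 𝒞] (G H : 𝒞 ⥤ SchDDFam v)

/-- a natural isomorphism of functors to descent data from natural bijections on points -/
noncomputable def natIsoOfEquiv
    (b : ∀ (c : 𝒞) (j : κ) ⦃T : Scheme.{u}⦄ (m₀ : T ⟶ V j),
      Lifts ((G.obj c).obj j) m₀ ≃ Lifts ((H.obj c).obj j) m₀)
    (nat : ∀ (c : 𝒞) (j : κ) ⦃T T' : Scheme.{u}⦄ (g : T' ⟶ T) (m₀ : T ⟶ V j) (m₀' : T' ⟶ V j)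
      (n : Lifts ((G.obj c).obj j) m₀) (n' : Lifts ((G.obj c).obj j) m₀'), n'.1 = g ≫ n.1 →
      (b c j m₀' n').1 = g ≫ (b c j m₀ n).1)
    (comm : ∀ (c : 𝒞) ⦃T : Scheme.{u}⦄ ⦃j j' : κ⦄ (x₀ : T ⟶ V j) (x₁ : T ⟶ V j')
      (h : x₀ ≫ v j = x₁ ≫ v j') (n : Lifts ((G.obj c).obj j) x₀),
      (H.obj c).φ x₀ x₁ h (b c j x₀ n) = b c j' x₁ ((G.obj c).φ x₀ x₁ h n))
    (natc : ∀ ⦃c c' : 𝒞⦄ (a : c ⟶ c') (j : κ) ⦃T : Scheme.{u}⦄ (m₀ : T ⟶ V j)
      (n : Lifts ((G.obj c).obj j) m₀) (n' : Lifts ((G.obj c').obj j) m₀),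
      n'.1 = n.1 ≫ ((G.map a).hom j).left →
      (b c' j m₀ n').1 = (b c j m₀ n).1 ≫ ((H.map a).hom j).left) : G ≅ H :=
  NatIso.ofComponents (fun c => isoOfEquiv (b c) (nat c) (comm c)) (by
    intro c c' a
    apply SchDDFam.hom_ext
    funext j
    apply Over.OverMorphism.ext
    change ((G.map a).hom j).left ≫ (overIsoOfEquiv _ _ (b c' j) (nat c' j)).hom.left =
      (overIsoOfEquiv _ _ (b c j) (nat c j)).hom.left ≫ ((H.map a).hom j).left
    -- test on the universal point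
    let n : Lifts ((G.obj c).obj j) ((G.obj c).obj j).hom := ⟨𝟙 _, Category.id_comp _⟩
    let n' : Lifts ((G.obj c').obj j) ((G.obj c).obj j).hom :=
      ⟨((G.map a).hom j).left, Over.w ((G.map a).hom j)⟩
    have h1 := overIsoOfEquiv_hom _ _ (b c' j) (nat c' j) _ n'
    have h2 := overIsoOfEquiv_hom _ _ (b c j) (nat c j) _ n
    have h3 := natc a j _ n n' (Category.id_comp _).symm
    have h1' : ((G.map a).hom j).left ≫ (overIsoOfEquiv _ _ (b c' j) (nat c' j)).hom.left =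
        (b c' j _ n').1 := h1
    have h2' : 𝟙 _ ≫ (overIsoOfEquiv _ _ (b c j) (nat c j)).hom.left = (b c j _ n).1 := h2
    rw [h1', h3, ← h2', Category.id_comp])

end NatIso

section SelfIso
variable {κ : Type u} {B : Scheme.{u}} {V : κ → Scheme.{u}} {v : ∀ j, V j ⟶ B}
  (G : SchDDFam v ⥤ SchDDFam v)
  (τ : ∀ (j : κ) ⦃T : Scheme.{u}⦄, (T ⟶ V j) → (T ⟶ V j))
  (hτ : ∀ (j : κ) ⦃T : Scheme.{u}⦄ (m₀ : T ⟶ V j), τ j m₀ ≫ v j = m₀ ≫ v j)
  (hτn : ∀ (j : κ) ⦃T T' : Scheme.{u}⦄ (g : T' ⟶ T) (m₀ : T ⟶ V j), τ j (g ≫ m₀) = g ≫ τ j m₀)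
  (β : ∀ (D : SchDDFam v) (j : κ) ⦃T : Scheme.{u}⦄ (m₀ : T ⟶ V j),
    Lifts ((G.obj D).obj j) m₀ ≃ Lifts (D.obj j) (τ j m₀))
  (βn : ∀ (D : SchDDFam v) (j : κ) ⦃T T' : Scheme.{u}⦄ (g : T' ⟶ T) (m₀ : T ⟶ V j)
    (n : Lifts ((G.obj D).obj j) m₀) (n' : Lifts ((G.obj D).obj j) (g ≫ m₀)), n'.1 = g ≫ n.1 →
    (β D j (g ≫ m₀) n').1 = g ≫ (β D j m₀ n).1)
  (βφ : ∀ (D : SchDDFam v) ⦃T : Scheme.{u}⦄ ⦃j j' : κ⦄ (x₀ : T ⟶ V j) (x₁ : T ⟶ V j')
    (h : x₀ ≫ v j = x₁ ≫ v j') (n : Lifts ((G.obj D).obj j) x₀),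
    β D j' x₁ ((G.obj D).φ x₀ x₁ h n) =
      D.φ (τ j x₀) (τ j' x₁) (by rw [hτ, hτ, h]) (β D j x₀ n))
  (βm : ∀ ⦃D D' : SchDDFam v⦄ (a : D ⟶ D') (j : κ) ⦃T : Scheme.{u}⦄ (m₀ : T ⟶ V j)
    (n : Lifts ((G.obj D).obj j) m₀) (n' : Lifts ((G.obj D').obj j) m₀),
    n'.1 = n.1 ≫ ((G.map a).hom j).left → (β D' j m₀ n').1 = (β D j m₀ n).1 ≫ (a.hom j).left)

include hτn βn βφ βm in
/-- a functor on descent data whose points are the points of the datum at translated base points,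
the translation being over the base, is isomorphic to the identity -/
theorem nonempty_iso_id : Nonempty (G ≅ 𝟭 (SchDDFam v)) := by
  refine ⟨natIsoOfEquiv G (𝟭 _) (fun D j T m₀ => (β D j m₀).trans (D.φ (τ j m₀) m₀ (hτ j m₀)))
    ?_ ?_ ?_⟩
  · intro D j T T' g m₀ m₀' n n' hn
    have hm : m₀' = g ≫ m₀ := by rw [← n'.2, hn, Category.assoc, n.2]
    subst hm
    simp only [Equiv.trans_apply]
    exact D.φ_natural g (τ j m₀) m₀ _ (τ j (g ≫ m₀)) (g ≫ m₀) (hτn j g m₀).symm rfl _ _ _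
      (βn D j g m₀ n n' hn)
  · intro D T j j' x₀ x₁ h n
    simp only [Equiv.trans_apply, Functor.id_obj]
    rw [βφ, D.φ_comp, D.φ_comp]
  · intro D D' a j T m₀ n n' hn
    simp only [Equiv.trans_apply]
    exact a.comm (τ j m₀) m₀ (hτ j m₀) (β D j m₀ n) (β D' j m₀ n') (βm a j m₀ n n' hn)

end SelfIso

section Endo
variable {X S : Scheme.{u}} (a : X ⟶ S) (f : X ⟶ X) (h : f ≫ a = a)

/-- pullback of descent data along an endomorphism over the base is isomorphic to the identity -/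
theorem pull_self_iso :
    Nonempty (pullDDFam (f := fun _ : PUnit.{u + 1} => a) (f' := fun _ : PUnit.{u + 1} => a)
      (α := fun j => j) (p := 𝟙 S) (p' := fun _ => f)
      (fun _ => h.trans (Category.comp_id a).symm) ≅ 𝟭 (SchDDFam (fun _ : PUnit.{u + 1} => a))) := by
  refine nonempty_iso_id _ (fun _ T m₀ => m₀ ≫ f) ?_ ?_
    (fun D j T m₀ => liftsPullbackEquiv (D.obj j) f m₀) ?_ ?_ ?_
  · intro j T m₀
    rw [Category.assoc, h]
  · intro j T T' g m₀
    exact Category.assoc _ _ _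
  · intro D j T T' g m₀ n n' hn
    change n'.1 ≫ pullback.fst _ _ = g ≫ n.1 ≫ pullback.fst _ _
    rw [hn, Category.assoc]
  · intro D T j j' x₀ x₁ hx n
    change liftsPullbackEquiv (D.obj j') f x₁ ((liftsPullbackEquiv (D.obj j') f x₁).symm _) = _
    rw [Equiv.apply_symm_apply]
    rfl
  · intro D D' b j T m₀ n n' hn
    change n'.1 ≫ pullback.fst _ _ = (n.1 ≫ pullback.fst _ _) ≫ (b.hom j).left
    rw [hn]
    have e : (((pullDDFam (f := fun _ : PUnit.{u + 1} => a) (f' := fun _ : PUnit.{u + 1} => a)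
      (α := fun j => j) (p := 𝟙 S) (p' := fun _ => f)
      (fun _ => h.trans (Category.comp_id a).symm)).map b).hom j).left ≫
        pullback.fst (D'.obj j).hom f = pullback.fst (D.obj j).hom f ≫ (b.hom j).left :=
      pullback.lift_fst _ _ _
    rw [Category.assoc, e, Category.assoc]

end Endo

theorem comp_aux {C : Type*} [Category C] {A B B' M M' E E' : C} (n : A ⟶ B) (x : B ⟶ B')
    (p1' : B' ⟶ M') (p2' : M' ⟶ E') (p1 : B ⟶ M) (y : M ⟶ M') (p2 : M ⟶ E) (z : E ⟶ E')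
    (e1 : x ≫ p1' = p1 ≫ y) (e2 : y ≫ p2' = p2 ≫ z) :
    (n ≫ x) ≫ p1' ≫ p2' = ((n ≫ p1) ≫ p2) ≫ z := by
  rw [Category.assoc, ← Category.assoc x, e1, Category.assoc, e2]
  simp only [Category.assoc]

section Back
variable {X X' S : Scheme.{u}} (a : X ⟶ S) (a' : X' ⟶ S) (f : X' ⟶ X) (g : X ⟶ X')
  (hf : f ≫ a = a') (hg : g ≫ a' = a)

/-- the pullback functor along `f` -/
noncomputable abbrev pullF : SchDDFam (fun _ : PUnit.{u + 1} => a) ⥤ SchDDFam (fun _ : PUnit.{u + 1} => a') :=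
  pullDDFam (f := fun _ : PUnit.{u + 1} => a) (f' := fun _ : PUnit.{u + 1} => a')
    (α := fun j => j) (p := 𝟙 S) (p' := fun _ => f) (fun _ => hf.trans (Category.comp_id a').symm)

/-- pulling back along `f` and then along a morphism `g` in the other direction, both over the
base, is isomorphic to the identity -/
theorem pull_pull_iso :
    Nonempty (pullF a a' f hf ⋙ pullF a' a g hg ≅ 𝟭 (SchDDFam (fun _ : PUnit.{u + 1} => a))) := by
  refine nonempty_iso_id _ (fun _ T m₀ => (m₀ ≫ g) ≫ f) ?_ ?_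
    (fun D j T m₀ => (liftsPullbackEquiv (((pullF a a' f hf).obj D).obj j) g m₀).trans
      (liftsPullbackEquiv (D.obj j) f (m₀ ≫ g))) ?_ ?_ ?_
  · intro j T m₀
    rw [Category.assoc, hf, Category.assoc, hg]
  · intro j T T' k m₀
    simp only [Category.assoc]
  · intro D j T T' k m₀ n n' hn
    change (n'.1 ≫ pullback.fst _ _) ≫ pullback.fst _ _ = k ≫ (n.1 ≫ pullback.fst _ _) ≫ pullback.fst _ _
    rw [hn]
    simp only [Category.assoc]
  · intro D T j j' x₀ x₁ hx n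
    simp only [Equiv.trans_apply]
    change liftsPullbackEquiv (D.obj j') f (x₁ ≫ g)
      (liftsPullbackEquiv (((pullF a a' f hf).obj D).obj j') g x₁
        ((liftsPullbackEquiv (((pullF a a' f hf).obj D).obj j') g x₁).symm _)) = _
    rw [Equiv.apply_symm_apply]
    change liftsPullbackEquiv (D.obj j') f (x₁ ≫ g)
      ((liftsPullbackEquiv (D.obj j') f (x₁ ≫ g)).symm _) = _
    rw [Equiv.apply_symm_apply]
    rfl
  · intro D D' b j T m₀ n n' hn
    change (n'.1 ≫ pullback.fst _ _) ≫ pullback.fst _ _ =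
      ((n.1 ≫ pullback.fst _ _) ≫ pullback.fst _ _) ≫ (b.hom j).left
    rw [hn]
    have e1 : (((pullF a a' f hf ⋙ pullF a' a g hg).map b).hom j).left ≫
        pullback.fst (((pullF a a' f hf).obj D').obj j).hom g =
        pullback.fst (((pullF a a' f hf).obj D).obj j).hom g ≫
          (((pullF a a' f hf).map b).hom j).left := pullback.lift_fst _ _ _
    have e2 : (((pullF a a' f hf).map b).hom j).left ≫ pullback.fst (D'.obj j).hom f =
        pullback.fst (D.obj j).hom f ≫ (b.hom j).left := pullback.lift_fst _ _ _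
    exact comp_aux _ _ _ _ _ _ _ _ e1 e2

include hg in
/-- **pullback of descent data along a morphism over the base admitting a morphism back is an
equivalence** -/
theorem pullF_isEquivalence : (pullF a a' f hf).IsEquivalence := by
  obtain ⟨η⟩ := pull_pull_iso a a' f g hf hg
  obtain ⟨ε⟩ := pull_pull_iso a' a g f hg hf
  exact (CategoryTheory.Equivalence.mk (pullF a a' f hf) (pullF a' a g hg) η.symm ε).isEquivalence_functor

end Back

end Groth.Agent.Lib.Helper24.DescPull
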