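import Groth.Agent.Lib.Helper24.DescRep
import Groth.Agent.Lib.Helper24.DescRefine
import Groth.Agent.Lib.Helper24.DescQAff
set_option autoImplicit false
set_option linter.unusedSectionVars false
universe u
open CategoryTheory CategoryTheory.Limits AlgebraicGeometry Opposite

/-! Descent of quasi-affine morphisms of algebraic spaces along an etale chart. -/

namespace Groth.Agent.Lib.Helper24.DescQAffMor
open AlgSp Desc Groth.Agent.Lib.Helper14.AS Groth.Agent.Lib.Helper24.DescSheaf
open Groth.Agent.Lib.Helper24.DescBridge Groth.Agent.Lib.Helper24.DescRep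
open Groth.Agent.Lib.Helper24.DescQAff Groth.Agent.Lib.Helper24.DescRefine

variable {S : Scheme.{u}}

/-- **Quasi-affine descent along an etale chart.** Let `p : h_V ⟶ G` be representable etale
surjective and suppose the base change `snd : F ×_G h_V ⟶ h_V` of `f : F ⟶ G` is, over every
affine scheme, represented by a quasi-affine scheme. Then for every affine `Z ⟶ G` the base
change of `f` is represented by a quasi-affine scheme `U₀` over `Z`. -/
theorem exists_quasiAffine_descent {F G : Sp S} (f : F ⟶ G)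
    {V : Over S} (p : (yon S).obj V ⟶ G) (hp : RepWith @Etale p) (hps : RepWith @Surjective p)
    {P : Sp S} (fst : P ⟶ F) (snd : P ⟶ (yon S).obj V) (sq : IsPullback fst snd f p)
    (h : ∀ ⦃Z' : Over S⦄, IsAffine Z'.left → ∀ (g' : (yon S).obj Z' ⟶ (yon S).obj V),
      ∃ (W' : Over S) (r : W' ⟶ Z') (fst' : (yon S).obj W' ⟶ P),
        IsPullback fst' ((yon S).map r) snd g' ∧ W'.left.IsQuasiAffine)
    ⦃Z : Over S⦄ (hZ : IsAffine Z.left) (g : (yon S).obj Z ⟶ G) :
    ∃ (U₀ : Over Z.left) (fstW : (yon S).obj (descObj U₀) ⟶ F),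
      IsPullback fstW ((yon S).map (descProj U₀)) f g ∧ U₀.left.IsQuasiAffine := by
  have hr := hp.rep
  obtain ⟨Z'', fst'', snd'', sq''⟩ : ∃ (Z'' : Over S) (fst'' : (yon S).obj Z'' ⟶ (yon S).obj V)
      (snd'' : Z'' ⟶ Z), IsPullback fst'' ((yon S).map snd'') p g :=
    ⟨_, _, hr.snd g, hr.isPullback g⟩
  have he : Etale snd''.left := hp.property g _ _ sq''
  have hs : Surjective snd''.left := hps.property g _ _ sq''
  have : CompactSpace Z.left := inferInstance
  obtain ⟨Z'l, j, hZ', hj, hjs⟩ := exists_affine_refinement snd''.left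
  let Z' : Over S := Over.mk (j ≫ Z''.hom)
  let j' : Z' ⟶ Z'' := Over.homMk j rfl
  let c : Z' ⟶ Z := j' ≫ snd''
  have hcl : c.left = j ≫ snd''.left := rfl
  have hcf : Flat c.left := by rw [hcl]; infer_instance
  have hcs : Surjective c.left := by rw [hcl]; exact hjs
  have : LocallyOfFinitePresentation c.left := by rw [hcl]; infer_instance
  obtain ⟨W', r, fst', sq', hW'⟩ := h hZ' ((yon S).map j' ≫ fst'')
  let E : Sp S := pullback f g
  let π : E ⟶ (yon S).obj Z := pullback.snd f g
  have hcomm : ((yon S).map j' ≫ fst'') ≫ p = (yon S).map c ≫ g := by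
    rw [Category.assoc, sq''.w, ← Category.assoc, ← Functor.map_comp]
  have houter : IsPullback (fst' ≫ fst) ((yon S).map r) f ((yon S).map c ≫ g) := by
    have := sq'.paste_horiz sq
    rw [hcomm] at this
    exact this
  let fstV : (yon S).obj W' ⟶ E := pullback.lift (fst' ≫ fst) ((yon S).map r ≫ (yon S).map c)
    (by rw [Category.assoc]; exact houter.w)
  have sqE : IsPullback fstV ((yon S).map r) π ((yon S).map c) := by
    refine IsPullback.of_right ?_ (pullback.lift_snd _ _ _) (IsPullback.of_hasPullback f g)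
    rw [pullback.lift_fst]
    exact houter
  have : (ddOfSq sqE).obj.left.IsQuasiAffine := hW'
  have : IsAffine Z'.left := hZ'
  obtain ⟨U₀, hU₀, ⟨i⟩⟩ := exists_iso_toDD_of_isQuasiAffine (p := c.left) (ddOfSq sqE)
  obtain ⟨fstW, hW⟩ := exists_isPullback_of_effective f g c r fstV sqE U₀ i
  exact ⟨U₀, fstW, hW, hU₀⟩

end Groth.Agent.Lib.Helper24.DescQAffMor
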