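import Mathlib
set_option autoImplicit false
set_option linter.unusedSectionVars false

namespace Groth.Agent.Lib.Helper24.DescRing
open TensorProduct

section Module
variable {A A' N : Type*} [CommRing A] [CommRing A'] [Algebra A A'] [Module.Flat A A']
  [AddCommGroup N] [Module A N] [Module A' N] [IsScalarTower A A' N]

variable (A A' N) in
/-- `n ↦ 1 ⊗ n` -/
def eta : N →ₗ[A] A' ⊗[A] N := TensorProduct.mk A A' N 1

variable (A A' N) in
/-- `a ⊗ n ↦ a • n` -/
def mu : A' ⊗[A] N →ₗ[A'] N := LinearMap.liftBaseChange A' (LinearMap.id (R := A) (M := N))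

@[simp] lemma mu_tmul (a : A') (n : N) : mu A A' N (a ⊗ₜ n) = a • n := by
  simp [mu]

variable (ψ : N →ₗ[A'] A' ⊗[A] N)

/-- the coinvariants of the coaction -/
def coinv : Submodule A N := LinearMap.ker (ψ.restrictScalars A - eta A A' N)

lemma mem_coinv {n : N} : n ∈ coinv ψ ↔ ψ n = 1 ⊗ₜ n := by
  simp [coinv, eta, sub_eq_zero]

/-- the comparison map `A' ⊗ N₀ → N` -/
def comparison : A' ⊗[A] coinv ψ →ₗ[A'] N := LinearMap.liftBaseChange A' (coinv ψ).subtype

@[simp] lemma comparison_tmul (a : A') (n : coinv ψ) : comparison ψ (a ⊗ₜ n) = a • (n : N) := by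
  simp [comparison]

lemma psi_comparison (x : A' ⊗[A] coinv ψ) :
    ψ (comparison ψ x) = (coinv ψ).subtype.lTensor A' x := by
  induction x using TensorProduct.induction_on with
  | zero => simp
  | tmul a n =>
    rw [comparison_tmul, map_smul, (mem_coinv ψ).1 n.2, LinearMap.lTensor_tmul, smul_tmul',
      smul_eq_mul, mul_one]
    rfl
  | add x y hx hy => rw [map_add, map_add, hx, hy, map_add]

theorem comparison_bijective (hcounit : ∀ n, mu A A' N (ψ n) = n)
    (hcoassoc : ∀ n, (ψ.restrictScalars A).lTensor A' (ψ n) = (eta A A' N).lTensor A' (ψ n)) :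
    Function.Bijective (comparison ψ) := by
  have hψinj : Function.Injective ψ := fun n n' h => by
    rw [← hcounit n, ← hcounit n', h]
  constructor
  · intro x y h
    have h2 : (coinv ψ).subtype.lTensor A' x = (coinv ψ).subtype.lTensor A' y := by
      rw [← psi_comparison, ← psi_comparison, h]
    exact Module.Flat.lTensor_preserves_injective_linearMap _ (Submodule.injective_subtype _) h2
  · intro n
    have hex : Function.Exact (coinv ψ).subtype (ψ.restrictScalars A - eta A A' N) :=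
      LinearMap.exact_subtype_ker_map _
    have hex2 := Module.Flat.lTensor_exact A' hex
    have h0 : (ψ.restrictScalars A - eta A A' N).lTensor A' (ψ n) = 0 := by
      rw [LinearMap.lTensor_sub, LinearMap.sub_apply, hcoassoc, sub_self]
    obtain ⟨y, hy⟩ := (hex2 (ψ n)).1 h0
    exact ⟨y, hψinj (by rw [psi_comparison, hy])⟩

theorem isBaseChange_coinv (hcounit : ∀ n, mu A A' N (ψ n) = n)
    (hcoassoc : ∀ n, (ψ.restrictScalars A).lTensor A' (ψ n) = (eta A A' N).lTensor A' (ψ n)) :
    IsBaseChange A' (coinv ψ).subtype :=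
  IsBaseChange.of_equiv (LinearEquiv.ofBijective (comparison ψ)
    (comparison_bijective ψ hcounit hcoassoc)) (fun x => by simp)

end Module

section Abs
variable {A A' N C C₂ : Type*} [CommRing A] [CommRing A'] [Algebra A A'] [Module.Flat A A']
  [AddCommGroup N] [Module A N] [Module A' N] [IsScalarTower A A' N]
  [AddCommGroup C] [Module A C] [Module A' C] [IsScalarTower A A' C]
  [AddCommGroup C₂] [Module A C₂] [Module A' C₂] [IsScalarTower A A' C₂]
  {j : N →ₗ[A] C} (hj : IsBaseChange A' j)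
  {j₂ : C →ₗ[A] C₂} (hj₂ : IsBaseChange A' j₂)
  (ψ : N →ₗ[A'] C) (c : C →ₗ[A'] N) (hcj : ∀ n, c (j n) = n) (hcψ : ∀ n, c (ψ n) = n)
  (m₁ m₂ : C →ₗ[A'] C₂) (hm₁ : ∀ n, m₁ (j n) = j₂ (ψ n)) (hm₂ : ∀ n, m₂ (j n) = j₂ (j n))
  (hassoc : ∀ n, m₁ (ψ n) = m₂ (ψ n))

include hj hj₂ hcj hcψ hm₁ hm₂ hassoc in
/-- abstract form: `C` plays the role of `A' ⊗ N` and `C₂` of `A' ⊗ A' ⊗ N` -/
theorem isBaseChange_ker :
    IsBaseChange A' (LinearMap.ker (ψ.restrictScalars A - j)).subtype := by
  let ψc : N →ₗ[A'] A' ⊗[A] N := hj.equiv.symm.toLinearMap ∘ₗ ψ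
  have hψc : ∀ n, hj.equiv (ψc n) = ψ n := fun n => by simp [ψc]
  have hker : coinv ψc = LinearMap.ker (ψ.restrictScalars A - j) := by
    ext n
    rw [mem_coinv, LinearMap.mem_ker, LinearMap.sub_apply, sub_eq_zero]
    change hj.equiv.symm (ψ n) = _ ↔ ψ n = j n
    rw [LinearEquiv.symm_apply_eq, hj.equiv_tmul, one_smul]
  have hmu : ∀ x : A' ⊗[A] N, mu A A' N x = c (hj.equiv x) := by
    intro x
    induction x using TensorProduct.induction_on with
    | zero => simp
    | tmul a n => rw [mu_tmul, hj.equiv_tmul, map_smul, hcj]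
    | add x y hx hy => rw [map_add, map_add, map_add, hx, hy]
  have hcounit : ∀ n, mu A A' N (ψc n) = n := fun n => by rw [hmu, hψc, hcψ]
  let K : A' ⊗[A] (A' ⊗[A] N) ≃ₗ[A] C₂ :=
    (LinearEquiv.lTensor A' (hj.equiv.restrictScalars A)).trans (hj₂.equiv.restrictScalars A)
  have hK : ∀ (a : A') (y : A' ⊗[A] N), K (a ⊗ₜ y) = a • j₂ (hj.equiv y) := fun a y => by
    simp [K, hj₂.equiv_tmul]
  have hK1 : ∀ x : A' ⊗[A] N, K ((ψc.restrictScalars A).lTensor A' x) = m₁ (hj.equiv x) := by
    intro x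
    induction x using TensorProduct.induction_on with
    | zero => simp
    | tmul a n =>
      rw [LinearMap.lTensor_tmul, hK, hj.equiv_tmul, map_smul, hm₁]
      change a • j₂ (hj.equiv (ψc n)) = _
      rw [hψc]
    | add x y hx hy => rw [map_add, map_add, map_add, map_add, hx, hy]
  have hK2 : ∀ x : A' ⊗[A] N, K ((eta A A' N).lTensor A' x) = m₂ (hj.equiv x) := by
    intro x
    induction x using TensorProduct.induction_on with
    | zero => simp
    | tmul a n =>
      rw [LinearMap.lTensor_tmul, hK, hj.equiv_tmul, map_smul, hm₂]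
      change a • j₂ (hj.equiv ((1 : A') ⊗ₜ n)) = _
      rw [hj.equiv_tmul, one_smul]
    | add x y hx hy => rw [map_add, map_add, map_add, map_add, hx, hy]
  have hcoassoc : ∀ n, (ψc.restrictScalars A).lTensor A' (ψc n) =
      (eta A A' N).lTensor A' (ψc n) := fun n => by
    apply K.injective
    rw [hK1, hK2, hψc, hassoc]
  rw [← hker]
  exact isBaseChange_coinv ψc hcounit hcoassoc

end Abs

end Groth.Agent.Lib.Helper24.DescRing
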