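import Groth.Agent.Lib.Helper24.DescRing
set_option autoImplicit false
set_option linter.unusedSectionVars false
set_option linter.style.haveILetI false
universe u
open CategoryTheory CategoryTheory.Limits TensorProduct

namespace Groth.Agent.Lib.Helper24.DescRing

/-- ring-level effective descent, in terms of pushout squares of commutative rings -/
theorem exists_isPushout_of_coaction {A A' B' C C₂ : CommRingCat.{u}} (a : A ⟶ A') (b : A' ⟶ B')
    (i : A' ⟶ C) (j : B' ⟶ C) (h₁ : IsPushout a (a ≫ b) i j)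
    (i₂ : A' ⟶ C₂) (j₂ : C ⟶ C₂) (h₂ : IsPushout a (a ≫ i) i₂ j₂)
    (hflat : a.hom.Flat)
    (ψ : B' ⟶ C) (hψ : b ≫ ψ = i)
    (c : C ⟶ B') (hci : i ≫ c = b) (hcj : j ≫ c = 𝟙 B') (hcψ : ψ ≫ c = 𝟙 B')
    (m₁ m₂ : C ⟶ C₂) (hm₁i : i ≫ m₁ = i₂) (hm₁j : j ≫ m₁ = ψ ≫ j₂)
    (hm₂i : i ≫ m₂ = i₂) (hm₂j : j ≫ m₂ = j ≫ j₂) (hassoc : ψ ≫ m₁ = ψ ≫ m₂) :
    ∃ (B₀ : CommRingCat.{u}) (ι : B₀ ⟶ B') (a₀ : A ⟶ B₀),
      ι ≫ ψ = ι ≫ j ∧ a₀ ≫ ι = a ≫ b ∧ IsPushout a a₀ b ι := by
  letI : Algebra A A' := a.hom.toAlgebra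
  letI : Algebra A' B' := b.hom.toAlgebra
  letI : Algebra A B' := (a ≫ b).hom.toAlgebra
  haveI : IsScalarTower A A' B' := .of_algebraMap_eq (fun x => rfl)
  letI : Algebra A' C := i.hom.toAlgebra
  letI : Algebra A C := (a ≫ i).hom.toAlgebra
  haveI : IsScalarTower A A' C := .of_algebraMap_eq (fun x => rfl)
  letI : Algebra B' C := j.hom.toAlgebra
  haveI : IsScalarTower A B' C := .of_algebraMap_eq (fun x => by
    exact congr($(h₁.w) x))
  letI : Algebra A' C₂ := i₂.hom.toAlgebra
  letI : Algebra A C₂ := (a ≫ i₂).hom.toAlgebra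
  haveI : IsScalarTower A A' C₂ := .of_algebraMap_eq (fun x => rfl)
  letI : Algebra C C₂ := j₂.hom.toAlgebra
  haveI : IsScalarTower A C C₂ := .of_algebraMap_eq (fun x => by
    exact congr($(h₂.w) x))
  haveI : Module.Flat A A' := hflat
  have hP1 : Algebra.IsPushout A A' B' C := CommRingCat.isPushout_iff_isPushout.1 h₁
  have hP2 : Algebra.IsPushout A A' C C₂ := CommRingCat.isPushout_iff_isPushout.1 h₂
  have hj := hP1.out
  have hj₂ := hP2.out
  -- linear versions of the maps
  let ψl : B' →ₗ[A'] C :=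
    { toFun := ψ.hom, map_add' := map_add _, map_smul' := fun r x => by
        change ψ.hom (b.hom r * x) = i.hom r * ψ.hom x
        rw [map_mul]
        congr 1
        exact congr($hψ r) }
  let cl : C →ₗ[A'] B' :=
    { toFun := c.hom, map_add' := map_add _, map_smul' := fun r x => by
        change c.hom (i.hom r * x) = b.hom r * c.hom x
        rw [map_mul]
        congr 1
        exact congr($hci r) }
  let m₁l : C →ₗ[A'] C₂ :=
    { toFun := m₁.hom, map_add' := map_add _, map_smul' := fun r x => by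
        change m₁.hom (i.hom r * x) = i₂.hom r * m₁.hom x
        rw [map_mul]
        congr 1
        exact congr($hm₁i r) }
  let m₂l : C →ₗ[A'] C₂ :=
    { toFun := m₂.hom, map_add' := map_add _, map_smul' := fun r x => by
        change m₂.hom (i.hom r * x) = i₂.hom r * m₂.hom x
        rw [map_mul]
        congr 1
        exact congr($hm₂i r) }
  have key := isBaseChange_ker hj hj₂ ψl cl (fun n => congr($hcj n)) (fun n => congr($hcψ n))
    m₁l m₂l (fun n => congr($hm₁j n)) (fun n => congr($hm₂j n)) (fun n => congr($hassoc n))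
  -- the equalizer subring
  let B₀ : Subring B' := RingHom.eqLocus ψ.hom j.hom
  have ha₀ : ∀ x : A, (a ≫ b).hom x ∈ B₀ := fun x => by
    change ψ.hom (b.hom (a.hom x)) = j.hom (b.hom (a.hom x))
    have h1 : ψ.hom (b.hom (a.hom x)) = i.hom (a.hom x) := congr($hψ (a.hom x))
    have h2 : i.hom (a.hom x) = j.hom (b.hom (a.hom x)) := congr($(h₁.w) x)
    rw [h1, h2]
  let a₀ : A →+* B₀ := (a ≫ b).hom.codRestrict B₀ ha₀
  refine ⟨CommRingCat.of B₀, CommRingCat.ofHom B₀.subtype, CommRingCat.ofHom a₀, ?_, ?_, ?_⟩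
  · ext x
    exact x.2
  · ext x
    rfl
  · letI : Algebra A B₀ := a₀.toAlgebra
    letI : Algebra B₀ B' := B₀.subtype.toAlgebra
    haveI : IsScalarTower A B₀ B' := .of_algebraMap_eq (fun x => rfl)
    have hP : Algebra.IsPushout A A' B₀ B' := by
      constructor
      let e : B₀ ≃ₗ[A] LinearMap.ker (ψl.restrictScalars A - (IsScalarTower.toAlgHom A B' C).toLinearMap) :=
        { toFun := fun x => ⟨x.1, by
            rw [LinearMap.mem_ker, LinearMap.sub_apply, sub_eq_zero]
            exact x.2⟩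
          invFun := fun x => ⟨x.1, by
            have := x.2
            rw [LinearMap.mem_ker, LinearMap.sub_apply, sub_eq_zero] at this
            exact this⟩
          map_add' := fun x y => rfl
          map_smul' := fun r x => rfl
          left_inv := fun x => rfl
          right_inv := fun x => rfl }
      have h3 := IsBaseChange.comp_equiv e _ key
      have h4 : (IsScalarTower.toAlgHom A B₀ B').toLinearMap =
          (LinearMap.ker (ψl.restrictScalars A -
            (IsScalarTower.toAlgHom A B' C).toLinearMap)).subtype ∘ₗ e.toLinearMap := by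
        ext x
        rfl
      rw [h4]
      exact h3
    exact CommRingCat.isPushout_iff_isPushout.2 hP

end Groth.Agent.Lib.Helper24.DescRing
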