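import Groth.Agent.Lib.Helper24.ZarGlue
set_option autoImplicit false
set_option linter.unusedSectionVars false
universe u
open CategoryTheory CategoryTheory.Limits AlgebraicGeometry Opposite

/-! Representability with a Zariski-local-on-the-target property can be tested on affine schemes. -/

namespace Groth.Agent.Lib.Helper24.ZarGlueRep
open AlgSp Groth.Agent.Lib.Helper14.AS Groth.Agent.Lib.Helper24.ZarGlue

lemma morphismRestrict_iff_of_isPullback (P : MorphismProperty Scheme.{u}) [P.RespectsIso]
    {X' X Y : Scheme.{u}} {O : Y.Opens} {j : X' ⟶ X} {r : X' ⟶ (O : Scheme)} {ρ : X ⟶ Y}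
    (h : IsPullback j r ρ O.ι) : P (ρ ∣_ O) ↔ P r := by
  let e := h.flip.isoIsPullback _ _ (isPullback_morphismRestrict ρ O)
  have he : e.hom ≫ (ρ ∣_ O) = r := h.flip.isoIsPullback_hom_fst _ _ _
  rw [← he, P.cancel_left_of_respectsIso]

variable {S : Scheme.{u}}

/-- the base change of a sheaf morphism to a point, together with the induced square over the
pullback sheaf -/
lemma isPullback_lift_of_isPullback {F G : Sp S} (f : F ⟶ G) {T : Over S} (t : (yon S).obj T ⟶ G)
    {Z W : Over S} (o : Z ⟶ T) (i : W ⟶ Z) (fstW : (yon S).obj W ⟶ F)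
    (sqW : IsPullback fstW ((yon S).map i) f ((yon S).map o ≫ t)) :
    IsPullback (pullback.lift fstW ((yon S).map i ≫ (yon S).map o)
      (by rw [Category.assoc]; exact sqW.w)) ((yon S).map i) (pullback.snd f t) ((yon S).map o) := by
  refine IsPullback.of_right ?_ (pullback.lift_snd _ _ _) (IsPullback.of_hasPullback f t)
  rw [pullback.lift_fst]
  exact sqW

lemma isPullback_of_iso_pullback {F G : Sp S} (f : F ⟶ G) {T U : Over S} (t : (yon S).obj T ⟶ G)
    (ρ : U ⟶ T) (e : (yon S).obj U ≅ pullback f t) (he : e.hom ≫ pullback.snd f t = (yon S).map ρ) :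
    IsPullback (e.hom ≫ pullback.fst f t) ((yon S).map ρ) f t := by
  refine IsPullback.of_iso (IsPullback.of_hasPullback f t) e.symm (Iso.refl _) (Iso.refl _)
    (Iso.refl _) ?_ ?_ ?_ ?_
  · simp
  · simp only [Iso.symm_hom, Iso.refl_hom, Category.comp_id]
    rw [← he, Iso.inv_hom_id_assoc]
  · simp
  · simp

/-- **Affine-local criterion.** For `P` Zariski-local on the target: if every base change of `f`
to an affine scheme is representable with `P`, then `f` is representable with `P`. -/
theorem repWith_of_affine_local (P : MorphismProperty Scheme.{u}) [IsZariskiLocalAtTarget P]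
    {F G : Sp S} (f : F ⟶ G)
    (h : ∀ ⦃Z : Over S⦄, IsAffine Z.left → ∀ (g : (yon S).obj Z ⟶ G),
      ∃ (W : Over S) (i : W ⟶ Z) (fst : (yon S).obj W ⟶ F),
        IsPullback fst ((yon S).map i) f g ∧ P i.left) : RepWith P f := by
  have : (MorphismProperty.inverseImage P (Over.forget S)).RespectsIso :=
    MorphismProperty.RespectsIso.inverseImage _ _
  refine MorphismProperty.relative.of_exists fun T t => ?_
  obtain ⟨U, ρ, e, he, hloc⟩ := exists_rep_of_locally (pullback.snd f t)
    (fun _ _ r => P r.left) (by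
    intro w
    obtain ⟨O, hO, hwO, -⟩ := exists_isAffineOpen_mem_and_subset (x := w) (U := ⊤) trivial
    have hZ : IsAffine (resOpen T O).left := hO
    obtain ⟨W', i, fstW, sqW, hW'⟩ := h hZ ((yon S).map (resOpenι T O) ≫ t)
    exact ⟨O, hwO, W', i, _, isPullback_lift_of_isPullback f t (resOpenι T O) i fstW sqW, hW'⟩)
  refine ⟨U, e.hom ≫ pullback.fst f t, ρ, isPullback_of_iso_pullback f t ρ e he, ?_⟩
  change P ρ.left
  refine IsZariskiLocalAtTarget.of_forall_exists_morphismRestrict fun x => ?_
  obtain ⟨O, hxO, X', r, fst, j, -, sq', hr⟩ := hloc x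
  exact ⟨O, hxO, (morphismRestrict_iff_of_isPullback P sq').2 hr⟩

end Groth.Agent.Lib.Helper24.ZarGlueRep
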