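import Groth.Agent.Lib.Helper24.DescSubsheaf
import Groth.Agent.Lib.Helper24.DescChart
import Groth.Agent.Lib.Helper24.DescOpen
import Groth.Agent.Lib.Helper24.DescQAff
import Groth.Agent.Lib.Helper24.ZarGlueRep
set_option autoImplicit false
set_option linter.unusedSectionVars false
universe u
open CategoryTheory CategoryTheory.Limits AlgebraicGeometry Opposite

/-! Effective descent of separated, locally quasi-finite morphisms, in sheaf form: a sheaf over a
scheme which is fppf locally representable by a separated locally quasi-finite scheme is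
representable. -/

namespace Groth.Agent.Lib.Helper24.DescSL
open AlgSp Desc Groth.Agent.Lib.Helper14.AS Groth.Agent.Lib.Helper24.DescSheaf
open Groth.Agent.Lib.Helper24.DescBridge Groth.Agent.Lib.Helper24.DescSat
open Groth.Agent.Lib.Helper24.ZarGlue Groth.Agent.Lib.Helper24.DescSubsheaf
open Groth.Agent.Lib.Helper24.DescChart Groth.Agent.Lib.Helper24.DescOpen
open Groth.Agent.Lib.Helper24.DescQAff Groth.Agent.Lib.Helper24.ZarGlueRep

variable {S : Scheme.{u}}

/-- Zariski's main theorem: separated, locally quasi-finite, quasi-compact over affine is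
quasi-affine -/
lemma isQuasiAffine_of_sep_lqf {Y T' : Scheme.{u}} (r : Y ⟶ T') [IsAffine T'] [IsSeparated r]
    [LocallyQuasiFinite r] [LocallyOfFiniteType r] [QuasiCompact r] : Y.IsQuasiAffine := by
  have : IsAffineHom r.fromNormalization := inferInstance
  have : IsAffine r.normalization := isAffine_of_isAffineHom r.fromNormalization
  have : CompactSpace Y := QuasiCompact.compactSpace_of_compactSpace r
  exact Scheme.IsQuasiAffine.of_isImmersion r.toNormalization

variable {E : Sp S} {Z Z' V' : Over S} {π : E ⟶ (yon S).obj Z} {c : Z' ⟶ Z}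
  {fstV : (yon S).obj V' ⟶ E} {r : V' ⟶ Z'}
  (sq : IsPullback fstV ((yon S).map r) π ((yon S).map c))

include sq in
set_option backward.isDefEq.respectTransparency.types false in
/-- the chart `h_{V'} ⟶ E` inherits the properties of the cover `Z' ⟶ Z` -/
lemma repWith_fstV (P : MorphismProperty Scheme.{u}) [P.IsStableUnderBaseChange]
    (hc : P c.left) : RepWith P fstV :=
  MorphismProperty.of_isPullback (P := RepWith P) sq.flip ((repWith_yon_map_iff P c).2 hc)

section Chart
variable [IsAffine Z.left] [IsAffine Z'.left] [Flat c.left] [Surjective c.left]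
  [LocallyOfFinitePresentation c.left] [IsSeparated r.left] [LocallyQuasiFinite r.left]
  [LocallyOfFiniteType r.left]

include sq in
set_option backward.isDefEq.respectTransparency.types false in
/-- the open subsheaf generated by an affine open of the chart is representable -/
theorem exists_chart_of_isAffineOpen (A : V'.left.Opens) (hA : IsAffineOpen A) :
    ∃ (X : Over S) (f : (yon S).obj X ⟶ E), RepWith @IsOpenImmersion f ∧
      ∀ ⦃T : Over S⦄ (g : (yon S).obj T ⟶ E), (locPred fstV A).P g →
        ∃ l : T ⟶ X, (yon S).map l ≫ f = g := by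
  obtain ⟨k, sqk⟩ := exists_isPullback_subE A sq
  have sqA : IsPullback k ((yon S).map (resOpenι V' (satOpen A sq) ≫ r))
      ((locPred fstV A).ι ≫ π) ((yon S).map c) := by
    rw [Functor.map_comp]
    exact sqk.paste_vert sq
  -- the saturation is quasi-affine
  have hcomp : CompactSpace ↥(satOpen A sq : Scheme.{u}) :=
    isCompact_iff_compactSpace.1 (isCompact_sat (ddOfSq sq) A hA.isCompact)
  let rA : (satOpen A sq : Scheme.{u}) ⟶ Z'.left := (satOpen A sq).ι ≫ r.left
  have hqa : (satOpen A sq : Scheme.{u}).IsQuasiAffine := isQuasiAffine_of_sep_lqf rA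
  have : (ddOfSq sqA).obj.left.IsQuasiAffine := hqa
  obtain ⟨U₀, -, ⟨i⟩⟩ := exists_iso_toDD_of_isQuasiAffine (p := c.left) (ddOfSq sqA)
  obtain ⟨e, -, he⟩ := exists_iso_of_effective sqA U₀ i
  -- the inclusion of the subsheaf is an open immersion
  have hm : RepWith @IsOpenImmersion (locPred fstV A).ι := by
    refine repWith_of_fppf_chart @IsOpenImmersion ?_ (locPred fstV A).ι fstV
      (repWith_fstV sq @Flat inferInstance)
      (repWith_fstV sq @LocallyOfFinitePresentation inferInstance)
      (repWith_fstV sq @Surjective inferInstance) k (resOpenι V' (satOpen A sq)) sqk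
      (inferInstanceAs (IsOpenImmersion (satOpen A sq).ι))
    intro X' S' p hs hf hl D hD
    have := hs; have := hf; have := hl
    have : IsOpenImmersion D.obj.hom := hD
    obtain ⟨U, -, hU⟩ := exists_iso_toDD_of_isOpenImmersion D
    exact ⟨U, hU⟩
  refine ⟨descObj U₀, e.hom ≫ (locPred fstV A).ι, ?_, fun T g hg => ?_⟩
  · exact (MorphismProperty.cancel_left_of_respectsIso (RepWith @IsOpenImmersion) e.hom _).2 hm
  · obtain ⟨g', hg'⟩ := ((locPred fstV A).P_iff g).1 hg
    refine ⟨(yon S).preimage (g' ≫ e.inv), ?_⟩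
    rw [(yon S).map_preimage, Category.assoc, Iso.inv_hom_id_assoc, hg']

end Chart


section Cover
variable [Flat c.left] [Surjective c.left] [LocallyOfFinitePresentation c.left]

include sq in
set_option backward.isDefEq.respectTransparency.types false in
/-- every point of `E` lies, Zariski-locally on the test scheme, in the subsheaf generated by an
affine open of the chart -/
theorem exists_locPred_nbhd {T : Over S} (t : (yon S).obj T ⟶ E) (x : T.left) :
    ∃ (A : V'.left.Opens) (_ : IsAffineOpen A) (O : T.left.Opens) (_ : x ∈ O),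
      (locPred fstV A).P ((yon S).map (resOpenι T O) ≫ t) := by
  have hqF := repWith_fstV sq @Flat inferInstance
  have hqL := repWith_fstV sq @LocallyOfFinitePresentation inferInstance
  have hqS := repWith_fstV sq @Surjective inferInstance
  let T₁ : Over S := hqF.rep.pullback t
  let w : T₁ ⟶ T := hqF.rep.snd t
  let v : T₁ ⟶ V' := hqF.rep.fst' t
  have sq₁ : IsPullback ((yon S).map v) ((yon S).map w) fstV t := hqF.rep.isPullback' t
  have hwF : Flat w.left := hqF.property _ _ _ sq₁
  have hwL : LocallyOfFinitePresentation w.left := hqL.property _ _ _ sq₁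
  have hwS : Surjective w.left := hqS.property _ _ _ sq₁
  obtain ⟨x₁, hx₁⟩ := hwS.surj x
  obtain ⟨A, hA, hvA, -⟩ := exists_isAffineOpen_mem_and_subset (x := v.left x₁) (U := ⊤) trivial
  let B : T₁.left.Opens := v.left ⁻¹ᵁ (satOpen A sq)
  have hx₁B : x₁ ∈ B := le_sat (ddOfSq sq) A hvA
  have hopen : IsOpenMap w.left := w.left.isOpenMap
  let O : T.left.Opens := ⟨w.left '' (B : Set T₁.left), hopen _ B.2⟩
  have hxO : x ∈ O := ⟨x₁, hx₁B, hx₁⟩
  refine ⟨A, hA, O, hxO, ?_⟩
  have hr : Set.range (B.ι ≫ w.left) ⊆ Set.range O.ι := by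
    rw [Scheme.Opens.range_ι]
    rintro _ ⟨y, rfl⟩
    exact ⟨B.ι y, y.2, rfl⟩
  let wB₀ : (B : Scheme.{u}) ⟶ (O : Scheme.{u}) := IsOpenImmersion.lift O.ι (B.ι ≫ w.left) hr
  have hwB₀ : wB₀ ≫ O.ι = B.ι ≫ w.left := IsOpenImmersion.lift_fac _ _ _
  let wB : resOpen T₁ B ⟶ resOpen T O := Over.homMk wB₀ (by
    change wB₀ ≫ O.ι ≫ T.hom = B.ι ≫ T₁.hom
    rw [← Category.assoc, hwB₀, Category.assoc, Over.w w])
  have hwBc : wB ≫ resOpenι T O = resOpenι T₁ B ≫ w := by
    ext1
    exact hwB₀
  have h1 : Flat wB.left := by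
    refine MorphismProperty.of_postcomp (W := @Flat) (W' := @IsOpenImmersion) wB₀ O.ι
      inferInstance ?_
    rw [hwB₀]
    infer_instance
  have h2 : LocallyOfFinitePresentation wB.left := by
    refine MorphismProperty.of_postcomp (W := @LocallyOfFinitePresentation)
      (W' := @IsOpenImmersion) wB₀ O.ι inferInstance ?_
    rw [hwB₀]
    infer_instance
  have h3 : Surjective wB.left := by
    refine ⟨fun y => ?_⟩
    obtain ⟨z, hzB, hz⟩ := y.2
    refine ⟨⟨z, hzB⟩, ?_⟩
    apply O.ι.injective
    have : (wB₀ ≫ O.ι) ⟨z, hzB⟩ = (B.ι ≫ w.left) ⟨z, hzB⟩ := by rw [hwB₀]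
    simp only [Scheme.Hom.comp_apply] at this
    exact this.trans hz
  refine (locPred fstV A).loc _ (Presieve.singleton wB) (singleton_mem_KS wB) ?_
  rintro W w' ⟨⟩
  rw [← Functor.map_comp_assoc, hwBc, Functor.map_comp_assoc, ← sq₁.w,
    ← Functor.map_comp_assoc]
  exact (locPred_iff A sq _).2 ⟨resMap v (satOpen A sq), resMap_comp v (satOpen A sq)⟩

end Cover


section Main
variable [IsAffine Z.left] [IsAffine Z'.left] [Flat c.left] [Surjective c.left]
  [LocallyOfFinitePresentation c.left] [IsSeparated r.left] [LocallyQuasiFinite r.left]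
  [LocallyOfFiniteType r.left]

include sq in
/-- **Effective descent for separated locally quasi-finite morphisms, affine case.** A sheaf over
an affine scheme `Z` whose base change along an fppf cover `Z' ⟶ Z` by an affine scheme is
representable by a scheme separated, locally quasi-finite and locally of finite type over `Z'`
is representable. -/
theorem exists_rep_of_affine_chart :
    ∃ (U : Over S) (ρ : U ⟶ Z) (e : (yon S).obj U ≅ E), e.hom ≫ π = (yon S).map ρ := by
  choose X f hf hlift using
    fun A : V'.left.affineOpens => exists_chart_of_isAffineOpen sq A.1 A.2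
  obtain ⟨U, e, -, -, -, -⟩ := exists_iso_yon_of_open_cover hf (by
    intro T t x
    obtain ⟨A, hA, O, hxO, hP⟩ := exists_locPred_nbhd sq t x
    obtain ⟨l, hl⟩ := hlift ⟨A, hA⟩ _ hP
    exact ⟨⟨A, hA⟩, O, hxO, l, hl⟩)
  exact ⟨U, (yon S).preimage (e.hom ≫ π), e, ((yon S).map_preimage _).symm⟩

end Main

lemma isAffineOpen_inf_preimage {X Y : Scheme.{u}} (f : X ⟶ Y) {U : X.Opens} (hU : IsAffineOpen U)
    {V₁ V : Y.Opens} (hV₁ : IsAffineOpen V₁) (hV : IsAffineOpen V) (hle : V ≤ V₁)
    (e : U ≤ f ⁻¹ᵁ V₁) : IsAffineOpen (U ⊓ f ⁻¹ᵁ V) := by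
  have : IsAffine (U : Scheme) := hU
  have : IsAffine (V₁ : Scheme) := hV₁
  have hW : IsAffineOpen (V₁.ι ⁻¹ᵁ V) :=
    hV.preimage_of_isOpenImmersion V₁.ι (by simpa using hle)
  have := (hW.preimage (f.resLE V₁ U e)).image_of_isOpenImmersion U.ι
  convert this using 1
  rw [Scheme.Hom.resLE_preimage, Scheme.Hom.image_preimage_eq_opensRange_inf,
    Scheme.Hom.image_preimage_eq_opensRange_inf, Scheme.Opens.opensRange_ι,
    Scheme.Opens.opensRange_ι]
  ext x
  simp only [TopologicalSpace.Opens.coe_inf, Set.mem_inter_iff, SetLike.mem_coe,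
    Scheme.Hom.mem_preimage]
  constructor
  · rintro ⟨h1, h2⟩
    exact ⟨h1, e h1, h2⟩
  · rintro ⟨h1, -, h2⟩
    exact ⟨h1, h2⟩

theorem isPullback_resMap {W U : Over S} (f : W ⟶ U) (N : U.left.Opens) :
    IsPullback (resOpenι W (f.left ⁻¹ᵁ N)) (resMap f N) f (resOpenι U N) := by
  apply IsPullback.of_map (Over.forget S)
  · exact (resMap_comp f N).symm
  · exact (isPullback_morphismRestrict f.left N).flip

set_option backward.isDefEq.respectTransparency.types false in
/-- **Effective descent for separated locally quasi-finite morphisms, sheaf form.** A sheaf over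
a scheme `T` which fppf locally on `T` is representable by schemes separated, locally
quasi-finite and locally of finite type over the cover is representable. -/
theorem exists_rep_of_chart {E : Sp S} {T : Over S} (π : E ⟶ (yon S).obj T)
    (h : ∀ x : T.left, ∃ (T' V' : Over S) (c : T' ⟶ T) (r : V' ⟶ T')
      (fstV : (yon S).obj V' ⟶ E), IsPullback fstV ((yon S).map r) π ((yon S).map c) ∧
        Flat c.left ∧ LocallyOfFinitePresentation c.left ∧ x ∈ Set.range c.left ∧
        IsSeparated r.left ∧ LocallyQuasiFinite r.left ∧ LocallyOfFiniteType r.left) :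
    ∃ (U : Over S) (ρ : U ⟶ T) (e : (yon S).obj U ≅ E), e.hom ≫ π = (yon S).map ρ := by
  obtain ⟨U, ρ, e, he, -⟩ := exists_rep_of_locally π (fun _ _ _ => True) (by
    intro x
    obtain ⟨T', V', c, r, fstV, sq, hcF, hcL, ⟨x', hx'⟩, hrS, hrQ, hrT⟩ := h x
    obtain ⟨O₁, hO₁, hxO₁, -⟩ := exists_isAffineOpen_mem_and_subset (x := x) (U := ⊤) trivial
    have hx'O₁ : x' ∈ c.left ⁻¹ᵁ O₁ := by
      change c.left x' ∈ O₁
      rw [hx']
      exact hxO₁
    obtain ⟨T'', hT'', hx'T'', hT''le⟩ := exists_isAffineOpen_mem_and_subset hx'O₁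
    have hopen : IsOpenMap c.left := c.left.isOpenMap
    let O₂ : T.left.Opens := ⟨c.left '' (T'' : Set T'.left), hopen _ T''.2⟩
    have hxO₂ : x ∈ O₂ := ⟨x', hx'T'', hx'⟩
    obtain ⟨O, hO, hxO, hOle⟩ := exists_isAffineOpen_mem_and_subset hxO₂
    have hOO₁ : O ≤ O₁ := by
      intro y hy
      obtain ⟨z, hz, rfl⟩ := hOle hy
      exact hT''le hz
    let T₃ : T'.left.Opens := T'' ⊓ c.left ⁻¹ᵁ O
    have hT₃ : IsAffineOpen T₃ := isAffineOpen_inf_preimage c.left hT'' hO₁ hO hOO₁ hT''le
    let c₀ : resOpen T' T₃ ⟶ resOpen T O := Over.homMk (c.left.resLE O T₃ inf_le_right) (by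
      change c.left.resLE O T₃ inf_le_right ≫ O.ι ≫ T.hom = T₃.ι ≫ T'.hom
      rw [← Category.assoc, Scheme.Hom.resLE_comp_ι, Category.assoc, Over.w c])
    have hc₀ : c₀ ≫ resOpenι T O = resOpenι T' T₃ ≫ c := by
      ext1
      exact Scheme.Hom.resLE_comp_ι _ _
    have h1 : Flat c₀.left := IsZariskiLocalAtSource.resLE _ hcF
    have h2 : LocallyOfFinitePresentation c₀.left := IsZariskiLocalAtSource.resLE _ hcL
    have h3 : Surjective c₀.left := by
      refine ⟨fun y => ?_⟩
      obtain ⟨z, hz, hzy⟩ := hOle y.2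
      have hz₃ : z ∈ T₃ := ⟨hz, by change c.left z ∈ O; rw [hzy]; exact y.2⟩
      refine ⟨⟨z, hz₃⟩, ?_⟩
      apply O.ι.injective
      have : (c.left.resLE O T₃ inf_le_right ≫ O.ι) ⟨z, hz₃⟩ = (T₃.ι ≫ c.left) ⟨z, hz₃⟩ := by
        rw [Scheme.Hom.resLE_comp_ι]
      simp only [Scheme.Hom.comp_apply] at this
      exact this.trans hzy
    have h4 : IsSeparated (resMap r T₃).left := IsZariskiLocalAtTarget.restrict hrS T₃
    have h5 : LocallyQuasiFinite (resMap r T₃).left := IsZariskiLocalAtTarget.restrict hrQ T₃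
    have h6 : LocallyOfFiniteType (resMap r T₃).left := IsZariskiLocalAtTarget.restrict hrT T₃
    have h7 : IsAffine (resOpen T O).left := hO
    have h8 : IsAffine (resOpen T' T₃).left := hT₃
    have sqW : IsPullback ((yon S).map (resOpenι V' (r.left ⁻¹ᵁ T₃)) ≫ fstV)
        ((yon S).map (resMap r T₃)) π ((yon S).map c₀ ≫ (yon S).map (resOpenι T O)) := by
      rw [← Functor.map_comp, hc₀, Functor.map_comp]
      exact ((isPullback_resMap r T₃).map (yon S)).paste_horiz sq
    have sq₀ := isPullback_lift_of_isPullback π ((yon S).map (resOpenι T O)) c₀ (resMap r T₃) _ sqW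
    obtain ⟨U₀, ρ₀, e₀, he₀⟩ := exists_rep_of_affine_chart sq₀
    exact ⟨O, hxO, U₀, ρ₀, _, isPullback_of_iso_pullback π _ ρ₀ e₀ he₀, trivial⟩)
  exact ⟨U, ρ, e, he⟩

end Groth.Agent.Lib.Helper24.DescSL
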