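import Groth.Agent.Lib.Helper24.DescFin1
import Groth.Agent.Lib.Helper24.DescFin2
import Groth.Agent.S1131
import Groth.Agent.S1132
import Groth.Agent.S1133
set_option autoImplicit false
set_option linter.unusedSectionVars false
set_option linter.style.haveILetI false
universe u
open CategoryTheory CategoryTheory.Limits AlgebraicGeometry Opposite

/-! # Effective descent along flat surjective quasi-compact universally injective morphisms -/

namespace Groth.Agent.Lib.Helper24.DescUInj
open Desc Groth.Agent.Lib.Helper24.DescAffine Groth.Agent.Lib.Helper24.DescSat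
  Groth.Agent.Lib.Helper24.DescLoc Groth.Agent.Lib.Helper24.DescFin

/-- a universally injective morphism is separated -/
theorem isSeparated_of_universallyInjective {X S : Scheme.{u}} (p : X ⟶ S)
    [UniversallyInjective p] : IsSeparated p := by
  haveI : Surjective (pullback.diagonal p) := (UniversallyInjective.iff_diagonal p).mp ‹_›
  refine ⟨IsClosedImmersion.of_isPreimmersion _ ?_⟩
  rw [(pullback.diagonal p).surjective.range_eq]
  exact isClosed_univ

section
variable {X S : Scheme.{u}} (p : X ⟶ S) [UniversallyInjective p] (D : SchDD p)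

/-- over a universally injective `p` the action and the projection agree on points -/
lemma act_apply_eq (z : TT D) : act D z = pullback.snd p (D.obj.hom ≫ p) z := by
  haveI : UniversallyInjective (pullback.snd p (D.obj.hom ≫ p)) :=
    MorphismProperty.of_isPullback (P := @UniversallyInjective)
      (IsPullback.of_hasPullback p (D.obj.hom ≫ p)) ‹_›
  have hinj : Function.Injective (pullback.snd p (D.obj.hom ≫ p)) := Scheme.Hom.injective _
  have hu : unit D ≫ pullback.snd p (D.obj.hom ≫ p) = 𝟙 _ := pullback.lift_snd _ _ _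
  have h1 : unit D (pullback.snd p (D.obj.hom ≫ p) z) = z := by
    apply hinj
    rw [← Scheme.Hom.comp_apply, hu]; rfl
  conv_lhs => rw [← h1]
  rw [← Scheme.Hom.comp_apply, unit_act]; rfl

/-- every open is stable -/
lemma isStable_of_universallyInjective (W : D.obj.left.Opens) : IsStable D W := by
  intro T x₀ x₁ h n hn
  rintro _ ⟨t, rfl⟩
  rw [φ_eq_act, Scheme.Hom.comp_apply, act_apply_eq, ← Scheme.Hom.comp_apply, pullback.lift_snd]
  exact hn ⟨t, rfl⟩

end

/-- the case of an affine base -/
theorem exists_iso_toDD_of_isAffine {X S : Scheme.{u}} [IsAffine S] (p : X ⟶ S) [Surjective p]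
    [Flat p] [QuasiCompact p] [UniversallyInjective p] (D : SchDD p) :
    ∃ U : Over S, Nonempty ((toDD p).obj U ≅ D) := by
  haveI := Groth.Agent.S1131.result p
  haveI := Groth.Agent.S1132.result p
  haveI : IsSeparated p := isSeparated_of_universallyInjective p
  refine exists_iso_toDD_of_locally p D fun v => ?_
  obtain ⟨A, hA, hvA, -⟩ : ∃ A : D.obj.left.Opens, IsAffineOpen A ∧ v ∈ A ∧ A ≤ ⊤ :=
    TopologicalSpace.Opens.isBasis_iff_nbhd.mp
      D.obj.left.isBasis_affineOpens (TopologicalSpace.Opens.mem_top v)
  have hst := isStable_of_universallyInjective p D A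
  haveI : IsAffine (A : Scheme.{u}) := hA
  haveI : IsAffineHom ((A.ι ≫ D.obj.hom) ≫ p) := inferInstance
  haveI : IsAffineHom (A.ι ≫ D.obj.hom) := IsAffineHom.of_comp (A.ι ≫ D.obj.hom) p
  haveI : IsAffineHom (restrictDD A hst).obj.hom := ‹IsAffineHom (A.ι ≫ D.obj.hom)›
  obtain ⟨U', hU'⟩ := Groth.Agent.S1133.result p (restrictDD A hst)
  exact ⟨restrictDD A hst, restrictHom A hst, inferInstance, ⟨⟨v, hvA⟩, rfl⟩, U', hU'⟩

/-- **Effective descent along flat surjective quasi-compact universally injective morphisms.** -/
theorem exists_iso_toDD {X S : Scheme.{u}} (p : X ⟶ S) [Surjective p]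
    [Flat p] [QuasiCompact p] [UniversallyInjective p] (D : SchDD p) :
    ∃ U : Over S, Nonempty ((toDD p).obj U ≅ D) := by
  refine exists_iso_toDD_of_locally_on_base p D fun y => ?_
  obtain ⟨O, hOaff, hy, -⟩ := TopologicalSpace.Opens.isBasis_iff_nbhd.mp S.isBasis_affineOpens
    (TopologicalSpace.Opens.mem_top y)
  refine ⟨O, hy, fun D' _ => ?_⟩
  haveI h1 : IsAffine (O : Scheme.{u}) := hOaff
  haveI h3 : Surjective (p ∣_ O) :=
    MorphismProperty.of_isPullback (P := @Surjective) (isPullback_morphismRestrict p O).flip
      ‹Surjective p›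
  haveI h4 : UniversallyInjective (p ∣_ O) :=
    MorphismProperty.of_isPullback (P := @UniversallyInjective)
      (isPullback_morphismRestrict p O).flip ‹UniversallyInjective p›
  exact exists_iso_toDD_of_isAffine (p ∣_ O) D'

end Groth.Agent.Lib.Helper24.DescUInj
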