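import Groth.Agent.Lib.Helper24.HensIndep
import Groth.Agent.Lib.Helper4.EtNbhd8
import Groth.Agent.Lib.Helper4.EtNbhd1
import Groth.Agent.S9237
import Groth.Agent.S9235
import Groth.Prelude.Def_CAlgX
set_option autoImplicit false
set_option linter.unusedSectionVars false
set_option linter.unusedVariables false
set_option linter.style.haveILetI false
universe u
open CategoryTheory CategoryTheory.Limits AlgebraicGeometry Opposite

/-! Branches at points of decent spaces via elementary etale neighbourhoods. -/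

namespace Groth.Agent.Lib.Helper24.ElemBranch
open AlgSp Groth.Agent.Lib.Helper14.AS Groth.Agent.Lib.Helper24.ElemNbhd
open Groth.Agent.Lib.Helper24.ElemCofilt Groth.Agent.Lib.Helper24.HensIndep IsLocalRing
open Groth.Agent.Lib.Helper4.EtNbhd

variable {S : Scheme.{u}}

/-- Fact A, pointed version -/
theorem numBranchesAt_eq_aux {X : Sp S} (hX : IsAlgSpace X) {U₀ U W : Over S}
    (a₀ : (yon S).obj U₀ ⟶ X) (a : (yon S).obj U ⟶ X) (aW : (yon S).obj W ⟶ X)
    (k : W ⟶ U) (k₀ : W ⟶ U₀) (w : ↥W.left)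
    (hk : (yon S).map k ≫ a = aW) (hk₀ : (yon S).map k₀ ≫ a₀ = aW)
    (hae : RepWith @Etale a) (hae₀ : RepWith @Etale a₀) (haeW : RepWith @Etale aW)
    (hm : Mono (FieldPt.ofPt aW w).toHom)
    (R : Type u) [CommRing R] [IsLocalRing R] [Algebra ↥(U₀.left.presheaf.stalk (k₀.left w)) R]
    [IsLocalHom (algebraMap ↥(U₀.left.presheaf.stalk (k₀.left w)) R)]
    [Hensel.IsHenselization ↥(U₀.left.presheaf.stalk (k₀.left w)) R] :
    Brnch.numBranchesAt U.left (k.left w) = (minimalPrimes R).encard := by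
  letI alg₀ : Algebra ↥(U₀.left.presheaf.stalk (k₀.left w)) ↥(W.left.presheaf.stalk w) :=
    (k₀.left.stalkMap w).hom.toAlgebra
  obtain ⟨hloc₀, hsee₀⟩ := strictlyEssEtale_of_elem hX a₀ aW k₀ w hk₀ hae₀ haeW hm
  obtain ⟨algWR, tower, hlocWR, hHensW, -⟩ := exists_algebra_of_strictlyEssEtale hsee₀ R
  letI alg₁ : Algebra ↥(U.left.presheaf.stalk (k.left w)) ↥(W.left.presheaf.stalk w) :=
    (k.left.stalkMap w).hom.toAlgebra
  obtain ⟨hloc, hsee⟩ := strictlyEssEtale_of_elem hX a aW k w hk hae haeW hm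
  letI algUR : Algebra ↥(U.left.presheaf.stalk (k.left w)) R :=
    ((algebraMap ↥(W.left.presheaf.stalk w) R).comp (k.left.stalkMap w).hom).toAlgebra
  haveI : IsScalarTower ↥(U.left.presheaf.stalk (k.left w)) ↥(W.left.presheaf.stalk w) R :=
    IsScalarTower.of_algebraMap_eq (fun _ => rfl)
  obtain ⟨hlocR, hHens⟩ := isHenselization_base (A := ↥(U.left.presheaf.stalk (k.left w)))
    (A' := ↥(W.left.presheaf.stalk w)) (R := R) hsee
  exact (Groth.Agent.S9237.result ↥(U.left.presheaf.stalk (k.left w)) R).symm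

/-- Fact A: the number of branches at any elementary etale neighbourhood is the number of
minimal primes of a henselization at a fixed one. -/
theorem numBranchesAt_eq {X : Sp S} (hX : IsAlgSpace X) (x : Points X) {U₀ U : Over S}
    (a₀ : (yon S).obj U₀ ⟶ X) (u₀ : ↥U₀.left) (h₀ : IsElemEtaleNbhd a₀ u₀ x)
    (a : (yon S).obj U ⟶ X) (u : ↥U.left) (h : IsElemEtaleNbhd a u x)
    (R : Type u) [CommRing R] [IsLocalRing R] [Algebra ↥(U₀.left.presheaf.stalk u₀) R]
    [IsLocalHom (algebraMap ↥(U₀.left.presheaf.stalk u₀) R)]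
    [Hensel.IsHenselization ↥(U₀.left.presheaf.stalk u₀) R] :
    Brnch.numBranchesAt U.left u = (minimalPrimes R).encard := by
  obtain ⟨W, aW, w, k, k₀, hW, hk, hk₀, hku, hk₀u⟩ := exists_common hX x a a₀ u u₀ h h₀
  subst hku
  subst hk₀u
  exact numBranchesAt_eq_aux hX a₀ a aW k k₀ w hk hk₀ h.etale h₀.etale hW.etale hW.mono R

/-- Fact B -/
theorem encard_components_le (U : Scheme.{u}) (u : ↥U) :
    {Z : Set ↥U | Z ∈ irreducibleComponents ↥U ∧ u ∈ Z}.encard ≤ Brnch.numBranchesAt U u := by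
  refine encard_components_le_numBranchesAt (𝟙 U) u u ⟨inferInstance, rfl, ?_⟩
  rw [Scheme.residueFieldMap_id]
  exact Function.bijective_id

set_option backward.isDefEq.respectTransparency.types false in
theorem mono_ofPt_of_residue_bijective {X : Sp S} {U U' : Over S}
    (a : (yon S).obj U ⟶ X) (g : U' ⟶ U) (u' : ↥U'.left)
    (hres : Function.Bijective (g.left.residueFieldMap u'))
    (hm : Mono (FieldPt.ofPt a (g.left u')).toHom) :
    Mono (FieldPt.ofPt ((yon S).map g ≫ a) u').toHom := by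
  let γ : (FieldPt.ofPt ((yon S).map g ≫ a) u').pt ⟶ (FieldPt.ofPt a (g.left u')).pt :=
    Over.homMk (Spec.map (g.left.residueFieldMap u')) (by
      change Spec.map (g.left.residueFieldMap u') ≫ U.left.fromSpecResidueField (g.left u') ≫ U.hom =
        U'.left.fromSpecResidueField u' ≫ U'.hom
      rw [Scheme.Hom.SpecMap_residueFieldMap_fromSpecResidueField_assoc, Over.w g])
  have hγg : γ ≫ Over.homMk (U.left.fromSpecResidueField (g.left u')) rfl =
      (Over.homMk (U'.left.fromSpecResidueField u') rfl :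
        (FieldPt.ofPt ((yon S).map g ≫ a) u').pt ⟶ U') ≫ g :=
    Over.OverMorphism.ext (Scheme.Hom.SpecMap_residueFieldMap_fromSpecResidueField g.left u')
  have hγ : (yon S).map γ ≫ (FieldPt.ofPt a (g.left u')).toHom =
      (FieldPt.ofPt ((yon S).map g ≫ a) u').toHom := by
    rw [FieldPt.toHom_ofPt, FieldPt.toHom_ofPt, ← Category.assoc, ← Functor.map_comp, hγg,
      Functor.map_comp, Category.assoc]
  have hiso : IsIso (g.left.residueFieldMap u') :=
    (ConcreteCategory.isIso_iff_bijective _).2 hres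
  have hmγ : Mono γ.left := by
    change Mono (Spec.map (g.left.residueFieldMap u'))
    infer_instance
  have hmy : Mono ((yon S).map γ) := mono_yon_map_of_mono_left γ
  rw [← hγ]
  exact @mono_comp _ _ _ _ _ _ hmy _ hm

set_option backward.isDefEq.respectTransparency.types false in
/-- Fact C -/
theorem exists_elem_of_le_numBranchesAt {X : Sp S} (x : Points X) {U : Over S}
    (a : (yon S).obj U ⟶ X) (u : ↥U.left) (h : IsElemEtaleNbhd a u x) (n : ℕ)
    (hn : (n : ℕ∞) ≤ Brnch.numBranchesAt U.left u) :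
    ∃ (U' : Over S) (a' : (yon S).obj U' ⟶ X) (u' : ↥U'.left), IsElemEtaleNbhd a' u' x ∧
      (n : ℕ∞) ≤ {Z : Set ↥U'.left | Z ∈ irreducibleComponents ↥U'.left ∧ u' ∈ Z}.encard := by
  obtain ⟨V, g, v, ⟨het, hbase, hres⟩, hle⟩ := exists_etaleNbhd_of_le_numBranchesAt U.left u n hn
  subst hbase
  let gO : Over.mk (g ≫ U.hom) ⟶ U := Over.homMk g rfl
  have hge : RepWith @Etale ((yon S).map gO) := (repWith_yon_map_iff @Etale gO).2 het
  refine ⟨Over.mk (g ≫ U.hom), (yon S).map gO ≫ a, v,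
    ⟨repWith_comp @Etale hge h.etale, ?_, ?_⟩, hle⟩
  · rw [ofPt_yon_map_comp]
    exact h.ofPt_eq
  · exact mono_ofPt_of_residue_bijective a gO v hres h.mono

theorem hasUniqueMinimalPrime_iff (A : Type u) [CommRing A] :
    CAlgX.HasUniqueMinimalPrime A ↔ (minimalPrimes A).encard = 1 := by
  rw [Set.encard_eq_one]
  constructor
  · rintro ⟨p, hp, huniq⟩
    exact ⟨p, Set.eq_singleton_iff_unique_mem.2 ⟨hp, fun q hq => huniq q hq⟩⟩
  · rintro ⟨p, hp⟩
    exact ⟨p, by rw [hp]; rfl, fun q hq => by rw [hp] at hq; exact hq⟩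

section Main

variable {X : Sp S} (hX : IsAlgSpace X) (x : Points X) {U₀ : Over S}
  (a₀ : (yon S).obj U₀ ⟶ X) (u₀ : ↥U₀.left) (h₀ : IsElemEtaleNbhd a₀ u₀ x)
  (R : Type u) [CommRing R] [IsLocalRing R] [Algebra ↥(U₀.left.presheaf.stalk u₀) R]
  [IsLocalHom (algebraMap ↥(U₀.left.presheaf.stalk u₀) R)]
  [Hensel.IsHenselization ↥(U₀.left.presheaf.stalk u₀) R]

include hX h₀ in
theorem comp_le {U : Over S} (a : (yon S).obj U ⟶ X) (u : ↥U.left) (h : IsElemEtaleNbhd a u x) :
    {Z : Set ↥U.left | Z ∈ irreducibleComponents ↥U.left ∧ u ∈ Z}.encard ≤ (minimalPrimes R).encard := by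
  rw [← numBranchesAt_eq hX x a₀ u₀ h₀ a u h R]
  exact encard_components_le U.left u

include hX h₀ in
theorem exists_comp_ge (n : ℕ) (hn : (n : ℕ∞) ≤ (minimalPrimes R).encard) :
    ∃ (U' : Over S) (a' : (yon S).obj U' ⟶ X) (u' : ↥U'.left), IsElemEtaleNbhd a' u' x ∧
      (n : ℕ∞) ≤ {Z : Set ↥U'.left | Z ∈ irreducibleComponents ↥U'.left ∧ u' ∈ Z}.encard := by
  rw [← numBranchesAt_eq hX x a₀ u₀ h₀ a₀ u₀ h₀ R] at hn
  exact exists_elem_of_le_numBranchesAt x a₀ u₀ h₀ n hn

include hX h₀ in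
theorem comp_iff (n : ℕ) :
    ((∀ (U : Over S) (a : (yon S).obj U ⟶ X) (u : ↥U.left), IsElemEtaleNbhd a u x →
        {Z : Set ↥U.left | Z ∈ irreducibleComponents ↥U.left ∧ u ∈ Z}.encard ≤ n) ∧
      (∃ (U : Over S) (a : (yon S).obj U ⟶ X) (u : ↥U.left), IsElemEtaleNbhd a u x ∧
        {Z : Set ↥U.left | Z ∈ irreducibleComponents ↥U.left ∧ u ∈ Z}.encard = n)) ↔
      (minimalPrimes R).encard = n := by
  constructor
  · rintro ⟨hall, U, a, u, h, hc⟩
    have h1 : (n : ℕ∞) ≤ (minimalPrimes R).encard := by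
      rw [← hc]; exact comp_le hX x a₀ u₀ h₀ R a u h
    by_contra hne
    have h2 : ((n + 1 : ℕ) : ℕ∞) ≤ (minimalPrimes R).encard := by
      rw [Nat.cast_add, Nat.cast_one]
      exact Order.add_one_le_of_lt (lt_of_le_of_ne h1 (Ne.symm hne))
    obtain ⟨U', a', u', h', hle⟩ := exists_comp_ge hX x a₀ u₀ h₀ R (n + 1) h2
    have h3 := hle.trans (hall U' a' u' h')
    have h4 : n + 1 ≤ n := by exact_mod_cast h3
    omega
  · intro hN
    refine ⟨fun U a u h => ?_, ?_⟩
    · rw [← hN]; exact comp_le hX x a₀ u₀ h₀ R a u h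
    · obtain ⟨U', a', u', h', hle⟩ := exists_comp_ge hX x a₀ u₀ h₀ R n hN.ge
      exact ⟨U', a', u', h', le_antisymm (by rw [← hN]; exact comp_le hX x a₀ u₀ h₀ R a' u' h') hle⟩

include hX h₀ in
theorem branches_iff (n : ℕ) :
    ((∀ (U : Over S) (a : (yon S).obj U ⟶ X) (u : ↥U.left), IsElemEtaleNbhd a u x →
        Brnch.numBranchesAt U.left u ≤ n) ∧
      (∃ (U : Over S) (a : (yon S).obj U ⟶ X) (u : ↥U.left), IsElemEtaleNbhd a u x ∧
        Brnch.numBranchesAt U.left u = n)) ↔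
      (minimalPrimes R).encard = n := by
  constructor
  · rintro ⟨-, U, a, u, h, hc⟩
    rw [← hc, numBranchesAt_eq hX x a₀ u₀ h₀ a u h R]
  · intro hN
    refine ⟨fun U a u h => ?_, U₀, a₀, u₀, h₀, ?_⟩
    · rw [numBranchesAt_eq hX x a₀ u₀ h₀ a u h R, hN]
    · rw [numBranchesAt_eq hX x a₀ u₀ h₀ a₀ u₀ h₀ R, hN]

include hX h₀ in
theorem comp_one_iff :
    (∀ (U : Over S) (a : (yon S).obj U ⟶ X) (u : ↥U.left), IsElemEtaleNbhd a u x →
        {Z : Set ↥U.left | Z ∈ irreducibleComponents ↥U.left ∧ u ∈ Z}.encard = 1) ↔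
      (minimalPrimes R).encard = 1 := by
  have key := comp_iff hX x a₀ u₀ h₀ R 1
  rw [Nat.cast_one] at key
  constructor
  · intro hall
    refine key.1 ⟨fun U a u h => (hall U a u h).le, U₀, a₀, u₀, h₀, hall U₀ a₀ u₀ h₀⟩
  · intro hN U a u h
    exact le_antisymm ((key.2 hN).1 U a u h) (one_le_encard_components U.left u)

include hX h₀ in
theorem unibranch_iff :
    (∀ (U : Over S) (a : (yon S).obj U ⟶ X) (u : ↥U.left), IsElemEtaleNbhd a u x →
        CAlg2.IsUnibranch ↥(U.left.presheaf.stalk u)) ↔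
      (minimalPrimes R).encard = 1 := by
  constructor
  · intro hall
    have h1 := (Groth.Agent.S9235.result _).2 (hall U₀ a₀ u₀ h₀)
    rw [← numBranchesAt_eq hX x a₀ u₀ h₀ a₀ u₀ h₀ R]
    exact h1
  · intro hN U a u h
    refine (Groth.Agent.S9235.result _).1 ?_
    have := numBranchesAt_eq hX x a₀ u₀ h₀ a u h R
    rw [hN] at this
    exact this

end Main

end Groth.Agent.Lib.Helper24.ElemBranch
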