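import Groth.Agent.Lib.Helper24.ElemNbhd
import Groth.Agent.Lib.Helper14.AlgSpFibrePt5
import Groth.Agent.Lib.Helper14.AlgSpLocP
import Groth.Agent.Lib.Helper14.FpqcBase4
set_option autoImplicit false
set_option linter.unusedSectionVars false
set_option linter.unusedVariables false
universe u
open CategoryTheory CategoryTheory.Limits AlgebraicGeometry Opposite

/-! Elementary etale neighbourhoods form a cofiltered system. -/

namespace Groth.Agent.Lib.Helper24.ElemCofilt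
open AlgSp Groth.Agent.Lib.Helper14.AS Groth.Agent.Lib.Helper24.ElemNbhd

variable {S : Scheme.{u}}

theorem val_eq_of_toHom {F : Sp S} {V : Over S} (a : (yon S).obj V ⟶ F) (q : FieldPt F)
    (t : q.pt ⟶ V) (ht : (yon S).map t ≫ a = q.toHom) : q.val = a.hom.app _ ⟨t⟩ := by
  rw [← FieldPt.uliftYonedaEquiv_toHom q, ← ht, GrothendieckTopology.uliftYonedaEquiv_comp,
    GrothendieckTopology.uliftYonedaEquiv_uliftYoneda_map]
  rfl

theorem mk_eq_ofPt_of_factor {F : Sp S} {V : Over S} (a : (yon S).obj V ⟶ F) (q : FieldPt F)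
    (t : q.pt ⟶ V) (ht : (yon S).map t ≫ a = q.toHom) :
    Points.mk q = Points.ofPt a (t.left (IsLocalRing.closedPoint q.K)) := by
  have hval := val_eq_of_toHom a q t ht
  have e1 : Points.mk q = Points.mk (⟨q.K, q.str, a.hom.app _ ⟨t⟩⟩ : FieldPt F) :=
    congrArg (fun v => Points.mk (⟨q.K, q.str, v⟩ : FieldPt F)) hval
  rw [e1]
  exact mk_app_eq_ofPt a t

set_option backward.isDefEq.respectTransparency.types false in
theorem mono_ofPt_of_factor {F : Sp S} {V : Over S} (a : (yon S).obj V ⟶ F) (q : FieldPt F)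
    (hm : Mono q.toHom) (hrep : Representable q.toHom)
    (t : q.pt ⟶ V) (ht : (yon S).map t ≫ a = q.toHom) :
    Mono (FieldPt.ofPt a (t.left (IsLocalRing.closedPoint q.K))).toHom := by
  obtain ⟨v, hv⟩ : ∃ v, v = t.left (IsLocalRing.closedPoint q.K) := ⟨_, rfl⟩
  rw [← hv]
  have hq' : Points.mk (FieldPt.ofPt a v) = Points.mk q := by
    rw [hv]; exact (mk_eq_ofPt_of_factor a q t ht).symm
  obtain ⟨j, hj⟩ := factors_through_mono_point q (FieldPt.ofPt a v) hm hrep hq'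
  obtain ⟨φ, hφ⟩ : ∃ φ : V.left.residueField v ⟶ CommRingCat.of q.K,
      Spec.map φ ≫ V.left.fromSpecResidueField v = t.left := by
    subst hv
    exact ⟨_, Scheme.descResidueField_stalkClosedPointTo_fromSpecResidueField q.K V.left t.left⟩
  let c : q.pt ⟶ (FieldPt.ofPt a v).pt := Over.homMk (Spec.map φ) (by
    change Spec.map φ ≫ V.left.fromSpecResidueField v ≫ V.hom = q.str
    rw [← Category.assoc, hφ]; exact Over.w t)
  have hct : c ≫ Over.homMk (V.left.fromSpecResidueField v) rfl = t := Over.OverMorphism.ext hφ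
  have hc : (yon S).map c ≫ (FieldPt.ofPt a v).toHom = q.toHom := by
    rw [FieldPt.toHom_ofPt, ← Category.assoc, ← Functor.map_comp, hct, ht]
  have hcj : c ≫ j = 𝟙 _ := by
    apply (yon S).map_injective
    rw [← cancel_mono q.toHom, Functor.map_comp, Category.assoc, hj, hc,
      CategoryTheory.Functor.map_id, Category.id_comp]
  obtain ⟨ψ, hψ⟩ : ∃ ψ : CommRingCat.of q.K ⟶ V.left.residueField v, Spec.map ψ = j.left :=
    ⟨Spec.preimage j.left, Spec.map_preimage _⟩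
  have h1 : ψ ≫ φ = 𝟙 _ := by
    apply Spec.map_injective
    rw [Spec.map_comp, hψ, Spec.map_id]
    exact congrArg (fun m => m.left) hcj
  have hφmono : Mono φ := ConcreteCategory.mono_of_injective _ (RingHom.injective φ.hom)
  have h2 : φ ≫ ψ = 𝟙 _ := by
    rw [← cancel_mono φ, Category.assoc, h1, Category.comp_id, Category.id_comp]
  have hjc : j ≫ c = 𝟙 _ := by
    apply Over.OverMorphism.ext
    have h3 : Spec.map ψ ≫ Spec.map φ = 𝟙 (Spec (V.left.residueField v)) := by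
      rw [← Spec.map_comp, h2, Spec.map_id]
    rw [hψ] at h3
    exact h3
  have : IsIso ((yon S).map j) := ⟨(yon S).map c,
    by rw [← Functor.map_comp, hjc, CategoryTheory.Functor.map_id],
    by rw [← Functor.map_comp, hcj, CategoryTheory.Functor.map_id]⟩
  rw [← hj]
  infer_instance

set_option backward.isDefEq.respectTransparency.types false in
theorem exists_common {X : Sp S} (hX : IsAlgSpace X) (x : Points X) {U₁ U₂ : Over S}
    (a₁ : (yon S).obj U₁ ⟶ X) (a₂ : (yon S).obj U₂ ⟶ X) (u₁ : ↥U₁.left) (u₂ : ↥U₂.left)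
    (h₁ : IsElemEtaleNbhd a₁ u₁ x) (h₂ : IsElemEtaleNbhd a₂ u₂ x) :
    ∃ (U : Over S) (a : (yon S).obj U ⟶ X) (v : ↥U.left) (k₁ : U ⟶ U₁) (k₂ : U ⟶ U₂),
      IsElemEtaleNbhd a v x ∧ (yon S).map k₁ ≫ a₁ = a ∧ (yon S).map k₂ ≫ a₂ = a ∧
        k₁.left v = u₁ ∧ k₂.left v = u₂ := by
  have hq : Points.mk (FieldPt.ofPt a₁ u₁) = Points.mk (FieldPt.ofPt a₂ u₂) :=
    h₁.ofPt_eq.trans h₂.ofPt_eq.symm
  have hrep₂ : Representable (FieldPt.ofPt a₂ u₂).toHom := repDiag_of_isAlgSpace hX _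
  have hrep₁ : Representable (FieldPt.ofPt a₁ u₁).toHom := repDiag_of_isAlgSpace hX _
  obtain ⟨j, hj⟩ := factors_through_mono_point (FieldPt.ofPt a₂ u₂) (FieldPt.ofPt a₁ u₁)
    h₂.mono hrep₂ hq
  have sq := h₁.etale.rep.isPullback' a₂
  obtain ⟨W, p₁, p₂, sq⟩ : ∃ (W : Over S) (p₁ : W ⟶ U₁) (p₂ : W ⟶ U₂),
      IsPullback ((yon S).map p₁) ((yon S).map p₂) a₁ a₂ := ⟨_, _, _, sq⟩
  obtain ⟨g₁, hg₁⟩ : ∃ g₁ : (FieldPt.ofPt a₁ u₁).pt ⟶ U₁,
      g₁ = Over.homMk (U₁.left.fromSpecResidueField u₁) rfl := ⟨_, rfl⟩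
  obtain ⟨g₂, hg₂⟩ : ∃ g₂ : (FieldPt.ofPt a₂ u₂).pt ⟶ U₂,
      g₂ = Over.homMk (U₂.left.fromSpecResidueField u₂) rfl := ⟨_, rfl⟩
  have e₁ : (FieldPt.ofPt a₁ u₁).toHom = (yon S).map g₁ ≫ a₁ := by
    rw [hg₁]; exact FieldPt.toHom_ofPt a₁ u₁
  have e₂ : (FieldPt.ofPt a₂ u₂).toHom = (yon S).map g₂ ≫ a₂ := by
    rw [hg₂]; exact FieldPt.toHom_ofPt a₂ u₂
  have hcomm : (yon S).map g₁ ≫ a₁ = (yon S).map (j ≫ g₂) ≫ a₂ := by
    rw [← e₁, Functor.map_comp, Category.assoc, ← e₂, hj]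
  obtain ⟨t, ht⟩ := (yon S).map_surjective (sq.lift _ _ hcomm)
  have ht₁ : t ≫ p₁ = g₁ := by
    apply (yon S).map_injective
    rw [Functor.map_comp, ht, sq.lift_fst]
  have ht₂ : t ≫ p₂ = j ≫ g₂ := by
    apply (yon S).map_injective
    rw [Functor.map_comp, ht, sq.lift_snd]
  have hta : (yon S).map t ≫ (yon S).map p₁ ≫ a₁ = (FieldPt.ofPt a₁ u₁).toHom := by
    rw [← Category.assoc, ← Functor.map_comp, ht₁, e₁]
  have hp₁e : RepWith @Etale ((yon S).map p₁) := repWith_of_isPullback _ sq.flip h₂.etale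
  have hmk := mk_eq_ofPt_of_factor _ _ t hta
  have hmono := mono_ofPt_of_factor _ _ h₁.mono hrep₁ t hta
  refine ⟨W, (yon S).map p₁ ≫ a₁, t.left (IsLocalRing.closedPoint _), p₁, p₂,
    ⟨repWith_comp _ hp₁e h₁.etale, ?_, hmono⟩, rfl, sq.w.symm, ?_, ?_⟩
  · rw [← hmk]; exact h₁.ofPt_eq
  · have : (t ≫ p₁).left (IsLocalRing.closedPoint _) = u₁ := by
      rw [ht₁, hg₁]
      exact Scheme.fromSpecResidueField_apply _ _
    exact this
  · have : (t ≫ p₂).left (IsLocalRing.closedPoint _) = u₂ := by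
      rw [ht₂, hg₂]
      change (U₂.left.fromSpecResidueField u₂) (j.left (IsLocalRing.closedPoint _)) = u₂
      exact Scheme.fromSpecResidueField_apply _ _
    exact this

theorem exists_factor_residue {A B : Scheme.{u}} (f : A ⟶ B) (u : ↥A) (u' : ↥B) (h : f u = u') :
    ∃ γ : Spec (A.residueField u) ⟶ Spec (B.residueField u'),
      γ ≫ B.fromSpecResidueField u' = A.fromSpecResidueField u ≫ f := by
  subst h
  exact ⟨_, Scheme.Hom.SpecMap_residueFieldMap_fromSpecResidueField f u⟩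

set_option backward.isDefEq.respectTransparency.types false in
theorem exists_equalizer {X : Sp S} (hX : IsAlgSpace X) (x : Points X) {U₁ U₂ : Over S}
    (a₁ : (yon S).obj U₁ ⟶ X) (a₂ : (yon S).obj U₂ ⟶ X) (u₁ : ↥U₁.left) (u₂ : ↥U₂.left)
    (b c : U₁ ⟶ U₂)
    (h₁ : IsElemEtaleNbhd a₁ u₁ x) (h₂ : IsElemEtaleNbhd a₂ u₂ x)
    (hb : (yon S).map b ≫ a₂ = a₁) (hc : (yon S).map c ≫ a₂ = a₁)
    (hbu : b.left u₁ = u₂) (hcu : c.left u₁ = u₂) :
    ∃ (U : Over S) (a : (yon S).obj U ⟶ X) (v : ↥U.left) (h : U ⟶ U₁),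
      IsElemEtaleNbhd a v x ∧ (yon S).map h ≫ a₁ = a ∧ h.left v = u₁ ∧ h ≫ b = h ≫ c := by
  have hrep₁ : Representable (FieldPt.ofPt a₁ u₁).toHom := repDiag_of_isAlgSpace hX _
  obtain ⟨g₁, hg₁⟩ : ∃ g₁ : (FieldPt.ofPt a₁ u₁).pt ⟶ U₁,
      g₁ = Over.homMk (U₁.left.fromSpecResidueField u₁) rfl := ⟨_, rfl⟩
  obtain ⟨g₂, hg₂⟩ : ∃ g₂ : (FieldPt.ofPt a₂ u₂).pt ⟶ U₂,
      g₂ = Over.homMk (U₂.left.fromSpecResidueField u₂) rfl := ⟨_, rfl⟩
  have e₁ : (FieldPt.ofPt a₁ u₁).toHom = (yon S).map g₁ ≫ a₁ := by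
    rw [hg₁]; exact FieldPt.toHom_ofPt a₁ u₁
  have e₂ : (FieldPt.ofPt a₂ u₂).toHom = (yon S).map g₂ ≫ a₂ := by
    rw [hg₂]; exact FieldPt.toHom_ofPt a₂ u₂
  -- (i) the two composites agree on the residue point
  have key : ∀ (d : U₁ ⟶ U₂), (yon S).map d ≫ a₂ = a₁ → d.left u₁ = u₂ →
      ∃ γ : (FieldPt.ofPt a₁ u₁).pt ⟶ (FieldPt.ofPt a₂ u₂).pt, γ ≫ g₂ = g₁ ≫ d ∧
        (yon S).map γ ≫ (FieldPt.ofPt a₂ u₂).toHom = (FieldPt.ofPt a₁ u₁).toHom := by
    intro d hd hdu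
    obtain ⟨γ₀, hγ₀⟩ := exists_factor_residue d.left u₁ u₂ hdu
    let γ : (FieldPt.ofPt a₁ u₁).pt ⟶ (FieldPt.ofPt a₂ u₂).pt := Over.homMk γ₀ (by
      change γ₀ ≫ U₂.left.fromSpecResidueField u₂ ≫ U₂.hom = U₁.left.fromSpecResidueField u₁ ≫ U₁.hom
      rw [← Category.assoc, hγ₀, Category.assoc, Over.w d])
    have hγ : γ ≫ g₂ = g₁ ≫ d := by
      rw [hg₁, hg₂]
      exact Over.OverMorphism.ext hγ₀
    refine ⟨γ, hγ, ?_⟩
    rw [e₂, ← Category.assoc, ← Functor.map_comp, hγ, Functor.map_comp, Category.assoc, hd, e₁]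
  obtain ⟨γb, hγb, hγb'⟩ := key b hb hbu
  obtain ⟨γc, hγc, hγc'⟩ := key c hc hcu
  have hm₂ := h₂.mono
  have hγ : γb = γc := by
    apply (yon S).map_injective
    rw [← cancel_mono (FieldPt.ofPt a₂ u₂).toHom, hγb', hγc']
  have hgbc : g₁ ≫ b = g₁ ≫ c := by rw [← hγb, ← hγc, hγ]
  -- (ii) the equalizer is open
  have hPalg : IsAlgSpace (pullback a₂ a₂) :=
    isAlgSpace_of_isPullback (repDiag_of_isAlgSpace hX) (IsAlgSpace.yon_obj U₂)
      (IsAlgSpace.yon_obj U₂) (IsPullback.of_hasPullback a₂ a₂)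
  have hΔ : RepWith @IsOpenImmersion (pullback.diagonal a₂) :=
    repWith_isOpenImmersion_of_mono_etale (IsAlgSpace.yon_obj U₂) hPalg _
      (isEtaleMor_of_repWith_etale (repWith_etale_diagonal h₂.etale))
  obtain ⟨l₀, hl₀⟩ : ∃ l₀ : (yon S).obj U₁ ⟶ pullback a₂ a₂,
      l₀ = pullback.lift ((yon S).map b) ((yon S).map c) (by rw [hb, hc]) := ⟨_, rfl⟩
  have hl₀1 : l₀ ≫ pullback.fst a₂ a₂ = (yon S).map b := by rw [hl₀, pullback.lift_fst]
  have hl₀2 : l₀ ≫ pullback.snd a₂ a₂ = (yon S).map c := by rw [hl₀, pullback.lift_snd]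
  have hopen : IsOpenImmersion (hΔ.rep.snd l₀).left := hΔ.property_snd l₀
  obtain ⟨E, h, f, sqE, hopen⟩ : ∃ (E : Over S) (h : E ⟶ U₁) (f : (yon S).obj E ⟶ (yon S).obj U₂),
      IsPullback f ((yon S).map h) (pullback.diagonal a₂) l₀ ∧ IsOpenImmersion h.left :=
    ⟨_, _, _, hΔ.rep.isPullback l₀, hopen⟩
  have hf1 : f = (yon S).map h ≫ (yon S).map b := by
    have := congrArg (fun m => m ≫ pullback.fst a₂ a₂) sqE.w
    simpa [hl₀1] using this
  have hf2 : f = (yon S).map h ≫ (yon S).map c := by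
    have := congrArg (fun m => m ≫ pullback.snd a₂ a₂) sqE.w
    simpa [hl₀2] using this
  have hhbc : h ≫ b = h ≫ c := by
    apply (yon S).map_injective
    rw [Functor.map_comp, Functor.map_comp, ← hf1, ← hf2]
  -- (iii) the point
  have hlift : (yon S).map (g₁ ≫ b) ≫ pullback.diagonal a₂ = (yon S).map g₁ ≫ l₀ := by
    apply pullback.hom_ext
    · rw [Category.assoc, Category.assoc, pullback.diagonal_fst, hl₀1, Category.comp_id,
        Functor.map_comp]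
    · rw [Category.assoc, Category.assoc, pullback.diagonal_snd, hl₀2, Category.comp_id,
        hgbc, Functor.map_comp]
  obtain ⟨l, hl⟩ := (yon S).map_surjective (sqE.lift _ _ hlift)
  have hlh : l ≫ h = g₁ := by
    apply (yon S).map_injective
    rw [Functor.map_comp, hl, sqE.lift_snd]
  have hta : (yon S).map l ≫ (yon S).map h ≫ a₁ = (FieldPt.ofPt a₁ u₁).toHom := by
    rw [← Category.assoc, ← Functor.map_comp, hlh, e₁]
  have hmk := mk_eq_ofPt_of_factor _ _ l hta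
  have hmono := mono_ofPt_of_factor _ _ h₁.mono hrep₁ l hta
  have hhe : RepWith @Etale ((yon S).map h) :=
    (repWith_yon_map_iff @Etale h).2 (by have := hopen; infer_instance)
  refine ⟨E, (yon S).map h ≫ a₁, l.left (IsLocalRing.closedPoint _), h,
    ⟨repWith_comp _ hhe h₁.etale, ?_, hmono⟩, rfl, ?_, hhbc⟩
  · rw [← hmk]; exact h₁.ofPt_eq
  · have : (l ≫ h).left (IsLocalRing.closedPoint _) = u₁ := by
      rw [hlh, hg₁]
      exact Scheme.fromSpecResidueField_apply _ _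
    exact this

end Groth.Agent.Lib.Helper24.ElemCofilt
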