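import Groth.Prelude.Def_Grpd
import Groth.Prelude.Def_AlgSp
set_option autoImplicit false
universe u
open CategoryTheory CategoryTheory.Limits AlgebraicGeometry

/-! The groupoid scheme attached to an equivalence relation `s, t : R ⟶ U` over `S`. -/

namespace Groth.Agent.Lib.Helper24.GrpdEqv
open AlgSp Grpd

variable {S : Scheme.{u}} {R U : Over S} {s t : R ⟶ U}

theorem hom_ext (h : IsEqvRel s t) {T : Scheme.{u}} (x y : T ⟶ R.left)
    (ht : x ≫ t.left = y ≫ t.left) (hs : x ≫ s.left = y ≫ s.left) : x = y := by
  have e : y ≫ R.hom = x ≫ R.hom := by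
    rw [← Over.w t, ← Category.assoc, ← ht, Category.assoc]
  have := h.injective (Over.mk (x ≫ R.hom)) (Over.homMk x rfl) (Over.homMk y e)
    (by ext; exact ht) (by ext; exact hs)
  exact congrArg CommaMorphism.left this

theorem exists_e (h : IsEqvRel s t) : ∃ e : U.left ⟶ R.left, e ≫ t.left = 𝟙 _ ∧ e ≫ s.left = 𝟙 _ := by
  obtain ⟨r, h1, h2⟩ := (h.equivalence U).refl (𝟙 U)
  exact ⟨r.left, congrArg CommaMorphism.left h1, congrArg CommaMorphism.left h2⟩

theorem exists_i (h : IsEqvRel s t) : ∃ i : R.left ⟶ R.left, i ≫ t.left = s.left ∧ i ≫ s.left = t.left := by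
  obtain ⟨r, h1, h2⟩ := (h.equivalence R).symm (x := t) (y := s) ⟨𝟙 R, Category.id_comp _, Category.id_comp _⟩
  exact ⟨r.left, congrArg CommaMorphism.left h1, congrArg CommaMorphism.left h2⟩

theorem exists_c (h : IsEqvRel s t) : ∃ c : pullback s.left t.left ⟶ R.left,
    c ≫ t.left = pullback.fst s.left t.left ≫ t.left ∧
    c ≫ s.left = pullback.snd s.left t.left ≫ s.left := by
  have e : pullback.snd s.left t.left ≫ R.hom = pullback.fst s.left t.left ≫ R.hom := by
    conv_lhs => rw [← Over.w t, ← Category.assoc, ← pullback.condition, Category.assoc, Over.w s]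
  let P : Over S := Over.mk (pullback.fst s.left t.left ≫ R.hom)
  let α : P ⟶ R := Over.homMk (pullback.fst s.left t.left) rfl
  let β : P ⟶ R := Over.homMk (pullback.snd s.left t.left) e
  have hαβ : α ≫ s = β ≫ t := by ext; exact pullback.condition
  obtain ⟨r, h1, h2⟩ := (h.equivalence P).trans (x := α ≫ t) (y := α ≫ s) (z := β ≫ s)
    ⟨α, rfl, rfl⟩ ⟨β, hαβ.symm, rfl⟩
  exact ⟨r.left, congrArg CommaMorphism.left h1, congrArg CommaMorphism.left h2⟩

variable (s t) in
/-- the groupoid scheme of an equivalence relation -/
noncomputable def eqvGroupoid (h : IsEqvRel s t) : GroupoidScheme S where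
  U := U.left
  R := R.left
  pU := U.hom
  pR := R.hom
  s := s.left
  t := t.left
  e := (exists_e h).choose
  i := (exists_i h).choose
  c := (exists_c h).choose
  s_over := Over.w s
  t_over := Over.w t
  comp_s := fun α β hαβ => by
    rw [Category.assoc, (exists_c h).choose_spec.2, pullback.lift_snd_assoc]
  comp_t := fun α β hαβ => by
    rw [Category.assoc, (exists_c h).choose_spec.1, pullback.lift_fst_assoc]
  assoc := fun α β γ h₁ h₂ => by
    apply hom_ext h
    · simp only [Category.assoc, (exists_c h).choose_spec.1, pullback.lift_fst_assoc]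
    · simp only [Category.assoc, (exists_c h).choose_spec.2, pullback.lift_snd_assoc]
  e_s := (exists_e h).choose_spec.2
  e_t := (exists_e h).choose_spec.1
  comp_e := fun α => by
    apply hom_ext h
    · simp only [Category.assoc, (exists_c h).choose_spec.1, pullback.lift_fst_assoc]
    · simp only [Category.assoc, (exists_c h).choose_spec.2, pullback.lift_snd_assoc,
        (exists_e h).choose_spec.2, Category.comp_id]
  e_comp := fun α => by
    apply hom_ext h
    · simp only [Category.assoc, (exists_c h).choose_spec.1, pullback.lift_fst_assoc,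
        (exists_e h).choose_spec.1, Category.comp_id]
    · simp only [Category.assoc, (exists_c h).choose_spec.2, pullback.lift_snd_assoc]
  i_s := (exists_i h).choose_spec.2
  i_t := (exists_i h).choose_spec.1
  comp_i := fun α => by
    apply hom_ext h
    · simp only [Category.assoc, (exists_c h).choose_spec.1, pullback.lift_fst_assoc,
        (exists_e h).choose_spec.1, Category.comp_id]
    · simp only [Category.assoc, (exists_c h).choose_spec.2, pullback.lift_snd_assoc,
        (exists_i h).choose_spec.2, (exists_e h).choose_spec.2, Category.comp_id]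
  i_comp := fun α => by
    apply hom_ext h
    · simp only [Category.assoc, (exists_c h).choose_spec.1, pullback.lift_fst_assoc,
        (exists_i h).choose_spec.1, (exists_e h).choose_spec.1, Category.comp_id]
    · simp only [Category.assoc, (exists_c h).choose_spec.2, pullback.lift_snd_assoc,
        (exists_e h).choose_spec.2, Category.comp_id]

theorem eqvGroupoid_homMk_s (h : IsEqvRel s t) :
    (Over.homMk (eqvGroupoid s t h).s (eqvGroupoid s t h).s_over :
      Over.mk (eqvGroupoid s t h).pR ⟶ Over.mk (eqvGroupoid s t h).pU) = s := rfl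

theorem eqvGroupoid_homMk_t (h : IsEqvRel s t) :
    (Over.homMk (eqvGroupoid s t h).t (eqvGroupoid s t h).t_over :
      Over.mk (eqvGroupoid s t h).pR ⟶ Over.mk (eqvGroupoid s t h).pU) = t := rfl

end Groth.Agent.Lib.Helper24.GrpdEqv
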