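import Groth.Agent.Lib.Helper24.QuotRestrict2
import Groth.Agent.Lib.Helper24.GrpdEqv
import Groth.Agent.Lib.Helper24.DescBridge
set_option autoImplicit false
universe u
open CategoryTheory CategoryTheory.Limits AlgebraicGeometry Opposite

/-! Restriction of an equivalence relation `s, t : R ⟶ U` of schemes over `S` along `g : U' ⟶ U`,
with `R' = (U' ×_{g,U,t} R) ×_{h,U,g} U'`, `h = s ∘ pr₂`. -/

namespace Groth.Agent.Lib.Helper24.EqvSlice
open AlgSp QuotSh Groth.Agent.Lib.Helper14.AS Groth.Agent.Lib.Helper24.QuotBridge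
  Groth.Agent.Lib.Helper24.GrpdEqv

variable {S : Scheme.{u}} {R U : Over S} (s t : R ⟶ U) {U' : Over S} (g : U' ⟶ U)

/-- `h = s ∘ pr₂ : U' ×_{g,U,t} R ⟶ U` -/
noncomputable def hres : pullback g.left t.left ⟶ U.left := pullback.snd g.left t.left ≫ s.left

/-- `R' = (U' ×_{g,U,t} R) ×_{h,U,g} U'` -/
noncomputable def Rres : Over S := Over.mk (pullback.snd (hres s t g) g.left ≫ U'.hom)

noncomputable def sres : Rres s t g ⟶ U' := Over.homMk (pullback.snd (hres s t g) g.left) rfl

lemma rres_w : (pullback.fst (hres s t g) g.left ≫ pullback.snd g.left t.left) ≫ R.hom =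
    (Rres s t g).hom := by
  change _ = pullback.snd (hres s t g) g.left ≫ U'.hom
  rw [← Over.w g, ← Category.assoc (pullback.snd _ _), ← pullback.condition, hres, ← Over.w s]
  simp only [Category.assoc]

noncomputable def rres : Rres s t g ⟶ R :=
  Over.homMk (pullback.fst (hres s t g) g.left ≫ pullback.snd g.left t.left) (rres_w s t g)

lemma tres_w : (pullback.fst (hres s t g) g.left ≫ pullback.fst g.left t.left) ≫ U'.hom =
    (Rres s t g).hom := by
  rw [← rres_w, ← Over.w g, ← Over.w t]
  simp only [Category.assoc]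
  rw [pullback.condition_assoc]

noncomputable def tres : Rres s t g ⟶ U' :=
  Over.homMk (pullback.fst (hres s t g) g.left ≫ pullback.fst g.left t.left) (tres_w s t g)

lemma rres_s : rres s t g ≫ s = sres s t g ≫ g := by
  ext1
  change (pullback.fst (hres s t g) g.left ≫ pullback.snd g.left t.left) ≫ s.left =
    pullback.snd (hres s t g) g.left ≫ g.left
  rw [← pullback.condition, hres, Category.assoc]

lemma rres_t : rres s t g ≫ t = tres s t g ≫ g := by
  ext1
  change (pullback.fst (hres s t g) g.left ≫ pullback.snd g.left t.left) ≫ t.left =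
    (pullback.fst (hres s t g) g.left ≫ pullback.fst g.left t.left) ≫ g.left
  rw [Category.assoc, Category.assoc, pullback.condition]

/-- lifting to the restriction -/
lemma exists_lift_res {T : Over S} (a b : T ⟶ U') (ρ : T ⟶ R) (h1 : ρ ≫ t = a ≫ g)
    (h2 : ρ ≫ s = b ≫ g) : ∃ r' : T ⟶ Rres s t g, r' ≫ tres s t g = a ∧ r' ≫ sres s t g = b ∧
      r' ≫ rres s t g = ρ := by
  have e1 : a.left ≫ g.left = ρ.left ≫ t.left := (congrArg (fun f => f.left) h1).symm
  have e2 : ρ.left ≫ s.left = b.left ≫ g.left := congrArg (fun f => f.left) h2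
  let p : T.left ⟶ pullback g.left t.left := pullback.lift a.left ρ.left e1
  have e3 : p ≫ hres s t g = b.left ≫ g.left := by
    rw [hres, ← Category.assoc, pullback.lift_snd, e2]
  refine ⟨Over.homMk (pullback.lift p b.left e3) ?_, ?_, ?_, ?_⟩
  · change pullback.lift p b.left e3 ≫ pullback.snd (hres s t g) g.left ≫ U'.hom = T.hom
    rw [pullback.lift_snd_assoc, Over.w b]
  · ext1
    change pullback.lift p b.left e3 ≫ pullback.fst (hres s t g) g.left ≫
      pullback.fst g.left t.left = a.left
    rw [pullback.lift_fst_assoc, pullback.lift_fst]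
  · ext1
    change pullback.lift p b.left e3 ≫ pullback.snd (hres s t g) g.left = b.left
    rw [pullback.lift_snd]
  · ext1
    change pullback.lift p b.left e3 ≫ pullback.fst (hres s t g) g.left ≫
      pullback.snd g.left t.left = ρ.left
    rw [pullback.lift_fst_assoc, pullback.lift_snd]

theorem isEqvRel_res (h : IsEqvRel s t) : IsEqvRel (sres s t g) (tres s t g) := by
  have key : ∀ (T : Over S) (a b : T ⟶ U'),
      (∃ r : T ⟶ Rres s t g, r ≫ tres s t g = a ∧ r ≫ sres s t g = b) ↔
      (∃ ρ : T ⟶ R, ρ ≫ t = a ≫ g ∧ ρ ≫ s = b ≫ g) := by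
    intro T a b
    constructor
    · rintro ⟨r, rfl, rfl⟩
      exact ⟨r ≫ rres s t g, by rw [Category.assoc, rres_t, Category.assoc],
        by rw [Category.assoc, rres_s, Category.assoc]⟩
    · rintro ⟨ρ, h1, h2⟩
      obtain ⟨r', e1, e2, -⟩ := exists_lift_res s t g a b ρ h1 h2
      exact ⟨r', e1, e2⟩
  refine ⟨?_, ?_⟩
  · intro T r r' ht hs
    have hρ : r ≫ rres s t g = r' ≫ rres s t g := by
      apply h.injective
      · rw [Category.assoc, Category.assoc, rres_t, ← Category.assoc, ← Category.assoc, ht]
      · rw [Category.assoc, Category.assoc, rres_s, ← Category.assoc, ← Category.assoc, hs]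
    ext1
    apply pullback.hom_ext
    · apply pullback.hom_ext
      · have := congrArg (fun f => f.left) ht
        exact (Category.assoc _ _ _).trans (this.trans (Category.assoc _ _ _).symm)
      · have := congrArg (fun f => f.left) hρ
        exact (Category.assoc _ _ _).trans (this.trans (Category.assoc _ _ _).symm)
    · exact congrArg (fun f => f.left) hs
  · intro T
    have hE := h.equivalence T
    refine ⟨?_, ?_, ?_⟩
    · intro a
      rw [key]
      exact hE.refl (a ≫ g)
    · intro a b hab
      rw [key] at hab ⊢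
      exact hE.symm hab
    · intro a b c hab hbc
      rw [key] at hab hbc ⊢
      exact hE.trans hab hbc

end Groth.Agent.Lib.Helper24.EqvSlice
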