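import Groth.Agent.Lib.Helper24.EqvSlice1
set_option autoImplicit false
universe u
open CategoryTheory CategoryTheory.Limits AlgebraicGeometry Opposite

/-! The quotient of the restriction of an equivalence relation along an fppf-surjective slice. -/

namespace Groth.Agent.Lib.Helper24.EqvSlice
open AlgSp QuotSh Groth.Agent.Lib.Helper14.AS Groth.Agent.Lib.Helper24.QuotBridge
  Groth.Agent.Lib.Helper24.GrpdEqv Groth.Agent.Lib.Helper24.QuotAtlas
  Groth.Agent.Lib.Helper24.DescBridge

variable {S : Scheme.{u}}

lemma repMap_comp {A B C : Over S} (a : A ⟶ B) (b : B ⟶ C) :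
    repMap Scheme.fppfPrecoverage (a ≫ b) =
      repMap Scheme.fppfPrecoverage a ≫ repMap Scheme.fppfPrecoverage b := by
  change _ = (presheafToSheaf _ _).map _ ≫ (presheafToSheaf _ _).map _
  rw [← Functor.map_comp, ← Functor.whiskerRight_comp, ← yoneda.map_comp]

variable {R U : Over S} (s t : R ⟶ U) {U' : Over S} (g : U' ⟶ U)

lemma res_desc_w : repMap Scheme.fppfPrecoverage (sres s t g) ≫
      (repMap Scheme.fppfPrecoverage g ≫ quotπ Scheme.fppfPrecoverage s t) =
    repMap Scheme.fppfPrecoverage (tres s t g) ≫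
      (repMap Scheme.fppfPrecoverage g ≫ quotπ Scheme.fppfPrecoverage s t) := by
  rw [← Category.assoc, ← Category.assoc, ← repMap_comp, ← repMap_comp, ← rres_s, ← rres_t,
    repMap_comp, repMap_comp, Category.assoc, Category.assoc, quot_condition]

/-- the map of quotients induced by the restriction -/
noncomputable def ψres : QuotSh.quot Scheme.fppfPrecoverage (sres s t g) (tres s t g) ⟶
    QuotSh.quot Scheme.fppfPrecoverage s t :=
  quotShDesc (sres s t g) (tres s t g)
    (repMap Scheme.fppfPrecoverage g ≫ quotπ Scheme.fppfPrecoverage s t) (res_desc_w s t g)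

lemma quotπ_ψres : quotπ Scheme.fppfPrecoverage (sres s t g) (tres s t g) ≫ ψres s t g =
    repMap Scheme.fppfPrecoverage g ≫ quotπ Scheme.fppfPrecoverage s t :=
  quotπ_quotShDesc _ _ _ _

/-- `U' ×_{g,U,t} R` over `S` -/
noncomputable def Pres : Over S := Over.mk (hres s t g ≫ U.hom)

noncomputable def hresO : Pres s t g ⟶ U := Over.homMk (hres s t g) rfl

lemma sndO_w : pullback.snd g.left t.left ≫ R.hom = (Pres s t g).hom := by
  change _ = hres s t g ≫ U.hom
  rw [hres, Category.assoc, Over.w s]

noncomputable def sndO : Pres s t g ⟶ R := Over.homMk (pullback.snd g.left t.left) (sndO_w s t g)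

lemma fstO_w : pullback.fst g.left t.left ≫ U'.hom = (Pres s t g).hom := by
  rw [← sndO_w, ← Over.w g, ← Over.w t, pullback.condition_assoc]

noncomputable def fstO : Pres s t g ⟶ U' := Over.homMk (pullback.fst g.left t.left) (fstO_w s t g)

lemma sndO_s : sndO s t g ≫ s = hresO s t g := by
  ext1; rfl

lemma sndO_t : sndO s t g ≫ t = fstO s t g ≫ g := by
  ext1
  exact pullback.condition.symm

theorem isIso_ψres (h : IsEqvRel s t) [Flat (hres s t g)]
    [LocallyOfFinitePresentation (hres s t g)] [Surjective (hres s t g)] :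
    IsIso (ψres s t g) := by
  have hpre := isPreEqvRelSp h
  let s' := sres s t g
  let t' := tres s t g
  let ψ := ψres s t g
  have hψ := quotπ_ψres s t g
  let φ' : Qs s' t' ⟶ Qs s t := (quotIso s' t').hom ≫ ψ ≫ (quotIso s t).inv
  have hφ' : ps s' t' ≫ φ' = (yon S).map g ≫ ps s t := by
    have h1 : π' s t ≫ (quotIso s t).inv = ps s t := by
      rw [← quotSpπ_quotIso_hom, Category.assoc, Iso.hom_inv_id, Category.comp_id]
    change ps s' t' ≫ (quotIso s' t').hom ≫ ψ ≫ (quotIso s t).inv = _
    rw [← Category.assoc, quotSpπ_quotIso_hom, π', Category.assoc, ← Category.assoc _ ψ, hψ,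
      Category.assoc, ← Category.assoc, ← repIso_inv_naturality, Category.assoc, ← h1, π',
      Category.assoc]
  have hliftR : ∀ (T : Over S) (a b : (yon S).obj T ⟶ (yon S).obj U')
      (r₀ : (yon S).obj T ⟶ (yon S).obj R),
      r₀ ≫ (yon S).map t = a ≫ (yon S).map g → r₀ ≫ (yon S).map s = b ≫ (yon S).map g →
      ∃ r' : (yon S).obj T ⟶ (yon S).obj (Rres s t g),
        r' ≫ (yon S).map t' = a ∧ r' ≫ (yon S).map s' = b := by
    intro T a b r₀ h1 h2
    obtain ⟨a, rfl⟩ := (yon S).map_surjective a
    obtain ⟨b, rfl⟩ := (yon S).map_surjective b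
    obtain ⟨r₀, rfl⟩ := (yon S).map_surjective r₀
    rw [← Functor.map_comp, ← Functor.map_comp] at h1 h2
    have e1 := (yon S).map_injective h1
    have e2 := (yon S).map_injective h2
    obtain ⟨r', h1', h2', -⟩ := exists_lift_res s t g a b r₀ e1 e2
    exact ⟨(yon S).map r', by rw [← Functor.map_comp, h1'], by rw [← Functor.map_comp, h2']⟩
  have hm : Mono φ' := mono_quot_map _ _ hpre _ _ _ hliftR φ' hφ'
  have he : Epi φ' := by
    have : Flat (hresO s t g).left := ‹Flat (hres s t g)›
    have : LocallyOfFinitePresentation (hresO s t g).left :=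
      ‹LocallyOfFinitePresentation (hres s t g)›
    have : Surjective (hresO s t g).left := ‹Surjective (hres s t g)›
    have h1 : Epi ((yon S).map (hresO s t g)) := epi_yon_map_of_fppf _
    have h2 : Epi (ps s t) := epi_quotSpπ _ _
    have e : (yon S).map (hresO s t g) ≫ ps s t =
        ((yon S).map (fstO s t g) ≫ ps s' t') ≫ φ' := by
      rw [Category.assoc, hφ', ← Functor.map_comp_assoc, ← sndO_t, Functor.map_comp_assoc,
        ← quotSp_condition, ← Functor.map_comp_assoc, sndO_s]
    have h3 : Epi (((yon S).map (fstO s t g) ≫ ps s' t') ≫ φ') := by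
      rw [← e]; infer_instance
    exact epi_of_epi ((yon S).map (fstO s t g) ≫ ps s' t') φ'
  have hi : IsIso φ' := isIso_of_mono_of_epi φ'
  have e : ψ = (quotIso s' t').inv ≫ φ' ≫ (quotIso s t).hom := by
    simp [φ']
  change IsIso ψ
  rw [e]
  infer_instance

end Groth.Agent.Lib.Helper24.EqvSlice
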