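import Groth.Agent.Lib.Helper24.EqvSlice2
set_option autoImplicit false
universe u
open CategoryTheory CategoryTheory.Limits AlgebraicGeometry Opposite

/-! Properties of the source and target maps of a restricted equivalence relation. -/

namespace Groth.Agent.Lib.Helper24.EqvSlice
open AlgSp QuotSh Groth.Agent.Lib.Helper24.GrpdEqv

variable {S : Scheme.{u}} {R U : Over S} {s t : R ⟶ U}

/-- the inversion of an equivalence relation is an isomorphism exchanging `s` and `t` -/
theorem exists_iso_swap (h : IsEqvRel s t) :
    ∃ i : R.left ≅ R.left, i.hom ≫ t.left = s.left ∧ i.hom ≫ s.left = t.left := by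
  obtain ⟨i, h1, h2⟩ := exists_i h
  have hii : i ≫ i = 𝟙 _ := by
    apply hom_ext h
    · rw [Category.assoc, h1, h2, Category.id_comp]
    · rw [Category.assoc, h2, h1, Category.id_comp]
  exact ⟨⟨i, i, hii, hii⟩, h1, h2⟩

theorem prop_t_of_prop_s (h : IsEqvRel s t) (P : MorphismProperty Scheme.{u}) [P.RespectsIso]
    (hs : P s.left) : P t.left := by
  obtain ⟨i, h1, h2⟩ := exists_iso_swap h
  rw [← h2]
  exact (P.cancel_left_of_respectsIso i.hom s.left).2 hs

variable (s t) {U' : Over S} (g : U' ⟶ U)

theorem prop_sres (P : MorphismProperty Scheme.{u}) [P.IsStableUnderBaseChange]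
    (hP : P (hres s t g)) : P (sres s t g).left :=
  P.pullback_snd _ _ hP

theorem prop_tres (h : IsEqvRel s t) (P : MorphismProperty Scheme.{u}) [P.IsStableUnderBaseChange]
    (hP : P (hres s t g)) : P (tres s t g).left :=
  prop_t_of_prop_s (isEqvRel_res s t g h) P (prop_sres s t g P hP)

end Groth.Agent.Lib.Helper24.EqvSlice
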