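import Groth.Agent.Lib.Helper24.EqvSlice3
import Groth.Agent.S1936
import Groth.Agent.Lib.Helper23.CMMor2
import Groth.Agent.Lib.Helper6.CMChart1
set_option autoImplicit false
universe u
open CategoryTheory CategoryTheory.Limits AlgebraicGeometry Opposite

/-! Reduction of a flat lfp equivalence relation to one with Cohen–Macaulay source and target. -/

namespace Groth.Agent.Lib.Helper24.EqvSlice
open AlgSp QuotSh Groth.Agent.Lib.Helper24.GrpdEqv

variable {S : Scheme.{u}} {R U : Over S} (s t : R ⟶ U)

theorem grpd_isCMAt_iff {X Y : Scheme.{u}} (f : X ⟶ Y) (x : X) :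
    Grpd.IsCMAt f x ↔ MoreMor.IsCMAt f x := by
  rw [Groth.Agent.Lib.Helper23.CMMor.isCMAt_iff]
  rfl

theorem isCMAt_of_isOpenImmersion {X Y : Scheme.{u}} (f : X ⟶ Y) [IsOpenImmersion f] (x : X) :
    MoreMor.IsCMAt f x :=
  Groth.Agent.Lib.Helper6.CMChart.isCMAt_of_locallyQuasiFinite f x (Flat.stalkMap f x)

variable {U' : Over S} (g : U' ⟶ U)

theorem surjective_hres_of (h4 : ∀ u : U.left, ∃ r : R.left,
    t.left r ∈ Set.range g.left ∧ s.left r = u) : Surjective (hres s t g) := by
  refine ⟨fun u => ?_⟩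
  obtain ⟨r, ⟨y, hy⟩, rfl⟩ := h4 u
  obtain ⟨z, -, hz⟩ := Scheme.Pullback.exists_preimage_pullback (f := g.left) (g := t.left)
    y r hy
  refine ⟨z, ?_⟩
  change (pullback.snd g.left t.left ≫ s.left) z = _
  rw [Scheme.Hom.comp_apply, hz]

theorem cm_of_open [IsOpenImmersion g.left] [LocallyOfFinitePresentation s.left]
    [LocallyOfFinitePresentation t.left]
    (h1 : ∀ r : R.left, t.left r ∈ Set.range g.left → MoreMor.IsCMAt s.left r)
    (h2 : ∀ r : R.left, s.left r ∈ Set.range g.left → MoreMor.IsCMAt t.left r) :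
    (∀ x, Grpd.IsCMAt (sres s t g).left x) ∧ (∀ x, Grpd.IsCMAt (tres s t g).left x) := by
  have hlft : LocallyOfFiniteType (hres s t g) := by
    unfold hres; infer_instance
  refine ⟨?_, ?_⟩
  · intro x
    refine (grpd_isCMAt_iff _ _).2 ?_
    change @MoreMor.IsCMAt (pullback (hres s t g) g.left) U'.left
      (pullback.snd (hres s t g) g.left) x
    generalize hx' : (show ↥(pullback (hres s t g) g.left) from x) = x'
    clear hx' x
    rename' x' => x
    have hc : IsPullback (pullback.fst (hres s t g) g.left)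
        (pullback.snd (hres s t g) g.left) (hres s t g) g.left :=
      IsPullback.of_hasPullback _ _
    refine (Groth.Agent.Lib.Helper23.CMMor.cmAt_baseChange hc
      (fun y => Groth.Agent.Lib.Helper23.CMMor.isLocallyNoetherian_fiber_of_lft _ y) x).1 ?_
    generalize pullback.fst (hres s t g) g.left x = p
    change MoreMor.IsCMAt (pullback.snd g.left t.left ≫ s.left) p
    refine Groth.Agent.Lib.Helper23.CMMor.cmAt_comp _ _ p
      (Groth.Agent.Lib.Helper23.CMMor.isLocallyNoetherian_fiber_of_lft _ _)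
      (isCMAt_of_isOpenImmersion _ p) (h1 _ ?_)
    refine ⟨pullback.fst g.left t.left p, ?_⟩
    rw [← Scheme.Hom.comp_apply, ← Scheme.Hom.comp_apply, pullback.condition]
  · intro x
    refine (grpd_isCMAt_iff _ _).2 ?_
    change @MoreMor.IsCMAt (pullback (hres s t g) g.left) U'.left
      (pullback.fst (hres s t g) g.left ≫ pullback.fst g.left t.left) x
    generalize hx' : (show ↥(pullback (hres s t g) g.left) from x) = x'
    clear hx' x
    rename' x' => x
    refine Groth.Agent.Lib.Helper23.CMMor.cmAt_comp _ _ x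
      (Groth.Agent.Lib.Helper23.CMMor.isLocallyNoetherian_fiber_of_lft _ _)
      (isCMAt_of_isOpenImmersion _ x) ?_
    have hc : IsPullback (pullback.snd g.left t.left) (pullback.fst g.left t.left) t.left g.left :=
      (IsPullback.of_hasPullback _ _).flip
    refine (Groth.Agent.Lib.Helper23.CMMor.cmAt_baseChange hc
      (fun y => Groth.Agent.Lib.Helper23.CMMor.isLocallyNoetherian_fiber_of_lft _ y) _).1 ?_
    refine h2 _ ⟨pullback.snd (hres s t g) g.left x, ?_⟩
    have := congrArg (fun f => f x) (pullback.condition (f := hres s t g) (g := g.left))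
    exact this.symm

/-- the open inclusion as a morphism over `S` -/
noncomputable abbrev opensOver (O : U.left.Opens) : Over S := Over.mk (O.ι ≫ U.hom)

noncomputable abbrev opensι (O : U.left.Opens) : opensOver O ⟶ U := Over.homMk O.ι rfl

instance (O : U.left.Opens) : IsOpenImmersion (opensι O).left :=
  inferInstanceAs (IsOpenImmersion O.ι)

variable {s t}

theorem exists_cm_restriction (h : IsEqvRel s t) [Flat s.left]
    [LocallyOfFinitePresentation s.left] [Flat t.left] [LocallyOfFinitePresentation t.left] :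
    ∃ O : U.left.Opens, Surjective (hres s t (opensι O)) ∧
      (∀ x, Grpd.IsCMAt (sres s t (opensι O)).left x) ∧
      (∀ x, Grpd.IsCMAt (tres s t (opensι O)).left x) := by
  let G := eqvGroupoid s t h
  have : Flat G.s := ‹Flat s.left›
  have : Flat G.t := ‹Flat t.left›
  have : LocallyOfFinitePresentation G.s := ‹LocallyOfFinitePresentation s.left›
  have : LocallyOfFinitePresentation G.t := ‹LocallyOfFinitePresentation t.left›
  obtain ⟨O, h1, h2, h3, h4⟩ : ∃ O : U.left.Opens,
      (t.left ⁻¹ᵁ O : Set R.left) = {r | Grpd.IsCMAt s.left r} ∧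
      (s.left ⁻¹ᵁ O : Set R.left) = {r | Grpd.IsCMAt t.left r} ∧
      ⇑t.left '' (s.left ⁻¹ᵁ O : Set R.left) = Set.univ ∧
      ⇑s.left '' (t.left ⁻¹ᵁ O : Set R.left) = Set.univ := Groth.Agent.S1936.result S G
  have hr : Set.range (opensι O).left = (O : Set U.left) := Scheme.Opens.range_ι O
  have h1' : ∀ r : R.left, t.left r ∈ Set.range (opensι O).left → MoreMor.IsCMAt s.left r := by
    intro r hr'
    rw [hr] at hr'
    have : r ∈ {r | Grpd.IsCMAt s.left r} := by rw [← h1]; exact hr'
    exact (grpd_isCMAt_iff _ _).1 this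
  have h2' : ∀ r : R.left, s.left r ∈ Set.range (opensι O).left → MoreMor.IsCMAt t.left r := by
    intro r hr'
    rw [hr] at hr'
    have : r ∈ {r | Grpd.IsCMAt t.left r} := by rw [← h2]; exact hr'
    exact (grpd_isCMAt_iff _ _).1 this
  refine ⟨O, surjective_hres_of s t _ ?_, cm_of_open s t _ h1' h2'⟩
  intro u
  have hu : u ∈ (⇑s.left '' (t.left ⁻¹ᵁ O : Set R.left)) := by rw [h4]; trivial
  obtain ⟨r, hr', rfl⟩ := hu
  refine ⟨r, ?_, rfl⟩
  rw [hr]
  exact hr'

end Groth.Agent.Lib.Helper24.EqvSlice
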