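import Groth.Agent.Lib.Helper24.QuotRestrict
import Groth.Agent.Lib.Helper24.CoprodSp2
set_option autoImplicit false
set_option linter.unusedSectionVars false
universe u
open CategoryTheory CategoryTheory.Limits AlgebraicGeometry Opposite

/-! The image of a representable étale (more generally flat, locally finitely presented) map from
a scheme to a sheaf is an open subfunctor. -/

namespace Groth.Agent.Lib.Helper24.EtImage
open AlgSp Groth.Agent.Lib.Helper14.AS Groth.Agent.Lib.Helper24.ZarGlue
open Groth.Agent.Lib.Helper24.ZarGlueRep Groth.Agent.Lib.Helper24.DescSubsheaf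
open Groth.Agent.Lib.Helper24.QuotRestrict

variable {S : Scheme.{u}} {E : Sp S} {V : Over S} (ψ : (yon S).obj V ⟶ E)

/-- the image subsheaf of a map from a scheme -/
noncomputable abbrev img : SubPred E := locPred ψ ⊤

/-- the image subsheaf, as a sheaf -/
noncomputable abbrev imgSh : Sp S := (img ψ).sheaf

lemma img_P_of_lift {Z W : Over S} (g : (yon S).obj Z ⟶ E) (c : W ⟶ Z) [Flat c.left]
    [Surjective c.left] [LocallyOfFinitePresentation c.left] (a : W ⟶ V)
    (h : (yon S).map a ≫ ψ = (yon S).map c ≫ g) : (img ψ).P g := by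
  refine (AlgSp.J S).superset_covering ?_ (generate_singleton_mem_J c)
  rintro W₁ f ⟨W₂, u, v, ⟨⟩, rfl⟩
  exact (liftSieve ψ ⊤ g).downward_closed ⟨a, fun _ _ => trivial, h⟩ u

/-- the map itself factors through its image -/
lemma img_P_self : (img ψ).P ψ := by
  refine (AlgSp.J S).superset_covering ?_ ((AlgSp.J S).top_mem V)
  intro W w _
  exact ⟨w, fun _ _ => trivial, rfl⟩

/-- the corestriction of the map to its image -/
noncomputable def toImg : (yon S).obj V ⟶ imgSh ψ := (((img ψ).P_iff ψ).1 (img_P_self ψ)).choose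

lemma toImg_ι : toImg ψ ≫ (img ψ).ι = ψ := (((img ψ).P_iff ψ).1 (img_P_self ψ)).choose_spec

/-- points of the image lift fppf locally -/
lemma exists_lift_of_img_P {Z : Over S} (g : (yon S).obj Z ⟶ E) (hg : (img ψ).P g) (x : Z.left) :
    ∃ (W : Over S) (w : W ⟶ Z) (a : W ⟶ V), Flat w.left ∧ LocallyOfFinitePresentation w.left ∧
      x ∈ Set.range w.left ∧ (yon S).map a ≫ ψ = (yon S).map w ≫ g := by
  obtain ⟨R, hR, hle⟩ := (mem_J_iff _).1 hg
  obtain ⟨W, w, hw, hx⟩ := exists_mem_range_of_mem_KS R hR x
  obtain ⟨hF, hL⟩ := Groth.Agent.Lib.Helper24.QuotAtlas.prop_of_mem_KS R hR w hw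
  obtain ⟨a, -, ha⟩ := hle _ _ hw
  exact ⟨W, w, a, hF, hL, hx, ha⟩

section Open
variable (hF : RepWith @Flat ψ) (hL : RepWith @LocallyOfFinitePresentation ψ)

include hF hL in
/-- **The image of a flat, locally finitely presented representable map from a scheme is an open
subfunctor.** -/
theorem repWith_isOpenImmersion_img_ι : RepWith @IsOpenImmersion (img ψ).ι := by
  refine SubPred.repWith (Q := @IsOpenImmersion) (img ψ) fun Z g => ?_
  have sq := hF.rep.isPullback g
  have h1 : Flat (hF.rep.snd g).left := hF.property_snd g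
  have h2 : LocallyOfFinitePresentation (hF.rep.snd g).left := hL.property g _ _ sq
  let O : Z.left.Opens := ⟨Set.range (hF.rep.snd g).left,
    (hF.rep.snd g).left.isOpenMap.isOpen_range⟩
  have hm : Mono (resOpenι Z O) := by
    have : Mono ((Over.forget S).map (resOpenι Z O)) := inferInstanceAs (Mono O.ι)
    exact (Over.forget S).mono_of_mono_map this
  refine ⟨resOpen Z O, resOpenι Z O, hm, inferInstanceAs (IsOpenImmersion O.ι), fun Z₁ t => ?_⟩
  obtain ⟨fstV, hfstV⟩ := (yon S).map_surjective (hF.rep.fst g)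
  constructor
  · intro ht
    have hr : Set.range t.left ⊆ Set.range O.ι := by
      rw [Scheme.Opens.range_ι]
      rintro _ ⟨x, rfl⟩
      obtain ⟨W, w, a, -, -, ⟨y, rfl⟩, ha⟩ := exists_lift_of_img_P ψ _ ht x
      rw [← Functor.map_comp_assoc] at ha
      let l : W ⟶ hF.rep.pullback g := (yon S).preimage (sq.lift ((yon S).map a)
        ((yon S).map (w ≫ t)) ha)
      have hl : l ≫ hF.rep.snd g = w ≫ t := by
        apply (yon S).map_injective
        rw [Functor.map_comp, Functor.map_preimage]
        exact sq.lift_snd _ _ _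
      exact ⟨l.left y, by
        change (l ≫ hF.rep.snd g).left y = _
        rw [hl]; rfl⟩
    refine ⟨Over.homMk (IsOpenImmersion.lift O.ι t.left hr) ?_, ?_⟩
    · change IsOpenImmersion.lift O.ι t.left hr ≫ O.ι ≫ Z.hom = Z₁.hom
      rw [← Category.assoc, IsOpenImmersion.lift_fac, Over.w]
    · ext1
      exact IsOpenImmersion.lift_fac _ _ _
  · rintro ⟨w, rfl⟩
    -- the cover `Z₁ ×_Z P`
    let P := hF.rep.pullback g
    let sP := hF.rep.snd g
    let c₀ : pullback (w.left ≫ O.ι) sP.left ⟶ Z₁.left := pullback.fst _ _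
    let W₂ : Over S := Over.mk (c₀ ≫ Z₁.hom)
    let c : W₂ ⟶ Z₁ := Over.homMk c₀ rfl
    let b : W₂ ⟶ P := Over.homMk (pullback.snd (w.left ≫ O.ι) sP.left) (by
      change pullback.snd (w.left ≫ O.ι) sP.left ≫ P.hom = c₀ ≫ Z₁.hom
      rw [← Over.w sP, ← Category.assoc, ← pullback.condition, Category.assoc]
      congr 1
      have := Over.w (w ≫ resOpenι Z O)
      exact this)
    have hb : b ≫ sP = c ≫ w ≫ resOpenι Z O := by
      ext1
      exact pullback.condition.symm
    have hcF : Flat c.left := inferInstanceAs (Flat (pullback.fst (w.left ≫ O.ι) sP.left))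
    have hcL : LocallyOfFinitePresentation c.left :=
      inferInstanceAs (LocallyOfFinitePresentation (pullback.fst (w.left ≫ O.ι) sP.left))
    have hcS : Surjective c.left := by
      refine ⟨fun x => ?_⟩
      obtain ⟨p, hp⟩ : (w.left ≫ O.ι) x ∈ Set.range sP.left := (w.left x).2
      obtain ⟨y, hy, -⟩ := Scheme.Pullback.exists_preimage_pullback (f := w.left ≫ O.ι)
        (g := sP.left) x p hp.symm
      exact ⟨y, hy⟩
    refine img_P_of_lift ψ _ c (b ≫ fstV) ?_
    rw [Functor.map_comp, Category.assoc, hfstV, sq.w, ← Functor.map_comp_assoc, hb,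
      Functor.map_comp_assoc]

end Open

end Groth.Agent.Lib.Helper24.EtImage
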