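import Mathlib

/-! # Nonempty finite limits from binary products and equalizers; binary products of
formal coproducts -/

set_option backward.isDefEq.respectTransparency false
set_option backward.isDefEq.respectTransparency.types false
set_option autoImplicit false

universe w' w v u

open CategoryTheory CategoryTheory.Limits Opposite

namespace Groth.Agent.Lib.Helper24.FCLim

section Products

variable {D : Type u} [Category.{v} D] [HasBinaryProducts D]

theorem hasProduct_fin_succ : ∀ (n : ℕ) (f : Fin (n + 1) → D), HasProduct f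
  | 0, f => by
    have : Subsingleton (Fin (0 + 1)) := inferInstanceAs (Subsingleton (Fin 1))
    have : Nonempty (Fin (0 + 1)) := ⟨0⟩
    infer_instance
  | n + 1, f => by
    have := hasProduct_fin_succ n (fun i => f i.succ)
    exact ⟨⟨⟨_, extendFanIsLimit f (limit.isLimit _) (limit.isLimit _)⟩⟩⟩

theorem hasProductsOfShape_of_nonempty_finite (ι : Type w) [Finite ι] [Nonempty ι] :
    HasProductsOfShape ι D := by
  obtain ⟨n, ⟨e⟩⟩ := Finite.exists_equiv_fin ι
  have hn : n ≠ 0 := by
    rintro rfl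
    exact (e (Classical.arbitrary ι)).elim0
  obtain ⟨m, rfl⟩ := Nat.exists_eq_succ_of_ne_zero hn
  have : HasProductsOfShape (Fin (m + 1)) D :=
    ⟨fun F => by
      have : HasLimit (Discrete.functor (F.obj ∘ Discrete.mk)) :=
        hasProduct_fin_succ m (F.obj ∘ Discrete.mk)
      exact hasLimit_of_iso (Discrete.natIsoFunctor (F := F)).symm⟩
  exact hasLimitsOfShape_of_equivalence (Discrete.equivalence e.symm)

theorem hasLimitsOfShape_of_nonempty_finite [HasEqualizers D] (J : Type w) [SmallCategory J]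
    [FinCategory J] [Nonempty J] : HasLimitsOfShape J D := by
  refine ⟨fun F => ?_⟩
  have : Finite J := Finite.of_fintype J
  have := hasProductsOfShape_of_nonempty_finite (D := D) J
  have : Finite (Σ p : J × J, p.1 ⟶ p.2) := by
    have : ∀ p : J × J, Finite (p.1 ⟶ p.2) := fun p => Finite.of_fintype _
    infer_instance
  have : Nonempty (Σ p : J × J, p.1 ⟶ p.2) :=
    ⟨⟨(Classical.arbitrary J, Classical.arbitrary J), 𝟙 _⟩⟩
  have := hasProductsOfShape_of_nonempty_finite (D := D) (Σ p : J × J, p.1 ⟶ p.2)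
  exact hasLimit_of_equalizer_and_product F

end Products

section FC

variable {C : Type u} [Category.{v} C] [HasBinaryProducts C]

/-- The binary product of formal coproducts. -/
noncomputable def prodFC (K L : FormalCoproduct.{w} C) : FormalCoproduct.{w} C :=
  ⟨K.I × L.I, fun p => K.obj p.1 ⨯ L.obj p.2⟩

noncomputable def fstFC (K L : FormalCoproduct.{w} C) : prodFC K L ⟶ K :=
  ⟨Prod.fst, fun _ => prod.fst⟩

noncomputable def sndFC (K L : FormalCoproduct.{w} C) : prodFC K L ⟶ L :=
  ⟨Prod.snd, fun _ => prod.snd⟩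

noncomputable def liftFC {K L T : FormalCoproduct.{w} C} (a : T ⟶ K) (b : T ⟶ L) :
    T ⟶ prodFC K L :=
  ⟨fun t => (a.f t, b.f t), fun t => prod.lift (a.φ t) (b.φ t)⟩

theorem liftFC_fst {K L T : FormalCoproduct.{w} C} (a : T ⟶ K) (b : T ⟶ L) :
    liftFC a b ≫ fstFC K L = a := by
  refine FormalCoproduct.hom_ext rfl (fun t => ?_)
  change (prod.lift (a.φ t) (b.φ t) ≫ prod.fst) ≫ eqToHom _ = a.φ t
  simp

theorem liftFC_snd {K L T : FormalCoproduct.{w} C} (a : T ⟶ K) (b : T ⟶ L) :
    liftFC a b ≫ sndFC K L = b := by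
  refine FormalCoproduct.hom_ext rfl (fun t => ?_)
  change (prod.lift (a.φ t) (b.φ t) ≫ prod.snd) ≫ eqToHom _ = b.φ t
  simp

theorem prodFC_hom_ext {K L T : FormalCoproduct.{w} C} (m m' : T ⟶ prodFC K L)
    (h1 : m ≫ fstFC K L = m' ≫ fstFC K L) (h2 : m ≫ sndFC K L = m' ≫ sndFC K L) : m = m' := by
  obtain ⟨h1f, h1φ⟩ := (FormalCoproduct.hom_ext_iff _ _).1 h1
  obtain ⟨h2f, h2φ⟩ := (FormalCoproduct.hom_ext_iff _ _).1 h2
  have hf : m.f = m'.f := by
    funext t
    exact Prod.ext (congrFun h1f t) (congrFun h2f t)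
  refine FormalCoproduct.hom_ext hf (fun t => ?_)
  have e1 := h1φ t
  have e2 := h2φ t
  change (m.φ t ≫ prod.fst) ≫ eqToHom _ = m'.φ t ≫ prod.fst at e1
  change (m.φ t ≫ prod.snd) ≫ eqToHom _ = m'.φ t ≫ prod.snd at e2
  -- generalize the index
  have key : ∀ (p q : K.I × L.I) (hpq : p = q) (x : T.obj t ⟶ K.obj p.1 ⨯ L.obj p.2)
      (y : T.obj t ⟶ K.obj q.1 ⨯ L.obj q.2)
      (_ : (x ≫ prod.fst) ≫ eqToHom (by rw [hpq]) = y ≫ prod.fst)
      (_ : (x ≫ prod.snd) ≫ eqToHom (by rw [hpq]) = y ≫ prod.snd),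
      x ≫ eqToHom (by rw [hpq]) = y := by
    intro p q hpq x y hx hy
    subst hpq
    simp only [eqToHom_refl, Category.comp_id] at hx hy ⊢
    exact Limits.prod.hom_ext hx hy
  exact key (m.f t) (m'.f t) (congrFun hf t) (m.φ t) (m'.φ t) e1 e2

theorem hasLimit_pairFC (K L : FormalCoproduct.{w} C) : HasLimit (pair K L) :=
  ⟨⟨⟨BinaryFan.mk (fstFC K L) (sndFC K L),
    BinaryFan.isLimitMk (fun s => liftFC s.fst s.snd) (fun _ => liftFC_fst _ _)
      (fun _ => liftFC_snd _ _) (fun _ _ h1 h2 => prodFC_hom_ext _ _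
        (h1.trans (liftFC_fst _ _).symm) (h2.trans (liftFC_snd _ _).symm))⟩⟩⟩

instance hasBinaryProductsFC : HasBinaryProducts (FormalCoproduct.{w} C) := by
  have : ∀ {K L : FormalCoproduct.{w} C}, HasLimit (pair K L) := fun {K L} => hasLimit_pairFC K L
  exact hasBinaryProducts_of_hasLimit_pair _

variable [HasPullbacks C]

instance hasEqualizersFC : HasEqualizers (FormalCoproduct.{w} C) :=
  hasEqualizers_of_hasPullbacks_and_binary_products

theorem hasLimitsOfShapeFC (J : Type w') [SmallCategory J] [FinCategory J] [Nonempty J] :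
    HasLimitsOfShape J (FormalCoproduct.{w} C) :=
  hasLimitsOfShape_of_nonempty_finite J

end FC

end Groth.Agent.Lib.Helper24.FCLim
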