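import Mathlib
import Groth.Agent.Lib.Helper24.FUnr5
import Groth.Agent.Lib.Helper14.AlgSpLocP

/-!
# Formally etale morphisms of algebraic spaces and charts (helper24)
-/

set_option autoImplicit false
universe u

open CategoryTheory CategoryTheory.Limits AlgebraicGeometry Opposite AlgSp
open Groth.Agent.Lib.Helper14.AS Groth.Agent.Lib.Helper10.AlgSpInf

namespace Groth.Agent.Lib.Helper24.FUnr

variable {S : Scheme.{u}}

set_option backward.isDefEq.respectTransparency.types false in
/-- For a morphism of schemes over `S`, the lifting notion of formal etaleness of the associated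
map of sheaves agrees with the scheme-level one. -/
theorem isFormallyEtaleMor_yon_map_iff {U V : Over S} (h : U ⟶ V) :
    IsFormallyEtaleMor ((yon S).map h) ↔ MoreMor.IsFormallyEtaleHom h.left := by
  constructor
  · intro hf A _ I hI α β comm
    let str : Spec (.of A) ⟶ S := β ≫ V.hom
    let β' : Over.mk str ⟶ V := Over.homMk β rfl
    let α' : Over.mk (Spec.map (CommRingCat.ofHom (Ideal.Quotient.mk I)) ≫ str) ⟶ U :=
      Over.homMk α (by
        change α ≫ U.hom = Spec.map (CommRingCat.ofHom (Ideal.Quotient.mk I)) ≫ β ≫ V.hom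
        rw [← Over.w h, ← Category.assoc, ← comm, Category.assoc])
    let sq : InfSq ((yon S).map h) :=
      { A := A, I := I, sq_zero := hI, str := str
        top := (yon S).map α'
        bot := (yon S).map β'
        comm := by
          rw [← Functor.map_comp, ← Functor.map_comp]
          congr 1
          ext1
          exact comm.symm }
    obtain ⟨l, ⟨hl1, hl2⟩, hlu⟩ := hf sq
    obtain ⟨lam, rfl⟩ := (yon S).map_surjective l
    have hlam1 : sq.j ≫ lam = α' := by
      apply (yon S).map_injective
      rw [Functor.map_comp]; exact hl1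
    have hlam2 : lam ≫ h = β' := by
      apply (yon S).map_injective
      rw [Functor.map_comp]; exact hl2
    refine ⟨lam.left, ⟨congrArg (fun k => k.left) hlam1, congrArg (fun k => k.left) hlam2⟩, ?_⟩
    rintro l₂ ⟨h21, h22⟩
    let lam₂ : sq.ptT' ⟶ U := Over.homMk l₂ (by
      change l₂ ≫ U.hom = β ≫ V.hom
      rw [← Over.w h, ← Category.assoc, h22])
    have := hlu ((yon S).map lam₂) ⟨by
      change (yon S).map sq.j ≫ (yon S).map lam₂ = (yon S).map α'
      rw [← Functor.map_comp]
      congr 1
      ext1
      exact h21, by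
      change (yon S).map lam₂ ≫ (yon S).map h = (yon S).map β'
      rw [← Functor.map_comp]
      congr 1
      ext1
      exact h22⟩
    have h3 : lam₂ = lam := (yon S).map_injective this
    exact congrArg (fun k => k.left) h3
  · intro hh sq
    obtain ⟨α', hα'⟩ := (yon S).map_surjective sq.top
    obtain ⟨β', hβ'⟩ := (yon S).map_surjective sq.bot
    have hcomm : α' ≫ h = sq.j ≫ β' := by
      apply (yon S).map_injective
      rw [Functor.map_comp, Functor.map_comp, hα', hβ']
      exact sq.comm
    obtain ⟨l₀, ⟨hl1, hl2⟩, hlu⟩ := hh sq.A sq.I sq.sq_zero α'.left β'.left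
      (congrArg (fun k => k.left) hcomm).symm
    let lam : sq.ptT' ⟶ U := Over.homMk l₀ (by
      rw [← Over.w h, ← Category.assoc, hl2]
      exact Over.w β')
    refine ⟨(yon S).map lam, ⟨?_, ?_⟩, ?_⟩
    · rw [← hα', ← Functor.map_comp]
      congr 1
      ext1
      exact hl1
    · rw [← hβ', ← Functor.map_comp]
      congr 1
      ext1
      exact hl2
    · rintro l' ⟨hl'1, hl'2⟩
      obtain ⟨lam', rfl⟩ := (yon S).map_surjective l'
      have e1 : sq.j ≫ lam' = α' := by
        apply (yon S).map_injective
        rw [Functor.map_comp, hα']; exact hl'1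
      have e2 : lam' ≫ h = β' := by
        apply (yon S).map_injective
        rw [Functor.map_comp, hβ']; exact hl'2
      have := hlu lam'.left ⟨congrArg (fun k => k.left) e1, congrArg (fun k => k.left) e2⟩
      congr 1
      ext1
      exact this

/-- A formally etale morphism of sheaves is formally etale on every chart diagram with etale
charts. -/
theorem isFormallyEtaleHom_chart {X Y : Sp S} (f : X ⟶ Y) (hf : IsFormallyEtaleMor f)
    {U V : Over S} (a : (yon S).obj U ⟶ X) (b : (yon S).obj V ⟶ Y) (h : U ⟶ V)
    (ha : RepWith @Etale a) (hb : RepWith @Etale b) (comm : a ≫ f = (yon S).map h ≫ b) :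
    MoreMor.IsFormallyEtaleHom h.left := by
  rw [← isFormallyEtaleMor_yon_map_iff]
  have h1 : IsFormallyEtaleMor (a ≫ f) :=
    etale_comp a f (isFormallyEtaleMor_of_repWith_etale a ha) hf
  rw [comm] at h1
  exact etale_of_comp _ b
    ((isFormallyEtaleMor_iff b).1 (isFormallyEtaleMor_of_repWith_etale b hb)).2 h1

/-- If `f` is formally etale on one chart diagram with etale charts, the chart of the source being
surjective, then `f` is formally etale. -/
theorem isFormallyEtaleMor_of_chart {X Y : Sp S} (f : X ⟶ Y)
    {U V : Over S} (a : (yon S).obj U ⟶ X) (b : (yon S).obj V ⟶ Y) (h : U ⟶ V)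
    (ha : RepWith @Etale a) (has : RepWith @Surjective a) (hb : RepWith @Etale b)
    (comm : a ≫ f = (yon S).map h ≫ b) (hh : MoreMor.IsFormallyEtaleHom h.left) :
    IsFormallyEtaleMor f := by
  have h1 : IsFormallyEtaleMor ((yon S).map h ≫ b) :=
    etale_comp _ b ((isFormallyEtaleMor_yon_map_iff h).2 hh)
      (isFormallyEtaleMor_of_repWith_etale b hb)
  rw [← comm] at h1
  rw [isFormallyEtaleMor_iff]
  exact ⟨isFormallySmoothMor_of_comp_etale a f ha has h1,
    isFormallyUnramifiedMor_of_comp_etale a f ha has ((isFormallyEtaleMor_iff _).1 h1).2⟩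

theorem isFormallyEtaleMor_iff_locP {X Y : Sp S} (hX : IsAlgSpace X) (hY : IsAlgSpace Y)
    (f : X ⟶ Y) : IsFormallyEtaleMor f ↔ LocP @MoreMor.IsFormallyEtaleHom f := by
  constructor
  · intro hf U V a b h ha hb comm
    exact isFormallyEtaleHom_chart f hf a b h ha hb comm
  · intro hloc
    obtain ⟨V, b, hbe, hbs⟩ := hY.atlas
    obtain ⟨U, a, h, hae, has, comm⟩ := exists_chart_diagram hX f b hbe hbs
    exact isFormallyEtaleMor_of_chart f a b h hae has hbe comm (hloc a b h hae hbe comm)

end Groth.Agent.Lib.Helper24.FUnr
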