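import Groth.Agent.Lib.Helper24.FEtFaithful
import Mathlib.RingTheory.Ideal.KrullsHeightTheorem

set_option autoImplicit false
set_option backward.isDefEq.respectTransparency false
set_option backward.isDefEq.respectTransparency.types false

namespace Groth.Agent.Lib.Helper24.FaithConn

universe u
open CategoryTheory CategoryTheory.Limits AlgebraicGeometry

/-- In a Noetherian local ring `A`, if `dim A/p ≥ 2` and `f` is a non-unit, there is a prime
`q ⊇ p + (f)` different from the maximal ideal. -/
theorem exists_prime_ge {A : Type u} [CommRing A] [IsNoetherianRing A] [IsLocalRing A] (f : A)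
    (hf : f ∈ IsLocalRing.maximalIdeal A) (p : Ideal A) [p.IsPrime]
    (hdim : (2 : WithBot ℕ∞) ≤ ringKrullDim (A ⧸ p)) :
    ∃ q : Ideal A, q.IsPrime ∧ p ≤ q ∧ f ∈ q ∧ q ≠ IsLocalRing.maximalIdeal A := by
  haveI : IsLocalRing (A ⧸ p) :=
    IsLocalRing.of_surjective' (Ideal.Quotient.mk p) Ideal.Quotient.mk_surjective
  have hne : Ideal.span {Ideal.Quotient.mk p f} ≠ (⊤ : Ideal (A ⧸ p)) := by
    intro htop
    rw [Ideal.span_singleton_eq_top] at htop
    have : IsUnit f := by
      have hloc : IsLocalHom (Ideal.Quotient.mk p) :=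
        IsLocalHom.of_surjective _ Ideal.Quotient.mk_surjective
      exact hloc.map_nonunit f htop
    exact hf this
  obtain ⟨⟨Q, hQ⟩⟩ := Ideal.nonempty_minimalPrimes hne
  have hQp : Q.IsPrime := hQ.1.1
  have hht : Q.height ≤ 1 :=
    Ideal.height_le_one_of_isPrincipal_of_mem_minimalPrimes _ Q hQ
  refine ⟨Q.comap (Ideal.Quotient.mk p), inferInstance, ?_, ?_, ?_⟩
  · intro a ha
    rw [Ideal.mem_comap, Ideal.Quotient.eq_zero_iff_mem.mpr ha]
    exact Q.zero_mem
  · rw [Ideal.mem_comap]
    exact hQ.1.2 (Ideal.subset_span rfl)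
  · intro heq
    have hQm : Q = IsLocalRing.maximalIdeal (A ⧸ p) := by
      have hmax : (Q.comap (Ideal.Quotient.mk p)).IsMaximal := by
        rw [heq]; infer_instance
      have : Q.IsMaximal := by
        have := Ideal.map_eq_top_or_isMaximal_of_surjective (Ideal.Quotient.mk p)
          Ideal.Quotient.mk_surjective hmax
        rw [Ideal.map_comap_of_surjective _ Ideal.Quotient.mk_surjective] at this
        rcases this with h | h
        · exact absurd h hQp.ne_top
        · exact h
      exact IsLocalRing.eq_maximalIdeal this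
    rw [hQm] at hht
    have h1 : ((IsLocalRing.maximalIdeal (A ⧸ p)).height : WithBot ℕ∞) ≤ 1 := by
      exact_mod_cast hht
    rw [IsLocalRing.maximalIdeal_height_eq_ringKrullDim] at h1
    have : (2 : WithBot ℕ∞) ≤ 1 := hdim.trans h1
    exact absurd this (by decide)

end Groth.Agent.Lib.Helper24.FaithConn
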