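import Groth.Agent.Lib.Helper24.FaithConnA

set_option autoImplicit false
set_option backward.isDefEq.respectTransparency false
set_option backward.isDefEq.respectTransparency.types false

namespace Groth.Agent.Lib.Helper24.FaithConn

universe u
open CategoryTheory CategoryTheory.Limits AlgebraicGeometry

/-- If the image of `i` meets every connected component of the target, restriction of finite
étale covers along `i` is faithful. -/
theorem faithful_of_meets {X Y : Scheme.{u}} (i : Y ⟶ X)
    (h : ∀ x : X, (connectedComponent x ∩ Set.range i.base).Nonempty) :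
    (FEt.restrict i).Faithful := by
  refine ⟨fun {Y₁ Y₂} {φ ψ} hφψ => ?_⟩
  apply FEtFaith.eq_of_range_eq_univ
  have hsub := FEtFaith.preimage_subset_range_equalizer i φ ψ hφψ
  set E := Set.range (equalizer.ι (FEtFaith.ov φ) (FEtFaith.ov ψ)).left with hE
  have hclopen : IsClopen E := Groth.Agent.S0063.isClopen_range_equalizer _ _
  by_contra hne
  have hne' : Eᶜ.Nonempty := Set.nonempty_compl.mpr hne
  obtain ⟨y, hy⟩ := hne'
  have himg : IsClopen (Y₁.hom '' Eᶜ) :=
    ⟨FEtFaith.isClosedMap_hom Y₁ _ hclopen.compl.1, FEtFaith.isOpenMap_hom Y₁ _ hclopen.compl.2⟩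
  have hx : Y₁.hom y ∈ Y₁.hom '' Eᶜ := ⟨y, hy, rfl⟩
  have hcc : connectedComponent (Y₁.hom y) ⊆ Y₁.hom '' Eᶜ := himg.connectedComponent_subset hx
  obtain ⟨z, hz1, hz2⟩ := h (Y₁.hom y)
  obtain ⟨y', hy'E, hy'z⟩ := hcc hz1
  apply hy'E
  apply hsub
  show Y₁.hom y' ∈ Set.range i
  rw [hy'z]
  exact hz2

/-- a specialization lies in the connected component. -/
theorem mem_connectedComponent_of_specializes {T : Type*} [TopologicalSpace T] {a b : T}
    (h : a ⤳ b) : b ∈ connectedComponent a := by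
  have h1 : IsPreconnected (closure ({a} : Set T)) := isPreconnected_singleton.closure
  exact h1.subset_connectedComponent (subset_closure rfl) (specializes_iff_mem_closure.mp h)

theorem main (A : Type u) [CommRing A] [IsNoetherianRing A] [IsLocalRing A] (f : A)
    (hf : f ∈ IsLocalRing.maximalIdeal A)
    (U' : (Spec (CommRingCat.of A)).Opens) (hU' : U' ≤ FEt.puncturedSpec A)
    (u' : pullback (FEt.puncturedSpec A).ι (Spec.map (CommRingCat.ofHom (Ideal.Quotient.mk (Ideal.span {f})))) ⟶ (U' : Scheme.{u}))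
    (hu' : u' ≫ U'.ι = (pullback.fst (FEt.puncturedSpec A).ι (Spec.map (CommRingCat.ofHom (Ideal.Quotient.mk (Ideal.span {f})))) ≫ (FEt.puncturedSpec A).ι))
    (hdim : ∀ p : PrimeSpectrum A, p.asIdeal ∈ minimalPrimes A → p ∈ U' → f ∉ p.asIdeal →
      (2 : WithBot ℕ∞) ≤ ringKrullDim (A ⧸ p.asIdeal)) :
    (FEt.restrict u').Faithful := by
  apply faithful_of_meets
  intro x
  -- Lemma A
  have hA : ∀ Q : PrimeSpectrum A, f ∈ Q.asIdeal → Q ≠ IsLocalRing.closedPoint A →
      ∃ w, (U'.ι (u' w) : PrimeSpectrum A) = Q := by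
    intro Q hfQ hQ
    have hQU : Q ∈ FEt.puncturedSpec A := hQ
    have hmem : (⟨Q, hQU⟩ : ↥(FEt.puncturedSpec A)) ∈
        Set.range (pullback.fst (FEt.puncturedSpec A).ι
          (Spec.map (CommRingCat.ofHom (Ideal.Quotient.mk (Ideal.span {f}))))) := by
      rw [Scheme.Pullback.range_fst]
      show Q ∈ Set.range (Spec.map (CommRingCat.ofHom (Ideal.Quotient.mk (Ideal.span {f}))))
      have := _root_.range_comap_of_surjective (A ⧸ Ideal.span {f})
        (Ideal.Quotient.mk (Ideal.span {f})) Ideal.Quotient.mk_surjective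
      show Q ∈ Set.range (PrimeSpectrum.comap (Ideal.Quotient.mk (Ideal.span {f})))
      rw [this, Ideal.mk_ker, PrimeSpectrum.mem_zeroLocus]
      intro a ha
      obtain ⟨c, rfl⟩ := Ideal.mem_span_singleton'.mp ha
      exact Q.asIdeal.mul_mem_left c hfQ
    obtain ⟨w, hw⟩ := hmem
    refine ⟨w, ?_⟩
    have := congrArg (fun g => g.base w) hu'
    simp only [Scheme.Hom.comp_base, TopCat.comp_app] at this
    rw [this, hw]
    rfl
  -- the point x and a minimal prime below it
  set P : PrimeSpectrum A := U'.ι x with hP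
  have hPU' : P ∈ U' := x.2
  obtain ⟨p, hpmin, hpP⟩ := Ideal.exists_minimalPrimes_le (I := ⊥) (J := P.asIdeal) bot_le
  haveI hpprime : p.IsPrime := hpmin.1.1
  let p' : PrimeSpectrum A := ⟨p, hpprime⟩
  have hspec : p' ⤳ P := (PrimeSpectrum.le_iff_specializes p' P).mp hpP
  have hp'U' : p' ∈ U' := hspec.mem_open U'.2 hPU'
  -- the prime q
  obtain ⟨q, hqprime, hpq, hfq, hqm⟩ : ∃ q : Ideal A, q.IsPrime ∧ p ≤ q ∧ f ∈ q ∧
      q ≠ IsLocalRing.maximalIdeal A := by
    by_cases hfp : f ∈ p
    · refine ⟨p, hpprime, le_rfl, hfp, ?_⟩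
      intro h
      have h1 : p' ∈ FEt.puncturedSpec A := hU' hp'U'
      apply h1
      exact PrimeSpectrum.ext h
    · exact exists_prime_ge f hf p (hdim p' hpmin hp'U' hfp)
  let q' : PrimeSpectrum A := ⟨q, hqprime⟩
  obtain ⟨w, hw⟩ := hA q' hfq (fun h => hqm (congrArg PrimeSpectrum.asIdeal h))
  refine ⟨u' w, ?_, ⟨w, rfl⟩⟩
  let p'' : ↥U' := ⟨p', hp'U'⟩
  have h1 : x ∈ connectedComponent p'' :=
    mem_connectedComponent_of_specializes ((subtype_specializes_iff p'' x).mpr hspec)
  have hspec2 : p' ⤳ q' := (PrimeSpectrum.le_iff_specializes p' q').mp hpq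
  have h2 : u' w ∈ connectedComponent p'' := by
    refine mem_connectedComponent_of_specializes ((subtype_specializes_iff p'' (u' w)).mpr ?_)
    have : (Subtype.val (u' w) : PrimeSpectrum A) = q' := hw
    show p' ⤳ (Subtype.val (u' w) : PrimeSpectrum A)
    rw [this]
    exact hspec2
  rw [← connectedComponent_eq h1]
  exact h2

end Groth.Agent.Lib.Helper24.FaithConn
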