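import Groth.Agent.Lib.Helper14.FppfDescSp2
set_option autoImplicit false
universe w u
set_option linter.style.haveILetI false
set_option linter.unusedSectionVars false
set_option linter.unusedVariables false
set_option backward.isDefEq.respectTransparency false
set_option backward.isDefEq.respectTransparency.types false
open CategoryTheory CategoryTheory.Limits AlgebraicGeometry Opposite Topology TensorProduct

/-! Family version of Stacks 06NB: flatness, local finite type and local finite presentation of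
`Y ⟶ Z` follow from those of `X i ⟶ Y ⟶ Z` when the `X i ⟶ Y` are jointly locally surjective. -/

namespace Groth.Agent.Lib.Helper24.FamNB
open AlgSp Groth.Agent.Lib.Helper14.AS

variable {S : Scheme.{u}}

/-- joint local surjectivity of a family of morphisms of sheaves, tested on schemes -/
def JointLocSurj {ι : Type w} {X : ι → Sp S} {Y : Sp S} (g : ∀ i, X i ⟶ Y) : Prop :=
  ∀ {V : Over S} (b : (yon S).obj V ⟶ Y), ∃ R ∈ AlgSp.J S V, ∀ ⦃W : Over S⦄ (w : W ⟶ V),
    R w → ∃ (i : ι) (l : (yon S).obj W ⟶ X i), l ≫ g i = (yon S).map w ≫ b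

theorem exists_chart_lift_of_family {ι : Type w} {X : ι → Sp S} {Y : Sp S}
    (hX : ∀ i, IsAlgSpace (X i)) (hY : IsAlgSpace Y) (g : ∀ i, X i ⟶ Y) (hg : JointLocSurj g)
    {V : Over S} (b : (yon S).obj V ⟶ Y) (hb : RepWith @Etale b) (v : V.left) :
    ∃ (i : ι) (U U' : Over S) (a : (yon S).obj U ⟶ X i) (hU : U ⟶ V) (φ : U' ⟶ U) (u' : U'.left),
      RepWith @Etale a ∧ a ≫ g i = (yon S).map hU ≫ b ∧ Flat (φ ≫ hU).left ∧
      LocallyOfFinitePresentation (φ ≫ hU).left ∧ (φ ≫ hU).left u' = v := by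
  obtain ⟨R₀, hR₀, hlift⟩ := hg b
  obtain ⟨R, hR, hle⟩ := (mem_J_iff R₀).1 hR₀
  obtain ⟨V', w, hRw, hwfl, hwfp, v', hv'⟩ := exists_of_mem_KS hR v
  obtain ⟨i, l, hl⟩ := hlift w (hle _ _ hRw)
  have sqQ := IsPullback.of_hasPullback (g i) b
  have hQ : IsAlgSpace (pullback (g i) b) :=
    isAlgSpace_of_isPullback (repDiag_of_isAlgSpace hY) (hX i) (IsAlgSpace.yon_obj V) sqQ
  obtain ⟨U, p, hpe, hps⟩ := hQ.atlas
  obtain ⟨hU, hhU⟩ := (yon S).map_surjective (p ≫ pullback.snd (g i) b)
  have hq1 : RepWith @Etale (pullback.fst (g i) b) := repWith_of_isPullback _ sqQ.flip hb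
  obtain ⟨lam, hlam1, hlam2⟩ : ∃ lam : (yon S).obj V' ⟶ pullback (g i) b,
      lam ≫ pullback.fst (g i) b = l ∧ lam ≫ pullback.snd (g i) b = (yon S).map w :=
    ⟨pullback.lift l ((yon S).map w) hl, pullback.lift_fst _ _ _, pullback.lift_snd _ _ _⟩
  have sq := hpe.rep.isPullback' lam
  have hσe : Etale (hpe.rep.snd lam).left := hpe.property_snd lam
  have hσs : Surjective (hpe.rep.snd lam).left := hps.property_snd lam
  have hcomp : hpe.rep.fst' lam ≫ hU = hpe.rep.snd lam ≫ w := by
    apply (yon S).map_injective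
    rw [Functor.map_comp, Functor.map_comp, hhU, ← Category.assoc, sq.w, Category.assoc, hlam2]
  obtain ⟨u', hu'⟩ := (hpe.rep.snd lam).left.surjective v'
  refine ⟨i, U, _, p ≫ pullback.fst (g i) b, hU, hpe.rep.fst' lam, u', repWith_comp _ hpe hq1,
    ?_, ?_, ?_, ?_⟩
  · rw [Category.assoc, pullback.condition, ← Category.assoc, hhU]
  · rw [hcomp, Over.comp_left]
    infer_instance
  · rw [hcomp, Over.comp_left]
    infer_instance
  · rw [hcomp, Over.comp_left, Scheme.Hom.comp_apply, hu', hv']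

theorem locP_of_family {ι : Type w} {X : ι → Sp S} {Y Z : Sp S}
    (hX : ∀ i, IsAlgSpace (X i)) (hY : IsAlgSpace Y) (g : ∀ i, X i ⟶ Y) (h : Y ⟶ Z)
    (hg : JointLocSurj g) :
    ((∀ i, LocP @Flat (g i ≫ h)) → LocP @Flat h) ∧
    ((∀ i, LocP @LocallyOfFiniteType (g i ≫ h)) → LocP @LocallyOfFiniteType h) ∧
    ((∀ i, LocP @LocallyOfFinitePresentation (g i ≫ h)) →
      LocP @LocallyOfFinitePresentation h) := by
  have comm_ac : ∀ {i : ι} {U V W : Over S} (a : (yon S).obj U ⟶ X i) (b : (yon S).obj V ⟶ Y)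
      (c : (yon S).obj W ⟶ Z) (hU : U ⟶ V) (hV : V ⟶ W), a ≫ g i = (yon S).map hU ≫ b →
      b ≫ h = (yon S).map hV ≫ c → a ≫ (g i ≫ h) = (yon S).map (hU ≫ hV) ≫ c := by
    intro i U V W a b c hU hV e1 e2
    rw [← Category.assoc, e1, Category.assoc, e2, ← Category.assoc, ← Functor.map_comp]
  refine ⟨fun H => ?_, fun H => ?_, fun H => ?_⟩
  · intro V W b c hV hb hc comm
    refine Flat.of_stalkMap _ fun v => ?_
    obtain ⟨i, U, U', a, hU, φ, u', hae, comm_a, hfl, -, hu'⟩ :=
      exists_chart_lift_of_family hX hY g hg b hb v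
    have h1 : Flat (hU ≫ hV).left := H i a c (hU ≫ hV) hae hc (comm_ac a b c hU hV comm_a comm)
    have k1 : ((φ ≫ hU).left.stalkMap u').hom.Flat := Flat.stalkMap _ _
    have k2 : ((hU ≫ hV).left.stalkMap (φ.left u')).hom.Flat := Flat.stalkMap _ _
    rw [Over.comp_left, Scheme.Hom.stalkMap_comp] at k1 k2
    have key := ringHom_flat_of_pure (hV.left.stalkMap (hU.left (φ.left u'))).hom
      (hU.left.stalkMap (φ.left u')).hom (φ.left.stalkMap u').hom k1 k2
    exact flat_stalkMap_pt hV.left hu' key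
  · intro V W b c hV hb hc comm
    refine lft_of_forall_exists_fppf hV.left fun v => ?_
    obtain ⟨i, U, U', a, hU, φ, u', hae, comm_a, hfl, hfp, hu'⟩ :=
      exists_chart_lift_of_family hX hY g hg b hb v
    have h1 : LocallyOfFiniteType (hU ≫ hV).left :=
      H i a c (hU ≫ hV) hae hc (comm_ac a b c hU hV comm_a comm)
    have h2 : LocallyOfFiniteType (φ.left ≫ hU.left) := by
      rw [← Over.comp_left]; infer_instance
    have h3 : LocallyOfFiniteType φ.left := locallyOfFiniteType_of_comp φ.left hU.left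
    refine ⟨U'.left, (φ ≫ hU).left, hfl, hfp, ?_, ⟨u', hu'⟩⟩
    rw [← Over.comp_left, Category.assoc, Over.comp_left]
    rw [Over.comp_left] at h1
    infer_instance
  · intro V W b c hV hb hc comm
    refine lfp_of_forall_exists_fppf hV.left fun v => ?_
    obtain ⟨i, U, U', a, hU, φ, u', hae, comm_a, hfl, hfp, hu'⟩ :=
      exists_chart_lift_of_family hX hY g hg b hb v
    have h1 : LocallyOfFinitePresentation (hU ≫ hV).left :=
      H i a c (hU ≫ hV) hae hc (comm_ac a b c hU hV comm_a comm)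
    rw [Over.comp_left] at h1
    have h1' : LocallyOfFiniteType (hU.left ≫ hV.left) := inferInstance
    have h4 : LocallyOfFiniteType hU.left := locallyOfFiniteType_of_comp hU.left hV.left
    have h2 : LocallyOfFinitePresentation (φ.left ≫ hU.left) := by
      rw [← Over.comp_left]; exact hfp
    have h3 : LocallyOfFinitePresentation φ.left :=
      locallyOfFinitePresentation_of_comp φ.left hU.left h2 h4
    refine ⟨U'.left, (φ ≫ hU).left, hfl, hfp, ?_, ⟨u', hu'⟩⟩
    rw [← Over.comp_left, Category.assoc, Over.comp_left]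
    infer_instance

end Groth.Agent.Lib.Helper24.FamNB
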