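import Groth.Agent.Lib.Helper24.FibCatTwoCart
import Groth.Agent.Lib.Helper24.FibCatDiag
set_option autoImplicit false
set_option linter.unusedSectionVars false
open CategoryTheory CategoryTheory.Limits
universe u v u₂ v₂ u₃ v₃ u₄ v₄ u₅ v₅
set_option backward.isDefEq.respectTransparency false
set_option backward.isDefEq.respectTransparency.types false

/-! The diagonal square of a fully faithful functor is 2-cartesian (S12876). -/

namespace Groth.Agent.Lib.Helper24.FibCatDiagMono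
open Groth.Agent.Lib.Helper24.FibCatFpGen Groth.Agent.Lib.Helper24.FibCatEquiv
open Groth.Agent.Lib.Helper24.FibCatDiag Groth.Agent.Lib.Helper24.FibCatTwoCart

variable {C : Type u} [Category.{v} C]
variable {𝒳 : BasedCategory.{v₂, u₂} C} {𝒳' : BasedCategory.{v₃, u₃} C}
  {𝒴 : BasedCategory.{v₄, u₄} C} (i : 𝒳 ⥤ᵇ 𝒳') (g : 𝒳' ⥤ᵇ 𝒴)

theorem isTwoCartOver_diag_of_full_faithful [i.toFunctor.Full] [i.toFunctor.Faithful] :
    FibCat.IsTwoCartOver
      (F := (FibCat.fpLift (BasedFunctor.comp (FibCat.fpFst (BasedFunctor.comp i g) (BasedFunctor.comp i g)) i)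
        (BasedFunctor.comp (FibCat.fpSnd (BasedFunctor.comp i g) (BasedFunctor.comp i g)) i) (FibCat.fpIso (BasedFunctor.comp i g) (BasedFunctor.comp i g))))
      (G := FibCat.diag g) (FibCat.diag (BasedFunctor.comp i g)) i (Iso.refl _) := by
  apply isEquivOver_fpLift_of
  · intro w w' m m' h _
    exact congrArg (fun t => t.hom.fst) h
  · intro w w' u v huv
    have h1 : i.toFunctor.map u.hom.fst ≫ 𝟙 _ = 𝟙 _ ≫ v := congrArg (fun t => t.hom.fst) huv
    have h2 : i.toFunctor.map u.hom.snd ≫ 𝟙 _ = 𝟙 _ ≫ v := congrArg (fun t => t.hom.snd) huv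
    rw [Category.comp_id, Category.id_comp] at h1 h2
    have h3 : u.hom.fst = u.hom.snd := i.toFunctor.map_injective (h1.trans h2.symm)
    refine ⟨u.hom.fst, ?_, h1⟩
    apply hom_ext'
    · rfl
    · exact h3
  · intro η
    -- η.obj.fst : fp (i≫g) (i≫g), η.obj.snd : 𝒳', η.obj.iso : F(fst) ≅ diag g (snd)
    let x1 : 𝒳.obj := η.obj.fst.obj.fst
    let x2 : 𝒳.obj := η.obj.fst.obj.snd
    let x' : 𝒳'.obj := η.obj.snd
    let φ1 : i.toFunctor.obj x1 ≅ x' := (FibCat.fpFst g g).toFunctor.mapIso η.obj.iso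
    let φ2 : i.toFunctor.obj x2 ≅ x' := (FibCat.fpSnd g g).toFunctor.mapIso η.obj.iso
    let ψ : x1 ≅ x2 := i.toFunctor.preimageIso (φ1 ≪≫ φ2.symm)
    have hψ : i.toFunctor.map ψ.hom = φ1.hom ≫ φ2.inv := i.toFunctor.map_preimage _
    have hw : g.toFunctor.map φ1.hom ≫ 𝟙 _ =
        η.obj.fst.obj.iso.hom ≫ g.toFunctor.map φ2.hom := hom_w η.obj.iso.hom
    rw [Category.comp_id] at hw
    have hg : g.toFunctor.map φ2.hom ≫ g.toFunctor.map φ2.inv = 𝟙 _ := by
      rw [← Functor.map_comp, Iso.hom_inv_id, Functor.map_id]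
    have hθ : η.obj.fst.obj.iso.hom = g.toFunctor.map (i.toFunctor.map ψ.hom) := by
      rw [hψ, Functor.map_comp, hw, Category.assoc, hg]
      exact (Category.comp_id _).symm
    refine ⟨x1, mkIso (x := (FibCat.diag (BasedFunctor.comp i g)).toFunctor.obj x1)
      (y := η.obj.fst) (Iso.refl x1) ψ ?_, φ1, ?_, ?_⟩
    · change g.toFunctor.map (i.toFunctor.map (𝟙 x1)) ≫ η.obj.fst.obj.iso.hom =
        𝟙 _ ≫ g.toFunctor.map (i.toFunctor.map ψ.hom)
      rw [Functor.map_id, Functor.map_id, Category.id_comp, Category.id_comp, hθ]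
    · rw [isHomLift_iff_fst]
      exact IsHomLift.id rfl
    · apply hom_ext'
      · change i.toFunctor.map (𝟙 x1) ≫ φ1.hom = 𝟙 _ ≫ φ1.hom
        rw [Functor.map_id]
      · change i.toFunctor.map ψ.hom ≫ φ2.hom = 𝟙 _ ≫ φ1.hom
        rw [hψ, Category.assoc, Iso.inv_hom_id, Category.comp_id, Category.id_comp]

end Groth.Agent.Lib.Helper24.FibCatDiagMono
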