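import Groth.Agent.Lib.Helper24.FibCatFpMapL
import Groth.Agent.Lib.Helper24.StkFp
set_option autoImplicit false
set_option linter.unusedSectionVars false
open CategoryTheory CategoryTheory.Limits
universe u v u₂ v₂ u₃ v₃ u₄ v₄ u₅ v₅ u₆ v₆

/-! Every functor `w : 𝒟 ⟶ 𝒳 ×_𝒵 𝒴` factors as a section `𝒟 ⟶ 𝒟 ×_𝒵 𝒟` of the first projection
followed by the product map `w₁ × w₂ : 𝒟 ×_𝒵 𝒟 ⟶ 𝒳 ×_𝒵 𝒴`. -/

set_option backward.isDefEq.respectTransparency false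
set_option backward.isDefEq.respectTransparency.types false

namespace Groth.Agent.Lib.Helper24.FibCatFpFactor
open Groth.Agent.Lib.Helper24.FibCatFpGen Groth.Agent.Lib.Helper24.FibCatEquiv
open Groth.Agent.Lib.Helper24.FibCatDiag (mkIso)
open Groth.Agent.Lib.Helper24.FibCatFpMap Groth.Agent.Lib.Helper24.FibCatFpPaste
open Groth.Agent.Lib.Helper24.FibCatFpMapL Groth.Agent.Lib.Helper24.StkFp

variable {C : Type u} [Category.{v} C]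
variable {𝒜 : BasedCategory.{v₂, u₂} C} {ℬ : BasedCategory.{v₃, u₃} C}
  {𝒳 : BasedCategory.{v₄, u₄} C} {𝒴 : BasedCategory.{v₅, u₅} C} {𝒵 : BasedCategory.{v₆, u₆} C}

/-- the product map `a × b : 𝒜 ×_𝒵 ℬ ⟶ 𝒳 ×_𝒵 𝒴` -/
def prodMap (a : 𝒜 ⥤ᵇ 𝒳) (b : ℬ ⥤ᵇ 𝒴) (f : 𝒳 ⥤ᵇ 𝒵) (g : 𝒴 ⥤ᵇ 𝒵) :
    FibCat.fp (BasedFunctor.comp a f) (BasedFunctor.comp b g) ⥤ᵇ FibCat.fp f g :=
  BasedFunctor.comp (mapL a f (BasedFunctor.comp b g)) (mapR b g f)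

variable {f : 𝒳 ⥤ᵇ 𝒵} {g : 𝒴 ⥤ᵇ 𝒵} {𝒟 : BasedCategory.{v₂, u₂} C}

/-- the section `d ↦ (d, d, w_d)` -/
def sect (w : 𝒟 ⥤ᵇ FibCat.fp f g) :
    𝒟 ⥤ᵇ FibCat.fp (BasedFunctor.comp (c₁ w) f) (BasedFunctor.comp (c₂ w) g) :=
  FibCat.fpLift (BasedFunctor.id 𝒟) (BasedFunctor.id 𝒟) (cIso w)

/-- the section is a section of the first projection -/
def sectIso (w : 𝒟 ⥤ᵇ FibCat.fp f g) :
    BasedFunctor.comp (sect w) (FibCat.fpFst _ _) ≅ BasedFunctor.id 𝒟 := Iso.refl _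

def factorApp (w : 𝒟 ⥤ᵇ FibCat.fp f g) (d : 𝒟.obj) :
    (BasedFunctor.comp (sect w) (prodMap (c₁ w) (c₂ w) f g)).toFunctor.obj d ≅ w.toFunctor.obj d :=
  mkIso (F := f) (G := g) (Iso.refl _) (Iso.refl _) (by
    change f.toFunctor.map (𝟙 _) ≫ (w.toFunctor.obj d).obj.iso.hom =
      (𝟙 _ ≫ (𝟙 _ ≫ (w.toFunctor.obj d).obj.iso.hom ≫ 𝟙 _) ≫ 𝟙 _) ≫ g.toFunctor.map (𝟙 _)
    simp)

/-- the factorisation -/
def factorIso (w : 𝒟 ⥤ᵇ FibCat.fp f g) :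
    BasedFunctor.comp (sect w) (prodMap (c₁ w) (c₂ w) f g) ≅ w :=
  BasedNatIso.mkNatIso (NatIso.ofComponents (factorApp w) (by
    intro d d' m
    apply hom_ext'
    · change (w.toFunctor.map m).hom.fst ≫ 𝟙 _ = 𝟙 _ ≫ (w.toFunctor.map m).hom.fst
      simp
    · change (w.toFunctor.map m).hom.snd ≫ 𝟙 _ = 𝟙 _ ≫ (w.toFunctor.map m).hom.snd
      simp)) (by
    intro d
    rw [isHomLift_iff_fst]
    change 𝒳.p.IsHomLift (𝟙 (𝒟.p.obj d)) (𝟙 ((c₁ w).toFunctor.obj d))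
    rw [← (c₁ w).w_obj d]
    infer_instance)

end Groth.Agent.Lib.Helper24.FibCatFpFactor
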