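import Groth.Agent.Lib.Helper24.FibCatFpGen
set_option autoImplicit false
set_option linter.unusedSectionVars false
open CategoryTheory
universe u v u₂ v₂ u₃ v₃ u₄ v₄

namespace Groth.Agent.Lib.Helper24.FibCatFpGen
open Groth.Agent.Lib.Helper24.FibGrpd

variable {C : Type u} [Category.{v} C]
variable {𝒳 : BasedCategory.{v₂, u₂} C} {𝒴 : BasedCategory.{v₃, u₃} C}
  {𝒮 : BasedCategory.{v₄, u₄} C} {F : 𝒳 ⥤ᵇ 𝒮} {G : 𝒴 ⥤ᵇ 𝒮}

/-- the first component lifts the image of the second component -/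
lemma fst_isHomLift_map_snd {x y : (FibCat.fp F G).obj} (φ : x ⟶ y) :
    𝒳.p.IsHomLift (𝒴.p.map φ.hom.snd) φ.hom.fst := by
  have h0 : 𝒴.p.IsHomLift ((FibCat.fp F G).p.map φ) φ.hom.snd := FibCat.fp_isHomLift_snd F G φ
  have h1 := IsHomLift.fac' 𝒴.p ((FibCat.fp F G).p.map φ) φ.hom.snd
  rw [h1]
  have : 𝒳.p.IsHomLift ((FibCat.fp F G).p.map φ) φ.hom.fst := isHomLift_fst _ φ
  infer_instance

end Groth.Agent.Lib.Helper24.FibCatFpGen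

namespace Groth.Agent.Lib.Helper24.FibCatFpGen
open Groth.Agent.Lib.Helper24.FibGrpd

variable {C : Type u} [Category.{v} C]
variable {𝒳 : BasedCategory.{v₂, u₂} C} {𝒴 : BasedCategory.{v₃, u₃} C}

section idcase
variable (F : 𝒳 ⥤ᵇ 𝒴)

/-- the structural morphism of an object of `𝒳 ×_𝒴 𝒴`, with a clean type -/
def isoHom (X : (FibCat.fp F (BasedFunctor.id 𝒴)).obj) : F.toFunctor.obj X.obj.fst ⟶ X.obj.snd :=
  X.obj.iso.hom

lemma isoHom_isHomLift (X : (FibCat.fp F (BasedFunctor.id 𝒴)).obj) :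
    𝒴.p.IsHomLift (𝟙 (𝒳.p.obj X.obj.fst)) (isoHom F X) :=
  iso_isHomLift F (BasedFunctor.id 𝒴) X

lemma hom_w_id {X Y : (FibCat.fp F (BasedFunctor.id 𝒴)).obj} (Φ : X ⟶ Y) :
    F.toFunctor.map Φ.hom.fst ≫ isoHom F Y = isoHom F X ≫ Φ.hom.snd :=
  hom_w Φ

/-- constructor of morphisms of `𝒳 ×_𝒴 𝒴` -/
def mkHomId {X Y : (FibCat.fp F (BasedFunctor.id 𝒴)).obj} (a : X.obj.fst ⟶ Y.obj.fst)
    (b : X.obj.snd ⟶ Y.obj.snd) (w : F.toFunctor.map a ≫ isoHom F Y = isoHom F X ≫ b) : X ⟶ Y :=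
  mkHom (F := F) (G := BasedFunctor.id 𝒴) a b w

/-- constructor of objects of `𝒳 ×_𝒴 𝒴` -/
def mkObjId (a : 𝒳.obj) (b : 𝒴.obj) (α : F.toFunctor.obj a ≅ b)
    (hα : 𝒴.p.IsHomLift (𝟙 (𝒳.p.obj a)) α.hom) : (FibCat.fp F (BasedFunctor.id 𝒴)).obj :=
  mkObj (F := F) (G := BasedFunctor.id 𝒴) a b
    (show F.toFunctor.obj a ≅ (BasedFunctor.id 𝒴).toFunctor.obj b from α) hα

lemma isoHom_mkObjId (a : 𝒳.obj) (b : 𝒴.obj) (α : F.toFunctor.obj a ≅ b)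
    (hα : 𝒴.p.IsHomLift (𝟙 (𝒳.p.obj a)) α.hom) : isoHom F (mkObjId F a b α hα) = α.hom := rfl

lemma snd_map {X Y : (FibCat.fp F (BasedFunctor.id 𝒴)).obj} (Φ : X ⟶ Y) :
    (FibCat.fpSnd F (BasedFunctor.id 𝒴)).toFunctor.map Φ = Φ.hom.snd := rfl

end idcase

theorem isFibGrpd_fpSnd_id (h𝒳 : FibCat.IsFibGrpd 𝒳.p) (h𝒴 : FibCat.IsFibGrpd 𝒴.p)
    (F : 𝒳 ⥤ᵇ 𝒴) : FibCat.IsFibGrpd (FibCat.fpSnd F (BasedFunctor.id 𝒴)).toFunctor := by
  constructor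
  · intro X V g
    obtain ⟨g', hg'⟩ : ∃ g' : V ⟶ X.obj.snd, g' = g := ⟨g, rfl⟩
    have hpe := p_eq F (BasedFunctor.id 𝒴) X
    obtain ⟨x', a, ha⟩ := h𝒳.exists_lift (x := X.obj.fst) (𝒴.p.map g' ≫ eqToHom hpe.symm)
    have ha' : 𝒳.p.IsHomLift (𝒴.p.map g') a := (IsHomLift.lift_comp_eqToHom_iff _ _ _ _).mp ha
    have hX := isoHom_isHomLift F X
    have hcomp : 𝒴.p.IsHomLift (𝒴.p.map g') (F.toFunctor.map a ≫ isoHom F X) :=
      IsHomLift.comp_lift_id_right' (p := 𝒴.p) (𝒴.p.map g') (F.toFunctor.map a)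
        (𝒳.p.obj X.obj.fst) (isoHom F X)
    have hsc : 𝒴.p.IsStronglyCartesian (𝒴.p.map g') g' := h𝒴.isStronglyCartesian g'
    obtain ⟨α, ⟨hαl, hα⟩, _⟩ :=
      Functor.IsStronglyCartesian.universal_property 𝒴.p (𝒴.p.map g') g' (𝟙 (𝒴.p.obj V))
        (𝒴.p.map g') (Category.id_comp _).symm (F.toFunctor.map a ≫ isoHom F X)
    have hαiso : IsIso α := isIso_of_isFibGrpd 𝒴.p h𝒴 (𝟙 (𝒴.p.obj V)) α
    have hV : 𝒳.p.obj x' = 𝒴.p.obj V := IsHomLift.domain_eq 𝒳.p (𝒴.p.map g') a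
    have hαl' : 𝒴.p.IsHomLift (𝟙 (𝒳.p.obj x')) (asIso α).hom := by
      rw [hV]; exact hαl
    let X' : (FibCat.fp F (BasedFunctor.id 𝒴)).obj := mkObjId F x' V (asIso α) hαl'
    have hw0 : F.toFunctor.map a ≫ isoHom F X = isoHom F X' ≫ g' := by
      show F.toFunctor.map a ≫ isoHom F X = isoHom F (mkObjId F x' V (asIso α) hαl') ≫ g'
      rw [isoHom_mkObjId]
      exact hα.symm
    let Φ : X' ⟶ X := mkHomId F (X := X') (Y := X) a g' hw0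
    refine ⟨X', Φ, ?_⟩
    subst hg'
    exact IsHomLift.map (p := (FibCat.fpSnd F (BasedFunctor.id 𝒴)).toFunctor) Φ
  · intro X' X Φ
    refine { toIsHomLift := inferInstance, universal_property' := ?_ }
    intro Z h Ψ hΨ
    have e0 := IsHomLift.eq_of_isHomLift (p := (FibCat.fpSnd F (BasedFunctor.id 𝒴)).toFunctor)
        (h ≫ (FibCat.fpSnd F (BasedFunctor.id 𝒴)).toFunctor.map Φ) Ψ
    obtain ⟨h', hh'⟩ : ∃ h' : Z.obj.snd ⟶ X'.obj.snd, h' = h := ⟨h, rfl⟩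
    have hΨsnd : h' ≫ Φ.hom.snd = Ψ.hom.snd := by
      subst hh'
      exact e0
    have hΦ1 := fst_isHomLift_map_snd Φ
    have hΨ1 := fst_isHomLift_map_snd Ψ
    have hΦs : 𝒳.p.IsStronglyCartesian (𝒴.p.map Φ.hom.snd) Φ.hom.fst :=
      scart_of_isFibGrpd 𝒳.p h𝒳 _ _
    have hΦs2 : 𝒴.p.IsStronglyCartesian (𝒴.p.map Φ.hom.snd) Φ.hom.snd :=
      h𝒴.isStronglyCartesian _
    obtain ⟨c, ⟨hcl, hc⟩, hcu⟩ :=
      Functor.IsStronglyCartesian.universal_property 𝒳.p (𝒴.p.map Φ.hom.snd) Φ.hom.fst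
        (𝒴.p.map h') (𝒴.p.map Ψ.hom.snd) (by rw [← hΨsnd, Functor.map_comp]) Ψ.hom.fst
    have hX' := isoHom_isHomLift F X'
    have hZ := isoHom_isHomLift F Z
    have hw : F.toFunctor.map c ≫ isoHom F X' = isoHom F Z ≫ h' := by
      have hA : 𝒴.p.IsHomLift (𝒴.p.map h') (F.toFunctor.map c ≫ isoHom F X') :=
        IsHomLift.comp_lift_id_right' (p := 𝒴.p) (𝒴.p.map h') (F.toFunctor.map c)
          (𝒳.p.obj X'.obj.fst) (isoHom F X')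
      have hB : 𝒴.p.IsHomLift (𝒴.p.map h') (isoHom F Z ≫ h') :=
        IsHomLift.comp_lift_id_left' (p := 𝒴.p) (𝒳.p.obj Z.obj.fst) (isoHom F Z) (𝒴.p.map h') h'
      apply Functor.IsStronglyCartesian.ext 𝒴.p (𝒴.p.map Φ.hom.snd) Φ.hom.snd (𝒴.p.map h')
      have w1 := hom_w_id F Φ
      have w2 := hom_w_id F Ψ
      rw [Category.assoc, Category.assoc, ← w1, ← Category.assoc, ← Functor.map_comp, hc, w2,
        hΨsnd]
    let Χ : Z ⟶ X' := mkHomId F c h' hw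
    refine ⟨Χ, ⟨?_, ?_⟩, ?_⟩
    · subst hh'
      exact IsHomLift.map (p := (FibCat.fpSnd F (BasedFunctor.id 𝒴)).toFunctor) Χ
    · apply hom_ext'
      · exact hc
      · exact hΨsnd
    · rintro Χ' ⟨hΧ'l, hΧ'⟩
      have e1 := IsHomLift.eq_of_isHomLift (p := (FibCat.fpSnd F (BasedFunctor.id 𝒴)).toFunctor)
          h Χ'
      have h1 : Χ'.hom.snd = h' := by
        subst hh'
        exact e1.symm
      have h2 := fst_isHomLift_map_snd Χ'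
      rw [h1] at h2
      apply hom_ext'
      · exact hcu Χ'.hom.fst ⟨h2, congrArg (fun t => t.hom.fst) hΧ'⟩
      · exact h1

end Groth.Agent.Lib.Helper24.FibCatFpGen
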