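import Groth.Agent.Lib.Helper24.FibCatFaithful
set_option autoImplicit false
open CategoryTheory
universe u v u₂ v₂ u₃ v₃
set_option backward.isDefEq.respectTransparency false
set_option backward.isDefEq.respectTransparency.types false

/-! Fullness of a functor over the base between categories fibred in groupoids can be checked on
its base changes to slices. -/

namespace Groth.Agent.Lib.Helper24.FibCatFull
open Groth.Agent.Lib.Helper24.FibGrpd Groth.Agent.Lib.Helper24.FibCatFpGen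
open Groth.Agent.Lib.Helper24.FibSetoid Groth.Agent.Lib.Helper24.FibCatYoneda

variable {C : Type u} [Category.{v} C]
variable {𝒳 : BasedCategory.{v₂, u₂} C} {𝒴 : BasedCategory.{v₃, u₃} C}

theorem full_of_fpFst_full (f : 𝒳 ⥤ᵇ 𝒴) (h𝒴 : FibCat.IsFibGrpd 𝒴.p)
    (h : ∀ (U : C) (G : FibCat.overCat U ⥤ᵇ 𝒴), (FibCat.fpFst G f).toFunctor.Full) :
    f.toFunctor.Full := by
  constructor
  intro x x' ψ
  have : 𝒴.p.IsFibered := isFibered_of_isFibGrpd 𝒴.p h𝒴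
  have hx' : 𝒴.p.obj (f.toFunctor.obj x') = 𝒳.p.obj x' := f.w_obj x'
  have hx : 𝒴.p.obj (f.toFunctor.obj x) = 𝒳.p.obj x := f.w_obj x
  let G := pbBased hx'
  let g' : 𝒳.p.obj x ⟶ 𝒳.p.obj x' := eqToHom hx.symm ≫ 𝒴.p.map ψ ≫ eqToHom hx'
  have hψ : 𝒴.p.IsHomLift g' ψ := by
    apply IsHomLift.of_fac _ _ _ hx hx'
    simp [g']
  let a : Over (𝒳.p.obj x') := Over.mk g'
  have hsc : 𝒴.p.IsStronglyCartesian g' (pbMap hx' a) := pbMap_isStronglyCartesian hx' a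
  let θinv : f.toFunctor.obj x ⟶ pbObj hx' a :=
    Functor.IsStronglyCartesian.map 𝒴.p g' (pbMap hx' a) (f' := g') (g := 𝟙 _)
      (Category.id_comp _).symm ψ
  have hθl : 𝒴.p.IsHomLift (𝟙 (𝒳.p.obj x)) θinv := by
    dsimp only [θinv]; infer_instance
  have hθfac : θinv ≫ pbMap hx' a = ψ :=
    Functor.IsStronglyCartesian.fac 𝒴.p g' (pbMap hx' a) (Category.id_comp _).symm ψ
  have hθiso : IsIso θinv := isIso_of_isFibGrpd 𝒴.p h𝒴 (𝟙 (𝒳.p.obj x)) θinv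
  let θ : G.toFunctor.obj a ≅ f.toFunctor.obj x := (asIso θinv).symm
  have hθ : 𝒴.p.IsHomLift (𝟙 ((FibCat.overCat (𝒳.p.obj x')).p.obj a)) θ.hom := by
    have : 𝒴.p.IsHomLift (𝟙 (𝒳.p.obj x)) (asIso θinv).hom := hθl
    exact IsHomLift.lift_id_inv (p := 𝒴.p) (𝒳.p.obj x) (asIso θinv)
  let z : (FibCat.fp G f).obj := mkObj (F := G) (G := f) a x θ hθ
  have hiso : IsIso (pbMap hx' (Over.mk (𝟙 (𝒳.p.obj x')))) := pbMap_id_isIso hx'
  let ι : G.toFunctor.obj (Over.mk (𝟙 (𝒳.p.obj x'))) ≅ f.toFunctor.obj x' :=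
    asIso (pbMap hx' (Over.mk (𝟙 (𝒳.p.obj x'))))
  have hι : 𝒴.p.IsHomLift (𝟙 ((FibCat.overCat (𝒳.p.obj x')).p.obj (Over.mk (𝟙 (𝒳.p.obj x'))))) ι.hom :=
    pbMap_id_lift hx'
  let z' : (FibCat.fp G f).obj := mkObj (F := G) (G := f) (Over.mk (𝟙 (𝒳.p.obj x'))) x' ι hι
  have := h _ G
  obtain ⟨m, hm⟩ := (FibCat.fpFst G f).toFunctor.map_surjective (X := z) (Y := z') (tOf a)
  refine ⟨m.hom.snd, ?_⟩
  have hw := hom_w m
  have hm' : m.hom.fst = tOf a := hm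
  rw [hm'] at hw
  change pbTrans hx' (tOf a) ≫ pbMap hx' (Over.mk (𝟙 (𝒳.p.obj x'))) =
    inv θinv ≫ f.toFunctor.map m.hom.snd at hw
  rw [pbTrans_fac] at hw
  have : θinv ≫ pbMap hx' a = θinv ≫ inv θinv ≫ f.toFunctor.map m.hom.snd := by rw [hw]
  rw [IsIso.hom_inv_id_assoc, hθfac] at this
  exact this.symm

end Groth.Agent.Lib.Helper24.FibCatFull
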