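import Groth.Agent.Lib.Helper24.FibCatFpMap
import Groth.Agent.Lib.Helper24.FibCatEquiv3
import Groth.Agent.Lib.Helper24.FibCatFp
import Groth.Agent.Lib.Helper24.FibCatDiag

set_option autoImplicit false
open CategoryTheory CategoryTheory.Limits
universe v u w₅ v₅
open FibCat

/-! The product map `f₁ × f₂ : 𝒳₁ × 𝒳₂ ⟶ 𝒴₁ × 𝒴₂`: its base change along any `G : 𝒢 ⟶ 𝒴₁ × 𝒴₂` is
the iterated base change `(𝒢 ×_{𝒴₁} 𝒳₁) ×_{𝒴₂} 𝒳₂` (generalizes the construction in S12790 to an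
arbitrary source `𝒢`). -/

namespace Groth.Agent.Lib.Helper24.FibCatProdMap

open CategoryTheory CategoryTheory.Limits
open FibCat
open Groth.Agent.Lib.Helper24

set_option backward.isDefEq.respectTransparency false
set_option backward.isDefEq.respectTransparency.types false

noncomputable section

variable {C : Type u} [Category.{v} C] {𝒳₁ 𝒳₂ 𝒴₁ 𝒴₂ : BasedCategory.{v, max u v} C}
  (f₁ : 𝒳₁ ⥤ᵇ 𝒴₁) (f₂ : 𝒳₂ ⥤ᵇ 𝒴₂)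
  (e : BasedFunctor.comp (BasedFunctor.comp (FibCat.fpFst (FibCat.toSelf 𝒳₁) (FibCat.toSelf 𝒳₂)) f₁) (FibCat.toSelf 𝒴₁) ≅ BasedFunctor.comp (BasedFunctor.comp (FibCat.fpSnd (FibCat.toSelf 𝒳₁) (FibCat.toSelf 𝒳₂)) f₂) (FibCat.toSelf 𝒴₂))
  {𝒢 : BasedCategory.{v₅, w₅} C} (G : 𝒢 ⥤ᵇ FibCatFp.P 𝒴₁ 𝒴₂)

abbrev FF : FibCatFp.P 𝒳₁ 𝒳₂ ⥤ᵇ FibCatFp.P 𝒴₁ 𝒴₂ :=
  FibCat.fpLift (BasedFunctor.comp (FibCat.fpFst (FibCat.toSelf 𝒳₁) (FibCat.toSelf 𝒳₂)) f₁) (BasedFunctor.comp (FibCat.fpSnd (FibCat.toSelf 𝒳₁) (FibCat.toSelf 𝒳₂)) f₂) e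

abbrev G₁ : 𝒢 ⥤ᵇ 𝒴₁ := BasedFunctor.comp G (FibCat.fpFst (FibCat.toSelf 𝒴₁) (FibCat.toSelf 𝒴₂))
abbrev G₂ : 𝒢 ⥤ᵇ 𝒴₂ := BasedFunctor.comp G (FibCat.fpSnd (FibCat.toSelf 𝒴₁) (FibCat.toSelf 𝒴₂))

abbrev W := FibCat.fp (G₁ G) f₁
abbrev aW : W f₁ G ⥤ᵇ 𝒢 := FibCat.fpFst (G₁ G) f₁
abbrev R' := FibCat.fp (BasedFunctor.comp (aW f₁ G) (G₂ G)) f₂
abbrev L := FibCat.fp G (FF f₁ f₂ e)

section obj
variable (l : (L f₁ f₂ e G).obj)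

def iso₁ : (G₁ G).toFunctor.obj l.obj.fst ≅ f₁.toFunctor.obj l.obj.snd.obj.fst :=
  (FibCat.fpFst (FibCat.toSelf 𝒴₁) (FibCat.toSelf 𝒴₂)).toFunctor.mapIso l.obj.iso

def iso₂ : (G₂ G).toFunctor.obj l.obj.fst ≅ f₂.toFunctor.obj l.obj.snd.obj.snd :=
  (FibCat.fpSnd (FibCat.toSelf 𝒴₁) (FibCat.toSelf 𝒴₂)).toFunctor.mapIso l.obj.iso

lemma iso₁_hom : (iso₁ f₁ f₂ e G l).hom = l.obj.iso.hom.hom.fst := rfl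
lemma iso₂_hom : (iso₂ f₁ f₂ e G l).hom = l.obj.iso.hom.hom.snd := rfl

lemma l_lift : (FibCatFp.P 𝒴₁ 𝒴₂).p.IsHomLift (𝟙 (𝒢.p.obj l.obj.fst)) l.obj.iso.hom :=
  FibCatFpGen.iso_isHomLift G (FF f₁ f₂ e) l

lemma iso₁_lift : 𝒴₁.p.IsHomLift (𝟙 (𝒢.p.obj l.obj.fst)) (iso₁ f₁ f₂ e G l).hom := by
  have := l_lift f₁ f₂ e G l
  exact FibCatFp.isHomLift_fst _ l.obj.iso.hom

lemma iso₂_lift : 𝒴₂.p.IsHomLift (𝟙 (𝒢.p.obj l.obj.fst)) (iso₂ f₁ f₂ e G l).hom := by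
  have := l_lift f₁ f₂ e G l
  exact FibCatFp.isHomLift_snd _ l.obj.iso.hom

def wOf : (W f₁ G).obj :=
  FibCatFpGen.mkObj (F := G₁ G) (G := f₁) l.obj.fst l.obj.snd.obj.fst (iso₁ f₁ f₂ e G l)
    (iso₁_lift f₁ f₂ e G l)

def ΨObj : (R' f₁ f₂ G).obj :=
  FibCatFpGen.mkObj (F := BasedFunctor.comp (aW f₁ G) (G₂ G)) (G := f₂) (wOf f₁ f₂ e G l)
    l.obj.snd.obj.snd (iso₂ f₁ f₂ e G l) (iso₂_lift f₁ f₂ e G l)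

end obj


section mor
variable {l l' : (L f₁ f₂ e G).obj} (m : l ⟶ l')

lemma w₁ : (G₁ G).toFunctor.map m.hom.fst ≫ (iso₁ f₁ f₂ e G l').hom =
    (iso₁ f₁ f₂ e G l).hom ≫ f₁.toFunctor.map m.hom.snd.hom.fst :=
  congrArg (fun t : G.toFunctor.obj l.obj.fst ⟶ (FF f₁ f₂ e).toFunctor.obj l'.obj.snd => t.hom.fst) (FibCatFpGen.hom_w m)

lemma w₂ : (G₂ G).toFunctor.map m.hom.fst ≫ (iso₂ f₁ f₂ e G l').hom =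
    (iso₂ f₁ f₂ e G l).hom ≫ f₂.toFunctor.map m.hom.snd.hom.snd :=
  congrArg (fun t : G.toFunctor.obj l.obj.fst ⟶ (FF f₁ f₂ e).toFunctor.obj l'.obj.snd => t.hom.snd) (FibCatFpGen.hom_w m)

def wMap : wOf f₁ f₂ e G l ⟶ wOf f₁ f₂ e G l' :=
  FibCatFpGen.mkHom (F := G₁ G) (G := f₁) m.hom.fst m.hom.snd.hom.fst (w₁ f₁ f₂ e G m)

def ΨMap : ΨObj f₁ f₂ e G l ⟶ ΨObj f₁ f₂ e G l' :=
  FibCatFpGen.mkHom (F := BasedFunctor.comp (aW f₁ G) (G₂ G)) (G := f₂) (wMap f₁ f₂ e G m)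
    m.hom.snd.hom.snd (w₂ f₁ f₂ e G m)

end mor

def Ψ : L f₁ f₂ e G ⥤ᵇ R' f₁ f₂ G where
  toFunctor :=
    { obj := ΨObj f₁ f₂ e G
      map := fun m => ΨMap f₁ f₂ e G m
      map_id := fun l => by
        apply FibCatFpGen.hom_ext'
        · apply FibCatFpGen.hom_ext' <;> rfl
        · rfl
      map_comp := fun m n => by
        apply FibCatFpGen.hom_ext'
        · apply FibCatFpGen.hom_ext' <;> rfl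
        · rfl }
  w := rfl


lemma Ψ_map_fst_fst {l l' : (L f₁ f₂ e G).obj} (m : l ⟶ l') :
    ((Ψ f₁ f₂ e G).toFunctor.map m).hom.fst.hom.fst = m.hom.fst := rfl
lemma Ψ_map_fst_snd {l l' : (L f₁ f₂ e G).obj} (m : l ⟶ l') :
    ((Ψ f₁ f₂ e G).toFunctor.map m).hom.fst.hom.snd = m.hom.snd.hom.fst := rfl
lemma Ψ_map_snd {l l' : (L f₁ f₂ e G).obj} (m : l ⟶ l') :
    ((Ψ f₁ f₂ e G).toFunctor.map m).hom.snd = m.hom.snd.hom.snd := rfl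

instance : (Ψ f₁ f₂ e G).toFunctor.Faithful := by
  constructor
  intro l l' m m' h
  apply FibCatFpGen.hom_ext'
  · have := congrArg (fun t => t.hom.fst.hom.fst) h
    exact this
  · apply FibCatFp.hom_ext'
    · exact congrArg (fun t => t.hom.fst.hom.snd) h
    · exact congrArg (fun t => t.hom.snd) h


section full
variable {l l' : (L f₁ f₂ e G).obj} (n : (Ψ f₁ f₂ e G).toFunctor.obj l ⟶ (Ψ f₁ f₂ e G).toFunctor.obj l')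

def nA : l.obj.fst ⟶ l'.obj.fst := n.hom.fst.hom.fst
def nX₁ : l.obj.snd.obj.fst ⟶ l'.obj.snd.obj.fst := n.hom.fst.hom.snd
def nX₂ : l.obj.snd.obj.snd ⟶ l'.obj.snd.obj.snd := n.hom.snd

lemma nX₁_lift : 𝒳₁.p.IsHomLift (𝒢.p.map (nA f₁ f₂ e G n)) (nX₁ f₁ f₂ e G n) :=
  FibCat.fp_isHomLift_snd (G₁ G) f₁ n.hom.fst

lemma nX₂_lift : 𝒳₂.p.IsHomLift (𝒢.p.map (nA f₁ f₂ e G n)) (nX₂ f₁ f₂ e G n) :=
  FibCat.fp_isHomLift_snd (BasedFunctor.comp (aW f₁ G) (G₂ G)) f₂ n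

def nP : l.obj.snd ⟶ l'.obj.snd :=
  have := nX₁_lift f₁ f₂ e G n
  have := nX₂_lift f₁ f₂ e G n
  FibCatFp.mkHom (𝒢.p.map (nA f₁ f₂ e G n)) (nX₁ f₁ f₂ e G n) (nX₂ f₁ f₂ e G n)

lemma nP_fst : (nP f₁ f₂ e G n).hom.fst = nX₁ f₁ f₂ e G n := rfl
lemma nP_snd : (nP f₁ f₂ e G n).hom.snd = nX₂ f₁ f₂ e G n := rfl

def preim : l ⟶ l' :=
  FibCatFpGen.mkHom (nA f₁ f₂ e G n) (nP f₁ f₂ e G n) (by
    apply FibCatFp.hom_ext'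
    · exact FibCatFpGen.hom_w n.hom.fst
    · exact FibCatFpGen.hom_w n)

end full

instance : (Ψ f₁ f₂ e G).toFunctor.Full := by
  constructor
  intro l l' n
  refine ⟨preim f₁ f₂ e G n, ?_⟩
  apply FibCatFpGen.hom_ext'
  · apply FibCatFpGen.hom_ext' <;> rfl
  · rfl


/-- isomorphisms of `𝒳 ×_C 𝒴` from isomorphisms of components over an identity -/
def mkIsoP {𝒜 ℬ : BasedCategory.{v, max u v} C} {x y : (FibCatFp.P 𝒜 ℬ).obj} (R : C)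
    (a : x.obj.fst ≅ y.obj.fst) (b : x.obj.snd ≅ y.obj.snd)
    (ha : 𝒜.p.IsHomLift (𝟙 R) a.hom) (hb : ℬ.p.IsHomLift (𝟙 R) b.hom) : x ≅ y where
  hom := FibCatFp.mkHom (𝟙 R) a.hom b.hom
  inv :=
    have : 𝒜.p.IsHomLift (𝟙 R) a.inv := IsHomLift.lift_id_inv (p := 𝒜.p) R a
    have : ℬ.p.IsHomLift (𝟙 R) b.inv := IsHomLift.lift_id_inv (p := ℬ.p) R b
    FibCatFp.mkHom (𝟙 R) a.inv b.inv
  hom_inv_id := by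
    apply FibCatFp.hom_ext'
    · exact a.hom_inv_id
    · exact b.hom_inv_id
  inv_hom_id := by
    apply FibCatFp.hom_ext'
    · exact a.inv_hom_id
    · exact b.inv_hom_id

section lift
variable (r : (R' f₁ f₂ G).obj)

def rc : 𝒢.obj := r.obj.fst.obj.fst
def rx₁ : 𝒳₁.obj := r.obj.fst.obj.snd
def rx₂ : 𝒳₂.obj := r.obj.snd
def ri₁ : (G₁ G).toFunctor.obj (rc f₁ f₂ G r) ≅ f₁.toFunctor.obj (rx₁ f₁ f₂ G r) := r.obj.fst.obj.iso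
def ri₂ : (G₂ G).toFunctor.obj (rc f₁ f₂ G r) ≅ f₂.toFunctor.obj (rx₂ f₁ f₂ G r) := r.obj.iso

lemma ri₁_lift : 𝒴₁.p.IsHomLift (𝟙 (𝒢.p.obj (rc f₁ f₂ G r))) (ri₁ f₁ f₂ G r).hom :=
  FibCatFpGen.iso_isHomLift (G₁ G) f₁ r.obj.fst

lemma ri₂_lift : 𝒴₂.p.IsHomLift (𝟙 (𝒢.p.obj (rc f₁ f₂ G r))) (ri₂ f₁ f₂ G r).hom :=
  FibCatFpGen.iso_isHomLift (BasedFunctor.comp (aW f₁ G) (G₂ G)) f₂ r

lemma rh₁ : (𝒢.p.obj (rc f₁ f₂ G r)) = 𝒳₁.p.obj (rx₁ f₁ f₂ G r) := FibCatFpGen.p_eq (G₁ G) f₁ r.obj.fst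
lemma rh₂ : (𝒢.p.obj (rc f₁ f₂ G r)) = 𝒳₂.p.obj (rx₂ f₁ f₂ G r) :=
  FibCatFpGen.p_eq (BasedFunctor.comp (aW f₁ G) (G₂ G)) f₂ r

def rp : (FibCatFp.P 𝒳₁ 𝒳₂).obj :=
  FibCatFp.mkObj (rx₁ f₁ f₂ G r) (rx₂ f₁ f₂ G r) ((rh₁ f₁ f₂ G r).symm.trans (rh₂ f₁ f₂ G r))

def rIso : G.toFunctor.obj (rc f₁ f₂ G r) ≅ (FF f₁ f₂ e).toFunctor.obj (rp f₁ f₂ G r) :=
  mkIsoP (𝒢.p.obj (rc f₁ f₂ G r)) (ri₁ f₁ f₂ G r) (ri₂ f₁ f₂ G r) (ri₁_lift f₁ f₂ G r) (ri₂_lift f₁ f₂ G r)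

lemma rIso_lift : (FibCatFp.P 𝒴₁ 𝒴₂).p.IsHomLift (𝟙 (𝒢.p.obj (rc f₁ f₂ G r))) (rIso f₁ f₂ e G r).hom := by
  rw [FibCatFp.isHomLift_iff_fst]
  exact ri₁_lift f₁ f₂ G r

def ξOf : (L f₁ f₂ e G).obj :=
  FibCatFpGen.mkObj (F := G) (G := FF f₁ f₂ e) (rc f₁ f₂ G r) (rp f₁ f₂ G r) (rIso f₁ f₂ e G r)
    (rIso_lift f₁ f₂ e G r)

def eW : ((Ψ f₁ f₂ e G).toFunctor.obj (ξOf f₁ f₂ e G r)).obj.fst ≅ r.obj.fst :=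
  FibCatDiag.mkIso (Iso.refl _) (Iso.refl _) (by
    change (G₁ G).toFunctor.map (𝟙 _) ≫ (ri₁ f₁ f₂ G r).hom = (ri₁ f₁ f₂ G r).hom ≫ f₁.toFunctor.map (𝟙 _)
    simp)

def eOf : (Ψ f₁ f₂ e G).toFunctor.obj (ξOf f₁ f₂ e G r) ≅ r :=
  FibCatDiag.mkIso (eW f₁ f₂ e G r) (Iso.refl _) (by
    change (G₂ G).toFunctor.map (𝟙 _) ≫ (ri₂ f₁ f₂ G r).hom = (ri₂ f₁ f₂ G r).hom ≫ f₂.toFunctor.map (𝟙 _)
    simp)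

lemma eOf_lift : (R' f₁ f₂ G).p.IsHomLift (𝟙 ((R' f₁ f₂ G).p.obj r)) (eOf f₁ f₂ e G r).hom := by
  rw [FibCatFpGen.isHomLift_iff_fst, FibCatFpGen.isHomLift_iff_fst]
  exact IsHomLift.id (p := 𝒢.p) rfl

end lift

def liftDataΨ : FibCatEquiv.LiftData (Ψ f₁ f₂ e G) where
  ξ := ξOf f₁ f₂ e G
  e := eOf f₁ f₂ e G
  he := eOf_lift f₁ f₂ e G

theorem isEquivOver_Ψ : FibCat.IsEquivOver (Ψ f₁ f₂ e G) :=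
  FibCatEquiv.isEquivOver_of_liftData (liftDataΨ f₁ f₂ e G)

/-- compatibility of `Ψ` with the projections to `𝒢` -/
def ΨIso : BasedFunctor.comp (Ψ f₁ f₂ e G)
    (BasedFunctor.comp (FibCat.fpFst (BasedFunctor.comp (aW f₁ G) (G₂ G)) f₂) (aW f₁ G)) ≅
    FibCat.fpFst G (FF f₁ f₂ e) := Iso.refl _

end

end Groth.Agent.Lib.Helper24.FibCatProdMap
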