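import Groth.Prelude.Def_FibCat2
import Groth.Prelude.Def_W4stkcategoriessitesFib
import Mathlib.CategoryTheory.Adjunction.Basic
set_option autoImplicit false
open CategoryTheory CategoryTheory.Functor
universe v u

/-! Factorisation of a cartesian functor `F : 𝒳 ⟶ 𝒴` of fibred categories as
`𝒳 ⟶ 𝒳' ⟶ 𝒴` with `𝒳' = {(x, y, α : y ⟶ F x over an identity)}`. -/

namespace Groth.Agent.Lib.Helper24.FibFactor

section General
variable {𝒮 : Type*} {𝒵 : Type*} [Category 𝒮] [Category 𝒵] (p : 𝒵 ⥤ 𝒮)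

lemma isHomLift_of_id_comp {a b c : 𝒵} (φ : a ⟶ b) (ψ : b ⟶ c) {R S : 𝒮} (f : R ⟶ S)
    [h1 : p.IsHomLift (𝟙 R) φ] [h2 : p.IsHomLift f (φ ≫ ψ)] : p.IsHomLift f ψ := by
  have hb : p.obj b = R := IsHomLift.codomain_eq p (𝟙 R) φ
  have hc : p.obj c = S := IsHomLift.codomain_eq p f (φ ≫ ψ)
  apply IsHomLift.of_fac' p f ψ hb hc
  have e1 := IsHomLift.fac' p (𝟙 R) φ
  have e2 := IsHomLift.fac' p f (φ ≫ ψ)
  rw [p.map_comp, e1] at e2
  simp only [Category.id_comp, eqToHom_trans] at e2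
  have hab : p.obj a = p.obj b := (IsHomLift.domain_eq p (𝟙 R) φ).trans hb.symm
  have := congrArg (eqToHom hab.symm ≫ ·) e2
  simpa using this

lemma isHomLift_of_comp_id {a b c : 𝒵} (φ : a ⟶ b) (ψ : b ⟶ c) {R S : 𝒮} (f : R ⟶ S)
    [h1 : p.IsHomLift (𝟙 S) ψ] [h2 : p.IsHomLift f (φ ≫ ψ)] : p.IsHomLift f φ := by
  have hb : p.obj b = S := IsHomLift.domain_eq p (𝟙 S) ψ
  have ha : p.obj a = R := IsHomLift.domain_eq p f (φ ≫ ψ)
  apply IsHomLift.of_fac' p f φ ha hb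
  have e1 := IsHomLift.fac' p (𝟙 S) ψ
  have e2 := IsHomLift.fac' p f (φ ≫ ψ)
  rw [p.map_comp, e1] at e2
  simp only [Category.id_comp, eqToHom_trans] at e2
  have hbc : p.obj b = p.obj c := hb.trans (IsHomLift.codomain_eq p (𝟙 S) ψ).symm
  have := congrArg (· ≫ eqToHom hbc.symm) e2
  simpa using this

lemma isStronglyCartesian_of_eq {a b : 𝒵} {R S : 𝒮} {f f' : R ⟶ S} (h : f = f') (φ : a ⟶ b)
    [p.IsStronglyCartesian f φ] : p.IsStronglyCartesian f' φ := by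
  subst h; infer_instance

end General

section Construction
variable {C : Type u} [Category.{v} C] {𝒳 𝒴 : BasedCategory.{v, max u v} C} (F : 𝒳 ⥤ᵇ 𝒴)

/-- objects `(x, y, α : y ⟶ F x)` with `α` over an identity -/
structure Obj where
  x : 𝒳.obj
  y : 𝒴.obj
  α : y ⟶ F.obj x
  hα : 𝒴.p.IsHomLift (𝟙 (𝒴.p.obj y)) α

variable {F}

@[ext]
structure Hom (X Y : Obj F) where
  a : X.x ⟶ Y.x
  b : X.y ⟶ Y.y
  w : X.α ≫ F.map a = b ≫ Y.α

attribute [reassoc] Hom.w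

instance : Category (Obj F) where
  Hom := Hom
  id X := ⟨𝟙 _, 𝟙 _, by simp⟩
  comp f g := ⟨f.a ≫ g.a, f.b ≫ g.b, by
    rw [F.map_comp, f.w_assoc, g.w, Category.assoc]⟩

@[simp] lemma id_a (X : Obj F) : (𝟙 X : X ⟶ X).a = 𝟙 _ := rfl
@[simp] lemma id_b (X : Obj F) : (𝟙 X : X ⟶ X).b = 𝟙 _ := rfl
@[simp, reassoc] lemma comp_a {X Y Z : Obj F} (f : X ⟶ Y) (g : Y ⟶ Z) : (f ≫ g).a = f.a ≫ g.a := rfl
@[simp, reassoc] lemma comp_b {X Y Z : Obj F} (f : X ⟶ Y) (g : Y ⟶ Z) : (f ≫ g).b = f.b ≫ g.b := rfl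

@[ext]
lemma hom_ext {X Y : Obj F} {f g : X ⟶ Y} (ha : f.a = g.a) (hb : f.b = g.b) : f = g :=
  Hom.ext ha hb

variable (F)

/-- the functor `(x,y,α) ↦ y` -/
@[simps]
def vFun : Obj F ⥤ 𝒴.obj where
  obj X := X.y
  map f := f.b

/-- the functor `(x,y,α) ↦ x` -/
@[simps]
def wFun : Obj F ⥤ 𝒳.obj where
  obj X := X.x
  map f := f.a

/-- the functor `x ↦ (x, F x, 𝟙)` -/
@[simps]
def uFun : 𝒳.obj ⥤ Obj F where
  obj x := ⟨x, F.obj x, 𝟙 _, by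
    have := F.w_obj x
    exact IsHomLift.id rfl⟩
  map f := ⟨f, F.map f, by simp⟩

/-- the factorising category over `C` -/
abbrev 𝒳' : BasedCategory.{v, max u v} C where
  obj := Obj F
  p := vFun F ⋙ 𝒴.p

variable {F}

lemma px_eq (X : Obj F) : 𝒳.p.obj X.x = 𝒴.p.obj X.y := by
  have := X.hα
  rw [← F.w_obj]
  exact IsHomLift.codomain_eq 𝒴.p (𝟙 (𝒴.p.obj X.y)) X.α

lemma isHomLift_iff_b {X Y : Obj F} (φ : X ⟶ Y) {R S : C} (f : R ⟶ S) :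
    (𝒳' F).p.IsHomLift f φ ↔ 𝒴.p.IsHomLift f φ.b := by
  constructor
  · intro h
    have e1 := IsHomLift.domain_eq (𝒳' F).p f φ
    have e2 := IsHomLift.codomain_eq (𝒳' F).p f φ
    have e3 := IsHomLift.fac (𝒳' F).p f φ
    exact IsHomLift.of_fac 𝒴.p f φ.b e1 e2 e3
  · intro h
    have e1 := IsHomLift.domain_eq 𝒴.p f φ.b
    have e2 := IsHomLift.codomain_eq 𝒴.p f φ.b
    have e3 := IsHomLift.fac 𝒴.p f φ.b
    exact IsHomLift.of_fac (𝒳' F).p f φ e1 e2 e3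

lemma isHomLift_a_of_b {X Y : Obj F} (φ : X ⟶ Y) {R S : C} (f : R ⟶ S)
    [h : 𝒴.p.IsHomLift f φ.b] : 𝒳.p.IsHomLift f φ.a := by
  rw [← BasedFunctor.isHomLift_iff F]
  have hR : 𝒴.p.obj X.y = R := IsHomLift.domain_eq 𝒴.p f φ.b
  have hS : 𝒴.p.obj Y.y = S := IsHomLift.codomain_eq 𝒴.p f φ.b
  have h1 : 𝒴.p.IsHomLift (𝟙 R) X.α := by
    have := X.hα
    rw [← hR]; exact this
  have h2 : 𝒴.p.IsHomLift (𝟙 S) Y.α := by
    have := Y.hα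
    rw [← hS]; exact this
  have h3 : 𝒴.p.IsHomLift f (X.α ≫ F.map φ.a) := by
    rw [φ.w]; infer_instance
  exact isHomLift_of_id_comp 𝒴.p X.α (F.map φ.a) f

instance isHomLift_a {X Y : Obj F} (φ : X ⟶ Y) {R S : C} (f : R ⟶ S)
    [h : (𝒳' F).p.IsHomLift f φ] : 𝒳.p.IsHomLift f φ.a := by
  have := (isHomLift_iff_b φ f).1 h
  exact isHomLift_a_of_b φ f

instance isHomLift_b {X Y : Obj F} (φ : X ⟶ Y) {R S : C} (f : R ⟶ S)
    [h : (𝒳' F).p.IsHomLift f φ] : 𝒴.p.IsHomLift f φ.b :=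
  (isHomLift_iff_b φ f).1 h

lemma sc_of_components (hF : FibCat.PreservesStronglyCartesian F) {X₁ X : Obj F} (φ : X₁ ⟶ X)
    {V U : C} (f : V ⟶ U)
    [ha : 𝒳.p.IsStronglyCartesian f φ.a] [hb : 𝒴.p.IsStronglyCartesian f φ.b] :
    (𝒳' F).p.IsStronglyCartesian f φ := by
  have h0 : (𝒳' F).p.IsHomLift f φ := (isHomLift_iff_b φ f).2 hb.toIsHomLift
  have hFa : 𝒴.p.IsStronglyCartesian f (F.map φ.a) := hF f φ.a ha
  have hV : 𝒴.p.obj X₁.y = V := IsHomLift.domain_eq 𝒴.p f φ.b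
  have hα₁ : 𝒴.p.IsHomLift (𝟙 V) X₁.α := by
    have := X₁.hα
    rw [← hV]; exact this
  refine { toIsHomLift := h0, universal_property' := ?_ }
  intro X'' g φ' hφ'
  change 𝒴.p.obj X''.y ⟶ V at g
  have hφ'' : (𝒳' F).p.IsHomLift (g ≫ f) φ' := hφ'
  have h1 : 𝒴.p.IsHomLift (g ≫ f) φ'.b := isHomLift_b φ' (g ≫ f)
  have h2 : 𝒳.p.IsHomLift (g ≫ f) φ'.a := isHomLift_a φ' (g ≫ f)
  let a₁ := IsStronglyCartesian.map 𝒳.p f φ.a (rfl : g ≫ f = g ≫ f) φ'.a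
  let b₁ := IsStronglyCartesian.map 𝒴.p f φ.b (rfl : g ≫ f = g ≫ f) φ'.b
  have ha₁ : a₁ ≫ φ.a = φ'.a := IsStronglyCartesian.fac 𝒳.p f φ.a rfl φ'.a
  have hb₁ : b₁ ≫ φ.b = φ'.b := IsStronglyCartesian.fac 𝒴.p f φ.b rfl φ'.b
  have la₁ : 𝒳.p.IsHomLift g a₁ := IsStronglyCartesian.map_isHomLift 𝒳.p f φ.a rfl φ'.a
  have lb₁ : 𝒴.p.IsHomLift g b₁ := IsStronglyCartesian.map_isHomLift 𝒴.p f φ.b rfl φ'.b
  have lFa₁ : 𝒴.p.IsHomLift g (F.map a₁) := inferInstance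
  have hα'' : 𝒴.p.IsHomLift (𝟙 (𝒴.p.obj X''.y)) X''.α := X''.hα
  have l1 : 𝒴.p.IsHomLift g (X''.α ≫ F.map a₁) := inferInstance
  have l2 : 𝒴.p.IsHomLift g (b₁ ≫ X₁.α) := inferInstance
  have hw : X''.α ≫ F.map a₁ = b₁ ≫ X₁.α := by
    apply IsStronglyCartesian.ext 𝒴.p f (F.map φ.a) g
    rw [Category.assoc, ← F.map_comp, ha₁, φ'.w, Category.assoc, φ.w, ← Category.assoc, hb₁]
  refine ⟨⟨a₁, b₁, hw⟩, ⟨(isHomLift_iff_b _ g).2 lb₁, hom_ext ha₁ hb₁⟩, ?_⟩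
  rintro χ₂ ⟨k1, k2⟩
  have k3 : 𝒴.p.IsHomLift g χ₂.b := (isHomLift_iff_b χ₂ g).1 k1
  have k4 : 𝒳.p.IsHomLift g χ₂.a := isHomLift_a_of_b χ₂ g
  apply hom_ext
  · exact IsStronglyCartesian.map_uniq 𝒳.p f φ.a rfl φ'.a χ₂.a (congrArg Hom.a k2)
  · exact IsStronglyCartesian.map_uniq 𝒴.p f φ.b rfl φ'.b χ₂.b (congrArg Hom.b k2)

lemma exists_lift [𝒳.p.IsFibered] [𝒴.p.IsFibered] (hF : FibCat.PreservesStronglyCartesian F)
    (X : Obj F) {V : C} (f : V ⟶ 𝒴.p.obj X.y) :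
    ∃ (X₁ : Obj F) (φ : X₁ ⟶ X),
      𝒳.p.IsStronglyCartesian f φ.a ∧ 𝒴.p.IsStronglyCartesian f φ.b := by
  have hx : 𝒳.p.obj X.x = 𝒴.p.obj X.y := px_eq X
  let a := IsPreFibered.pullbackMap hx f
  let b := IsPreFibered.pullbackMap (rfl : 𝒴.p.obj X.y = 𝒴.p.obj X.y) f
  have sa : 𝒳.p.IsStronglyCartesian f a := inferInstance
  have sb : 𝒴.p.IsStronglyCartesian f b := inferInstance
  have sFa : 𝒴.p.IsStronglyCartesian f (F.map a) := hF f a sa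
  have hα : 𝒴.p.IsHomLift (𝟙 (𝒴.p.obj X.y)) X.α := X.hα
  have l1 : 𝒴.p.IsHomLift f (b ≫ X.α) := inferInstance
  let α₁ := IsStronglyCartesian.map 𝒴.p f (F.map a) (Category.id_comp f).symm (b ≫ X.α)
  have lα₁ : 𝒴.p.IsHomLift (𝟙 V) α₁ :=
    IsStronglyCartesian.map_isHomLift 𝒴.p f (F.map a) (Category.id_comp f).symm (b ≫ X.α)
  have hα₁ : α₁ ≫ F.map a = b ≫ X.α :=
    IsStronglyCartesian.fac 𝒴.p f (F.map a) (Category.id_comp f).symm (b ≫ X.α)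
  have hV : 𝒴.p.obj (IsPreFibered.pullbackObj (rfl : 𝒴.p.obj X.y = 𝒴.p.obj X.y) f) = V :=
    IsHomLift.domain_eq 𝒴.p f b
  refine ⟨⟨_, _, α₁, by rw [hV]; exact lα₁⟩, ⟨a, b, hα₁⟩, sa, sb⟩

lemma sc_components [𝒳.p.IsFibered] [𝒴.p.IsFibered] (hF : FibCat.PreservesStronglyCartesian F)
    {X₁ X : Obj F} (φ : X₁ ⟶ X) {V U : C} (f : V ⟶ U)
    [hφ : (𝒳' F).p.IsStronglyCartesian f φ] :
    𝒳.p.IsStronglyCartesian f φ.a ∧ 𝒴.p.IsStronglyCartesian f φ.b := by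
  have hU : 𝒴.p.obj X.y = U := IsHomLift.codomain_eq (𝒳' F).p f φ
  subst hU
  obtain ⟨X₀, φ₀, h1, h2⟩ := exists_lift hF X f
  have s0 : (𝒳' F).p.IsStronglyCartesian f φ₀ := sc_of_components hF φ₀ f
  let θ := IsStronglyCartesian.domainIsoOfBaseIso (𝒳' F).p (g := Iso.refl V)
    (show f = (Iso.refl V).hom ≫ f by simp) φ₀ φ
  have hθ : θ.hom ≫ φ₀ = φ :=
    IsStronglyCartesian.fac (𝒳' F).p f φ₀ (show f = (Iso.refl V).hom ≫ f by simp) φ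
  have lθ : (𝒳' F).p.IsHomLift (𝟙 V) θ.hom :=
    IsStronglyCartesian.map_isHomLift (𝒳' F).p f φ₀ (show f = (Iso.refl V).hom ≫ f by simp) φ
  have la : 𝒳.p.IsHomLift (𝟙 V) θ.hom.a := isHomLift_a θ.hom (𝟙 V)
  have lb : 𝒴.p.IsHomLift (𝟙 V) θ.hom.b := isHomLift_b θ.hom (𝟙 V)
  have ia : IsIso θ.hom.a := ((wFun F).mapIso θ).isIso_hom
  have ib : IsIso θ.hom.b := ((vFun F).mapIso θ).isIso_hom
  have ea : θ.hom.a ≫ φ₀.a = φ.a := congrArg Hom.a hθ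
  have eb : θ.hom.b ≫ φ₀.b = φ.b := congrArg Hom.b hθ
  constructor
  · have : 𝒳.p.IsStronglyCartesian (𝟙 V ≫ f) (θ.hom.a ≫ φ₀.a) := inferInstance
    rw [ea] at this
    exact isStronglyCartesian_of_eq 𝒳.p (Category.id_comp f) φ.a
  · have : 𝒴.p.IsStronglyCartesian (𝟙 V ≫ f) (θ.hom.b ≫ φ₀.b) := inferInstance
    rw [eb] at this
    exact isStronglyCartesian_of_eq 𝒴.p (Category.id_comp f) φ.b

variable (F)

/-- `v : 𝒳' ⟶ 𝒴` -/
def vB : 𝒳' F ⥤ᵇ 𝒴 where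
  toFunctor := vFun F
  w := rfl

/-- `u : 𝒳 ⟶ 𝒳'` -/
def uB : 𝒳 ⥤ᵇ 𝒳' F where
  toFunctor := uFun F
  w := F.w

/-- `w : 𝒳' ⟶ 𝒳` -/
def wB : 𝒳' F ⥤ᵇ 𝒳 where
  toFunctor := wFun F
  w := by
    refine CategoryTheory.Functor.ext (fun X => px_eq X) (fun X Y φ => ?_)
    have : 𝒳.p.IsHomLift (𝒴.p.map φ.b) φ.a := isHomLift_a_of_b φ (𝒴.p.map φ.b)
    exact IsHomLift.fac' 𝒳.p (𝒴.p.map φ.b) φ.a

lemma uB_comp_vB : BasedFunctor.comp (uB F) (vB F) = F := rfl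

instance : (uB F).toFunctor.Faithful := by
  constructor
  intro x x' f g h
  exact congrArg Hom.a h

instance : (uB F).toFunctor.Full := by
  constructor
  intro x x' φ
  refine ⟨φ.a, ?_⟩
  apply hom_ext
  · rfl
  · have := φ.w
    change 𝟙 _ ≫ F.map φ.a = φ.b ≫ 𝟙 _ at this
    change F.map φ.a = φ.b
    simpa using this

/-- the adjunction `w ⊣ u` -/
def adj : (wB F).toFunctor ⊣ (uB F).toFunctor :=
  Adjunction.mkOfHomEquiv
    { homEquiv := fun X x₀ =>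
        { toFun := fun a => ⟨a, X.α ≫ F.map a, by
            change X.α ≫ F.map a = (X.α ≫ F.map a) ≫ 𝟙 _
            simp⟩
          invFun := fun φ => φ.a
          left_inv := fun a => rfl
          right_inv := fun φ => by
            apply hom_ext
            · rfl
            · have := φ.w
              change X.α ≫ F.map φ.a = φ.b ≫ 𝟙 _ at this
              change X.α ≫ F.map φ.a = φ.b
              simpa using this }
      homEquiv_naturality_left_symm := fun f g => rfl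
      homEquiv_naturality_right := fun f g => by
        apply hom_ext
        · rfl
        · change _ ≫ F.map (f ≫ g) = (_ ≫ F.map f) ≫ F.map g
          simp }

variable {F}

lemma isFibered_𝒳' [𝒳.p.IsFibered] [𝒴.p.IsFibered] (hF : FibCat.PreservesStronglyCartesian F) :
    (𝒳' F).p.IsFibered := by
  apply IsFibered.of_exists_isStronglyCartesian
  intro X V f
  change V ⟶ 𝒴.p.obj X.y at f
  obtain ⟨X₁, φ, h1, h2⟩ := exists_lift hF X f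
  exact ⟨X₁, φ, sc_of_components hF φ f⟩

lemma preserves_uB (hF : FibCat.PreservesStronglyCartesian F) :
    FibCat.PreservesStronglyCartesian (uB F) := by
  intro R S f a b φ hφ
  have h1 : 𝒴.p.IsStronglyCartesian f ((uFun F).map φ).b := hF f φ hφ
  have h2 : 𝒳.p.IsStronglyCartesian f ((uFun F).map φ).a := hφ
  exact sc_of_components (X₁ := (uFun F).obj a) (X := (uFun F).obj b) hF ((uFun F).map φ) f

lemma preserves_vB [𝒳.p.IsFibered] [𝒴.p.IsFibered] (hF : FibCat.PreservesStronglyCartesian F) :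
    FibCat.PreservesStronglyCartesian (vB F) := by
  intro R S f a b φ hφ
  exact (sc_components hF φ f).2

lemma preserves_wB [𝒳.p.IsFibered] [𝒴.p.IsFibered] (hF : FibCat.PreservesStronglyCartesian F) :
    FibCat.PreservesStronglyCartesian (wB F) := by
  intro R S f a b φ hφ
  exact (sc_components hF φ f).1

lemma b_eq_of_isHomLift {X Y : Obj F} (φ : X ⟶ Y) (β : X.y ⟶ Y.y)
    [h : (vFun F).IsHomLift β φ] : φ.b = β := by
  have := IsHomLift.fac (vFun F) β φ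
  rw [this]
  change φ.b = eqToHom rfl ≫ φ.b ≫ eqToHom rfl
  simp

lemma isFibered_vFun [𝒳.p.IsFibered] [𝒴.p.IsFibered] (hF : FibCat.PreservesStronglyCartesian F) :
    (vFun F).IsFibered := by
  apply IsFibered.of_exists_isStronglyCartesian
  intro X y₁ β
  change y₁ ⟶ X.y at β
  have hx : 𝒳.p.obj X.x = 𝒴.p.obj X.y := px_eq X
  let f := 𝒴.p.map β
  let a := IsPreFibered.pullbackMap hx f
  have sa : 𝒳.p.IsStronglyCartesian f a := inferInstance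
  have sFa : 𝒴.p.IsStronglyCartesian f (F.map a) := hF f a sa
  have hα : 𝒴.p.IsHomLift (𝟙 (𝒴.p.obj X.y)) X.α := X.hα
  have lβ : 𝒴.p.IsHomLift f β := inferInstance
  have l1 : 𝒴.p.IsHomLift f (β ≫ X.α) := inferInstance
  let α₁ := IsStronglyCartesian.map 𝒴.p f (F.map a) (Category.id_comp f).symm (β ≫ X.α)
  have lα₁ : 𝒴.p.IsHomLift (𝟙 (𝒴.p.obj y₁)) α₁ :=
    IsStronglyCartesian.map_isHomLift 𝒴.p f (F.map a) (Category.id_comp f).symm (β ≫ X.α)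
  have hα₁ : α₁ ≫ F.map a = β ≫ X.α :=
    IsStronglyCartesian.fac 𝒴.p f (F.map a) (Category.id_comp f).symm (β ≫ X.α)
  let X₁ : Obj F := ⟨_, y₁, α₁, lα₁⟩
  let φ : X₁ ⟶ X := ⟨a, β, hα₁⟩
  refine ⟨X₁, φ, ?_⟩
  have h0 : (vFun F).IsHomLift β φ := IsHomLift.map (vFun F) φ
  refine { toIsHomLift := h0, universal_property' := ?_ }
  intro X'' g φ' hφ'
  change X''.y ⟶ y₁ at g
  have hφ'' : (vFun F).IsHomLift (g ≫ β) φ' := hφ'
  have eb : φ'.b = g ≫ β := b_eq_of_isHomLift φ' (g ≫ β)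
  have la : 𝒳.p.IsHomLift (𝒴.p.map φ'.b) φ'.a := isHomLift_a_of_b φ' (𝒴.p.map φ'.b)
  have hf' : 𝒴.p.map φ'.b = 𝒴.p.map g ≫ f := by rw [eb, 𝒴.p.map_comp]
  let a₂ := IsStronglyCartesian.map 𝒳.p f a hf' φ'.a
  have ha₂ : a₂ ≫ a = φ'.a := IsStronglyCartesian.fac 𝒳.p f a hf' φ'.a
  have la₂ : 𝒳.p.IsHomLift (𝒴.p.map g) a₂ := IsStronglyCartesian.map_isHomLift 𝒳.p f a hf' φ'.a
  have lFa₂ : 𝒴.p.IsHomLift (𝒴.p.map g) (F.map a₂) := inferInstance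
  have hα'' : 𝒴.p.IsHomLift (𝟙 (𝒴.p.obj X''.y)) X''.α := X''.hα
  have l2 : 𝒴.p.IsHomLift (𝒴.p.map g) (X''.α ≫ F.map a₂) := inferInstance
  have lg : 𝒴.p.IsHomLift (𝒴.p.map g) g := inferInstance
  have l3 : 𝒴.p.IsHomLift (𝒴.p.map g) (g ≫ α₁) := inferInstance
  have hw : X''.α ≫ F.map a₂ = g ≫ α₁ := by
    apply IsStronglyCartesian.ext 𝒴.p f (F.map a) (𝒴.p.map g)
    rw [Category.assoc, ← F.map_comp, ha₂, φ'.w, Category.assoc, hα₁, eb, Category.assoc]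
  let χ : X'' ⟶ X₁ := ⟨a₂, g, hw⟩
  refine ⟨χ, ⟨IsHomLift.map (vFun F) χ, hom_ext ha₂ eb.symm⟩, ?_⟩
  rintro χ₂ ⟨k1, k2⟩
  have k1' : (vFun F).IsHomLift g χ₂ := k1
  have k3 : χ₂.b = g := b_eq_of_isHomLift χ₂ g
  have k4 : 𝒳.p.IsHomLift (𝒴.p.map g) χ₂.a := by
    have := isHomLift_a_of_b χ₂ (𝒴.p.map χ₂.b)
    rw [k3] at this
    exact this
  apply hom_ext
  · exact IsStronglyCartesian.map_uniq 𝒳.p f a hf' φ'.a χ₂.a (congrArg Hom.a k2)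
  · exact k3

end Construction

end Groth.Agent.Lib.Helper24.FibFactor
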