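import Groth.Prelude.Def_FibCat2
import Groth.Agent.Lib.Helper24.FibGrpd
set_option autoImplicit false
open CategoryTheory
universe u v u₂ v₂ u₃ v₃

namespace Groth.Agent.Lib.Helper24.FibSet

section
variable {C : Type u} [Category.{v} C] {𝒳 : BasedCategory.{v₂, u₂} C} {𝒴 : BasedCategory.{v₃, u₃} C}

/-- in a category whose fibres are discrete a morphism over an identity is an `eqToHom` -/
lemma eq_eqToHom_of_isDiscrete_fiber (h : ∀ U : C, CategoryTheory.IsDiscrete (𝒴.p.Fiber U)) {U : C}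
    {a b : 𝒴.obj} (φ : a ⟶ b) [hφ : 𝒴.p.IsHomLift (𝟙 U) φ] : ∃ hab : a = b, φ = eqToHom hab := by
  have ha : 𝒴.p.obj a = U := IsHomLift.domain_eq 𝒴.p (𝟙 U) φ
  have hb : 𝒴.p.obj b = U := IsHomLift.codomain_eq 𝒴.p (𝟙 U) φ
  let A : 𝒴.p.Fiber U := Functor.Fiber.mk ha
  let B : 𝒴.p.Fiber U := Functor.Fiber.mk hb
  let Φ : A ⟶ B := ⟨φ, hφ⟩
  have hAB : A = B := (h U).eq_of_hom Φ
  have hab : a = b := congrArg (fun t => Functor.Fiber.fiberInclusion.obj t) hAB
  refine ⟨hab, ?_⟩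
  subst hab
  have hΦ : Φ = 𝟙 A := ((h U).subsingleton A A).elim _ _
  have h2 : Functor.Fiber.fiberInclusion.map Φ = Functor.Fiber.fiberInclusion.map (𝟙 A) :=
    congrArg (fun t => Functor.Fiber.fiberInclusion.map t) hΦ
  rw [Functor.map_id] at h2
  exact h2

lemma basedFunctor_ext {F G : 𝒳 ⥤ᵇ 𝒴} (h : F.toFunctor = G.toFunctor) : F = G := by
  cases F; cases G; cases h; rfl

theorem basedNatTrans_eq_eqToHom (h𝒴 : ∀ U : C, CategoryTheory.IsDiscrete (𝒴.p.Fiber U))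
    {F G : 𝒳 ⥤ᵇ 𝒴} (α : F ⟶ G) : ∃ h : F = G, α = eqToHom h := by
  have key : ∀ x : 𝒳.obj, ∃ hx : F.toFunctor.obj x = G.toFunctor.obj x,
      α.toNatTrans.app x = eqToHom hx := by
    intro x
    exact eq_eqToHom_of_isDiscrete_fiber h𝒴 (U := 𝒳.p.obj x) (α.toNatTrans.app x)
  have hFG : F.toFunctor = G.toFunctor := by
    refine Functor.ext (fun x => (key x).1) (fun x y f => ?_)
    have hn := α.toNatTrans.naturality f
    obtain ⟨hx, hαx⟩ := key x
    obtain ⟨hy, hαy⟩ := key y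
    rw [hαx, hαy] at hn
    rw [← Category.assoc, ← hn, Category.assoc, eqToHom_trans, eqToHom_refl, Category.comp_id]
  have hFG' : F = G := basedFunctor_ext hFG
  subst hFG'
  refine ⟨rfl, ?_⟩
  apply BasedNatTrans.homCategory.ext
  ext x
  obtain ⟨hx, hαx⟩ := key x
  rw [hαx]
  simp
end


end Groth.Agent.Lib.Helper24.FibSet
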