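import Groth.Agent.Lib.Helper24.FibSet
set_option autoImplicit false
open CategoryTheory
universe u v u₂ v₂ u₃ v₃

namespace Groth.Agent.Lib.Helper24.FibSet
open Groth.Agent.Lib.Helper24.FibGrpd

section
variable {C : Type u} [Category.{v} C] {𝒳 : Type u₂} [Category.{v₂} 𝒳] (p : 𝒳 ⥤ C)

/-- plain-functor version of `eq_eqToHom_of_isDiscrete_fiber` -/
lemma eq_eqToHom_of_isDiscrete_fiber' (h : ∀ U : C, CategoryTheory.IsDiscrete (p.Fiber U)) {U : C}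
    {a b : 𝒳} (φ : a ⟶ b) [hφ : p.IsHomLift (𝟙 U) φ] : ∃ hab : a = b, φ = eqToHom hab := by
  have ha : p.obj a = U := IsHomLift.domain_eq p (𝟙 U) φ
  have hb : p.obj b = U := IsHomLift.codomain_eq p (𝟙 U) φ
  let A : p.Fiber U := Functor.Fiber.mk ha
  let B : p.Fiber U := Functor.Fiber.mk hb
  let Φ : A ⟶ B := ⟨φ, hφ⟩
  have hAB : A = B := (h U).eq_of_hom Φ
  have hab : a = b := congrArg (fun t => Functor.Fiber.fiberInclusion.obj t) hAB
  refine ⟨hab, ?_⟩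
  subst hab
  have hΦ : Φ = 𝟙 A := ((h U).subsingleton A A).elim _ _
  have h2 : Functor.Fiber.fiberInclusion.map Φ = Functor.Fiber.fiberInclusion.map (𝟙 A) :=
    congrArg (fun t => Functor.Fiber.fiberInclusion.map t) hΦ
  rw [Functor.map_id] at h2
  exact h2

/-- the unique-lifting property -/
def UniqueLifts : Prop :=
  ∀ (η : 𝒳) (U : C) (f : U ⟶ p.obj η), ∃! φ : (Σ ξ : 𝒳, (ξ ⟶ η)), p.IsHomLift f φ.2

lemma uniqueLifts_of_isFibSet (h : FibCat.IsFibSet p) : UniqueLifts p := by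
  obtain ⟨hg, hd⟩ := h
  intro η U f
  obtain ⟨ξ, φ, hφ⟩ := hg.exists_lift f
  refine ⟨⟨ξ, φ⟩, hφ, ?_⟩
  rintro ⟨ξ', φ'⟩ hφ'
  simp only at hφ'
  have hs : p.IsStronglyCartesian f φ := by
    rw [isStronglyCartesian_iff_map]; exact hg.isStronglyCartesian φ
  obtain ⟨χ, ⟨hχl, hχ⟩, _⟩ :=
    Functor.IsStronglyCartesian.universal_property p f φ (𝟙 U) f (Category.id_comp f).symm φ'
  obtain ⟨hab, hχe⟩ := eq_eqToHom_of_isDiscrete_fiber' p hd (U := U) χ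
  subst hab
  rw [hχe, eqToHom_refl, Category.id_comp] at hχ
  rw [hχ]

lemma eq_of_uniqueLifts (h : UniqueLifts p) {η : 𝒳} {U : C} (f : U ⟶ p.obj η) {ξ ξ' : 𝒳}
    (φ : ξ ⟶ η) (φ' : ξ' ⟶ η) [p.IsHomLift f φ] [p.IsHomLift f φ'] :
    ∃ hξ : ξ = ξ', φ = eqToHom hξ ≫ φ' := by
  obtain ⟨_, _, hu⟩ := h η U f
  have h1 := hu ⟨ξ, φ⟩ inferInstance
  have h2 := hu ⟨ξ', φ'⟩ inferInstance
  have h3 : (⟨ξ, φ⟩ : Σ ξ : 𝒳, (ξ ⟶ η)) = ⟨ξ', φ'⟩ := h1.trans h2.symm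
  obtain ⟨hξ, hφ⟩ := Sigma.mk.inj_iff.mp h3
  subst hξ
  exact ⟨rfl, by simpa using eq_of_heq hφ⟩

lemma isFibSet_of_uniqueLifts (h : UniqueLifts p) : FibCat.IsFibSet p := by
  have hg : FibCat.IsFibGrpd p := by
    constructor
    · intro x V f
      obtain ⟨⟨y, φ⟩, hφ, _⟩ := h x V f
      exact ⟨y, φ, hφ⟩
    · intro y x φ
      refine { toIsHomLift := inferInstance, universal_property' := ?_ }
      intro z g ψ hψ
      obtain ⟨⟨z', χ₀⟩, hχ₀, _⟩ := h y (p.obj z) g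
      simp only at hχ₀
      have h1 : p.IsHomLift (g ≫ p.map φ) (χ₀ ≫ φ) := inferInstance
      obtain ⟨hz, hψ'⟩ := eq_of_uniqueLifts p h (η := x) (g ≫ p.map φ) ψ (χ₀ ≫ φ)
      subst hz
      rw [eqToHom_refl, Category.id_comp] at hψ'
      refine ⟨χ₀, ⟨hχ₀, hψ'.symm⟩, ?_⟩
      rintro χ ⟨hχ1, hχ2⟩
      obtain ⟨hz, hχ'⟩ := eq_of_uniqueLifts p h (η := y) g χ χ₀
      rw [hχ']
      simp
  refine ⟨hg, fun U => ?_⟩
  have key : ∀ {a b : p.Fiber U} (φ ψ : a ⟶ b), φ = ψ := by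
    intro a b φ ψ
    have hb : p.obj (Functor.Fiber.fiberInclusion.obj b) = U := b.2
    have h1 : p.IsHomLift (𝟙 U ≫ eqToHom hb.symm) (Functor.Fiber.fiberInclusion.map φ) :=
      inferInstance
    have h2 : p.IsHomLift (𝟙 U ≫ eqToHom hb.symm) (Functor.Fiber.fiberInclusion.map ψ) :=
      inferInstance
    obtain ⟨hz, hφψ⟩ := eq_of_uniqueLifts p h (𝟙 U ≫ eqToHom hb.symm)
      (Functor.Fiber.fiberInclusion.map φ) (Functor.Fiber.fiberInclusion.map ψ)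
    apply Functor.Fiber.hom_ext
    rw [hφψ]; simp
  refine { subsingleton := fun a b => ⟨fun φ ψ => key φ ψ⟩, eq_of_hom := ?_ }
  intro a b φ
  have hb : p.obj (Functor.Fiber.fiberInclusion.obj b) = U := b.2
  have h1 : p.IsHomLift (𝟙 U ≫ eqToHom hb.symm) (Functor.Fiber.fiberInclusion.map φ) :=
    inferInstance
  have h2 : p.IsHomLift (𝟙 U ≫ eqToHom hb.symm) (𝟙 (Functor.Fiber.fiberInclusion.obj b)) := by
    have : p.IsHomLift (𝟙 U) (𝟙 (Functor.Fiber.fiberInclusion.obj b)) := IsHomLift.id hb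
    infer_instance
  obtain ⟨hz, _⟩ := eq_of_uniqueLifts p h (𝟙 U ≫ eqToHom hb.symm)
    (Functor.Fiber.fiberInclusion.map φ) (𝟙 (Functor.Fiber.fiberInclusion.obj b))
  exact Functor.Fiber.fiberInclusion_obj_inj hz

theorem isFibSet_iff_uniqueLifts : FibCat.IsFibSet p ↔ UniqueLifts p :=
  ⟨uniqueLifts_of_isFibSet p, isFibSet_of_uniqueLifts p⟩

end

end Groth.Agent.Lib.Helper24.FibSet
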