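import Groth.Agent.Lib.Helper24.FibSet
import Groth.Agent.Lib.Helper24.FibSet2
set_option autoImplicit false
open CategoryTheory
universe u v u₂ v₂ u₃ v₃

namespace Groth.Agent.Lib.Helper24.FibSet
open Groth.Agent.Lib.Helper24.FibGrpd

section comp
variable {C : Type u} [Category.{v} C] {𝒢 : Type u₂} [Category.{v₂} 𝒢]
    {ℱ : Type u₃} [Category.{v₃} ℱ] (G : 𝒢 ⥤ C) (F : ℱ ⥤ 𝒢)

lemma isHomLift_comp_iff {U V : C} (f : U ⟶ V) {a b : ℱ} (ψ : a ⟶ b) :
    (F ⋙ G).IsHomLift f ψ ↔ G.IsHomLift f (F.map ψ) := by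
  constructor
  · intro h
    exact IsHomLift.of_fac G f (F.map ψ) (IsHomLift.domain_eq (F ⋙ G) f ψ)
      (IsHomLift.codomain_eq (F ⋙ G) f ψ) (IsHomLift.fac (F ⋙ G) f ψ)
  · intro h
    exact IsHomLift.of_fac (F ⋙ G) f ψ (IsHomLift.domain_eq G f (F.map ψ))
      (IsHomLift.codomain_eq G f (F.map ψ)) (IsHomLift.fac G f (F.map ψ))

variable (hG : UniqueLifts G)
include hG

/-- Lemma A -/
lemma isHomLift_iff_of_uniqueLifts {R S : 𝒢} (g : R ⟶ S) {a b : ℱ} (ψ : a ⟶ b) :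
    F.IsHomLift g ψ ↔ (F ⋙ G).IsHomLift (G.map g) ψ ∧ F.obj b = S := by
  constructor
  · intro h
    refine ⟨?_, IsHomLift.codomain_eq F g ψ⟩
    rw [isHomLift_comp_iff]
    obtain rfl := IsHomLift.domain_eq F g ψ
    obtain rfl := IsHomLift.codomain_eq F g ψ
    obtain rfl : g = F.map ψ := IsHomLift.eq_of_isHomLift F g ψ
    infer_instance
  · rintro ⟨h, hb⟩
    rw [isHomLift_comp_iff] at h
    subst hb
    obtain ⟨hR, hg⟩ := eq_of_uniqueLifts G hG (η := F.obj b) (G.map g) (F.map ψ) g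
    exact IsHomLift.of_fac F g ψ hR rfl (by rw [hg]; simp)

theorem uniqueLifts_comp_iff : UniqueLifts F ↔ UniqueLifts (F ⋙ G) := by
  constructor
  · intro hF η U f
    obtain ⟨⟨R, g⟩, hg, _⟩ := hG (F.obj η) U f
    obtain ⟨⟨ξ, φ⟩, hφ, huniq⟩ := hF η R g
    simp only at hg hφ
    refine ⟨⟨ξ, φ⟩, ?_, ?_⟩
    · change (F ⋙ G).IsHomLift f φ
      rw [isHomLift_comp_iff]
      have h1 := IsHomLift.fac' F g φ
      rw [h1]; infer_instance
    · rintro ⟨ξ', φ'⟩ hφ'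
      simp only at hφ'
      rw [isHomLift_comp_iff] at hφ'
      obtain ⟨hR, hg'⟩ := eq_of_uniqueLifts G hG f (F.map φ') g
      have : F.IsHomLift g φ' := IsHomLift.of_fac F g φ' hR rfl (by rw [hg']; simp)
      exact huniq ⟨ξ', φ'⟩ this
  · intro hFG η R g
    obtain ⟨⟨ξ, φ⟩, hφ, huniq⟩ := hFG η (G.obj R) (G.map g)
    simp only at hφ
    have hφ' : F.IsHomLift g φ := (isHomLift_iff_of_uniqueLifts G F hG g φ).mpr ⟨hφ, rfl⟩
    refine ⟨⟨ξ, φ⟩, hφ', ?_⟩
    rintro ⟨ξ', φ'⟩ h'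
    simp only at h'
    exact huniq ⟨ξ', φ'⟩ ((isHomLift_iff_of_uniqueLifts G F hG g φ').mp h').1

lemma isHomLift_map_iff {R S : 𝒢} (g : R ⟶ S) {a b : ℱ} (ψ : a ⟶ b) (hb : F.obj b = S) :
    (F ⋙ G).IsHomLift (G.map g) ψ ↔ F.IsHomLift g ψ :=
  ⟨fun h => (isHomLift_iff_of_uniqueLifts G F hG g ψ).mpr ⟨h, hb⟩,
   fun h => ((isHomLift_iff_of_uniqueLifts G F hG g ψ).mp h).1⟩

/-- Lemma C2 -/
theorem isStronglyCartesian_comp_iff {R S : 𝒢} (g : R ⟶ S) {a b : ℱ} (φ : a ⟶ b)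
    [hφ : F.IsHomLift g φ] :
    F.IsStronglyCartesian g φ ↔ (F ⋙ G).IsStronglyCartesian (G.map g) φ := by
  have hb : F.obj b = S := IsHomLift.codomain_eq F g φ
  have ha : F.obj a = R := IsHomLift.domain_eq F g φ
  constructor
  · intro hc
    have hl : (F ⋙ G).IsHomLift (G.map g) φ := (isHomLift_map_iff G F hG g φ hb).mpr hφ
    refine { toIsHomLift := hl, universal_property' := ?_ }
    intro a' h φ' hφ'
    rw [isHomLift_comp_iff] at hφ'
    obtain ⟨⟨R', h'⟩, hh', _⟩ := hG R (G.obj (F.obj a')) h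
    simp only at hh'
    subst hb
    have h1 : G.IsHomLift (h ≫ G.map g) (h' ≫ g) := inferInstance
    obtain ⟨hR', hφ'g⟩ := eq_of_uniqueLifts G hG (h ≫ G.map g) (F.map φ') (h' ≫ g)
    subst hR'
    rw [eqToHom_refl, Category.id_comp] at hφ'g
    have hh : h = G.map h' := IsHomLift.eq_of_isHomLift G h h'
    have h2 : F.IsHomLift (h' ≫ g) φ' := by
      rw [← hφ'g]; infer_instance
    obtain ⟨χ, ⟨hχ1, hχ2⟩, hu⟩ :=
      Functor.IsStronglyCartesian.universal_property F g φ h' (h' ≫ g) rfl φ'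
    refine ⟨χ, ⟨?_, hχ2⟩, ?_⟩
    · rw [hh]; exact (isHomLift_map_iff G F hG h' χ ha).mpr hχ1
    · rintro χ' ⟨hχ'1, hχ'2⟩
      rw [hh] at hχ'1
      exact hu χ' ⟨(isHomLift_map_iff G F hG h' χ' ha).mp hχ'1, hχ'2⟩
  · intro hc
    refine { toIsHomLift := hφ, universal_property' := ?_ }
    intro a' h' φ' hφ'
    have h2 : (F ⋙ G).IsHomLift (G.map h' ≫ G.map g) φ' := by
      rw [← G.map_comp]
      exact (isHomLift_map_iff G F hG (h' ≫ g) φ' hb).mpr hφ'
    obtain ⟨χ, ⟨hχ1, hχ2⟩, hu⟩ :=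
      Functor.IsStronglyCartesian.universal_property (F ⋙ G) (G.map g) φ (G.map h')
        (G.map h' ≫ G.map g) rfl φ'
    refine ⟨χ, ⟨(isHomLift_map_iff G F hG h' χ ha).mp hχ1, hχ2⟩, ?_⟩
    rintro χ' ⟨hχ'1, hχ'2⟩
    exact hu χ' ⟨(isHomLift_map_iff G F hG h' χ' ha).mpr hχ'1, hχ'2⟩

theorem isFibGrpd_comp_iff : FibCat.IsFibGrpd F ↔ FibCat.IsFibGrpd (F ⋙ G) := by
  constructor
  · intro hF
    constructor
    · intro x V f
      obtain ⟨⟨R, g⟩, hg, _⟩ := hG (F.obj x) V f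
      simp only at hg
      obtain ⟨y, φ, hφ⟩ := hF.exists_lift g
      refine ⟨y, φ, ?_⟩
      rw [isHomLift_comp_iff]
      have h1 := IsHomLift.fac' F g φ
      rw [h1]; infer_instance
    · intro y x φ
      have := hF.isStronglyCartesian φ
      exact (isStronglyCartesian_comp_iff G F hG (F.map φ) φ).mp this
  · intro hFG
    constructor
    · intro x V g
      obtain ⟨y, φ, hφ⟩ := hFG.exists_lift (x := x) (G.map g)
      exact ⟨y, φ, (isHomLift_map_iff G F hG g φ rfl).mp hφ⟩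
    · intro y x φ
      have := hFG.isStronglyCartesian φ
      exact (isStronglyCartesian_comp_iff G F hG (F.map φ) φ).mpr this

theorem isFibered_comp_iff : F.IsFibered ↔ (F ⋙ G).IsFibered := by
  constructor
  · intro hF
    apply Functor.IsFibered.of_exists_isStronglyCartesian
    intro b U f
    obtain ⟨⟨R, g⟩, hg, _⟩ := hG (F.obj b) U f
    simp only at hg
    obtain ⟨a, φ, hφ⟩ := CategoryTheory.IsPreFibered.exists_isCartesian F (a := b) rfl g
    have hs : F.IsStronglyCartesian g φ := inferInstance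
    have hs' := (isStronglyCartesian_comp_iff G F hG g φ).mp hs
    refine ⟨a, φ, ?_⟩
    have hl : (F ⋙ G).IsHomLift f φ := by
      rw [isHomLift_comp_iff]
      have h1 := IsHomLift.fac' F g φ
      rw [h1]; infer_instance
    rw [isStronglyCartesian_iff_map] at hs' ⊢
    exact hs'
  · intro hFG
    apply Functor.IsFibered.of_exists_isStronglyCartesian
    intro b R g
    obtain ⟨a, φ, hφ⟩ := CategoryTheory.IsPreFibered.exists_isCartesian (F ⋙ G) (a := b) rfl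
      (G.map g)
    have hs : (F ⋙ G).IsStronglyCartesian (G.map g) φ := inferInstance
    have hl : F.IsHomLift g φ := (isHomLift_map_iff G F hG g φ rfl).mp inferInstance
    exact ⟨a, φ, (isStronglyCartesian_comp_iff G F hG g φ).mpr hs⟩

end comp

end Groth.Agent.Lib.Helper24.FibSet
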