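import Mathlib.CategoryTheory.Galois.Basic
import Mathlib.CategoryTheory.Galois.Topology
import Mathlib.CategoryTheory.Galois.Prorepresentability
import Mathlib.CategoryTheory.Limits.Preserves.Finite
set_option autoImplicit false
universe u v w
open CategoryTheory Limits PreGaloisCategory FiberFunctor

namespace Groth.Agent.Lib.Helper24.FiberFunctorUnique

section generic
variable {C : Type u} [Category.{v} C] [GaloisCategory C]
variable (G : C ⥤ FintypeCat.{w}) [PreservesFiniteLimits G]

/-- fibres of binary products -/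
noncomputable def prodEquiv (X Y : C) : G.obj (X ⨯ Y) ≃ G.obj X × G.obj Y :=
  (PreservesLimitPair.iso (G ⋙ FintypeCat.incl) X Y ≪≫
    Types.binaryProductIso (G.obj X) (G.obj Y)).toEquiv

lemma prodEquiv_symm_fst {X Y : C} (x : G.obj X) (y : G.obj Y) :
    G.map prod.fst ((prodEquiv G X Y).symm (x, y)) = x := by
  simp only [prodEquiv]
  change ((Types.binaryProductIso _ _).inv ≫ _ ≫ (G ⋙ FintypeCat.incl).map prod.fst) _ = _
  erw [PreservesLimitPair.iso_inv_fst, Types.binaryProductIso_inv_comp_fst]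
  rfl

lemma prodEquiv_symm_snd {X Y : C} (x : G.obj X) (y : G.obj Y) :
    G.map prod.snd ((prodEquiv G X Y).symm (x, y)) = y := by
  simp only [prodEquiv]
  change ((Types.binaryProductIso _ _).inv ≫ _ ≫ (G ⋙ FintypeCat.incl).map prod.snd) _ = _
  erw [PreservesLimitPair.iso_inv_snd, Types.binaryProductIso_inv_comp_snd]
  rfl

lemma prod_fiber_ext {X Y : C} {z₁ z₂ : G.obj (X ⨯ Y)}
    (h1 : G.map prod.fst z₁ = G.map prod.fst z₂) (h2 : G.map prod.snd z₁ = G.map prod.snd z₂) :
    z₁ = z₂ := by
  have key : ∀ z : G.obj (X ⨯ Y), prodEquiv G X Y z = (G.map prod.fst z, G.map prod.snd z) := by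
    intro z
    obtain ⟨⟨x, y⟩, rfl⟩ := (prodEquiv G X Y).symm.surjective z
    rw [Equiv.apply_symm_apply, prodEquiv_symm_fst, prodEquiv_symm_snd]
  apply (prodEquiv G X Y).injective
  rw [key, key, h1, h2]

/-- fibres of equalizers -/
noncomputable def eqEquiv {X Y : C} (f g : X ⟶ Y) :
    G.obj (equalizer f g) ≃ { x : G.obj X // G.map f x = G.map g x } :=
  (PreservesEqualizer.iso (G ⋙ FintypeCat.incl) f g ≪≫
    Types.equalizerIso (G.map f).hom (G.map g).hom).toEquiv

lemma eqEquiv_symm_ι {X Y : C} {f g : X ⟶ Y} (x : G.obj X)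
    (h : G.map f x = G.map g x) :
    G.map (equalizer.ι f g) ((eqEquiv G f g).symm ⟨x, h⟩) = x := by
  simp only [eqEquiv, Functor.comp_map]
  change ((Types.equalizerIso _ _).inv ≫ _ ≫ (G ⋙ FintypeCat.incl).map (equalizer.ι f g)) _ = _
  erw [PreservesEqualizer.iso_inv_ι, Types.equalizerIso_inv_comp_ι]
  rfl

end generic

section coprod
variable {C : Type u} [Category.{v} C] [GaloisCategory C]
variable (G : C ⥤ FintypeCat.{w}) [PreservesColimitsOfShape (Discrete WalkingPair) G]

lemma isEmpty_of_isInitial {X : C} (hX : IsInitial X) : IsEmpty (G.obj X) := by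
  constructor
  intro x
  have hc : IsColimit (BinaryCofan.mk ((G ⋙ FintypeCat.incl).map (coprod.inl : X ⟶ X ⨿ X))
      ((G ⋙ FintypeCat.incl).map (coprod.inr : X ⟶ X ⨿ X))) :=
    isColimitOfHasBinaryCoproductOfPreservesColimit (G ⋙ FintypeCat.incl) X X
  obtain ⟨h1, h2, h3⟩ := (Types.binaryCofan_isColimit_iff _).mp ⟨hc⟩
  have e : (coprod.inl : X ⟶ X ⨿ X) = coprod.inr := hX.hom_ext _ _
  have hd := h3.disjoint
  rw [Set.disjoint_iff] at hd
  refine hd ⟨⟨x, rfl⟩, ⟨x, ?_⟩⟩
  simp only [BinaryCofan.mk_inl, BinaryCofan.mk_inr, e]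
  rfl

noncomputable def isInitial_of_isEmpty (Z : FintypeCat.{w}) [IsEmpty Z.obj] : IsInitial Z :=
  IsInitial.ofUniqueHom (fun Y => FintypeCat.homMk (fun x => isEmptyElim x))
    (fun Y m => by ext x; exact isEmptyElim x)

lemma preservesFiniteCoproducts' : PreservesFiniteCoproducts G := by
  have hI : IsInitial (G.obj (⊥_ C)) := by
    have := isEmpty_of_isInitial G (initialIsInitial : IsInitial (⊥_ C))
    exact isInitial_of_isEmpty _
  have : PreservesColimit (Functor.empty.{0} C) G :=
    preservesColimit_of_preserves_colimit_cocone initialIsInitial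
      ((isColimitMapCoconeEmptyCoconeEquiv G (⊥_ C)).symm hI)
  have : PreservesColimitsOfShape (Discrete PEmpty.{1}) G :=
    preservesColimitsOfShape_pempty_of_preservesInitial G
  constructor
  intro n
  exact PreservesFiniteCoproducts.of_preserves_binary_and_initial G (Fin n)

end coprod

section key
variable {C : Type u} [Category.{v} C] [GaloisCategory C]

/-- every element of the fibre of a finite coproduct comes from a summand -/
lemma exists_rep_sigma (G : C ⥤ FintypeCat.{w}) [PreservesFiniteCoproducts G] {n : ℕ}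
    (f : Fin n → C) (y : G.obj (∐ f)) : ∃ (i : Fin n) (b : G.obj (f i)), G.map (Sigma.ι f i) b = y := by
  let s : Cocone (Discrete.functor f ⋙ G) := G.mapCocone (colimit.cocone (Discrete.functor f))
  let s' : IsColimit s := isColimitOfPreserves G (colimit.isColimit _)
  obtain ⟨⟨j⟩, z, h⟩ := Concrete.isColimit_exists_rep _ s' y
  exact ⟨j, z, h⟩

variable (F : C ⥤ FintypeCat.{w}) [FiberFunctor F]

lemma map_lift_fst (G : C ⥤ FintypeCat.{w}) {A X : C} (f : A ⟶ X) (b : G.obj A) :
    G.map prod.fst (G.map (prod.lift (𝟙 A) f) b) = b := by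
  rw [← FintypeCat.comp_apply, ← G.map_comp, prod.lift_fst, G.map_id, FintypeCat.id_apply]

lemma map_lift_snd (G : C ⥤ FintypeCat.{w}) {A X : C} (f : A ⟶ X) (b : G.obj A) :
    G.map prod.snd (G.map (prod.lift (𝟙 A) f) b) = G.map f b := by
  rw [← FintypeCat.comp_apply, ← G.map_comp, prod.lift_snd]

lemma map_desc_ι (G : C ⥤ FintypeCat.{w}) {A X : C} {n : ℕ} (e : Fin n → (A ⟶ X)) (i : Fin n)
    (b : G.obj A) :
    G.map (Sigma.desc (fun i : Fin n => prod.lift (𝟙 A) (e i)))
      (G.map (Sigma.ι (fun _ : Fin n => A) i) b) = G.map (prod.lift (𝟙 A) (e i)) b := by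
  rw [← FintypeCat.comp_apply, ← G.map_comp, Sigma.ι_desc]

lemma key_iso {A X : C} [IsGalois A] (a : F.obj A)
    (hbij : Function.Bijective (fun (f : A ⟶ X) => F.map f a)) {n : ℕ} (e : Fin n ≃ (A ⟶ X)) :
    IsIso (Sigma.desc (fun i : Fin n => prod.lift (𝟙 A) (e i)) : (∐ fun (_ : Fin n) => A) ⟶ A ⨯ X) := by
  set φ : (∐ fun (_ : Fin n) => A) ⟶ A ⨯ X := Sigma.desc (fun i : Fin n => prod.lift (𝟙 A) (e i)) with hφ
  have hb : Function.Bijective (F.map φ) := by
    constructor
    · intro y₁ y₂ h
      obtain ⟨i, b, rfl⟩ := exists_rep_sigma F (fun _ : Fin n => A) y₁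
      obtain ⟨j, c, rfl⟩ := exists_rep_sigma F (fun _ : Fin n => A) y₂
      rw [hφ, map_desc_ι, map_desc_ι] at h
      have h1 := congrArg (F.map prod.fst) h
      rw [map_lift_fst, map_lift_fst] at h1
      subst h1
      have h2 := congrArg (F.map prod.snd) h
      rw [map_lift_snd, map_lift_snd] at h2
      have h3 : e i = e j := evaluation_injective_of_isConnected F A X b h2
      have h4 : i = j := e.injective h3
      subst h4
      rfl
    · intro z
      obtain ⟨σ, hσ⟩ := evaluation_aut_surjective_of_isGalois F A a (F.map prod.fst z)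
      obtain ⟨f₀, hf₀⟩ := hbij.surjective (F.map prod.snd z)
      simp only at hσ hf₀
      refine ⟨F.map (Sigma.ι (fun _ : Fin n => A) (e.symm (σ.inv ≫ f₀))) (F.map prod.fst z), ?_⟩
      rw [hφ, map_desc_ι]
      apply prod_fiber_ext F
      · rw [map_lift_fst]
      · rw [map_lift_snd, Equiv.apply_symm_apply, ← hσ]
        have hh : σ.hom ≫ σ.inv ≫ f₀ = f₀ := Iso.hom_inv_id_assoc σ f₀
        rw [← FintypeCat.comp_apply, ← F.map_comp, hh, hf₀]
  have : IsIso (FintypeCat.incl.map (F.map φ)) := (isIso_iff_bijective _).mpr hb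
  have : IsIso (F.map φ) := isIso_of_reflects_iso (F.map φ) FintypeCat.incl
  exact isIso_of_reflects_iso φ F

end key

section fprime
variable {C : Type u} [Category.{v} C] [GaloisCategory C]
variable (F : C ⥤ FintypeCat.{w}) [FiberFunctor F]
variable (F' : C ⥤ FintypeCat.{w}) [PreservesFiniteLimits F']
  [PreservesColimitsOfShape (Discrete WalkingPair) F']

lemma exists_hom_map_eq {A X : C} [IsGalois A] (a : F.obj A)
    (hbij : Function.Bijective (fun (f : A ⟶ X) => F.map f a)) (a' : F'.obj A) (x' : F'.obj X) :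
    ∃ f : A ⟶ X, F'.map f a' = x' := by
  have := preservesFiniteCoproducts' F'
  obtain ⟨n, ⟨e⟩⟩ := Finite.exists_equiv_fin (A ⟶ X)
  have hiso := key_iso F a hbij e.symm
  set φ : (∐ fun (_ : Fin n) => A) ⟶ A ⨯ X :=
    Sigma.desc (fun i : Fin n => prod.lift (𝟙 A) (e.symm i)) with hφ
  set z' := (prodEquiv F' A X).symm (a', x') with hz'
  set y' := F'.map (inv φ) z' with hy'def
  have hy' : F'.map φ y' = z' := by
    rw [hy'def, ← FintypeCat.comp_apply, ← F'.map_comp, IsIso.inv_hom_id, F'.map_id,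
      FintypeCat.id_apply]
  obtain ⟨i, c', hc'⟩ := exists_rep_sigma F' (fun _ : Fin n => A) y'
  refine ⟨e.symm i, ?_⟩
  rw [← hc', hφ, map_desc_ι] at hy'
  have h1 := congrArg (F'.map prod.fst) hy'
  rw [map_lift_fst, hz', prodEquiv_symm_fst] at h1
  have h2 := congrArg (F'.map prod.snd) hy'
  rw [map_lift_snd, hz', prodEquiv_symm_snd] at h2
  rw [← h1]
  exact h2

lemma map_injective_of_isConnected' {A X : C} [IsConnected A] (a' : F'.obj A) :
    Function.Injective (fun f : A ⟶ X => F'.map f a') := by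
  intro f g h
  have : IsIso (equalizer.ι f g) := by
    apply IsConnected.noTrivialComponent _ (equalizer.ι f g)
    intro hI
    exact (isEmpty_of_isInitial F' hI).false ((eqEquiv F' f g).symm ⟨a', h⟩)
  exact eq_of_epi_equalizer

end fprime

section system
variable {C : Type u} [Category.{v} C] [GaloisCategory C]
variable (F : C ⥤ FintypeCat.{w}) [FiberFunctor F]

lemma isCofilteredOrEmpty_pointed : IsCofilteredOrEmpty (PointedGaloisObject F) where
  cone_objs := fun ⟨A, a, _⟩ ⟨B, b, _⟩ ↦ by
    obtain ⟨Z, f, z, hgal, hfz⟩ := exists_hom_from_galois_of_fiber F (A ⨯ B)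
      <| (fiberBinaryProductEquiv F A B).symm (a, b)
    refine ⟨⟨Z, z, hgal⟩, ⟨f ≫ prod.fst, ?_⟩, ⟨f ≫ prod.snd, ?_⟩, trivial⟩
    · simp only [F.map_comp, hfz, FintypeCat.comp_apply, fiberBinaryProductEquiv_symm_fst_apply]
    · simp only [F.map_comp, hfz, FintypeCat.comp_apply, fiberBinaryProductEquiv_symm_snd_apply]
  cone_maps := fun ⟨A, a, _⟩ ⟨B, b, _⟩ ⟨f, hf⟩ ⟨g, hg⟩ ↦ by
    obtain ⟨Z, h, z, hgal, hhz⟩ := exists_hom_from_galois_of_fiber F A a
    refine ⟨⟨Z, z, hgal⟩, ⟨h, hhz⟩, PointedGaloisObject.hom_ext ?_⟩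
    apply evaluation_injective_of_isConnected F Z B z
    simp [hhz, hf, hg]

lemma exists_compatible_section (F' : C ⥤ FintypeCat.{w})
    (hne : ∀ A : C, IsGalois A → Nonempty (F'.obj A)) :
    ∃ s : ∀ A : PointedGaloisObject F, F'.obj A.obj,
      ∀ {A B : PointedGaloisObject F} (f : A ⟶ B), F'.map f.val (s A) = s B := by
  have := isCofilteredOrEmpty_pointed F
  let K : PointedGaloisObject F ⥤ Type w := PointedGaloisObject.incl F ⋙ F' ⋙ FintypeCat.incl
  have : ∀ j, Finite (K.obj j) := fun j => inferInstanceAs (Finite (F'.obj j.obj))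
  have : ∀ j, Nonempty (K.obj j) := fun j => hne j.obj j.isGalois
  obtain ⟨s, hs⟩ := nonempty_sections_of_finite_cofiltered_system K
  exact ⟨s, fun f => hs f⟩

end system

/-- a functor to finite sets preserving finite limits, binary coproducts and taking nonempty
values on non-initial objects is isomorphic to any fibre functor -/
theorem nonempty_iso_fiberFunctor {C : Type u} [Category.{v} C] [GaloisCategory C]
    (F : C ⥤ FintypeCat.{w}) [FiberFunctor F] (F' : C ⥤ FintypeCat.{w}) [PreservesFiniteLimits F']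
    [PreservesColimitsOfShape (Discrete WalkingPair) F']
    (h : ∀ X : C, IsEmpty (F'.obj X) → Nonempty (IsInitial X)) : Nonempty (F' ≅ F) := by
  have hne : ∀ A : C, IsGalois A → Nonempty (F'.obj A) := by
    intro A hA
    by_contra hcon
    rw [not_nonempty_iff] at hcon
    obtain ⟨hI⟩ := h A hcon
    exact IsConnected.notInitial hI
  obtain ⟨s, hs⟩ := exists_compatible_section F F' hne
  have hwd : ∀ {X : C} (A B : PointedGaloisObject F) (f : A.obj ⟶ X) (g : B.obj ⟶ X),
      F.map f A.pt = F.map g B.pt → F'.map f (s A) = F'.map g (s B) := by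
    intro X A B f g hfg
    have := isCofilteredOrEmpty_pointed F
    obtain ⟨Z, u, v, _⟩ := IsCofilteredOrEmpty.cone_objs A B
    have huv : u.val ≫ f = v.val ≫ g := by
      apply evaluation_injective_of_isConnected F Z.obj X Z.pt
      simp only [F.map_comp, FintypeCat.comp_apply, u.comp, v.comp, hfg]
    rw [← hs u, ← hs v, ← FintypeCat.comp_apply, ← F'.map_comp, huv, F'.map_comp,
      FintypeCat.comp_apply]
  have hrep : ∀ (X : C) (x : F.obj X), ∃ (A : PointedGaloisObject F) (f : A.obj ⟶ X),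
      F.map f A.pt = x := by
    intro X x
    obtain ⟨A, f, a, hA, hfa⟩ := exists_hom_from_galois_of_fiber F X x
    exact ⟨⟨A, a, hA⟩, f, hfa⟩
  choose rA rf hr using hrep
  let τ : F ⟶ F' :=
    { app := fun X => FintypeCat.homMk (fun x => F'.map (rf X x) (s (rA X x)))
      naturality := fun X Y k => by
        ext x
        simp only [FintypeCat.comp_apply, FintypeCat.homMk_apply]
        rw [← FintypeCat.comp_apply, ← F'.map_comp]
        apply hwd
        rw [hr, F.map_comp, FintypeCat.comp_apply, hr] }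
  have hbij : ∀ X, Function.Bijective (τ.app X) := by
    intro X
    obtain ⟨A, a, hA, hb⟩ := exists_galois_representative F X
    let PA : PointedGaloisObject F := ⟨A, a, hA⟩
    have hτ : ∀ f : A ⟶ X, τ.app X (F.map f a) = F'.map f (s PA) := by
      intro f
      show F'.map (rf X _) (s (rA X _)) = _
      exact hwd _ PA _ f (hr X _)
    constructor
    · intro x₁ x₂ hx
      obtain ⟨f₁, rfl⟩ := hb.surjective x₁
      obtain ⟨f₂, rfl⟩ := hb.surjective x₂
      simp only at hx ⊢
      rw [hτ, hτ] at hx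
      rw [map_injective_of_isConnected' F' (s PA) hx]
    · intro x'
      obtain ⟨f, hf⟩ := exists_hom_map_eq F F' a hb (s PA) x'
      exact ⟨F.map f a, by rw [hτ, hf]⟩
  have hiso : ∀ X, IsIso (τ.app X) := fun X => by
    have : IsIso (FintypeCat.incl.map (τ.app X)) := (isIso_iff_bijective _).mpr (hbij X)
    exact isIso_of_reflects_iso _ FintypeCat.incl
  have : IsIso τ := NatIso.isIso_of_isIso_app τ
  exact ⟨(asIso τ).symm⟩

end Groth.Agent.Lib.Helper24.FiberFunctorUnique
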