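import Groth.Agent.Lib.Helper14.AlgSpNoethChart
import Groth.Agent.Lib.Helper14.AlgSpFibrePt5
import Groth.Agent.Lib.Helper14.AlgSpFibre
import Groth.Agent.Lib.Helper3.Noetherian

/-!
# Locally Noetherian fibres of morphisms of algebraic spaces under field extensions (helper24)
-/

set_option autoImplicit false
universe u

open CategoryTheory CategoryTheory.Limits AlgebraicGeometry Opposite AlgSp
open Groth.Agent.Lib.Helper14.AS

namespace Groth.Agent.Lib.Helper24.FibreNoeth

variable {S : Scheme.{u}}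

theorem surjective_of_field {K L : Type u} [Field K] [Field L]
    (j : Spec (CommRingCat.of L) ⟶ Spec (CommRingCat.of K)) : Surjective j :=
  ⟨fun _ => ⟨IsLocalRing.closedPoint L, Subsingleton.elim _ _⟩⟩

set_option backward.isDefEq.respectTransparency.types false in
/-- Descent: if the fibre over a field extension `q₁` of the field point `q₀` is locally Noetherian,
so is the fibre over `q₀`. -/
theorem isLocNoethSp_fibre_of_fieldExt {X Y : Sp S} (hX : IsAlgSpace X) (hY : IsAlgSpace Y)
    (f : X ⟶ Y) (q₀ q₁ : FieldPt Y) (j : q₁.pt ⟶ q₀.pt) (hj : (yon S).map j ≫ q₀.toHom = q₁.toHom)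
    (hNoeth : ∀ ⦃P : Sp S⦄ (fst : P ⟶ X) (snd : P ⟶ (yon S).obj q₁.pt),
      IsPullback fst snd f q₁.toHom → IsLocNoethSp P)
    {Q : Sp S} (qfst : Q ⟶ X) (qsnd : Q ⟶ (yon S).obj q₀.pt)
    (hQ : IsPullback qfst qsnd f q₀.toHom) : IsLocNoethSp Q := by
  have hQs : IsAlgSpace Q :=
    isAlgSpace_of_isPullback (repDiag_of_isAlgSpace hY) hX (IsAlgSpace.yon_obj _) hQ
  obtain ⟨V, a, hae, has⟩ := hQs.atlas
  -- the fibre over q₁
  have sqP := IsPullback.of_hasPullback qsnd ((yon S).map j)
  have hP : IsLocNoethSp (Limits.pullback qsnd ((yon S).map j)) := by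
    refine hNoeth (pullback.fst _ _ ≫ qfst) (pullback.snd _ _) ?_
    rw [← hj]
    exact sqP.paste_horiz hQ
  -- the scheme V ×_{q₀} q₁
  obtain ⟨c', hc'⟩ := (yon S).map_surjective (a ≫ qsnd)
  let Ws : Over S := Over.mk (pullback.snd c'.left j.left ≫ q₁.str)
  let w2 : Ws ⟶ q₁.pt := Over.homMk (pullback.snd c'.left j.left) rfl
  let w1 : Ws ⟶ V := Over.homMk (pullback.fst c'.left j.left) (by
    have h1 := Over.w c'
    have h2 := Over.w j
    change pullback.fst c'.left j.left ≫ V.hom = pullback.snd c'.left j.left ≫ q₁.str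
    rw [← h1, ← Category.assoc, pullback.condition, Category.assoc]
    congr 1)
  have sqW : IsPullback w1 w2 c' j :=
    IsPullback.of_map (Over.forget S) (by ext; exact pullback.condition)
      (IsPullback.of_hasPullback c'.left j.left)
  have sqWY := sqW.map (yon S)
  rw [hc'] at sqWY
  -- the lift to P
  let l : (yon S).obj Ws ⟶ Limits.pullback qsnd ((yon S).map j) :=
    pullback.lift ((yon S).map w1 ≫ a) ((yon S).map w2) (by rw [Category.assoc]; exact sqWY.w)
  have hl1 : l ≫ pullback.fst _ _ = (yon S).map w1 ≫ a := pullback.lift_fst _ _ _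
  have hl2 : l ≫ pullback.snd _ _ = (yon S).map w2 := pullback.lift_snd _ _ _
  have sql : IsPullback ((yon S).map w1) l a (pullback.fst qsnd ((yon S).map j)) := by
    refine IsPullback.of_bot ?_ hl1.symm sqP
    rw [hl2]
    exact sqWY
  have hle : RepWith @Etale l := repWith_of_isPullback _ sql hae
  have hWN : IsLocallyNoetherian Ws.left := isLocallyNoetherian_of_etale_over hP l hle
  have hsurj : Surjective j.left := surjective_of_field j.left
  have hflat : Flat j.left :=
    inferInstanceAs (Flat (show Spec (CommRingCat.of q₁.K) ⟶ Spec (CommRingCat.of q₀.K) from j.left))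
  have huo : UniversallyOpen j.left :=
    inferInstanceAs (UniversallyOpen (show Spec (CommRingCat.of q₁.K) ⟶ Spec (CommRingCat.of q₀.K) from j.left))
  have : IsLocallyNoetherian (pullback c'.left j.left) := hWN
  have hVN : IsLocallyNoetherian V.left :=
    Groth.Agent.Lib.Helper3.isLocallyNoetherian_of_flat_surjective (pullback.fst c'.left j.left)
  exact ⟨V, a, hae, has, hVN⟩


set_option backward.isDefEq.respectTransparency.types false in
/-- Ascent: if the fibre over `q₀` is locally Noetherian and `q₁` is a field extension of `q₀`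
essentially of finite type, the fibre over `q₁` is locally Noetherian. -/
theorem isLocNoethSp_fibre_of_essFiniteType {X Y : Sp S}
    (f : X ⟶ Y) (q₀ q₁ : FieldPt Y) (j : q₁.pt ⟶ q₀.pt) (hj : (yon S).map j ≫ q₀.toHom = q₁.toHom)
    (φ : CommRingCat.of q₀.K ⟶ CommRingCat.of q₁.K) (hφ : φ.hom.EssFiniteType)
    (hjφ : j.left = Spec.map φ)
    (hNoeth : ∀ ⦃P : Sp S⦄ (fst : P ⟶ X) (snd : P ⟶ (yon S).obj q₀.pt),
      IsPullback fst snd f q₀.toHom → IsLocNoethSp P)
    {Q : Sp S} (qfst : Q ⟶ X) (qsnd : Q ⟶ (yon S).obj q₁.pt)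
    (hQ : IsPullback qfst qsnd f q₁.toHom) : IsLocNoethSp Q := by
  have sq₀ := IsPullback.of_hasPullback f q₀.toHom
  obtain ⟨V₀, a₀, hae, has, hN⟩ := hNoeth _ _ sq₀
  let m : Q ⟶ Limits.pullback f q₀.toHom :=
    pullback.lift qfst (qsnd ≫ (yon S).map j) (by rw [Category.assoc, hj]; exact hQ.w)
  have hm1 : m ≫ pullback.fst _ _ = qfst := pullback.lift_fst _ _ _
  have hm2 : m ≫ pullback.snd _ _ = qsnd ≫ (yon S).map j := pullback.lift_snd _ _ _
  have sqQ : IsPullback m qsnd (pullback.snd f q₀.toHom) ((yon S).map j) := by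
    refine IsPullback.of_right ?_ hm2 sq₀
    rw [hm1, hj]
    exact hQ
  obtain ⟨c', hc'⟩ := (yon S).map_surjective (a₀ ≫ pullback.snd f q₀.toHom)
  let Ws : Over S := Over.mk (pullback.snd c'.left j.left ≫ q₁.str)
  let w2 : Ws ⟶ q₁.pt := Over.homMk (pullback.snd c'.left j.left) rfl
  let w1 : Ws ⟶ V₀ := Over.homMk (pullback.fst c'.left j.left) (by
    have h1 := Over.w c'
    have h2 := Over.w j
    change pullback.fst c'.left j.left ≫ V₀.hom = pullback.snd c'.left j.left ≫ q₁.str
    rw [← h1, ← Category.assoc, pullback.condition, Category.assoc]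
    congr 1)
  have sqW : IsPullback w1 w2 c' j :=
    IsPullback.of_map (Over.forget S) (by ext; exact pullback.condition)
      (IsPullback.of_hasPullback c'.left j.left)
  have sqWY := sqW.map (yon S)
  rw [hc'] at sqWY
  let l : (yon S).obj Ws ⟶ Q :=
    sqQ.lift ((yon S).map w1 ≫ a₀) ((yon S).map w2) (by rw [Category.assoc]; exact sqWY.w)
  have hl1 : l ≫ m = (yon S).map w1 ≫ a₀ := sqQ.lift_fst _ _ _
  have hl2 : l ≫ qsnd = (yon S).map w2 := sqQ.lift_snd _ _ _
  have sql : IsPullback ((yon S).map w1) l a₀ m := by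
    refine IsPullback.of_bot ?_ hl1.symm sqQ
    rw [hl2]
    exact sqWY
  have hle : RepWith @Etale l := repWith_of_isPullback _ sql hae
  have hls : RepWith @Surjective l := repWith_of_isPullback _ sql has
  have hpb : IsPullback (pullback.fst c'.left j.left) (pullback.snd c'.left j.left) c'.left
      (Spec.map φ) := hjφ ▸ IsPullback.of_hasPullback c'.left j.left
  have hWN : IsLocallyNoetherian Ws.left :=
    Groth.Agent.Lib.Helper3.isLocallyNoetherian_of_isPullback_essFiniteType φ hφ _ _ _ hpb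
  exact ⟨Ws, l, hle, hls, hWN⟩


set_option backward.isDefEq.respectTransparency.types false in
/-- S10803: a locally Noetherian fibre over one representative gives locally Noetherian fibres over
points of étale charts. -/
theorem isLocNoethSp_fibre_etale_chart {X Y : Sp S} (hX : IsAlgSpace X) (hY : IsAlgSpace Y)
    (f : X ⟶ Y) (y : Points Y) (p : FieldPt Y) (hp : Points.mk p = y)
    (hNoeth : ∀ ⦃P : Sp S⦄ (fst : P ⟶ X) (snd : P ⟶ (yon S).obj p.pt),
      IsPullback fst snd f p.toHom → IsLocNoethSp P)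
    (V : Over S) (b : (yon S).obj V ⟶ Y) (hb : RepWith @Etale b) (v : ↥V.left)
    (hv : Points.ofPt b v = y)
    {Q : Sp S} (qfst : Q ⟶ X) (qsnd : Q ⟶ (yon S).obj (FieldPt.ofPt b v).pt)
    (hQ : IsPullback qfst qsnd f (FieldPt.ofPt b v).toHom) : IsLocNoethSp Q := by
  have hrep := hb.rep
  have sq := hrep.isPullback' p.toHom
  set T := hrep.pullback p.toHom with hT
  set sT : T ⟶ V := hrep.fst' p.toHom with hsT
  set cT : T ⟶ p.pt := hrep.snd p.toHom with hcT
  have hcTe : Etale cT.left := hb.property_snd p.toHom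
  obtain ⟨t, ht1, -⟩ := exists_point_of_isPullback_yon sq v
    (IsLocalRing.closedPoint p.K : ↥(Spec (CommRingCat.of p.K)))
    (by rw [hv, Points.ofPt_toHom, hp])
  subst ht1
  -- the common extension
  let q₁ : FieldPt Y := FieldPt.ofPt ((yon S).map sT ≫ b) t
  have hq₁ : q₁.toHom = (yon S).map (Over.homMk (T.left.fromSpecResidueField t) rfl) ≫
      (yon S).map sT ≫ b := FieldPt.toHom_ofPt _ _
  let ιt : q₁.pt ⟶ T := Over.homMk (T.left.fromSpecResidueField t) rfl
  let j₁ : q₁.pt ⟶ p.pt := ιt ≫ cT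
  have hj₁ : (yon S).map j₁ ≫ p.toHom = q₁.toHom := by
    rw [hq₁, Functor.map_comp, Category.assoc, ← sq.w]
  -- fibre over q₁ is locally Noetherian
  let x : ↥(Spec (CommRingCat.of p.K)) := cT.left t
  let φ₁ : CommRingCat.of p.K ⟶ CommRingCat.of q₁.K :=
    CommRingCat.ofHom (algebraMap p.K x.asIdeal.ResidueField) ≫
      (Scheme.Spec.residueFieldIso (CommRingCat.of p.K) x).inv ≫ cT.left.residueFieldMap t
  have hφ₁ : φ₁.hom.EssFiniteType := by
    have h1 : (algebraMap p.K x.asIdeal.ResidueField).EssFiniteType := by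
      rw [RingHom.essFiniteType_algebraMap]
      infer_instance
    have h2 : ((Scheme.Spec.residueFieldIso (CommRingCat.of p.K) x).inv).hom.EssFiniteType :=
      RingHom.FiniteType.essFiniteType (RingHom.FiniteType.of_surjective _
        (ConcreteCategory.bijective_of_isIso _).2)
    have h3 : (cT.left.residueFieldMap t).hom.EssFiniteType :=
      Groth.Agent.Lib.Helper3.essFiniteType_residueFieldMap cT.left t
    exact (h1.comp h2).comp h3
  have hjφ : j₁.left = Spec.map φ₁ := by
    change T.left.fromSpecResidueField t ≫ cT.left = _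
    rw [Spec.map_comp, Spec.map_comp, ← Scheme.Hom.SpecMap_residueFieldMap_fromSpecResidueField,
      Category.assoc, Scheme.Spec.map_residueFieldIso_inv_eq_fromSpecResidueField]
    rfl
  have hN₁ : ∀ ⦃P : Sp S⦄ (fst : P ⟶ X) (snd : P ⟶ (yon S).obj q₁.pt),
      IsPullback fst snd f q₁.toHom → IsLocNoethSp P := fun P fst snd h =>
    isLocNoethSp_fibre_of_essFiniteType f p q₁ j₁ hj₁ φ₁ hφ₁ hjφ hNoeth fst snd h
  -- descend to κ(v)
  let j₀ : q₁.pt ⟶ (FieldPt.ofPt b (sT.left t)).pt :=
    Over.homMk (Spec.map (sT.left.residueFieldMap t)) (by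
      have h1 := Over.w sT
      change Spec.map (sT.left.residueFieldMap t) ≫ V.left.fromSpecResidueField (sT.left t) ≫ V.hom =
        T.left.fromSpecResidueField t ≫ T.hom
      rw [Scheme.Hom.SpecMap_residueFieldMap_fromSpecResidueField_assoc, ← h1])
  have hj₀ : (yon S).map j₀ ≫ (FieldPt.ofPt b (sT.left t)).toHom = q₁.toHom := by
    rw [hq₁, FieldPt.toHom_ofPt, ← Category.assoc, ← Category.assoc, ← Functor.map_comp,
      ← Functor.map_comp]
    congr 2
    ext
    exact Scheme.Hom.SpecMap_residueFieldMap_fromSpecResidueField sT.left t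
  exact isLocNoethSp_fibre_of_fieldExt hX hY f _ q₁ j₀ hj₀ hN₁ qfst qsnd hQ

end Groth.Agent.Lib.Helper24.FibreNoeth
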