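import Groth.Agent.Lib.Helper24.FibreNoeth
import Groth.Agent.Lib.Helper24.UnivBdd
import Groth.Agent.Lib.Helper14.AlgSpOnePt
import Groth.Agent.Lib.Helper14.ReducedEtale

/-!
# Reduced fibres of morphisms of algebraic spaces under field extensions (helper24)
-/

set_option autoImplicit false
universe u

open CategoryTheory CategoryTheory.Limits AlgebraicGeometry Opposite AlgSp
open Groth.Agent.Lib.Helper14.AS Groth.Agent.Lib.Helper24.FibreNoeth Groth.Agent.Lib.Helper24.UnivBdd

namespace Groth.Agent.Lib.Helper24.FibreRed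

variable {S : Scheme.{u}}

set_option backward.isDefEq.respectTransparency.types false in
/-- Descent: if the fibre over a field extension `q₁` of the field point `q₀` is reduced,
so is the fibre over `q₀`. -/
theorem isReducedSp_fibre_of_fieldExt {X Y : Sp S} (hX : IsAlgSpace X) (hY : IsAlgSpace Y)
    (f : X ⟶ Y) (q₀ q₁ : FieldPt Y) (j : q₁.pt ⟶ q₀.pt) (hj : (yon S).map j ≫ q₀.toHom = q₁.toHom)
    (hRed : ∀ ⦃P : Sp S⦄ (fst : P ⟶ X) (snd : P ⟶ (yon S).obj q₁.pt),
      IsPullback fst snd f q₁.toHom → IsReducedSp P)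
    {Q : Sp S} (qfst : Q ⟶ X) (qsnd : Q ⟶ (yon S).obj q₀.pt)
    (hQ : IsPullback qfst qsnd f q₀.toHom) : IsReducedSp Q := by
  have hQs : IsAlgSpace Q :=
    isAlgSpace_of_isPullback (repDiag_of_isAlgSpace hY) hX (IsAlgSpace.yon_obj _) hQ
  obtain ⟨V, a, hae, has⟩ := hQs.atlas
  have sqP := IsPullback.of_hasPullback qsnd ((yon S).map j)
  have hP : IsReducedSp (Limits.pullback qsnd ((yon S).map j)) := by
    refine hRed (pullback.fst _ _ ≫ qfst) (pullback.snd _ _) ?_
    rw [← hj]
    exact sqP.paste_horiz hQ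
  obtain ⟨c', hc'⟩ := (yon S).map_surjective (a ≫ qsnd)
  let Ws : Over S := Over.mk (pullback.snd c'.left j.left ≫ q₁.str)
  let w2 : Ws ⟶ q₁.pt := Over.homMk (pullback.snd c'.left j.left) rfl
  let w1 : Ws ⟶ V := Over.homMk (pullback.fst c'.left j.left) (by
    have h1 := Over.w c'
    have h2 := Over.w j
    change pullback.fst c'.left j.left ≫ V.hom = pullback.snd c'.left j.left ≫ q₁.str
    rw [← h1, ← Category.assoc, pullback.condition, Category.assoc]
    congr 1)
  have sqW : IsPullback w1 w2 c' j :=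
    IsPullback.of_map (Over.forget S) (by ext; exact pullback.condition)
      (IsPullback.of_hasPullback c'.left j.left)
  have sqWY := sqW.map (yon S)
  rw [hc'] at sqWY
  let l : (yon S).obj Ws ⟶ Limits.pullback qsnd ((yon S).map j) :=
    pullback.lift ((yon S).map w1 ≫ a) ((yon S).map w2) (by rw [Category.assoc]; exact sqWY.w)
  have hl1 : l ≫ pullback.fst _ _ = (yon S).map w1 ≫ a := pullback.lift_fst _ _ _
  have hl2 : l ≫ pullback.snd _ _ = (yon S).map w2 := pullback.lift_snd _ _ _
  have sql : IsPullback ((yon S).map w1) l a (pullback.fst qsnd ((yon S).map j)) := by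
    refine IsPullback.of_bot ?_ hl1.symm sqP
    rw [hl2]
    exact sqWY
  have hle : RepWith @Etale l := repWith_of_isPullback _ sql hae
  have hWN : IsReduced Ws.left := isReduced_of_etale_chart hP l hle
  have hsurj : Surjective j.left := surjective_of_field j.left
  have hflat : Flat j.left :=
    inferInstanceAs (Flat (show Spec (CommRingCat.of q₁.K) ⟶ Spec (CommRingCat.of q₀.K) from j.left))
  have : IsReduced (pullback c'.left j.left) := hWN
  have hVN : IsReduced V.left := Groth.Agent.Lib.Helper14.isReduced_of_flat_surjective (pullback.fst c'.left j.left)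
  exact ⟨V, a, hae, has, hVN⟩

set_option backward.isDefEq.respectTransparency.types false in
/-- Transport of the "geometric" fibre condition to a field point which is an extension. -/
theorem fibre_of_ext {X Y : Sp S} (f : X ⟶ Y) (Pr : Sp S → Prop) (q q' : FieldPt Y)
    (j : q'.pt ⟶ q.pt) (hj : (yon S).map j ≫ q.toHom = q'.toHom)
    (hG : ∀ (k' : Type u) [Field k'] (φ : q.K →+* k') (Xk' : Sp S) (a : Xk' ⟶ X)
      (b : Xk' ⟶ (yon S).obj (Over.mk (Spec.map (CommRingCat.ofHom φ) ≫ q.str))),
      IsPullback a b f ((yon S).map (Over.homMk (Spec.map (CommRingCat.ofHom φ)) rfl :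
        Over.mk (Spec.map (CommRingCat.ofHom φ) ≫ q.str) ⟶ q.pt) ≫ q.toHom) → Pr Xk')
    {Q : Sp S} (a : Q ⟶ X) (b : Q ⟶ (yon S).obj q'.pt) (hQ : IsPullback a b f q'.toHom) : Pr Q := by
  let ψ : CommRingCat.of q.K ⟶ CommRingCat.of q'.K := Spec.preimage j.left
  have hψ : Spec.map (CommRingCat.ofHom ψ.hom) = j.left := Spec.map_preimage j.left
  have hstr : q'.str = Spec.map (CommRingCat.ofHom ψ.hom) ≫ q.str := by
    rw [hψ]; exact (Over.w j).symm
  let ε : q'.pt ≅ Over.mk (Spec.map (CommRingCat.ofHom ψ.hom) ≫ q.str) :=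
    Over.isoMk (Iso.refl _) (by
      change 𝟙 _ ≫ (Spec.map (CommRingCat.ofHom ψ.hom) ≫ q.str) = q'.str
      rw [Category.id_comp, hstr])
  have hεj : ε.inv ≫ j = (Over.homMk (Spec.map (CommRingCat.ofHom ψ.hom)) rfl :
      Over.mk (Spec.map (CommRingCat.ofHom ψ.hom) ≫ q.str) ⟶ q.pt) := by
    ext
    change 𝟙 _ ≫ j.left = Spec.map (CommRingCat.ofHom ψ.hom)
    rw [Category.id_comp, hψ]
  refine hG q'.K ψ.hom Q a (b ≫ (yon S).map ε.hom) ?_
  rw [← hεj, Functor.map_comp, Category.assoc, hj]
  have hiso : IsPullback (𝟙 Q) (b ≫ (yon S).map ε.hom) b ((yon S).map ε.inv) := by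
    refine IsPullback.of_horiz_isIso ⟨?_⟩
    rw [Category.id_comp, Category.assoc, ← Functor.map_comp, ε.hom_inv_id,
      CategoryTheory.Functor.map_id, Category.comp_id]
  have := hiso.paste_horiz hQ
  rwa [Category.id_comp] at this

end Groth.Agent.Lib.Helper24.FibreRed
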