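import Groth.Agent.Lib.Helper24.FreeAct
import Groth.Agent.Lib.Helper14.AlgSpBasic2
set_option autoImplicit false
set_option linter.unusedSectionVars false
universe u
open CategoryTheory CategoryTheory.Limits AlgebraicGeometry Opposite

/-! Coincidence loci of two lifts `T ⇉ U` of a map to a sheaf along an étale separated chart. -/

namespace Groth.Agent.Lib.Helper24.Filt1
open AlgSp Groth.Agent.Lib.Helper14.AS Groth.Agent.Lib.Helper24.FreeAct

variable {S : Scheme.{u}} {U : Over S}

/-- the residue point of a scheme over `S` -/
noncomputable abbrev ptOver (T : Over S) (t : T.left) : Over S :=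
  Over.mk (T.left.fromSpecResidueField t ≫ T.hom)

noncomputable abbrev ptHom (T : Over S) (t : T.left) : ptOver T t ⟶ T :=
  Over.homMk (T.left.fromSpecResidueField t) rfl

/-- two morphisms agree at a point (as morphisms from the spectrum of the residue field) -/
def EqAt {T : Over S} (u u' : T ⟶ U) (t : T.left) : Prop :=
  T.left.fromSpecResidueField t ≫ u.left = T.left.fromSpecResidueField t ≫ u'.left

theorem EqAt.refl {T : Over S} (u : T ⟶ U) (t : T.left) : EqAt u u t := rfl

theorem EqAt.symm {T : Over S} {u u' : T ⟶ U} {t : T.left} (h : EqAt u u' t) : EqAt u' u t :=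
  Eq.symm h

theorem EqAt.trans {T : Over S} {u u' u'' : T ⟶ U} {t : T.left} (h : EqAt u u' t)
    (h' : EqAt u' u'' t) : EqAt u u'' t := Eq.trans h h'

theorem eqAt_iff_ptHom {T : Over S} (u u' : T ⟶ U) (t : T.left) :
    EqAt u u' t ↔ ptHom T t ≫ u = ptHom T t ≫ u' := by
  constructor
  · intro h
    ext1
    exact h
  · intro h
    exact congrArg CommaMorphism.left h

theorem eqAt_comp_iff {T T' : Over S} (g : T' ⟶ T) (u u' : T ⟶ U) (t' : T'.left) :
    EqAt (g ≫ u) (g ≫ u') t' ↔ EqAt u u' (g.left t') := by
  have h1 := Scheme.Hom.SpecMap_residueFieldMap_fromSpecResidueField g.left t'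
  have hepi : Epi (Spec.map (g.left.residueFieldMap t')) :=
    epi_spec_map_of_field (Field.toIsField _) (Field.toIsField _) _
  unfold EqAt
  rw [Over.comp_left, Over.comp_left, ← Category.assoc, ← Category.assoc, ← h1, Category.assoc,
    Category.assoc, cancel_epi]

variable {X : Sp S} (a : (yon S).obj U ⟶ X)

/-- the coincidence locus of two lifts of the same map to `X` -/
theorem exists_eqLocus (hΔo : RepWith @IsOpenImmersion (pullback.diagonal a))
    (hΔc : RepWith @IsClosedImmersion (pullback.diagonal a)) {T : Over S} (u u' : T ⟶ U)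
    (h : (yon S).map u ≫ a = (yon S).map u' ≫ a) :
    ∃ E : T.left.Opens, IsClosed (E : Set T.left) ∧ (∀ t, t ∈ E ↔ EqAt u u' t) ∧
      E.ι ≫ u.left = E.ι ≫ u'.left := by
  let r : (yon S).obj T ⟶ pullback a a := pullback.lift ((yon S).map u) ((yon S).map u') h
  have hr := hΔo.rep
  have sqE := hr.isPullback r
  have hko : IsOpenImmersion (hr.snd r).left := hΔo.property_snd r
  have hkc : IsClosedImmersion (hr.snd r).left := hΔc.property r _ _ sqE
  have hku : hr.snd r ≫ u = hr.snd r ≫ u' := by
    apply (yon S).map_injective
    have e1 := congrArg (· ≫ pullback.fst a a) sqE.w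
    have e2 := congrArg (· ≫ pullback.snd a a) sqE.w
    simp only [Category.assoc, pullback.diagonal_fst, pullback.diagonal_snd, Category.comp_id, r,
      pullback.lift_fst, pullback.lift_snd] at e1 e2
    rw [Functor.map_comp, Functor.map_comp, ← e1, ← e2]
  have hkul : (hr.snd r).left ≫ u.left = (hr.snd r).left ≫ u'.left :=
    congrArg CommaMorphism.left hku
  refine ⟨(hr.snd r).left.opensRange, ?_, ?_, ?_⟩
  · exact (hr.snd r).left.isClosedEmbedding.isClosed_range
  · intro t
    constructor
    · rintro ⟨e, rfl⟩
      rw [← eqAt_comp_iff (hr.snd r) u u' e, hku]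
      exact EqAt.refl _ _
    · intro ht
      rw [eqAt_iff_ptHom] at ht
      have e1 : (yon S).map (ptHom T t) ≫ r =
          (yon S).map (ptHom T t ≫ u) ≫ pullback.diagonal a := by
        apply pullback.hom_ext
        · simp only [Category.assoc, pullback.diagonal_fst, Category.comp_id, r, pullback.lift_fst,
            Functor.map_comp]
        · simp only [Category.assoc, pullback.diagonal_snd, Category.comp_id, r, pullback.lift_snd]
          rw [ht, Functor.map_comp]
      obtain ⟨l, hl⟩ := (yon S).map_surjective (sqE.lift _ _ e1.symm)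
      have hl2 : l ≫ hr.snd r = ptHom T t := by
        apply (yon S).map_injective
        rw [Functor.map_comp, hl, sqE.lift_snd]
      have hl3 : l.left ≫ (hr.snd r).left = T.left.fromSpecResidueField t :=
        congrArg CommaMorphism.left hl2
      let pt : Spec (T.left.residueField t) := IsLocalRing.closedPoint _
      refine ⟨l.left pt, ?_⟩
      rw [← Scheme.Hom.comp_apply, hl3, Scheme.fromSpecResidueField_apply]
  · rw [← cancel_epi (hr.snd r).left.isoOpensRange.hom]
    simp only [← Category.assoc, Scheme.Hom.isoOpensRange_hom_ι]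
    exact hkul

end Groth.Agent.Lib.Helper24.Filt1
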