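import Groth.Agent.Lib.Helper24.Filt1
import Groth.Agent.Lib.Helper24.ZarGlue
set_option autoImplicit false
set_option linter.unusedSectionVars false
set_option linter.unusedVariables false
universe u
open CategoryTheory CategoryTheory.Limits AlgebraicGeometry Opposite

/-! Tuples of pairwise apart lifts along an étale separated chart, and the schemes representing
them. -/

namespace Groth.Agent.Lib.Helper24.Filt2
open AlgSp Groth.Agent.Lib.Helper14.AS Groth.Agent.Lib.Helper24.Filt1 Groth.Agent.Lib.Helper24.ZarGlue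

variable {S : Scheme.{u}} {U : Over S} {X : Sp S} (a : (yon S).obj U ⟶ X)

/-- tuples of pairwise apart lifts of a common map to `X` -/
structure Tup (ι : Type) (T : Over S) where
  u : ι → (T ⟶ U)
  compat : ∀ i j, (yon S).map (u i) ≫ a = (yon S).map (u j) ≫ a
  apart : ∀ i j, i ≠ j → ∀ t : T.left, ¬ EqAt (u i) (u j) t

namespace Tup
variable {a} {ι : Type} {T T' T'' : Over S}

theorem ext' {τ τ' : Tup a ι T} (h : ∀ i, τ.u i = τ'.u i) : τ = τ' := by
  cases τ; cases τ'
  congr
  funext i
  exact h i

/-- pullback of tuples -/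
def map (g : T' ⟶ T) (τ : Tup a ι T) : Tup a ι T' where
  u i := g ≫ τ.u i
  compat i j := by
    rw [Functor.map_comp, Functor.map_comp, Category.assoc, Category.assoc, τ.compat i j]
  apart i j hij t' h := τ.apart i j hij (g.left t') ((eqAt_comp_iff g _ _ t').1 h)

@[simp] theorem map_u (g : T' ⟶ T) (τ : Tup a ι T) (i : ι) : (τ.map g).u i = g ≫ τ.u i := rfl

theorem map_comp (g' : T'' ⟶ T') (g : T' ⟶ T) (τ : Tup a ι T) :
    τ.map (g' ≫ g) = (τ.map g).map g' :=
  ext' fun i => Category.assoc _ _ _

theorem map_id (τ : Tup a ι T) : τ.map (𝟙 T) = τ := ext' fun i => Category.id_comp _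

/-- the common map to `X` -/
def base [Inhabited ι] (τ : Tup a ι T) : (yon S).obj T ⟶ X := (yon S).map (τ.u default) ≫ a

theorem base_eq [Inhabited ι] (τ : Tup a ι T) (i : ι) : τ.base = (yon S).map (τ.u i) ≫ a :=
  τ.compat default i

theorem base_map [Inhabited ι] (g : T' ⟶ T) (τ : Tup a ι T) :
    (τ.map g).base = (yon S).map g ≫ τ.base := by
  unfold base
  rw [map_u, Functor.map_comp, Category.assoc]

/-- the action of permutations -/
def perm (σ : Equiv.Perm ι) (τ : Tup a ι T) : Tup a ι T where
  u i := τ.u (σ.symm i)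
  compat i j := τ.compat _ _
  apart i j hij := τ.apart _ _ fun h => hij (σ.symm.injective h)

@[simp] theorem perm_u (σ : Equiv.Perm ι) (τ : Tup a ι T) (i : ι) : (τ.perm σ).u i = τ.u (σ.symm i) :=
  rfl

theorem perm_map (σ : Equiv.Perm ι) (g : T' ⟶ T) (τ : Tup a ι T) :
    (τ.map g).perm σ = (τ.perm σ).map g := ext' fun _ => rfl

theorem perm_one (τ : Tup a ι T) : τ.perm 1 = τ := ext' fun _ => rfl

theorem perm_mul (σ σ' : Equiv.Perm ι) (τ : Tup a ι T) : (τ.perm σ').perm σ = τ.perm (σ * σ') :=
  ext' fun _ => rfl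

theorem perm_base [Inhabited ι] (σ : Equiv.Perm ι) (τ : Tup a ι T) : (τ.perm σ).base = τ.base :=
  ((τ.perm σ).base_eq default).trans (τ.base_eq _).symm

/-- restriction of a tuple to the old indices -/
def old (τ : Tup a (Option ι) T) : Tup a ι T where
  u i := τ.u (some i)
  compat i j := τ.compat _ _
  apart i j hij := τ.apart _ _ fun h => hij (Option.some_injective _ h)

@[simp] theorem old_u (τ : Tup a (Option ι) T) (i : ι) : τ.old.u i = τ.u (some i) := rfl

theorem old_map (g : T' ⟶ T) (τ : Tup a (Option ι) T) : (τ.map g).old = τ.old.map g :=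
  ext' fun _ => rfl

theorem old_base [Inhabited ι] (τ : Tup a (Option ι) T) : τ.old.base = τ.base :=
  (τ.old.base_eq default).trans (τ.base_eq _).symm

/-- extension of a tuple by a new lift apart from the old ones -/
def cons (τ : Tup a ι T) (v : T ⟶ U) (hv : ∀ i, (yon S).map v ≫ a = (yon S).map (τ.u i) ≫ a)
    (hap : ∀ i (t : T.left), ¬ EqAt v (τ.u i) t) : Tup a (Option ι) T where
  u o := o.elim v τ.u
  compat i j := by
    cases i with
    | none => cases j with
      | none => rfl
      | some j => exact hv j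
    | some i => cases j with
      | none => exact (hv i).symm
      | some j => exact τ.compat i j
  apart i j hij t := by
    cases i with
    | none => cases j with
      | none => exact absurd rfl hij
      | some j => exact hap j t
    | some i => cases j with
      | none => exact fun h => hap i t h.symm
      | some j => exact τ.apart i j (fun h => hij (congrArg some h)) t

@[simp] theorem cons_none (τ : Tup a ι T) (v : T ⟶ U) (hv) (hap) : (τ.cons v hv hap).u none = v := rfl
@[simp] theorem cons_some (τ : Tup a ι T) (v : T ⟶ U) (hv) (hap) (i : ι) :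
    (τ.cons v hv hap).u (some i) = τ.u i := rfl

end Tup

/-- `(W, υ)` represents the functor of tuples -/
structure IsRep (ι : Type) (W : Over S) (υ : Tup a ι W) : Prop where
  bij : ∀ T : Over S, Function.Bijective (fun g : T ⟶ W => υ.map g)

/-- the set of points of `X` over which a tuple exists -/
def Om (ι : Type) [Inhabited ι] : Set (Points X) :=
  {x | ∃ (T : Over S) (t : T.left) (τ : Tup a ι T), Points.ofPt τ.base t = x}

variable {a}

theorem range_ofPt_base {ι : Type} [Inhabited ι] {W : Over S} {υ : Tup a ι W} (h : IsRep a ι W υ) :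
    Set.range (Points.ofPt υ.base) = Om a ι := by
  apply Set.Subset.antisymm
  · rintro _ ⟨w, rfl⟩
    exact ⟨W, w, υ, rfl⟩
  · rintro _ ⟨T, t, τ, rfl⟩
    obtain ⟨g, rfl⟩ := (h.bij T).2 τ
    refine ⟨g.left t, ?_⟩
    change _ = Points.ofPt (υ.map g).base t
    rw [Tup.base_map, ofPt_yon_map_comp]

theorem om_option_subset {ι : Type} [Inhabited ι] : Om a (Option ι) ⊆ Om a ι := by
  rintro _ ⟨T, t, τ, rfl⟩
  exact ⟨T, t, τ.old, by rw [Tup.old_base]⟩

theorem exists_lift_resOpen {T D : Over S} (d : T ⟶ D) (O : D.left.Opens)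
    (h : ∀ t, d.left t ∈ O) : ∃ g : T ⟶ resOpen D O, g ≫ resOpenι D O = d := by
  have hr : Set.range d.left ⊆ Set.range O.ι := by
    rw [Scheme.Opens.range_ι]
    rintro _ ⟨t, rfl⟩
    exact h t
  refine ⟨Over.homMk (IsOpenImmersion.lift O.ι d.left hr) ?_, ?_⟩
  · change IsOpenImmersion.lift O.ι d.left hr ≫ O.ι ≫ D.hom = T.hom
    rw [← Category.assoc, IsOpenImmersion.lift_fac]
    exact Over.w d
  · ext1
    exact IsOpenImmersion.lift_fac _ _ _

end Groth.Agent.Lib.Helper24.Filt2
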