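import Groth.Agent.S10235
import Groth.Agent.S10236
import Groth.Prelude.Def_AlgSpMor5
import Groth.Agent.Lib.Helper24.GrpdEqv
import Groth.Agent.Lib.Helper24.QuotBridge
import Groth.Agent.Lib.Helper14.SheafQuot
import Groth.Agent.Lib.Helper8.AlgSpPres
import Groth.Agent.Lib.Helper14.AlgSpBase
set_option autoImplicit false
universe u
open CategoryTheory CategoryTheory.Limits AlgebraicGeometry Opposite

/-! A sheaf admitting a finite locally free surjective chart from a scheme in which every finite
set of points lies in an affine open is a scheme. -/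

namespace Groth.Agent.Lib.Helper24.FinQuotRep
open AlgSp QuotSh Groth.Agent.Lib.Helper14.AS Groth.Agent.Lib.Helper24.QuotBridge
open Groth.Agent.Lib.Helper24.GrpdEqv

variable {S : Scheme.{u}}

theorem finLocFree_le_flat : (finLocFree : MorphismProperty Scheme.{u}) ≤ @Flat :=
  fun _ _ _ h => h.2.1

theorem finLocFree_le_lfp : (finLocFree : MorphismProperty Scheme.{u}) ≤ @LocallyOfFinitePresentation :=
  fun _ _ _ h => h.2.2

theorem finLocFree_le_finite : (finLocFree : MorphismProperty Scheme.{u}) ≤ @IsFinite :=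
  fun _ _ _ h => h.1

theorem epi_of_finLocFree_surjective {F G : Sp S} (q : F ⟶ G)
    (hq : RepWith finLocFree q) (hs : RepWith @Surjective q) : Epi q :=
  (Sheaf.isLocallySurjective_iff_epi _).1
    (isLocallySurjective_of_repWith q (repWith_mono finLocFree_le_flat hq)
      (repWith_mono finLocFree_le_lfp hq) hs)

set_option backward.isDefEq.respectTransparency.types false in
theorem exists_scheme_quotient {Y : Sp S} {U : Over S} (q : (yon S).obj U ⟶ Y)
    (hq : RepWith finLocFree q) (hs : RepWith @Surjective q)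
    (hfin : ∀ E : Set U.left, E.Finite → ∃ W : U.left.Opens, IsAffineOpen W ∧ E ⊆ W) :
    ∃ (M : Over S) (m : U ⟶ M) (e : (yon S).obj M ≅ Y),
      Mor2.IsFinLocFree m.left ∧ (yon S).map m ≫ e.hom = q ∧
        (U.left.IsSeparated → M.left.IsSeparated) ∧
        (QuasiSeparatedSpace ↥U.left → QuasiSeparatedSpace ↥M.left) := by
  have hr := hq.rep
  let R : Over S := hr.pullback q
  let t : R ⟶ U := hr.fst' q
  let s : R ⟶ U := hr.snd q
  have sq : IsPullback ((yon S).map t) ((yon S).map s) q q := hr.isPullback' q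
  have heq : IsEqvRel s t := Groth.Agent.Lib.Helper8.AlgSpPres.isEqvRel_of_isPullback s t q sq
  have hs' : Mor2.IsFinLocFree s.left := hq.property_snd q
  have ht' : Mor2.IsFinLocFree t.left := hq.property q ((yon S).map s) t sq.flip
  have h3 : ∀ Z : Set ↥(eqvGroupoid s t heq).U, IsClosed Z → Z.Nonempty →
      ∃ u ∈ Z, ∃ W : (eqvGroupoid s t heq).U.Opens, IsAffineOpen W ∧
        ∀ r : ↥(eqvGroupoid s t heq).R, (eqvGroupoid s t heq).s r = u → (eqvGroupoid s t heq).t r ∈ W := by
    rintro Z - ⟨u, hu⟩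
    have : IsFinite s.left := hs'.1
    obtain ⟨W, hW, hEW⟩ := hfin (t.left '' (s.left ⁻¹' {u}))
      ((Scheme.Hom.finite_preimage_singleton s.left u).image _)
    exact ⟨u, hu, W, hW, fun r hr => hEW ⟨r, hr, rfl⟩⟩
  obtain ⟨M, m₀, hm, hpb, hquot⟩ := Groth.Agent.S10235.result (eqvGroupoid s t heq) hs' ht' heq h3
  have h236 := Groth.Agent.S10236.result (eqvGroupoid s t heq) hs' ht' heq h3 M m₀ hm hpb hquot
  let m : U ⟶ M := m₀
  have hquot' : QuotSh.IsQuotient Scheme.fppfPrecoverage s t m := hquot
  obtain ⟨w, hiso⟩ := hquot'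
  have w' : (yon S).map s ≫ q = (yon S).map t ≫ q := sq.w.symm
  have hepi : Epi q := epi_of_finLocFree_surjective q hq hs
  have hlift : pullback.lift ((yon S).map t) ((yon S).map s) w'.symm = sq.isoPullback.hom := by
    apply pullback.hom_ext
    · rw [pullback.lift_fst, IsPullback.isoPullback_hom_fst]
    · rw [pullback.lift_snd, IsPullback.isoPullback_hom_snd]
  have hepi2 : Epi (pullback.lift ((yon S).map t) ((yon S).map s) w'.symm) := by
    rw [hlift]; infer_instance
  have hiso3 : IsIso (quotSpDesc q w') := isIso_quotSpDesc _ _ q w'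
  let m' : U ⟶ M := m
  have h5 : quotDesc Scheme.fppfPrecoverage m w ≫ inv (quotDesc Scheme.fppfPrecoverage m w) = 𝟙 _ :=
    IsIso.hom_inv_id _
  let e : (yon S).obj M ≅ Y :=
    (repIsoUliftYoneda Scheme.fppfPrecoverage M).symm ≪≫ (asIso (quotDesc Scheme.fppfPrecoverage m w)).symm ≪≫
      (quotIso s t).symm ≪≫ asIso (quotSpDesc q w')
  refine ⟨M, m', e, hm, ?_, h236.2.2.2, h236.2.1⟩
  have h1 : (yon S).map m' ≫ (repIsoUliftYoneda Scheme.fppfPrecoverage M).inv =
      (repIsoUliftYoneda Scheme.fppfPrecoverage U).inv ≫ repMap Scheme.fppfPrecoverage m' :=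
    repIso_inv_naturality m'
  have h2 : quotπ Scheme.fppfPrecoverage s t ≫ quotDesc Scheme.fppfPrecoverage m w =
      repMap Scheme.fppfPrecoverage m' := coequalizer.π_desc _ _
  have h3' : (yon S).map m' ≫ (repIsoUliftYoneda Scheme.fppfPrecoverage M).inv ≫
      inv (quotDesc Scheme.fppfPrecoverage m w) = π' s t := by
    rw [← Category.assoc, h1, ← h2, Category.assoc, Category.assoc, h5, Category.comp_id]
    rfl
  have h4 : π' s t ≫ (quotIso s t).inv = quotSpπ ((yon S).map s) ((yon S).map t) := by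
    rw [← quotSpπ_quotIso_hom, Category.assoc, Iso.hom_inv_id, Category.comp_id]
  change (yon S).map m' ≫ (repIsoUliftYoneda Scheme.fppfPrecoverage M).inv ≫
      inv (quotDesc Scheme.fppfPrecoverage m w) ≫ (quotIso s t).inv ≫ quotSpDesc q w' = q
  rw [← Category.assoc, ← Category.assoc, Category.assoc ((yon S).map m'), h3', ← Category.assoc, h4,
    quotSpπ_desc]

end Groth.Agent.Lib.Helper24.FinQuotRep
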