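import Mathlib
set_option autoImplicit false
universe u
open CategoryTheory CategoryTheory.Limits AlgebraicGeometry Opposite

/-! A finite coproduct of finite morphisms is finite. -/

namespace Groth.Agent.Lib.Helper24.FinSigma2

variable {X : Scheme.{u}}

/-- the coproduct over `Option α` as a binary coproduct -/
noncomputable abbrev optionCofan {α : Type u} (Y : Option α → Scheme.{u}) : Cofan Y :=
  Cofan.mk ((∐ fun i : α => Y (some i)) ⨿ Y none)
    (fun o => match o with
      | none => coprod.inr
      | some i => Sigma.ι (fun i : α => Y (some i)) i ≫ coprod.inl)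

noncomputable abbrev optionCofanIsColimit {α : Type u} (Y : Option α → Scheme.{u}) :
    IsColimit (optionCofan Y) :=
  Cofan.IsColimit.mk _
    (fun s => coprod.desc (Sigma.desc fun i => s.inj (some i)) (s.inj none))
    (fun s o => by
      cases o with
      | none =>
        change coprod.inr ≫ coprod.desc (Sigma.desc fun i => s.inj (some i)) (s.inj none) = _
        rw [coprod.inr_desc]
      | some i =>
        change (Sigma.ι (fun i : α => Y (some i)) i ≫ coprod.inl) ≫
          coprod.desc (Sigma.desc fun i => s.inj (some i)) (s.inj none) = _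
        rw [Category.assoc, coprod.inl_desc, Sigma.ι_desc])
    (fun s m hm => by
      have hs : ∀ i, (Sigma.ι (fun i : α => Y (some i)) i ≫ coprod.inl) ≫
          (m : (∐ fun i : α => Y (some i)) ⨿ Y none ⟶ s.pt) = s.inj (some i) := fun i => hm (some i)
      have hn : coprod.inr ≫ (m : (∐ fun i : α => Y (some i)) ⨿ Y none ⟶ s.pt) = s.inj none :=
        hm none
      change (m : (∐ fun i : α => Y (some i)) ⨿ Y none ⟶ s.pt) = _
      apply coprod.hom_ext
      · apply Sigma.hom_ext
        intro i
        rw [coprod.inl_desc, Sigma.ι_desc, ← Category.assoc, hs]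
      · rw [coprod.inr_desc, hn])

theorem isFinite_sigmaDesc {ι : Type u} [Finite ι] :
    ∀ {Y : ι → Scheme.{u}} (f : ∀ i, Y i ⟶ X), (∀ i, IsFinite (f i)) → IsFinite (Sigma.desc f) := by
  induction ι using Finite.induction_empty_option with
  | of_equiv e ih =>
    intro Y f hf
    have h1 := ih (fun a => f (e a)) (fun a => hf (e a))
    have e1 : Sigma.desc f = (Sigma.reindex e Y).inv ≫ Sigma.desc (fun a => f (e a)) := by
      rw [Iso.eq_inv_comp]
      apply Sigma.hom_ext
      intro a
      rw [← Category.assoc, Sigma.ι_reindex_hom, Sigma.ι_desc, Sigma.ι_desc]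
    rw [e1]
    have : MorphismProperty.RespectsIso @IsFinite.{u} :=
      MorphismProperty.IsStableUnderBaseChange.respectsIso
    exact (MorphismProperty.cancel_left_of_respectsIso @IsFinite.{u} _ _).2 h1
  | h_empty =>
    intro Y f hf
    have : IsEmpty ↥(∐ Y) := by
      have hinit : IsInitial (∐ Y) := by
        refine IsInitial.ofUniqueHom (fun Z => Sigma.desc fun i => i.elim) ?_
        intro Z m
        apply Sigma.hom_ext
        intro i
        exact i.elim
      exact (isInitial_iff_isEmpty.mp ⟨hinit⟩)
    infer_instance
  | h_option ih =>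
    intro Y f hf
    have h1 := ih (fun a => f (some a)) (fun a => hf (some a))
    have h2 : IsFinite (f none) := hf none
    let e : ∐ Y ≅ (∐ fun i => Y (some i)) ⨿ Y none :=
      (coproductIsCoproduct Y).coconePointUniqueUpToIso (optionCofanIsColimit Y)
    have e1 : Sigma.desc f = e.hom ≫ coprod.desc (Sigma.desc fun a => f (some a)) (f none) := by
      apply Sigma.hom_ext
      intro o
      rw [Sigma.ι_desc, ← Category.assoc]
      have := (coproductIsCoproduct Y).comp_coconePointUniqueUpToIso_hom (optionCofanIsColimit Y) ⟨o⟩
      change Sigma.ι Y o ≫ e.hom = (optionCofan Y).inj o at this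
      rw [this]
      cases o with
      | none =>
        change _ = coprod.inr ≫ coprod.desc (Sigma.desc fun a => f (some a)) (f none)
        rw [coprod.inr_desc]
      | some i =>
        change _ = (Sigma.ι (fun i => Y (some i)) i ≫ coprod.inl) ≫
          coprod.desc (Sigma.desc fun a => f (some a)) (f none)
        rw [Category.assoc, coprod.inl_desc, Sigma.ι_desc]
    rw [e1]
    infer_instance

end Groth.Agent.Lib.Helper24.FinSigma2
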