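import Groth.Agent.Lib.Helper14.AlgSpYonSigma
set_option autoImplicit false
set_option linter.unusedSectionVars false
universe u
open CategoryTheory CategoryTheory.Limits AlgebraicGeometry Opposite

/-! Free actions of abstract groups on schemes: the coproduct `∐_G U` with the identity and the
action as source and target is an étale equivalence relation. -/

namespace Groth.Agent.Lib.Helper24.FreeAct
open AlgSp Groth.Agent.Lib.Helper14.AS

variable {S : Scheme.{u}}

section Cofan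
variable {G : Type u} (X : G → Over S)

/-- the model coproduct is a coproduct in `Over S` -/
noncomputable def sigmaOverIsColimit : IsColimit (Cofan.mk (sigmaOver X) (sigmaOverι X)) :=
  Cofan.IsColimit.mk _ (fun s => sigmaOverDesc X s.inj) (fun s g => sigmaOverι_desc X s.inj g)
    (fun s m hm => by
      ext1
      apply Sigma.hom_ext
      intro g
      have h1 := congrArg (fun f => f.left) (hm g)
      have h2 := congrArg (fun f => f.left) (sigmaOverι_desc X s.inj g)
      exact h1.trans h2.symm)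

variable {X} (c : Cofan X) (hc : IsColimit c)

/-- comparison with the model -/
noncomputable def modelIso : sigmaOver X ≅ c.pt :=
  (sigmaOverIsColimit X).coconePointUniqueUpToIso hc

lemma ι_modelIso (g : G) : sigmaOverι X g ≫ (modelIso c hc).hom = c.inj g :=
  (sigmaOverIsColimit X).comp_coconePointUniqueUpToIso_hom hc ⟨g⟩

/-- the comparison on underlying schemes -/
noncomputable def leftIso : (∐ fun g => (X g).left) ≅ c.pt.left :=
  (Over.forget S).mapIso (modelIso c hc)

lemma inj_left_eq (g : G) :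
    (c.inj g).left = Sigma.ι (fun g => (X g).left) g ≫ (leftIso c hc).hom := by
  rw [← ι_modelIso c hc g]
  rfl

include hc in
lemma isOpenImmersion_inj (g : G) : IsOpenImmersion (c.inj g).left := by
  rw [inj_left_eq c hc g]
  infer_instance

include hc in
lemma exists_inj_eq (x : c.pt.left) : ∃ (g : G) (y : (X g).left), (c.inj g).left y = x := by
  obtain ⟨z, rfl⟩ := (leftIso c hc).hom.surjective x
  obtain ⟨⟨g, y⟩, rfl⟩ := (sigmaMk (fun g => (X g).left)).surjective z
  refine ⟨g, y, ?_⟩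
  rw [inj_left_eq c hc g, Scheme.Hom.comp_apply, sigmaMk_mk]

include hc in
lemma inj_eq_imp {g h : G} (y : (X g).left) (z : (X h).left)
    (e : (c.inj g).left y = (c.inj h).left z) : g = h := by
  rw [inj_left_eq c hc g, inj_left_eq c hc h, Scheme.Hom.comp_apply, Scheme.Hom.comp_apply] at e
  have e' := (leftIso c hc).hom.injective e
  rw [sigmaι_eq_iff] at e'
  exact congrArg Sigma.fst e'

end Cofan

/-- a field extension induces an epimorphism of spectra -/
lemma epi_spec_map_of_field {K L : CommRingCat.{u}} (hK : IsField K) (hL : IsField L) (φ : K ⟶ L) :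
    Epi (Spec.map φ) := by
  letI := hK.toField
  have := hL.nontrivial
  have hflat : Flat (Spec.map φ) := by
    rw [HasRingHomProperty.Spec_iff (P := @Flat)]
    letI : Algebra K L := φ.hom.toAlgebra
    change Module.Flat K L
    infer_instance
  have hsurj : Surjective (Spec.map φ) := by
    refine ⟨fun x => ?_⟩
    have : Nonempty (Spec L) := inferInstanceAs (Nonempty (PrimeSpectrum L))
    have : Subsingleton (Spec K) := inferInstanceAs (Subsingleton (PrimeSpectrum K))
    exact ⟨Classical.arbitrary _, Subsingleton.elim _ _⟩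
  exact Flat.epi_of_flat_of_surjective _

section Free
variable {U : Over S} {G : Type u} [Group G] (ρ : G →* Aut U)

lemma rho_mul (g h : G) : (ρ (g * h)).hom = (ρ h).hom ≫ (ρ g).hom := by
  rw [map_mul]; rfl

lemma rho_one : (ρ 1).hom = 𝟙 U := by
  rw [map_one]; rfl

lemma rho_inv_hom (g : G) : (ρ g⁻¹).hom = (ρ g).inv := by
  rw [map_inv]; rfl

variable (hfree : ∀ (g : G) (x : U.left), g ≠ 1 →
  U.left.fromSpecResidueField x ≫ (ρ g).hom.left ≠ U.left.fromSpecResidueField x)

include hfree in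
lemma free_key {T : Scheme.{u}} (O : T.Opens) (τ : O.toScheme) (b : T ⟶ U.left) (g g' : G)
    (h : O.ι ≫ b ≫ (ρ g).hom.left = O.ι ≫ b ≫ (ρ g').hom.left) : g = g' := by
  let f : O.toScheme ⟶ U.left := O.ι ≫ b
  have h1 := Scheme.Hom.SpecMap_residueFieldMap_fromSpecResidueField f τ
  have hepi : Epi (Spec.map (f.residueFieldMap τ)) :=
    epi_spec_map_of_field (Field.toIsField _) (Field.toIsField _) _
  have h2 : U.left.fromSpecResidueField (f τ) ≫ (ρ g).hom.left =
      U.left.fromSpecResidueField (f τ) ≫ (ρ g').hom.left := by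
    rw [← cancel_epi (Spec.map (f.residueFieldMap τ)), ← Category.assoc, ← Category.assoc, h1,
      Category.assoc, Category.assoc]
    change _ ≫ (O.ι ≫ b) ≫ _ = _ ≫ (O.ι ≫ b) ≫ _
    rw [Category.assoc, Category.assoc, h]
  by_contra hne
  have hne' : g'⁻¹ * g ≠ 1 := fun h' => hne (by
    have := congrArg (fun k => g' * k) h'
    simpa using this)
  apply hfree (g'⁻¹ * g) (f τ) hne'
  have hid : (ρ g').hom ≫ (ρ g').inv = 𝟙 U := (ρ g').hom_inv_id
  rw [rho_mul, Over.comp_left, ← Category.assoc, h2, Category.assoc, ← Over.comp_left, rho_inv_hom,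
    hid, Over.id_left, Category.comp_id]

end Free

lemma restrict_eq {T Y : Scheme.{u}} {O W : T.Opens} (hle : W ≤ O) {φ ψ : T ⟶ Y}
    (h : O.ι ≫ φ = O.ι ≫ ψ) : W.ι ≫ φ = W.ι ≫ ψ := by
  rw [← T.homOfLE_ι hle, Category.assoc, Category.assoc, h]

section Main
variable {U : Over S} {G : Type u} [Group G] (ρ : G →* Aut U)
  (hfree : ∀ (g : G) (x : U.left), g ≠ 1 →
    U.left.fromSpecResidueField x ≫ (ρ g).hom.left ≠ U.left.fromSpecResidueField x)
  (c : Cofan (fun _ : G => U)) (hc : IsColimit c) (s t : c.pt ⟶ U)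
  (hs : ∀ g, c.inj g ≫ s = 𝟙 U) (ht : ∀ g, c.inj g ≫ t = (ρ g).hom)

include hc hs in
/-- local form of a point of the coproduct -/
lemma point_local {T : Over S} (r : T ⟶ c.pt) (τ : T.left) :
    ∃ (O : T.left.Opens) (g : G), τ ∈ O ∧
      O.ι ≫ r.left = O.ι ≫ (r ≫ s).left ≫ (c.inj g).left := by
  obtain ⟨g, y, hy⟩ := exists_inj_eq c hc (r.left τ)
  have := isOpenImmersion_inj c hc g
  let O : T.left.Opens := r.left ⁻¹ᵁ (c.inj g).left.opensRange
  refine ⟨O, g, ⟨y, hy⟩, ?_⟩
  have hsub : Set.range (O.ι ≫ r.left) ⊆ Set.range (c.inj g).left := by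
    rintro _ ⟨x, rfl⟩
    exact x.2
  let rg : O.toScheme ⟶ U.left := IsOpenImmersion.lift (c.inj g).left (O.ι ≫ r.left) hsub
  have hrg : rg ≫ (c.inj g).left = O.ι ≫ r.left := IsOpenImmersion.lift_fac _ _ _
  have h1 : O.ι ≫ (r ≫ s).left = rg := by
    rw [Over.comp_left, ← Category.assoc, ← hrg, Category.assoc, ← Over.comp_left, hs,
      Over.id_left, Category.comp_id]
  rw [← Category.assoc, h1, hrg]

include hc hs ht in
lemma point_local' {T : Over S} (r : T ⟶ c.pt) (τ : T.left) :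
    ∃ (O : T.left.Opens) (g : G), τ ∈ O ∧
      O.ι ≫ r.left = O.ι ≫ (r ≫ s).left ≫ (c.inj g).left ∧
      O.ι ≫ (r ≫ t).left = O.ι ≫ (r ≫ s).left ≫ (ρ g).hom.left := by
  obtain ⟨O, g, hτ, h⟩ := point_local c hc s hs r τ
  refine ⟨O, g, hτ, h, ?_⟩
  have e : (r ≫ t).left = r.left ≫ t.left := rfl
  rw [e, ← Category.assoc, h, Category.assoc, Category.assoc, ← Over.comp_left, ht]

include hfree hc hs ht in
lemma injective_points (T : Over S) (r r' : T ⟶ c.pt) (h1 : r ≫ t = r' ≫ t)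
    (h2 : r ≫ s = r' ≫ s) : r = r' := by
  refine over_hom_ext_of_locally r r' fun τ => ?_
  obtain ⟨O, g, hτ, hO, hO'⟩ := point_local' ρ c hc s t hs ht r τ
  obtain ⟨O', g', hτ', hP, hP'⟩ := point_local' ρ c hc s t hs ht r' τ
  refine ⟨O ⊓ O', ⟨hτ, hτ'⟩, ?_⟩
  have e1 := restrict_eq (inf_le_left : O ⊓ O' ≤ O) hO'
  have e2 := restrict_eq (inf_le_right : O ⊓ O' ≤ O') hP'
  rw [← h1, ← h2] at e2
  have hg : g = g' := free_key ρ hfree (O ⊓ O') ⟨τ, hτ, hτ'⟩ (r ≫ s).left g g' (e1.symm.trans e2)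
  subst hg
  have e3 := restrict_eq (inf_le_left : O ⊓ O' ≤ O) hO
  have e4 := restrict_eq (inf_le_right : O ⊓ O' ≤ O') hP
  rw [← h2] at e4
  exact e3.trans e4.symm

/-- the local form of the relation -/
def Rel {T : Over S} (a b : T ⟶ U) : Prop :=
  ∀ τ : T.left, ∃ (O : T.left.Opens) (g : G), τ ∈ O ∧
    O.ι ≫ a.left = O.ι ≫ b.left ≫ (ρ g).hom.left

include hc hs ht in
lemma rel_of_point {T : Over S} (r : T ⟶ c.pt) : Rel ρ (r ≫ t) (r ≫ s) := by
  intro τ
  obtain ⟨O, g, hτ, -, hO'⟩ := point_local' ρ c hc s t hs ht r τ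
  exact ⟨O, g, hτ, hO'⟩

lemma rel_refl {T : Over S} (a : T ⟶ U) : Rel ρ a a := by
  intro τ
  refine ⟨⊤, 1, trivial, ?_⟩
  rw [rho_one, Over.id_left, Category.comp_id]

lemma rel_symm {T : Over S} {a b : T ⟶ U} (h : Rel ρ a b) : Rel ρ b a := by
  intro τ
  obtain ⟨O, g, hτ, hO⟩ := h τ
  refine ⟨O, g⁻¹, hτ, ?_⟩
  have hid : (ρ g).hom ≫ (ρ g).inv = 𝟙 U := (ρ g).hom_inv_id
  rw [← Category.assoc, hO, Category.assoc, Category.assoc, ← Over.comp_left, rho_inv_hom, hid,
    Over.id_left, Category.comp_id]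

lemma rel_trans {T : Over S} {a b d : T ⟶ U} (h1 : Rel ρ a b) (h2 : Rel ρ b d) : Rel ρ a d := by
  intro τ
  obtain ⟨O, g, hτ, hO⟩ := h1 τ
  obtain ⟨O', g', hτ', hO'⟩ := h2 τ
  refine ⟨O ⊓ O', g * g', ⟨hτ, hτ'⟩, ?_⟩
  have e1 := restrict_eq (inf_le_left : O ⊓ O' ≤ O) hO
  have e2 := restrict_eq (inf_le_right : O ⊓ O' ≤ O') hO'
  rw [e1, ← Category.assoc, e2, Category.assoc, Category.assoc, ← Over.comp_left, ← rho_mul]

end Main

section Glue
variable {U : Over S} {G : Type u} [Group G] (ρ : G →* Aut U)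
  (hfree : ∀ (g : G) (x : U.left), g ≠ 1 →
    U.left.fromSpecResidueField x ≫ (ρ g).hom.left ≠ U.left.fromSpecResidueField x)
  (c : Cofan (fun _ : G => U)) (hc : IsColimit c) (s t : c.pt ⟶ U)
  (hs : ∀ g, c.inj g ≫ s = 𝟙 U) (ht : ∀ g, c.inj g ≫ t = (ρ g).hom)

open scoped Function in
include hfree hs ht in
lemma point_of_rel {T : Over S} {a b : T ⟶ U} (h : Rel ρ a b) :
    ∃ r : T ⟶ c.pt, r ≫ t = a ∧ r ≫ s = b := by
  choose O g hτ hO using h
  let Tk : G → T.left.Opens := fun k => ⨆ τ : {τ : T.left // g τ = k}, O τ.1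
  have hle : ∀ τ, O τ ≤ Tk (g τ) := fun τ => le_iSup (fun τ' : {τ' : T.left // g τ' = g τ} => O τ'.1) ⟨τ, rfl⟩
  have hcov : ⨆ k, (Tk k).ι.opensRange = ⊤ := by
    rw [eq_top_iff]
    intro τ _
    simp only [Scheme.Opens.opensRange_ι]
    exact TopologicalSpace.Opens.mem_iSup.2 ⟨g τ, hle τ (hτ τ)⟩
  have hdisj : Pairwise (Disjoint on (fun k => (Tk k).ι.opensRange)) := by
    intro k k' hkk'
    simp only [Function.onFun, Scheme.Opens.opensRange_ι]
    rw [disjoint_iff, eq_bot_iff]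
    rintro x ⟨hx, hx'⟩
    exfalso
    obtain ⟨⟨τ, hk⟩, hxτ⟩ := TopologicalSpace.Opens.mem_iSup.1 hx
    obtain ⟨⟨τ', hk'⟩, hxτ'⟩ := TopologicalSpace.Opens.mem_iSup.1 hx'
    have e1 := restrict_eq (inf_le_left : O τ ⊓ O τ' ≤ O τ) (hO τ)
    have e2 := restrict_eq (inf_le_right : O τ ⊓ O τ' ≤ O τ') (hO τ')
    have := free_key ρ hfree (O τ ⊓ O τ') ⟨x, hxτ, hxτ'⟩ b.left (g τ) (g τ') (e1.symm.trans e2)
    exact hkk' (hk.symm.trans (this.trans hk'))
  obtain ⟨hcol⟩ := nonempty_isColimit_cofanMk_of (fun k => (Tk k).ι) hcov hdisj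
  let rl : T.left ⟶ c.pt.left :=
    Cofan.IsColimit.desc hcol (fun k => (Tk k).ι ≫ b.left ≫ (c.inj k).left)
  have hrl : ∀ k, (Tk k).ι ≫ rl = (Tk k).ι ≫ b.left ≫ (c.inj k).left := fun k =>
    Cofan.IsColimit.fac hcol _ k
  have hw : rl ≫ c.pt.hom = T.hom := by
    refine Cofan.IsColimit.hom_ext hcol _ _ fun k => ?_
    change (Tk k).ι ≫ rl ≫ c.pt.hom = (Tk k).ι ≫ T.hom
    rw [← Category.assoc, hrl, Category.assoc, Category.assoc, Over.w (c.inj k), Over.w b]
  let r : T ⟶ c.pt := Over.homMk rl hw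
  refine ⟨r, ?_, ?_⟩
  · refine over_hom_ext_of_locally _ _ fun τ => ⟨O τ, hτ τ, ?_⟩
    change (O τ).ι ≫ rl ≫ t.left = (O τ).ι ≫ a.left
    have e0 : (O τ).ι ≫ rl = (O τ).ι ≫ b.left ≫ (c.inj (g τ)).left :=
      restrict_eq (hle τ) (hrl (g τ))
    rw [← Category.assoc, e0, Category.assoc, Category.assoc, ← Over.comp_left, ht]
    exact (hO τ).symm
  · ext1
    refine Cofan.IsColimit.hom_ext hcol _ _ fun k => ?_
    change (Tk k).ι ≫ rl ≫ s.left = (Tk k).ι ≫ b.left
    rw [← Category.assoc, hrl, Category.assoc, Category.assoc, ← Over.comp_left, hs, Over.id_left,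
      Category.comp_id]

include hfree hc hs ht in
set_option backward.isDefEq.respectTransparency.types false in
/-- **Free actions give étale equivalence relations.** -/
theorem isEtaleEqvRel : IsEtaleEqvRel s t := by
  have hiff : ∀ (T : Over S) (a b : T ⟶ U),
      (∃ r : T ⟶ c.pt, r ≫ t = a ∧ r ≫ s = b) ↔ Rel ρ a b := by
    intro T a b
    constructor
    · rintro ⟨r, rfl, rfl⟩
      exact rel_of_point ρ c hc s t hs ht r
    · exact point_of_rel ρ hfree c s t hs ht
  refine ⟨⟨injective_points ρ hfree c hc s t hs ht, fun T => ⟨?_, ?_, ?_⟩⟩, ?_, ?_⟩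
  · intro a
    exact (hiff T a a).2 (rel_refl ρ a)
  · intro a b hab
    exact (hiff T b a).2 (rel_symm ρ ((hiff T a b).1 hab))
  · intro a b d hab hbd
    exact (hiff T a d).2 (rel_trans ρ ((hiff T a b).1 hab) ((hiff T b d).1 hbd))
  · have h1 : Etale (Sigma.desc fun g : G => (c.inj g).left ≫ s.left) :=
      IsZariskiLocalAtSource.sigmaDesc (fun g => by
        rw [← Over.comp_left, hs, Over.id_left]
        infer_instance)
    have h2 : s.left = (leftIso c hc).inv ≫ Sigma.desc fun g : G => (c.inj g).left ≫ s.left := by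
      rw [Iso.eq_inv_comp]
      refine Sigma.hom_ext _ _ fun g => ?_
      rw [← Category.assoc, ← inj_left_eq, Sigma.ι_desc]
    rw [h2]
    infer_instance
  · have h1 : Etale (Sigma.desc fun g : G => (c.inj g).left ≫ t.left) :=
      IsZariskiLocalAtSource.sigmaDesc (fun g => by
        rw [← Over.comp_left, ht]
        have hiso : IsIso (ρ g).hom := Iso.isIso_hom (ρ g)
        have : IsIso (ρ g).hom.left := inferInstanceAs (IsIso ((Over.forget S).map (ρ g).hom))
        infer_instance)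
    have h2 : t.left = (leftIso c hc).inv ≫ Sigma.desc fun g : G => (c.inj g).left ≫ t.left := by
      rw [Iso.eq_inv_comp]
      refine Sigma.hom_ext _ _ fun g => ?_
      rw [← Category.assoc, ← inj_left_eq, Sigma.ι_desc]
    rw [h2]
    infer_instance

end Glue

end Groth.Agent.Lib.Helper24.FreeAct
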