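import Groth.Agent.Lib.Helper24.Filt3
import Groth.Agent.Lib.Helper24.FinSigma2
import Groth.Agent.Lib.Helper24.FinQuotRep
import Groth.Agent.Lib.Helper14.IntFinRep
import Groth.Agent.S9889
import Groth.Agent.S9868
import Groth.Agent.S9869
import Groth.Agent.S10268
set_option autoImplicit false
set_option linter.unusedSectionVars false
set_option linter.unusedVariables false
universe u
open CategoryTheory CategoryTheory.Limits AlgebraicGeometry Opposite

/-! The symmetric group action on the scheme of apart tuples and its quotient. -/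

namespace Groth.Agent.Lib.Helper24.Filt4
open AlgSp Groth.Agent.Lib.Helper14.AS Groth.Agent.Lib.Helper24.Filt1 Groth.Agent.Lib.Helper24.ZarGlue
open Groth.Agent.Lib.Helper24.Filt2 Groth.Agent.Lib.Helper24.Filt3
open Groth.Agent.Lib.Helper24.FreeAct Groth.Agent.Lib.Helper24.QuotBridge QuotSh

variable {S : Scheme.{u}} {U : Over S} {X : Sp S} {a : (yon S).obj U ⟶ X}
variable {ι : Type} {W : Over S} {υ : Tup a ι W} (h : IsRep a ι W υ)

/-- the action of a permutation -/
noncomputable def act (σ : Equiv.Perm ι) : W ⟶ W := ((h.bij W).2 (υ.perm σ)).choose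

theorem map_act (σ : Equiv.Perm ι) : υ.map (act h σ) = υ.perm σ :=
  ((h.bij W).2 (υ.perm σ)).choose_spec

theorem map_comp_act {T : Over S} (g : T ⟶ W) (σ : Equiv.Perm ι) :
    υ.map (g ≫ act h σ) = (υ.map g).perm σ := by
  rw [Tup.map_comp, map_act, Tup.perm_map]

theorem act_one : act h 1 = 𝟙 W :=
  (h.bij W).1 (by change υ.map (act h 1) = υ.map (𝟙 W); rw [map_act, Tup.perm_one, Tup.map_id])

theorem act_mul (σ σ' : Equiv.Perm ι) : act h (σ * σ') = act h σ' ≫ act h σ :=
  (h.bij W).1 (by
    change υ.map (act h (σ * σ')) = υ.map (act h σ' ≫ act h σ)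
    rw [map_act, map_comp_act, map_act, Tup.perm_mul])

/-- the automorphism attached to a permutation -/
noncomputable def actIso (σ : Equiv.Perm ι) : W ≅ W where
  hom := act h σ
  inv := act h σ⁻¹
  hom_inv_id := by rw [← act_mul, inv_mul_cancel, act_one]
  inv_hom_id := by rw [← act_mul, mul_inv_cancel, act_one]

/-- the action as a group homomorphism -/
noncomputable def rho : ULift.{u} (Equiv.Perm ι) →* Aut W where
  toFun g := actIso h g.down
  map_one' := Iso.ext (act_one h)
  map_mul' g g' := Iso.ext (act_mul h g.down g'.down)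

theorem rho_hom (g : ULift.{u} (Equiv.Perm ι)) : (rho h g).hom = act h g.down := rfl

theorem act_base [Inhabited ι] (σ : Equiv.Perm ι) : (yon S).map (act h σ) ≫ υ.base = υ.base := by
  rw [← Tup.base_map, map_act, Tup.perm_base]

theorem act_free (σ : Equiv.Perm ι) (hσ : σ ≠ 1) (x : W.left) :
    W.left.fromSpecResidueField x ≫ (act h σ).left ≠ W.left.fromSpecResidueField x := by
  intro he
  have e1 : ptHom W x ≫ act h σ = ptHom W x := by
    ext1
    exact he
  have e2 : (υ.map (ptHom W x)).perm σ = υ.map (ptHom W x) := by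
    rw [← map_comp_act h, e1]
  obtain ⟨i, hi⟩ : ∃ i, σ.symm i ≠ i := by
    by_contra hcon
    simp only [not_exists, not_not] at hcon
    apply hσ
    ext i
    have := hcon (σ i)
    rw [Equiv.symm_apply_apply] at this
    exact this.symm
  have e3 : (υ.map (ptHom W x)).u (σ.symm i) = (υ.map (ptHom W x)).u i :=
    congrArg (fun τ : Tup a ι (ptOver W x) => τ.u i) e2
  let pt : Spec (W.left.residueField x) := IsLocalRing.closedPoint _
  apply (υ.map (ptHom W x)).apart (σ.symm i) i hi pt
  rw [e3]
  exact EqAt.refl _ _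

set_option backward.isDefEq.respectTransparency.types false in
theorem exists_quotient [Finite ι] [Inhabited ι] (hae : RepWith @Etale a)
    (hfin : ∀ E : Set W.left, E.Finite → ∃ O : W.left.Opens, IsAffineOpen O ∧ E ⊆ O) :
    ∃ (M : Over S) (m : W ⟶ M) (f : (yon S).obj M ⟶ X),
      Mor2.IsFinLocFree m.left ∧ Etale m.left ∧ Surjective m.left ∧
      (yon S).map m ≫ f = υ.base ∧ (∀ σ, act h σ ≫ m = m) ∧
      (W.left.IsSeparated → M.left.IsSeparated) ∧
      (QuasiSeparatedSpace ↥W.left → QuasiSeparatedSpace ↥M.left) := by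
  let G := ULift.{u} (Equiv.Perm ι)
  let XG : G → Over S := fun _ => W
  let c : Cofan XG := Cofan.mk (sigmaOver XG) (sigmaOverι XG)
  have hc : IsColimit c := sigmaOverIsColimit XG
  let s : c.pt ⟶ W := sigmaOverDesc XG (fun _ => 𝟙 W)
  let t : c.pt ⟶ W := sigmaOverDesc XG (fun g => (rho h g).hom)
  have hs : ∀ g, c.inj g ≫ s = 𝟙 W := fun g => sigmaOverι_desc XG _ g
  have ht : ∀ g, c.inj g ≫ t = (rho h g).hom := fun g => sigmaOverι_desc XG _ g
  have hfree : ∀ (g : G) (x : W.left), g ≠ 1 →
      W.left.fromSpecResidueField x ≫ (rho h g).hom.left ≠ W.left.fromSpecResidueField x := by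
    intro g x hg
    exact act_free h g.down (fun hd => hg (ULift.ext _ _ hd)) x
  have heq : IsEtaleEqvRel s t := Groth.Agent.S9889.result S W G (rho h) hfree c hc s t hs ht
  have hV : IsAlgSpace (quot Scheme.fppfPrecoverage s t) := Groth.Agent.S9868.result S s t heq
  have hpres : IsPresentation s t (π' s t) := Groth.Agent.S9869.result S s t heq hV
  have hsfin : IsFinite s.left := by
    change IsFinite (Sigma.desc fun g : G => (𝟙 W : W ⟶ W).left)
    exact FinSigma2.isFinite_sigmaDesc _ (fun g => by change IsFinite (𝟙 W.left); infer_instance)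
  let Vsp : Space S := ⟨quot Scheme.fppfPrecoverage s t, hV⟩
  let qs : (ofScheme S).obj W ⟶ Vsp := ObjectProperty.homMk (π' s t)
  have hsfinMor : IsFiniteMor ((yon S).map s) :=
    (integral_finite_iff_repWith ((ofScheme S).map s)).2.2 ((repWith_yon_map_iff _ s).2 hsfin)
  have hπfin : IsFiniteMor (π' s t) :=
    (Groth.Agent.S10268.result qs W (π' s t) hpres.etale hpres.surjective ((yon S).map t)
      ((yon S).map s) hpres.isPullback).2 hsfinMor
  have hπfinR : RepWith @IsFinite (π' s t) := (integral_finite_iff_repWith qs).2.1 hπfin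
  have hπflf : RepWith finLocFree (π' s t) := by
    refine (repWith_iff _ _).2 ⟨hπfinR.rep, fun A B g k l sqk => ?_⟩
    have h1 : IsFinite l.left := ((repWith_iff _ _).1 hπfinR).2 g k l sqk
    have h2 : Etale l.left := ((repWith_iff _ _).1 hpres.etale).2 g k l sqk
    exact ⟨h1, inferInstance, inferInstance⟩
  obtain ⟨M, m, e, hm, hme, hMsep, hMqs⟩ :=
    FinQuotRep.exists_scheme_quotient (π' s t) hπflf hpres.surjective hfin
  have hinv : (yon S).map s ≫ υ.base = (yon S).map t ≫ υ.base := by
    refine (existsUnique_desc_yon_sigmaOver XG (fun _ => υ.base)).unique (fun g => ?_) (fun g => ?_)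
    · rw [← Category.assoc, ← Functor.map_comp]
      erw [hs g]
      rw [CategoryTheory.Functor.map_id, Category.id_comp]
    · rw [← Category.assoc, ← Functor.map_comp]
      erw [ht g]
      rw [rho_hom]
      exact act_base h _
  have w : repMap Scheme.fppfPrecoverage s ≫ ((repIsoUliftYoneda Scheme.fppfPrecoverage W).hom ≫ υ.base) =
      repMap Scheme.fppfPrecoverage t ≫ ((repIsoUliftYoneda Scheme.fppfPrecoverage W).hom ≫ υ.base) := by
    rw [← Category.assoc, ← Category.assoc, repIso_hom_naturality, repIso_hom_naturality,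
      Category.assoc, Category.assoc, hinv]
  have hf₀ : π' s t ≫ quotShDesc s t _ w = υ.base := by
    rw [π', Category.assoc, quotπ_quotShDesc, Iso.inv_hom_id_assoc]
  have hme' : (yon S).map m = π' s t ≫ e.inv := by
    rw [← hme, Category.assoc, Iso.hom_inv_id, Category.comp_id]
  refine ⟨M, m, e.hom ≫ quotShDesc s t _ w, hm, ?_, ?_, ?_, ?_, hMsep, hMqs⟩
  · have h1 : RepWith @Etale ((yon S).map m) := by
      rw [hme']
      exact repWith_comp _ hpres.etale (repWith_of_isIso _ e.inv)
    exact (repWith_yon_map_iff _ m).1 h1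
  · have h1 : RepWith @Surjective ((yon S).map m) := by
      rw [hme']
      exact repWith_comp _ hpres.surjective (repWith_of_isIso _ e.inv)
    exact (repWith_yon_map_iff _ m).1 h1
  · rw [← Category.assoc, hme, hf₀]
  · intro σ
    apply (yon S).map_injective
    rw [Functor.map_comp, hme', ← Category.assoc]
    congr 1
    have h1 := congrArg (fun k => (yon S).map (c.inj (ULift.up σ)) ≫ k) (π'_condition s t)
    simp only [← Category.assoc, ← Functor.map_comp] at h1
    erw [hs (ULift.up σ), ht (ULift.up σ)] at h1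
    rw [CategoryTheory.Functor.map_id, Category.id_comp, rho_hom] at h1
    exact h1.symm

end Groth.Agent.Lib.Helper24.Filt4
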