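import Groth.Agent.Lib.Helper24.Filt4
set_option autoImplicit false
set_option linter.unusedSectionVars false
set_option linter.unusedVariables false
universe u
open CategoryTheory CategoryTheory.Limits AlgebraicGeometry Opposite

/-! Two apart tuples over the same point differ by a permutation away from the next stratum. -/

namespace Groth.Agent.Lib.Helper24.Filt5
open AlgSp Groth.Agent.Lib.Helper14.AS Groth.Agent.Lib.Helper24.Filt1 Groth.Agent.Lib.Helper24.ZarGlue
open Groth.Agent.Lib.Helper24.Filt2 Groth.Agent.Lib.Helper24.Filt3 Groth.Agent.Lib.Helper24.Filt4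
open Groth.Agent.Lib.Helper24.FreeAct

variable {S : Scheme.{u}} {U : Over S} {X : Sp S} {a : (yon S).obj U ⟶ X}
variable {ι : Type} {W : Over S} {υ : Tup a ι W} (h : IsRep a ι W υ)

set_option backward.isDefEq.respectTransparency.types false in
theorem exists_local_perm [Finite ι] [Inhabited ι]
    (hΔo : RepWith @IsOpenImmersion (pullback.diagonal a))
    (hΔc : RepWith @IsClosedImmersion (pullback.diagonal a))
    {T : Over S} (g₁ g₂ : T ⟶ W) (hb : (yon S).map g₁ ≫ υ.base = (yon S).map g₂ ≫ υ.base)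
    (t : T.left) (ht : Points.ofPt ((yon S).map g₁ ≫ υ.base) t ∉ Om a (Option ι)) :
    ∃ (O : T.left.Opens) (σ : Equiv.Perm ι), t ∈ O ∧
      O.ι ≫ g₂.left = O.ι ≫ (g₁ ≫ act h σ).left := by
  have hb' : (υ.map g₁).base = (υ.map g₂).base := by rw [Tup.base_map, Tup.base_map, hb]
  have cross : ∀ i j, (yon S).map ((υ.map g₂).u i) ≫ a = (yon S).map ((υ.map g₁).u j) ≫ a := by
    intro i j
    rw [← (υ.map g₂).base_eq i, ← (υ.map g₁).base_eq j, hb']
  by_cases hA : ∀ i, ∃ j, EqAt ((υ.map g₂).u i) ((υ.map g₁).u j) t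
  · choose φ hφ using hA
    have hinj : Function.Injective φ := by
      intro i i' hii'
      by_contra hne
      have h1 : EqAt ((υ.map g₂).u i') ((υ.map g₁).u (φ i)) t := hii' ▸ hφ i'
      exact (υ.map g₂).apart i i' hne t ((hφ i).trans h1.symm)
    have hbij : Function.Bijective φ := Finite.injective_iff_bijective.1 hinj
    choose E hEc hEmem hEι using fun i =>
      exists_eqLocus a hΔo hΔc ((υ.map g₂).u i) ((υ.map g₁).u (φ i)) (cross i (φ i))
    let O : T.left.Opens := ⟨⋂ i, (E i : Set T.left), isOpen_iInter_of_finite fun i => (E i).2⟩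
    have hOE : ∀ i, O ≤ E i := fun i x hx => Set.mem_iInter.1 hx i
    refine ⟨O, (Equiv.ofBijective φ hbij).symm, ?_, ?_⟩
    · exact Set.mem_iInter.2 fun i => (hEmem i t).2 (hφ i)
    · have key : υ.map (resOpenι T O ≫ g₂) =
          υ.map (resOpenι T O ≫ g₁ ≫ act h (Equiv.ofBijective φ hbij).symm) := by
        refine Tup.ext' fun i => ?_
        rw [Tup.map_comp, Tup.map_comp, map_comp_act]
        change resOpenι T O ≫ (υ.map g₂).u i = resOpenι T O ≫ (υ.map g₁).u (φ i)
        ext1
        exact restrict_eq (hOE i) (hEι i)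
      exact congrArg CommaMorphism.left ((h.bij _).1 key)
  · exfalso
    simp only [not_forall, not_exists] at hA
    obtain ⟨i, hi⟩ := hA
    apply ht
    have hv : ∀ j, (yon S).map (ptHom T t ≫ (υ.map g₂).u i) ≫ a =
        (yon S).map (((υ.map g₁).map (ptHom T t)).u j) ≫ a := by
      intro j
      change (yon S).map (ptHom T t ≫ (υ.map g₂).u i) ≫ a =
        (yon S).map (ptHom T t ≫ (υ.map g₁).u j) ≫ a
      rw [Functor.map_comp, Functor.map_comp, Category.assoc, Category.assoc, cross i j]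
    have hap : ∀ j (p : (ptOver T t).left),
        ¬ EqAt (ptHom T t ≫ (υ.map g₂).u i) (((υ.map g₁).map (ptHom T t)).u j) p := by
      intro j p hE
      change EqAt (ptHom T t ≫ (υ.map g₂).u i) (ptHom T t ≫ (υ.map g₁).u j) p at hE
      rw [eqAt_comp_iff] at hE
      have hp : (ptHom T t).left p = t := Scheme.fromSpecResidueField_apply _ _
      rw [hp] at hE
      exact hi j hE
    let pt : (ptOver T t).left := (IsLocalRing.closedPoint (T.left.residueField t) :
      Spec (T.left.residueField t))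
    refine ⟨ptOver T t, pt, ((υ.map g₁).map (ptHom T t)).cons _ hv hap, ?_⟩
    rw [← Tup.old_base]
    have e1 : (((υ.map g₁).map (ptHom T t)).cons _ hv hap).old = (υ.map g₁).map (ptHom T t) :=
      Tup.ext' fun _ => rfl
    rw [e1, Tup.base_map, Tup.base_map, ofPt_yon_map_comp]
    congr 1
    exact Scheme.fromSpecResidueField_apply _ _

theorem comp_eq_of_forall_not_mem [Finite ι] [Inhabited ι]
    (hΔo : RepWith @IsOpenImmersion (pullback.diagonal a))
    (hΔc : RepWith @IsClosedImmersion (pullback.diagonal a))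
    {M : Over S} (m : W ⟶ M) (hm : ∀ σ, act h σ ≫ m = m)
    {T : Over S} (g₁ g₂ : T ⟶ W) (hb : (yon S).map g₁ ≫ υ.base = (yon S).map g₂ ≫ υ.base)
    (ht : ∀ t : T.left, Points.ofPt ((yon S).map g₁ ≫ υ.base) t ∉ Om a (Option ι)) :
    g₁ ≫ m = g₂ ≫ m := by
  refine over_hom_ext_of_locally _ _ fun t => ?_
  obtain ⟨O, σ, htO, hO⟩ := exists_local_perm h hΔo hΔc g₁ g₂ hb t (ht t)
  refine ⟨O, htO, ?_⟩
  have e : g₁ ≫ m = (g₁ ≫ act h σ) ≫ m := by rw [Category.assoc, hm σ]
  have e1 : ((g₁ ≫ act h σ) ≫ m).left = (g₁ ≫ act h σ).left ≫ m.left := rfl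
  have e2 : (g₂ ≫ m).left = g₂.left ≫ m.left := rfl
  rw [e, e1, e2, ← Category.assoc, ← Category.assoc, hO]

end Groth.Agent.Lib.Helper24.Filt5
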