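import Groth.Agent.Lib.Helper24.Filt5
import Groth.Agent.Lib.Helper14.FpqcBase4
import Groth.Agent.Lib.Helper14.AlgSpLargestOpen
import Groth.Agent.Lib.Helper14.AlgSpFibre
import Groth.Agent.Lib.Helper8.AlgSpOpen
set_option autoImplicit false
set_option linter.unusedSectionVars false
set_option linter.unusedVariables false
universe u
open CategoryTheory CategoryTheory.Limits AlgebraicGeometry Opposite

/-! The quotient chart is an isomorphism over the stratum. -/

namespace Groth.Agent.Lib.Helper24.Filt6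
open AlgSp Groth.Agent.Lib.Helper14.AS Groth.Agent.Lib.Helper24.Filt1 Groth.Agent.Lib.Helper24.ZarGlue
open Groth.Agent.Lib.Helper24.Filt2 Groth.Agent.Lib.Helper24.Filt3 Groth.Agent.Lib.Helper24.Filt4
open Groth.Agent.Lib.Helper24.Filt5

variable {S : Scheme.{u}} {U : Over S} {X : Sp S} {a : (yon S).obj U ⟶ X}
variable {ι : Type} {W : Over S} {υ : Tup a ι W} (h : IsRep a ι W υ)

set_option backward.isDefEq.respectTransparency.types false in
theorem eq_of_yon_comp_eq [Finite ι] [Inhabited ι]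
    (hΔo : RepWith @IsOpenImmersion (pullback.diagonal a))
    (hΔc : RepWith @IsClosedImmersion (pullback.diagonal a))
    {M : Over S} (m : W ⟶ M) [Flat m.left] [Surjective m.left]
    (f : (yon S).obj M ⟶ X) (hmf : (yon S).map m ≫ f = υ.base) (hm : ∀ σ, act h σ ≫ m = m)
    {T : Over S} (v v' : T ⟶ M) (hvv' : (yon S).map v ≫ f = (yon S).map v' ≫ f)
    (hT : ∀ t : T.left, Points.ofPt ((yon S).map v ≫ f) t ∉ Om a (Option ι)) : v = v' := by
  -- first pullback
  let T₁ : Over S := Over.mk (pullback.snd m.left v.left ≫ T.hom)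
  let pr₁ : T₁ ⟶ T := Over.homMk (pullback.snd m.left v.left) rfl
  let g₁ : T₁ ⟶ W := Over.homMk (pullback.fst m.left v.left) (by
    change pullback.fst m.left v.left ≫ W.hom = pullback.snd m.left v.left ≫ T.hom
    rw [← Over.w m, ← Category.assoc, pullback.condition, Category.assoc, Over.w v])
  have hg₁ : g₁ ≫ m = pr₁ ≫ v := by
    ext1
    exact pullback.condition
  -- second pullback
  let T₂ : Over S := Over.mk (pullback.snd m.left (pr₁ ≫ v').left ≫ T₁.hom)
  let pr₂ : T₂ ⟶ T₁ := Over.homMk (pullback.snd m.left (pr₁ ≫ v').left) rfl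
  let g₂ : T₂ ⟶ W := Over.homMk (pullback.fst m.left (pr₁ ≫ v').left) (by
    change pullback.fst m.left (pr₁ ≫ v').left ≫ W.hom = pullback.snd m.left (pr₁ ≫ v').left ≫ T₁.hom
    rw [← Over.w m, ← Category.assoc, pullback.condition, Category.assoc, Over.w (pr₁ ≫ v')])
  have hg₂ : g₂ ≫ m = pr₂ ≫ pr₁ ≫ v' := by
    ext1
    exact pullback.condition
  have hpr₁ : Flat pr₁.left ∧ Surjective pr₁.left := by
    change Flat (pullback.snd m.left v.left) ∧ Surjective (pullback.snd m.left v.left)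
    exact ⟨inferInstance, inferInstance⟩
  have hpr₂ : Flat pr₂.left ∧ Surjective pr₂.left := by
    change Flat (pullback.snd m.left (pr₁ ≫ v').left) ∧ Surjective (pullback.snd m.left (pr₁ ≫ v').left)
    exact ⟨inferInstance, inferInstance⟩
  have hepi : Epi (pr₂ ≫ pr₁) := by
    have : Flat (pr₂ ≫ pr₁).left := by
      have := hpr₁.1; have := hpr₂.1
      rw [Over.comp_left]; infer_instance
    have : Surjective (pr₂ ≫ pr₁).left := by
      have := hpr₁.2; have := hpr₂.2
      rw [Over.comp_left]; infer_instance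
    have : Epi (pr₂ ≫ pr₁).left := Flat.epi_of_flat_of_surjective _
    exact (Over.forget S).epi_of_epi_map this
  have e1 : (pr₂ ≫ g₁) ≫ m = (pr₂ ≫ pr₁) ≫ v := by rw [Category.assoc, hg₁, Category.assoc]
  have e2 : g₂ ≫ m = (pr₂ ≫ pr₁) ≫ v' := by rw [hg₂, Category.assoc]
  have l1 : (yon S).map (pr₂ ≫ g₁) ≫ υ.base = (yon S).map ((pr₂ ≫ g₁) ≫ m) ≫ f := by
    rw [Functor.map_comp _ _ m, Category.assoc, hmf]
  have l2 : (yon S).map g₂ ≫ υ.base = (yon S).map (g₂ ≫ m) ≫ f := by
    rw [Functor.map_comp, Category.assoc, hmf]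
  have hb : (yon S).map (pr₂ ≫ g₁) ≫ υ.base = (yon S).map g₂ ≫ υ.base := by
    rw [l1, l2, e1, e2, Functor.map_comp _ _ v, Functor.map_comp _ _ v', Category.assoc,
      Category.assoc, hvv']
  have ht : ∀ t : T₂.left, Points.ofPt ((yon S).map (pr₂ ≫ g₁) ≫ υ.base) t ∉ Om a (Option ι) := by
    intro t
    rw [l1, e1, Functor.map_comp _ _ v, Category.assoc, ofPt_yon_map_comp]
    exact hT _
  have key := comp_eq_of_forall_not_mem h hΔo hΔc m hm (pr₂ ≫ g₁) g₂ hb ht
  rw [e1, e2] at key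
  exact (cancel_epi _).1 key

set_option backward.isDefEq.respectTransparency.types false in
theorem mono_fst [Finite ι] [Inhabited ι]
    (hΔo : RepWith @IsOpenImmersion (pullback.diagonal a))
    (hΔc : RepWith @IsClosedImmersion (pullback.diagonal a))
    {M : Over S} (m : W ⟶ M) [Flat m.left] [Surjective m.left]
    (f : (yon S).obj M ⟶ X) (hmf : (yon S).map m ≫ f = υ.base) (hm : ∀ σ, act h σ ≫ m = m)
    {Z P : Sp S} (i' : Z ⟶ X) (hi : ∀ z, Points.map i' z ∉ Om a (Option ι))
    (fst : P ⟶ Z) (snd : P ⟶ (yon S).obj M) (sq : IsPullback fst snd i' f) : Mono fst := by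
  refine mono_of_yon_test fst fun T p p' hpp' => ?_
  apply sq.hom_ext hpp'
  obtain ⟨v, hv⟩ := (yon S).map_surjective (p ≫ snd)
  obtain ⟨v', hv'⟩ := (yon S).map_surjective (p' ≫ snd)
  have e1 : (yon S).map v ≫ f = (p ≫ fst) ≫ i' := by
    rw [hv, Category.assoc, Category.assoc, sq.w]
  have e2 : (yon S).map v' ≫ f = (p ≫ fst) ≫ i' := by
    rw [hv', hpp', Category.assoc, Category.assoc, sq.w]
  have hvv' : v = v' := by
    refine eq_of_yon_comp_eq h hΔo hΔc m f hmf hm v v' (e1.trans e2.symm) fun t => ?_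
    rw [e1, ← Points.map_ofPt]
    exact hi _
  rw [← hv, ← hv', hvv']

theorem isIso_fst [Finite ι] [Inhabited ι]
    (hΔo : RepWith @IsOpenImmersion (pullback.diagonal a))
    (hΔc : RepWith @IsClosedImmersion (pullback.diagonal a))
    {M : Over S} (m : W ⟶ M) [Flat m.left] [Surjective m.left]
    {Y : Sp S} (jY : Y ⟶ X) [Mono jY] (hY : IsAlgSpace Y)
    (f : (yon S).obj M ⟶ Y) (hmf : (yon S).map m ≫ f ≫ jY = υ.base) (hm : ∀ σ, act h σ ≫ m = m)
    (hfe : RepWith @Etale f) (hfs : RepWith @Surjective f)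
    {Z P : Sp S} (hZ : IsAlgSpace Z) (i' : Z ⟶ Y)
    (hi : ∀ z, Points.map (i' ≫ jY) z ∉ Om a (Option ι))
    (fst : P ⟶ Z) (snd : P ⟶ (yon S).obj M) (sq : IsPullback fst snd i' f) : IsIso fst := by
  have sq' : IsPullback fst snd (i' ≫ jY) (f ≫ jY) := isPullback_comp_mono' sq jY
  have hmono : Mono fst := mono_fst h hΔo hΔc m (f ≫ jY) hmf hm (i' ≫ jY) hi fst snd sq'
  have hP : IsAlgSpace P :=
    isAlgSpace_of_isPullback (repDiag_of_isAlgSpace hY) hZ (IsAlgSpace.yon_obj M) sq
  have h1 : RepWith @Etale fst := repWith_of_isPullback _ sq.flip hfe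
  have h2 : RepWith @Surjective fst := repWith_of_isPullback _ sq.flip hfs
  have h3 : RepWith @IsOpenImmersion fst :=
    repWith_isOpenImmersion_of_mono_etale hP hZ fst (isEtaleMor_of_repWith_etale h1)
  exact Groth.Agent.Lib.Helper8.AlgSpOpen.isIso_of_repWith_iso fst
    (Groth.Agent.Lib.Helper8.AlgSpOpen.repWith_iso_of_openImmersion_of_surjective fst h3 h2)

end Groth.Agent.Lib.Helper24.Filt6
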