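import Groth.Agent.Lib.Helper24.UnivBdd
import Groth.Agent.Lib.Helper14.AlgSpQcEtDesc
import Groth.Agent.Lib.Helper14.AlgSpMonoPt
set_option autoImplicit false
set_option linter.unusedSectionVars false
set_option linter.unusedVariables false
universe u
open CategoryTheory CategoryTheory.Limits AlgebraicGeometry Opposite

/-! Counting lifts of a field point to a finite scheme over a field. -/

namespace Groth.Agent.Lib.Helper24.Filt7a
open Groth.Agent.Lib.Helper6.BddFibLib Groth.Agent.Lib.Helper14.AS Groth.Agent.Lib.Helper24.UnivBdd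

set_option backward.isDefEq.respectTransparency.types false in
theorem card_le_of_lifts {K Ω : Type u} [Field K] [Field Ω] {F : Scheme.{u}}
    (c : F ⟶ Spec (CommRingCat.of K)) {N : ℕ}
    (hc : BddFib.FiniteOfDegLE (CommRingCat.of K) c N)
    (β₀ : Spec (CommRingCat.of Ω) ⟶ Spec (CommRingCat.of K))
    {ι : Type} [Finite ι] (ℓ : ι → (Spec (CommRingCat.of Ω) ⟶ F)) (hinj : Function.Injective ℓ)
    (hℓ : ∀ i, ℓ i ≫ c = β₀) : Nat.card ι ≤ N := by
  rw [finiteOfDegLE_iff] at hc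
  obtain ⟨hF, hfin, hrk⟩ := hc
  set ψ : CommRingCat.of K ⟶ Γ(F, ⊤) := (Scheme.ΓSpecIso (CommRingCat.of K)).inv ≫ c.appTop with hψ
  have hp : c = F.isoSpec.hom ≫ Spec.map ψ := eq_isoSpec_hom_comp c
  let _ : Algebra K Γ(F, ⊤) := ψ.hom.toAlgebra
  let _ : Algebra K Ω := (Spec.preimage β₀).hom.toAlgebra
  have hcomm : ∀ i, ψ ≫ Spec.preimage (ℓ i ≫ F.isoSpec.hom) = Spec.preimage β₀ := by
    intro i
    apply Spec.map_injective
    rw [Spec.map_comp, Spec.map_preimage, Spec.map_preimage, Category.assoc, ← hp, hℓ i]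
  let Φ : ι → (Γ(F, ⊤) →ₐ[K] Ω) := fun i =>
    { toRingHom := (Spec.preimage (ℓ i ≫ F.isoSpec.hom)).hom
      commutes' := fun r => by
        have := congrArg (fun φ : CommRingCat.of K ⟶ CommRingCat.of Ω => φ.hom r) (hcomm i)
        exact this }
  have hΦ : Function.Injective Φ := by
    intro i j hij
    apply hinj
    have h1 : (Spec.preimage (ℓ i ≫ F.isoSpec.hom)).hom = (Spec.preimage (ℓ j ≫ F.isoSpec.hom)).hom :=
      congrArg (fun φ : Γ(F, ⊤) →ₐ[K] Ω => φ.toRingHom) hij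
    have h2 : Spec.preimage (ℓ i ≫ F.isoSpec.hom) = Spec.preimage (ℓ j ≫ F.isoSpec.hom) :=
      CommRingCat.hom_ext h1
    have h3 := congrArg Spec.map h2
    rw [Spec.map_preimage, Spec.map_preimage] at h3
    exact (cancel_mono _).1 h3
  have hfinM : Module.Finite K Γ(F, ⊤) := hfin
  have h4 : Nat.card ι ≤ Nat.card (Γ(F, ⊤) →ₐ[K] Ω) := Nat.card_le_card_of_injective Φ hΦ
  have h5 : Nat.card (Γ(F, ⊤) →ₐ[K] Ω) ≤ Module.finrank K Γ(F, ⊤) := card_algHom_le_finrank K _ Ω
  exact h4.trans (h5.trans hrk)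

set_option backward.isDefEq.respectTransparency.types false in
theorem exists_bound_of_etale_compact {K : Type u} [Field K] {F : Scheme.{u}}
    (c : F ⟶ Spec (CommRingCat.of K)) [Etale c] [CompactSpace ↥F] :
    ∃ N : ℕ, ∀ (Ω : Type u) [Field Ω] (β₀ : Spec (CommRingCat.of Ω) ⟶ Spec (CommRingCat.of K))
      (ι : Type) [Finite ι] (ℓ : ι → (Spec (CommRingCat.of Ω) ⟶ F)), Function.Injective ℓ →
      (∀ i, ℓ i ≫ c = β₀) → Nat.card ι ≤ N := by
  have hF : Finite ↥F := finite_of_etale_of_compact c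
  have hfin : IsFinite c := isFinite_of_etale_of_finite_carrier c
  have hflat : Flat c := inferInstance
  let pt : Spec (CommRingCat.of K) := IsLocalRing.closedPoint K
  refine ⟨c.finrank pt, fun Ω _ β₀ ι _ ℓ hinj hℓ => ?_⟩
  exact card_le_of_lifts c (finiteOfDegLE_of_finite_flat (isField_of K) c pt) β₀ ℓ hinj hℓ

end Groth.Agent.Lib.Helper24.Filt7a
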