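import Groth.Agent.Lib.Helper24.QfFin5
import Groth.Agent.Lib.Helper14.DimFormula
import Groth.Agent.Lib.Helper14.QfAt2
import Groth.Agent.Lib.Helper14.LqfLocus
set_option autoImplicit false
universe u
open CategoryTheory CategoryTheory.Limits AlgebraicGeometry Opposite

namespace Groth.Agent.Lib.Helper24.FinDense1

open Groth.Agent.Lib.Helper14.AS Groth.Agent.Lib.Helper24.QfFin1 Groth.Agent.Lib.Helper24.QfFin5

/-- every nonempty open of a scheme contains a point whose local ring has dimension zero -/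
theorem exists_stalkDim_zero_mem_open {A : Scheme.{u}} {N : Set ↥A} (hN : IsOpen N) {α : ↥A}
    (hα : α ∈ N) : ∃ ξ ∈ N, ringKrullDim (A.presheaf.stalk ξ) = 0 := by
  have hirr : IsIrreducible (irreducibleComponent α) := isIrreducible_irreducibleComponent
  have hcl : IsClosed (irreducibleComponent α) := isClosed_irreducibleComponent
  obtain ⟨ξ, hξ⟩ := QuasiSober.sober hirr hcl
  have hc : closure {ξ} = irreducibleComponent α := hξ
  refine ⟨ξ, ?_, ringKrullDim_stalk_eq_zero_of_closure_mem ξ (by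
    rw [hc]; exact irreducibleComponent_mem_irreducibleComponents α)⟩
  have hs : ξ ⤳ α := by
    rw [specializes_iff_mem_closure, hc]
    exact mem_irreducibleComponent
  exact hs.mem_open hN hα

/-- a point of codimension zero has an open neighbourhood with no other point of codimension zero,
when there are finitely many such points -/
theorem exists_opens_unique_stalkDim_zero {U : Scheme.{u}}
    (hfin : {ξ : ↥U | ringKrullDim (U.presheaf.stalk ξ) = 0}.Finite) {u : ↥U}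
    (hu : ringKrullDim (U.presheaf.stalk u) = 0) :
    ∃ O : U.Opens, u ∈ O ∧ ∀ ξ ∈ O, ringKrullDim (U.presheaf.stalk ξ) = 0 → ξ = u := by
  let Z : Set ↥U := ⋃ ξ ∈ {ξ : ↥U | ringKrullDim (U.presheaf.stalk ξ) = 0 ∧ ξ ≠ u}, closure {ξ}
  have hZ : IsClosed Z := by
    refine Set.Finite.isClosed_biUnion (hfin.subset fun ξ hξ => hξ.1) fun ξ _ => isClosed_closure
  refine ⟨⟨Zᶜ, hZ.isOpen_compl⟩, ?_, ?_⟩
  · intro hmem
    simp only [Z, Set.mem_iUnion] at hmem
    obtain ⟨ξ, ⟨hξ0, hξne⟩, hξ⟩ := hmem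
    have hs : ξ ⤳ u := specializes_iff_mem_closure.2 hξ
    exact hξne (eq_of_specializes_of_stalkDim_zero hu hs)
  · intro ξ hξ hξ0
    by_contra hne
    apply hξ
    simp only [Z, Set.mem_iUnion]
    exact ⟨ξ, ⟨hξ0, hne⟩, subset_closure rfl⟩

/-- a compact open containing a finite set -/
theorem exists_compact_opens_of_finite {R : Scheme.{u}} {F : Set ↥R} (hF : F.Finite) :
    ∃ W : R.Opens, IsCompact (W : Set ↥R) ∧ F ⊆ W := by
  classical
  have hch : ∀ r : ↥R, ∃ N : R.Opens, IsAffineOpen N ∧ r ∈ N := fun r => by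
    obtain ⟨N, hN, hr, -⟩ := exists_isAffineOpen_mem_and_subset (x := r) (U := ⊤) trivial
    exact ⟨N, hN, hr⟩
  choose N hN hrN using hch
  refine ⟨⨆ r ∈ hF.toFinset, N r, ?_, ?_⟩
  · have : ((⨆ r ∈ hF.toFinset, N r : R.Opens) : Set ↥R) = ⋃ r ∈ hF.toFinset, (N r : Set ↥R) := by
      simp
    rw [this]
    exact hF.toFinset.isCompact_biUnion fun r _ => (hN r).isCompact
  · intro r hr
    simp only [TopologicalSpace.Opens.coe_iSup, Set.mem_iUnion]
    exact ⟨r, hF.mem_toFinset.2 hr, hrN r⟩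

set_option backward.isDefEq.respectTransparency.types false in
/-- a separated morphism locally of finite type with finite quasi-finite fibre over a point of
codimension zero is finite over a neighbourhood, provided the points of codimension zero of the
source lie over points of codimension zero and these are isolated near the point -/
theorem exists_opens_finite_of_finite_fibre {R V : Scheme.{u}} [IsAffine V] (h : R ⟶ V)
    [LocallyOfFiniteType h] [IsSeparated h] (v : ↥V)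
    (hv : ringKrullDim (V.presheaf.stalk v) = 0) (hfib : (h ⁻¹' {v}).Finite)
    (hfd : ∀ r : ↥R, h r = v → FlatMor.fibreDimAt h r = 0)
    (hstar : ∀ r : ↥R, ringKrullDim (R.presheaf.stalk r) = 0 →
      ringKrullDim (V.presheaf.stalk (h r)) = 0)
    (O₀ : V.Opens) (hvO₀ : v ∈ O₀)
    (hO₀ : ∀ ξ ∈ O₀, ringKrullDim (V.presheaf.stalk ξ) = 0 → ξ = v) :
    ∃ O : V.Opens, v ∈ O ∧ O ≤ O₀ ∧ IsFinite (h ∣_ O) := by
  obtain ⟨W, hWc, hFW⟩ := exists_compact_opens_of_finite hfib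
  have hcs : CompactSpace ↥W := isCompact_iff_compactSpace.1 hWc
  have hqc : QuasiCompact (W.ι ≫ h) :=
    (HasAffineProperty.iff_of_isAffine (P := @QuasiCompact)).2 hcs
  obtain ⟨O₂, -, hvO₂, hO₂⟩ := exists_affineOpen_finite (W.ι ≫ h) v hv (fun r hr => by
    have hr' : h (W.ι r) = v := hr
    have e := Groth.Agent.Lib.Helper6.EtaleSq.fibreDimAt_etale_square h (W.ι ≫ h) W.ι (𝟙 V)
      (by rw [Category.comp_id]) r
    obtain ⟨W', hrW', h1, -⟩ := exists_opens_lqf_of_fibreDimAt_le_zero (W.ι ≫ h) r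
      (le_of_eq (e.symm.trans (hfd _ hr')))
    exact ⟨W', hrW', h1⟩)
  have hfin : IsFinite ((W.ι ≫ h) ∣_ (O₀ ⊓ O₂)) := isFinite_restrict_of_le (W.ι ≫ h) inf_le_right
  refine ⟨O₀ ⊓ O₂, ⟨hvO₀, hvO₂⟩, inf_le_left, ?_⟩
  set O := O₀ ⊓ O₂ with hO
  -- the comparison open immersion
  have hrange : Set.range (((W.ι ≫ h) ⁻¹ᵁ O).ι ≫ W.ι) ⊆ Set.range (h ⁻¹ᵁ O).ι := by
    rintro _ ⟨x, rfl⟩
    rw [Scheme.Opens.range_ι]
    exact x.2
  let k : ((W.ι ≫ h) ⁻¹ᵁ O).toScheme ⟶ (h ⁻¹ᵁ O).toScheme :=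
    IsOpenImmersion.lift (h ⁻¹ᵁ O).ι (((W.ι ≫ h) ⁻¹ᵁ O).ι ≫ W.ι) hrange
  have hk : k ≫ (h ⁻¹ᵁ O).ι = ((W.ι ≫ h) ⁻¹ᵁ O).ι ≫ W.ι := IsOpenImmersion.lift_fac _ _ _
  have hk2 : k ≫ (h ∣_ O) = (W.ι ≫ h) ∣_ O := by
    rw [← cancel_mono O.ι, Category.assoc, morphismRestrict_ι, ← Category.assoc, hk,
      morphismRestrict_ι, Category.assoc]
  have hkoi : IsOpenImmersion k := by
    have : IsOpenImmersion (k ≫ (h ⁻¹ᵁ O).ι) := by rw [hk]; infer_instance
    exact IsOpenImmersion.of_comp k (h ⁻¹ᵁ O).ι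
  have hkuc : UniversallyClosed k := by
    have : UniversallyClosed (k ≫ (h ∣_ O)) := by rw [hk2]; infer_instance
    exact UniversallyClosed.of_comp_of_isSeparated k (h ∣_ O)
  have hcl : IsClosed (Set.range k) := k.isClosedMap.isClosed_range
  -- the range of `k` is everything
  have hsurj : Function.Surjective k := by
    by_contra hns
    have hne : (Set.range k)ᶜ.Nonempty := by
      rw [Set.nonempty_compl]
      intro hu
      exact hns (Set.range_eq_univ.1 hu)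
    obtain ⟨α, hα⟩ := hne
    obtain ⟨ξ, hξ, hξ0⟩ := exists_stalkDim_zero_mem_open hcl.isOpen_compl hα
    -- ξ is a point of `h ⁻¹ᵁ O` of codimension zero
    have e0 : ringKrullDim (R.presheaf.stalk ((h ⁻¹ᵁ O).ι ξ)) = 0 := by
      rw [← hξ0]
      exact (ringKrullDim_eq_of_ringEquiv
        (asIso ((h ⁻¹ᵁ O).ι.stalkMap ξ)).commRingCatIsoToRingEquiv)
    have e1 := hstar _ e0
    have hmem : h ((h ⁻¹ᵁ O).ι ξ) ∈ O := ξ.2
    have e2 : h ((h ⁻¹ᵁ O).ι ξ) = v := hO₀ _ hmem.1 e1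
    have hW' : (h ⁻¹ᵁ O).ι ξ ∈ W := hFW e2
    apply hξ
    have hmem2 : (⟨(h ⁻¹ᵁ O).ι ξ, hW'⟩ : ↥W) ∈ (W.ι ≫ h) ⁻¹ᵁ O := hmem
    refine ⟨⟨⟨(h ⁻¹ᵁ O).ι ξ, hW'⟩, hmem2⟩, ?_⟩
    apply (h ⁻¹ᵁ O).ι.isOpenEmbedding.injective
    rw [← Scheme.Hom.comp_apply, hk]
    rfl
  have hiso : IsIso k := by
    have : Surjective k := ⟨hsurj⟩
    exact isIso_of_isOpenImmersion_of_opensRange_eq_top k (by
      apply TopologicalSpace.Opens.ext
      exact Set.range_eq_univ.2 hsurj)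
  have : h ∣_ O = inv k ≫ ((W.ι ≫ h) ∣_ O) := by rw [← hk2, IsIso.inv_hom_id_assoc]
  rw [this]
  infer_instance

end Groth.Agent.Lib.Helper24.FinDense1
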