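import Groth.Agent.Lib.Helper24.FinDense1
import Groth.Agent.Lib.Helper24.OpenSubSp
import Groth.Agent.Lib.Helper24.AlgStAffine
import Groth.Agent.Lib.Helper14.AlgSpDim
import Groth.Agent.Lib.Helper14.AlgSpFibrePt2
import Groth.Agent.Lib.Helper14.AlgSpLargestOpen
import Groth.Agent.S10540
set_option autoImplicit false
universe u
open CategoryTheory CategoryTheory.Limits AlgebraicGeometry Opposite

namespace Groth.Agent.Lib.Helper24.FinDense2

open AlgSp Groth.Agent.Lib.Helper14.AS Groth.Agent.Lib.Helper24.FinDense1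
  Groth.Agent.Lib.Helper24.OpenSubSp Groth.Agent.Lib.Helper24.AlgStAffine

variable {S : Scheme.{u}}

/-- the codimension zero condition -/
abbrev Q0 : ∀ U : Scheme.{u}, ↥U → Prop := fun U u => ringKrullDim ↥(U.presheaf.stalk u) = 0

/-- codimension zero is read off on any chart diagram when `f` preserves and reflects it -/
theorem stalkDim_zero_chart_diagram_iff {X Y : Space S} (f : X ⟶ Y)
    (hpre : ∀ x : Points X.obj, HasAt Q0 X.obj x ↔ HasAt Q0 Y.obj (Points.map f.hom x))
    {A T : Over S} (α : (yon S).obj A ⟶ X.obj) (c : (yon S).obj T ⟶ Y.obj) (k : A ⟶ T)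
    (hα : RepWith @Etale α) (hc : RepWith @Etale c) (comm : α ≫ f.hom = (yon S).map k ≫ c)
    (p : ↥A.left) :
    ringKrullDim (A.left.presheaf.stalk p) = 0 ↔
      ringKrullDim (T.left.presheaf.stalk (k.left p)) = 0 := by
  have e : Points.map f.hom (Points.ofPt α p) = Points.ofPt c (k.left p) := by
    rw [Points.map_ofPt, comm, ofPt_yon_map_comp]
  constructor
  · intro h
    have h1 : HasAt Q0 X.obj (Points.ofPt α p) := ⟨A, α, p, hα, rfl, h⟩
    have h2 := (hpre _).1 h1
    rw [e] at h2
    exact (hasAt_ringKrullDim_iff_forall Y.property _ 0).1 h2 T c _ hc rfl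
  · intro h
    have h2 : HasAt Q0 Y.obj (Points.ofPt c (k.left p)) := ⟨T, c, _, hc, rfl, h⟩
    rw [← e] at h2
    have h1 := (hpre _).2 h2
    exact (hasAt_ringKrullDim_iff_forall X.property _ 0).1 h1 A α p hα rfl

/-- every nonempty open of an algebraic space contains a point of codimension zero -/
theorem exists_codimZero_mem_open {Z : Sp S} (hZ : IsAlgSpace Z) {W : Set (Points Z)}
    (hW : IsOpen W) {w : Points Z} (hw : w ∈ W) : ∃ w₀ ∈ W, HasAt Q0 Z w₀ := by
  obtain ⟨A, a, hae, has⟩ := hZ.atlas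
  obtain ⟨α, rfl⟩ := ofPt_surjective_of_repWith has w
  have hN : IsOpen (Points.ofPt a ⁻¹' W) := hW.preimage (Points.continuous_ofPt a)
  obtain ⟨ξ, hξ, hξ0⟩ := exists_stalkDim_zero_mem_open hN (α := α) hw
  exact ⟨Points.ofPt a ξ, hξ, A, a, ξ, hae, rfl, hξ0⟩

/-- the points of codimension zero are dense -/
theorem dense_of_codimZero_subset {Z : Sp S} (hZ : IsAlgSpace Z) {W : Set (Points Z)}
    (h : ∀ z, HasAt Q0 Z z → z ∈ W) : Dense W := by
  rw [dense_iff_inter_open]
  rintro O hO ⟨w, hw⟩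
  obtain ⟨w₀, hw₀, h0⟩ := exists_codimZero_mem_open hZ hO hw
  exact ⟨w₀, hw₀, h _ h0⟩

/-- an affine étale chart of a decent space with finitely many points of codimension zero has
finitely many points of codimension zero -/
theorem finite_stalkDim_zero_of_chart {Y : Sp S} (hd : IsDecent Y)
    (hY0 : {y : Points Y | HasAt Q0 Y y}.Finite) {T : Over S} (hT : IsAffine T.left)
    (c : (yon S).obj T ⟶ Y) (hc : RepWith @Etale c) :
    {t : ↥T.left | ringKrullDim (T.left.presheaf.stalk t) = 0}.Finite := by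
  have h1 : (Points.ofPt c ⁻¹' {y : Points Y | HasAt Q0 Y y}).Finite :=
    hY0.preimage' fun y _ => finite_fibre_of_isDecent hd y T c hT hc
  refine h1.subset fun t ht => ?_
  exact ⟨T, c, t, hc, rfl, ht⟩

/-- a surjective open immersion of sheaves is an isomorphism -/
theorem isIso_of_openImmersion_of_surjective {F G : Sp S} {j : F ⟶ G}
    (hj : RepWith @IsOpenImmersion j) (hs : Function.Surjective (Points.map j)) : IsIso j := by
  have := mono_of_openImmersion hj
  obtain ⟨c, hc⟩ := exists_lift_of_range_subset hj (𝟙 G) (by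
    rw [Set.range_eq_univ.2 hs]; exact Set.subset_univ _)
  refine ⟨c, ?_, hc⟩
  rw [← cancel_mono j, Category.assoc, hc, Category.comp_id, Category.id_comp]

theorem isFiniteMor_iso_comp {F F' G : Sp S} (e : F' ⟶ F) [IsIso e] {f : F ⟶ G}
    (hf : IsFiniteMor f) : IsFiniteMor (e ≫ f) :=
  isFiniteMor_of_isPullback (fst := e) (g := 𝟙 G) (IsPullback.of_horiz_isIso ⟨by simp⟩) hf

/-- locality for étale coverings from locality for fpqc coverings -/
theorem isLocalOnBase_et_of_fpqc {P : MorphismProperty (Sp S)}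
    (h : IsLocalOnBase IsFpqcCover P) : IsLocalOnBase (CoverOf (IsEtaleMor (S := S))) P :=
  fun _ _ Yi g hY hYi hcov _ f hX Xi p q hXi sq =>
    h Yi g hY hYi (isFpqcCover_of_isEtCover hY Yi g hYi hcov) f hX Xi p q hXi sq

/-- finiteness over the image of an étale chart -/
theorem hasOver_isFiniteMor_of_chart {X Y : Space S} (f : X ⟶ Y) {O : Over S}
    (c : (yon S).obj O ⟶ Y.obj) (hc : RepWith @Etale c) {P : Sp S} (hP : IsAlgSpace P)
    (prX : P ⟶ X.obj) (prO : P ⟶ (yon S).obj O) (sq : IsPullback prX prO f.hom c)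
    (hfin : IsFiniteMor prO) :
    HasOver IsFiniteMor f (Set.range (Points.ofPt c)) := by
  let OS : Space S := ⟨(yon S).obj O, IsAlgSpace.yon_obj O⟩
  let PS : Space S := ⟨P, hP⟩
  have h := hasOver_range coverClass_isEtaleMor
    (isLocalOnBase_et_of_fpqc (Groth.Agent.S10540.result S)) f
    (ObjectProperty.homMk c : OS ⟶ Y) (ObjectProperty.homMk prX : PS ⟶ X)
    (ObjectProperty.homMk prO : PS ⟶ OS) (isEtaleMor_of_repWith_etale hc) sq hfin
  have e : Set.range (Points.map c) = Set.range (Points.ofPt c) := by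
    ext y
    constructor
    · rintro ⟨z, rfl⟩
      obtain ⟨t, rfl⟩ := (Points.schemeHomeo O).surjective z
      exact ⟨t, Points.ofPt_eq_map_ofScheme c t⟩
    · rintro ⟨t, rfl⟩
      exact ⟨_, (Points.ofPt_eq_map_ofScheme c t).symm⟩
  rw [← e]
  exact h

end Groth.Agent.Lib.Helper24.FinDense2
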