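import Groth.Agent.Lib.Helper24.FinDense2
set_option autoImplicit false
universe u
open CategoryTheory CategoryTheory.Limits AlgebraicGeometry Opposite

namespace Groth.Agent.Lib.Helper24.FinDense3

open AlgSp Groth.Agent.Lib.Helper14.AS Groth.Agent.Lib.Helper24.FinDense1
  Groth.Agent.Lib.Helper24.FinDense2 Groth.Agent.Lib.Helper24.QfFin2 Groth.Agent.Lib.Helper24.QfFin3
  Groth.Agent.Lib.Helper24.QfFin4 Groth.Agent.Lib.Helper24.QfFin5 Groth.Agent.Lib.Helper24.ZarGlue
  Groth.Agent.Lib.Helper24.QfFin1

variable {S : Scheme.{u}}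

/-- the chart over an open of the base -/
theorem exists_chart_over_opens {X : Sp S} {U V : Over S}
    (f : X ⟶ (yon S).obj V) (a : (yon S).obj U ⟶ X) (g : U ⟶ V) (hae : RepWith @Etale a)
    (has : RepWith @Surjective a) (comm : a ≫ f = (yon S).map g) (O : V.left.Opens) :
    ∃ a' : (yon S).obj (resOpen U (g.left ⁻¹ᵁ O)) ⟶ pullback f ((yon S).map (resOpenι V O)),
      RepWith @Etale a' ∧ RepWith @Surjective a' ∧
      a' ≫ pullback.snd f ((yon S).map (resOpenι V O)) = (yon S).map (resHom g O) ∧
      a' ≫ pullback.fst f ((yon S).map (resOpenι V O)) =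
        (yon S).map (resOpenι U (g.left ⁻¹ᵁ O)) ≫ a := by
  have sqX := IsPullback.of_hasPullback f ((yon S).map (resOpenι V O))
  have sqA : IsPullback ((yon S).map (resOpenι U (g.left ⁻¹ᵁ O))) ((yon S).map (resHom g O))
      (a ≫ f) ((yon S).map (resOpenι V O)) := by
    rw [comm]
    exact (isPullback_resHom g O).map (yon S)
  let a' : (yon S).obj (resOpen U (g.left ⁻¹ᵁ O)) ⟶ pullback f ((yon S).map (resOpenι V O)) :=
    pullback.lift ((yon S).map (resOpenι U (g.left ⁻¹ᵁ O)) ≫ a) ((yon S).map (resHom g O)) (by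
      rw [Category.assoc]; exact sqA.w)
  have h1 : a' ≫ pullback.fst f ((yon S).map (resOpenι V O)) =
      (yon S).map (resOpenι U (g.left ⁻¹ᵁ O)) ≫ a := pullback.lift_fst _ _ _
  have h2 : a' ≫ pullback.snd f ((yon S).map (resOpenι V O)) = (yon S).map (resHom g O) :=
    pullback.lift_snd _ _ _
  have sq1 : IsPullback ((yon S).map (resOpenι U (g.left ⁻¹ᵁ O))) a' a
      (pullback.fst f ((yon S).map (resOpenι V O))) := by
    refine IsPullback.of_bot ?_ h1.symm sqX
    rw [h2]
    exact sqA
  exact ⟨a', repWith_of_isPullback _ sq1 hae, repWith_of_isPullback _ sq1 has, h2, h1⟩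

set_option backward.isDefEq.respectTransparency.types false in
/-- a finite étale chart whose relation has finite fibre over a point of codimension zero: the
space is finite over a neighbourhood of the point -/
theorem exists_opens_isFiniteMor_of_finite_chart {X : Sp S} (hX : IsAlgSpace X) {U V : Over S}
    [IsAffine V.left]
    (f : X ⟶ (yon S).obj V) (a : (yon S).obj U ⟶ X) (g : U ⟶ V) (hae : RepWith @Etale a)
    (has : RepWith @Surjective a) (comm : a ≫ f = (yon S).map g)
    (hft : IsFiniteTypeMor f) (hg : IsFinite g.left) (v : ↥V.left)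
    (hv : ringKrullDim (V.left.presheaf.stalk v) = 0)
    (hfd : ∀ u : ↥U.left, g.left u = v → FlatMor.fibreDimAt g.left u = 0)
    (hstar : ∀ u : ↥U.left, ringKrullDim (U.left.presheaf.stalk u) = 0 →
      ringKrullDim (V.left.presheaf.stalk (g.left u)) = 0)
    (O₀ : V.left.Opens) (hvO₀ : v ∈ O₀)
    (hO₀ : ∀ ξ ∈ O₀, ringKrullDim (V.left.presheaf.stalk ξ) = 0 → ξ = v) :
    ∃ O : V.left.Opens, v ∈ O ∧ O ≤ O₀ ∧
      IsFiniteMor (pullback.snd f ((yon S).map (resOpenι V O))) := by
  have hse : Etale (s a hae).left := etale_s a hae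
  have hlfth : LocallyOfFiniteType (s a hae ≫ g).left := by
    change LocallyOfFiniteType ((s a hae).left ≫ g.left)
    infer_instance
  have hjm : Mono (j f a g hae comm).left := mono_j f a g hae comm
  have hpb : IsFinite (pullback.fst g g).left := by
    have sq := (IsPullback.of_hasPullback g g).map (Over.forget S)
    have hga : IsFinite ((Over.forget S).map g) := hg
    exact MorphismProperty.of_isPullback (P := @IsFinite) sq.flip hga
  have hq : IsFinite ((pullback.fst g g).left ≫ g.left) := inferInstance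
  have hdecomp : (s a hae ≫ g).left =
      (j f a g hae comm).left ≫ (pullback.fst g g).left ≫ g.left := by
    rw [← j_fst f a g hae comm]
    rfl
  have hseph : IsSeparated (s a hae ≫ g).left := by
    rw [hdecomp]; infer_instance
  have hfib : ((s a hae ≫ g).left ⁻¹' {v}).Finite := by
    have h1 : (((pullback.fst g g).left ≫ g.left) ⁻¹' {v}).Finite :=
      ((pullback.fst g g).left ≫ g.left).finite_preimage_singleton v
    have h2 := h1.preimage ((j f a g hae comm).left.injective.injOn)
    refine h2.subset fun r hr => ?_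
    change ((pullback.fst g g).left ≫ g.left) ((j f a g hae comm).left r) = v
    rw [← Scheme.Hom.comp_apply, ← hdecomp]
    exact hr
  have hfdh : ∀ r : ↥(R a hae).left, (s a hae ≫ g).left r = v →
      FlatMor.fibreDimAt (s a hae ≫ g).left r = 0 := by
    intro r hr
    have hr' : g.left ((s a hae).left r) = v := hr
    have e := Groth.Agent.Lib.Helper6.EtaleSq.fibreDimAt_etale_square g.left (s a hae ≫ g).left
      (s a hae).left (𝟙 V.left) (by rw [Category.comp_id]; rfl) r
    exact e.symm.trans (hfd _ hr')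
  have hstarh : ∀ r : ↥(R a hae).left, ringKrullDim ((R a hae).left.presheaf.stalk r) = 0 →
      ringKrullDim (V.left.presheaf.stalk ((s a hae ≫ g).left r)) = 0 := by
    intro r hr
    have hs' : RepWith @Etale ((yon S).map (s a hae)) := (repWith_yon_map_iff _ _).2 hse
    have hid : RepWith @Etale (𝟙 ((yon S).obj U)) := by
      rw [← (yon S).map_id]
      exact (repWith_yon_map_iff _ _).2 (inferInstanceAs (Etale (𝟙 U.left)))
    have e := ringKrullDim_stalk_chart_indep ((yon S).map (s a hae)) hs' (𝟙 _) hid r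
      ((s a hae).left r) (by rw [← Category.comp_id ((yon S).map (s a hae)), ofPt_yon_map_comp])
    rw [e] at hr
    exact hstar _ hr
  obtain ⟨O, hvO, hOO₀, hfinh⟩ := exists_opens_finite_of_finite_fibre (s a hae ≫ g).left v hv hfib
    hfdh hstarh O₀ hvO₀ hO₀
  refine ⟨O, hvO, hOO₀, ?_⟩
  have hgO : IsFinite (g.left ∣_ O) := IsZariskiLocalAtTarget.restrict hg O
  exact isFiniteMor_over_opens hX f a g hae has comm hft O hgO hfinh

end Groth.Agent.Lib.Helper24.FinDense3
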