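import Groth.Agent.Lib.Helper24.FinDense3
import Groth.Agent.Lib.Helper14.AlgSpQC
import Groth.Agent.Lib.Helper14.SchImg1
import Groth.Agent.Lib.Helper14.RelDim0
import Groth.Agent.Lib.Helper14.HasAtMorChart
import Groth.Agent.S10399
set_option autoImplicit false
universe u
open CategoryTheory CategoryTheory.Limits AlgebraicGeometry Opposite

namespace Groth.Agent.Lib.Helper24.FinDense4

open AlgSp Groth.Agent.Lib.Helper14.AS Groth.Agent.Lib.Helper24.FinDense1
  Groth.Agent.Lib.Helper24.FinDense2 Groth.Agent.Lib.Helper24.FinDense3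
  Groth.Agent.Lib.Helper24.QfFin4 Groth.Agent.Lib.Helper24.QfFin5 Groth.Agent.Lib.Helper24.ZarGlue
  Groth.Agent.Lib.Helper24.QfFin1

variable {S : Scheme.{u}}

/-- quasi-finiteness at all points over a point of codimension zero -/
theorem hasAtMor_qf_of_hpre {X Y : Space S} (f : X ⟶ Y)
    (hf : LocP @LocallyOfFiniteType f.hom)
    (hpre : ∀ x : Points X.obj, HasAt Q0 X.obj x ↔ HasAt Q0 Y.obj (Points.map f.hom x))
    (y : Points Y.obj) (hy : HasAt Q0 Y.obj y) (x : Points X.obj) (hx : Points.map f.hom x = y) :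
    HasAtMor (fun U _ h u => ∃ W : U.Opens, u ∈ W ∧ LocallyQuasiFinite (W.ι ≫ h) ∧
      LocallyOfFiniteType (W.ι ≫ h)) f.hom x :=
  (Groth.Agent.S10399.result f hf y hy).1.1 (fun x hx => (hpre x).2 (hx ▸ hy)) x hx

/-- fibre dimension zero on chart diagrams through points over a point of codimension zero -/
theorem fibreDimAt_eq_zero_of_chart {X Y : Space S} (f : X ⟶ Y)
    (hf : LocP @LocallyOfFiniteType f.hom)
    (hpre : ∀ x : Points X.obj, HasAt Q0 X.obj x ↔ HasAt Q0 Y.obj (Points.map f.hom x))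
    (y : Points Y.obj) (hy : HasAt Q0 Y.obj y)
    {A T : Over S} (α : (yon S).obj A ⟶ X.obj) (c : (yon S).obj T ⟶ Y.obj) (k : A ⟶ T)
    (hα : RepWith @Etale α) (hc : RepWith @Etale c) (comm : α ≫ f.hom = (yon S).map k ≫ c)
    (p : ↥A.left) (hp : Points.ofPt c (k.left p) = y) : FlatMor.fibreDimAt k.left p = 0 := by
  have hx : Points.map f.hom (Points.ofPt α p) = y := by
    rw [Points.map_ofPt, comm, ofPt_yon_map_comp]
    exact hp
  have h1 := (hasAtMor_qf_iff f.hom hf _).1 (hasAtMor_qf_of_hpre f hf hpre y hy _ hx)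
  exact (hasAtMor_ofPt_iff (etSqInv_fibreDimAt (fun d => d = 0)) f.hom α c k hα hc comm p).1 h1

set_option backward.isDefEq.respectTransparency.types false in
/-- the quasi-compact case -/
theorem exists_hasOver_of_quasiCompact {X Y : Space S} (f : X ⟶ Y)
    (hf : LocP @LocallyOfFiniteType f.hom) (hY : IsDecent Y.obj)
    (hY0 : {y : Points Y.obj | HasAt Q0 Y.obj y}.Finite)
    (hpre : ∀ x : Points X.obj, HasAt Q0 X.obj x ↔ HasAt Q0 Y.obj (Points.map f.hom x))
    (hqc : IsQuasiCompactMor f.hom) (y : Points Y.obj) (hy : HasAt Q0 Y.obj y) :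
    ∃ W : Set (Points Y.obj), IsOpen W ∧ y ∈ W ∧ HasOver IsFiniteMor f W := by
  obtain ⟨V₀, b₀, v₀, hb₀e, hv₀, -⟩ := id hy
  obtain ⟨W₀, hW₀, hvW₀⟩ : ∃ W₀ : V₀.left.Opens, IsAffineOpen W₀ ∧ v₀ ∈ W₀ := by
    obtain ⟨_, ⟨W₀, hW₀, rfl⟩, hvW₀, -⟩ :=
      V₀.left.isBasis_affineOpens.exists_subset_of_mem_open (Set.mem_univ v₀) isOpen_univ
    exact ⟨W₀, hW₀, hvW₀⟩
  let V : Over S := resOpen V₀ W₀
  have hVaff : IsAffine V.left := hW₀
  let b : (yon S).obj V ⟶ Y.obj := (yon S).map (resOpenι V₀ W₀) ≫ b₀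
  have hιe : RepWith @Etale ((yon S).map (resOpenι V₀ W₀)) :=
    (repWith_yon_map_iff _ _).2 (inferInstanceAs (Etale (Scheme.Opens.ι W₀)))
  have hbe : RepWith @Etale b := repWith_comp _ hιe hb₀e
  let v : ↥V.left := (⟨v₀, hvW₀⟩ : ↥W₀)
  have hbv : Points.ofPt b v = y := by
    rw [ofPt_yon_map_comp]
    exact hv₀
  have hv : ringKrullDim (V.left.presheaf.stalk v) = 0 :=
    (hasAt_ringKrullDim_iff_forall Y.property y 0).1 hy V b v hbe hbv
  have hVsp := IsAlgSpace.yon_obj V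
  have sqV := IsPullback.of_hasPullback f.hom b
  have hXV : IsAlgSpace (pullback f.hom b) :=
    isAlgSpace_of_isPullback (repDiag_of_isAlgSpace Y.property) X.property hVsp sqV
  have hftV : IsFiniteTypeMor (pullback.snd f.hom b) :=
    ⟨locP_baseChange etLocal_lft X.property Y.property hVsp f.hom b _ _ sqV hf,
      isQuasiCompactMor_of_isPullback sqV hqc⟩
  have hqcX : IsQuasiCompactSp (pullback f.hom b) :=
    hqc hVsp (isQuasiCompactSp_yon V) b _ _ sqV
  obtain ⟨U, a, hUaff, hae, has⟩ := isQuasiCompactSp_iff_exists_affine_chart.1 hqcX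
  obtain ⟨g, hg⟩ := (yon S).map_surjective (a ≫ pullback.snd f.hom b)
  have comm : a ≫ pullback.snd f.hom b = (yon S).map g := hg.symm
  have hxe : RepWith @Etale (pullback.fst f.hom b) := repWith_of_isPullback _ sqV.flip hbe
  have hae2 : RepWith @Etale (a ≫ pullback.fst f.hom b) := repWith_comp _ hae hxe
  have comm2 : (a ≫ pullback.fst f.hom b) ≫ f.hom = (yon S).map g ≫ b := by
    rw [Category.assoc, sqV.w, ← Category.assoc, comm]
  have hfd : ∀ u : ↥U.left, g.left u = v → FlatMor.fibreDimAt g.left u = 0 := fun u hu =>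
    fibreDimAt_eq_zero_of_chart f hf hpre y hy _ b g hae2 hbe comm2 u (by rw [hu]; exact hbv)
  have hbe1 : RepWith @Etale (𝟙 ((yon S).obj V)) := by
    rw [← (yon S).map_id]
    exact (repWith_yon_map_iff _ _).2 (inferInstanceAs (Etale (𝟙 V.left)))
  have hlft : LocallyOfFiniteType g.left :=
    hftV.1 a (𝟙 _) g hae hbe1 (by rw [comm, Category.comp_id])
  obtain ⟨O₁, hO₁aff, hvO₁, hO₁⟩ := exists_affineOpen_finite g.left v hv (fun u hu => by
    obtain ⟨W, huW, h1, -⟩ := (qfAt_iff_fibreDimAt_eq_zero g.left u).2 (hfd u hu)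
    exact ⟨W, huW, h1⟩)
  -- shrink to `O₁`
  have hV₁aff : IsAffine (resOpen V O₁).left := hO₁aff
  obtain ⟨a₁, hae₁, has₁, hcomm₁, ha₁fst⟩ :=
    exists_chart_over_opens (pullback.snd f.hom b) a g hae has comm O₁
  have sq₁ := IsPullback.of_hasPullback (pullback.snd f.hom b) ((yon S).map (resOpenι V O₁))
  have hV₁sp := IsAlgSpace.yon_obj (resOpen V O₁)
  have hX₁ : IsAlgSpace (pullback (pullback.snd f.hom b) ((yon S).map (resOpenι V O₁))) :=
    isAlgSpace_of_isPullback (repDiag_of_isAlgSpace hVsp) hXV hV₁sp sq₁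
  have hft₁ : IsFiniteTypeMor
      (pullback.snd (pullback.snd f.hom b) ((yon S).map (resOpenι V O₁))) :=
    ⟨locP_baseChange etLocal_lft hXV hVsp hV₁sp _ _ _ _ sq₁ hftV.1,
      isQuasiCompactMor_of_isPullback sq₁ hftV.2⟩
  have hι₁e : RepWith @Etale ((yon S).map (resOpenι V O₁)) :=
    (repWith_yon_map_iff _ _).2 (inferInstanceAs (Etale (Scheme.Opens.ι O₁)))
  let c₁ : (yon S).obj (resOpen V O₁) ⟶ Y.obj := (yon S).map (resOpenι V O₁) ≫ b
  have hc₁e : RepWith @Etale c₁ := repWith_comp _ hι₁e hbe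
  have big₁ := sq₁.paste_horiz sqV
  have hx₁e : RepWith @Etale (pullback.fst (pullback.snd f.hom b) ((yon S).map (resOpenι V O₁)) ≫
      pullback.fst f.hom b) := repWith_of_isPullback _ big₁.flip hc₁e
  have hα₁e := repWith_comp _ hae₁ hx₁e
  have commα₁ : (a₁ ≫ pullback.fst (pullback.snd f.hom b) ((yon S).map (resOpenι V O₁)) ≫
      pullback.fst f.hom b) ≫ f.hom = (yon S).map (resHom g O₁) ≫ c₁ := by
    rw [Category.assoc, big₁.w, ← Category.assoc, hcomm₁]
  let v₁ : ↥(resOpen V O₁).left := (⟨v, hvO₁⟩ : ↥O₁)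
  have hc₁v : Points.ofPt c₁ v₁ = y := by
    rw [ofPt_yon_map_comp]
    exact hbv
  have hv₁ : ringKrullDim ((resOpen V O₁).left.presheaf.stalk v₁) = 0 :=
    (hasAt_ringKrullDim_iff_forall Y.property y 0).1 hy _ c₁ v₁ hc₁e hc₁v
  have hfd₁ : ∀ u : ↥(resOpen U (g.left ⁻¹ᵁ O₁)).left, (resHom g O₁).left u = v₁ →
      FlatMor.fibreDimAt (resHom g O₁).left u = 0 := fun u hu =>
    fibreDimAt_eq_zero_of_chart f hf hpre y hy _ c₁ (resHom g O₁) hα₁e hc₁e commα₁ u
      (by rw [hu]; exact hc₁v)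
  have hstar₁ : ∀ u : ↥(resOpen U (g.left ⁻¹ᵁ O₁)).left,
      ringKrullDim ((resOpen U (g.left ⁻¹ᵁ O₁)).left.presheaf.stalk u) = 0 →
      ringKrullDim ((resOpen V O₁).left.presheaf.stalk ((resHom g O₁).left u)) = 0 := fun u hu =>
    (stalkDim_zero_chart_diagram_iff f hpre _ c₁ (resHom g O₁) hα₁e hc₁e commα₁ u).1 hu
  obtain ⟨O₀, hvO₀, hO₀⟩ := exists_opens_unique_stalkDim_zero
    (finite_stalkDim_zero_of_chart hY hY0 hV₁aff c₁ hc₁e) hv₁
  obtain ⟨O, hvO, -, hfin⟩ := exists_opens_isFiniteMor_of_finite_chart hX₁ _ a₁ (resHom g O₁)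
    hae₁ has₁ hcomm₁ hft₁ hO₁ v₁ hv₁ hfd₁ hstar₁ O₀ hvO₀ hO₀
  -- conclusion
  have hιOe : RepWith @Etale ((yon S).map (resOpenι (resOpen V O₁) O)) :=
    (repWith_yon_map_iff _ _).2 (inferInstanceAs (Etale (Scheme.Opens.ι O)))
  have hcOe : RepWith @Etale ((yon S).map (resOpenι (resOpen V O₁) O) ≫ c₁) :=
    repWith_comp _ hιOe hc₁e
  have sqO := IsPullback.of_hasPullback
    (pullback.snd (pullback.snd f.hom b) ((yon S).map (resOpenι V O₁)))
    ((yon S).map (resOpenι (resOpen V O₁) O))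
  have bigO := sqO.paste_horiz big₁
  have hPO := isAlgSpace_of_isPullback (repDiag_of_isAlgSpace hV₁sp) hX₁
    (IsAlgSpace.yon_obj (resOpen (resOpen V O₁) O)) sqO
  refine ⟨Set.range (Points.ofPt ((yon S).map (resOpenι (resOpen V O₁) O) ≫ c₁)), ?_, ?_,
    hasOver_isFiniteMor_of_chart f _ hcOe hPO _ _ bigO hfin⟩
  · have := isOpenMap_ofPt _ hcOe Set.univ isOpen_univ
    rwa [Set.image_univ] at this
  · refine ⟨(⟨v₁, hvO⟩ : ↥O), ?_⟩
    rw [ofPt_yon_map_comp]
    exact hc₁v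

end Groth.Agent.Lib.Helper24.FinDense4
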