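import Groth.Agent.Lib.Helper24.FinDense4
import Groth.Agent.Lib.Helper14.EtSplit
import Groth.Agent.S10389
set_option autoImplicit false
universe u
open CategoryTheory CategoryTheory.Limits AlgebraicGeometry Opposite

namespace Groth.Agent.Lib.Helper24.FinDense5

open AlgSp Groth.Agent.Lib.Helper14.AS Groth.Agent.Lib.Helper24.FinDense1
  Groth.Agent.Lib.Helper24.FinDense2 Groth.Agent.Lib.Helper24.FinDense3
  Groth.Agent.Lib.Helper24.FinDense4 Groth.Agent.Lib.Helper24.AlgStAffine
  Groth.Agent.Lib.Helper24.QfFin4 Groth.Agent.Lib.Helper24.QfFin5 Groth.Agent.Lib.Helper24.ZarGlue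
  Groth.Agent.Lib.Helper24.QfFin1

variable {S : Scheme.{u}}

set_option backward.isDefEq.respectTransparency.types false in
/-- the separated case -/
theorem exists_hasOver_of_separated {X Y : Space S} (f : X ⟶ Y)
    (hf : LocP @LocallyOfFiniteType f.hom) (hY : IsDecent Y.obj)
    (hX0 : {x : Points X.obj | HasAt Q0 X.obj x}.Finite)
    (hY0 : {y : Points Y.obj | HasAt Q0 Y.obj y}.Finite)
    (hpre : ∀ x : Points X.obj, HasAt Q0 X.obj x ↔ HasAt Q0 Y.obj (Points.map f.hom x))
    (hsep : IsSeparatedMor f.hom) (y : Points Y.obj) (hy : HasAt Q0 Y.obj y) :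
    ∃ W : Set (Points Y.obj), IsOpen W ∧ y ∈ W ∧ HasOver IsFiniteMor f W := by
  obtain ⟨V, b, v, hbe, hbv, -⟩ := id hy
  have hVsp := IsAlgSpace.yon_obj V
  have sqV := IsPullback.of_hasPullback f.hom b
  have hXV : IsAlgSpace (pullback f.hom b) :=
    isAlgSpace_of_isPullback (repDiag_of_isAlgSpace Y.property) X.property hVsp sqV
  -- the fibre over `v` is finite
  let T : Set (Points (pullback f.hom b)) :=
    Points.map (pullback.snd f.hom b) ⁻¹' {Points.ofPt (𝟙 _) v}
  have hF : (Points.map f.hom ⁻¹' {y}).Finite :=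
    hX0.subset fun x hx => (hpre x).2 (by rw [hx]; exact hy)
  have hbv' : Points.map b (Points.ofPt (𝟙 _) v) = y := by
    rw [Points.map_ofPt, Category.id_comp]; exact hbv
  have hT : T.Finite := by
    let VS : Space S := ⟨(yon S).obj V, hVsp⟩
    let WS : Space S := ⟨pullback f.hom b, hXV⟩
    have hsub : T ⊆ ⋃ x ∈ Points.map f.hom ⁻¹' {y},
        {w : Points (pullback f.hom b) | Points.map (pullback.fst f.hom b) w = x ∧
          Points.map (pullback.snd f.hom b) w = Points.ofPt (𝟙 _) v} := by
      intro w hw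
      simp only [Set.mem_iUnion]
      refine ⟨Points.map (pullback.fst f.hom b) w, ?_, rfl, hw⟩
      change Points.map f.hom (Points.map (pullback.fst f.hom b) w) = y
      rw [← Points.map_comp, sqV.w, Points.map_comp, hw]
      exact hbv'
    refine (Set.Finite.biUnion hF fun x hx => ?_).subset hsub
    obtain ⟨r, hr, hm, -⟩ := hY y
    refine Groth.Agent.S10389.result f (ObjectProperty.homMk b : VS ⟶ Y)
      (ObjectProperty.homMk (pullback.fst f.hom b) : WS ⟶ X)
      (ObjectProperty.homMk (pullback.snd f.hom b) : WS ⟶ VS) sqV x (Points.ofPt (𝟙 _) v)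
      (hx.trans hbv'.symm) ⟨r, hr.trans hbv'.symm, hm⟩ ?_
    have hid : RepWith @Etale (𝟙 ((yon S).obj V)) := by
      rw [← (yon S).map_id]
      exact (repWith_yon_map_iff _ _).2 (inferInstanceAs (Etale (𝟙 V.left)))
    refine ⟨V, V, 𝟙 _, b, 𝟙 V, v, hid, hbe, by simp, rfl, ⊤, trivial, ?_, ?_⟩
    · change LocallyQuasiFinite ((⊤ : V.left.Opens).ι ≫ 𝟙 V.left)
      infer_instance
    · change LocallyOfFiniteType ((⊤ : V.left.Opens).ι ≫ 𝟙 V.left)
      infer_instance
  have hTq : ∀ t ∈ T, HasAtMor (fun U _ h u => ∃ W : U.Opens, u ∈ W ∧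
      LocallyQuasiFinite (W.ι ≫ h) ∧ LocallyOfFiniteType (W.ι ≫ h)) f.hom
        (Points.map (pullback.fst f.hom b) t) := by
    intro t ht
    refine hasAtMor_qf_of_hpre f hf hpre y hy _ ?_
    rw [← Points.map_comp, sqV.w, Points.map_comp, ht]
    exact hbv'
  obtain ⟨U, g, u, hUaff, hEt, hgu, -, H⟩ :=
    reduce_chart f hf hsep b v T hT (fun t ht => ht) hTq
  -- the chart `U`
  let c : (yon S).obj U ⟶ Y.obj := (yon S).map g ≫ b
  have hge : RepWith @Etale ((yon S).map g) := (repWith_yon_map_iff _ _).2 hEt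
  have hce : RepWith @Etale c := repWith_comp _ hge hbe
  have hcu : Points.ofPt c u = y := by
    rw [ofPt_yon_map_comp, hgu]; exact hbv
  have hu : ringKrullDim (U.left.presheaf.stalk u) = 0 :=
    (hasAt_ringKrullDim_iff_forall Y.property y 0).1 hy U c u hce hcu
  have hUsp := IsAlgSpace.yon_obj U
  have sqU := IsPullback.of_hasPullback f.hom c
  let P : Space S := ⟨pullback f.hom c,
    isAlgSpace_of_isPullback (repDiag_of_isAlgSpace Y.property) X.property hUsp sqU⟩
  let prX : P ⟶ X := ObjectProperty.homMk (pullback.fst f.hom c)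
  obtain ⟨prX', hprX', sqP', V', jV, hjo, hjc, hfin, -, hV2⟩ := H P prX (pullback.snd f.hom c) sqU
  -- all points over `u` are in the finite part
  have hall : ∀ w : Points P.obj, Points.map (pullback.snd f.hom c) w = Points.ofPt (𝟙 _) u →
      w ∈ Set.range (Points.map jV.hom) := by
    intro w hw
    by_contra hn
    apply hV2 w hn hw
    change Points.map (pullback.snd f.hom b) (Points.map prX' w) = Points.ofPt (𝟙 _) v
    rw [← Points.map_comp, sqP'.w, Points.map_comp, hw, Points.map_ofPt, Category.id_comp,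
      ← Category.comp_id ((yon S).map g), ofPt_yon_map_comp, hgu]
  -- the neighbourhood of `u`
  obtain ⟨O, huO, hO⟩ := exists_opens_unique_stalkDim_zero
    (finite_stalkDim_zero_of_chart hY hY0 hUaff c hce) hu
  have hιOe : RepWith @Etale ((yon S).map (resOpenι U O)) :=
    (repWith_yon_map_iff _ _).2 (inferInstanceAs (Etale (Scheme.Opens.ι O)))
  have hcOe : RepWith @Etale ((yon S).map (resOpenι U O) ≫ c) := repWith_comp _ hιOe hce
  have hOsp := IsAlgSpace.yon_obj (resOpen U O)
  have sqPO := IsPullback.of_hasPullback (pullback.snd f.hom c) ((yon S).map (resOpenι U O))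
  have sqVO := IsPullback.of_hasPullback (jV.hom ≫ pullback.snd f.hom c)
    ((yon S).map (resOpenι U O))
  have hPO : IsAlgSpace (pullback (pullback.snd f.hom c) ((yon S).map (resOpenι U O))) :=
    isAlgSpace_of_isPullback (repDiag_of_isAlgSpace hUsp) P.property hOsp sqPO
  let jO : pullback (jV.hom ≫ pullback.snd f.hom c) ((yon S).map (resOpenι U O)) ⟶
      pullback (pullback.snd f.hom c) ((yon S).map (resOpenι U O)) :=
    pullback.lift (pullback.fst _ _ ≫ jV.hom) (pullback.snd _ _) (by
      rw [Category.assoc]; exact sqVO.w)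
  have hjO1 : jO ≫ pullback.fst _ _ = pullback.fst _ _ ≫ jV.hom := pullback.lift_fst _ _ _
  have hjO2 : jO ≫ pullback.snd _ _ = pullback.snd _ _ := pullback.lift_snd _ _ _
  have sqj : IsPullback (pullback.fst (jV.hom ≫ pullback.snd f.hom c) ((yon S).map (resOpenι U O)))
      jO jV.hom (pullback.fst (pullback.snd f.hom c) ((yon S).map (resOpenι U O))) := by
    refine IsPullback.of_bot ?_ hjO1.symm sqPO
    rw [hjO2]
    exact sqVO
  have hjOo : RepWith @IsOpenImmersion jO := repWith_of_isPullback _ sqj hjo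
  have hjOc : RepWith @IsClosedImmersion jO := repWith_of_isPullback _ sqj hjc
  have hfinO : IsFiniteMor (pullback.snd (jV.hom ≫ pullback.snd f.hom c)
      ((yon S).map (resOpenι U O))) := isFiniteMor_of_isPullback sqVO hfin
  have bigO := sqPO.paste_horiz sqU
  have hxOe : RepWith @Etale (pullback.fst (pullback.snd f.hom c) ((yon S).map (resOpenι U O)) ≫
      pullback.fst f.hom c) := repWith_of_isPullback _ bigO.flip hcOe
  -- surjectivity of `jO`
  have hclosed : IsClosed (Set.range (Points.map jO)) :=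
    (isClosedMap_points_of_repWith_universallyClosed hPO
      (repWith_mono isClosedImmersion_le_universallyClosed hjOc)).isClosed_range
  have hsurj : Function.Surjective (Points.map jO) := by
    by_contra hns
    have hne : (Set.range (Points.map jO))ᶜ.Nonempty := by
      rw [Set.nonempty_compl]
      intro hu'
      exact hns (Set.range_eq_univ.1 hu')
    obtain ⟨w, hw⟩ := hne
    obtain ⟨w₀, hw₀, A, α', p, hα'e, hp, hdim⟩ :=
      exists_codimZero_mem_open hPO hclosed.isOpen_compl hw
    obtain ⟨k, hk⟩ := (yon S).map_surjective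
      (α' ≫ pullback.snd (pullback.snd f.hom c) ((yon S).map (resOpenι U O)))
    have hαe := repWith_comp _ hα'e hxOe
    have commα : (α' ≫ pullback.fst (pullback.snd f.hom c) ((yon S).map (resOpenι U O)) ≫
        pullback.fst f.hom c) ≫ f.hom = (yon S).map (k ≫ resOpenι U O) ≫ c := by
      rw [Category.assoc, bigO.w, ← Category.assoc, ← hk, Functor.map_comp, Category.assoc]
    have h0 := (stalkDim_zero_chart_diagram_iff f hpre _ c (k ≫ resOpenι U O) hαe hce commα p).1
      hdim
    have hmem : (k ≫ resOpenι U O).left p ∈ O := (k.left p).2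
    have hequ : (k ≫ resOpenι U O).left p = u := hO _ hmem h0
    have hover : Points.map (pullback.snd f.hom c)
        (Points.map (pullback.fst (pullback.snd f.hom c) ((yon S).map (resOpenι U O))) w₀) =
        Points.ofPt (𝟙 _) u := by
      rw [← hp, Points.map_ofPt, Points.map_ofPt, Category.assoc, sqPO.w, ← Category.assoc, ← hk,
        ← Functor.map_comp, ← Category.comp_id ((yon S).map (k ≫ resOpenι U O)),
        ofPt_yon_map_comp, hequ]
    obtain ⟨v', hv'⟩ := hall _ hover
    obtain ⟨z, hz, -⟩ := points_exists_of_isPullback sqj.flip w₀ v' hv'.symm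
    exact hw₀ ⟨z, hz⟩
  have hiso : IsIso jO := isIso_of_openImmersion_of_surjective hjOo hsurj
  have hfinP : IsFiniteMor (pullback.snd (pullback.snd f.hom c) ((yon S).map (resOpenι U O))) := by
    have e : pullback.snd (pullback.snd f.hom c) ((yon S).map (resOpenι U O)) =
        inv jO ≫ pullback.snd (jV.hom ≫ pullback.snd f.hom c) ((yon S).map (resOpenι U O)) := by
      rw [← hjO2, IsIso.inv_hom_id_assoc]
    rw [e]
    exact isFiniteMor_iso_comp _ hfinO
  refine ⟨Set.range (Points.ofPt ((yon S).map (resOpenι U O) ≫ c)), ?_, ?_,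
    hasOver_isFiniteMor_of_chart f _ hcOe hPO _ _ bigO hfinP⟩
  · have := isOpenMap_ofPt _ hcOe Set.univ isOpen_univ
    rwa [Set.image_univ] at this
  · refine ⟨(⟨u, huO⟩ : ↥O), ?_⟩
    rw [ofPt_yon_map_comp]
    exact hcu

end Groth.Agent.Lib.Helper24.FinDense5
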