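import Groth.Agent.Lib.Helper24.Filt8
import Groth.Agent.Lib.Helper12.FinSigma
set_option autoImplicit false
set_option linter.unusedSectionVars false
set_option linter.unusedVariables false
universe u
open CategoryTheory CategoryTheory.Limits AlgebraicGeometry Opposite

/-! Over a locus where a tuple of apart lifts exhausts the fibres, the chart is finite. -/

namespace Groth.Agent.Lib.Helper24.FinEt
open AlgSp Groth.Agent.Lib.Helper14.AS Groth.Agent.Lib.Helper24.Filt1 Groth.Agent.Lib.Helper24.ZarGlue
open Groth.Agent.Lib.Helper24.Filt2 Groth.Agent.Lib.Helper24.Filt3 Groth.Agent.Lib.Helper24.Filt8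

variable {S : Scheme.{u}} {U : Over S} {X : Sp S} {a : (yon S).obj U ⟶ X}

set_option backward.isDefEq.respectTransparency.types false in
set_option maxHeartbeats 800000 in
/-- if no point of `W` lies under a longer apart tuple, the base change of the chart to `W` is a
finite disjoint union of copies of `W`, hence finite -/
theorem isFinite_snd_of_exhausting (hΔo : RepWith @IsOpenImmersion (pullback.diagonal a))
    (hΔc : RepWith @IsClosedImmersion (pullback.diagonal a)) (hae : RepWith @Etale a)
    {ι : Type} [Finite ι] [Inhabited ι] {W : Over S} (υ : Tup a ι W)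
    (hW : ∀ w : W.left, Points.ofPt υ.base w ∉ Om a (Option ι)) :
    IsFinite (hae.rep.snd υ.base).left := by
  have har := hae.rep
  have sqD := har.isPullback' υ.base
  have hcompat : ∀ i, (yon S).map (har.snd υ.base ≫ υ.u i) ≫ a =
      (yon S).map (har.fst' υ.base) ≫ a := by
    intro i
    rw [Functor.map_comp, Category.assoc, ← υ.base_eq i]
    exact sqD.w.symm
  choose L hLc hLmem hLι using fun i =>
    exists_eqLocus a hΔo hΔc (har.snd υ.base ≫ υ.u i) (har.fst' υ.base) (hcompat i)
  -- disjointness
  have hdisj : ∀ i j, i ≠ j → Disjoint (L i) (L j) := by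
    intro i j hij
    rw [disjoint_iff]
    ext p
    simp only [TopologicalSpace.Opens.coe_inf, Set.mem_inter_iff, SetLike.mem_coe,
      TopologicalSpace.Opens.coe_bot, Set.mem_empty_iff_false, iff_false, not_and]
    intro hi hj
    have h1 := (hLmem i p).1 hi
    have h2 := (hLmem j p).1 hj
    have h3 : EqAt (har.snd υ.base ≫ υ.u i) (har.snd υ.base ≫ υ.u j) p := h1.trans h2.symm
    rw [eqAt_comp_iff] at h3
    exact υ.apart i j hij _ h3
  -- covering
  have hcov : ∀ p : (har.pullback υ.base).left, ∃ i, p ∈ L i := by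
    intro p
    by_contra hcon
    rw [not_exists] at hcon
    let O : (har.pullback υ.base).left.Opens :=
      ⟨⋂ i, ((L i : Set (har.pullback υ.base).left))ᶜ,
        isOpen_iInter_of_finite fun i => (hLc i).isOpen_compl⟩
    have hpO : p ∈ O := Set.mem_iInter.2 fun i => hcon i
    let ι' := resOpenι (har.pullback υ.base) O
    have hv : ∀ i, (yon S).map (ι' ≫ har.fst' υ.base) ≫ a =
        (yon S).map ((υ.map (ι' ≫ har.snd υ.base)).u i) ≫ a := by
      intro i
      rw [Tup.map_u, Functor.map_comp, Category.assoc, ← hcompat i, ← Category.assoc,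
        ← Functor.map_comp, Category.assoc]
    have hap : ∀ i (t : (resOpen (har.pullback υ.base) O).left),
        ¬ EqAt (ι' ≫ har.fst' υ.base) ((υ.map (ι' ≫ har.snd υ.base)).u i) t := by
      intro i t hE
      have h1 : EqAt (ι' ≫ har.fst' υ.base) (ι' ≫ (har.snd υ.base ≫ υ.u i)) t := by
        rw [Tup.map_u, Category.assoc] at hE
        exact hE
      rw [eqAt_comp_iff] at h1
      have hmem : ι'.left t ∈ O := t.2
      exact Set.mem_iInter.1 hmem i ((hLmem i _).2 h1.symm)
    apply hW ((har.snd υ.base).left p)
    refine ⟨resOpen (har.pullback υ.base) O, ⟨p, hpO⟩,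
      (υ.map (ι' ≫ har.snd υ.base)).cons _ hv hap, ?_⟩
    have e2 := Tup.old_base ((υ.map (ι' ≫ har.snd υ.base)).cons _ hv hap)
    refine (congrArg (fun b => Points.ofPt b
      (⟨p, hpO⟩ : (resOpen (har.pullback υ.base) O).left)) e2).symm.trans ?_
    change Points.ofPt (υ.map (ι' ≫ har.snd υ.base)).base _ = _
    rw [Tup.base_map, ofPt_yon_map_comp]
    rfl
  -- each piece maps isomorphically to `W`
  have hiso : ∀ i, IsIso ((L i).ι ≫ (har.snd υ.base).left) := by
    intro i
    have hc : (yon S).map (υ.u i) ≫ a = (yon S).map (𝟙 W) ≫ υ.base := by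
      rw [CategoryTheory.Functor.map_id, Category.id_comp, υ.base_eq i]
    have hs1 : har.lift' (υ.u i) (𝟙 W) hc ≫ har.fst' υ.base = υ.u i := har.lift'_fst _ _ _
    have hs2 : har.lift' (υ.u i) (𝟙 W) hc ≫ har.snd υ.base = 𝟙 W := har.lift'_snd _ _ _
    have hrange : Set.range (har.lift' (υ.u i) (𝟙 W) hc).left ⊆ Set.range (L i).ι := by
      rw [Scheme.Opens.range_ι]
      rintro _ ⟨w, rfl⟩
      change _ ∈ L i
      rw [hLmem, ← eqAt_comp_iff, ← Category.assoc, hs2, hs1, Category.id_comp]
      exact EqAt.refl _ _
    have hfac := IsOpenImmersion.lift_fac (L i).ι (har.lift' (υ.u i) (𝟙 W) hc).left hrange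
    refine ⟨IsOpenImmersion.lift (L i).ι (har.lift' (υ.u i) (𝟙 W) hc).left hrange, ?_, ?_⟩
    · rw [← cancel_mono (L i).ι, Category.assoc, Category.assoc, hfac, Category.id_comp]
      have key : resOpenι (har.pullback υ.base) (L i) ≫ har.snd υ.base ≫
          har.lift' (υ.u i) (𝟙 W) hc = resOpenι (har.pullback υ.base) (L i) := by
        apply har.hom_ext'
        · rw [Category.assoc, Category.assoc, hs1]
          ext1
          exact hLι i
        · rw [Category.assoc, Category.assoc, hs2, Category.comp_id]
      exact congrArg CommaMorphism.left key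
    · rw [← Category.assoc, hfac]
      exact congrArg CommaMorphism.left hs2
  -- the coproduct decomposition
  have hcolim : IsIso (Sigma.desc (fun i : ULift.{u} ι => (L i.down).ι)) := by
    have := nonempty_isColimit_cofanMk_of (fun i : ULift.{u} ι => (L i.down).ι) (by
      rw [eq_top_iff]
      intro p _
      obtain ⟨i, hi⟩ := hcov p
      rw [TopologicalSpace.Opens.mem_iSup]
      refine ⟨⟨i⟩, ?_⟩
      rw [Scheme.Opens.opensRange_ι]
      exact hi) (by
      intro i j hij
      change Disjoint (L i.down).ι.opensRange (L j.down).ι.opensRange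
      rw [Scheme.Opens.opensRange_ι, Scheme.Opens.opensRange_ι]
      exact hdisj _ _ (fun h => hij (ULift.ext _ _ h)))
    exact (Cofan.nonempty_isColimit_iff_isIso_sigmaDesc (Cofan.mk _ _)).1 this
  have hfin : IsFinite (Sigma.desc (fun i : ULift.{u} ι => (L i.down).ι ≫
      (har.snd υ.base).left)) := by
    apply H12FinSigma.isFinite_sigmaDesc
    intro i
    have := hiso i.down
    infer_instance
  have heq : (har.snd υ.base).left = inv (Sigma.desc (fun i : ULift.{u} ι => (L i.down).ι)) ≫
      Sigma.desc (fun i : ULift.{u} ι => (L i.down).ι ≫ (har.snd υ.base).left) := by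
    rw [IsIso.eq_inv_comp]
    apply Sigma.hom_ext
    intro i
    simp
  rw [heq]
  infer_instance

end Groth.Agent.Lib.Helper24.FinEt
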