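import Groth.Agent.Lib.Helper24.FinEt1
import Groth.Agent.Lib.Helper24.Filt9
import Groth.Agent.Lib.Helper24.FpqcRep
import Groth.Agent.Lib.Helper24.IndSq
import Groth.Agent.Lib.Helper14.AlgSpProper
import Groth.Agent.Lib.Helper14.IntFinRep
import Groth.Agent.S0084
set_option autoImplicit false
set_option linter.unusedSectionVars false
set_option linter.unusedVariables false
universe u
open CategoryTheory CategoryTheory.Limits AlgebraicGeometry Opposite

/-! Over an open subspace on which the number of geometric points of the fibres of an étale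
chart is locally constant, the chart is finite. -/

namespace Groth.Agent.Lib.Helper24.FinEt
open AlgSp Groth.Agent.Lib.Helper14.AS Groth.Agent.Lib.Helper24.Filt1 Groth.Agent.Lib.Helper24.ZarGlue
open Groth.Agent.Lib.Helper24.Filt2 Groth.Agent.Lib.Helper24.Filt3 Groth.Agent.Lib.Helper24.Filt8
open Groth.Agent.Lib.Helper24.Filt9 Groth.Agent.Lib.Helper24.IndSq

variable {S : Scheme.{u}} {U : Over S}

theorem isFinite_le_lqf_lft :
    (@IsFinite : MorphismProperty Scheme.{u}) ≤
      (@LocallyQuasiFinite ⊓ @LocallyOfFiniteType : MorphismProperty Scheme.{u}) :=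
  fun _ _ f h => by
    have : IsFinite f := h
    exact ⟨inferInstance, inferInstance⟩

theorem isFinite_le_isSeparated :
    (@IsFinite : MorphismProperty Scheme.{u}) ≤ @IsSeparated :=
  fun _ _ f h => by
    have : IsFinite f := h
    infer_instance

set_option backward.isDefEq.respectTransparency.types false in
set_option maxHeartbeats 1600000 in
theorem repWith_isFinite_over_open (X : Space S) [IsAffine U.left] (a : (yon S).obj U ⟶ X.obj)
    (hae : RepWith @Etale a) {Uo : Sp S} (hUo : IsAlgSpace Uo) (j : Uo ⟶ X.obj)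
    (hj : RepWith @IsOpenImmersion j)
    (hsub : ∀ x ∈ Set.range (Points.map j), ∃ n, x ∈ Om a (Idx n) ∧
      x ∉ closure (Om a (Idx (n + 1))))
    {P : Sp S} (fst : P ⟶ (yon S).obj U) (snd : P ⟶ Uo) (sq : IsPullback fst snd a j) :
    RepWith @IsFinite snd := by
  have hX := X.property
  obtain ⟨hΔo, hΔc⟩ := diag_props X a hae
  choose W υ hrep hex hcpt using exists_rep hΔo hΔc hae
  choose i₀ hie his using hex
  have hbase_et : ∀ n, RepWith @Etale (υ n).base := fun n => by
    rw [(υ n).base_eq (i₀ n)]
    exact repWith_comp _ ((repWith_yon_map_iff _ _).2 (hie n)) hae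
  have hjm : Mono j := mono_of_openImmersion hj
  have hjinj := injective_of_openImmersion hj
  have hjo : IsOpen (Set.range (Points.map j)) := isOpen_range_of_openImmersion hX j hj
  let G : ℕ → Set (Points X.obj) := fun n =>
    Set.range (Points.map j) ∩ (closure (Om a (Idx (n + 1))))ᶜ
  have hGo : ∀ n, IsOpen (G n) := fun n => hjo.inter isClosed_closure.isOpen_compl
  let D : ∀ n, (W n).left.Opens := fun n =>
    ⟨Points.ofPt (υ n).base ⁻¹' G n, (hGo n).preimage (Points.continuous_ofPt _)⟩
  let c : ∀ n, (yon S).obj (resOpen (W n) (D n)) ⟶ X.obj := fun n =>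
    (yon S).map (resOpenι (W n) (D n)) ≫ (υ n).base
  have hcr : ∀ n, Set.range (Points.map (c n)) ⊆ Set.range (Points.map j) := by
    intro n
    rw [Groth.Agent.Lib.Helper8.AlgSpPres.range_points_map_yon]
    rintro _ ⟨w, rfl⟩
    rw [ofPt_yon_map_comp]
    exact w.2.1
  choose g hg using fun n =>
    Groth.Agent.Lib.Helper8.AlgSpOpen.exists_factor_of_range_subset j hj (c n) (hcr n)
  have hce : ∀ n, RepWith @Etale (c n) := fun n =>
    repWith_comp _ ((repWith_yon_map_iff _ _).2 (inferInstanceAs (Etale (D n).ι))) (hbase_et n)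
  have hge : ∀ n, RepWith @Etale (g n) := by
    intro n
    have sq' := isPullback_of_factor_mono (g n) j
    rw [hg n] at sq'
    exact repWith_of_isPullback _ sq' (hce n)
  have hcov : IsEtCover (fun n : ULift.{u} ℕ => (yon S).obj (resOpen (W n.down) (D n.down)))
      (fun n => g n.down) := by
    refine ⟨fun n => isEtaleMor_of_repWith_etale (hge n.down), fun x => ?_⟩
    obtain ⟨n, hn1, hn2⟩ := hsub (Points.map j x) ⟨x, rfl⟩
    rw [← range_ofPt_base (hrep n)] at hn1
    obtain ⟨w, hw⟩ := hn1
    have hwD : w ∈ D n := by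
      change Points.ofPt (υ n).base w ∈ G n
      rw [hw]
      exact ⟨⟨x, rfl⟩, hn2⟩
    refine ⟨⟨n⟩, ?_⟩
    rw [Groth.Agent.Lib.Helper8.AlgSpPres.range_points_map_yon]
    refine ⟨(⟨w, hwD⟩ : (resOpen (W n) (D n)).left), ?_⟩
    apply hjinj
    rw [Points.map_ofPt, hg n, ← hw]
    exact ofPt_yon_map_comp _ _ _
  have hfpqc := isFpqcCover_of_isEtCover hUo _ _ (fun n => IsAlgSpace.yon_obj _) hcov
  have har := hae.rep
  -- finiteness over the members of the covering
  have hfin : ∀ n, IsFinite (har.snd (c n)).left := by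
    intro n
    have h1 := isFinite_snd_of_exhausting hΔo hΔc hae ((υ n).map (resOpenι (W n) (D n))) (by
      intro w hw
      have hw' : Points.ofPt ((υ n).map (resOpenι (W n) (D n))).base w ∈ Om a (Idx (n + 1)) := hw
      rw [Tup.base_map, ofPt_yon_map_comp] at hw'
      exact w.2.2 (subset_closure hw'))
    rw [Tup.base_map] at h1
    exact h1
  have hw : ∀ n, (yon S).map (har.fst' (c n)) ≫ a = ((yon S).map (har.snd (c n)) ≫ g n) ≫ j := by
    intro n
    rw [Category.assoc, hg n]
    exact (har.isPullback' (c n)).w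
  have hsq : ∀ n, IsPullback (sq.lift _ _ (hw n)) ((yon S).map (har.snd (c n))) snd (g n) := by
    intro n
    refine IsPullback.of_right ?_ (sq.lift_snd _ _ _) sq
    rw [sq.lift_fst, hg n]
    exact har.isPullback' (c n)
  have hP : IsAlgSpace P :=
    isAlgSpace_of_isPullback (repDiag_of_isAlgSpace hX) (IsAlgSpace.yon_obj U) hUo sq
  have := isZariskiLocalAtTarget_isFinite.{u}
  have hdesc : MorphismProperty.DescendsAlong @IsFinite.{u} (@Surjective ⊓ @Flat ⊓ @QuasiCompact) :=
    Groth.Agent.S0084.result.{u}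
  exact ((Groth.Agent.Lib.Helper24.FpqcRep.isLocalOnBase_fpqc_repWith isFinite_le_lqf_lft
    isFinite_le_isSeparated) _ _ hUo (fun n => IsAlgSpace.yon_obj _) hfpqc snd hP
    (fun n : ULift.{u} ℕ => (yon S).obj (har.pullback (c n.down)))
    (fun n => (yon S).map (har.snd (c n.down))) (fun n => sq.lift _ _ (hw n.down))
    (fun n => IsAlgSpace.yon_obj _) (fun n => hsq n.down)).2
    (fun n => (repWith_yon_map_iff _ _).2 (hfin n.down))

end Groth.Agent.Lib.Helper24.FinEt
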