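import Mathlib
set_option autoImplicit false
universe u

/-! Topological lemmas: density of the locus where a finite filtration by opens is locally
constant, and quasi-compact dense opens in spaces with finitely many irreducible components. -/

namespace Groth.Agent.Lib.Helper24.FinEt

variable {𝒳 : Type*} [TopologicalSpace 𝒳]

theorem isOpen_locConst_locus (Ω : ℕ → Set 𝒳) (hΩ : ∀ n, IsOpen (Ω n)) :
    IsOpen {x | ∃ n, x ∈ Ω n ∧ x ∉ closure (Ω (n + 1))} := by
  have : {x | ∃ n, x ∈ Ω n ∧ x ∉ closure (Ω (n + 1))} = ⋃ n, Ω n ∩ (closure (Ω (n + 1)))ᶜ := by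
    ext x
    simp
  rw [this]
  exact isOpen_iUnion fun n => (hΩ n).inter isClosed_closure.isOpen_compl

theorem dense_locConst_locus (Ω : ℕ → Set 𝒳) (h0 : Ω 0 = Set.univ)
    {N : ℕ} (hN : Ω N = ∅) : Dense {x | ∃ n, x ∈ Ω n ∧ x ∉ closure (Ω (n + 1))} := by
  classical
  rw [dense_iff_inter_open]
  intro G hG hGne
  have hex : ∃ k, G ∩ Ω k = ∅ := ⟨N, by rw [hN, Set.inter_empty]⟩
  have h0' : Nat.find hex ≠ 0 := by
    intro h
    have := Nat.find_spec hex
    rw [h, h0, Set.inter_univ] at this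
    exact hGne.ne_empty this
  obtain ⟨n, hn⟩ := Nat.exists_eq_succ_of_ne_zero h0'
  have hne : (G ∩ Ω n).Nonempty := by
    rw [Set.nonempty_iff_ne_empty]
    exact Nat.find_min hex (by rw [hn]; exact Nat.lt_succ_self n)
  have hemp : G ∩ Ω (n + 1) = ∅ := by
    have := Nat.find_spec hex
    rwa [hn] at this
  obtain ⟨x, hxG, hxn⟩ := hne
  refine ⟨x, hxG, n, hxn, ?_⟩
  intro hcl
  rw [mem_closure_iff] at hcl
  obtain ⟨y, hy1, hy2⟩ := hcl G hG hxG
  have : y ∈ G ∩ Ω (n + 1) := ⟨hy1, hy2⟩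
  rw [hemp] at this
  exact this

theorem subset_closure_of_isIrreducible {C Q : Set 𝒳} (hC : IsIrreducible C) (hQ : IsOpen Q)
    (hne : (C ∩ Q).Nonempty) : C ⊆ closure Q := by
  intro x hx
  rw [mem_closure_iff]
  intro o ho hxo
  obtain ⟨y, -, hy⟩ := hC.2 o Q ho hQ ⟨x, hx, hxo⟩ hne
  exact ⟨y, hy⟩

theorem exists_compact_open_dense_subset
    (hfin : (irreducibleComponents 𝒳).Finite)
    (hbasis : ∀ (G : Set 𝒳), IsOpen G → ∀ x ∈ G, ∃ Q, IsOpen Q ∧ IsCompact Q ∧ x ∈ Q ∧ Q ⊆ G)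
    (U' : Set 𝒳) (hU'o : IsOpen U') (hU'd : Dense U') :
    ∃ U, U ⊆ U' ∧ IsOpen U ∧ IsCompact U ∧ Dense U := by
  classical
  have hkey : ∀ C ∈ irreducibleComponents 𝒳, ∃ Q, IsOpen Q ∧ IsCompact Q ∧ Q ⊆ U' ∧ C ⊆ closure Q := by
    intro C hC
    let R : Set 𝒳 := ⋃₀ (irreducibleComponents 𝒳 \ {C})
    have hRc : IsClosed R := by
      change IsClosed (⋃₀ (irreducibleComponents 𝒳 \ {C}))
      rw [Set.sUnion_eq_biUnion]
      apply Set.Finite.isClosed_biUnion (hfin.subset Set.sdiff_subset)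
      intro C' hC'
      exact isClosed_of_mem_irreducibleComponents C' hC'.1
    have hCirr : IsIrreducible C := hC.1
    have hCR : ¬ C ⊆ R := by
      intro hsub
      have hfin' : (irreducibleComponents 𝒳 \ {C}).Finite := hfin.subset Set.sdiff_subset
      obtain ⟨Z, hZ⟩ := hfin'.exists_finset_coe
      have h1 := (isIrreducible_iff_sUnion_isClosed.1 hCirr) Z (by
        intro z hz
        have : z ∈ irreducibleComponents 𝒳 \ {C} := by rw [← hZ]; exact hz
        exact isClosed_of_mem_irreducibleComponents z this.1) (by rw [hZ]; exact hsub)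
      obtain ⟨z, hz, hCz⟩ := h1
      have hz' : z ∈ irreducibleComponents 𝒳 \ {C} := by rw [← hZ]; exact hz
      have hzC : z ⊆ C := hC.2 hz'.1.1 hCz
      exact hz'.2 (Set.Subset.antisymm hzC hCz)
    obtain ⟨x, hxC, hxR⟩ := Set.not_subset.1 hCR
    have hRo : IsOpen Rᶜ := hRc.isOpen_compl
    obtain ⟨y, hy1, hy2⟩ := hU'd.inter_open_nonempty Rᶜ hRo ⟨x, hxR⟩
    obtain ⟨Q, hQo, hQc, hyQ, hQsub⟩ := hbasis (Rᶜ ∩ U') (hRo.inter hU'o) y ⟨hy1, hy2⟩
    have hRC : Rᶜ ⊆ C := by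
      intro z hz
      have : z ∈ ⋃₀ irreducibleComponents 𝒳 := by rw [sUnion_irreducibleComponents]; trivial
      obtain ⟨C', hC', hzC'⟩ := this
      by_cases hCC' : C' = C
      · rw [← hCC']; exact hzC'
      · have hzR : z ∈ R := Set.mem_sUnion.2 ⟨C', ⟨hC', hCC'⟩, hzC'⟩
        exact absurd hzR hz
    refine ⟨Q, hQo, hQc, fun z hz => (hQsub hz).2, ?_⟩
    exact subset_closure_of_isIrreducible hCirr hQo ⟨y, hRC (hQsub hyQ).1, hyQ⟩
  choose! Q hQo hQc hQU hQC using hkey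
  refine ⟨⋃ C ∈ irreducibleComponents 𝒳, Q C, ?_, ?_, ?_, ?_⟩
  · exact Set.iUnion₂_subset fun C hC => hQU C hC
  · exact isOpen_biUnion fun C hC => hQo C hC
  · exact hfin.isCompact_biUnion fun C hC => hQc C hC
  · rw [dense_iff_closure_eq, Set.eq_univ_iff_forall]
    intro x
    have : x ∈ ⋃₀ irreducibleComponents 𝒳 := by rw [sUnion_irreducibleComponents]; trivial
    obtain ⟨C, hC, hxC⟩ := this
    exact closure_mono (Set.subset_biUnion_of_mem (u := Q) hC) (hQC C hC hxC)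

end Groth.Agent.Lib.Helper24.FinEt
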