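import Groth.Agent.Lib.Helper24.AllTup2
set_option autoImplicit false
set_option linter.unusedSectionVars false
set_option linter.unusedVariables false
universe u
open CategoryTheory CategoryTheory.Limits AlgebraicGeometry Opposite

/-! Fibre powers of a chart with a transferable property, and exhausting tuples. -/

namespace Groth.Agent.Lib.Helper24.FinEt
open AlgSp Groth.Agent.Lib.Helper14.AS Groth.Agent.Lib.Helper24.Filt1 Groth.Agent.Lib.Helper24.ZarGlue
open Groth.Agent.Lib.Helper24.Filt2 Groth.Agent.Lib.Helper24.Filt3 Groth.Agent.Lib.Helper24.Filt8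
open Groth.Agent.Lib.Helper24.AllTup

variable {S : Scheme.{u}} {U : Over S} {X : Sp S} {a : (yon S).obj U ⟶ X}

set_option backward.isDefEq.respectTransparency.types false in
theorem exists_repA_option_of (hae : RepWith @Etale a)
    (Q : ∀ T : Over S, ((yon S).obj T ⟶ X) → Prop)
    (hQs : ∀ (T : Over S) (c : (yon S).obj T ⟶ X), Q T c →
      Q (hae.rep.pullback c) ((yon S).map (hae.rep.snd c) ≫ c))
    {ι : Type} [Inhabited ι] {V : Over S} {υ : ATup a ι V} (h : IsRepA a ι V υ) :
    ∃ (V' : Over S) (υ' : ATup a (Option ι) V') (π : V' ⟶ V), IsRepA a (Option ι) V' υ' ∧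
      υ'.old = υ.map π ∧
      (RepWith @QuasiCompact a → CompactSpace ↥V.left → CompactSpace ↥V'.left) ∧
      (IsSeparatedMor a → IsSeparated π.left) ∧ (Q V υ.base → Q V' υ'.base) := by
  have har := hae.rep
  have sqD := har.isPullback' υ.base
  let π : har.pullback υ.base ⟶ V := har.snd υ.base
  have hv : ∀ i, (yon S).map (har.fst' υ.base) ≫ a = (yon S).map ((υ.map π).u i) ≫ a := by
    intro i
    rw [ATup.map_u, Functor.map_comp, Category.assoc, ← υ.base_eq i]
    exact sqD.w
  let υ' : ATup a (Option ι) (har.pullback υ.base) := (υ.map π).cons _ hv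
  refine ⟨_, υ', π, ⟨fun T => ⟨?_, ?_⟩⟩, ATup.ext' fun i => rfl, ?_,
    fun hΔc => isSeparated_of_isPullback hΔc sqD, ?_⟩
  · intro g₁ g₂ hg
    have hn : g₁ ≫ har.fst' υ.base = g₂ ≫ har.fst' υ.base :=
      congrArg (fun τ : ATup a (Option ι) T => τ.u none) hg
    have ho : υ.map (g₁ ≫ π) = υ.map (g₂ ≫ π) := by
      refine ATup.ext' fun i => ?_
      have := congrArg (fun τ : ATup a (Option ι) T => τ.u (some i)) hg
      simp only [ATup.map_u, υ', ATup.cons_some] at this
      simp only [ATup.map_u, Category.assoc]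
      exact this
    have hπ : g₁ ≫ π = g₂ ≫ π := (h.bij T).1 ho
    exact har.hom_ext' hn hπ
  · intro τ
    obtain ⟨g₀, hg₀⟩ := (h.bij T).2 τ.old
    have hg₀' : υ.map g₀ = τ.old := hg₀
    have hc : (yon S).map (τ.u none) ≫ a = (yon S).map g₀ ≫ υ.base := by
      rw [← ATup.base_map, hg₀', ATup.old_base, τ.base_eq none]
    have hl1 : har.lift' (τ.u none) g₀ hc ≫ har.fst' υ.base = τ.u none := har.lift'_fst _ _ _
    have hl2 : har.lift' (τ.u none) g₀ hc ≫ har.snd υ.base = g₀ := har.lift'_snd _ _ _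
    refine ⟨har.lift' (τ.u none) g₀ hc, ATup.ext' fun o => ?_⟩
    cases o with
    | none => exact hl1
    | some i =>
      change har.lift' (τ.u none) g₀ hc ≫ har.snd υ.base ≫ υ.u i = τ.u (some i)
      rw [← Category.assoc, hl2]
      exact congrArg (fun τ' : ATup a ι T => τ'.u i) hg₀'
  · intro hqc hW
    have hsq : QuasiCompact (har.snd υ.base).left :=
      hqc.property υ.base ((yon S).map (har.fst' υ.base)) (har.snd υ.base) sqD
    exact QuasiCompact.compactSpace_of_compactSpace (har.snd υ.base).left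
  · intro hq
    have hb : υ'.base = (yon S).map (har.snd υ.base) ≫ υ.base := sqD.w
    rw [hb]
    exact hQs V υ.base hq

set_option backward.isDefEq.respectTransparency.types false in
/-- the schemes representing tuples, carrying along a property stable under base change of the
chart followed by composition -/
theorem exists_repA_of (hae : RepWith @Etale a)
    (Q : ∀ T : Over S, ((yon S).obj T ⟶ X) → Prop) (hQ0 : Q U a)
    (hQs : ∀ (T : Over S) (c : (yon S).obj T ⟶ X), Q T c →
      Q (hae.rep.pullback c) ((yon S).map (hae.rep.snd c) ≫ c)) :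
    ∀ n, ∃ (V : Over S) (υ : ATup a (Idx n) V), IsRepA a (Idx n) V υ ∧
      (RepWith @QuasiCompact a → CompactSpace ↥U.left → CompactSpace ↥V.left) ∧
      (IsSeparatedMor a → ∃ i, IsSeparated (υ.u i).left) ∧ Q V υ.base
  | 0 => by
    refine ⟨U, unitATup a, isRepA_unit a, fun _ hU => hU, fun _ => ⟨(), ?_⟩, ?_⟩
    · change IsSeparated (𝟙 U.left)
      infer_instance
    · change Q U ((yon S).map (𝟙 U) ≫ a)
      rw [CategoryTheory.Functor.map_id, Category.id_comp]
      exact hQ0
  | n + 1 => by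
    obtain ⟨V, υ, h, hc, hs, hq⟩ := exists_repA_of hae Q hQ0 hQs n
    obtain ⟨V', υ', π, h', hold, hc', hs', hq'⟩ := exists_repA_option_of hae Q hQs h
    refine ⟨V', υ', h', fun hq hU => hc' hq (hc hq hU), fun hΔc => ?_, hq' hq⟩
    obtain ⟨i, hi⟩ := hs hΔc
    have hπ := hs' hΔc
    refine ⟨some i, ?_⟩
    have e : υ'.u (some i) = π ≫ υ.u i := congrArg (fun τ : ATup a (Idx n) V' => τ.u i) hold
    rw [e, Over.comp_left]
    infer_instance

set_option backward.isDefEq.respectTransparency.types false in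
set_option maxHeartbeats 800000 in
/-- over every point of `X` there is a tuple exhausting the fibre: no further lift is apart from
all its entries -/
theorem exists_exhausting_point (hΔo : RepWith @IsOpenImmersion (pullback.diagonal a))
    (hΔc : RepWith @IsClosedImmersion (pullback.diagonal a)) (hae : RepWith @Etale a)
    (has : RepWith @Surjective a) {N : ℕ} (hN : ∀ x, x ∉ Om a (Idx N)) {V : Over S}
    {υ : ATup a (Idx N) V} (hrep : IsRepA a (Idx N) V υ) (x : Points X) :
    ∃ v : V.left, Points.ofPt υ.base v = x ∧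
      ∀ d : (hae.rep.pullback υ.base).left, (hae.rep.snd υ.base).left d = v →
        ∃ i, EqAt (hae.rep.snd υ.base ≫ υ.u i) (hae.rep.fst' υ.base) d := by
  classical
  have har := hae.rep
  have sqD := har.isPullback' υ.base
  have hcompat : ∀ i, (yon S).map (har.snd υ.base ≫ υ.u i) ≫ a =
      (yon S).map (har.fst' υ.base) ≫ a := by
    intro i
    rw [Functor.map_comp, Category.assoc, ← υ.base_eq i]
    exact sqD.w.symm
  choose L hLc hLmem hLι using fun i =>
    exists_eqLocus a hΔo hΔc (har.snd υ.base ≫ υ.u i) (har.fst' υ.base) (hcompat i)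
  let Vp : (har.pullback υ.base).left.Opens :=
    ⟨⋂ i, ((L i : Set (har.pullback υ.base).left))ᶜ,
      isOpen_iInter_of_finite fun i => (hLc i).isOpen_compl⟩
  have hVp : ∀ d : (har.pullback υ.base).left,
      d ∈ Vp ↔ ∀ i, ¬ EqAt (har.snd υ.base ≫ υ.u i) (har.fst' υ.base) d := by
    intro d
    change d ∈ ⋂ i, ((L i : Set (har.pullback υ.base).left))ᶜ ↔ _
    simp only [Set.mem_iInter, Set.mem_compl_iff, SetLike.mem_coe, hLmem]
  have hex : ∃ k, x ∉ Om a (Idx k) := ⟨N, hN x⟩
  have h0 : Nat.find hex ≠ 0 := by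
    intro h0
    have := Nat.find_spec hex
    rw [h0, om_idx_zero has] at this
    exact this trivial
  obtain ⟨m, hm⟩ := Nat.exists_eq_succ_of_ne_zero h0
  have hxm : x ∈ Om a (Idx m) := by
    by_contra hcon
    exact Nat.find_min hex (by rw [hm]; exact Nat.lt_succ_self m) hcon
  have hxm1 : x ∉ Om a (Idx (m + 1)) := by
    have := Nat.find_spec hex
    rwa [hm] at this
  have hmN : m ≤ N := by
    have := Nat.find_min' hex (hN x)
    omega
  obtain ⟨φ, hφ⟩ := exists_surjective_idx m N hmN
  obtain ⟨T, t, τ, rfl⟩ := hxm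
  obtain ⟨g, hg⟩ := (hrep.bij T).2 ((ofTup a τ).reindex φ)
  have hg' : υ.map g = (ofTup a τ).reindex φ := hg
  have hgb : (yon S).map g ≫ υ.base = τ.base := by
    rw [← ATup.base_map, hg', ATup.reindex_base, ofTup_base]
  have hgu : ∀ j, g ≫ υ.u j = τ.u (φ j) := fun j =>
    congrArg (fun τ' : ATup a (Idx N) T => τ'.u j) hg'
  refine ⟨g.left t, ?_, ?_⟩
  · rw [← ofPt_yon_map_comp, hgb]
  intro v' hv't
  by_contra hcon
  rw [not_exists] at hcon
  have hv' : v' ∈ Vp := (hVp v').2 hcon
  apply hxm1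
  obtain ⟨P, p, g', z, hpg, hpz, hgz⟩ :=
    exists_over_pullback_point g (har.snd υ.base) t v' hv't.symm
  let D : P.left.Opens := g'.left ⁻¹ᵁ Vp
  have hzD : z ∈ D := by
    change g'.left z ∈ Vp
    rw [hgz]
    exact hv'
  let ι'' := resOpenι P D
  have hv : ∀ i, (yon S).map (ι'' ≫ g' ≫ har.fst' υ.base) ≫ a =
      (yon S).map ((τ.map (ι'' ≫ p)).u i) ≫ a := by
    intro i
    have e0 : (yon S).map (g' ≫ har.fst' υ.base) ≫ a = (yon S).map p ≫ τ.base := by
      rw [Functor.map_comp, Category.assoc, sqD.w, ← Category.assoc, ← Functor.map_comp, ← hpg,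
        Functor.map_comp, Category.assoc, hgb]
    rw [Tup.map_u, Functor.map_comp, Category.assoc, e0, τ.base_eq i]
    simp only [Functor.map_comp, Category.assoc]
  have hap : ∀ i (t'' : (resOpen P D).left),
      ¬ EqAt (ι'' ≫ g' ≫ har.fst' υ.base) ((τ.map (ι'' ≫ p)).u i) t'' := by
    intro i t'' hE
    obtain ⟨j, rfl⟩ := hφ i
    have e1 : (τ.map (ι'' ≫ p)).u (φ j) = (ι'' ≫ g') ≫ har.snd υ.base ≫ υ.u j := by
      rw [Tup.map_u, ← hgu j, Category.assoc, Category.assoc, ← Category.assoc p, hpg,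
        Category.assoc]
    rw [e1, ← Category.assoc] at hE
    rw [eqAt_comp_iff] at hE
    have hmem : (ι'' ≫ g').left t'' ∈ Vp := t''.2
    exact (hVp _).1 hmem j hE.symm
  refine ⟨resOpen P D, ⟨z, hzD⟩, (τ.map (ι'' ≫ p)).cons _ hv hap, ?_⟩
  have e2 := Tup.old_base (ι := Idx m) ((τ.map (ι'' ≫ p)).cons _ hv hap)
  refine (congrArg (fun b => Points.ofPt b (⟨z, hzD⟩ : (resOpen P D).left)) e2).symm.trans ?_
  change Points.ofPt (τ.map (ι'' ≫ p)).base _ = _
  rw [Tup.base_map, ofPt_yon_map_comp]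
  congr 1

end Groth.Agent.Lib.Helper24.FinEt
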