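import Groth.Agent.Lib.Helper24.FinEt4
import Groth.Agent.Lib.Helper14.AlgSpLargestOpen
set_option autoImplicit false
set_option linter.unusedSectionVars false
set_option linter.unusedVariables false
universe u
open CategoryTheory CategoryTheory.Limits AlgebraicGeometry Opposite

/-! Over an open subspace over which the chart is finite, the exhausting tuples form an open
subscheme of the fibre power, finite étale over the open subspace. -/

namespace Groth.Agent.Lib.Helper24.FinEt
open AlgSp Groth.Agent.Lib.Helper14.AS Groth.Agent.Lib.Helper24.Filt1 Groth.Agent.Lib.Helper24.ZarGlue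
open Groth.Agent.Lib.Helper24.Filt2 Groth.Agent.Lib.Helper24.Filt3 Groth.Agent.Lib.Helper24.Filt8
open Groth.Agent.Lib.Helper24.AllTup

variable {S : Scheme.{u}} {U : Over S} {X : Sp S} {a : (yon S).obj U ⟶ X}

/-- base changes of the chart along morphisms factoring through an open subspace over which
the chart is finite are finite -/
theorem repWith_isFinite_of_factor {Uo : Sp S} (j : Uo ⟶ X)
    (hfin : ∀ (P : Sp S) (fst : P ⟶ (yon S).obj U) (snd : P ⟶ Uo), IsPullback fst snd a j →
      RepWith @IsFinite snd)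
    {T P : Sp S} (c : T ⟶ Uo) (fst : P ⟶ (yon S).obj U) (snd : P ⟶ T)
    (sq : IsPullback fst snd a (c ≫ j)) : RepWith @IsFinite snd := by
  have hw : fst ≫ a = (snd ≫ c) ≫ j := by rw [sq.w, Category.assoc]
  have h1 : IsPullback (pullback.lift fst (snd ≫ c) hw) snd (pullback.snd a j) c := by
    refine IsPullback.of_right ?_ (pullback.lift_snd _ _ _) (IsPullback.of_hasPullback a j)
    rw [pullback.lift_fst]
    exact sq
  exact repWith_of_isPullback _ h1 (hfin _ _ _ (IsPullback.of_hasPullback a j))

set_option backward.isDefEq.respectTransparency.types false in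
theorem transfer_finite_etale (hae : RepWith @Etale a) {Uo : Sp S} (j : Uo ⟶ X)
    (hfin : ∀ (P : Sp S) (fst : P ⟶ (yon S).obj U) (snd : P ⟶ Uo), IsPullback fst snd a j →
      RepWith @IsFinite snd)
    (T : Over S) (c : (yon S).obj T ⟶ X)
    (h : (∀ (P : Sp S) (fst : P ⟶ (yon S).obj T) (snd : P ⟶ Uo), IsPullback fst snd c j →
      RepWith @IsFinite snd) ∧ RepWith @Etale c) :
    (∀ (P : Sp S) (fst : P ⟶ (yon S).obj (hae.rep.pullback c)) (snd : P ⟶ Uo),
      IsPullback fst snd ((yon S).map (hae.rep.snd c) ≫ c) j → RepWith @IsFinite snd) ∧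
      RepWith @Etale ((yon S).map (hae.rep.snd c) ≫ c) := by
  have har := hae.rep
  have sq := har.isPullback' c
  refine ⟨fun P' fst' snd' sq' => ?_, ?_⟩
  · have hw : (fst' ≫ (yon S).map (har.snd c)) ≫ c = snd' ≫ j := by
      rw [Category.assoc]; exact sq'.w
    have htop : IsPullback fst' (pullback.lift _ _ hw) ((yon S).map (har.snd c))
        (pullback.fst c j) := by
      refine IsPullback.of_bot ?_ (pullback.lift_fst _ _ _).symm (IsPullback.of_hasPullback c j)
      rw [pullback.lift_snd]
      exact sq'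
    have hbig := htop.paste_horiz sq.flip.flip
    rw [pullback.condition] at hbig
    have h1 : RepWith @IsFinite (pullback.lift _ _ hw) :=
      repWith_isFinite_of_factor j hfin (pullback.snd c j) _ _ hbig
    have h2 : RepWith @IsFinite (pullback.snd c j) := h.1 _ _ _ (IsPullback.of_hasPullback c j)
    have := repWith_comp _ h1 h2
    rwa [pullback.lift_snd] at this
  · exact repWith_comp _ ((repWith_yon_map_iff _ _).2 (hae.property_snd c)) h.2

set_option backward.isDefEq.respectTransparency.types false in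
set_option maxHeartbeats 1600000 in
/-- the open subscheme of exhausting tuples over an open subspace over which the chart is
finite -/
theorem exists_open_covering_tuple (hX : IsAlgSpace X)
    (hΔo : RepWith @IsOpenImmersion (pullback.diagonal a))
    (hΔc : RepWith @IsClosedImmersion (pullback.diagonal a)) (hae : RepWith @Etale a)
    (has : RepWith @Surjective a) [IsAffine U.left]
    (N : ℕ) (hN : ∀ x, x ∉ Om a (Idx N))
    {Uo : Sp S} (j : Uo ⟶ X) (hj : RepWith @IsOpenImmersion j)
    (hfin : ∀ (P : Sp S) (fst : P ⟶ (yon S).obj U) (snd : P ⟶ Uo), IsPullback fst snd a j →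
      RepWith @IsFinite snd) :
    ∃ (B : Over S) (β : ATup a (Idx N) B) (b' : (yon S).obj B ⟶ Uo), b' ≫ j = β.base ∧
      RepWith @IsFinite b' ∧ RepWith @Etale b' ∧ B.left.IsSeparated ∧
      (∀ y : Points Uo, ∃ b : B.left, Points.ofPt b' b = y) ∧
      ∀ (T : Over S) (u : T ⟶ U) (g : T ⟶ B), (yon S).map u ≫ a = (yon S).map g ≫ β.base →
        ∀ t : T.left, ∃ i, EqAt (g ≫ β.u i) u t := by
  obtain ⟨V, υ, hrep, -, hsep, hQfin, hQet⟩ := exists_repA_of hae
    (fun T c => (∀ (P : Sp S) (fst : P ⟶ (yon S).obj T) (snd : P ⟶ Uo), IsPullback fst snd c j →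
      RepWith @IsFinite snd) ∧ RepWith @Etale c) ⟨hfin, hae⟩
    (fun T c h => transfer_finite_etale hae j hfin T c h) N
  obtain ⟨i₀, hi₀⟩ := hsep hΔc
  have har := hae.rep
  have sqD := har.isPullback' υ.base
  have hpre : Etale (har.snd υ.base).left := hae.property_snd υ.base
  have hjm : Mono j := mono_of_openImmersion hj
  -- the part of the fibre power over the open subspace
  have hjr := hj.rep
  have sqU := hjr.isPullback υ.base
  have hιo : IsOpenImmersion (hjr.snd υ.base).left := hj.property_snd υ.base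
  have hcfin : RepWith @IsFinite (hjr.fst υ.base) := hQfin _ _ _ sqU.flip
  -- the base change of the chart to it
  have sqT := har.isPullback' ((yon S).map (hjr.snd υ.base) ≫ υ.base)
  have sqT' : IsPullback ((yon S).map (har.fst' ((yon S).map (hjr.snd υ.base) ≫ υ.base)))
      ((yon S).map (har.snd ((yon S).map (hjr.snd υ.base) ≫ υ.base))) a
      (hjr.fst υ.base ≫ j) := by
    rw [sqU.w]
    exact sqT
  have hprfin : IsFinite (har.snd ((yon S).map (hjr.snd υ.base) ≫ υ.base)).left :=
    (repWith_yon_map_iff _ _).1 (repWith_isFinite_of_factor j hfin _ _ _ sqT')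
  have hkc : (yon S).map (har.fst' ((yon S).map (hjr.snd υ.base) ≫ υ.base)) ≫ a =
      (yon S).map (har.snd ((yon S).map (hjr.snd υ.base) ≫ υ.base) ≫ hjr.snd υ.base) ≫ υ.base := by
    rw [Functor.map_comp, Category.assoc]
    exact sqT.w
  have hk1 : har.lift' _ _ hkc ≫ har.fst' υ.base =
      har.fst' ((yon S).map (hjr.snd υ.base) ≫ υ.base) := har.lift'_fst _ _ _
  have hk2 : har.lift' _ _ hkc ≫ har.snd υ.base =
      har.snd ((yon S).map (hjr.snd υ.base) ≫ υ.base) ≫ hjr.snd υ.base := har.lift'_snd _ _ _
  have sqK : IsPullback ((yon S).map (har.lift' _ _ hkc))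
      ((yon S).map (har.snd ((yon S).map (hjr.snd υ.base) ≫ υ.base)))
      ((yon S).map (har.snd υ.base)) ((yon S).map (hjr.snd υ.base)) := by
    refine IsPullback.of_right ?_ ?_ sqD
    · rw [← Functor.map_comp, hk1]
      exact sqT
    · rw [← Functor.map_comp, ← Functor.map_comp, hk2]
  -- the coincidence loci
  have hcompat : ∀ i, (yon S).map (har.snd υ.base ≫ υ.u i) ≫ a =
      (yon S).map (har.fst' υ.base) ≫ a := by
    intro i
    rw [Functor.map_comp, Category.assoc, ← υ.base_eq i]
    exact sqD.w.symm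
  choose L hLc hLmem hLι using fun i =>
    exists_eqLocus a hΔo hΔc (har.snd υ.base ≫ υ.u i) (har.fst' υ.base) (hcompat i)
  let Vp : (har.pullback υ.base).left.Opens :=
    ⟨⋂ i, ((L i : Set (har.pullback υ.base).left))ᶜ,
      isOpen_iInter_of_finite fun i => (hLc i).isOpen_compl⟩
  have hVpc : IsClosed (Vp : Set (har.pullback υ.base).left) :=
    isClosed_iInter fun i => (L i).2.isClosed_compl
  have hVp : ∀ d : (har.pullback υ.base).left,
      d ∈ Vp ↔ ∀ i, ¬ EqAt (har.snd υ.base ≫ υ.u i) (har.fst' υ.base) d := by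
    intro d
    change d ∈ ⋂ i, ((L i : Set (har.pullback υ.base).left))ᶜ ↔ _
    simp only [Set.mem_iInter, Set.mem_compl_iff, SetLike.mem_coe, hLmem]
  -- the non-exhausting locus is open and closed
  let Bc : Set (hjr.pullback υ.base).left :=
    (hjr.snd υ.base).left ⁻¹' ((har.snd υ.base).left '' (Vp : Set (har.pullback υ.base).left))
  have hBco : IsOpen Bc :=
    ((har.snd υ.base).left.isOpenMap _ Vp.2).preimage (hjr.snd υ.base).left.continuous
  have hBceq : Bc = (har.snd ((yon S).map (hjr.snd υ.base) ≫ υ.base)).left ''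
      ((har.lift' _ _ hkc).left ⁻¹' (Vp : Set (har.pullback υ.base).left)) := by
    ext b
    constructor
    · rintro ⟨d, hd, hdb⟩
      have e : Points.ofPt ((yon S).map (har.snd υ.base)) d =
          Points.ofPt ((yon S).map (hjr.snd υ.base)) b := by
        have h1 := ofPt_yon_map_comp (har.snd υ.base) (𝟙 _) d
        have h2 := ofPt_yon_map_comp (hjr.snd υ.base) (𝟙 _) b
        rw [Category.comp_id] at h1 h2
        rw [h1, h2, hdb]
      obtain ⟨t, ht1, ht2⟩ := exists_point_of_isPullback_yon sqK d b e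
      exact ⟨t, by change (har.lift' _ _ hkc).left t ∈ Vp; rw [ht1]; exact hd, ht2⟩
    · rintro ⟨t, ht, rfl⟩
      refine ⟨(har.lift' _ _ hkc).left t, ht, ?_⟩
      exact congrArg (fun m : har.pullback ((yon S).map (hjr.snd υ.base) ≫ υ.base) ⟶ V =>
        m.left t) hk2
  have hBcc : IsClosed Bc := by
    rw [hBceq]
    exact (har.snd ((yon S).map (hjr.snd υ.base) ≫ υ.base)).left.isClosedMap _
      (hVpc.preimage (har.lift' _ _ hkc).left.continuous)
  let B₀ : (hjr.pullback υ.base).left.Opens := ⟨Bcᶜ, hBcc.isOpen_compl⟩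
  let inc : resOpen (hjr.pullback υ.base) B₀ ⟶ V :=
    resOpenι (hjr.pullback υ.base) B₀ ≫ hjr.snd υ.base
  have hbase : ((yon S).map (resOpenι (hjr.pullback υ.base) B₀) ≫ hjr.fst υ.base) ≫ j =
      (υ.map inc).base := by
    rw [ATup.base_map, Functor.map_comp, Category.assoc, Category.assoc, sqU.w]
  refine ⟨resOpen (hjr.pullback υ.base) B₀, υ.map inc,
    (yon S).map (resOpenι (hjr.pullback υ.base) B₀) ≫ hjr.fst υ.base, hbase, ?_, ?_, ?_, ?_, ?_⟩
  · -- finite
    have hci : IsClosedImmersion B₀.ι := IsClosedImmersion.of_isPreimmersion _ (by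
      rw [Scheme.Opens.range_ι]
      exact hBco.isClosed_compl)
    have : IsFinite (resOpenι (hjr.pullback υ.base) B₀).left := inferInstanceAs (IsFinite B₀.ι)
    exact repWith_comp _ ((repWith_yon_map_iff _ _).2 this) hcfin
  · -- étale
    have h1 : RepWith @Etale (υ.map inc).base := by
      rw [ATup.base_map]
      refine repWith_comp _ ((repWith_yon_map_iff _ _).2 ?_) hQet
      change Etale (B₀.ι ≫ (hjr.snd υ.base).left)
      infer_instance
    have sq' := isPullback_of_factor_mono
      ((yon S).map (resOpenι (hjr.pullback υ.base) B₀) ≫ hjr.fst υ.base) j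
    rw [hbase] at sq'
    exact repWith_of_isPullback _ sq' h1
  · -- separated
    have : IsSeparated (inc.left ≫ (υ.u i₀).left) := by
      change IsSeparated ((B₀.ι ≫ (hjr.snd υ.base).left) ≫ (υ.u i₀).left)
      infer_instance
    exact (HasAffineProperty.iff_of_isAffine (P := @IsSeparated)).1 this
  · -- surjectivity
    intro y
    obtain ⟨v, hv, hexh⟩ := exists_exhausting_point hΔo hΔc hae has hN hrep (Points.map j y)
    obtain ⟨z, hz1, hz2⟩ := points_exists_of_isPullback sqU y (Points.schemeHomeo V v) (by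
      change _ = Points.map υ.base (Points.ofScheme V v)
      rw [← Points.ofPt_eq_map_ofScheme, hv])
    obtain ⟨vU, rfl⟩ := (Points.schemeHomeo (hjr.pullback υ.base)).surjective z
    have hιv : (hjr.snd υ.base).left vU = v :=
      (Points.schemeHomeo V).injective ((Points.map_yon_map_apply _ vU).symm.trans hz2)
    have hvB : vU ∈ B₀ := by
      rintro ⟨d, hd, hdv⟩
      obtain ⟨i, hi⟩ := hexh d (hdv.trans hιv)
      exact (hVp d).1 hd i hi
    refine ⟨⟨vU, hvB⟩, ?_⟩
    rw [ofPt_yon_map_comp]
    change Points.ofPt (hjr.fst υ.base) vU = y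
    rw [Points.ofPt_eq_map_ofScheme]
    exact hz1
  · -- the covering property
    intro T u g hug t
    rw [ATup.base_map, ← Category.assoc, ← Functor.map_comp] at hug
    have hl1 : har.lift' u (g ≫ inc) hug ≫ har.fst' υ.base = u := har.lift'_fst _ _ _
    have hl2 : har.lift' u (g ≫ inc) hug ≫ har.snd υ.base = g ≫ inc := har.lift'_snd _ _ _
    have hnot : (har.lift' u (g ≫ inc) hug).left t ∉ Vp := by
      intro hmem
      have hb : (g.left t).1 ∈ Bc := by
        refine ⟨_, hmem, ?_⟩
        exact congrArg (fun k : T ⟶ V => k.left t) hl2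
      exact (g.left t).2 hb
    rw [hVp, not_forall] at hnot
    obtain ⟨i, hi'⟩ := hnot
    have hi := not_not.1 hi'
    refine ⟨i, ?_⟩
    have h2 := (eqAt_comp_iff (har.lift' u (g ≫ inc) hug) _ _ t).2 hi
    rw [← Category.assoc, hl2, hl1, Category.assoc] at h2
    exact h2

end Groth.Agent.Lib.Helper24.FinEt
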