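import Groth.Agent.Lib.Helper24.FinEt2
import Groth.Agent.Lib.Helper24.FinEt3
import Groth.Agent.Lib.Helper24.FinEt5
import Groth.Agent.Lib.Helper24.OpenSubSp
import Groth.Agent.Lib.Helper14.AlgSpQC
import Groth.Agent.Lib.Helper14.Norm10
import Groth.Agent.Lib.Helper14.IntFinRep
import Groth.Agent.Lib.Helper24.SchLocus
set_option autoImplicit false
set_option linter.unusedSectionVars false
set_option linter.unusedVariables false
universe u
open CategoryTheory CategoryTheory.Limits AlgebraicGeometry Opposite

/-! A dense quasi-compact open subspace over which an affine étale chart is finite, and the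
restriction of a relative normalization over an open subspace. -/

namespace Groth.Agent.Lib.Helper24.FinEt
open AlgSp Groth.Agent.Lib.Helper14.AS Groth.Agent.Lib.Helper24.Filt1 Groth.Agent.Lib.Helper24.ZarGlue
open Groth.Agent.Lib.Helper24.Filt2 Groth.Agent.Lib.Helper24.Filt3 Groth.Agent.Lib.Helper24.Filt8
open Groth.Agent.Lib.Helper24.Filt9 Groth.Agent.Lib.Helper24.IndSq
open Groth.Agent.Lib.Helper24.OpenSubSp

variable {S : Scheme.{u}} {U : Over S}

/-- the space of points of a sheaf with an étale surjective chart has a basis of quasi-compact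
opens -/
theorem exists_compact_open_nhds {X : Sp S} (a : (yon S).obj U ⟶ X) (hae : RepWith @Etale a)
    (has : RepWith @Surjective a) (G : Set (Points X)) (hG : IsOpen G) (x : Points X) (hx : x ∈ G) :
    ∃ Q, IsOpen Q ∧ IsCompact Q ∧ x ∈ Q ∧ Q ⊆ G := by
  obtain ⟨v, rfl⟩ := ofPt_surjective_of_repWith has x
  let G' : U.left.Opens := ⟨Points.ofPt a ⁻¹' G, hG.preimage (Points.continuous_ofPt a)⟩
  obtain ⟨A, hA, hvA, hAG⟩ := exists_isAffineOpen_mem_and_subset (x := v) (U := G') hx
  refine ⟨Points.ofPt a '' (A : Set U.left), isOpenMap_ofPt a hae _ A.2,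
    hA.isCompact.image (Points.continuous_ofPt a), ⟨v, hvA, rfl⟩, ?_⟩
  rintro _ ⟨w, hw, rfl⟩
  exact hAG hw

set_option backward.isDefEq.respectTransparency.types false in
set_option maxHeartbeats 800000 in
/-- a dense quasi-compact open subspace over which the chart is finite -/
theorem exists_dense_qc_open_finite (X : Space S) [IsAffine U.left] (a : (yon S).obj U ⟶ X.obj)
    (hae : RepWith @Etale a) (has : RepWith @Surjective a) {N : ℕ} (hN : ∀ x, x ∉ Om a (Idx N))
    (hirr : (irreducibleComponents (Points X.obj)).Finite) :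
    ∃ (Uo : Space S) (j : Uo ⟶ X), RepWith @IsOpenImmersion j.hom ∧ IsQuasiCompactSp Uo.obj ∧
      Dense (Set.range (Points.map j.hom)) ∧
      ∀ (P : Sp S) (fst : P ⟶ (yon S).obj U) (snd : P ⟶ Uo.obj), IsPullback fst snd a j.hom →
        RepWith @IsFinite snd := by
  have hX := X.property
  have hΩo : ∀ n, IsOpen (Om a (Idx n)) := fun n => isOpen_om X a hae n
  have hN' : Om a (Idx N) = ∅ := Set.eq_empty_of_forall_notMem hN
  have hU'o := isOpen_locConst_locus (fun n => Om a (Idx n)) hΩo
  have hU'd := dense_locConst_locus (fun n => Om a (Idx n)) (om_idx_zero has) hN'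
  obtain ⟨𝒪, h𝒪U', h𝒪o, h𝒪c, h𝒪d⟩ := exists_compact_open_dense_subset hirr
    (exists_compact_open_nhds a hae has) _ hU'o hU'd
  have hjo : RepWith @IsOpenImmersion (openPred 𝒪).ι := repWith_openPred h𝒪o
  have hr : Set.range (Points.map (openPred 𝒪).ι) = 𝒪 := range_openPred h𝒪o
  have hUo : IsAlgSpace (openPred 𝒪).sheaf := isAlgSpace_openPred hX h𝒪o
  refine ⟨⟨(openPred 𝒪).sheaf, hUo⟩, ObjectProperty.homMk (openPred 𝒪).ι, hjo, ?_, ?_, ?_⟩
  · rw [isQuasiCompactSp_iff_compactSpace hUo]
    have hinj := injective_of_openImmersion hjo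
    have hom : IsOpenMap (Points.map (openPred 𝒪).ι) :=
      isOpenMap_points_of_repWith_universallyOpen hX (repWith_mono openImm_le_univOpen hjo)
    have hemb : Topology.IsOpenEmbedding (Points.map (openPred 𝒪).ι) :=
      Topology.IsOpenEmbedding.of_continuous_injective_isOpenMap (Points.continuous_map _) hinj hom
    constructor
    rw [hemb.isInducing.isCompact_iff, Set.image_univ]
    rw [hr]
    exact h𝒪c
  · change Dense (Set.range (Points.map (openPred 𝒪).ι))
    rw [hr]
    exact h𝒪d
  · intro P fst snd sq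
    refine repWith_isFinite_over_open X a hae hUo (openPred 𝒪).ι hjo ?_ fst snd sq
    intro x hx
    rw [hr] at hx
    exact h𝒪U' hx

theorem isFinite_le_isIntegralHom :
    (@IsFinite : MorphismProperty Scheme.{u}) ≤ @IsIntegralHom :=
  fun _ _ f h => by
    have : IsFinite f := h
    infer_instance

set_option backward.isDefEq.respectTransparency.types false in
/-- if `B ⟶ X` factors through an open subspace over which it is finite étale, the relative
normalization of `X` in `B` is finite étale over the open subspace -/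
theorem finite_etale_of_normalization_restrict {X : Sp S} (hX : IsAlgSpace X) {B : Over S}
    (h : (yon S).obj B ⟶ X) (hqc : IsQuasiCompactMor h) (hqs : IsQuasiSeparatedMor h)
    {N : Sp S} (hN : IsAlgSpace N) (ν : N ⟶ X) (f' : (yon S).obj B ⟶ N)
    (hn : IsRelNormalization h ν f') {Uo : Sp S} (hUo : IsAlgSpace Uo) (j : Uo ⟶ X)
    (hj : RepWith @IsOpenImmersion j) (b' : (yon S).obj B ⟶ Uo) (hb' : b' ≫ j = h)
    (hfin : RepWith @IsFinite b') (het : RepWith @Etale b')
    {P : Sp S} (fst : P ⟶ N) (snd : P ⟶ Uo) (sq : IsPullback fst snd ν j) :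
    RepWith @IsFinite snd ∧ RepWith @Etale snd := by
  have hjm : Mono j := mono_of_openImmersion hj
  have hP : IsAlgSpace P :=
    isAlgSpace_of_isPullback (repDiag_of_isAlgSpace hX) hN hUo sq
  have sq1 : IsPullback (𝟙 ((yon S).obj B)) b' h j := by
    have := isPullback_of_factor_mono b' j
    rwa [hb'] at this
  have hw : f' ≫ ν = b' ≫ j := by rw [hn.1, hb']
  have hn1 : IsRelNormalization b' snd (sq.lift f' b' hw) :=
    isRelNormalization_etale_baseChange_sp (IsAlgSpace.yon_obj B) hX hN hUo (IsAlgSpace.yon_obj B)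
      hP h hqc hqs ν f' hn j
      (isEtaleMor_of_repWith_etale (repWith_mono SchLocus.isOpenImmersion_le_etale' hj))
      (𝟙 _) b' sq1 fst snd sq (sq.lift f' b' hw) (sq.lift_snd _ _ _)
      (by rw [sq.lift_fst, Category.id_comp])
  let fS : (ofScheme S).obj B ⟶ (⟨Uo, hUo⟩ : Space S) := ObjectProperty.homMk b'
  have hint : IsIntegralMor b' :=
    (integral_finite_iff_repWith fS).1.2 (repWith_mono isFinite_le_isIntegralHom hfin)
  have hn2 : IsRelNormalization b' b' (𝟙 _) := isRelNormalization_self b' hint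
  obtain ⟨e, -, he2⟩ := isRelNormalization_iso hP (IsAlgSpace.yon_obj B) hn1 hn2
  rw [← he2]
  exact ⟨repWith_comp _ (repWith_of_isIso _ e.hom) hfin,
    repWith_comp _ (repWith_of_isIso _ e.hom) het⟩

end Groth.Agent.Lib.Helper24.FinEt
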