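import Mathlib
import Groth.Prelude.Def_Hyper
import Groth.Agent.Lib.Helper24.BasisHypA

set_option backward.isDefEq.respectTransparency false
set_option backward.isDefEq.respectTransparency.types false
set_option autoImplicit false

universe u

open CategoryTheory CategoryTheory.Limits Opposite Simplicial SimplexCategory

namespace Groth.Agent.Lib.Helper24.GenHyp

open Groth.Agent.Lib.Helper24.BasisHyp (Fc fle fle_refl fle_trans ftop fle_top push push_mono push_id push_comp)

variable {C : Type u} [SmallCategory C] {X : C} (B : Set C)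

/-- Diagrams of objects of `B` over `X` on the faces of a simplex. -/
structure Dg (b : SimplexCategory) : Type u where
  obj : Fc b → Over X
  map : ∀ {x y : Fc b}, fle x y → (obj y ⟶ obj x)
  map_id : ∀ (x : Fc b) (h : fle x x), map h = 𝟙 _
  map_comp : ∀ {x y z : Fc b} (h1 : fle x y) (h2 : fle y z) (h3 : fle x z),
    map h3 = map h2 ≫ map h1
  mem : ∀ x, (obj x).left ∈ B

variable {B}

theorem Dg.ext' {b : SimplexCategory} {D D' : Dg (X := X) B b} (ho : ∀ x, D.obj x = D'.obj x)
    (hm : ∀ (x y : Fc b) (h : fle x y),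
      D.map h = eqToHom (ho y) ≫ D'.map h ≫ eqToHom (ho x).symm) : D = D' := by
  obtain ⟨o, m, _, _, _⟩ := D
  obtain ⟨o', m', _, _, _⟩ := D'
  have e : o = o' := funext ho
  subst e
  have e' : @m = @m' := by
    funext x y h
    have := hm x y h
    simpa using this
  subst e'
  rfl

theorem Dg.map_congr {b : SimplexCategory} (D : Dg (X := X) B b) {x y x' y' : Fc b}
    (ex : x = x') (ey : y = y') (h : fle x y) (h' : fle x' y') :
    D.map h = eqToHom (by rw [ey]) ≫ D.map h' ≫ eqToHom (by rw [ex]) := by
  subst ex ey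
  simp

theorem Dg.map_of_eq {b : SimplexCategory} {D D' : Dg (X := X) B b} (e : D = D') {x y : Fc b}
    (h : fle x y) :
    D.map h = eqToHom (by rw [e]) ≫ D'.map h ≫ eqToHom (by rw [e]) := by
  subst e
  simp

/-- Pullback of diagrams. -/
def Dg.pull {a b : SimplexCategory} (θ : a ⟶ b) (D : Dg (X := X) B b) : Dg (X := X) B a where
  obj x := D.obj (push θ x)
  map h := D.map (push_mono θ h)
  map_id _ _ := D.map_id _ _
  map_comp _ _ _ := D.map_comp _ _ _
  mem _ := D.mem _

theorem Dg.pull_id {b : SimplexCategory} (D : Dg (X := X) B b) : D.pull (𝟙 b) = D := by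
  refine Dg.ext' (fun x => congrArg D.obj (push_id x)) (fun x y h => ?_)
  exact D.map_congr (push_id x) (push_id y) _ _

theorem Dg.pull_comp {a b c : SimplexCategory} (θ : a ⟶ b) (θ' : b ⟶ c) (D : Dg (X := X) B c) :
    D.pull (θ ≫ θ') = (D.pull θ').pull θ := rfl

variable (B) (X)

/-- The levels of the canonical hypercovering. -/
abbrev lev (b : SimplexCategory) : FormalCoproduct.{u} (Over X) :=
  ⟨Dg (X := X) B b, fun D => D.obj (ftop b)⟩

/-- The transition maps. -/
def levMap {a b : SimplexCategory} (θ : a ⟶ b) : lev X B b ⟶ lev X B a where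
  f D := D.pull θ
  φ D := D.map (fle_top (push θ (ftop a)))

/-- The canonical hypercovering. -/
def KK : SimplicialObject (FormalCoproduct.{u} (Over X)) where
  obj b := lev X B b.unop
  map θ := levMap X B θ.unop
  map_id b := by
    refine FormalCoproduct.hom_ext (funext fun D => Dg.pull_id D) (fun D => ?_)
    change D.map (fle_top (push (𝟙 b.unop) (ftop b.unop))) ≫ eqToHom _ = 𝟙 _
    rw [D.map_congr (push_id (ftop b.unop)) rfl _ (fle_refl _), D.map_id]
    simp
  map_comp θ θ' := by
    refine FormalCoproduct.hom_ext rfl (fun D => ?_)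
    change D.map _ ≫ eqToHom _ = D.map _ ≫ D.map _
    rw [eqToHom_refl, Category.comp_id]
    exact D.map_comp _ _ _

end Groth.Agent.Lib.Helper24.GenHyp
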