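import Mathlib
import Groth.Prelude.Def_Hyper
import Groth.Agent.Lib.Helper24.GenHypA
import Groth.Agent.Lib.Helper24.BasisHypB

set_option backward.isDefEq.respectTransparency false
set_option backward.isDefEq.respectTransparency.types false
set_option autoImplicit false

universe u

open CategoryTheory CategoryTheory.Limits Opposite Simplicial SimplexCategory

namespace Groth.Agent.Lib.Helper24.GenHyp

open Groth.Agent.Lib.Helper24.BasisHyp (Fc fle fle_refl fle_trans ftop fle_top push push_mono push_id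
  push_comp len_image_le len_image_comp_le len_image_id)

variable {C : Type u} [SmallCategory C] {X : C} (B : Set C)

/-- A compatible family of diagrams on the `n`-skeleton of the `(n+1)`-simplex, with a cone. -/
structure CFam (n : ℕ) where
  Fd : ∀ (a : SimplexCategory) (_ : a.len ≤ n) (_ : a ⟶ ⦋n + 1⦌), Dg (X := X) B a
  compat : ∀ (a : SimplexCategory) (ha : a.len ≤ n) (a' : SimplexCategory) (ha' : a'.len ≤ n)
    (φ : a ⟶ ⦋n + 1⦌) (ψ : a' ⟶ a), Fd a' ha' (ψ ≫ φ) = (Fd a ha φ).pull ψ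
  Y : Over X
  p : ∀ (a : SimplexCategory) (ha : a.len ≤ n) (φ : a ⟶ ⦋n + 1⦌), Y ⟶ (Fd a ha φ).obj (ftop a)
  p_compat : ∀ (a : SimplexCategory) (ha : a.len ≤ n) (a' : SimplexCategory) (ha' : a'.len ≤ n)
    (φ : a ⟶ ⦋n + 1⦌) (ψ : a' ⟶ a),
    p a' ha' (ψ ≫ φ) = p a ha φ ≫ (Fd a ha φ).map (fle_top (push ψ (ftop a'))) ≫
      eqToHom (congrArg (fun D => D.obj (ftop a')) (compat a ha a' ha' φ ψ).symm)

variable {B} {n : ℕ} (G : CFam (X := X) B n)

/-- Canonical value on a face with small image. -/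
noncomputable def CFam.cv (y : Fc ⦋n + 1⦌) (h : (image y.2).len ≤ n) : Over X :=
  (G.Fd (image y.2) h (image.ι y.2)).obj ⟨y.1, factorThruImage y.2⟩

theorem CFam.cv_congr (y y' : Fc ⦋n + 1⦌) (e : y = y') (h : (image y.2).len ≤ n)
    (h' : (image y'.2).len ≤ n) : G.cv y h = G.cv y' h' := by
  subst e; rfl

theorem CFam.Fd_congr (a : SimplexCategory) (ha : a.len ≤ n) (φ φ' : a ⟶ ⦋n + 1⦌) (e : φ = φ') :
    G.Fd a ha φ = G.Fd a ha φ' := by
  subst e; rfl

theorem CFam.p_congr (a : SimplexCategory) (ha : a.len ≤ n) (φ φ' : a ⟶ ⦋n + 1⦌) (e : φ = φ') :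
    G.p a ha φ = G.p a ha φ' ≫ eqToHom (by rw [e]) := by
  subst e; simp

/-- The data of the comparison of a presentation with the image presentation. -/
theorem CFam.e1 (a : SimplexCategory) (ha : a.len ≤ n) (φ : a ⟶ ⦋n + 1⦌)
    (h1 : (image φ).len ≤ n) :
    G.Fd a ha φ = (G.Fd (image φ) h1 (image.ι φ)).pull (factorThruImage φ) := by
  rw [← G.compat (image φ) h1 a ha (image.ι φ) (factorThruImage φ)]
  exact G.Fd_congr a ha _ _ (image.fac φ).symm

/-- The mono factorisation used for lifting. -/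
noncomputable def liftFac {a : SimplexCategory} (φ : a ⟶ ⦋n + 1⦌) {k : ℕ} (χ : ⦋k⦌ ⟶ a) :
    MonoFactorisation (χ ≫ φ) where
  I := image φ
  m := image.ι φ
  e := χ ≫ factorThruImage φ
  fac := by rw [Category.assoc, image.fac]

/-- The comparison of images. -/
noncomputable def lψ {a : SimplexCategory} (φ : a ⟶ ⦋n + 1⦌) {k : ℕ} (χ : ⦋k⦌ ⟶ a) :
    image (χ ≫ φ) ⟶ image φ := image.lift (liftFac φ χ)

theorem liftFac_l1 {a : SimplexCategory} (φ : a ⟶ ⦋n + 1⦌) {k : ℕ} (χ : ⦋k⦌ ⟶ a) :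
    lψ φ χ ≫ image.ι φ = image.ι (χ ≫ φ) := image.lift_fac (liftFac φ χ)

theorem liftFac_l2 {a : SimplexCategory} (φ : a ⟶ ⦋n + 1⦌) {k : ℕ} (χ : ⦋k⦌ ⟶ a) :
    factorThruImage (χ ≫ φ) ≫ lψ φ χ = χ ≫ factorThruImage φ :=
  image.fac_lift (liftFac φ χ)

theorem Dg.map_comp_assoc {b : SimplexCategory} (D : Dg (X := X) B b) {x y z : Fc b}
    (h1 : fle x y) (h2 : fle y z) (h3 : fle x z) {W : Over X} (k : D.obj x ⟶ W) :
    D.map h2 ≫ D.map h1 ≫ k = D.map h3 ≫ k := by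
  rw [← Category.assoc, ← D.map_comp h1 h2 h3]

theorem CFam.e2 (a : SimplexCategory) (φ : a ⟶ ⦋n + 1⦌) {k : ℕ} (χ : ⦋k⦌ ⟶ a)
    (h1 : (image φ).len ≤ n) (h : (image (χ ≫ φ)).len ≤ n) :
    G.Fd (image (χ ≫ φ)) h (image.ι (χ ≫ φ)) =
      (G.Fd (image φ) h1 (image.ι φ)).pull (lψ φ χ) := by
  rw [← G.compat (image φ) h1 (image (χ ≫ φ)) h (image.ι φ) (lψ φ χ)]
  exact G.Fd_congr _ h _ _ (liftFac_l1 φ χ).symm

theorem CFam.star (a : SimplexCategory) (ha : a.len ≤ n) (φ : a ⟶ ⦋n + 1⦌) (x : Fc a)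
    (h : (image (push φ x).2).len ≤ n) :
    (G.Fd a ha φ).obj x = G.cv (push φ x) h := by
  have h1 : (image φ).len ≤ n := (len_image_le _ _ φ).trans ha
  unfold CFam.cv
  change _ = (G.Fd (image (x.2 ≫ φ)) h (image.ι (x.2 ≫ φ))).obj ⟨x.1, factorThruImage (x.2 ≫ φ)⟩
  rw [G.e1 a ha φ h1, G.e2 a φ x.2 h1 h]
  change (G.Fd (image φ) h1 (image.ι φ)).obj ⟨x.1, x.2 ≫ factorThruImage φ⟩ =
    (G.Fd (image φ) h1 (image.ι φ)).obj
      ⟨x.1, factorThruImage (x.2 ≫ φ) ≫ lψ φ x.2⟩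
  rw [liftFac_l2]

theorem CFam.star' (a : SimplexCategory) (ha : a.len ≤ n) (φ : a ⟶ ⦋n + 1⦌) (x : Fc a)
    (y : Fc ⦋n + 1⦌) (ey : push φ x = y) (h : (image y.2).len ≤ n) :
    (G.Fd a ha φ).obj x = G.cv y h := by
  subst ey
  exact G.star a ha φ x h


/-- The face of the image of `y'` presenting a smaller face `y`. -/
noncomputable def sub0 (y y' : Fc ⦋n + 1⦌) (hle : fle y y') : Fc (image y'.2) :=
  ⟨y.1, hle.choose ≫ factorThruImage y'.2⟩

theorem sub0_push (y y' : Fc ⦋n + 1⦌) (hle : fle y y') :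
    push (image.ι y'.2) (sub0 y y' hle) = y := by
  refine Sigma.ext rfl (heq_of_eq ?_)
  change (hle.choose ≫ factorThruImage y'.2) ≫ image.ι y'.2 = y.2
  rw [Category.assoc, image.fac]
  exact hle.choose_spec.symm

theorem sub0_le (y y' : Fc ⦋n + 1⦌) (hle : fle y y') :
    fle (sub0 y y' hle) ⟨y'.1, factorThruImage y'.2⟩ := ⟨hle.choose, rfl⟩

/-- The canonical transition maps on faces with small image. -/
noncomputable def CFam.gmap (y y' : Fc ⦋n + 1⦌) (hle : fle y y') (hy : (image y.2).len ≤ n)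
    (hy' : (image y'.2).len ≤ n) : G.cv y' hy' ⟶ G.cv y hy :=
  (G.Fd (image y'.2) hy' (image.ι y'.2)).map (sub0_le y y' hle) ≫
    eqToHom (G.star' _ hy' _ (sub0 y y' hle) y (sub0_push y y' hle) hy)

theorem CFam.gmap_eq (a : SimplexCategory) (ha : a.len ≤ n) (φ : a ⟶ ⦋n + 1⦌) (x x' : Fc a)
    (h : fle x x') (hle : fle (push φ x) (push φ x'))
    (hs : (image (push φ x).2).len ≤ n) (hs' : (image (push φ x').2).len ≤ n) :
    G.gmap (push φ x) (push φ x') hle hs hs' =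
      eqToHom (G.star a ha φ x' hs').symm ≫ (G.Fd a ha φ).map h ≫
        eqToHom (G.star a ha φ x hs) := by
  have h1 : (image φ).len ≤ n := (len_image_le _ _ φ).trans ha
  have E1 := G.e1 a ha φ h1
  have E2 := G.e2 a φ x'.2 h1 hs'
  have A := Dg.map_of_eq E2 (sub0_le (push φ x) (push φ x') hle)
  have Bq := Dg.map_of_eq E1 h
  -- the faces agree
  have ex : push (lψ φ x'.2) (sub0 (push φ x) (push φ x') hle) =
      push (factorThruImage φ) x := by
    refine Sigma.ext rfl (heq_of_eq ?_)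
    change (hle.choose ≫ factorThruImage (x'.2 ≫ φ)) ≫ lψ φ x'.2 =
      x.2 ≫ factorThruImage φ
    rw [← cancel_mono (image.ι φ), Category.assoc, Category.assoc, liftFac_l1, image.fac,
      Category.assoc, image.fac]
    exact hle.choose_spec.symm
  have ey : push (lψ φ x'.2)
      (⟨x'.1, factorThruImage (x'.2 ≫ φ)⟩ : Fc (image (x'.2 ≫ φ))) =
      push (factorThruImage φ) x' := by
    refine Sigma.ext rfl (heq_of_eq ?_)
    exact liftFac_l2 φ x'.2
  have Cq := (G.Fd (image φ) h1 (image.ι φ)).map_congr ex ey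
    (push_mono (lψ φ x'.2) (sub0_le (push φ x) (push φ x') hle))
    (push_mono (factorThruImage φ) h)
  unfold CFam.gmap
  rw [Bq]
  refine (congrArg (fun k => k ≫ eqToHom _) A).trans ?_
  change (eqToHom _ ≫ (G.Fd (image φ) h1 (image.ι φ)).map
    (push_mono (lψ φ x'.2) (sub0_le (push φ x) (push φ x') hle)) ≫
      eqToHom _) ≫ eqToHom _ = eqToHom _ ≫ (eqToHom _ ≫ (G.Fd (image φ) h1 (image.ι φ)).map
        (push_mono (factorThruImage φ) h) ≫ eqToHom _) ≫ eqToHom _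
  rw [Cq]
  simp only [Category.assoc, eqToHom_trans, eqToHom_trans_assoc]


theorem CFam.gmap_eq' (a : SimplexCategory) (ha : a.len ≤ n) (φ : a ⟶ ⦋n + 1⦌) (x x' : Fc a)
    (h : fle x x') (y y' : Fc ⦋n + 1⦌) (ey : push φ x = y) (ey' : push φ x' = y')
    (hle : fle y y') (hs : (image y.2).len ≤ n) (hs' : (image y'.2).len ≤ n) :
    G.gmap y y' hle hs hs' =
      eqToHom (G.star' a ha φ x' y' ey' hs').symm ≫ (G.Fd a ha φ).map h ≫
        eqToHom (G.star' a ha φ x y ey hs) := by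
  subst ey ey'
  exact G.gmap_eq a ha φ x x' h hle hs hs'

/-- The cone maps to the canonical values. -/
noncomputable def CFam.pY (y : Fc ⦋n + 1⦌) (hy : (image y.2).len ≤ n) : G.Y ⟶ G.cv y hy :=
  G.p (image y.2) hy (image.ι y.2) ≫
    (G.Fd (image y.2) hy (image.ι y.2)).map (fle_top ⟨y.1, factorThruImage y.2⟩)

theorem CFam.pY_eq (a : SimplexCategory) (ha : a.len ≤ n) (φ : a ⟶ ⦋n + 1⦌) (x : Fc a)
    (hs : (image (push φ x).2).len ≤ n) :
    G.pY (push φ x) hs = G.p a ha φ ≫ (G.Fd a ha φ).map (fle_top x) ≫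
      eqToHom (G.star a ha φ x hs) := by
  have h1 : (image φ).len ≤ n := (len_image_le _ _ φ).trans ha
  have E1 := G.e1 a ha φ h1
  have E2 := G.e2 a φ x.2 h1 hs
  -- the cone maps
  have P1 : G.p a ha φ = (G.p (image φ) h1 (image.ι φ) ≫
      (G.Fd (image φ) h1 (image.ι φ)).map (fle_top (push (factorThruImage φ) (ftop a))) ≫
        eqToHom (congrArg (fun D => D.obj (ftop a))
          (G.compat (image φ) h1 a ha (image.ι φ) (factorThruImage φ)).symm)) ≫
      eqToHom (by rw [image.fac]) := by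
    rw [← G.p_compat (image φ) h1 a ha (image.ι φ) (factorThruImage φ)]
    exact G.p_congr a ha _ _ (image.fac φ).symm
  have P2 : G.p (image (x.2 ≫ φ)) hs (image.ι (x.2 ≫ φ)) = (G.p (image φ) h1 (image.ι φ) ≫
      (G.Fd (image φ) h1 (image.ι φ)).map
        (fle_top (push (lψ φ x.2) (ftop (image (x.2 ≫ φ))))) ≫
        eqToHom (congrArg (fun D => D.obj (ftop (image (x.2 ≫ φ))))
          (G.compat (image φ) h1 (image (x.2 ≫ φ)) hs (image.ι φ)
            (lψ φ x.2)).symm)) ≫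
      eqToHom (by rw [liftFac_l1]) := by
    rw [← G.p_compat (image φ) h1 (image (x.2 ≫ φ)) hs (image.ι φ) (lψ φ x.2)]
    exact G.p_congr _ hs _ _ (liftFac_l1 φ x.2).symm
  have A := Dg.map_of_eq E2 (fle_top (⟨x.1, factorThruImage (x.2 ≫ φ)⟩ : Fc (image (x.2 ≫ φ))))
  have Bq := Dg.map_of_eq E1 (fle_top x)
  have ex : push (lψ φ x.2)
      (⟨x.1, factorThruImage (x.2 ≫ φ)⟩ : Fc (image (x.2 ≫ φ))) =
      push (factorThruImage φ) x := by
    refine Sigma.ext rfl (heq_of_eq ?_)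
    exact liftFac_l2 φ x.2
  have Cq := (G.Fd (image φ) h1 (image.ι φ)).map_congr ex rfl
    (fle_top (push (lψ φ x.2)
      (⟨x.1, factorThruImage (x.2 ≫ φ)⟩ : Fc (image (x.2 ≫ φ)))))
    (fle_top (push (factorThruImage φ) x))
  unfold CFam.pY
  change G.p (image (x.2 ≫ φ)) hs (image.ι (x.2 ≫ φ)) ≫
    (G.Fd (image (x.2 ≫ φ)) hs (image.ι (x.2 ≫ φ))).map
      (fle_top (⟨x.1, factorThruImage (x.2 ≫ φ)⟩ : Fc (image (x.2 ≫ φ)))) = _
  rw [P2, A, P1, Bq]
  change (_ ≫ _) ≫ eqToHom _ ≫ (G.Fd (image φ) h1 (image.ι φ)).map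
      (push_mono (lψ φ x.2)
        (fle_top (⟨x.1, factorThruImage (x.2 ≫ φ)⟩ : Fc (image (x.2 ≫ φ))))) ≫ eqToHom _ =
    ((_ ≫ _) ≫ eqToHom _) ≫ (eqToHom _ ≫ (G.Fd (image φ) h1 (image.ι φ)).map
      (push_mono (factorThruImage φ) (fle_top x)) ≫ eqToHom _) ≫ eqToHom _
  simp only [Category.assoc, eqToHom_trans, eqToHom_trans_assoc, eqToHom_refl, Category.id_comp]
  rw [Dg.map_comp_assoc _ _ _ (fle_top (push (lψ φ x.2)
      (⟨x.1, factorThruImage (x.2 ≫ φ)⟩ : Fc (image (x.2 ≫ φ))))),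
    Dg.map_comp_assoc _ _ _ (fle_top (push (factorThruImage φ) x)), Cq]
  simp only [Category.assoc, eqToHom_trans, eqToHom_trans_assoc, eqToHom_refl, Category.id_comp]


theorem CFam.pY_eq' (a : SimplexCategory) (ha : a.len ≤ n) (φ : a ⟶ ⦋n + 1⦌) (x : Fc a)
    (y : Fc ⦋n + 1⦌) (ey : push φ x = y) (hs : (image y.2).len ≤ n) :
    G.pY y hs = G.p a ha φ ≫ (G.Fd a ha φ).map (fle_top x) ≫
      eqToHom (G.star' a ha φ x y ey hs) := by
  subst ey
  exact G.pY_eq a ha φ x hs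

/-- The top face of the image presents the face itself. -/
theorem top0_push (y : Fc ⦋n + 1⦌) :
    push (image.ι y.2) (⟨y.1, factorThruImage y.2⟩ : Fc (image y.2)) = y := by
  refine Sigma.ext rfl (heq_of_eq ?_)
  exact image.fac y.2

theorem CFam.gmap_id (y : Fc ⦋n + 1⦌) (hle : fle y y) (hy : (image y.2).len ≤ n) :
    G.gmap y y hle hy hy = 𝟙 _ := by
  rw [G.gmap_eq' (image y.2) hy (image.ι y.2) ⟨y.1, factorThruImage y.2⟩
    ⟨y.1, factorThruImage y.2⟩ (fle_refl _) y y (top0_push y) (top0_push y) hle hy hy,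
    Dg.map_id]
  simp

theorem CFam.gmap_comp (y y' y'' : Fc ⦋n + 1⦌) (h1 : fle y y') (h2 : fle y' y'') (h3 : fle y y'')
    (hy : (image y.2).len ≤ n) (hy' : (image y'.2).len ≤ n) (hy'' : (image y''.2).len ≤ n) :
    G.gmap y y'' h3 hy hy'' = G.gmap y' y'' h2 hy' hy'' ≫ G.gmap y y' h1 hy hy' := by
  -- presentations through the image of y''
  obtain ⟨α, hα⟩ := h1
  obtain ⟨α', hα'⟩ := h2
  let x'' : Fc (image y''.2) := ⟨y''.1, factorThruImage y''.2⟩
  let x' : Fc (image y''.2) := ⟨y'.1, α' ≫ factorThruImage y''.2⟩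
  let x : Fc (image y''.2) := ⟨y.1, (α ≫ α') ≫ factorThruImage y''.2⟩
  have ex'' : push (image.ι y''.2) x'' = y'' := top0_push y''
  have ex' : push (image.ι y''.2) x' = y' := by
    refine Sigma.ext rfl (heq_of_eq ?_)
    change (α' ≫ factorThruImage y''.2) ≫ image.ι y''.2 = y'.2
    rw [Category.assoc, image.fac, hα']
  have ex : push (image.ι y''.2) x = y := by
    refine Sigma.ext rfl (heq_of_eq ?_)
    change ((α ≫ α') ≫ factorThruImage y''.2) ≫ image.ι y''.2 = y.2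
    rw [Category.assoc, image.fac, hα, hα', Category.assoc]
  have l1 : fle x x' := ⟨α, Category.assoc _ _ _⟩
  have l2 : fle x' x'' := ⟨α', rfl⟩
  have l3 : fle x x'' := ⟨α ≫ α', rfl⟩
  rw [G.gmap_eq' (image y''.2) hy'' (image.ι y''.2) x x'' l3 y y'' ex ex'' h3 hy hy'',
    G.gmap_eq' (image y''.2) hy'' (image.ι y''.2) x' x'' l2 y' y'' ex' ex'' ⟨α', hα'⟩ hy' hy'',
    G.gmap_eq' (image y''.2) hy'' (image.ι y''.2) x x' l1 y y' ex ex' ⟨α, hα⟩ hy hy',
    Dg.map_comp _ l1 l2 l3]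
  simp only [Category.assoc, eqToHom_trans, eqToHom_trans_assoc, eqToHom_refl, Category.id_comp]

theorem CFam.pY_nat (y y' : Fc ⦋n + 1⦌) (hle : fle y y') (hy : (image y.2).len ≤ n)
    (hy' : (image y'.2).len ≤ n) : G.pY y' hy' ≫ G.gmap y y' hle hy hy' = G.pY y hy := by
  obtain ⟨α, hα⟩ := hle
  let x' : Fc (image y'.2) := ⟨y'.1, factorThruImage y'.2⟩
  let x : Fc (image y'.2) := ⟨y.1, α ≫ factorThruImage y'.2⟩
  have ex' : push (image.ι y'.2) x' = y' := top0_push y'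
  have ex : push (image.ι y'.2) x = y := by
    refine Sigma.ext rfl (heq_of_eq ?_)
    change (α ≫ factorThruImage y'.2) ≫ image.ι y'.2 = y.2
    rw [Category.assoc, image.fac, hα]
  have l1 : fle x x' := ⟨α, rfl⟩
  rw [G.pY_eq' (image y'.2) hy' (image.ι y'.2) x' y' ex' hy',
    G.pY_eq' (image y'.2) hy' (image.ι y'.2) x y ex hy,
    G.gmap_eq' (image y'.2) hy' (image.ι y'.2) x x' l1 y y' ex ex' ⟨α, hα⟩ hy hy']
  simp only [Category.assoc, eqToHom_trans, eqToHom_trans_assoc, eqToHom_refl, Category.id_comp]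
  rw [Dg.map_comp_assoc _ l1 (fle_top x') (fle_top x)]

end Groth.Agent.Lib.Helper24.GenHyp
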