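import Mathlib
import Groth.Prelude.Def_Hyper
import Groth.Agent.Lib.Helper24.GenHypB

set_option backward.isDefEq.respectTransparency false
set_option backward.isDefEq.respectTransparency.types false
set_option autoImplicit false

universe u

open CategoryTheory CategoryTheory.Limits Opposite Simplicial SimplexCategory

namespace Groth.Agent.Lib.Helper24.GenHyp

open Groth.Agent.Lib.Helper24.BasisHyp (Fc fle fle_refl fle_trans ftop fle_top push push_mono push_id
  push_comp len_image_le len_image_comp_le len_image_id)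

variable {C : Type u} [SmallCategory C] {X : C} {B : Set C} {n : ℕ} (G : CFam (X := X) B n)
  (U : Over X) (hU : U.left ∈ B) (u : U ⟶ G.Y)

theorem small_of_le {y y' : Fc ⦋n + 1⦌} (hle : fle y y') (hy' : (image y'.2).len ≤ n) :
    (image y.2).len ≤ n := by
  obtain ⟨α, hα⟩ := hle
  rw [hα]
  exact (len_image_comp_le α y'.2).trans hy'

open Classical in
/-- Objects of the extension. -/
noncomputable def CFam.eobj (y : Fc ⦋n + 1⦌) : Over X :=
  if h : (image y.2).len ≤ n then G.cv y h else U

theorem CFam.eobj_pos (y : Fc ⦋n + 1⦌) (h : (image y.2).len ≤ n) : G.eobj U y = G.cv y h :=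
  dif_pos h

theorem CFam.eobj_neg (y : Fc ⦋n + 1⦌) (h : ¬ (image y.2).len ≤ n) : G.eobj U y = U :=
  dif_neg h

open Classical in
/-- Maps of the extension. -/
noncomputable def CFam.emap {y y' : Fc ⦋n + 1⦌} (hle : fle y y') : G.eobj U y' ⟶ G.eobj U y :=
  if hy' : (image y'.2).len ≤ n then
    eqToHom (G.eobj_pos U y' hy') ≫ G.gmap y y' hle (small_of_le hle hy') hy' ≫
      eqToHom (G.eobj_pos U y (small_of_le hle hy')).symm
  else if hy : (image y.2).len ≤ n then
    eqToHom (G.eobj_neg U y' hy') ≫ u ≫ G.pY y hy ≫ eqToHom (G.eobj_pos U y hy).symm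
  else eqToHom (G.eobj_neg U y' hy') ≫ eqToHom (G.eobj_neg U y hy).symm

theorem CFam.emap_ss {y y' : Fc ⦋n + 1⦌} (hle : fle y y') (hy : (image y.2).len ≤ n)
    (hy' : (image y'.2).len ≤ n) :
    G.emap U u hle = eqToHom (G.eobj_pos U y' hy') ≫ G.gmap y y' hle hy hy' ≫
      eqToHom (G.eobj_pos U y hy).symm := by
  unfold CFam.emap
  rw [dif_pos hy']

theorem CFam.emap_sn {y y' : Fc ⦋n + 1⦌} (hle : fle y y') (hy : (image y.2).len ≤ n)
    (hy' : ¬ (image y'.2).len ≤ n) :
    G.emap U u hle = eqToHom (G.eobj_neg U y' hy') ≫ u ≫ G.pY y hy ≫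
      eqToHom (G.eobj_pos U y hy).symm := by
  unfold CFam.emap
  rw [dif_neg hy', dif_pos hy]

theorem CFam.emap_nn {y y' : Fc ⦋n + 1⦌} (hle : fle y y') (hy : ¬ (image y.2).len ≤ n)
    (hy' : ¬ (image y'.2).len ≤ n) :
    G.emap U u hle = eqToHom (G.eobj_neg U y' hy') ≫ eqToHom (G.eobj_neg U y hy).symm := by
  unfold CFam.emap
  rw [dif_neg hy', dif_neg hy]

/-- The extension of a compatible family by an object of `B` on the top cell. -/
noncomputable def CFam.ext : Dg (X := X) B ⦋n + 1⦌ where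
  obj y := G.eobj U y
  map hle := G.emap U u hle
  map_id y h := by
    by_cases hy : (image y.2).len ≤ n
    · rw [G.emap_ss U u h hy hy, G.gmap_id]
      simp
    · rw [G.emap_nn U u h hy hy]
      simp
  map_comp {y y' y''} h1 h2 h3 := by
    by_cases hy'' : (image y''.2).len ≤ n
    · have hy' := small_of_le h2 hy''
      have hy := small_of_le h1 hy'
      rw [G.emap_ss U u h3 hy hy'', G.emap_ss U u h2 hy' hy'', G.emap_ss U u h1 hy hy',
        G.gmap_comp y y' y'' h1 h2 h3 hy hy' hy'']
      simp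
    · by_cases hy' : (image y'.2).len ≤ n
      · have hy := small_of_le h1 hy'
        rw [G.emap_sn U u h3 hy hy'', G.emap_sn U u h2 hy' hy'', G.emap_ss U u h1 hy hy',
          ← G.pY_nat y y' h1 hy hy']
        simp
      · by_cases hy : (image y.2).len ≤ n
        · rw [G.emap_sn U u h3 hy hy'', G.emap_nn U u h2 hy' hy'', G.emap_sn U u h1 hy hy']
          simp
        · rw [G.emap_nn U u h3 hy hy'', G.emap_nn U u h2 hy' hy'', G.emap_nn U u h1 hy hy']
          simp
  mem y := by
    by_cases hy : (image y.2).len ≤ n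
    · rw [show G.eobj U y = G.cv y hy from G.eobj_pos U y hy]
      exact (G.Fd _ hy _).mem _
    · rw [show G.eobj U y = U from G.eobj_neg U y hy]
      exact hU


theorem not_small_top : ¬ (image (ftop ⦋n + 1⦌).2).len ≤ n := by
  change ¬ (image (𝟙 ⦋n + 1⦌)).len ≤ n
  rw [len_image_id]
  change ¬ (n + 1 ≤ n)
  omega

theorem CFam.ext_top : (G.ext U hU u).obj (ftop ⦋n + 1⦌) = U :=
  G.eobj_neg U _ not_small_top

theorem small_push (a : SimplexCategory) (ha : a.len ≤ n) (φ : a ⟶ ⦋n + 1⦌) (x : Fc a) :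
    (image (push φ x).2).len ≤ n :=
  (len_image_comp_le x.2 φ).trans ((len_image_le _ _ φ).trans ha)

theorem CFam.ext_pull (a : SimplexCategory) (ha : a.len ≤ n) (φ : a ⟶ ⦋n + 1⦌) :
    (G.ext U hU u).pull φ = G.Fd a ha φ := by
  refine Dg.ext' (fun x => ?_) (fun x y h => ?_)
  · change G.eobj U (push φ x) = _
    rw [G.eobj_pos U _ (small_push a ha φ x)]
    exact (G.star a ha φ x _).symm
  · change G.emap U u (push_mono φ h) = _
    rw [G.emap_ss U u (push_mono φ h) (small_push a ha φ x) (small_push a ha φ y),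
      G.gmap_eq a ha φ x y h (push_mono φ h) (small_push a ha φ x) (small_push a ha φ y)]
    simp only [Category.assoc, eqToHom_trans, eqToHom_trans_assoc]

theorem CFam.ext_top_map (a : SimplexCategory) (ha : a.len ≤ n) (φ : a ⟶ ⦋n + 1⦌) :
    (G.ext U hU u).map (fle_top (push φ (ftop a))) =
      eqToHom (G.ext_top U hU u) ≫ u ≫ G.p a ha φ ≫
        eqToHom (congrArg (fun D => D.obj (ftop a)) (G.ext_pull U hU u a ha φ).symm) := by
  change G.emap U u (fle_top (push φ (ftop a))) = _
  rw [G.emap_sn U u _ (small_push a ha φ (ftop a)) not_small_top,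
    G.pY_eq a ha φ (ftop a) (small_push a ha φ (ftop a)), Dg.map_id]
  simp only [Category.assoc, eqToHom_trans, Category.id_comp]

end Groth.Agent.Lib.Helper24.GenHyp
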