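import Mathlib
import Groth.Prelude.Def_Hyper
import Groth.Agent.Lib.Helper24.GenHypD

set_option backward.isDefEq.respectTransparency false
set_option backward.isDefEq.respectTransparency.types false
set_option autoImplicit false

universe u

open CategoryTheory CategoryTheory.Limits Opposite Simplicial SimplexCategory

namespace Groth.Agent.Lib.Helper24.FinHyp

open Groth.Agent.Lib.Helper24.BasisHyp (Fc fle fle_refl fle_trans ftop fle_top push push_mono push_id
  push_comp len_image_le len_image_comp_le len_image_id)
open Groth.Agent.Lib.Helper24.GenHyp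

variable {C : Type u} [SmallCategory C] (X : C) (B : Set C)

/-- A family of sets of diagrams closed under pullback. -/
structure PC where
  S : ∀ b : SimplexCategory, Set (Dg (X := X) B b)
  pull : ∀ {a b : SimplexCategory} (θ : a ⟶ b) (D : Dg (X := X) B b), D ∈ S b → D.pull θ ∈ S a

variable {X B} (P : PC X B)

/-- The levels of the sub-object. -/
abbrev slev (b : SimplexCategory) : FormalCoproduct.{u} (Over X) :=
  ⟨{D : Dg (X := X) B b // D ∈ P.S b}, fun D => D.1.obj (ftop b)⟩

/-- The transition maps. -/
def slevMap {a b : SimplexCategory} (θ : a ⟶ b) : slev P b ⟶ slev P a where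
  f D := ⟨D.1.pull θ, P.pull θ D.1 D.2⟩
  φ D := D.1.map (fle_top (push θ (ftop a)))

/-- The sub-simplicial object attached to a pull-closed family. -/
def KS : SimplicialObject (FormalCoproduct.{u} (Over X)) where
  obj b := slev P b.unop
  map θ := slevMap P θ.unop
  map_id b := by
    refine FormalCoproduct.hom_ext (funext fun D => Subtype.ext (Dg.pull_id D.1)) (fun D => ?_)
    change D.1.map (fle_top (push (𝟙 b.unop) (ftop b.unop))) ≫ eqToHom _ = 𝟙 _
    rw [D.1.map_congr (push_id (ftop b.unop)) rfl _ (fle_refl _), D.1.map_id]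
    simp
  map_comp θ θ' := by
    refine FormalCoproduct.hom_ext rfl (fun D => ?_)
    change D.1.map _ ≫ eqToHom _ = D.1.map _ ≫ D.1.map _
    rw [eqToHom_refl, Category.comp_id]
    exact D.1.map_comp _ _ _

/-- The inclusion into the canonical hypercovering. -/
def inclKS : KS P ⟶ KK X B where
  app b := ⟨fun D => D.1, fun _ => 𝟙 _⟩
  naturality a b θ := by
    refine FormalCoproduct.hom_ext rfl (fun D => ?_)
    change (D.1.map _ ≫ 𝟙 _) ≫ eqToHom _ = 𝟙 _ ≫ D.1.map _
    simp

end Groth.Agent.Lib.Helper24.FinHyp
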