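import Mathlib
import Groth.Agent.Lib.Helper24.KanLeg

set_option backward.isDefEq.respectTransparency false
set_option backward.isDefEq.respectTransparency.types false
set_option autoImplicit false

universe v u

open CategoryTheory CategoryTheory.Limits Opposite

namespace Groth.Agent.Lib.Helper24.KanLeg

variable {A : Type u} [Category.{v} A]
  [∀ (n : ℕ) (F : (SimplexCategory.Truncated n)ᵒᵖ ⥤ A),
    (SimplexCategory.Truncated.inclusion n).op.HasRightKanExtension F]
  {K K' : SimplicialObject A} (f : K ⟶ K') (n : ℕ) (p : SimplexCategory)

/-- Functoriality of the coskeleton cone. -/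
theorem kanCone_map (g : SA n p) :
    ((SimplicialObject.cosk n).map f).app (op p) ≫ (kanCone K' n p).π.app g =
      (kanCone K n p).π.app g ≫ f.app ((SimplexCategory.Truncated.inclusion n).op.obj g.right) := by
  have h1 : ((SimplicialObject.cosk n).map f).app (op p) ≫
      ((SimplicialObject.cosk n).obj K').map g.hom =
      ((SimplicialObject.cosk n).obj K).map g.hom ≫ ((SimplicialObject.cosk n).map f).app _ :=
    (((SimplicialObject.cosk n).map f).naturality g.hom).symm
  have h2 := congrArg (fun k => k.app g.right)
    ((SimplicialObject.coskAdj n).counit.naturality ((SimplicialObject.truncation n).map f))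
  change _ ≫ (((SimplicialObject.cosk n).obj K').map g.hom ≫
    ((SimplicialObject.coskAdj n).counit.app ((SimplicialObject.truncation n).obj K')).app
      g.right) = (((SimplicialObject.cosk n).obj K).map g.hom ≫
    ((SimplicialObject.coskAdj n).counit.app ((SimplicialObject.truncation n).obj K)).app
      g.right) ≫ _
  rw [← Category.assoc, h1, Category.assoc, Category.assoc]
  congr 1

end Groth.Agent.Lib.Helper24.KanLeg
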