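import Mathlib
import Groth.Prelude.Def_Hyper
import Groth.Agent.Lib.Helper24.FinHypA
import Groth.Agent.Lib.Helper24.KanLegB
import Groth.Agent.Lib.Helper24.GenHypD

set_option backward.isDefEq.respectTransparency false
set_option backward.isDefEq.respectTransparency.types false
set_option autoImplicit false

universe u

open CategoryTheory CategoryTheory.Limits Opposite Simplicial SimplexCategory

namespace Groth.Agent.Lib.Helper24.FinHyp

open Groth.Agent.Lib.Helper24.BasisHyp (Fc fle fle_refl fle_trans ftop fle_top push push_mono push_id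
  push_comp len_image_le len_image_comp_le len_image_id)
open Groth.Agent.Lib.Helper24.GenHyp Groth.Agent.Lib.Helper24.KanLeg

variable {C : Type u} [SmallCategory C] {X : C} {B : Set C} (P : PC X B)
  [∀ (n : ℕ) (F : (SimplexCategory.Truncated n)ᵒᵖ ⥤ Limits.FormalCoproduct.{u} (Over X)),
      (SimplexCategory.Truncated.inclusion n).op.HasRightKanExtension F]

/-- The comparison of coskeleta. -/
noncomputable abbrev γ (n : ℕ) :
    (kanCone (KS P) n ⦋n + 1⦌).pt ⟶ (kanCone (KK X B) n ⦋n + 1⦌).pt :=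
  ((SimplicialObject.cosk n).map (inclKS P)).app (op ⦋n + 1⦌)

/-- The legs of the sub-object. -/
noncomputable abbrev PS (n : ℕ) (a : SimplexCategory) (ha : a.len ≤ n) (φ : a ⟶ ⦋n + 1⦌) :
    (kanCone (KS P) n ⦋n + 1⦌).pt ⟶ slev P a :=
  (kanCone (KS P) n ⦋n + 1⦌).π.app (sa n a ha φ)

theorem γ_PP (n : ℕ) (a : SimplexCategory) (ha : a.len ≤ n) (φ : a ⟶ ⦋n + 1⦌) :
    γ P n ≫ PP X B n a ha φ = PS P n a ha φ ≫ (inclKS P).app (op a) :=
  kanCone_map (inclKS P) n ⦋n + 1⦌ (sa n a ha φ)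

theorem γ_Fd (n : ℕ) (j' : (kanCone (KS P) n ⦋n + 1⦌).pt.I) (a : SimplexCategory) (ha : a.len ≤ n)
    (φ : a ⟶ ⦋n + 1⦌) :
    (fam X B n ((γ P n).f j')).Fd a ha φ = ((PS P n a ha φ).f j').1 := by
  have := congrArg (fun h => h.f j') (γ_PP P n a ha φ)
  exact this

theorem γ_Fd_mem (n : ℕ) (j' : (kanCone (KS P) n ⦋n + 1⦌).pt.I) (a : SimplexCategory)
    (ha : a.len ≤ n) (φ : a ⟶ ⦋n + 1⦌) :
    (fam X B n ((γ P n).f j')).Fd a ha φ ∈ P.S a := by
  rw [γ_Fd]
  exact ((PS P n a ha φ).f j').2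

theorem γ_p (n : ℕ) (j' : (kanCone (KS P) n ⦋n + 1⦌).pt.I) (a : SimplexCategory) (ha : a.len ≤ n)
    (φ : a ⟶ ⦋n + 1⦌) :
    (γ P n).φ j' ≫ (fam X B n ((γ P n).f j')).p a ha φ =
      (PS P n a ha φ).φ j' ≫ eqToHom (by
        change ((PS P n a ha φ).f j').1.obj (ftop a) = _
        rw [← γ_Fd P n j' a ha φ]) := by
  obtain ⟨h₁, h₂⟩ := (FormalCoproduct.hom_ext_iff _ _).1 (γ_PP P n a ha φ)
  have := h₂ j'
  change ((γ P n).φ j' ≫ (PP X B n a ha φ).φ _) ≫ eqToHom _ =
    (PS P n a ha φ).φ j' ≫ 𝟙 _ at this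
  rw [Category.comp_id] at this
  rw [← this]
  simp
  rfl

variable (J : GrothendieckTopology C) [HasPullbacks C]

theorem cover_succ_sub (n : ℕ)
    (hext : ∀ j : (kanCone (KK X B) n ⦋n + 1⦌).pt.I,
      (∀ a ha φ, (fam X B n j).Fd a ha φ ∈ P.S a) →
      ∃ (ι : Type u) (V : ι → C) (f : ∀ i, V i ⟶ (fam X B n j).Y.left) (hV : ∀ i, V i ∈ B),
        Sieve.ofArrows V f ∈ J (fam X B n j).Y.left ∧
        ∀ i, (fam X B n j).ext (Over.mk (f i ≫ (fam X B n j).Y.hom)) (hV i)
          (Over.homMk (f i) rfl) ∈ P.S ⦋n + 1⦌) :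
    Hyper.IsSRCovering (J.over X)
      (((SimplicialObject.coskAdj n).unit.app (KS P)).app (op (SimplexCategory.mk (n + 1)))) := by
  have : HasFiniteLimits (FormalCoproduct.{u} (Over X)) :=
    Groth.Agent.Lib.Helper24.HyRef.hasFiniteLimitsFC X
  have := Groth.Agent.Lib.Helper20.hasPointwiseRightKanExtension_truncated n
    ((SimplicialObject.truncation n).obj (KS P))
  have hlim := kanIsLimit (KS P) n ⦋n + 1⦌
  intro j'
  rw [GrothendieckTopology.mem_over_iff, Sieve.overEquiv_ofArrows]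
  let j := (γ P n).f j'
  let c : (kanCone (KS P) n ⦋n + 1⦌).pt.obj j' ⟶ (kanCone (KK X B) n ⦋n + 1⦌).pt.obj j :=
    (γ P n).φ j'
  let G := fam X B n j
  obtain ⟨ι, V, f, hV, hcov, hmem⟩ := hext j (fun a ha φ => γ_Fd_mem P n j' a ha φ)
  refine J.superset_covering ?_ (J.pullback_stable c.left hcov)
  intro Z w hw
  obtain ⟨W, t, _, ⟨i⟩, e⟩ := hw
  let U : Over X := Over.mk (f i ≫ G.Y.hom)
  let u : U ⟶ G.Y := Over.homMk (f i) rfl
  have hU : U.left ∈ B := hV i
  let D : Dg (X := X) B ⦋n + 1⦌ := G.ext U hU u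
  have hDtop : D.obj (ftop ⦋n + 1⦌) = U := G.ext_top U hU u
  let D' : (slev P ⦋n + 1⦌).I := ⟨D, hmem i⟩
  let Y' : Over X := (kanCone (KS P) n ⦋n + 1⦌).pt.obj j'
  let Zo : Over X := Over.mk (w ≫ Y'.hom)
  let wo : Zo ⟶ Y' := Over.homMk w rfl
  have et : t ≫ U.hom = Zo.hom := by
    change t ≫ f i ≫ G.Y.hom = w ≫ Y'.hom
    rw [← Category.assoc, e, Category.assoc]
    congr 1
    exact Over.w c
  let tq' : Zo ⟶ U := Over.homMk t et
  let tq : Zo ⟶ D.obj (ftop ⦋n + 1⦌) := tq' ≫ eqToHom hDtop.symm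
  have hwc : tq' ≫ u = wo ≫ c := by
    ext
    exact e
  let a : (FormalCoproduct.incl _).obj Zo ⟶ (kanCone (KS P) n ⦋n + 1⦌).pt :=
    FormalCoproduct.Hom.fromIncl (Y := slev P ⦋n + 1⦌) D' tq ≫
      ((SimplicialObject.coskAdj n).unit.app (KS P)).app (op (SimplexCategory.mk (n + 1)))
  let b : (FormalCoproduct.incl _).obj Zo ⟶ (kanCone (KS P) n ⦋n + 1⦌).pt :=
    FormalCoproduct.Hom.fromIncl j' wo
  have hab : a = b := by
    refine hlim.hom_ext (fun g => ?_)
    rw [sa_eta n g]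
    have h1 : a ≫ (kanCone (KS P) n ⦋n + 1⦌).π.app
        (sa n g.right.unop.obj g.right.unop.property g.hom.unop) =
        FormalCoproduct.Hom.fromIncl (Y := slev P ⦋n + 1⦌) D' tq ≫ slevMap P g.hom.unop := by
      change (_ ≫ _) ≫ _ = _
      rw [Category.assoc, unit_leg]
      rfl
    rw [h1]
    refine FormalCoproduct.hom_ext ?_ (fun _ => ?_)
    · funext _
      refine Subtype.ext ?_
      change D.pull g.hom.unop = ((PS P n _ g.right.unop.property g.hom.unop).f j').1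
      rw [← γ_Fd P n j' _ g.right.unop.property g.hom.unop]
      exact G.ext_pull U hU u _ g.right.unop.property g.hom.unop
    · change (tq ≫ D.map (fle_top (push g.hom.unop (ftop g.right.unop.obj)))) ≫ eqToHom _ =
        wo ≫ (PS P n _ g.right.unop.property g.hom.unop).φ j'
      rw [G.ext_top_map U hU u _ g.right.unop.property g.hom.unop]
      have hp := γ_p P n j' _ g.right.unop.property g.hom.unop
      have hp' : (PS P n _ g.right.unop.property g.hom.unop).φ j' =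
          (c ≫ G.p _ g.right.unop.property g.hom.unop) ≫ eqToHom (by
            change _ = ((PS P n _ g.right.unop.property g.hom.unop).f j').1.obj (ftop _)
            rw [← γ_Fd P n j' _ g.right.unop.property g.hom.unop]) := by
        rw [hp]
        simp
      rw [hp']
      have hwc' := reassoc_of% hwc
      simp only [tq, Category.assoc, eqToHom_trans, eqToHom_trans_assoc, eqToHom_refl,
        Category.id_comp, hwc']
  obtain ⟨hf, hφ⟩ := (FormalCoproduct.hom_ext_iff _ _).1 hab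
  have hDj : (((SimplicialObject.coskAdj n).unit.app (KS P)).app
      (op (SimplexCategory.mk (n + 1)))).f D' = j' := congrFun hf PUnit.unit
  let i0 : {i : ((KS P).obj (op (SimplexCategory.mk (n + 1)))).I //
      (((SimplicialObject.coskAdj n).unit.app (KS P)).app
        (op (SimplexCategory.mk (n + 1)))).f i = j'} := ⟨D', hDj⟩
  have hmem' := Sieve.ofArrows_mk
    (fun i : {i : ((KS P).obj (op (SimplexCategory.mk (n + 1)))).I //
      (((SimplicialObject.coskAdj n).unit.app (KS P)).app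
        (op (SimplexCategory.mk (n + 1)))).f i = j'} =>
        (((KS P).obj (op (SimplexCategory.mk (n + 1)))).obj i.1).left)
    (fun i => ((((SimplicialObject.coskAdj n).unit.app (KS P)).app
        (op (SimplexCategory.mk (n + 1)))).φ i.1 ≫ eqToHom (congrArg _ i.2)).left) i0
  have hrel : w = tq.left ≫
      ((((SimplicialObject.coskAdj n).unit.app (KS P)).app
        (op (SimplexCategory.mk (n + 1)))).φ D' ≫ eqToHom (congrArg _ hDj)).left := by
    have h2 := hφ PUnit.unit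
    have h3 : tq ≫ (((SimplicialObject.coskAdj n).unit.app (KS P)).app
        (op (SimplexCategory.mk (n + 1)))).φ D' ≫ eqToHom (congrArg _ hDj) = wo := by
      have h2' : (tq ≫ (((SimplicialObject.coskAdj n).unit.app (KS P)).app
          (op (SimplexCategory.mk (n + 1)))).φ D') ≫ eqToHom (congrArg _ hDj) = wo := h2
      rw [Category.assoc] at h2'
      exact h2'
    have h4 := congrArg (fun k => k.left) h3
    exact h4.symm
  rw [hrel]
  exact Sieve.downward_closed _ hmem' _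

omit [HasPullbacks C] in
theorem cover_zero_sub
    (h0 : ∃ (ι : Type u) (V : ι → C) (f : ∀ i, V i ⟶ X) (hV : ∀ i, V i ∈ B),
      Sieve.ofArrows V f ∈ J X ∧ ∀ i, constDg X B ⦋0⦌ (Over.mk (f i)) (hV i) ∈ P.S ⦋0⦌) :
    Sieve.ofArrows (fun i => (((KS P).obj (op (SimplexCategory.mk 0))).obj i).left)
      (fun i => (((KS P).obj (op (SimplexCategory.mk 0))).obj i).hom) ∈ J X := by
  obtain ⟨ι, V, f, hV, hcov, hmem⟩ := h0
  refine J.superset_covering ?_ hcov
  intro Z g hg
  obtain ⟨W, k, _, ⟨i⟩, rfl⟩ := hg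
  let D : (slev P ⦋0⦌).I := ⟨constDg X B ⦋0⦌ (Over.mk (f i)) (hV i), hmem i⟩
  exact Sieve.downward_closed _ (Sieve.ofArrows_mk
    (fun i => (((KS P).obj (op (SimplexCategory.mk 0))).obj i).left)
    (fun i => (((KS P).obj (op (SimplexCategory.mk 0))).obj i).hom) D) k

theorem isHypercovering_sub
    (h0 : ∃ (ι : Type u) (V : ι → C) (f : ∀ i, V i ⟶ X) (hV : ∀ i, V i ∈ B),
      Sieve.ofArrows V f ∈ J X ∧ ∀ i, constDg X B ⦋0⦌ (Over.mk (f i)) (hV i) ∈ P.S ⦋0⦌)
    (hext : ∀ (n : ℕ) (j : (kanCone (KK X B) n ⦋n + 1⦌).pt.I),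
      (∀ a ha φ, (fam X B n j).Fd a ha φ ∈ P.S a) →
      ∃ (ι : Type u) (V : ι → C) (f : ∀ i, V i ⟶ (fam X B n j).Y.left) (hV : ∀ i, V i ∈ B),
        Sieve.ofArrows V f ∈ J (fam X B n j).Y.left ∧
        ∀ i, (fam X B n j).ext (Over.mk (f i ≫ (fam X B n j).Y.hom)) (hV i)
          (Over.homMk (f i) rfl) ∈ P.S ⦋n + 1⦌) :
    Hyper.IsHypercovering J X (KS P) :=
  ⟨cover_zero_sub P J h0, fun n => cover_succ_sub P J n (hext n)⟩

end Groth.Agent.Lib.Helper24.FinHyp
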