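import Mathlib
import Groth.Prelude.Def_Hyper
import Groth.Agent.Lib.Helper24.GenHypD

set_option backward.isDefEq.respectTransparency false
set_option backward.isDefEq.respectTransparency.types false
set_option autoImplicit false

universe u

open CategoryTheory CategoryTheory.Limits Opposite Simplicial SimplexCategory

namespace Groth.Agent.Lib.Helper24.FinHyp

open Groth.Agent.Lib.Helper24.BasisHyp (Fc fle fle_refl fle_trans ftop fle_top push push_mono push_id
  push_comp len_image_le len_image_comp_le len_image_id)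
open Groth.Agent.Lib.Helper24.GenHyp Groth.Agent.Lib.Helper24.KanLeg

variable {C : Type u} [SmallCategory C] [HasPullbacks C] (X : C) (B : Set C)
  [∀ (n : ℕ) (F : (SimplexCategory.Truncated n)ᵒᵖ ⥤ Limits.FormalCoproduct.{u} (Over X)),
      (SimplexCategory.Truncated.inclusion n).op.HasRightKanExtension F]

instance hasFiniteLimitsOver : HasFiniteLimits (Over X) :=
  hasFiniteLimits_of_hasTerminal_and_pullbacks

theorem exists_common (n : ℕ) (j₁ j₂ : (kanCone (KK X B) n ⦋n + 1⦌).pt.I)
    (h : ∀ a ha φ, (fam X B n j₁).Fd a ha φ = (fam X B n j₂).Fd a ha φ)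
    (T : Finset (SA n ⦋n + 1⦌)) :
    ∃ (Z : Over X) (q₁ : Z ⟶ (fam X B n j₁).Y) (q₂ : Z ⟶ (fam X B n j₂).Y), ∀ g ∈ T,
      q₁ ≫ (fam X B n j₁).p _ g.right.unop.property g.hom.unop ≫
        eqToHom (congrArg (fun D => D.obj (ftop _)) (h _ g.right.unop.property g.hom.unop)) =
      q₂ ≫ (fam X B n j₂).p _ g.right.unop.property g.hom.unop := by
  classical
  induction T using Finset.induction_on with
  | empty =>
    exact ⟨(fam X B n j₁).Y ⨯ (fam X B n j₂).Y, prod.fst, prod.snd, fun g hg => by simp at hg⟩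
  | insert g₀ T hg₀ ih =>
    obtain ⟨Z, q₁, q₂, hq⟩ := ih
    let l := q₁ ≫ (fam X B n j₁).p _ g₀.right.unop.property g₀.hom.unop ≫
        eqToHom (congrArg (fun D => D.obj (ftop _)) (h _ g₀.right.unop.property g₀.hom.unop))
    let r := q₂ ≫ (fam X B n j₂).p _ g₀.right.unop.property g₀.hom.unop
    refine ⟨equalizer l r, equalizer.ι l r ≫ q₁, equalizer.ι l r ≫ q₂, fun g hg => ?_⟩
    rcases Finset.mem_insert.1 hg with rfl | hg
    · have := equalizer.condition l r
      simpa only [Category.assoc, l, r] using this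
    · have := hq g hg
      simp only [Category.assoc]
      rw [this]

theorem fam_injective (n : ℕ) (j₁ j₂ : (kanCone (KK X B) n ⦋n + 1⦌).pt.I)
    (h : ∀ a ha φ, (fam X B n j₁).Fd a ha φ = (fam X B n j₂).Fd a ha φ) : j₁ = j₂ := by
  classical
  have : HasFiniteLimits (FormalCoproduct.{u} (Over X)) :=
    Groth.Agent.Lib.Helper24.HyRef.hasFiniteLimitsFC X
  have := Groth.Agent.Lib.Helper20.hasPointwiseRightKanExtension_truncated n
    ((SimplicialObject.truncation n).obj (KK X B))
  have hlim := kanIsLimit (KK X B) n ⦋n + 1⦌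
  let _ : Fintype (SA n ⦋n + 1⦌) :=
    (Groth.Agent.Lib.Helper20.finCategory_structuredArrow_truncated n (op ⦋n + 1⦌)).fintypeObj
  obtain ⟨Z, q₁, q₂, hq⟩ := exists_common X B n j₁ j₂ h Finset.univ
  let a : (FormalCoproduct.incl _).obj Z ⟶ (kanCone (KK X B) n ⦋n + 1⦌).pt :=
    FormalCoproduct.Hom.fromIncl j₁ q₁
  let b : (FormalCoproduct.incl _).obj Z ⟶ (kanCone (KK X B) n ⦋n + 1⦌).pt :=
    FormalCoproduct.Hom.fromIncl j₂ q₂
  have hab : a = b := by
    refine hlim.hom_ext (fun g => ?_)
    rw [sa_eta n g]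
    refine FormalCoproduct.hom_ext ?_ (fun _ => ?_)
    · funext _
      exact h _ g.right.unop.property g.hom.unop
    · change (q₁ ≫ (fam X B n j₁).p _ g.right.unop.property g.hom.unop) ≫ eqToHom _ =
        q₂ ≫ (fam X B n j₂).p _ g.right.unop.property g.hom.unop
      have := hq g (Finset.mem_univ g)
      rw [Category.assoc]
      exact this
  exact congrFun ((FormalCoproduct.hom_ext_iff _ _).1 hab).1 PUnit.unit

end Groth.Agent.Lib.Helper24.FinHyp
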