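import Mathlib
import Groth.Prelude.Def_Hyper
import Groth.Agent.Lib.Helper24.FinHypB
import Groth.Agent.Lib.Helper24.FinHypC

set_option backward.isDefEq.respectTransparency false
set_option backward.isDefEq.respectTransparency.types false
set_option autoImplicit false

universe u

open CategoryTheory CategoryTheory.Limits Opposite SimplexCategory

namespace Groth.Agent.Lib.Helper24.FinHyp

open Groth.Agent.Lib.Helper24.BasisHyp (Fc fle fle_refl fle_trans ftop fle_top push push_mono push_id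
  push_comp len_image_le len_image_comp_le len_image_id)
open Groth.Agent.Lib.Helper24.GenHyp Groth.Agent.Lib.Helper24.KanLeg

/-- A chosen finite covering by members of the class. -/
structure FCov {C : Type u} [SmallCategory C] (J : GrothendieckTopology C) (B : Set C) (Z : C) where
  ι : Type u
  fin : Finite ι
  V : ι → C
  f : ∀ i, V i ⟶ Z
  cov : Sieve.ofArrows V f ∈ J Z
  mem : ∀ i, V i ∈ B

variable {C : Type u} [SmallCategory C] [HasPullbacks C] (X : C) (B : Set C)
  [∀ (n : ℕ) (F : (SimplexCategory.Truncated n)ᵒᵖ ⥤ Limits.FormalCoproduct.{u} (Over X)),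
      (SimplexCategory.Truncated.inclusion n).op.HasRightKanExtension F]
  (J : GrothendieckTopology C) (cc : ∀ Z : C, FCov J B Z)

/-- The extension diagram attached to an index of the coskeleton and a member of the chosen cover. -/
noncomputable abbrev extD (n : ℕ) (j : (kanCone (KK X B) n (SimplexCategory.mk (n + 1))).pt.I)
    (i : (cc (fam X B n j).Y.left).ι) : Dg (X := X) B (SimplexCategory.mk (n + 1)) :=
  (fam X B n j).ext (Over.mk ((cc (fam X B n j).Y.left).f i ≫ (fam X B n j).Y.hom))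
    ((cc (fam X B n j).Y.left).mem i) (Over.homMk ((cc (fam X B n j).Y.left).f i) rfl)

/-- The diagrams of the finite sub-hypercovering. -/
inductive InS : ∀ b : SimplexCategory, Dg (X := X) B b → Prop where
  | cbase (i : (cc X).ι) : InS (SimplexCategory.mk (0)) (constDg X B (SimplexCategory.mk (0)) (Over.mk ((cc X).f i)) ((cc X).mem i))
  | pull {a b : SimplexCategory} (θ : a ⟶ b) (D : Dg (X := X) B b) : InS b D → InS a (D.pull θ)
  | ext (n : ℕ) (j : (kanCone (KK X B) n (SimplexCategory.mk (n + 1))).pt.I)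
      (hj : ∀ a ha φ, InS a ((fam X B n j).Fd a ha φ))
      (i : (cc (fam X B n j).Y.left).ι) : InS (SimplexCategory.mk (n + 1)) (extD X B J cc n j i)

/-- The generating diagrams. -/
inductive Gen : ∀ b : SimplexCategory, Dg (X := X) B b → Prop where
  | cbase (i : (cc X).ι) : Gen (SimplexCategory.mk (0)) (constDg X B (SimplexCategory.mk (0)) (Over.mk ((cc X).f i)) ((cc X).mem i))
  | ext (n : ℕ) (j : (kanCone (KK X B) n (SimplexCategory.mk (n + 1))).pt.I)
      (hj : ∀ a ha φ, InS X B J cc a ((fam X B n j).Fd a ha φ))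
      (i : (cc (fam X B n j).Y.left).ι) : Gen (SimplexCategory.mk (n + 1)) (extD X B J cc n j i)

variable {X B J cc}

theorem Gen.inS {b : SimplexCategory} {D : Dg (X := X) B b} (h : Gen X B J cc b D) :
    InS X B J cc b D := by
  cases h with
  | cbase i => exact InS.cbase i
  | ext n j hj i => exact InS.ext n j hj i

theorem InS.good {b : SimplexCategory} {D : Dg (X := X) B b} (h : InS X B J cc b D) :
    ∀ (a : SimplexCategory) (θ' : a ⟶ b),
      ∃ (b₀ : SimplexCategory) (D₀ : Dg (X := X) B b₀) (θ : a ⟶ b₀), b₀.len ≤ a.len ∧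
        Gen X B J cc b₀ D₀ ∧ D.pull θ' = D₀.pull θ := by
  induction h with
  | cbase i =>
    intro a θ'
    exact ⟨(SimplexCategory.mk (0)), _, θ', Nat.zero_le _, Gen.cbase i, rfl⟩
  | pull θ D hD ih =>
    intro a θ'
    obtain ⟨b₀, D₀, θ₀, hle, hg, e⟩ := ih a (θ' ≫ θ)
    refine ⟨b₀, D₀, θ₀, hle, hg, ?_⟩
    rw [← e]
    exact (Dg.pull_comp θ' θ D).symm
  | ext n j hj i ih =>
    intro a θ'
    by_cases hlen : a.len ≤ n
    · obtain ⟨b₀, D₀, θ₀, hle, hg, e⟩ := ih a hlen θ' a (𝟙 a)
      refine ⟨b₀, D₀, θ₀, hle, hg, ?_⟩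
      rw [← e, Dg.pull_id]
      exact CFam.ext_pull _ _ _ _ a hlen θ'
    · refine ⟨(SimplexCategory.mk (n + 1)), _, θ', ?_, Gen.ext n j hj i, rfl⟩
      change n + 1 ≤ a.len
      omega

theorem finite_index (n : ℕ)
    (hfin : ∀ a : SimplexCategory, a.len ≤ n → Finite {D : Dg (X := X) B a // InS X B J cc a D}) :
    Finite {j : (kanCone (KK X B) n (SimplexCategory.mk (n + 1))).pt.I //
      ∀ a ha φ, InS X B J cc a ((fam X B n j).Fd a ha φ)} := by
  have : Finite (SA n (SimplexCategory.mk (n + 1))) :=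
    @Finite.of_fintype _ (Groth.Agent.Lib.Helper20.finCategory_structuredArrow_truncated n
      (op (SimplexCategory.mk (n + 1)))).fintypeObj
  have : ∀ g : SA n (SimplexCategory.mk (n + 1)),
      Finite {D : Dg (X := X) B g.right.unop.obj // InS X B J cc g.right.unop.obj D} :=
    fun g => hfin _ g.right.unop.property
  let F : {j : (kanCone (KK X B) n (SimplexCategory.mk (n + 1))).pt.I //
      ∀ a ha φ, InS X B J cc a ((fam X B n j).Fd a ha φ)} →
      ∀ g : SA n (SimplexCategory.mk (n + 1)),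
        {D : Dg (X := X) B g.right.unop.obj // InS X B J cc g.right.unop.obj D} :=
    fun j g => ⟨(fam X B n j.1).Fd _ g.right.unop.property g.hom.unop,
      j.2 _ g.right.unop.property g.hom.unop⟩
  refine Finite.of_injective F (fun j₁ j₂ e => Subtype.ext ?_)
  refine fam_injective X B n j₁.1 j₂.1 (fun a ha φ => ?_)
  have := congrArg (fun k => (k (sa n a ha φ)).1) e
  exact this

theorem finite_gen (b : SimplexCategory)
    (hfin : ∀ a : SimplexCategory, a.len < b.len →
      Finite {D : Dg (X := X) B a // InS X B J cc a D}) :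
    Finite {D : Dg (X := X) B b // Gen X B J cc b D} := by
  obtain ⟨m⟩ := b
  cases m with
  | zero =>
    have := (cc X).fin
    let F : (cc X).ι → {D : Dg (X := X) B (SimplexCategory.mk 0) //
        Gen X B J cc (SimplexCategory.mk 0) D} := fun i => ⟨_, Gen.cbase i⟩
    refine Finite.of_surjective F ?_
    rintro ⟨D, hD⟩
    cases hD with
    | cbase i => exact ⟨i, rfl⟩
  | succ n =>
    have h1 := finite_index (X := X) (B := B) (J := J) (cc := cc) n
      (fun a ha => hfin a (Nat.lt_succ_of_le ha))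
    have h2 : ∀ j : {j : (kanCone (KK X B) n (SimplexCategory.mk (n + 1))).pt.I //
      ∀ a ha φ, InS X B J cc a ((fam X B n j).Fd a ha φ)},
        Finite (cc (fam X B n j.1).Y.left).ι := fun j => (cc _).fin
    let F : (Σ j : {j : (kanCone (KK X B) n (SimplexCategory.mk (n + 1))).pt.I //
      ∀ a ha φ, InS X B J cc a ((fam X B n j).Fd a ha φ)}, (cc (fam X B n j.1).Y.left).ι) →
        {D : Dg (X := X) B (SimplexCategory.mk (n + 1)) //
          Gen X B J cc (SimplexCategory.mk (n + 1)) D} :=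
      fun x => ⟨_, Gen.ext n x.1.1 x.1.2 x.2⟩
    refine Finite.of_surjective F ?_
    rintro ⟨D, hD⟩
    cases hD with
    | ext n j hj i => exact ⟨⟨⟨j, hj⟩, i⟩, rfl⟩

theorem finite_inS (b : SimplexCategory) :
    Finite {D : Dg (X := X) B b // InS X B J cc b D} := by
  induction' hm : b.len using Nat.strong_induction_on with m ih generalizing b
  subst hm
  have hgen : ∀ b' : SimplexCategory, b'.len ≤ b.len →
      Finite {D : Dg (X := X) B b' // Gen X B J cc b' D} := fun b' hb' =>
    finite_gen b' (fun a ha => ih a.len (lt_of_lt_of_le ha hb') a rfl)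
  have h2 : ∀ k : Fin (b.len + 1), Finite (Σ _ : b ⟶ SimplexCategory.mk k.1,
      {D : Dg (X := X) B (SimplexCategory.mk k.1) // Gen X B J cc (SimplexCategory.mk k.1) D}) := by
    intro k
    have := hgen (SimplexCategory.mk k.1) (Nat.lt_succ_iff.1 k.2)
    infer_instance
  let F : (Σ k : Fin (b.len + 1), Σ _ : b ⟶ SimplexCategory.mk k.1,
      {D : Dg (X := X) B (SimplexCategory.mk k.1) // Gen X B J cc (SimplexCategory.mk k.1) D}) →
      {D : Dg (X := X) B b // InS X B J cc b D} :=
    fun x => ⟨x.2.2.1.pull x.2.1, InS.pull x.2.1 _ x.2.2.2.inS⟩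
  refine Finite.of_surjective F ?_
  rintro ⟨D, hD⟩
  obtain ⟨b₀, D₀, θ, hle, hg, e⟩ := hD.good b (𝟙 b)
  rw [Dg.pull_id] at e
  refine ⟨⟨⟨b₀.len, Nat.lt_succ_of_le hle⟩, θ, ⟨D₀, hg⟩⟩, Subtype.ext ?_⟩
  exact e.symm

variable (X B J)

theorem exists_finite_hypercovering
    (h2 : ∀ Z : C, ∃ (ι : Type u) (_ : Finite ι) (U : ι → C) (f : ∀ i, U i ⟶ Z),
      Sieve.ofArrows U f ∈ J Z ∧ ∀ i, U i ∈ B) :
    ∃ K : SimplicialObject (FormalCoproduct.{u} (Over X)), Hyper.IsHypercovering J X K ∧
      ∀ n : ℕ, Finite (K.obj (op (SimplexCategory.mk n))).I ∧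
        ∀ i, ((K.obj (op (SimplexCategory.mk n))).obj i).left ∈ B := by
  have hne : ∀ Z : C, Nonempty (FCov J B Z) := fun Z => by
    obtain ⟨ι, hι, U, f, hc, hm⟩ := h2 Z
    exact ⟨⟨ι, hι, U, f, hc, hm⟩⟩
  let cc : ∀ Z : C, FCov J B Z := fun Z => (hne Z).some
  let P : PC X B := ⟨fun b => {D | InS X B J cc b D}, fun θ D h => InS.pull θ D h⟩
  refine ⟨KS P, isHypercovering_sub P J
    ⟨(cc X).ι, (cc X).V, (cc X).f, (cc X).mem, (cc X).cov, fun i => InS.cbase i⟩
    (fun n j hj => ⟨(cc _).ι, (cc _).V, (cc _).f, (cc _).mem, (cc _).cov,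
      fun i => InS.ext n j hj i⟩), fun n => ⟨?_, fun i => i.1.mem _⟩⟩
  exact finite_inS (X := X) (B := B) (J := J) (cc := cc) (SimplexCategory.mk n)

end Groth.Agent.Lib.Helper24.FinHyp
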