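import Groth.Prelude
import Groth.Agent.Lib.Helper24.IntegralDescent
import Groth.Agent.Lib.Helper14.FpqcSch

set_option autoImplicit false
universe u
open CategoryTheory CategoryTheory.Limits AlgebraicGeometry

/-! Descent of integral / finite / finite locally free morphisms in a faithfully flat pullback
square of affine schemes; `finLocFree` is Zariski local at the target. -/

namespace Groth.Agent.Lib.Helper24.FinLocFreeDesc
open AlgSp Groth.Agent.Lib.Helper24.IntegralDescent

set_option backward.isDefEq.respectTransparency.types false in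
lemma isIntegralHom_iff_appTop {X Z : Scheme.{u}} [IsAffine X] [IsAffine Z] (f : X ⟶ Z) :
    IsIntegralHom f ↔ f.appTop.hom.IsIntegral := by
  rw [HasAffineProperty.iff_of_isAffine (P := @IsIntegralHom)]
  exact and_iff_right inferInstance

set_option backward.isDefEq.respectTransparency.types false in
lemma isFinite_iff_appTop {X Z : Scheme.{u}} [IsAffine X] [IsAffine Z] (f : X ⟶ Z) :
    IsFinite f ↔ f.appTop.hom.Finite := by
  rw [HasAffineProperty.iff_of_isAffine (P := @IsFinite)]
  exact and_iff_right inferInstance

lemma finLocFree_eq : AlgSp.finLocFree.{u} = Min.min (α := MorphismProperty Scheme.{u}) @IsFinite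
    (Min.min (α := MorphismProperty Scheme.{u}) @Flat @LocallyOfFinitePresentation) := by
  ext X Y f
  exact Iff.rfl

set_option backward.isDefEq.respectTransparency.types false in
instance finLocFree_isZariskiLocalAtTarget : IsZariskiLocalAtTarget AlgSp.finLocFree.{u} := by
  rw [finLocFree_eq]
  infer_instance

/-- integral morphisms descend in a faithfully flat pullback square of affine schemes -/
lemma isIntegralHom_descends {A B C D : Scheme.{u}} [IsAffine A] [IsAffine B] [IsAffine C] [IsAffine D]
    {a : A ⟶ C} {r : A ⟶ B} {v : C ⟶ D} {c : B ⟶ D} (sq : IsPullback a r v c)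
    [Flat c] [Surjective c] (hr : IsIntegralHom r) : IsIntegralHom v := by
  rw [isIntegralHom_iff_appTop] at hr ⊢
  exact descends_affine isIntegral_codescendsAlong_faithfullyFlat sq hr

/-- finite morphisms descend in a faithfully flat pullback square of affine schemes -/
lemma isFinite_descends {A B C D : Scheme.{u}} [IsAffine A] [IsAffine B] [IsAffine C] [IsAffine D]
    {a : A ⟶ C} {r : A ⟶ B} {v : C ⟶ D} {c : B ⟶ D} (sq : IsPullback a r v c)
    [Flat c] [Surjective c] (hr : IsFinite r) : IsFinite v := by
  rw [isFinite_iff_appTop] at hr ⊢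
  exact descends_affine RingHom.Finite.codescendsAlong_faithfullyFlat sq hr

/-- finite locally free descends in a faithfully flat pullback square of affine schemes -/
lemma finLocFree_descends {A B C D : Scheme.{u}} [IsAffine A] [IsAffine B] [IsAffine C] [IsAffine D]
    {a : A ⟶ C} {r : A ⟶ B} {v : C ⟶ D} {c : B ⟶ D} (sq : IsPullback a r v c)
    [Flat c] [Surjective c] (hr : AlgSp.finLocFree r) : AlgSp.finLocFree v := by
  obtain ⟨h1, h2, h3⟩ := hr
  have hqc : QuasiCompact c := inferInstance
  refine ⟨isFinite_descends sq h1, ?_, ?_⟩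
  · exact MorphismProperty.of_isPullback_of_descendsAlong (P := @Flat)
      (Q := @Surjective ⊓ @Flat ⊓ @QuasiCompact) sq.flip ⟨⟨inferInstance, inferInstance⟩, hqc⟩ h2
  · exact MorphismProperty.of_isPullback_of_descendsAlong (P := @LocallyOfFinitePresentation)
      (Q := @Surjective ⊓ @Flat ⊓ @QuasiCompact) sq.flip ⟨⟨inferInstance, inferInstance⟩, hqc⟩ h3

end Groth.Agent.Lib.Helper24.FinLocFreeDesc
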