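import Mathlib
import Groth.Prelude.Def_EtBase
import Groth.Agent.Lib.Helper22.EtSubterminal

set_option autoImplicit false
set_option backward.isDefEq.respectTransparency false
set_option backward.isDefEq.respectTransparency.types false

/-!
# Finite locally constant sheaves are representable: site-theoretic preliminaries (helper24)
-/

namespace Groth.Agent.Lib.Helper24.Flc

open AlgebraicGeometry CategoryTheory Limits Opposite

universe u

variable (X : Scheme.{u})

instance etSub : Scheme.etaleTopology.{u}.Subcanonical :=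
  .of_le (Scheme.etaleTopology_le_proetaleTopology.trans Scheme.proetaleTopology_le_fpqcTopology)

instance flatForget : RepresentablyFlat (Scheme.Etale.forget X) := flat_of_preservesFiniteLimits _

instance contForget :
    (Scheme.Etale.forget X).IsContinuous X.smallEtaleTopology (Scheme.etaleTopology.over X) := by
  apply Functor.isContinuous_of_coverPreserving
  · exact compatiblePreservingOfFlat _ _
  · have : (MorphismProperty.Over.forget @Etale ⊤ X).LocallyCoverDense
        (Scheme.overGrothendieckTopology (@Etale) X) :=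
      Scheme.locallyCoverDense_of_le X le_rfl
    have : (MorphismProperty.Over.forget @Etale ⊤ X).Full := inferInstance
    have : (MorphismProperty.Over.forget @Etale ⊤ X).Faithful := inferInstance
    exact Functor.coverPreserving_restrictedTopology (MorphismProperty.Over.forget @Etale ⊤ X) _

instance smallSub : X.smallEtaleTopology.Subcanonical :=
  GrothendieckTopology.subcanonical_of_full_of_faithful (Scheme.Etale.forget X) _
    (Scheme.etaleTopology.over X)

variable {X}

/-- Morphisms of the small étale site from morphisms of schemes. -/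
abbrev hm {A B : X.Etale} (f : A.left ⟶ B.left) (w : f ≫ B.hom = A.hom) : A ⟶ B :=
  MorphismProperty.Over.homMk f w trivial

@[simp] lemma hm_left {A B : X.Etale} (f : A.left ⟶ B.left) (w : f ≫ B.hom = A.hom) :
    (hm f w).left = f := rfl

lemma comp_left {A B C : X.Etale} (f : A ⟶ B) (g : B ⟶ C) : (f ≫ g).left = f.left ≫ g.left := rfl

lemma id_left (A : X.Etale) : (𝟙 A : A ⟶ A).left = 𝟙 A.left := rfl

lemma hom_w {A B : X.Etale} (f : A ⟶ B) : f.left ≫ B.hom = A.hom :=
  MorphismProperty.Over.w f

lemma hom_ext' {A B : X.Etale} {f g : A ⟶ B} (h : f.left = g.left) : f = g :=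
  MorphismProperty.Over.Hom.ext h

/-- Pointwise covering criterion on the small étale site. -/
lemma mem_of_points {W : X.Etale} (S : Sieve W)
    (h : ∀ w : W.left, ∃ (Z : X.Etale) (f : Z ⟶ W) (z : Z.left), S f ∧ f.left.base z = w) :
    S ∈ X.smallEtaleTopology W :=
  (Groth.Agent.Lib.Helper22.EtSubterminal.mem_smallEtaleTopology_iff W S).2 h

lemma points_of_mem {W : X.Etale} (S : Sieve W) (hS : S ∈ X.smallEtaleTopology W) (w : W.left) :
    ∃ (Z : X.Etale) (f : Z ⟶ W) (z : Z.left), S f ∧ f.left.base z = w :=
  (Groth.Agent.Lib.Helper22.EtSubterminal.mem_smallEtaleTopology_iff W S).1 hS w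

/-- Every sieve on an empty object is covering. -/
lemma mem_of_isEmpty {W : X.Etale} (hW : IsEmpty W.left) (S : Sieve W) :
    S ∈ X.smallEtaleTopology W :=
  mem_of_points S fun w => (hW.false w).elim

/-- Pointwise covering criterion on the localized site. -/
lemma mem_over_of_points {U : X.Etale} {W : Over U} (S : Sieve W)
    (h : ∀ w : W.left.left, ∃ (Z : Over U) (f : Z ⟶ W) (z : Z.left.left),
      S f ∧ f.left.left.base z = w) :
    S ∈ (X.smallEtaleTopology.over U) W := by
  rw [GrothendieckTopology.mem_over_iff]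
  refine mem_of_points _ fun w => ?_
  obtain ⟨Z, f, z, hf, hz⟩ := h w
  refine ⟨Z.left, f.left, z, ?_, hz⟩
  rw [Sieve.overEquiv_iff]
  have h1 := S.downward_closed hf
    (Over.homMk (𝟙 Z.left) (by simp) : Over.mk (f.left ≫ W.hom) ⟶ Z)
  have e : (Over.homMk (𝟙 Z.left) (by simp) : Over.mk (f.left ≫ W.hom) ⟶ Z) ≫ f =
      (Over.homMk f.left : Over.mk (f.left ≫ W.hom) ⟶ W) := by
    ext
    simp
  rwa [e] at h1

lemma points_of_mem_over {U : X.Etale} {W : Over U} (S : Sieve W)
    (hS : S ∈ (X.smallEtaleTopology.over U) W) (w : W.left.left) :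
    ∃ (Z : Over U) (f : Z ⟶ W) (z : Z.left.left), S f ∧ f.left.left.base z = w := by
  rw [GrothendieckTopology.mem_over_iff] at hS
  obtain ⟨Z, f, z, hf, hz⟩ := points_of_mem _ hS w
  rw [Sieve.overEquiv_iff] at hf
  exact ⟨Over.mk (f ≫ W.hom), Over.homMk f, z, hf, hz⟩

end Groth.Agent.Lib.Helper24.Flc
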