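import Mathlib
import Groth.Agent.Lib.Helper24.FinSigma2
import Groth.Agent.Lib.Helper24.FlcA

set_option autoImplicit false
set_option backward.isDefEq.respectTransparency false
set_option backward.isDefEq.respectTransparency.types false

/-!
# Finite locally constant sheaves are representable: the constant case (helper24)
-/

namespace Groth.Agent.Lib.Helper24.Flc

open AlgebraicGeometry CategoryTheory Limits Opposite

universe u

variable {X : Scheme.{u}} (U : X.Etale) (n : ℕ)

/-- The index type of the trivial covering. -/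
abbrev Ix (n : ℕ) : Type u := ULift.{u} (Fin n)

/-- The underlying scheme of the trivial covering of degree `n`. -/
noncomputable abbrev trivS : Scheme.{u} := ∐ (fun _ : Ix.{u} n => U.left)

/-- Its projection. -/
noncomputable abbrev trivπS : trivS U n ⟶ U.left := Sigma.desc (fun _ : Ix.{u} n => 𝟙 U.left)

instance : IsFinite (trivπS U n) :=
  Groth.Agent.Lib.Helper24.FinSigma2.isFinite_sigmaDesc _ (fun _ => inferInstance)

instance : Etale (trivπS U n) :=
  IsZariskiLocalAtSource.sigmaDesc (P := @Etale) (fun _ => inferInstance)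

/-- The trivial covering of degree `n` in the small étale site. -/
noncomputable def triv : X.Etale := Scheme.Etale.mk (trivπS U n ≫ U.hom)

/-- Its projection in the small étale site. -/
noncomputable def trivπ : triv U n ⟶ U := hm (trivπS U n) rfl

/-- The inclusion of a sheet. -/
noncomputable def inc (k : Ix.{u} n) : U ⟶ triv U n :=
  hm (Sigma.ι (fun _ : Ix.{u} n => U.left) k) (by
    show Sigma.ι (fun _ : Ix.{u} n => U.left) k ≫ trivπS U n ≫ U.hom = U.hom
    rw [Sigma.ι_desc_assoc, Category.id_comp])

@[simp] lemma inc_left (k : Ix.{u} n) :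
    (inc U n k).left = Sigma.ι (fun _ : Ix.{u} n => U.left) k := rfl

@[simp] lemma trivπ_left : (trivπ U n).left = trivπS U n := rfl

@[simp] lemma inc_π (k : Ix.{u} n) : inc U n k ≫ trivπ U n = 𝟙 U :=
  hom_ext' (by simp [comp_left, id_left])

lemma isFinite_trivπ : IsFinite (trivπ U n).left := inferInstanceAs (IsFinite (trivπS U n))

lemma isEmpty_of_inc_eq {T : X.Etale} {k k' : Ix.{u} n} (hk : k ≠ k') (p q : T ⟶ U)
    (h : p ≫ inc U n k = q ≫ inc U n k') : IsEmpty T.left :=
  isEmpty_of_commSq_sigmaι_of_ne ⟨congrArg (fun m => m.left) h⟩ hk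

lemma exists_sheet (v : (triv U n).left) : ∃ (k : Ix.{u} n) (y : U.left), (inc U n k).left.base y = v := by
  obtain ⟨k, y, hy⟩ := (sigmaOpenCover (fun _ : Ix.{u} n => U.left)).exists_eq v
  exact ⟨k, y, hy⟩


section OverSite

/-- The localized topology. -/
abbrev K (U : X.Etale) : GrothendieckTopology (Over U) := X.smallEtaleTopology.over U

variable {U}

lemma over_ext {A B : Over U} {f g : A ⟶ B} (h : f.left.left = g.left.left) : f = g :=
  Over.OverMorphism.ext (hom_ext' h)

lemma subsingleton_of_isEmpty {G : (Over U)ᵒᵖ ⥤ Type (u + 1)} (hG : Presieve.IsSheaf (K U) G)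
    (Z : Over U) (hZ : IsEmpty Z.left.left) : Subsingleton (G.obj (op Z)) := by
  constructor
  intro x y
  have h : (⊥ : Sieve Z) ∈ K U Z := mem_over_of_points _ (fun w => (hZ.false w).elim)
  exact (hG _ h).isSeparatedFor.ext (fun W f hf => False.elim hf)

variable (U)

/-- The value of the constant presheaf. -/
abbrev Mx (n : ℕ) : Type (u + 1) := ULift.{u + 1} (Fin n)

/-- The constant presheaf on the localized site. -/
abbrev cst : (Over U)ᵒᵖ ⥤ Type (u + 1) := (Functor.const (Over U)ᵒᵖ).obj (Mx.{u} n)

/-- The index of a value. -/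
abbrev ix {n : ℕ} (m : Mx.{u} n) : Ix.{u} n := ULift.up m.down

/-- The terminal object of the localized site. -/
abbrev topO : Over U := Over.mk (𝟙 U)

/-- The trivial covering as an object of the localized site. -/
noncomputable abbrev trivO : Over U := Over.mk (trivπ U n)

/-- The inclusion of a sheet in the localized site. -/
noncomputable def incO (k : Ix.{u} n) : topO U ⟶ trivO U n := Over.homMk (inc U n k) (inc_π U n k)

/-- The structure morphism to the terminal object. -/
def toTop (W : Over U) : W ⟶ topO U := Over.homMk W.hom (Category.comp_id _)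

/-- The constant morphism to a sheet. -/
noncomputable def toSheet (W : Over U) (k : Ix.{u} n) : W ⟶ trivO U n :=
  Over.homMk (W.hom ≫ inc U n k) (by
    show (W.hom ≫ inc U n k) ≫ trivπ U n = W.hom
    rw [Category.assoc, inc_π, Category.comp_id])

lemma toTop_incO (W : Over U) (k : Ix.{u} n) : toTop U W ≫ incO U n k = toSheet U n W k :=
  over_ext rfl

lemma comp_toSheet {W W' : Over U} (f : W' ⟶ W) (k : Ix.{u} n) :
    f ≫ toSheet U n W k = toSheet U n W' k := by
  apply over_ext
  show f.left.left ≫ (W.hom ≫ inc U n k).left = (W'.hom ≫ inc U n k).left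
  rw [← Over.w f]
  rfl

variable {U n}

lemma cst_nat {G : (Over U)ᵒᵖ ⥤ Type (u + 1)} (c : cst U n ⟶ G) {W W' : Over U} (f : W' ⟶ W)
    (m : Mx.{u} n) : G.map f.op (c.app (op W) m) = c.app (op W') m :=
  (NatTrans.naturality_apply c f.op m).symm

lemma sheets_cover : Sieve.ofArrows (fun _ : Ix.{u} n => topO U) (incO U n) ∈ K U (trivO U n) := by
  refine mem_over_of_points _ fun v => ?_
  obtain ⟨k, y, hy⟩ := exists_sheet U n v
  exact ⟨topO U, incO U n k, y, Sieve.ofArrows_mk _ _ k, hy⟩

/-- The universal section of a locally constant sheaf over the trivial covering. -/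
lemma exists_univ_section {G : (Over U)ᵒᵖ ⥤ Type (u + 1)} (hG : Presieve.IsSheaf (K U) G)
    (c : cst U n ⟶ G) :
    ∃ s : G.obj (op (trivO U n)), ∀ k : Ix.{u} n,
      G.map (incO U n k).op s = c.app (op (topO U)) (ULift.up k.down) := by
  have h1 : Presieve.IsSheafFor G
      (Presieve.ofArrows (fun _ : Ix.{u} n => topO U) (incO U n)) :=
    (Presieve.isSheafFor_iff_generate _).2 (hG _ sheets_cover)
  obtain ⟨s, hs, -⟩ := (Presieve.isSheafFor_arrows_iff _ _).1 h1
    (fun k => c.app (op (topO U)) (ULift.up k.down)) (by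
      intro i j Z gi gj h
      show G.map gi.op (c.app (op (topO U)) _) = G.map gj.op (c.app (op (topO U)) _)
      rw [cst_nat, cst_nat]
      by_cases hij : i = j
      · rw [hij]
      · have hZ : IsEmpty Z.left.left :=
          isEmpty_of_inc_eq U n hij gi.left gj.left (congrArg (fun m => m.left) h)
        exact (subsingleton_of_isEmpty hG Z hZ).elim _ _)
  exact ⟨s, hs⟩

variable (U n)

/-- The lifted representable presheaf of the trivial covering. -/
noncomputable abbrev hV : (Over U)ᵒᵖ ⥤ Type (u + 1) :=
  yoneda.obj (trivO U n) ⋙ uliftFunctor.{u + 1, u}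

lemma hV_isSheaf : Presheaf.IsSheaf (K U) (hV U n) :=
  (isSheaf_iff_isSheaf_of_type _ _).2
    (GrothendieckTopology.Subcanonical.isSheaf_of_isRepresentable _)

/-- Values to constant morphisms. -/
noncomputable def dmap : cst U n ⟶ hV U n where
  app W := ↾fun m => ULift.up (toSheet U n W.unop (ix m))
  naturality W W' f := by
    ext m
    show ULift.up (toSheet U n W'.unop (ix m)) = ULift.up (f.unop ≫ toSheet U n W.unop (ix m))
    rw [comp_toSheet]

variable {U n}

/-- Evaluation at a section. -/
noncomputable def phiNat {G : (Over U)ᵒᵖ ⥤ Type (u + 1)} (s : G.obj (op (trivO U n))) :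
    hV U n ⟶ G where
  app W := ↾fun g => G.map g.down.op s
  naturality W W' f := by
    ext g
    show G.map (f.unop ≫ g.down).op s = G.map f (G.map g.down.op s)
    rw [op_comp, Functor.map_comp]
    rfl

lemma dmap_phiNat {G : (Over U)ᵒᵖ ⥤ Type (u + 1)} (c : cst U n ⟶ G)
    (s : G.obj (op (trivO U n)))
    (hs : ∀ k : Ix.{u} n, G.map (incO U n k).op s = c.app (op (topO U)) (ULift.up k.down)) :
    dmap U n ≫ phiNat s = c := by
  ext W m
  show G.map (toSheet U n W.unop (ix m)).op s = c.app W m
  rw [← toTop_incO, op_comp, Functor.map_comp]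
  show G.map (toTop U W.unop).op (G.map (incO U n (ix m)).op s) = _
  rw [hs, cst_nat]
  rfl

instance dmap_locInj : Presheaf.IsLocallyInjective (K U) (dmap U n) := by
  constructor
  intro W x y h
  by_cases hxy : x = y
  · rw [hxy, Presheaf.equalizerSieve_self_eq_top]
    exact (K U).top_mem _
  · have h1 : toSheet U n W.unop (ix x) = toSheet U n W.unop (ix y) := congrArg ULift.down h
    have hne : ix x ≠ ix y := fun h2 => hxy (by
      have := congrArg ULift.down h2
      exact ULift.ext _ _ this)
    have hW : IsEmpty W.unop.left.left :=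
      isEmpty_of_inc_eq U n hne W.unop.hom W.unop.hom (congrArg (fun m => m.left) h1)
    exact mem_over_of_points _ (fun w => (hW.false w).elim)


instance dmap_locSurj : Presheaf.IsLocallySurjective (K U) (dmap U n) := by
  constructor
  intro W v
  refine mem_over_of_points _ fun w => ?_
  let g : W ⟶ trivO U n := v.down
  let gL : W.left.left ⟶ trivS U n := g.left.left
  obtain ⟨k, y, hy⟩ := exists_sheet U n (gL.base w)
  let ιk : U.left ⟶ trivS U n := Sigma.ι (fun _ : Ix.{u} n => U.left) k
  have hgw : gL.base w = ιk.base y := hy.symm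
  obtain ⟨z, hz, -⟩ := Scheme.Pullback.exists_preimage_pullback (f := gL) (g := ιk) w y hgw
  let Zet : X.Etale := Scheme.Etale.mk (pullback.fst gL ιk ≫ W.left.hom)
  let fet : Zet ⟶ W.left := hm (pullback.fst gL ιk) rfl
  let Zov : Over U := Over.mk (fet ≫ W.hom)
  let f : Zov ⟶ W := Over.homMk fet rfl
  refine ⟨Zov, f, z, ?_, hz⟩
  refine ⟨(ULift.up k.down : Mx.{u} n), ?_⟩
  show ULift.up (toSheet U n Zov (ix (ULift.up k.down : Mx.{u} n))) = ULift.up (f ≫ g)
  congr 1
  apply over_ext
  show (pullback.fst gL ιk ≫ W.hom.left) ≫ ιk = pullback.fst gL ιk ≫ gL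
  have h1 : gL ≫ trivπS U n = W.hom.left := congrArg (fun m => m.left) (Over.w g)
  have h2 : ιk ≫ trivπS U n = 𝟙 _ := Sigma.ι_desc _ _
  have h3 : pullback.snd gL ιk = pullback.fst gL ιk ≫ W.hom.left := by
    rw [← h1, ← Category.assoc, pullback.condition, Category.assoc, h2, Category.comp_id]
  rw [← h3, pullback.condition]

/-- A sheaf on the localized site which is locally constant with finite value is represented
by the trivial covering. -/
theorem bijective_of_locConst {G : (Over U)ᵒᵖ ⥤ Type (u + 1)} (hG : Presieve.IsSheaf (K U) G)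
    (c : cst U n ⟶ G) [Presheaf.IsLocallyInjective (K U) c]
    [Presheaf.IsLocallySurjective (K U) c] :
    ∃ s : G.obj (op (trivO U n)), ∀ W : Over U,
      Function.Bijective (fun v : W ⟶ trivO U n => G.map v.op s) := by
  obtain ⟨s, hs⟩ := exists_univ_section hG c
  refine ⟨s, ?_⟩
  have hW : (K U).W (phiNat s) := by
    refine MorphismProperty.of_precomp (K U).W (W' := (K U).W) (dmap U n) (phiNat s)
      ((K U).W_of_isLocallyBijective _) ?_
    rw [dmap_phiNat c s hs]
    exact (K U).W_of_isLocallyBijective _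
  let GS : Sheaf (K U) (Type (u + 1)) := ⟨G, (isSheaf_iff_isSheaf_of_type _ _).2 hG⟩
  let HS : Sheaf (K U) (Type (u + 1)) := ⟨hV U n, hV_isSheaf U n⟩
  let φ : HS ⟶ GS := ⟨phiNat s⟩
  have hiso : IsIso φ := ((K U).W_sheafToPresheaf_map_iff_isIso φ).1 hW
  have hiso' : IsIso (phiNat s) := (inferInstance : IsIso ((sheafToPresheaf _ _).map φ))
  intro W
  have hb : IsIso ((phiNat s).app (op W)) := inferInstance
  have hb' := (isIso_iff_bijective _).1 hb
  constructor
  · intro v v' h
    have := hb'.1 (a₁ := ULift.up v) (a₂ := ULift.up v') h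
    exact congrArg ULift.down this
  · intro t
    obtain ⟨g, hg⟩ := hb'.2 t
    exact ⟨g.down, hg⟩

end OverSite

end Groth.Agent.Lib.Helper24.Flc
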