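import Mathlib
import Groth.Prelude.Def_DescFam
import Groth.Agent.Lib.Helper24.FlcA

set_option autoImplicit false
set_option backward.isDefEq.respectTransparency false
set_option backward.isDefEq.respectTransparency.types false

/-!
# Finite locally constant sheaves are representable: the descent datum (helper24)
-/

namespace Groth.Agent.Lib.Helper24.Flc

open AlgebraicGeometry CategoryTheory Limits Opposite

universe u

variable {X : Scheme.{u}} (F : X.Etaleᵒᵖ ⥤ Type (u + 1))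

lemma map_comp' {A B C : X.Etale} (f : A ⟶ B) (g : B ⟶ C) (x : F.obj (op C)) :
    F.map (f ≫ g).op x = F.map f.op (F.map g.op x) := by
  rw [op_comp, Functor.map_comp]
  rfl

lemma map_congr' {A B : X.Etale} {f g : A ⟶ B} (h : f = g) (x : F.obj (op B)) :
    F.map f.op x = F.map g.op x := by rw [h]

/-- Local representability data for a presheaf on the small étale site. -/
structure LocRep {ι : Type u} (U : ι → X.Etale) where
  /-- the local representing objects -/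
  V : ι → X.Etale
  /-- their structure morphisms -/
  π : ∀ i, V i ⟶ U i
  /-- the universal sections -/
  s : ∀ i, F.obj (op (V i))
  bij : ∀ i (W : X.Etale) (a : W ⟶ U i),
    Function.Bijective (fun v : {v : W ⟶ V i // v ≫ π i = a} => F.map v.1.op (s i))

variable {F}

namespace LocRep

variable {ι : Type u} {U : ι → X.Etale} (L : LocRep F U)

lemma ext_hom {i : ι} {T : X.Etale} (g g' : T ⟶ L.V i) (h1 : g ≫ L.π i = g' ≫ L.π i)
    (h2 : F.map g.op (L.s i) = F.map g'.op (L.s i)) : g = g' := by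
  have := (L.bij i T (g' ≫ L.π i)).1 (a₁ := ⟨g, h1⟩) (a₂ := ⟨g', rfl⟩) h2
  exact congrArg Subtype.val this

lemma exists_hom {i : ι} {T : X.Etale} (a : T ⟶ U i) (t : F.obj (op T)) :
    ∃ v : T ⟶ L.V i, v ≫ L.π i = a ∧ F.map v.op (L.s i) = t := by
  obtain ⟨v, hv⟩ := (L.bij i T a).2 t
  exact ⟨v.1, v.2, hv⟩

end LocRep

/-- `A ×_X B` in the small étale site, with underlying scheme the chosen pullback. -/
noncomputable def prod (A B : X.Etale) : X.Etale :=
  Scheme.Etale.mk (pullback.fst A.hom B.hom ≫ A.hom)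

@[simp] lemma prod_left (A B : X.Etale) : (prod A B).left = pullback A.hom B.hom := rfl
@[simp] lemma prod_hom (A B : X.Etale) : (prod A B).hom = pullback.fst A.hom B.hom ≫ A.hom := rfl

noncomputable def prodFst (A B : X.Etale) : prod A B ⟶ A := hm (pullback.fst A.hom B.hom) rfl

noncomputable def prodSnd (A B : X.Etale) : prod A B ⟶ B :=
  hm (pullback.snd A.hom B.hom) pullback.condition.symm

@[simp] lemma prodFst_left (A B : X.Etale) : (prodFst A B).left = pullback.fst A.hom B.hom := rfl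
@[simp] lemma prodSnd_left (A B : X.Etale) : (prodSnd A B).left = pullback.snd A.hom B.hom := rfl

noncomputable def prodLift {T A B : X.Etale} (a : T ⟶ A) (b : T ⟶ B) : T ⟶ prod A B :=
  hm (pullback.lift a.left b.left (by rw [hom_w, hom_w])) (by
    rw [prod_hom, pullback.lift_fst_assoc, hom_w])

@[simp] lemma prodLift_left {T A B : X.Etale} (a : T ⟶ A) (b : T ⟶ B) :
    (prodLift a b).left = pullback.lift a.left b.left (by rw [hom_w, hom_w]) := rfl

@[simp] lemma prodLift_fst {T A B : X.Etale} (a : T ⟶ A) (b : T ⟶ B) :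
    prodLift a b ≫ prodFst A B = a := hom_ext' (by simp [comp_left])

@[simp] lemma prodLift_snd {T A B : X.Etale} (a : T ⟶ A) (b : T ⟶ B) :
    prodLift a b ≫ prodSnd A B = b := hom_ext' (by simp [comp_left])

namespace LocRep

variable {ι : Type u} {U : ι → X.Etale} (L : LocRep F U)

/-- The transition morphisms. -/
noncomputable def θ (i j : ι) : prod (L.V i) (U j) ⟶ L.V j :=
  (L.exists_hom (prodSnd (L.V i) (U j)) (F.map (prodFst (L.V i) (U j)).op (L.s i))).choose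

lemma θ_π (i j : ι) : L.θ i j ≫ L.π j = prodSnd (L.V i) (U j) :=
  (L.exists_hom (prodSnd (L.V i) (U j)) (F.map (prodFst (L.V i) (U j)).op (L.s i))).choose_spec.1

lemma θ_s (i j : ι) : F.map (L.θ i j).op (L.s j) = F.map (prodFst (L.V i) (U j)).op (L.s i) :=
  (L.exists_hom (prodSnd (L.V i) (U j)) (F.map (prodFst (L.V i) (U j)).op (L.s i))).choose_spec.2

lemma θ_π_left (i j : ι) : (L.θ i j).left ≫ (L.π j).left = pullback.snd (L.V i).hom (U j).hom := by
  have := congrArg (fun m => m.left) (L.θ_π i j)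
  simpa [comp_left] using this

/-- The universal self-transition is the identity. -/
lemma θ_self (i : ι) : prodLift (𝟙 (L.V i)) (L.π i) ≫ L.θ i i = 𝟙 (L.V i) := by
  apply L.ext_hom
  · rw [Category.assoc, θ_π, prodLift_snd, Category.id_comp]
  · rw [map_comp', θ_s, ← map_comp', prodLift_fst]

/-- The universal cocycle identity. -/
lemma θ_comp (i j k : ι) :
    prodLift (prodFst (prod (L.V i) (U j)) (U k) ≫ L.θ i j) (prodSnd (prod (L.V i) (U j)) (U k)) ≫
        L.θ j k =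
      prodLift (prodFst (prod (L.V i) (U j)) (U k) ≫ prodFst (L.V i) (U j))
        (prodSnd (prod (L.V i) (U j)) (U k)) ≫ L.θ i k := by
  apply L.ext_hom
  · rw [Category.assoc, θ_π, prodLift_snd, Category.assoc, θ_π, prodLift_snd]
  · rw [map_comp', θ_s, ← map_comp', prodLift_fst, map_comp', θ_s, ← map_comp',
      map_comp' F (prodLift _ _) (L.θ i k), θ_s, ← map_comp', prodLift_fst]

/-- The family of structure morphisms to `X`. -/
abbrev fam (U : ι → X.Etale) : ∀ i, (U i).left ⟶ X := fun i => (U i).hom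

/-- The underlying schemes over the `U i`. -/
abbrev ob (i : ι) : Over (U i).left := Over.mk (L.π i).left

lemma lift_cond {T : Scheme.{u}} {i j : ι} (x₀ : T ⟶ (U i).left) (x₁ : T ⟶ (U j).left)
    (h : x₀ ≫ (U i).hom = x₁ ≫ (U j).hom) (v : Desc.Lifts (L.ob i) x₀) :
    v.1 ≫ (L.V i).hom = x₁ ≫ (U j).hom := by
  have h1 : v.1 ≫ (L.π i).left = x₀ := v.2
  rw [← hom_w (L.π i), ← Category.assoc, h1, h]

/-- The gluing maps on points. -/
noncomputable def ψ {T : Scheme.{u}} {i j : ι} (x₀ : T ⟶ (U i).left) (x₁ : T ⟶ (U j).left)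
    (h : x₀ ≫ (U i).hom = x₁ ≫ (U j).hom) (v : Desc.Lifts (L.ob i) x₀) : Desc.Lifts (L.ob j) x₁ :=
  ⟨pullback.lift v.1 x₁ (L.lift_cond x₀ x₁ h v) ≫ (L.θ i j).left, by
    show (pullback.lift v.1 x₁ _ ≫ (L.θ i j).left) ≫ (L.π j).left = x₁
    rw [Category.assoc, θ_π_left, pullback.lift_snd]⟩

lemma ψ_val {T : Scheme.{u}} {i j : ι} (x₀ : T ⟶ (U i).left) (x₁ : T ⟶ (U j).left)
    (h : x₀ ≫ (U i).hom = x₁ ≫ (U j).hom) (v : Desc.Lifts (L.ob i) x₀) :
    (L.ψ x₀ x₁ h v).1 = pullback.lift v.1 x₁ (L.lift_cond x₀ x₁ h v) ≫ (L.θ i j).left := rfl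

lemma ψ_self {T : Scheme.{u}} {i : ι} (x : T ⟶ (U i).left) (v : Desc.Lifts (L.ob i) x) :
    L.ψ x x rfl v = v := by
  apply Subtype.ext
  rw [ψ_val]
  have h1 : v.1 ≫ (L.π i).left = x := v.2
  have e : pullback.lift v.1 x (L.lift_cond x x rfl v) =
      v.1 ≫ (prodLift (𝟙 (L.V i)) (L.π i)).left := by
    apply pullback.hom_ext
    · simp [id_left]
    · simp [h1]
  rw [e, Category.assoc, ← comp_left, θ_self, id_left]
  exact Category.comp_id _

lemma ψ_comp {T : Scheme.{u}} {i j k : ι} (x₀ : T ⟶ (U i).left) (x₁ : T ⟶ (U j).left)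
    (x₂ : T ⟶ (U k).left) (h₀₁ : x₀ ≫ (U i).hom = x₁ ≫ (U j).hom)
    (h₁₂ : x₁ ≫ (U j).hom = x₂ ≫ (U k).hom) (v : Desc.Lifts (L.ob i) x₀) :
    L.ψ x₁ x₂ h₁₂ (L.ψ x₀ x₁ h₀₁ v) = L.ψ x₀ x₂ (h₀₁.trans h₁₂) v := by
  apply Subtype.ext
  show pullback.lift (L.ψ x₀ x₁ h₀₁ v).1 x₂ (L.lift_cond x₁ x₂ h₁₂ (L.ψ x₀ x₁ h₀₁ v)) ≫
      (L.θ j k).left =
    pullback.lift v.1 x₂ (L.lift_cond x₀ x₂ (h₀₁.trans h₁₂) v) ≫ (L.θ i k).left
  have hc : pullback.lift v.1 x₁ (L.lift_cond x₀ x₁ h₀₁ v) ≫ (prod (L.V i) (U j)).hom =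
      x₂ ≫ (U k).hom := by
    rw [prod_hom, pullback.lift_fst_assoc, L.lift_cond x₀ x₁ h₀₁ v, h₁₂]
  let a : T ⟶ (prod (prod (L.V i) (U j)) (U k)).left :=
    pullback.lift (pullback.lift v.1 x₁ (L.lift_cond x₀ x₁ h₀₁ v)) x₂ hc
  have e1 : pullback.lift (L.ψ x₀ x₁ h₀₁ v).1 x₂
      (L.lift_cond x₁ x₂ h₁₂ (L.ψ x₀ x₁ h₀₁ v)) =
      a ≫ (prodLift (prodFst (prod (L.V i) (U j)) (U k) ≫ L.θ i j)
        (prodSnd (prod (L.V i) (U j)) (U k))).left := by
    apply pullback.hom_ext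
    · simp [a, comp_left, ψ_val]
    · simp [a]
  have e2 : pullback.lift v.1 x₂ (L.lift_cond x₀ x₂ (h₀₁.trans h₁₂) v) =
      a ≫ (prodLift (prodFst (prod (L.V i) (U j)) (U k) ≫ prodFst (L.V i) (U j))
        (prodSnd (prod (L.V i) (U j)) (U k))).left := by
    apply pullback.hom_ext
    · simp [a, comp_left]
    · simp [a]
  rw [e1, e2, Category.assoc, Category.assoc, ← comp_left, ← comp_left, θ_comp]

/-- The descent datum attached to local representability data. -/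
noncomputable def dd : Desc.SchDDFam (fam U) where
  obj i := L.ob i
  φ T i j x₀ x₁ h :=
    { toFun := L.ψ x₀ x₁ h
      invFun := L.ψ x₁ x₀ h.symm
      left_inv := fun v => by rw [ψ_comp, ψ_self]
      right_inv := fun v => by rw [ψ_comp, ψ_self] }
  φ_natural T T' g i j x₀ x₁ h y₀ y₁ hy₀ hy₁ h' v v' hv' := by
    subst hy₀ hy₁
    show (L.ψ _ _ h' v').1 = g ≫ (L.ψ _ _ h v).1
    rw [ψ_val, ψ_val, ← Category.assoc]
    congr 1
    apply pullback.hom_ext
    · simp [hv']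
    · simp
  φ_self T i x v := L.ψ_self x v
  φ_comp T i j k x₀ x₁ x₂ h₀₁ h₁₂ v := L.ψ_comp x₀ x₁ x₂ h₀₁ h₁₂ v

@[simp] lemma dd_obj (i : ι) : L.dd.obj i = L.ob i := rfl

lemma dd_φ_val {T : Scheme.{u}} {i j : ι} (x₀ : T ⟶ (U i).left) (x₁ : T ⟶ (U j).left)
    (h : x₀ ≫ (U i).hom = x₁ ≫ (U j).hom) (v : Desc.Lifts (L.ob i) x₀) :
    (L.dd.φ x₀ x₁ h v).1 = pullback.lift v.1 x₁ (L.lift_cond x₀ x₁ h v) ≫ (L.θ i j).left := rfl

end LocRep

end Groth.Agent.Lib.Helper24.Flc
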