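import Mathlib
import Groth.Agent.S9858
import Groth.Agent.S1133
import Groth.Agent.S0084
import Groth.Agent.Lib.Helper24.DescSigma
import Groth.Agent.Lib.Helper24.FppfLocal
import Groth.Agent.Lib.Helper24.FlcC

set_option autoImplicit false
set_option backward.isDefEq.respectTransparency false
set_option backward.isDefEq.respectTransparency.types false

/-!
# Finite locally constant sheaves are representable: effectivity of the descent datum (helper24)
-/

namespace Groth.Agent.Lib.Helper24.Flc

open AlgebraicGeometry CategoryTheory Limits Opposite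

universe u

variable {X : Scheme.{u}} {F : X.Etaleᵒᵖ ⥤ Type (u + 1)}

namespace LocRep

variable {ι : Type u} {U : ι → X.Etale} (L : LocRep F U)

lemma fam_mem_fpqc (hU : EtCoh.Covers U) :
    Presieve.ofArrows (fun i => (U i).left) (fam U) ∈ Scheme.fpqcPrecoverage X := by
  apply Scheme.proetalePrecoverage_le_fpqcPrecoverage
  apply Scheme.etalePrecoverage_le_proetalePrecoverage
  rw [Scheme.etalePrecoverage, Scheme.ofArrows_mem_precoverage_iff]
  refine ⟨fun x => ?_, fun i => inferInstanceAs (Etale (U i).hom)⟩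
  obtain ⟨i, y, hy⟩ := hU x
  exact ⟨i, y, hy⟩

theorem isEffective (hU : EtCoh.Covers U) (haff : ∀ i, IsAffineHom (L.π i).left) :
    L.dd.IsEffective := by
  refine Groth.Agent.S9858.result @IsAffineHom
    (fun m Y V q h =>
      Groth.Agent.Lib.Helper24.DescSigma.sigmaMap_of_isZariskiLocalAtTarget _ Y V q h)
    (fun X S p hX hS hfl hsu D hD => ?_) (fam U) (fam_mem_fpqc hU) L.dd haff
  have : IsAffine X := hX
  have : IsAffine S := hS
  have : Flat p := hfl
  have : Surjective p := hsu
  have : IsAffineHom D.obj.hom := hD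
  have : QuasiCompact p := inferInstance
  exact Groth.Agent.S1133.result p D

variable {L}

lemma iso_left_hom_inv {R₀ : Over X} (e : (Desc.toDDFam (fam U)).obj R₀ ≅ L.dd) (i : ι) :
    (e.hom.hom i).left ≫ (e.inv.hom i).left = 𝟙 _ := by
  exact congrArg (fun m => (Desc.SchDDFam.Hom.hom m i).left) e.hom_inv_id

lemma iso_left_inv_hom {R₀ : Over X} (e : (Desc.toDDFam (fam U)).obj R₀ ≅ L.dd) (i : ι) :
    (e.inv.hom i).left ≫ (e.hom.hom i).left = 𝟙 _ := by
  exact congrArg (fun m => (Desc.SchDDFam.Hom.hom m i).left) e.inv_hom_id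

lemma iso_hom_w {R₀ : Over X} (e : (Desc.toDDFam (fam U)).obj R₀ ≅ L.dd) (i : ι) :
    (e.hom.hom i).left ≫ (L.π i).left = pullback.fst (U i).hom R₀.hom :=
  Over.w (e.hom.hom i)

lemma iso_inv_w {R₀ : Over X} (e : (Desc.toDDFam (fam U)).obj R₀ ≅ L.dd) (i : ι) :
    (e.inv.hom i).left ≫ pullback.fst (U i).hom R₀.hom = (L.π i).left :=
  Over.w (e.inv.hom i)

/-- Properties descend to the glued object. -/
lemma prop_of_effective (P : MorphismProperty Scheme.{u}) [IsZariskiLocalAtTarget P]
    [P.DescendsAlong (@Surjective ⊓ @Flat ⊓ @LocallyOfFinitePresentation)]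
    (hU : EtCoh.Covers U) (R₀ : Over X) (e : (Desc.toDDFam (fam U)).obj R₀ ≅ L.dd)
    (hP : ∀ i, P (L.π i).left) : P R₀.hom := by
  refine Groth.Agent.Lib.Helper24.FppfLocal.of_fppf_local P R₀.hom fun x => ?_
  obtain ⟨i, y, hy⟩ := hU x
  have hEt : Etale (U i).hom := inferInstance
  refine ⟨(U i).left, pullback (U i).hom R₀.hom, (U i).hom, pullback.snd _ _, pullback.fst _ _,
    (IsPullback.of_hasPullback _ _).flip, inferInstance, inferInstance, ⟨y, hy⟩, ?_⟩
  rw [← iso_hom_w e i]
  have : IsIso (e.hom.hom i).left := ⟨_, iso_left_hom_inv e i, iso_left_inv_hom e i⟩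
  exact (P.cancel_left_of_respectsIso _ _).2 (hP i)

lemma etale_of_effective (hU : EtCoh.Covers U) (R₀ : Over X)
    (e : (Desc.toDDFam (fam U)).obj R₀ ≅ L.dd) : Etale R₀.hom :=
  prop_of_effective @Etale hU R₀ e (fun i => inferInstance)

lemma isFinite_of_effective (hU : EtCoh.Covers U) (R₀ : Over X)
    (e : (Desc.toDDFam (fam U)).obj R₀ ≅ L.dd) (hfin : ∀ i, IsFinite (L.π i).left) :
    IsFinite R₀.hom := by
  have hdesc : MorphismProperty.DescendsAlong @IsFinite.{u}
      (@Surjective ⊓ @Flat ⊓ @QuasiCompact) := Groth.Agent.S0084.result.{u}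
  exact prop_of_effective @IsFinite hU R₀ e hfin

end LocRep

end Groth.Agent.Lib.Helper24.Flc
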