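import Mathlib
import Groth.Agent.Lib.Helper24.FlcD

set_option autoImplicit false
set_option backward.isDefEq.respectTransparency false
set_option backward.isDefEq.respectTransparency.types false

/-!
# Finite locally constant sheaves are representable: the glued object represents (helper24)
-/

namespace Groth.Agent.Lib.Helper24.Flc

open AlgebraicGeometry CategoryTheory Limits Opposite

universe u

variable {X : Scheme.{u}} {F : X.Etaleᵒᵖ ⥤ Type (u + 1)}

namespace LocRep

variable {ι : Type u} {U : ι → X.Etale} {L : LocRep F U}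

section Glued

variable (R₀ : Over X) [Etale R₀.hom] (e : (Desc.toDDFam (fam U)).obj R₀ ≅ L.dd)

/-- The glued object in the small étale site. -/
noncomputable abbrev gl : X.Etale := Scheme.Etale.mk R₀.hom

/-- `U i ×_X R`. -/
noncomputable abbrev Q (U : ι → X.Etale) (R₀ : Over X) [Etale R₀.hom] (i : ι) : X.Etale :=
  prod (U i) (gl R₀)

variable {R₀}

/-- The comparison `U i ×_X R ⟶ V i`. -/
noncomputable def ε (i : ι) : Q U R₀ i ⟶ L.V i :=
  hm (e.hom.hom i).left (by
    rw [← hom_w (L.π i), ← Category.assoc, iso_hom_w e i]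
    rfl)

/-- The inverse comparison. -/
noncomputable def εinv (i : ι) : L.V i ⟶ Q U R₀ i :=
  hm (e.inv.hom i).left (by
    show (e.inv.hom i).left ≫ pullback.fst (U i).hom R₀.hom ≫ (U i).hom = (L.V i).hom
    rw [← Category.assoc, iso_inv_w e i]
    exact hom_w (L.π i))

lemma ε_εinv (i : ι) : ε e i ≫ εinv e i = 𝟙 _ := hom_ext' (iso_left_hom_inv e i)

lemma εinv_ε (i : ι) : εinv e i ≫ ε e i = 𝟙 _ := hom_ext' (iso_left_inv_hom e i)

lemma ε_π (i : ι) : ε e i ≫ L.π i = prodFst (U i) (gl R₀) := hom_ext' (iso_hom_w e i)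

/-- The local sections to be glued. -/
noncomputable def tsec (i : ι) : F.obj (op (Q U R₀ i)) := F.map (ε e i).op (L.s i)

lemma key_eq {Z : X.Etale} {i j : ι} (gi : Z ⟶ Q U R₀ i) (gj : Z ⟶ Q U R₀ j)
    (h : gi ≫ prodSnd (U i) (gl R₀) = gj ≫ prodSnd (U j) (gl R₀)) :
    gj ≫ ε e j = prodLift (gi ≫ ε e i) (gj ≫ prodFst (U j) (gl R₀)) ≫ L.θ i j := by
  apply hom_ext'
  let x₀ : Z.left ⟶ (U i).left := gi.left ≫ pullback.fst (U i).hom R₀.hom
  let x₁ : Z.left ⟶ (U j).left := gj.left ≫ pullback.fst (U j).hom R₀.hom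
  have hx : x₀ ≫ (U i).hom = x₁ ≫ (U j).hom := by
    have h1 := hom_w (gi ≫ prodFst (U i) (gl R₀))
    have h2 := hom_w (gj ≫ prodFst (U j) (gl R₀))
    exact h1.trans h2.symm
  let vcan : Desc.Lifts (((Desc.toDDFam (fam U)).obj R₀).obj i) x₀ := ⟨gi.left, rfl⟩
  let w' : Desc.Lifts (L.dd.obj i) x₀ := ⟨gi.left ≫ (e.hom.hom i).left, by
    show (gi.left ≫ (e.hom.hom i).left) ≫ (L.π i).left = x₀
    rw [Category.assoc, iso_hom_w e i]⟩
  have hcomm := e.hom.comm x₀ x₁ hx vcan w' rfl
  have hsnd : gi.left ≫ pullback.snd (U i).hom R₀.hom = gj.left ≫ pullback.snd (U j).hom R₀.hom :=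
    congrArg (fun m => m.left) h
  have hcan : ((((Desc.toDDFam (fam U)).obj R₀).φ x₀ x₁ hx) vcan).1 = gj.left := by
    show (Desc.canMapFam (fam U) R₀ x₀ x₁ hx vcan).1 = gj.left
    rw [Desc.canMapFam_val]
    apply pullback.hom_ext
    · rw [pullback.lift_fst]
    · rw [pullback.lift_snd]
      exact hsnd
  rw [hcan] at hcomm
  rw [comp_left, comp_left]
  exact hcomm.symm.trans (L.dd_φ_val x₀ x₁ hx w')

lemma tsec_compatible : Presieve.Arrows.Compatible F (fun i => prodSnd (U i) (gl R₀)) (tsec e) := by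
  intro i j Z gi gj h
  have hk := key_eq e gi gj h
  show F.map gi.op (F.map (ε e i).op (L.s i)) = F.map gj.op (F.map (ε e j).op (L.s j))
  rw [← map_comp' F gj, hk, map_comp' F (prodLift _ _) (L.θ i j), θ_s,
    ← map_comp' F (prodLift _ _) (prodFst _ _), prodLift_fst, map_comp']

lemma cover_mem (hU : EtCoh.Covers U) :
    Sieve.ofArrows (Q U R₀) (fun i => prodSnd (U i) (gl R₀)) ∈ X.smallEtaleTopology (gl R₀) := by
  refine mem_of_points _ fun r => ?_
  obtain ⟨i, y, hy⟩ := hU (R₀.hom.base r)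
  obtain ⟨z, -, hz⟩ := Scheme.Pullback.exists_preimage_pullback (f := (U i).hom) (g := R₀.hom) y r hy
  exact ⟨Q U R₀ i, prodSnd (U i) (gl R₀), z, Sieve.ofArrows_mk _ _ i, hz⟩


section Psi

variable (s : F.obj (op (gl R₀)))
  (hs : ∀ i, F.map (prodSnd (U i) (gl R₀)).op s = tsec e i)

lemma exists_section (hF : Presieve.IsSheaf X.smallEtaleTopology F) (hU : EtCoh.Covers U) :
    ∃ s : F.obj (op (gl R₀)), ∀ i, F.map (prodSnd (U i) (gl R₀)).op s = tsec e i := by
  have h1 : Presieve.IsSheafFor F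
      (Presieve.ofArrows (Q U R₀) (fun i => prodSnd (U i) (gl R₀))) :=
    (Presieve.isSheafFor_iff_generate _).2 (hF _ (cover_mem hU))
  obtain ⟨s, hs, -⟩ := (Presieve.isSheafFor_arrows_iff _ _).1 h1 (tsec e) (tsec_compatible e)
  exact ⟨s, hs⟩

include hs in
lemma map_lift_eq {Z : X.Etale} {i : ι} (a : Z ⟶ U i) (g₀ : Z ⟶ gl R₀) :
    F.map (prodLift a g₀ ≫ ε e i).op (L.s i) = F.map g₀.op s := by
  rw [map_comp']
  show F.map (prodLift a g₀).op (tsec e i) = _
  rw [← hs i, ← map_comp', prodLift_snd]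

include hs in
lemma psi_injective {Z : X.Etale} {i : ι} (a : Z ⟶ U i) (g g' : Z ⟶ gl R₀)
    (h : F.map g.op s = F.map g'.op s) : g = g' := by
  have h1 : prodLift a g ≫ ε e i = prodLift a g' ≫ ε e i := by
    apply L.ext_hom
    · rw [Category.assoc, Category.assoc, ε_π, prodLift_fst, prodLift_fst]
    · rw [map_lift_eq e s hs, map_lift_eq e s hs, h]
  have h2 : prodLift a g = prodLift a g' := by
    have h3 := congrArg (fun m => m ≫ εinv e i) h1
    simp only [Category.assoc, ε_εinv, Category.comp_id] at h3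
    exact h3
  have h4 := congrArg (fun m => m ≫ prodSnd (U i) (gl R₀)) h2
  simp only [prodLift_snd] at h4
  exact h4

include hs in
lemma psi_surjective {Z : X.Etale} {i : ι} (a : Z ⟶ U i) (t₀ : F.obj (op Z)) :
    ∃ g : Z ⟶ gl R₀, F.map g.op s = t₀ := by
  obtain ⟨v, -, hv2⟩ := L.exists_hom a t₀
  refine ⟨(v ≫ εinv e i) ≫ prodSnd (U i) (gl R₀), ?_⟩
  rw [map_comp', hs i]
  show F.map (v ≫ εinv e i).op (F.map (ε e i).op (L.s i)) = t₀
  rw [← map_comp', Category.assoc, εinv_ε, Category.comp_id, hv2]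

end Psi

end Glued


/-- The lifted representable presheaf. -/
noncomputable abbrev hR (R : X.Etale) : X.Etaleᵒᵖ ⥤ Type (u + 1) :=
  yoneda.obj R ⋙ uliftFunctor.{u + 1, u}

/-- The natural transformation from a representable presheaf attached to a section. -/
noncomputable def psiNat (R : X.Etale) (s : F.obj (op R)) : hR R ⟶ F where
  app W := ↾fun g => F.map g.down.op s
  naturality W W' f := by
    ext g
    show F.map (f.unop ≫ g.down).op s = F.map f (F.map g.down.op s)
    rw [op_comp, Functor.map_comp]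
    rfl

lemma psiNat_app (R : X.Etale) (s : F.obj (op R)) (W : X.Etaleᵒᵖ) (g : (hR R).obj W) :
    (psiNat R s).app W g = F.map g.down.op s := rfl

lemma cover_sieve_mem (hU : EtCoh.Covers U) (W : X.Etale) (S : Sieve W)
    (h : ∀ i, S (prodSnd (U i) W)) : S ∈ X.smallEtaleTopology W := by
  refine mem_of_points _ fun w => ?_
  obtain ⟨i, y, hy⟩ := hU (W.hom.base w)
  obtain ⟨z, -, hz⟩ := Scheme.Pullback.exists_preimage_pullback (f := (U i).hom) (g := W.hom) y w hy
  exact ⟨prod (U i) W, prodSnd (U i) W, z, h i, hz⟩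

theorem isIso_psiNat (hF : Presieve.IsSheaf X.smallEtaleTopology F) (hU : EtCoh.Covers U)
    {R₀ : Over X} [Etale R₀.hom] (e : (Desc.toDDFam (fam U)).obj R₀ ≅ L.dd)
    (s : F.obj (op (gl R₀))) (hs : ∀ i, F.map (prodSnd (U i) (gl R₀)).op s = tsec e i) :
    IsIso (psiNat (gl R₀) s) := by
  let FS : Sheaf X.smallEtaleTopology (Type (u + 1)) :=
    ⟨F, (isSheaf_iff_isSheaf_of_type _ _).2 hF⟩
  let HS : Sheaf X.smallEtaleTopology (Type (u + 1)) :=
    ⟨hR (gl R₀), (isSheaf_iff_isSheaf_of_type _ _).2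
      (GrothendieckTopology.Subcanonical.isSheaf_of_isRepresentable _)⟩
  let φ : HS ⟶ FS := ⟨psiNat (gl R₀) s⟩
  have hinj : Sheaf.IsLocallyInjective φ := by
    constructor
    intro W x y h
    refine cover_sieve_mem hU W.unop _ fun i => ?_
    show (hR (gl R₀)).map (prodSnd (U i) W.unop).op x = (hR (gl R₀)).map (prodSnd (U i) W.unop).op y
    have hxy : F.map x.down.op s = F.map y.down.op s := h
    have h1 : prodSnd (U i) W.unop ≫ x.down = prodSnd (U i) W.unop ≫ y.down := by
      apply psi_injective e s hs (prodFst (U i) W.unop)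
      rw [map_comp', map_comp', hxy]
    exact congrArg ULift.up h1
  have hsurj : Sheaf.IsLocallySurjective φ := by
    constructor
    intro W t
    refine cover_sieve_mem hU W _ fun i => ?_
    obtain ⟨g, hg⟩ := psi_surjective e s hs (prodFst (U i) W) (F.map (prodSnd (U i) W).op t)
    exact ⟨ULift.up g, hg⟩
  have hiso : IsIso φ := (Sheaf.isLocallyBijective_iff_isIso φ).1 ⟨hinj, hsurj⟩
  exact (inferInstance : IsIso ((sheafToPresheaf _ _).map φ))

/-- A sheaf which is locally representable by finite étale schemes is representable by a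
finite étale scheme. -/
theorem exists_representable (L : LocRep F U) (hF : Presieve.IsSheaf X.smallEtaleTopology F)
    (hU : EtCoh.Covers U) (hfin : ∀ i, IsFinite (L.π i).left) :
    ∃ (R : X.Etale) (_ : IsFinite R.hom),
      Nonempty (F ≅ yoneda.obj R ⋙ uliftFunctor.{u + 1, u}) := by
  have haff : ∀ i, IsAffineHom (L.π i).left := fun i => by
    have := hfin i
    infer_instance
  obtain ⟨R₀, ⟨e⟩⟩ := L.isEffective hU haff
  have hEt : Etale R₀.hom := etale_of_effective hU R₀ e
  have hFin : IsFinite R₀.hom := isFinite_of_effective hU R₀ e hfin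
  obtain ⟨s, hs⟩ := exists_section e hF hU
  have := isIso_psiNat hF hU e s hs
  exact ⟨gl R₀, hFin, ⟨(asIso (psiNat (gl R₀) s)).symm⟩⟩

end LocRep

end Groth.Agent.Lib.Helper24.Flc
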