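import Mathlib
import Groth.Agent.Lib.Helper24.FlcB
import Groth.Agent.Lib.Helper24.FlcE

set_option autoImplicit false
set_option backward.isDefEq.respectTransparency false
set_option backward.isDefEq.respectTransparency.types false

/-!
# Finite locally constant sheaves of sets are representable by finite étale schemes (helper24)
-/

namespace Groth.Agent.Lib.Helper24.Flc

open AlgebraicGeometry CategoryTheory Limits Opposite

universe u

variable {X : Scheme.{u}}

/-- The restriction of a presheaf to the localized site. -/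
abbrev resO (F : X.Etaleᵒᵖ ⥤ Type (u + 1)) (U : X.Etale) : (Over U)ᵒᵖ ⥤ Type (u + 1) :=
  (Over.forget U).op ⋙ F

lemma resO_isSheaf {F : X.Etaleᵒᵖ ⥤ Type (u + 1)} (hF : Presieve.IsSheaf X.smallEtaleTopology F)
    (U : X.Etale) : Presieve.IsSheaf (K U) (resO F U) := by
  rw [← isSheaf_iff_isSheaf_of_type]
  exact (Over.forget U).op_comp_isSheaf (K U) X.smallEtaleTopology
    ⟨F, (isSheaf_iff_isSheaf_of_type _ _).2 hF⟩

/-- Local representability data from local constancy. -/
noncomputable def locRepOfLocConst {F : X.Etaleᵒᵖ ⥤ Type (u + 1)}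
    (hF : Presieve.IsSheaf X.smallEtaleTopology F) {ι : Type u} (U : ι → X.Etale) (n : ι → ℕ)
    (c : ∀ i, cst (U i) (n i) ⟶ resO F (U i))
    (hinj : ∀ i, Presheaf.IsLocallyInjective (K (U i)) (c i))
    (hsurj : ∀ i, Presheaf.IsLocallySurjective (K (U i)) (c i)) : LocRep F U where
  V i := triv (U i) (n i)
  π i := trivπ (U i) (n i)
  s i := (bijective_of_locConst (resO_isSheaf hF (U i)) (c i)).choose
  bij i W a := by
    have hb := (bijective_of_locConst (resO_isSheaf hF (U i)) (c i)).choose_spec (Over.mk a)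
    constructor
    · intro v v' h
      have h1 := hb.1 (a₁ := (Over.homMk v.1 v.2 : Over.mk a ⟶ trivO (U i) (n i)))
        (a₂ := (Over.homMk v'.1 v'.2 : Over.mk a ⟶ trivO (U i) (n i))) h
      exact Subtype.ext (congrArg (fun m => m.left) h1)
    · intro t
      obtain ⟨g, hg⟩ := hb.2 t
      exact ⟨⟨g.left, Over.w g⟩, hg⟩

/-- A sheaf of sets on the small étale site which is locally constant with finite values is
representable by a finite étale scheme. -/
theorem representable_of_locConst {F : X.Etaleᵒᵖ ⥤ Type (u + 1)}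
    (hF : Presieve.IsSheaf X.smallEtaleTopology F) {ι : Type u} (U : ι → X.Etale)
    (hU : EtCoh.Covers U) (n : ι → ℕ)
    (c : ∀ i, cst (U i) (n i) ⟶ resO F (U i))
    (hinj : ∀ i, Presheaf.IsLocallyInjective (K (U i)) (c i))
    (hsurj : ∀ i, Presheaf.IsLocallySurjective (K (U i)) (c i)) :
    ∃ (R : X.Etale) (_ : IsFinite R.hom),
      Nonempty (F ≅ yoneda.obj R ⋙ uliftFunctor.{u + 1, u}) :=
  (locRepOfLocConst hF U n c hinj hsurj).exists_representable hF hU
    (fun i => isFinite_trivπ (U i) (n i))

end Groth.Agent.Lib.Helper24.Flc
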