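import Mathlib
import Groth.Prelude.Def_CohProp
import Groth.Prelude.Def_EtOpen
import Groth.Agent.Lib.Helper24.FlcF

set_option autoImplicit false
set_option backward.isDefEq.respectTransparency false
set_option backward.isDefEq.respectTransparency.types false

/-!
# Finite locally constant sheaves are representable: the prelude's formulations (helper24)
-/

namespace Groth.Agent.Lib.Helper24.Flc

open AlgebraicGeometry CategoryTheory Limits Opposite

universe u w v₁ u₁

section Whisker

variable {C : Type u₁} [Category.{v₁} C] (J : GrothendieckTopology C)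

instance locInj_whisker {P Q : Cᵒᵖ ⥤ Type w} (φ : P ⟶ Q) [Presheaf.IsLocallyInjective J φ] (U : C) :
    Presheaf.IsLocallyInjective (J.over U) (Functor.whiskerLeft (Over.forget U).op φ) := by
  constructor
  intro W x y h
  have h1 := Presheaf.equalizerSieve_mem J φ (X := op W.unop.left) x y h
  rw [GrothendieckTopology.mem_over_iff]
  convert h1 using 1
  ext Z f
  rw [Sieve.overEquiv_iff]
  rfl

instance locSurj_whisker {P Q : Cᵒᵖ ⥤ Type w} (φ : P ⟶ Q) [Presheaf.IsLocallySurjective J φ]
    (U : C) :
    Presheaf.IsLocallySurjective (J.over U) (Functor.whiskerLeft (Over.forget U).op φ) := by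
  constructor
  intro W t
  have h1 := Presheaf.imageSieve_mem J φ (U := op W.left) t
  rw [GrothendieckTopology.mem_over_iff]
  convert h1 using 1
  ext Z f
  rw [Sieve.overEquiv_iff]
  rfl

end Whisker


section Sets

variable {X : Scheme.{u}}

/-- The comparison of constant presheaves for a finite value type. -/
noncomputable def cstTo (U : X.Etale) (M : Type (u + 1)) [Finite M] :
    cst U (Nat.card M) ⟶ (Over.forget U).op ⋙ (Functor.const X.Etaleᵒᵖ).obj M where
  app _ := ↾fun m => (Finite.equivFin M).symm m.down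
  naturality _ _ _ := rfl

instance cstTo_locInj (U : X.Etale) (M : Type (u + 1)) [Finite M] :
    Presheaf.IsLocallyInjective (K U) (cstTo U M) :=
  Presheaf.isLocallyInjective_of_injective _ _ (fun _ a b h => by
    have h1 : (Finite.equivFin M).symm a.down = (Finite.equivFin M).symm b.down := h
    exact ULift.ext _ _ ((Finite.equivFin M).symm.injective h1))

instance cstTo_locSurj (U : X.Etale) (M : Type (u + 1)) [Finite M] :
    Presheaf.IsLocallySurjective (K U) (cstTo U M) :=
  Presheaf.isLocallySurjective_of_surjective _ _ (fun _ b =>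
    ⟨ULift.up (Finite.equivFin M b), (Finite.equivFin M).symm_apply_apply b⟩)

/-- The sheaf of sets attached to a sheaf-valued presheaf isomorphic to a representable one. -/
theorem nonempty_iso_repSh (F : EtDesc.Sh X) (R : X.Etale)
    (e : F.obj ≅ yoneda.obj R ⋙ uliftFunctor.{u + 1, u}) : Nonempty (F ≅ EtDesc.repSh R) := by
  have hP : Presheaf.IsSheaf X.smallEtaleTopology (yoneda.obj R ⋙ uliftFunctor.{u + 1, u}) :=
    (isSheaf_iff_isSheaf_of_type _ _).2
      (GrothendieckTopology.Subcanonical.isSheaf_of_isRepresentable _)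
  have e2 : F.obj ≅ (EtDesc.repSh R).obj := e ≪≫ isoSheafify X.smallEtaleTopology hP
  exact ⟨(fullyFaithfulSheafToPresheaf _ _).preimageIso e2⟩

theorem rep_of_finLocConstSet (F : EtDesc.Sh X) (hF : CohProp.IsFinLocConstSet F) :
    ∃ (R : X.Etale) (_ : IsFinite R.hom), Nonempty (F ≅ EtDesc.repSh R) := by
  obtain ⟨ι, U, hU, h⟩ := hF
  choose M hM he using h
  have hFs : Presieve.IsSheaf X.smallEtaleTopology F.obj :=
    (isSheaf_iff_isSheaf_of_type _ _).1 F.property
  let c : ∀ i, cst (U i) (Nat.card (M i)) ⟶ resO F.obj (U i) := fun i =>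
    haveI := hM i
    cstTo (U i) (M i) ≫
      Functor.whiskerLeft (Over.forget (U i)).op
        (toSheafify X.smallEtaleTopology ((Functor.const X.Etaleᵒᵖ).obj (M i))) ≫
      (he i).some.inv.hom
  have hinj : ∀ i, Presheaf.IsLocallyInjective (K (U i)) (c i) := fun i => by
    have := hM i
    have : Presheaf.IsLocallyInjective (K (U i)) (he i).some.inv.hom :=
      inferInstanceAs (Sheaf.IsLocallyInjective (he i).some.inv)
    infer_instance
  have hsurj : ∀ i, Presheaf.IsLocallySurjective (K (U i)) (c i) := fun i => by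
    have := hM i
    have : Presheaf.IsLocallySurjective (K (U i)) (he i).some.inv.hom :=
      inferInstanceAs (Sheaf.IsLocallySurjective (he i).some.inv)
    infer_instance
  obtain ⟨R, hR, ⟨e⟩⟩ := representable_of_locConst hFs U hU (fun i => Nat.card (M i)) c hinj hsurj
  exact ⟨R, hR, nonempty_iso_repSh F R e⟩

end Sets


section Ab

variable {X : Scheme.{u}}

/-- The comparison of constant presheaves for a finite abelian group. -/
noncomputable def cstToAb (U : X.Etale) (M : Type) [AddCommGroup M] [Finite M] :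
    cst U (Nat.card M) ⟶
      (Functor.const (Over U)ᵒᵖ).obj (AddCommGrpCat.of (ULift.{u + 1} M)) ⋙
        forget AddCommGrpCat.{u + 1} where
  app _ := ↾fun m => (ULift.up ((Finite.equivFin M).symm m.down) : ULift.{u + 1} M)
  naturality _ _ _ := rfl

instance cstToAb_locInj (U : X.Etale) (M : Type) [AddCommGroup M] [Finite M] :
    Presheaf.IsLocallyInjective (K U) (cstToAb U M) :=
  Presheaf.isLocallyInjective_of_injective _ _ (fun _ a b h => by
    have h1 : (ULift.up ((Finite.equivFin M).symm a.down) : ULift.{u + 1} M) =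
        ULift.up ((Finite.equivFin M).symm b.down) := h
    exact ULift.ext _ _ ((Finite.equivFin M).symm.injective (congrArg ULift.down h1)))

instance cstToAb_locSurj (U : X.Etale) (M : Type) [AddCommGroup M] [Finite M] :
    Presheaf.IsLocallySurjective (K U) (cstToAb U M) :=
  Presheaf.isLocallySurjective_of_surjective _ _ (fun _ b =>
    ⟨ULift.up (Finite.equivFin M (ULift.down b)),
      ULift.ext _ _ ((Finite.equivFin M).symm_apply_apply (ULift.down b))⟩)

/-- The comparison map in the abelian case. -/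
noncomputable def cAb (F : EtCoh.Ab X) (U : X.Etale) (M : Type) [AddCommGroup M] [Finite M]
    (e : EtCoh.restr F U ≅ (constantSheaf (K U) AddCommGrpCat.{u + 1}).obj
      (AddCommGrpCat.of (ULift.{u + 1} M))) :
    cst U (Nat.card M) ⟶ resO (F.obj ⋙ forget AddCommGrpCat.{u + 1}) U :=
  cstToAb U M ≫
    (Functor.whiskerRight
      (toSheafify (K U) ((Functor.const (Over U)ᵒᵖ).obj (AddCommGrpCat.of (ULift.{u + 1} M))) ≫
        (e.inv.hom : sheafify (K U) ((Functor.const (Over U)ᵒᵖ).obj
          (AddCommGrpCat.of (ULift.{u + 1} M))) ⟶ (EtCoh.restr F U).obj))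
      (forget AddCommGrpCat.{u + 1}) :
      (Functor.const (Over U)ᵒᵖ).obj (AddCommGrpCat.of (ULift.{u + 1} M)) ⋙
        forget AddCommGrpCat.{u + 1} ⟶ resO (F.obj ⋙ forget AddCommGrpCat.{u + 1}) U)

instance cAb_locInj (F : EtCoh.Ab X) (U : X.Etale) (M : Type) [AddCommGroup M] [Finite M]
    (e : EtCoh.restr F U ≅ (constantSheaf (K U) AddCommGrpCat.{u + 1}).obj
      (AddCommGrpCat.of (ULift.{u + 1} M))) :
    Presheaf.IsLocallyInjective (K U) (cAb F U M e) := by
  have h1 : Presheaf.IsLocallyInjective (K U)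
      (e.inv.hom : sheafify (K U) ((Functor.const (Over U)ᵒᵖ).obj
          (AddCommGrpCat.of (ULift.{u + 1} M))) ⟶ (EtCoh.restr F U).obj) :=
    inferInstanceAs (Sheaf.IsLocallyInjective e.inv)
  have h2 : Presheaf.IsLocallyInjective (K U)
      (toSheafify (K U) ((Functor.const (Over U)ᵒᵖ).obj (AddCommGrpCat.of (ULift.{u + 1} M))) ≫
        (e.inv.hom : sheafify (K U) ((Functor.const (Over U)ᵒᵖ).obj
          (AddCommGrpCat.of (ULift.{u + 1} M))) ⟶ (EtCoh.restr F U).obj)) := inferInstance
  have h3 : Presheaf.IsLocallyInjective (K U) (Functor.whiskerRight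
      (toSheafify (K U) ((Functor.const (Over U)ᵒᵖ).obj (AddCommGrpCat.of (ULift.{u + 1} M))) ≫
        (e.inv.hom : sheafify (K U) ((Functor.const (Over U)ᵒᵖ).obj
          (AddCommGrpCat.of (ULift.{u + 1} M))) ⟶ (EtCoh.restr F U).obj))
      (forget AddCommGrpCat.{u + 1})) := inferInstance
  exact Presheaf.isLocallyInjective_comp (K U) (cstToAb U M) _

instance cAb_locSurj (F : EtCoh.Ab X) (U : X.Etale) (M : Type) [AddCommGroup M] [Finite M]
    (e : EtCoh.restr F U ≅ (constantSheaf (K U) AddCommGrpCat.{u + 1}).obj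
      (AddCommGrpCat.of (ULift.{u + 1} M))) :
    Presheaf.IsLocallySurjective (K U) (cAb F U M e) := by
  have h1 : Presheaf.IsLocallySurjective (K U)
      (e.inv.hom : sheafify (K U) ((Functor.const (Over U)ᵒᵖ).obj
          (AddCommGrpCat.of (ULift.{u + 1} M))) ⟶ (EtCoh.restr F U).obj) :=
    inferInstanceAs (Sheaf.IsLocallySurjective e.inv)
  have h2 : Presheaf.IsLocallySurjective (K U)
      (toSheafify (K U) ((Functor.const (Over U)ᵒᵖ).obj (AddCommGrpCat.of (ULift.{u + 1} M))) ≫
        (e.inv.hom : sheafify (K U) ((Functor.const (Over U)ᵒᵖ).obj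
          (AddCommGrpCat.of (ULift.{u + 1} M))) ⟶ (EtCoh.restr F U).obj)) := inferInstance
  have h3 : Presheaf.IsLocallySurjective (K U) (Functor.whiskerRight
      (toSheafify (K U) ((Functor.const (Over U)ᵒᵖ).obj (AddCommGrpCat.of (ULift.{u + 1} M))) ≫
        (e.inv.hom : sheafify (K U) ((Functor.const (Over U)ᵒᵖ).obj
          (AddCommGrpCat.of (ULift.{u + 1} M))) ⟶ (EtCoh.restr F U).obj))
      (forget AddCommGrpCat.{u + 1})) := inferInstance
  exact Presheaf.isLocallySurjective_comp (K U) (cstToAb U M) _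

theorem rep_of_flc_ab (F : EtCoh.Ab X) (h : EtCoh.IsFiniteLocallyConstant F) :
    ∃ (R : X.Etale) (_ : IsFinite R.hom),
      Nonempty (F.obj ⋙ forget AddCommGrpCat.{u + 1} ≅
        yoneda.obj R ⋙ uliftFunctor.{u + 1, u}) := by
  obtain ⟨ι, U, hU, h⟩ := h
  choose M hA hM he using h
  have hFs : Presieve.IsSheaf X.smallEtaleTopology (F.obj ⋙ forget AddCommGrpCat.{u + 1}) :=
    (isSheaf_iff_isSheaf_of_type _ _).1
      ((Presheaf.isSheaf_iff_isSheaf_forget _ _ (forget AddCommGrpCat.{u + 1})).1 F.property)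
  exact representable_of_locConst hFs U hU (fun i => Nat.card (M i))
    (fun i => cAb F (U i) (M i) (he i).some)
    (fun i => cAb_locInj F (U i) (M i) (he i).some)
    (fun i => cAb_locSurj F (U i) (M i) (he i).some)

end Ab

end Groth.Agent.Lib.Helper24.Flc
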