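import Mathlib
set_option autoImplicit false
universe w u
set_option backward.isDefEq.respectTransparency false
set_option backward.isDefEq.respectTransparency.types false

/-! A cocone of schemes which is a colimit fpqc locally on the vertex is a colimit. -/

namespace Groth.Agent.Lib.Helper24.FpqcColim
open AlgebraicGeometry CategoryTheory Limits Opposite

lemma isSheafFor_yoneda_fpqc {W : Scheme.{u}} (T : Scheme.{u}) {ι : Type w} (X : ι → Scheme.{u})
    (f : ∀ i, X i ⟶ W) (h : Presieve.ofArrows X f ∈ Scheme.fpqcPrecoverage W) :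
    (Presieve.ofArrows X f).IsSheafFor (yoneda.obj T) := by
  have hs : Presieve.IsSheaf Scheme.fpqcTopology (yoneda.obj T) :=
    GrothendieckTopology.Subcanonical.isSheaf_of_isRepresentable _
  rw [Presieve.isSheafFor_iff_generate]
  exact hs _ (Precoverage.generate_mem_toGrothendieck h)

/-- gluing morphisms along an fpqc covering -/
lemma existsUnique_glue {W : Scheme.{u}} (T : Scheme.{u}) {ι : Type w} (X : ι → Scheme.{u})
    (f : ∀ i, X i ⟶ W) (h : Presieve.ofArrows X f ∈ Scheme.fpqcPrecoverage W)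
    (φ : ∀ i, X i ⟶ T)
    (hφ : ∀ i j, pullback.fst (f i) (f j) ≫ φ i = pullback.snd (f i) (f j) ≫ φ j) :
    ∃! ψ : W ⟶ T, ∀ i, f i ≫ ψ = φ i := by
  have hs := isSheafFor_yoneda_fpqc T X f h
  rw [Presieve.isSheafFor_arrows_iff_pullbacks] at hs
  exact hs φ hφ

/-- morphisms agreeing on an fpqc covering agree -/
lemma hom_ext_fpqc {W : Scheme.{u}} {T : Scheme.{u}} {ι : Type w} (X : ι → Scheme.{u})
    (f : ∀ i, X i ⟶ W) (h : Presieve.ofArrows X f ∈ Scheme.fpqcPrecoverage W)
    (ψ ψ' : W ⟶ T) (hψ : ∀ i, f i ≫ ψ = f i ≫ ψ') : ψ = ψ' := by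
  have hs := isSheafFor_yoneda_fpqc T X f h
  rw [Presieve.isSheafFor_arrows_iff] at hs
  have hc : Presieve.Arrows.Compatible (yoneda.obj T) f (fun i => f i ≫ ψ) := by
    intro i j Z gi gj hg
    change gi ≫ f i ≫ ψ = gj ≫ f j ≫ ψ
    rw [← Category.assoc, hg, Category.assoc]
  obtain ⟨t, -, ht⟩ := hs (fun i => f i ≫ ψ) hc
  exact (ht ψ (fun i => rfl)).trans (ht ψ' (fun i => (hψ i).symm)).symm

section Main
variable {J : Type u} [SmallCategory J] (D : J ⥤ Scheme.{u}) (c : Cocone D)

/-- the base change of the diagram along `g : Y ⟶ c.pt` -/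
noncomputable abbrev K {Y : Scheme.{u}} (g : Y ⟶ c.pt) : J ⥤ Over Y :=
  D.toOver c.pt (fun j => c.ι.app j) (fun g => c.w g) ⋙ Over.pullback g

/-- a cocone under `D` induces a cocone under the base-changed diagram -/
noncomputable def coconeOf {Y : Scheme.{u}} (g : Y ⟶ c.pt) (s : Cocone D) :
    Cocone (K D c g ⋙ Over.forget Y) where
  pt := s.pt
  ι :=
    { app := fun j => pullback.fst (c.ι.app j) g ≫ s.ι.app j
      naturality := fun j j' u => by
        simp only [Functor.comp_obj, Over.forget_obj, Functor.comp_map, Over.forget_map,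
          Functor.const_obj_obj, Functor.const_obj_map, Category.comp_id]
        change pullback.lift _ _ _ ≫ pullback.fst (c.ι.app j') g ≫ s.ι.app j' = _
        rw [pullback.lift_fst_assoc, Category.assoc]
        exact congrArg (pullback.fst _ g ≫ ·) (s.w u) }

/-- S7204 -/
theorem isColimit_of_fpqc_locally (F : PreZeroHypercover.{w} c.pt)
    (hF : F.presieve₀ ∈ Scheme.fpqcPrecoverage c.pt)
    (h1 : ∀ a : F.I₀, Nonempty (IsColimit ((Over.forgetCocone (F.X a)).whisker (K D c (F.f a)))))
    (h2 : ∀ a b : F.I₀, Nonempty (IsColimit ((Over.forgetCocone (pullback (F.f a) (F.f b))).whisker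
      (K D c (pullback.fst (F.f a) (F.f b) ≫ F.f a))))) :
    Nonempty (IsColimit c) := by
  have H1 := fun a => (h1 a).some
  have H2 := fun a b => (h2 a b).some
  have key : ∀ s : Cocone D, ∃! ψ : c.pt ⟶ s.pt, ∀ j, c.ι.app j ≫ ψ = s.ι.app j := by
    intro s
    let φ : ∀ a, F.X a ⟶ s.pt := fun a => (H1 a).desc (coconeOf D c (F.f a) s)
    have hφ : ∀ a j, pullback.snd (c.ι.app j) (F.f a) ≫ φ a =
        pullback.fst (c.ι.app j) (F.f a) ≫ s.ι.app j :=
      fun a j => (H1 a).fac (coconeOf D c (F.f a) s) j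
    have hcompat : ∀ a b, pullback.fst (F.f a) (F.f b) ≫ φ a =
        pullback.snd (F.f a) (F.f b) ≫ φ b := by
      intro a b
      apply (H2 a b).hom_ext
      intro j
      change pullback.snd (c.ι.app j) (pullback.fst (F.f a) (F.f b) ≫ F.f a) ≫
          pullback.fst (F.f a) (F.f b) ≫ φ a =
        pullback.snd (c.ι.app j) (pullback.fst (F.f a) (F.f b) ≫ F.f a) ≫
          pullback.snd (F.f a) (F.f b) ≫ φ b
      have hcond := pullback.condition (f := c.ι.app j) (g := pullback.fst (F.f a) (F.f b) ≫ F.f a)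
      have ca : pullback.fst (c.ι.app j) (pullback.fst (F.f a) (F.f b) ≫ F.f a) ≫ c.ι.app j =
          (pullback.snd (c.ι.app j) (pullback.fst (F.f a) (F.f b) ≫ F.f a) ≫
            pullback.fst (F.f a) (F.f b)) ≫ F.f a := by
        rw [hcond, Category.assoc]
      have cb : pullback.fst (c.ι.app j) (pullback.fst (F.f a) (F.f b) ≫ F.f a) ≫ c.ι.app j =
          (pullback.snd (c.ι.app j) (pullback.fst (F.f a) (F.f b) ≫ F.f a) ≫
            pullback.snd (F.f a) (F.f b)) ≫ F.f b := by
        rw [hcond, Category.assoc, pullback.condition]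
      have ea : pullback.snd (c.ι.app j) (pullback.fst (F.f a) (F.f b) ≫ F.f a) ≫
          pullback.fst (F.f a) (F.f b) ≫ φ a =
          pullback.fst (c.ι.app j) (pullback.fst (F.f a) (F.f b) ≫ F.f a) ≫ s.ι.app j := by
        have := pullback.lift_snd _ _ ca
        rw [← Category.assoc, ← this, Category.assoc, hφ, pullback.lift_fst_assoc]
      have eb : pullback.snd (c.ι.app j) (pullback.fst (F.f a) (F.f b) ≫ F.f a) ≫
          pullback.snd (F.f a) (F.f b) ≫ φ b =
          pullback.fst (c.ι.app j) (pullback.fst (F.f a) (F.f b) ≫ F.f a) ≫ s.ι.app j := by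
        have := pullback.lift_snd _ _ cb
        rw [← Category.assoc, ← this, Category.assoc, hφ, pullback.lift_fst_assoc]
      rw [ea, eb]
    obtain ⟨ψ, hψ, huniq⟩ := existsUnique_glue s.pt F.X F.f hF φ hcompat
    refine ⟨ψ, fun j => ?_, fun ψ' hψ' => ?_⟩
    · have hcov : Presieve.ofArrows (fun a => pullback (c.ι.app j) (F.f a))
          (fun a => pullback.fst (c.ι.app j) (F.f a)) ∈ Scheme.fpqcPrecoverage (D.obj j) :=
        Precoverage.mem_coverings_of_isPullback F.f hF (c.ι.app j) _
          (fun a => pullback.snd (c.ι.app j) (F.f a)) (fun a => IsPullback.of_hasPullback _ _)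
      refine hom_ext_fpqc _ _ hcov _ _ fun a => ?_
      rw [← Category.assoc, pullback.condition, Category.assoc, hψ, hφ]
    · apply huniq
      intro a
      apply (H1 a).hom_ext
      intro j
      change pullback.snd (c.ι.app j) (F.f a) ≫ F.f a ≫ ψ' = pullback.snd (c.ι.app j) (F.f a) ≫ φ a
      rw [hφ, ← Category.assoc, ← pullback.condition, Category.assoc, hψ']
  exact ⟨{ desc := fun s => (key s).exists.choose
           fac := fun s j => (key s).exists.choose_spec j
           uniq := fun s m hm => (key s).unique hm (key s).exists.choose_spec }⟩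

end Main

end Groth.Agent.Lib.Helper24.FpqcColim
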