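import Groth.Agent.Lib.Helper24.AlgStDescent
import Groth.Agent.Lib.Helper24.AlgStProps
import Groth.Agent.Lib.Helper14.FpqcCover1
set_option autoImplicit false
open CategoryTheory AlgebraicGeometry Opposite
universe w₁ v₁ w₂ v₂ w₃ v₃ w₄ v₄ w₅ v₅ u
set_option backward.isDefEq.respectTransparency false
set_option backward.isDefEq.respectTransparency.types false

/-! Descent of properties of representable morphisms along fpqc covers of the target. -/

namespace Groth.Agent.Lib.Helper24.FpqcDescSt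
open Groth.Agent.Lib.Helper24.PshFun Groth.Agent.Lib.Helper24.FibCatFpMap
open Groth.Agent.Lib.Helper24.FibCatEquiv Groth.Agent.Lib.Helper24.FibCatFpGen
open Groth.Agent.Lib.Helper24.PshBridge Groth.Agent.Lib.Helper24.AlgStRep
open Groth.Agent.Lib.Helper24.AlgStBridge Groth.Agent.Lib.Helper24.AlgStBoot
open Groth.Agent.Lib.Helper24.AlgStRepS Groth.Agent.Lib.Helper24.AlgStEqv
open Groth.Agent.Lib.Helper24.AlgStDescent Groth.Agent.Lib.Helper24.AlgStIso
open CategoryTheory.Limits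

variable {S : Scheme.{u}} {P : MorphismProperty (AlgSp.Sp S)}

/-- descent of `P` along a covering of the base, for any covering notion -/
theorem hasP_of_cover_gen (τ : AlgSp.CovNotion S) (hPb : StableBC P)
    (hP : AlgSp.IsLocalOnBase τ P)
    {𝒳 : BasedCategory.{v₁, w₁} (Over S)} {𝒴 : BasedCategory.{v₂, w₂} (Over S)}
    {𝒵 : BasedCategory.{v₃, w₃} (Over S)} (f : 𝒳 ⥤ᵇ 𝒴) (z : 𝒵 ⥤ᵇ 𝒴) (G : AlgSp.Space S)
    (y : AlgSt.ofSp G.obj ⥤ᵇ 𝒴) (hf : AlgSt.RepByAlgSp (FibCat.fp y f))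
    (W : AlgSp.Space S) (eW : AlgSt.ofSp W.obj ⥤ᵇ FibCat.fp y z) (heW : FibCat.IsEquivOver eW)
    (hq : τ (ι := PUnit.{u + 1}) (fun _ => W.obj)
      (fun _ => spMapOf (BasedFunctor.comp eW (FibCat.fpFst y z))))
    (h : HasP P (FibCat.fpFst (BasedFunctor.comp eW (FibCat.fpSnd y z)) (FibCat.fpFst z f))) :
    HasP P (FibCat.fpFst y f) := by
  have hPi := phat_respectsIso P hPb
  obtain ⟨F, e, he⟩ := hf
  refine ⟨F, e, he, ?_⟩
  obtain ⟨φ, hφ⟩ : ∃ φ : F.obj ⟶ G.obj, φ = spMapOf (BasedFunctor.comp e (FibCat.fpFst y f)) :=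
    ⟨_, rfl⟩
  obtain ⟨q, hq'⟩ : ∃ q : W.obj ⟶ G.obj, q = spMapOf (BasedFunctor.comp eW (FibCat.fpFst y z)) :=
    ⟨_, rfl⟩
  rw [← hφ]
  rw [← hq'] at hq
  have sq := IsPullback.of_hasPullback φ q
  have hX : AlgSp.IsAlgSpace (pullback φ q) :=
    Groth.Agent.Lib.Helper14.AS.isAlgSpace_of_isPullback
      (Groth.Agent.Lib.Helper14.AS.repDiag_of_isAlgSpace G.property) F.property W.property sq
  have key := hP (ι := PUnit.{u + 1}) (Y := G.obj) (fun _ => W.obj) (fun _ => q)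
    G.property (fun _ => W.property) hq φ F.property (fun _ => pullback φ q)
    (fun _ => pullback.snd _ _) (fun _ => pullback.fst _ _) (fun _ => hX) (fun _ => sq)
  rw [key]
  intro _
  -- it remains to identify the projection
  let X : AlgSp.Space S := ⟨pullback φ q, hX⟩
  have goal : HasP P (AlgSt.ofSpMap (F := X.obj) (G := W.obj) (pullback.snd φ q)) := by
    refine HasP.of_eqvOver ?_ h
    subst hφ hq'
    -- chain of equivalences over `ofSp W`
    have c1 : EqvOver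
        (BasedFunctor.comp (FibCat.fpFst (BasedFunctor.comp eW (FibCat.fpSnd y z)) (FibCat.fpFst z f)) eW)
        (BasedFunctor.comp (FibCat.fpFst (BasedFunctor.comp eW (FibCat.fpFst y z)) (FibCat.fpFst y f)) eW) :=
      ((eqvOver_fpFst_precomp eW heW (FibCat.fpSnd y z) (FibCat.fpFst z f)).trans
        (eqvOver_cube f z y)).trans
        (eqvOver_fpFst_precomp eW heW (FibCat.fpFst y z) (FibCat.fpFst y f)).symm
    have c2 := EqvOver.of_comp_equiv eW heW c1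
    refine c2.trans ?_
    have c3 : EqvOver (FibCat.fpFst (BasedFunctor.comp eW (FibCat.fpFst y z))
        (BasedFunctor.comp e (FibCat.fpFst y f)))
        (FibCat.fpFst (BasedFunctor.comp eW (FibCat.fpFst y z)) (FibCat.fpFst y f)) :=
      eqvOver_fpFst_congr_right _ e he (Iso.refl _)
    refine c3.symm.trans ?_
    have c4 : EqvOver (FibCat.fpFst (BasedFunctor.comp eW (FibCat.fpFst y z))
        (BasedFunctor.comp e (FibCat.fpFst y f)))
        (FibCat.fpFst (AlgSt.ofSpMap (spMapOf (BasedFunctor.comp eW (FibCat.fpFst y z))))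
          (BasedFunctor.comp e (FibCat.fpFst y f))) :=
      eqvOver_fpFst_congr_left (isoOfPshMap (BasedFunctor.comp eW (FibCat.fpFst y z))) _
    refine c4.trans ?_
    have c5 : EqvOver (FibCat.fpFst (AlgSt.ofSpMap (spMapOf (BasedFunctor.comp eW (FibCat.fpFst y z))))
          (BasedFunctor.comp e (FibCat.fpFst y f)))
        (FibCat.fpFst (AlgSt.ofSpMap (spMapOf (BasedFunctor.comp eW (FibCat.fpFst y z))))
          (AlgSt.ofSpMap (spMapOf (BasedFunctor.comp e (FibCat.fpFst y f))))) :=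
      eqvOver_fpFst_congr_right _ (BasedFunctor.id _) (isEquivOver_id _)
        (isoOfPshMap (BasedFunctor.comp e (FibCat.fpFst y f)))
    refine c5.trans ?_
    exact (eqvOver_of_isPullback sq).symm
  exact (hasP_ofSpMap_iff hPi (F := X) (G := W) (pullback.snd φ q)).1 goal


/-- a flat, quasi-compact, surjective representable morphism gives fpqc covers -/
lemma exists_fpqcCover {𝒵 : BasedCategory.{v₁, w₁} (Over S)} {𝒴 : BasedCategory.{v₂, w₂} (Over S)}
    (z : 𝒵 ⥤ᵇ 𝒴) (hz₁ : AlgSt.RepByAlgSpWith (AlgSp.LocP @Flat) z)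
    (hz₂ : AlgSt.RepByAlgSpWith AlgSp.IsQuasiCompactMor z)
    (hz₃ : AlgSt.RepByAlgSpWith AlgSp.IsSurjectiveMor z) (U : Over S)
    (y : FibCat.overCat U ⥤ᵇ 𝒴) :
    ∃ (W : AlgSp.Space S)
      (eW : AlgSt.ofSp W.obj ⥤ᵇ FibCat.fp (BasedFunctor.comp (AlgSt.toOverCat U) y) z),
      FibCat.IsEquivOver eW ∧ AlgSp.IsFpqcCover (ι := PUnit.{u + 1}) (fun _ => W.obj)
        (fun _ => spMapOf (BasedFunctor.comp eW
          (FibCat.fpFst (BasedFunctor.comp (AlgSt.toOverCat U) y) z))) := by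
  rw [repByAlgSpWith_iff_hasP] at hz₁ hz₂ hz₃
  obtain ⟨W, eW, heW, hfl⟩ := hz₁ U y
  have hqc := (hz₂ U y).forall Groth.Agent.Lib.Helper24.AlgStProps.good_isQuasiCompactMor.respectsIso
    (AlgSp.IsAlgSpace.yon_obj U) W eW heW
  have hsurj := (hz₃ U y).forall (phat_respectsIso_of _) (AlgSp.IsAlgSpace.yon_obj U) W eW heW
  exact ⟨W, eW, heW, Groth.Agent.Lib.Helper14.AS.isFpqcCover_of_qc_flat_surjective W.property
    (AlgSp.IsAlgSpace.yon_obj U) _ hqc hfl hsurj⟩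

/-- `P` descends along a flat, quasi-compact, surjective base change -/
theorem repByAlgSpWith_of_fpFst_fpqc {𝒳 𝒴 𝒵 : AlgSt.Cat S} (h𝒳 : FibCat.IsFibGrpd 𝒳.p)
    (h𝒴 : FibCat.IsFibGrpd 𝒴.p) (h𝒵 : FibCat.IsFibGrpd 𝒵.p)
    (P : MorphismProperty (AlgSp.Sp S)) (hPb : StableBC P)
    (hP : AlgSp.IsLocalOnBase AlgSp.IsFpqcCover P) (f : 𝒳 ⥤ᵇ 𝒴) (hf : AlgSt.RepByAlgSp1 f)
    (z : 𝒵 ⥤ᵇ 𝒴) (hz₁ : AlgSt.RepByAlgSpWith (AlgSp.LocP @Flat) z)
    (hz₂ : AlgSt.RepByAlgSpWith AlgSp.IsQuasiCompactMor z)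
    (hz₃ : AlgSt.RepByAlgSpWith AlgSp.IsSurjectiveMor z)
    (h : AlgSt.RepByAlgSpWith P (FibCat.fpFst z f)) : AlgSt.RepByAlgSpWith P f := by
  have h' : RepS P (FibCat.fpFst z f) :=
    repS_of_repByAlgSpWith (isFibGrpd_fp z f h𝒵 h𝒳 h𝒴) h𝒵 P hPb
      (Groth.Agent.Lib.Helper24.AlgStProps.isLocalOnBase_fppf_of_fpqc hP) _ h
  rw [repByAlgSpWith_iff_hasP]
  intro U y
  obtain ⟨W, eW, heW, hq⟩ := exists_fpqcCover z hz₁ hz₂ hz₃ U y
  exact hasP_of_cover_gen AlgSp.IsFpqcCover hPb hP f z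
    ⟨(AlgSp.yon S).obj U, AlgSp.IsAlgSpace.yon_obj U⟩ _
    (repByAlgSp_fp_toOverCat f hf U y) W eW heW hq (h' W _)

end Groth.Agent.Lib.Helper24.FpqcDescSt
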