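import Mathlib
import Groth.Prelude.Def_FEt
import Groth.Agent.Lib.Helper22.EtStalk.FinitePushFormula
import Groth.Agent.Lib.Helper22.EtStalk.SetsFamily

set_option autoImplicit false
set_option backward.isDefEq.respectTransparency false
set_option backward.isDefEq.respectTransparency.types false

/-!
# Free actions of finite groups on finite étale covers (helper24)
-/

namespace Groth.Agent.Lib.Helper24.FreeActFEt

open AlgebraicGeometry CategoryTheory Limits Opposite
open Groth.Agent.Lib.Helper22.EtStalk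

universe u

variable {X : Scheme.{u}} (Y : FEt.Cat X) {G : Type u} [Group G] (ρ : G →* Aut Y)

lemma act_mul (g h : G) : (ρ (g * h)).hom.left = (ρ h).hom.left ≫ (ρ g).hom.left := by
  rw [map_mul]
  rfl

lemma act_one : (ρ 1).hom.left = 𝟙 _ := by
  rw [map_one]
  rfl

lemma act_w (g : G) : (ρ g).hom.left ≫ Y.hom = Y.hom := Over.w (ρ g).hom.hom

section Free

variable (hfree : ∀ g : G, g ≠ 1 → ∀ (K : Type u) [Field K] (y : Spec (CommRingCat.of K) ⟶ Y.left),
      y ≫ (ρ g).hom.left ≠ y)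

include hfree

lemma orbit_injective {K : Type u} [Field K] (y : Spec (CommRingCat.of K) ⟶ Y.left) :
    Function.Injective (fun g : G => y ≫ (ρ g).hom.left) := by
  intro g h hgh
  have hgh' : y ≫ (ρ g).hom.left = y ≫ (ρ h).hom.left := hgh
  by_contra hne
  have h1 : g⁻¹ * h ≠ 1 := fun h1 => hne (inv_mul_eq_one.1 h1)
  apply hfree (g⁻¹ * h) h1 K y
  rw [act_mul, ← Category.assoc, ← hgh', Category.assoc, ← act_mul, inv_mul_cancel, act_one,
    Category.comp_id]

/-- The orbit map into a geometric fibre. -/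
noncomputable def orbit {Ω : Type u} [Field Ω] (s : Spec (CommRingCat.of Ω) ⟶ Y.left) (g : G) :
    FEt.fiberObj (s ≫ Y.hom) Y :=
  ⟨s ≫ (ρ g).hom.left, by rw [Category.assoc, act_w]⟩

omit hfree in
lemma orbit_val {Ω : Type u} [Field Ω] (s : Spec (CommRingCat.of Ω) ⟶ Y.left) (g : G) :
    (orbit Y ρ s g).1 = s ≫ (ρ g).hom.left := rfl

lemma orbit_inj {Ω : Type u} [Field Ω] (s : Spec (CommRingCat.of Ω) ⟶ Y.left) :
    Function.Injective (orbit Y ρ s) := fun _ _ hgh =>
  orbit_injective Y ρ hfree s (congrArg Subtype.val hgh)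

omit hfree in
lemma finite_fiber {Ω : Type u} [Field Ω] (ξ : Spec (CommRingCat.of Ω) ⟶ X) :
    Finite (FEt.fiberObj ξ Y) := by
  have : IsFinite Y.hom := Y.prop.1
  exact FinitePush.finite_lifts Y.hom ξ

theorem card_le [Finite G] [Nonempty ↥Y.left] (n : ℕ)
    (hn : ∀ (Ω : Type u) [Field Ω] [IsSepClosed Ω] (ξ : Spec (CommRingCat.of Ω) ⟶ X),
      Nat.card (FEt.fiberObj ξ Y) = n) : Nat.card G ≤ n := by
  obtain ⟨y₀⟩ := ‹Nonempty ↥Y.left›
  obtain ⟨Ω, _, _, s₀, -⟩ := Sets.exists_geomPoint_scheme Y.left y₀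
  have hfin := finite_fiber Y (s₀ ≫ Y.hom)
  rw [← hn Ω (s₀ ≫ Y.hom)]
  exact Nat.card_le_card_of_injective _ (orbit_inj Y ρ hfree s₀)

end Free

/-- The graph of the action of `g`. -/
noncomputable def φ (g : G) : Y.left ⟶ pullback Y.hom Y.hom :=
  pullback.lift (𝟙 Y.left) (ρ g).hom.left
    ((Category.id_comp Y.hom).trans (Over.w (ρ g).hom.hom).symm)

@[reassoc (attr := simp)]
lemma φ_fst (g : G) : φ Y ρ g ≫ pullback.fst Y.hom Y.hom = 𝟙 _ := pullback.lift_fst _ _ _

@[reassoc (attr := simp)]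
lemma φ_snd (g : G) : φ Y ρ g ≫ pullback.snd Y.hom Y.hom = (ρ g).hom.left :=
  pullback.lift_snd _ _ _

instance isOpenImmersion_φ (g : G) : IsOpenImmersion (φ Y ρ g) := by
  have hY1 : IsFinite Y.hom := Y.prop.1
  have hY2 : Etale Y.hom := Y.prop.2
  have h1 : Etale (pullback.fst Y.hom Y.hom) := inferInstance
  have h2 : Etale (φ Y ρ g ≫ pullback.fst Y.hom Y.hom) := by
    rw [φ_fst]
    infer_instance
  have h3 : Etale (φ Y ρ g) :=
    MorphismProperty.of_postcomp (W := @Etale) (W' := @Etale) _ (pullback.fst Y.hom Y.hom) h1 h2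
  have h4 : Mono (φ Y ρ g) := by
    have : IsSplitMono (φ Y ρ g) := ⟨⟨⟨pullback.fst _ _, φ_fst Y ρ g⟩⟩⟩
    infer_instance
  exact IsOpenImmersion.of_flat_of_mono _

/-- The comparison morphism `∐_G Y ⟶ Y ×_X Y`. -/
noncomputable def Φ : (∐ fun _ : G => Y.left) ⟶ pullback Y.hom Y.hom := Sigma.desc (φ Y ρ)

section Free2

variable (hfree : ∀ g : G, g ≠ 1 → ∀ (K : Type u) [Field K] (y : Spec (CommRingCat.of K) ⟶ Y.left),
      y ≫ (ρ g).hom.left ≠ y)

include hfree

lemma disjoint_range : Pairwise (Function.onFun Disjoint (fun g : G => Set.range (φ Y ρ g))) := by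
  intro g h hgh
  refine Set.disjoint_left.2 (fun p hp1 hp2 => ?_)
  obtain ⟨Ω, _, _, t, ht⟩ := Sets.exists_geomPoint_scheme _ p
  have hr1 : Set.range t ⊆ Set.range (φ Y ρ g) := by
    rintro _ ⟨q, rfl⟩
    rw [Subsingleton.elim q default, ht]
    exact hp1
  have hr2 : Set.range t ⊆ Set.range (φ Y ρ h) := by
    rintro _ ⟨q, rfl⟩
    rw [Subsingleton.elim q default, ht]
    exact hp2
  let a := IsOpenImmersion.lift (φ Y ρ g) t hr1
  let b := IsOpenImmersion.lift (φ Y ρ h) t hr2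
  have ha : a ≫ φ Y ρ g = t := IsOpenImmersion.lift_fac _ _ _
  have hb : b ≫ φ Y ρ h = t := IsOpenImmersion.lift_fac _ _ _
  have hab : a = b := by
    have h1 := congrArg (· ≫ pullback.fst Y.hom Y.hom) (ha.trans hb.symm)
    simpa using h1
  have h2 : a ≫ (ρ g).hom.left = a ≫ (ρ h).hom.left := by
    have h1 := congrArg (· ≫ pullback.snd Y.hom Y.hom) (ha.trans hb.symm)
    rw [← hab] at h1
    simpa using h1
  exact hgh (orbit_injective Y ρ hfree a h2)

theorem isIso_of_card [Finite G] (n : ℕ)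
    (hn : ∀ (Ω : Type u) [Field Ω] [IsSepClosed Ω] (ξ : Spec (CommRingCat.of Ω) ⟶ X),
      Nat.card (FEt.fiberObj ξ Y) = n) (hcard : Nat.card G = n) : IsIso (Φ Y ρ) := by
  have hoi : IsOpenImmersion (Φ Y ρ) :=
    isOpenImmersion_sigmaDesc (fun _ : G => Y.left) (φ Y ρ) (disjoint_range Y ρ hfree)
  apply isIso_of_isOpenImmersion_of_opensRange_eq_top
  rw [eq_top_iff]
  intro p _
  obtain ⟨Ω, _, _, t, ht⟩ := Sets.exists_geomPoint_scheme _ p
  let s := t ≫ pullback.fst Y.hom Y.hom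
  have hfin := finite_fiber Y (s ≫ Y.hom)
  have hbij : Function.Bijective (orbit Y ρ s) :=
    (Nat.bijective_iff_injective_and_card _).2
      ⟨orbit_inj Y ρ hfree s, hcard.trans (hn Ω (s ≫ Y.hom)).symm⟩
  obtain ⟨g, hg⟩ := hbij.2 ⟨t ≫ pullback.snd Y.hom Y.hom, by
    rw [Category.assoc, Category.assoc, pullback.condition]⟩
  have hg' : s ≫ (ρ g).hom.left = t ≫ pullback.snd Y.hom Y.hom := congrArg Subtype.val hg
  have ht' : t = s ≫ φ Y ρ g := by
    apply pullback.hom_ext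
    · rw [Category.assoc, φ_fst]
      exact (Category.comp_id s).symm
    · rw [Category.assoc, φ_snd, hg']
  refine ⟨Sigma.ι (fun _ : G => Y.left) g (s default), ?_⟩
  have h5 : (s ≫ φ Y ρ g) default = p := by rw [← ht', ht]
  rw [← Scheme.Hom.comp_apply, Φ, Sigma.ι_desc]
  exact h5

theorem card_of_isIso [Finite G] [Nonempty ↥Y.left] (n : ℕ)
    (hn : ∀ (Ω : Type u) [Field Ω] [IsSepClosed Ω] (ξ : Spec (CommRingCat.of Ω) ⟶ X),
      Nat.card (FEt.fiberObj ξ Y) = n) (hiso : IsIso (Φ Y ρ)) : Nat.card G = n := by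
  obtain ⟨y₀⟩ := ‹Nonempty ↥Y.left›
  obtain ⟨Ω, _, _, s₀, -⟩ := Sets.exists_geomPoint_scheme Y.left y₀
  rw [← hn Ω (s₀ ≫ Y.hom)]
  refine Nat.card_congr (Equiv.ofBijective (orbit Y ρ s₀) ⟨orbit_inj Y ρ hfree s₀, ?_⟩)
  intro s
  let t : Spec (CommRingCat.of Ω) ⟶ pullback Y.hom Y.hom := pullback.lift s₀ s.1 s.2.symm
  let w := t ≫ inv (Φ Y ρ)
  obtain ⟨g, z, hz⟩ := (sigmaOpenCover (fun _ : G => Y.left)).exists_eq (w default)
  have hr : Set.range w ⊆ Set.range (Sigma.ι (fun _ : G => Y.left) g) := by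
    rintro _ ⟨q, rfl⟩
    rw [Subsingleton.elim q default]
    exact ⟨z, hz⟩
  let a := IsOpenImmersion.lift (Sigma.ι (fun _ : G => Y.left) g) w hr
  have ha : a ≫ Sigma.ι (fun _ : G => Y.left) g = w := IsOpenImmersion.lift_fac _ _ _
  have h1 : t = a ≫ φ Y ρ g := by
    have h0 : w ≫ Φ Y ρ = t := by
      simp only [w, Category.assoc, IsIso.inv_hom_id, Category.comp_id]
    rw [← h0, ← ha, Category.assoc, Φ, Sigma.ι_desc]
  have h2 : a = s₀ := by
    have h := congrArg (· ≫ pullback.fst Y.hom Y.hom) h1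
    simp only [Category.assoc, φ_fst, Category.comp_id] at h
    rw [← h]
    exact pullback.lift_fst _ _ _
  have h3 : s.1 = a ≫ (ρ g).hom.left := by
    have h := congrArg (· ≫ pullback.snd Y.hom Y.hom) h1
    simp only [Category.assoc, φ_snd] at h
    rw [← h]
    exact (pullback.lift_snd _ _ _).symm
  refine ⟨g, Subtype.ext ?_⟩
  rw [orbit_val, h3, h2]

end Free2

end Groth.Agent.Lib.Helper24.FreeActFEt
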