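import Groth.Agent.Lib.Helper24.FreeAct
import Groth.Agent.Lib.Helper24.FinSigma
import Groth.Agent.Lib.Helper24.QuotAtlas
import Groth.Agent.Lib.Helper24.QuotBridge
import Groth.Agent.Lib.Helper14.AlgSpDiag
import Groth.Agent.Lib.Helper14.FppfLocalInst2
set_option autoImplicit false
set_option linter.unusedSectionVars false
universe u
open CategoryTheory CategoryTheory.Limits AlgebraicGeometry Opposite

namespace Groth.Agent.Lib.Helper24.FreeActSep
open AlgSp Groth.Agent.Lib.Helper14.AS Groth.Agent.Lib.Helper24.FreeAct
open Groth.Agent.Lib.Helper24.FinSigma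

variable {S : Scheme.{u}}

/-- transport of diagonal conditions along an isomorphism of sheaves -/
lemma repWith_diag_of_iso (P : MorphismProperty Scheme.{u}) {F G : Sp S} (e : F ≅ G)
    (h : RepWith P (Limits.diag F)) : RepWith P (Limits.diag G) := by
  have : Limits.diag G = e.inv ≫ Limits.diag F ≫ prod.map e.hom e.hom := by ext <;> simp
  rw [this]
  exact MorphismProperty.RespectsIso.precomp _ _ _
    (MorphismProperty.RespectsIso.postcomp _ _ _ h)

section Main
variable {U : Over S} {G : Type u} [Group G] (ρ : G →* Aut U)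
  (hfree : ∀ (g : G) (x : U.left), g ≠ 1 →
    U.left.fromSpecResidueField x ≫ (ρ g).hom.left ≠ U.left.fromSpecResidueField x)
  (c : Cofan (fun _ : G => U)) (hc : IsColimit c) (s t : c.pt ⟶ U)
  (hs : ∀ g, c.inj g ≫ s = 𝟙 U) (ht : ∀ g, c.inj g ≫ t = (ρ g).hom)

include hs ht in
lemma inj_lift (g : G) : c.inj g ≫ prod.lift t s = Limits.diag U ≫ prod.map (ρ g).hom (𝟙 U) := by
  rw [prod.comp_lift, hs, ht]
  ext <;> simp

include hs ht in
lemma prop_inj_lift (P : MorphismProperty Scheme.{u}) [P.RespectsIso]
    (hP : P (pullback.diagonal U.hom)) (g : G) :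
    P ((c.inj g).left ≫ (prod.lift t s).left) := by
  rw [← Over.comp_left, inj_lift ρ c s t hs ht g, Over.comp_left]
  have hiso : IsIso (ρ g).hom := Iso.isIso_hom (ρ g)
  have h2 : IsIso (prod.map (ρ g).hom (𝟙 U)) := inferInstance
  have h3 : IsIso (prod.map (ρ g).hom (𝟙 U)).left :=
    inferInstanceAs (IsIso ((Over.forget S).map (prod.map (ρ g).hom (𝟙 U))))
  rw [P.cancel_right_of_respectsIso]
  rw [← diag_left_comp_prodLeftIsoPullback] at hP
  exact (P.cancel_right_of_respectsIso _ _).1 hP

include hfree hc hs ht in
lemma mono_lift : Mono (prod.lift t s) := by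
  constructor
  intro T r r' h
  refine injective_points ρ hfree c hc s t hs ht T r r' ?_ ?_
  · have := congrArg (· ≫ prod.fst) h
    simpa only [Category.assoc, prod.lift_fst] using this
  · have := congrArg (· ≫ prod.snd) h
    simpa only [Category.assoc, prod.lift_snd] using this

include hc in
lemma lift_left_eq {Y : Scheme.{u}} (j : c.pt.left ⟶ Y) :
    j = (leftIso c hc).inv ≫ Sigma.desc fun g : G => (c.inj g).left ≫ j := by
  rw [Iso.eq_inv_comp]
  refine Sigma.hom_ext _ _ fun g => ?_
  rw [← Category.assoc, ← inj_left_eq, Sigma.ι_desc]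

variable [Finite G]

include hc hs ht in
set_option backward.isDefEq.respectTransparency.types false in
theorem quasiCompact_lift (h : QuasiSeparated U.hom) : QuasiCompact (prod.lift t s).left := by
  rw [lift_left_eq c hc (prod.lift t s).left]
  have := quasiCompact_sigmaDesc (fun g : G => (c.inj g).left ≫ (prod.lift t s).left)
    (fun g => prop_inj_lift ρ c s t hs ht @QuasiCompact h.1 g)
  infer_instance

include hfree hc hs ht in
set_option backward.isDefEq.respectTransparency.types false in
theorem isClosedImmersion_lift (h : IsSeparated U.hom) :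
    IsClosedImmersion (prod.lift t s).left := by
  have hm := mono_lift ρ hfree c hc s t hs ht
  have hm' : Mono (prod.lift t s).left := inferInstance
  have e := lift_left_eq c hc (prod.lift t s).left
  have e' : (Sigma.desc fun g : G => (c.inj g).left ≫ (prod.lift t s).left) =
      (leftIso c hc).hom ≫ (prod.lift t s).left := by
    rw [← Iso.inv_comp_eq]; exact e.symm
  have hm'' : Mono (Sigma.desc fun g : G => (c.inj g).left ≫ (prod.lift t s).left) := by
    rw [e']; infer_instance
  have := isClosedImmersion_sigmaDesc (fun g : G => (c.inj g).left ≫ (prod.lift t s).left)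
    (fun g => prop_inj_lift ρ c s t hs ht @IsClosedImmersion h.1 g)
    (Scheme.Hom.injective _)
  rw [e]
  infer_instance

end Main

end Groth.Agent.Lib.Helper24.FreeActSep
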