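import Mathlib

/-!
# Descent of subspaces stable under a semilinear endomorphism (helper24)
-/

set_option autoImplicit false

namespace Groth.Agent.Lib.Helper24.FrobDesc

open Module

section

variable {k K : Type*} [Field k] [Field K] [Algebra k K]
  {M N : Type*} [AddCommGroup M] [Module k M] [AddCommGroup N] [Module k N] [Module K N]
  [IsScalarTower k K N]
  {ε : M →ₗ[k] N} (ibc : IsBaseChange K ε)
  (σ : K →+* K) (hσ : ∀ c : K, σ c = c → c ∈ Set.range (algebraMap k K))
  (τ : N →+ N) (hτs : ∀ (c : K) (n : N), τ (c • n) = σ c • τ n) (hτε : ∀ m, τ (ε m) = ε m)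
  (V : Submodule K N) (hV : ∀ x ∈ V, τ x ∈ V)

/-- the basis of `N` induced from a basis of `M` -/
noncomputable def bas : Basis (Basis.ofVectorSpaceIndex k M) K N :=
  ibc.basis (Basis.ofVectorSpace k M)

include hτs hτε in
theorem repr_tau (x : N) (i) : (bas ibc).repr (τ x) i = σ ((bas ibc).repr x i) := by
  have hb : ∀ j, τ ((bas ibc) j) = (bas ibc) j := fun j => by
    rw [bas, IsBaseChange.basis_apply, hτε]
  have h1 : τ x = ((bas ibc).repr x).sum fun j a => σ a • (bas ibc) j := by
    conv_lhs => rw [← (bas ibc).linearCombination_repr x, Finsupp.linearCombination_apply]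
    rw [map_finsuppSum]
    refine Finsupp.sum_congr fun j _ => ?_
    rw [hτs, hb]
  have h2 : ((bas ibc).repr x).sum (fun j a => σ a • (bas ibc) j) =
      Finsupp.linearCombination K (bas ibc)
        (Finsupp.mapRange σ (map_zero σ) ((bas ibc).repr x)) := by
    rw [Finsupp.linearCombination_apply, Finsupp.sum_mapRange_index]
    intro j
    exact zero_smul _ _
  rw [h1, h2, Basis.repr_linearCombination, Finsupp.mapRange_apply]

/-- rational vectors are in the image of `ε` -/
theorem mem_range_of_rat (r : N)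
    (hr : ∀ i, (bas ibc).repr r i ∈ Set.range (algebraMap k K)) : r ∈ Set.range ε := by
  classical
  let g : K → k := fun a => if h : ∃ c, algebraMap k K c = a then h.choose else 0
  have hg : ∀ a, a ∈ Set.range (algebraMap k K) → algebraMap k K (g a) = a := by
    rintro a ⟨c, hc⟩
    have h : ∃ c, algebraMap k K c = a := ⟨c, hc⟩
    simp only [g, dif_pos h]
    exact h.choose_spec
  have hg0 : g 0 = 0 := by
    have := hg 0 ⟨0, map_zero _⟩
    exact (algebraMap k K).injective (this.trans (map_zero _).symm)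
  let c' := Finsupp.mapRange g hg0 ((bas ibc).repr r)
  refine ⟨(Basis.ofVectorSpace k M).repr.symm c', ?_⟩
  apply (bas ibc).repr.injective
  rw [bas, IsBaseChange.basis_repr_comp, LinearEquiv.apply_symm_apply]
  ext i
  simp only [Finsupp.mapRange.linearMap_apply, Finsupp.mapRange_apply, c',
    Algebra.linearMap_apply]
  exact hg _ (hr i)

theorem card_lt {ι : Type*} {s t : Finset ι} {i₀ : ι} (hi : i₀ ∈ t) (hst : s ⊆ t)
    (h0 : i₀ ∉ s) : s.card < t.card :=
  Finset.card_lt_card ⟨hst, fun h => h0 (h hi)⟩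

include hσ hτs hτε hV in
theorem exists_rat (n : ℕ) : ∀ x ∈ V, ((bas ibc).repr x).support.card ≤ n →
    ∀ i₀ ∈ ((bas ibc).repr x).support, ∃ r ∈ V,
      (∀ i, (bas ibc).repr r i ∈ Set.range (algebraMap k K)) ∧
      ((bas ibc).repr r).support ⊆ ((bas ibc).repr x).support ∧ (bas ibc).repr r i₀ = 1 := by
  induction n with
  | zero =>
    intro x _ hc i₀ hi₀
    rw [Nat.le_zero, Finset.card_eq_zero] at hc
    rw [hc] at hi₀
    exact absurd hi₀ (Finset.notMem_empty _)
  | succ n ih =>
    intro x hx hc i₀ hi₀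
    set b := bas ibc with hb
    have hc0 : b.repr x i₀ ≠ 0 := Finsupp.mem_support_iff.mp hi₀
    -- normalise
    obtain ⟨x₁, hx₁⟩ : ∃ x₁, x₁ = (b.repr x i₀)⁻¹ • x := ⟨_, rfl⟩
    have hx₁V : x₁ ∈ V := hx₁ ▸ V.smul_mem _ hx
    have hx₁r : ∀ i, b.repr x₁ i = (b.repr x i₀)⁻¹ * b.repr x i := fun i => by
      rw [hx₁, map_smul, Finsupp.smul_apply, smul_eq_mul]
    have hx₁s : (b.repr x₁).support = (b.repr x).support := by
      ext i
      rw [Finsupp.mem_support_iff, Finsupp.mem_support_iff, hx₁r]
      exact ⟨fun h h' => h (by rw [h', mul_zero]), fun h => mul_ne_zero (inv_ne_zero hc0) h⟩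
    have hx₁0 : b.repr x₁ i₀ = 1 := by rw [hx₁r, inv_mul_cancel₀ hc0]
    -- y
    obtain ⟨y, hy⟩ : ∃ y, y = x₁ - τ x₁ := ⟨_, rfl⟩
    have hyV : y ∈ V := hy ▸ V.sub_mem hx₁V (hV _ hx₁V)
    have hyr : ∀ i, b.repr y i = b.repr x₁ i - σ (b.repr x₁ i) := fun i => by
      rw [hy, map_sub, Finsupp.sub_apply, hb, repr_tau ibc σ τ hτs hτε]
    have hys : (b.repr y).support ⊆ (b.repr x₁).support := by
      intro i hi
      rw [Finsupp.mem_support_iff] at hi ⊢
      intro h
      apply hi
      rw [hyr, h, map_zero, sub_zero]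
    have hy0 : i₀ ∉ (b.repr y).support := by
      rw [Finsupp.mem_support_iff, not_not, hyr, hx₁0, map_one, sub_self]
    have hi₀' : i₀ ∈ (b.repr x₁).support := by rw [hx₁s]; exact hi₀
    have hyc : (b.repr y).support.card ≤ n := by
      have := card_lt hi₀' hys hy0
      rw [hx₁s] at this
      omega
    by_cases hyz : b.repr y = 0
    · -- x₁ rational
      refine ⟨x₁, hx₁V, fun i => hσ _ ?_, hx₁s.le, hx₁0⟩
      have := hyr i
      rw [hyz, Finsupp.zero_apply] at this
      exact (sub_eq_zero.mp this.symm).symm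
    · obtain ⟨i₁, hi₁⟩ := Finsupp.support_nonempty_iff.mpr hyz
      obtain ⟨r', hr'V, hr'rat, hr's, hr'1⟩ := ih y hyV hyc i₁ hi₁
      obtain ⟨x₂, hx₂⟩ : ∃ x₂, x₂ = x₁ - b.repr x₁ i₁ • r' := ⟨_, rfl⟩
      have hx₂V : x₂ ∈ V := hx₂ ▸ V.sub_mem hx₁V (V.smul_mem _ hr'V)
      have hx₂r : ∀ i, b.repr x₂ i = b.repr x₁ i - b.repr x₁ i₁ * b.repr r' i := fun i => by
        rw [hx₂, map_sub, map_smul, Finsupp.sub_apply, Finsupp.smul_apply, smul_eq_mul]
      have hx₂s : (b.repr x₂).support ⊆ (b.repr x₁).support := by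
        intro i hi
        rw [Finsupp.mem_support_iff] at hi ⊢
        intro h
        apply hi
        have hr'i : b.repr r' i = 0 := by
          by_contra h'
          have := hys (hr's (Finsupp.mem_support_iff.mpr h'))
          exact (Finsupp.mem_support_iff.mp this) h
        rw [hx₂r, h, hr'i, mul_zero, sub_zero]
      have hx₂1 : i₁ ∉ (b.repr x₂).support := by
        rw [Finsupp.mem_support_iff, not_not, hx₂r, hr'1, mul_one, sub_self]
      have hr'0 : b.repr r' i₀ = 0 := by
        by_contra h'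
        exact hy0 (hr's (Finsupp.mem_support_iff.mpr h'))
      have hx₂0 : b.repr x₂ i₀ = 1 := by rw [hx₂r, hr'0, mul_zero, sub_zero, hx₁0]
      have hi₁' : i₁ ∈ (b.repr x₁).support := hys hi₁
      have hx₂c : (b.repr x₂).support.card ≤ n := by
        have := card_lt hi₁' hx₂s hx₂1
        rw [hx₁s] at this
        omega
      have hi₀'' : i₀ ∈ (b.repr x₂).support := by
        rw [Finsupp.mem_support_iff, hx₂0]; exact one_ne_zero
      obtain ⟨r, hrV, hrrat, hrs, hr1⟩ := ih x₂ hx₂V hx₂c i₀ hi₀''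
      exact ⟨r, hrV, hrrat, hrs.trans (hx₂s.trans hx₁s.le), hr1⟩

include hσ hτs hτε hV in
theorem mem_span_aux (n : ℕ) : ∀ x ∈ V, ((bas ibc).repr x).support.card ≤ n →
    x ∈ Submodule.span K (ε '' {m | ε m ∈ V}) := by
  induction n with
  | zero =>
    intro x _ hc
    rw [Nat.le_zero, Finset.card_eq_zero, Finsupp.support_eq_empty] at hc
    have : x = 0 := (bas ibc).repr.injective (hc.trans (map_zero _).symm)
    rw [this]
    exact Submodule.zero_mem _
  | succ n ih =>
    intro x hx hc
    set b := bas ibc with hb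
    by_cases hz : b.repr x = 0
    · have : x = 0 := b.repr.injective (hz.trans (map_zero _).symm)
      rw [this]
      exact Submodule.zero_mem _
    · obtain ⟨i₀, hi₀⟩ := Finsupp.support_nonempty_iff.mpr hz
      obtain ⟨r, hrV, hrrat, hrs, hr1⟩ :=
        exists_rat ibc σ hσ τ hτs hτε V hV (n + 1) x hx hc i₀ hi₀
      obtain ⟨m, hm⟩ := mem_range_of_rat ibc r hrrat
      have hrS : r ∈ Submodule.span K (ε '' {m | ε m ∈ V}) :=
        Submodule.subset_span ⟨m, by simpa only [Set.mem_ofPred_eq, hm] using hrV, hm⟩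
      obtain ⟨x', hx'⟩ : ∃ x', x' = x - b.repr x i₀ • r := ⟨_, rfl⟩
      have hx'V : x' ∈ V := hx' ▸ V.sub_mem hx (V.smul_mem _ hrV)
      have hx'r : ∀ i, b.repr x' i = b.repr x i - b.repr x i₀ * b.repr r i := fun i => by
        rw [hx', map_sub, map_smul, Finsupp.sub_apply, Finsupp.smul_apply, smul_eq_mul]
      have hx's : (b.repr x').support ⊆ (b.repr x).support := by
        intro i hi
        rw [Finsupp.mem_support_iff] at hi ⊢
        intro h
        apply hi
        have hri : b.repr r i = 0 := by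
          by_contra h'
          exact (Finsupp.mem_support_iff.mp (hrs (Finsupp.mem_support_iff.mpr h'))) h
        rw [hx'r, h, hri, mul_zero, sub_zero]
      have hx'0 : i₀ ∉ (b.repr x').support := by
        rw [Finsupp.mem_support_iff, not_not, hx'r, hr1, mul_one, sub_self]
      have hx'c : (b.repr x').support.card ≤ n := by
        have := card_lt hi₀ hx's hx'0
        omega
      have h1 := ih x' hx'V hx'c
      have : x = x' + b.repr x i₀ • r := by rw [hx']; abel
      rw [this]
      exact Submodule.add_mem _ h1 (Submodule.smul_mem _ _ hrS)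

include ibc hσ hτs hτε hV in
/-- **Descent**: a `K`-subspace of `K ⊗ M` stable under a `σ`-semilinear map fixing `M`, where the
fixed field of `σ` is `k`, is spanned by its rational vectors. -/
theorem mem_span_of_stable (x : N) (hx : x ∈ V) :
    x ∈ Submodule.span K (ε '' {m | ε m ∈ V}) :=
  mem_span_aux ibc σ hσ τ hτs hτε V hV _ x hx le_rfl

end

end Groth.Agent.Lib.Helper24.FrobDesc
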