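import Mathlib
import Groth.Agent.Lib.Helper24.FrobDescA

/-!
# Descent of ideals of `K ⊗_k A` stable under `σ ⊗ id` (helper24)
-/

set_option autoImplicit false

namespace Groth.Agent.Lib.Helper24.FrobDesc

open CategoryTheory CategoryTheory.Limits

universe u

theorem mem_range_of_pow_card_eq {k K : Type*} [Field k] [Fintype k] [Field K] [Algebra k K]
    (c : K) (h : c ^ Fintype.card k = c) : c ∈ Set.range (algebraMap k K) := by
  classical
  set q := Fintype.card k with hq
  have hq1 : 1 < q := Fintype.one_lt_card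
  have hP0 : (Polynomial.X ^ q - Polynomial.X : Polynomial K) ≠ 0 :=
    FiniteField.X_pow_card_sub_X_ne_zero K hq1
  have hdeg : (Polynomial.X ^ q - Polynomial.X : Polynomial K).natDegree = q :=
    FiniteField.X_pow_card_sub_X_natDegree_eq K hq1
  let S : Finset K := Finset.univ.image (algebraMap k K)
  have hS : S ⊆ (Polynomial.X ^ q - Polynomial.X : Polynomial K).roots.toFinset := by
    intro x hx
    obtain ⟨a, -, rfl⟩ := Finset.mem_image.mp hx
    rw [Multiset.mem_toFinset, Polynomial.mem_roots hP0, Polynomial.IsRoot.def]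
    simp only [Polynomial.eval_sub, Polynomial.eval_pow, Polynomial.eval_X]
    rw [← map_pow, hq, FiniteField.pow_card, sub_self]
  have hcS : S.card = q := by
    rw [Finset.card_image_of_injective _ (algebraMap k K).injective, Finset.card_univ]
  have hle : (Polynomial.X ^ q - Polynomial.X : Polynomial K).roots.toFinset.card ≤ S.card := by
    rw [hcS]
    calc _ ≤ Multiset.card (Polynomial.X ^ q - Polynomial.X : Polynomial K).roots :=
          Multiset.toFinset_card_le _
      _ ≤ (Polynomial.X ^ q - Polynomial.X : Polynomial K).natDegree := Polynomial.card_roots' _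
      _ = q := hdeg
  have heq := Finset.eq_of_subset_of_card_le hS hle
  have hc : c ∈ (Polynomial.X ^ q - Polynomial.X : Polynomial K).roots.toFinset := by
    rw [Multiset.mem_toFinset, Polynomial.mem_roots hP0, Polynomial.IsRoot.def]
    simp only [Polynomial.eval_sub, Polynomial.eval_pow, Polynomial.eval_X]
    rw [h, sub_self]
  rw [← heq] at hc
  obtain ⟨a, -, rfl⟩ := Finset.mem_image.mp hc
  exact ⟨a, rfl⟩

theorem ideal_descent {k K A B : Type u} [Field k] [Field K] [CommRing A] [CommRing B]
    (i : k →+* K) (α : k →+* A) (κ : K →+* B) (β : A →+* B)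
    (hPO : IsPushout (CommRingCat.ofHom i) (CommRingCat.ofHom α) (CommRingCat.ofHom κ)
      (CommRingCat.ofHom β))
    (σ : K →+* K) (hσ : ∀ c, σ c = c → c ∈ Set.range i)
    (τ : B →+* B) (hτK : ∀ c, τ (κ c) = κ (σ c)) (hτA : ∀ a, τ (β a) = β a)
    (I : Ideal B) (hI : ∀ x ∈ I, τ x ∈ I) :
    ∀ x ∈ I, x ∈ Ideal.span (β '' {a | β a ∈ I}) := by
  have hw : β.comp α = κ.comp i := by
    have := hPO.w
    have h2 := congrArg CommRingCat.Hom.hom this
    simpa using h2.symm
  algebraize [i, α, κ, β, β.comp α]
  have : IsScalarTower k A B := .of_algebraMap_eq' rfl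
  have : IsScalarTower k K B := .of_algebraMap_eq' hw
  have hP : Algebra.IsPushout k K A B := CommRingCat.isPushout_iff_isPushout.mp hPO
  have ibc := hP.out
  intro x hx
  have hτs : ∀ (c : K) (n : B), τ.toAddMonoidHom (c • n) = σ c • τ.toAddMonoidHom n := by
    intro c n
    change τ (c • n) = σ c • τ n
    rw [Algebra.smul_def, Algebra.smul_def, map_mul]
    congr 1
    exact hτK c
  have h := mem_span_of_stable ibc σ hσ τ.toAddMonoidHom hτs (fun m => hτA m)
    (I.restrictScalars K) (fun y hy => hI y hy) x hx
  have hle : Submodule.span K ((IsScalarTower.toAlgHom k A B).toLinearMap ''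
      {m | (IsScalarTower.toAlgHom k A B).toLinearMap m ∈ I.restrictScalars K}) ≤
      (Ideal.span (β '' {a | β a ∈ I})).restrictScalars K := by
    rw [Submodule.span_le]
    rintro _ ⟨m, hm, rfl⟩
    exact Ideal.subset_span ⟨m, hm, rfl⟩
  exact hle h

end Groth.Agent.Lib.Helper24.FrobDesc
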