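import Mathlib
import Groth.Prelude.Def_Frob

/-!
# Iterated absolute Frobenius: sections go to `p^m`-th powers (helper24)
-/

set_option backward.isDefEq.respectTransparency false
set_option backward.isDefEq.respectTransparency.types false
set_option autoImplicit false

namespace Groth.Agent.Lib.Helper24.FrobTwist

open CategoryTheory CategoryTheory.Limits AlgebraicGeometry

universe u

/-! ### ring level -/

theorem iterate_powHom (p : ℕ) [Fact p.Prime] (R : Type u) [CommRing R] (h : (p : R) = 0)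
    (m : ℕ) (a : R) : (FrobSch.powHom p R h)^[m] a = a ^ (p ^ m) := by
  induction m with
  | zero => simp
  | succ m ih =>
    rw [Function.iterate_succ_apply', ih, FrobSch.powHom_apply, ← pow_mul, pow_succ]

theorem add_pow_q (p : ℕ) [Fact p.Prime] (R : Type u) [CommRing R] (h : (p : R) = 0)
    (m : ℕ) (a b : R) : (a + b) ^ (p ^ m) = a ^ (p ^ m) + b ^ (p ^ m) := by
  rw [← iterate_powHom p R h, ← iterate_powHom p R h, ← iterate_powHom p R h]
  exact iterate_map_add _ _ _ _

theorem neg_pow_q (p : ℕ) [Fact p.Prime] (R : Type u) [CommRing R] (h : (p : R) = 0)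
    (m : ℕ) (a : R) : (-a) ^ (p ^ m) = -(a ^ (p ^ m)) := by
  rw [← iterate_powHom p R h, ← iterate_powHom p R h]
  exact iterate_map_neg _ _ _

/-! ### endomorphisms which are the identity on points and a `k`-th power map on sections -/

structure IsPowEnd {X : Scheme.{u}} (F : X ⟶ X) (k : ℕ) : Prop where
  base : ∀ x : X, F x = x
  app : ∀ (U V : X.Opens) (h' : V ≤ F ⁻¹ᵁ U) (h : V ≤ U) (s : Γ(X, U)),
    (F.appLE U V h').hom s = ((X.presheaf.map (homOfLE h).op).hom s) ^ k

namespace IsPowEnd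

variable {X : Scheme.{u}}

theorem le_of_le_preimage {F : X ⟶ X} {k : ℕ} (hF : IsPowEnd F k) {U V : X.Opens}
    (h' : V ≤ F ⁻¹ᵁ U) : V ≤ U := by
  intro x hx
  have := h' hx
  change F x ∈ U at this
  rwa [hF.base] at this

theorem le_preimage {F : X ⟶ X} {k : ℕ} (hF : IsPowEnd F k) (U : X.Opens) : U ≤ F ⁻¹ᵁ U := by
  intro x hx
  change F x ∈ U
  rwa [hF.base]

theorem id : IsPowEnd (𝟙 X) 1 where
  base _ := rfl
  app U V h' h s := by
    simp [Scheme.Hom.appLE]

theorem frob (p : ℕ) [Fact p.Prime] [FrobSch.IsCharP X p] : IsPowEnd (FrobSch.frob X p) p where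
  base _ := rfl
  app U V h' h s := by
    change (X.presheaf.map (homOfLE h').op).hom ((FrobSch.frob X p).app U s) = _
    rw [FrobSch.frob_app, map_pow]
    rfl

theorem comp {F G : X ⟶ X} {k l : ℕ} (hF : IsPowEnd F k) (hG : IsPowEnd G l) :
    IsPowEnd (F ≫ G) (l * k) where
  base x := by
    change G (F x) = x
    rw [hF.base, hG.base]
  app U V h' h s := by
    have hVW : V ≤ F ⁻¹ᵁ (G ⁻¹ᵁ U) := h'
    have hW : G ⁻¹ᵁ U ≤ U := hG.le_of_le_preimage le_rfl
    have hVW' : V ≤ G ⁻¹ᵁ U := hF.le_of_le_preimage hVW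
    have e : (F ≫ G).appLE U V h' = G.appLE U (G ⁻¹ᵁ U) le_rfl ≫ F.appLE (G ⁻¹ᵁ U) V hVW := by
      rw [Scheme.Hom.appLE_comp_appLE]
    rw [e, CommRingCat.hom_comp, RingHom.comp_apply, hG.app U _ le_rfl hW s,
      hF.app _ V hVW hVW', map_pow, ← pow_mul]
    congr 1
    rw [← RingHom.comp_apply, ← CommRingCat.hom_comp, ← Functor.map_comp]
    rfl

theorem frobPow (p : ℕ) [Fact p.Prime] [FrobSch.IsCharP X p] (m : ℕ) :
    IsPowEnd (End.asHom (End.of (FrobSch.frob X p) ^ m)) (p ^ m) := by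
  induction m with
  | zero =>
    rw [pow_zero, pow_zero]
    exact id
  | succ m ih =>
    rw [pow_succ, pow_succ]
    exact (frob p).comp ih

end IsPowEnd

end Groth.Agent.Lib.Helper24.FrobTwist
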