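import Mathlib
import Groth.Prelude.Def_Frob
import Groth.Agent.Lib.Helper24.FrobTwistA
import Groth.Agent.Lib.Helper18.GFl5

/-!
# Geometric Frobenius twist on `C₀ ×_{k₀} K`: sections over cylinders go to `q`-th powers (helper24)
-/

set_option backward.isDefEq.respectTransparency false
set_option backward.isDefEq.respectTransparency.types false
set_option autoImplicit false

namespace Groth.Agent.Lib.Helper24.FrobTwist

open CategoryTheory CategoryTheory.Limits AlgebraicGeometry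

universe u

theorem appLE_eq_of_eq {X Y : Scheme.{u}} {f g : X ⟶ Y} (e : f = g) (U : Y.Opens) (V : X.Opens)
    (h : V ≤ f ⁻¹ᵁ U) : f.appLE U V h = g.appLE U V (e ▸ h) := by
  subst e; rfl

section

variable {C C₀ : Scheme.{u}} (p : ℕ) [Fact p.Prime]
  {k₀ : Type u} [Field k₀] {K : Type u} [Field K] [Algebra k₀ K] [IsAlgClosed K]
  {f₀ : C₀ ⟶ Spec (CommRingCat.of k₀)} [FrobSch.IsCharP C₀ p]
  {πC₀ : C ⟶ C₀} {πK : C ⟶ Spec (CommRingCat.of K)}
  (hC : IsPullback πC₀ πK f₀ (Spec.map (CommRingCat.ofHom (algebraMap k₀ K))))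
  (m : ℕ) {Fr : C ⟶ C}
  (hFr₀ : Fr ≫ πC₀ = πC₀ ≫ End.asHom (End.of (FrobSch.frob C₀ p) ^ m))
  (hFrK : Fr ≫ πK = πK)

/-- the cylinder over an open of `C₀` -/
noncomputable def Cyl (πC₀ : C ⟶ C₀) (πK : C ⟶ Spec (CommRingCat.of K)) (U₀ : C₀.Opens) : C.Opens :=
  πC₀ ⁻¹ᵁ U₀ ⊓ πK ⁻¹ᵁ ⊤

omit [IsAlgClosed K] in
include hFr₀ in
theorem cyl_le (U₀ : C₀.Opens) : Cyl πC₀ πK U₀ ≤ Fr ⁻¹ᵁ (Cyl πC₀ πK U₀) := by
  intro y hy
  refine ⟨?_, trivial⟩
  have h1 : (Fr ≫ πC₀) y = (πC₀ ≫ End.asHom (End.of (FrobSch.frob C₀ p) ^ m)) y := by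
    rw [hFr₀]
  have h2 : πC₀ (Fr y) = πC₀ y := by
    change (Fr ≫ πC₀) y = _
    rw [h1]
    exact (IsPowEnd.frobPow (X := C₀) p m).base (πC₀ y)
  change πC₀ (Fr y) ∈ U₀
  rw [h2]
  exact hy.1

omit [IsAlgClosed K] in
include hC in
theorem isAffineOpen_cyl {U₀ : C₀.Opens} (hU₀ : IsAffineOpen U₀) :
    IsAffineOpen (Cyl πC₀ πK U₀) :=
  Groth.Agent.Lib.Helper18.GFl.isAffineOpen_of_isPullback hC (US := ⊤) (UT := ⊤) (W := U₀)
    (isAffineOpen_top _) (isAffineOpen_top _) hU₀ (fun _ _ => trivial) (fun _ _ => trivial) rfl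

include hC hFr₀ hFrK in
theorem exists_pow_eq {U₀ : C₀.Opens} (hU₀ : IsAffineOpen U₀) (a : Γ(C, Cyl πC₀ πK U₀)) :
    ∃ α : Γ(C, Cyl πC₀ πK U₀),
      (Fr.appLE (Cyl πC₀ πK U₀) (Cyl πC₀ πK U₀) (cyl_le p m hFr₀ U₀)).hom a = α ^ (p ^ m) := by
  have hPO := Groth.Agent.Lib.Helper18.GFl.isPushout_appLE_of_isPullback hC (US := ⊤) (UT := ⊤)
    (W := U₀) (isAffineOpen_top _) (isAffineOpen_top _) hU₀ (fun _ _ => trivial)
    (fun _ _ => trivial) (UY := Cyl πC₀ πK U₀) rfl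
  have hcl := CommRingCat.closure_range_union_range_eq_top_of_isPushout hPO
  have : FrobSch.IsCharP C p := FrobSch.IsCharP.of_hom πC₀ p
  have hp0 : (p : Γ(C, Cyl πC₀ πK U₀)) = 0 := FrobSch.natCast_eq_zero_app C p _
  have hq : 0 < p ^ m := pow_pos (Fact.out : p.Prime).pos m
  have ha : a ∈ Subring.closure _ := hcl ▸ Subring.mem_top a
  induction ha using Subring.closure_induction with
  | mem x hx =>
    rcases hx with ⟨s, rfl⟩ | ⟨l, rfl⟩
    · refine ⟨(πC₀.appLE U₀ (Cyl πC₀ πK U₀) inf_le_left).hom s, ?_⟩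
      have e1 : πC₀.appLE U₀ (Cyl πC₀ πK U₀) inf_le_left ≫
          Fr.appLE (Cyl πC₀ πK U₀) (Cyl πC₀ πK U₀) (cyl_le p m hFr₀ U₀) =
          (End.asHom (End.of (FrobSch.frob C₀ p) ^ m)).appLE U₀ U₀
            ((IsPowEnd.frobPow (X := C₀) p m).le_preimage U₀) ≫
          πC₀.appLE U₀ (Cyl πC₀ πK U₀) inf_le_left := by
        rw [Scheme.Hom.appLE_comp_appLE, Scheme.Hom.appLE_comp_appLE]
        exact appLE_eq_of_eq hFr₀ _ _ _
      have e2 := congrArg (fun φ => φ.hom s) e1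
      simp only [CommRingCat.hom_comp, RingHom.comp_apply] at e2
      refine e2.trans ?_
      rw [(IsPowEnd.frobPow (X := C₀) p m).app U₀ U₀ _ le_rfl s, map_pow]
      congr 2
      have : (homOfLE (le_refl U₀)).op = 𝟙 _ := rfl
      rw [this, C₀.presheaf.map_id]
      rfl
    · let eK := (Scheme.ΓSpecIso (CommRingCat.of K)).commRingCatIsoToRingEquiv
      obtain ⟨z, hz⟩ := IsAlgClosed.exists_pow_nat_eq (eK l) hq
      refine ⟨(πK.appLE ⊤ (Cyl πC₀ πK U₀) inf_le_right).hom (eK.symm z), ?_⟩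
      have e1 : πK.appLE ⊤ (Cyl πC₀ πK U₀) inf_le_right ≫
          Fr.appLE (Cyl πC₀ πK U₀) (Cyl πC₀ πK U₀) (cyl_le p m hFr₀ U₀) =
          πK.appLE ⊤ (Cyl πC₀ πK U₀) inf_le_right := by
        rw [Scheme.Hom.appLE_comp_appLE]
        exact appLE_eq_of_eq hFrK _ _ _
      have e2 := congrArg (fun φ => φ.hom l) e1
      simp only [CommRingCat.hom_comp, RingHom.comp_apply] at e2
      refine e2.trans ?_
      rw [← map_pow, ← map_pow, hz, RingEquiv.symm_apply_apply]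
  | zero => exact ⟨0, by rw [map_zero, zero_pow hq.ne']⟩
  | one => exact ⟨1, by rw [map_one, one_pow]⟩
  | add x y _ _ hx hy =>
    obtain ⟨α, hα⟩ := hx
    obtain ⟨β, hβ⟩ := hy
    exact ⟨α + β, by rw [map_add, hα, hβ, add_pow_q p _ hp0]⟩
  | neg x _ hx =>
    obtain ⟨α, hα⟩ := hx
    exact ⟨-α, by rw [map_neg, hα, neg_pow_q p _ hp0]⟩
  | mul x y _ _ hx hy =>
    obtain ⟨α, hα⟩ := hx
    obtain ⟨β, hβ⟩ := hy
    exact ⟨α * β, by rw [map_mul, hα, hβ, mul_pow]⟩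

end

end Groth.Agent.Lib.Helper24.FrobTwist
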