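import Mathlib
import Groth.Prelude.Def_FinFr
import Groth.Prelude.Def_Frob
import Groth.Agent.Lib.Helper24.FrobDescB
import Groth.Agent.Lib.Helper24.FrobTwistB

/-!
# A closed subset of `X ×_k k̄` descends to `X` iff it is stable under the geometric Frobenius
(helper24)
-/

set_option backward.isDefEq.respectTransparency false
set_option backward.isDefEq.respectTransparency.types false
set_option autoImplicit false
set_option linter.style.haveILetI false

namespace Groth.Agent.Lib.Helper24.FrobDesc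

open CategoryTheory CategoryTheory.Limits AlgebraicGeometry

universe u

/-- sections vanishing at a point -/
noncomputable def vanishAt {Y : Scheme.{u}} (U : Y.Opens) (w : Y) (hw : w ∈ U) : Ideal Γ(Y, U) :=
  Ideal.comap (Y.presheaf.germ U w hw).hom (IsLocalRing.maximalIdeal _)

theorem mem_vanishAt {Y : Scheme.{u}} (U : Y.Opens) (w : Y) (hw : w ∈ U) (b : Γ(Y, U)) :
    b ∈ vanishAt U w hw ↔ w ∉ Y.basicOpen b := by
  rw [vanishAt, Ideal.mem_comap, IsLocalRing.mem_maximalIdeal, mem_nonunits_iff,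
    Scheme.mem_basicOpen _ _ _ hw]

instance {Y : Scheme.{u}} (U : Y.Opens) (w : Y) (hw : w ∈ U) : (vanishAt U w hw).IsPrime := by
  rw [vanishAt]; infer_instance

section

variable {k : Type u} [Field k] [Finite k] {X : Scheme.{u}} (f : X ⟶ Spec (CommRingCat.of k))
  (FX : X ⟶ X) (hFb : FX.base = 𝟙 _) (hle : ∀ U : X.Opens, U ≤ FX ⁻¹ᵁ U)
  (hFapp : ∀ (U : X.Opens) (s : Γ(X, U)), (FX.appLE U U (hle U)).hom s = s ^ Nat.card k)
  (F : FinFr.ext (AlgebraicClosure k) f ⟶ FinFr.ext (AlgebraicClosure k) f)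
  (hF1 : F ≫ FinFr.extπ (AlgebraicClosure k) f = FinFr.extπ (AlgebraicClosure k) f ≫ FX)
  (hF2 : F ≫ FinFr.extStr (AlgebraicClosure k) f = FinFr.extStr (AlgebraicClosure k) f)

local notation "K" => AlgebraicClosure k
local notation "Xb" => FinFr.ext (AlgebraicClosure k) f
local notation "π" => FinFr.extπ (AlgebraicClosure k) f
local notation "st" => FinFr.extStr (AlgebraicClosure k) f

omit [Finite k] in
include hFb hF1 in
theorem pi_F (y : Xb) : (π).base (F.base y) = (π).base y := by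
  have h1 : (F ≫ π).base y = (π ≫ FX).base y := by rw [hF1]
  change (F ≫ π).base y = _
  rw [h1]
  change FX.base ((π).base y) = _
  rw [hFb]
  rfl

omit [Finite k] in
include hFb hF1 in
theorem cylF (U₀ : X.Opens) :
    FrobTwist.Cyl (π) (st) U₀ ≤ F ⁻¹ᵁ (FrobTwist.Cyl (π) (st) U₀) := by
  intro y hy
  refine ⟨?_, trivial⟩
  change (π).base (F.base y) ∈ U₀
  rw [pi_F f FX hFb F hF1]
  exact hy.1

include hFb hFapp hF1 hF2 in
theorem mem_of_fibre (W : Set Xb) (hW : IsClosed W) (hFW : F.base '' W ⊆ W)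
    (w w' : Xb) (hw : w ∈ W) (hww' : (π).base w' = (π).base w) : w' ∈ W := by
  classical
  obtain ⟨p, hp⟩ := CharP.exists k
  haveI := hp
  haveI : Fintype k := Fintype.ofFinite k
  haveI hpp : Fact p.Prime := ⟨CharP.char_is_prime k p⟩
  obtain ⟨e, -, hcard⟩ := FiniteField.card k p
  have hq : Nat.card k = p ^ (e : ℕ) := by rw [Nat.card_eq_fintype_card, hcard]
  haveI : CharP K p := charP_of_injective_algebraMap (algebraMap k K).injective p
  obtain ⟨_, ⟨U₀, hU₀, rfl⟩, hxU₀, -⟩ :=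
    X.isBasis_affineOpens.exists_subset_of_mem_open (Set.mem_univ ((π).base w)) isOpen_univ
  have hC : IsPullback (π) (st) f (FinFr.specι k K) := IsPullback.of_hasPullback _ _
  set Cy := FrobTwist.Cyl (π) (st) U₀ with hCy
  have hCyA : IsAffineOpen Cy :=
    Groth.Agent.Lib.Helper18.GFl.isAffineOpen_of_isPullback hC (US := ⊤) (UT := ⊤) (W := U₀)
      (isAffineOpen_top _) (isAffineOpen_top _) hU₀ (fun _ _ => trivial) (fun _ _ => trivial) rfl
  have hwC : w ∈ Cy := ⟨hxU₀, trivial⟩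
  have hw'C : w' ∈ Cy := ⟨by change (π).base w' ∈ U₀; rw [hww']; exact hxU₀, trivial⟩
  have hcyl := cylF f FX hFb F hF1 U₀
  by_contra hw'W
  let V : (Xb).Opens := ⟨Wᶜ, hW.isOpen_compl⟩
  obtain ⟨b, hbV, hw'b⟩ := hCyA.exists_basicOpen_le (V := V) ⟨w', hw'W⟩ hw'C
  -- ring data
  let β := ((π).appLE U₀ Cy inf_le_left).hom
  let κ := ((st).appLE ⊤ Cy inf_le_right).hom.comp
    (Scheme.ΓSpecIso (CommRingCat.of K)).inv.hom
  let α := (f.appLE ⊤ U₀ (fun _ _ => trivial)).hom.comp
    (Scheme.ΓSpecIso (CommRingCat.of k)).inv.hom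
  have hPO₀ := Groth.Agent.Lib.Helper18.GFl.isPushout_appLE_of_isPullback hC (US := ⊤) (UT := ⊤)
    (W := U₀) (isAffineOpen_top _) (isAffineOpen_top _) hU₀ (fun _ _ => trivial)
    (fun _ _ => trivial) (UY := Cy) rfl
  have hPO : IsPushout (CommRingCat.ofHom (algebraMap k K)) (CommRingCat.ofHom α)
      (CommRingCat.ofHom κ) (CommRingCat.ofHom β) := by
    refine hPO₀.flip.of_iso (Scheme.ΓSpecIso (CommRingCat.of k))
      (Scheme.ΓSpecIso (CommRingCat.of K)) (Iso.refl _) (Iso.refl _) ?_ ?_ ?_ ?_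
    · have h := Scheme.ΓSpecIso_naturality (CommRingCat.ofHom (algebraMap k K))
      rw [← h]
      congr 1
    · ext a
      simp [α]
    · ext a
      simp [κ]
    · ext a
      simp [β]
  let φ := (F.appLE Cy Cy hcyl).hom
  have hφβ : ∀ a, φ (β a) = β a ^ Nat.card k := by
    intro a
    have e1 : (π).appLE U₀ Cy inf_le_left ≫ F.appLE Cy Cy hcyl =
        FX.appLE U₀ U₀ (hle U₀) ≫ (π).appLE U₀ Cy inf_le_left := by
      rw [Scheme.Hom.appLE_comp_appLE, Scheme.Hom.appLE_comp_appLE]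
      exact FrobTwist.appLE_eq_of_eq hF1 _ _ _
    have e2 := congrArg (fun θ => θ.hom a) e1
    simp only [CommRingCat.hom_comp, RingHom.comp_apply] at e2
    refine e2.trans ?_
    rw [hFapp, map_pow]
  have hφκ₀ : ∀ c, φ (((st).appLE ⊤ Cy inf_le_right).hom c) =
      ((st).appLE ⊤ Cy inf_le_right).hom c := by
    intro c
    have e1 : (st).appLE ⊤ Cy inf_le_right ≫ F.appLE Cy Cy hcyl =
        (st).appLE ⊤ Cy inf_le_right := by
      rw [Scheme.Hom.appLE_comp_appLE]
      exact FrobTwist.appLE_eq_of_eq hF2 _ _ _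
    have e2 := congrArg (fun θ => θ.hom c) e1
    simpa only [CommRingCat.hom_comp, RingHom.comp_apply] using e2
  have hφκ : ∀ c, φ (κ c) = κ c := fun c => hφκ₀ _
  have hp0 : (p : Γ(Xb, Cy)) = 0 := by
    have : (p : Γ(Xb, Cy)) = κ (p : K) := (map_natCast κ p).symm
    rw [this, CharP.cast_eq_zero K p, map_zero]
  -- inverse Frobenius on K
  let σe := iterateFrobeniusEquiv K p (e : ℕ)
  let σ : K →+* K := σe.symm.toRingHom
  have hσpow : ∀ c, (σ c) ^ Nat.card k = c := by
    intro c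
    rw [hq]
    exact σe.apply_symm_apply c
  have hσk : ∀ a : k, σ (algebraMap k K a) = algebraMap k K a := by
    intro a
    change σe.symm _ = _
    rw [RingEquiv.symm_apply_eq]
    change _ = (algebraMap k K a) ^ p ^ (e : ℕ)
    rw [← map_pow, ← hcard, FiniteField.pow_card]
  have hσfix : ∀ c, σ c = c → c ∈ Set.range (algebraMap k K) := by
    intro c hc
    refine mem_range_of_pow_card_eq c ?_
    have := hσpow c
    rw [hc, Nat.card_eq_fintype_card] at this
    exact this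
  have hw0 : CommRingCat.ofHom (algebraMap k K) ≫ CommRingCat.ofHom (κ.comp σ) =
      CommRingCat.ofHom α ≫ CommRingCat.ofHom β := by
    have h1 := hPO.w
    ext a
    have h2 := congrArg (fun θ => θ.hom a) h1
    simp only [CommRingCat.hom_comp, RingHom.comp_apply, CommRingCat.hom_ofHom] at h2 ⊢
    rw [hσk]
    exact h2
  let τ := hPO.desc (CommRingCat.ofHom (κ.comp σ)) (CommRingCat.ofHom β) hw0
  have hτK : ∀ c, τ.hom (κ c) = κ (σ c) := by
    intro c
    have := congrArg (fun θ => θ.hom c)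
      (hPO.inl_desc (CommRingCat.ofHom (κ.comp σ)) (CommRingCat.ofHom β) hw0)
    simpa only [CommRingCat.hom_comp, RingHom.comp_apply, CommRingCat.hom_ofHom] using this
  have hτA : ∀ a, τ.hom (β a) = β a := by
    intro a
    have := congrArg (fun θ => θ.hom a)
      (hPO.inr_desc (CommRingCat.ofHom (κ.comp σ)) (CommRingCat.ofHom β) hw0)
    simpa only [CommRingCat.hom_comp, RingHom.comp_apply, CommRingCat.hom_ofHom] using this
  -- φ = (q-th power) ∘ τ
  let powq : Γ(Xb, Cy) →+* Γ(Xb, Cy) := (FrobSch.powHom p _ hp0) ^ (e : ℕ)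
  have hpowq : ∀ x, powq x = x ^ Nat.card k := by
    intro x
    rw [hq]
    change ((FrobSch.powHom p _ hp0) ^ (e : ℕ)) x = _
    rw [RingHom.coe_pow, FrobTwist.iterate_powHom]
  have hφτ : ∀ x, φ x = (τ.hom x) ^ Nat.card k := by
    have : CommRingCat.ofHom φ = τ ≫ CommRingCat.ofHom powq := by
      apply hPO.hom_ext
      · ext c
        simp only [CommRingCat.hom_comp, RingHom.comp_apply, CommRingCat.hom_ofHom]
        rw [hφκ, hτK, hpowq, ← map_pow, hσpow]
      · ext a
        simp only [CommRingCat.hom_comp, RingHom.comp_apply, CommRingCat.hom_ofHom]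
        rw [hφβ, hτA, hpowq]
    intro x
    have h2 := congrArg (fun θ => θ.hom x) this
    simp only [CommRingCat.hom_comp, RingHom.comp_apply, CommRingCat.hom_ofHom] at h2
    rw [h2, hpowq]
  -- the ideal of W ∩ Cy
  let I : Ideal Γ(Xb, Cy) := ⨅ (v : Xb) (_ : v ∈ W) (hvC : v ∈ Cy), vanishAt Cy v hvC
  have memI : ∀ x, x ∈ I ↔ ∀ v, v ∈ W → ∀ hvC : v ∈ Cy, x ∈ vanishAt Cy v hvC := by
    intro x
    simp only [I, Submodule.mem_iInf]
  have hq0 : Nat.card k ≠ 0 := by rw [hq]; exact (pow_pos hpp.out.pos _).ne'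
  have hIφ : ∀ x ∈ I, φ x ∈ I := by
    intro x hx
    rw [memI] at hx ⊢
    intro v hv hvC
    rw [mem_vanishAt]
    change v ∉ (Xb).basicOpen ((F.appLE Cy Cy hcyl).hom x)
    rw [Scheme.basicOpen_appLE]
    rintro ⟨-, hv2⟩
    have h3 := hx (F.base v) (hFW ⟨v, hv, rfl⟩) (hcyl hvC)
    rw [mem_vanishAt] at h3
    exact h3 hv2
  have hIτ : ∀ x ∈ I, τ.hom x ∈ I := by
    intro x hx
    have h1 := hIφ x hx
    rw [hφτ] at h1
    rw [memI] at h1 ⊢
    intro v hv hvC
    exact Ideal.IsPrime.mem_of_pow_mem inferInstance _ (h1 v hv hvC)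
  have hbI : b ∈ I := by
    rw [memI]
    intro v hv hvC
    rw [mem_vanishAt]
    intro hvb
    exact (hbV hvb) hv
  have hdesc := ideal_descent (algebraMap k K) α κ β hPO σ hσfix τ.hom hτK hτA I hIτ b hbI
  have hle' : Ideal.span (β '' {a | β a ∈ I}) ≤ vanishAt Cy w' hw'C := by
    rw [Ideal.span_le]
    rintro _ ⟨a, ha, rfl⟩
    have ha' : β a ∈ I := ha
    rw [memI] at ha'
    have h1 := ha' w hw hwC
    change β a ∈ vanishAt Cy w' hw'C
    rw [mem_vanishAt] at h1 ⊢
    change w' ∉ (Xb).basicOpen (((π).appLE U₀ Cy inf_le_left).hom a)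
    change w ∉ (Xb).basicOpen (((π).appLE U₀ Cy inf_le_left).hom a) at h1
    rw [Scheme.basicOpen_appLE] at h1 ⊢
    rintro ⟨-, h2⟩
    apply h1
    refine ⟨hwC, ?_⟩
    change (π).base w ∈ X.basicOpen a
    rw [← hww']
    exact h2
  have := hle' hdesc
  rw [mem_vanishAt] at this
  exact this hw'b

include hFb hFapp hF1 hF2 in
theorem descends_iff (W : Set Xb) (hW : IsClosed W) :
    (∃ Y : Set X, IsClosed Y ∧ (π).base ⁻¹' Y = W) ↔ F.base '' W ⊆ W := by
  constructor
  · rintro ⟨Y, -, rfl⟩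
    rintro _ ⟨w, hw, rfl⟩
    change (π).base (F.base w) ∈ Y
    rw [pi_F f FX hFb F hF1]
    exact hw
  · intro hFW
    have h1 : IsIntegralHom (FinFr.specι k K) := by
      rw [FinFr.specι, IsIntegralHom.SpecMap_iff]
      exact algebraMap_isIntegral_iff.mpr inferInstance
    have h2 : UniversallyClosed (π) := inferInstance
    refine ⟨(π).base '' W, (π).isClosedMap _ hW, ?_⟩
    ext w'
    constructor
    · rintro ⟨w, hw, hww'⟩
      exact mem_of_fibre f FX hFb hle hFapp F hF1 hF2 W hW hFW w w' hw hww'.symm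
    · intro hw'
      exact ⟨w', hw', rfl⟩

end

end Groth.Agent.Lib.Helper24.FrobDesc
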