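import Mathlib
import Groth.Prelude.Def_Frob
import Groth.Agent.Lib.Helper24.FrobTwistB
import Groth.Agent.Lib.Helper1.IdealSheafComap

/-!
# Frobenius-twisted correspondences are contracting near invariant closed subschemes (helper24)
-/

set_option backward.isDefEq.respectTransparency false
set_option backward.isDefEq.respectTransparency.types false
set_option autoImplicit false

namespace Groth.Agent.Lib.Helper24.FrobTwist

open CategoryTheory CategoryTheory.Limits AlgebraicGeometry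

universe u

theorem pow_mono' {X : Scheme.{u}} {I J : X.IdealSheafData} (h : I ≤ J) (n : ℕ) :
    I ^ n ≤ J ^ n := fun U => Ideal.pow_right_mono (h U) n

theorem pow_anti' {X : Scheme.{u}} (I : X.IdealSheafData) {m n : ℕ} (h : m ≤ n) :
    I ^ n ≤ I ^ m := fun _ => Ideal.pow_le_pow_right h

section

variable {C C₀ : Scheme.{u}} (p : ℕ) [Fact p.Prime]
  {k₀ : Type u} [Field k₀] {K : Type u} [Field K] [Algebra k₀ K] [IsAlgClosed K]
  {f₀ : C₀ ⟶ Spec (CommRingCat.of k₀)} [FrobSch.IsCharP C₀ p]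
  {πC₀ : C ⟶ C₀} {πK : C ⟶ Spec (CommRingCat.of K)}
  (hC : IsPullback πC₀ πK f₀ (Spec.map (CommRingCat.ofHom (algebraMap k₀ K))))
  (m : ℕ) {Fr : C ⟶ C}
  (hFr₀ : Fr ≫ πC₀ = πC₀ ≫ End.asHom (End.of (FrobSch.frob C₀ p) ^ m))
  (hFrK : Fr ≫ πK = πK)

include hFr₀ in
omit [IsAlgClosed K] in
theorem basicOpen_le_preimage (U₀ : C₀.Opens) (g : Γ(C, Cyl πC₀ πK U₀)) :
    C.basicOpen ((Fr.appLE (Cyl πC₀ πK U₀) (Cyl πC₀ πK U₀) (cyl_le p m hFr₀ U₀)).hom g) ≤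
      Fr ⁻¹ᵁ (C.basicOpen g) := by
  rw [Scheme.basicOpen_appLE]
  exact inf_le_right

include hC hFr₀ hFrK in
theorem local_pow {U₀ : C₀.Opens} (hU₀ : IsAffineOpen U₀) (g : Γ(C, Cyl πC₀ πK U₀))
    (t : Γ(C, C.basicOpen g)) :
    ∃ τ : Γ(C, C.basicOpen
        ((Fr.appLE (Cyl πC₀ πK U₀) (Cyl πC₀ πK U₀) (cyl_le p m hFr₀ U₀)).hom g)),
      (Fr.appLE (C.basicOpen g) _ (basicOpen_le_preimage p m hFr₀ U₀ g)).hom t = τ ^ (p ^ m) := by
  have hCyl := isAffineOpen_cyl hC hU₀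
  set φ := Fr.appLE (Cyl πC₀ πK U₀) (Cyl πC₀ πK U₀) (cyl_le p m hFr₀ U₀) with hφ
  set W := C.basicOpen (φ.hom g) with hW
  have hq : 0 < p ^ m := pow_pos (Fact.out : p.Prime).pos m
  obtain ⟨k, a, ha⟩ := exists_eq_pow_mul_of_isAffineOpen C _ hCyl g t
  change (C.presheaf.map (homOfLE (C.basicOpen_le g)).op).hom a =
    ((C.presheaf.map (homOfLE (C.basicOpen_le g)).op).hom g) ^ k * t at ha
  obtain ⟨α, hα⟩ := exists_pow_eq p hC m hFr₀ hFrK hU₀ a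
  obtain ⟨γ, hγ⟩ := exists_pow_eq p hC m hFr₀ hFrK hU₀ g
  set ψ := Fr.appLE (C.basicOpen g) W (basicOpen_le_preimage p m hFr₀ U₀ g) with hψ
  have hWC : W ≤ Cyl πC₀ πK U₀ := C.basicOpen_le _
  set r := C.presheaf.map (homOfLE hWC).op with hr
  -- ψ ∘ res = r ∘ φ
  have hcomm : C.presheaf.map (homOfLE (C.basicOpen_le g)).op ≫ ψ = φ ≫ r := by
    rw [hψ, hφ, hr, Scheme.Hom.map_appLE, Scheme.Hom.appLE_map]
  have hc (b : Γ(C, Cyl πC₀ πK U₀)) :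
      ψ.hom ((C.presheaf.map (homOfLE (C.basicOpen_le g)).op).hom b) = r.hom (φ.hom b) := by
    have := congrArg (fun θ => θ.hom b) hcomm
    simpa only [CommRingCat.hom_comp, RingHom.comp_apply] using this
  have h1 := congrArg ψ.hom ha
  rw [map_mul, map_pow, hc, hc, hα, hγ, map_pow, map_pow] at h1
  -- r γ is a unit
  have hu : IsUnit (r.hom (φ.hom g)) := RingedSpace.isUnit_res_basicOpen C.toRingedSpace (φ.hom g)
  rw [hγ, map_pow] at hu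
  have hu' : IsUnit (r.hom γ) := (isUnit_pow_iff hq.ne').mp hu
  obtain ⟨u, hu''⟩ := isUnit_iff_exists_inv.mp hu'
  refine ⟨r.hom α * u ^ k, ?_⟩
  have h2 : (r.hom γ * u) ^ (p ^ m * k) = 1 := by rw [hu'', one_pow]
  calc ψ.hom t = ψ.hom t * (r.hom γ * u) ^ (p ^ m * k) := by rw [h2, mul_one]
    _ = ((r.hom γ ^ p ^ m) ^ k * ψ.hom t) * (u ^ k) ^ (p ^ m) := by ring
    _ = (r.hom α) ^ (p ^ m) * (u ^ k) ^ (p ^ m) := by rw [← h1]
    _ = (r.hom α * u ^ k) ^ (p ^ m) := by rw [mul_pow]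

include hC hFr₀ hFrK in
theorem comap_le_radical_pow {X : Scheme.{u}} (c₁ c₂ : C ⟶ X) (I : X.IdealSheafData)
    (hinv : (Fr ≫ c₁).base '' (c₂.base ⁻¹' (I.support : Set X)) ⊆ (I.support : Set X)) :
    I.comap (Fr ≫ c₁) ≤ (I.comap c₂).radical ^ (p ^ m) := by
  have hLJ : I.comap (Fr ≫ c₁) ≤ (I.comap c₂).radical := by
    rw [← Scheme.IdealSheafData.vanishingIdeal_support,
      ← Scheme.IdealSheafData.le_support_iff_le_vanishingIdeal]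
    intro y hy
    rw [Scheme.IdealSheafData.support_comap] at hy ⊢
    exact hinv ⟨y, hy, rfl⟩
  have key : ∀ x : C, ∃ W : C.affineOpens, x ∈ W.1 ∧
      (I.comap (Fr ≫ c₁)).ideal W ≤ ((I.comap c₂).radical ^ (p ^ m)).ideal W := by
    intro x
    obtain ⟨_, ⟨V, hV, rfl⟩, hxV, -⟩ :=
      X.isBasis_affineOpens.exists_subset_of_mem_open (Set.mem_univ ((Fr ≫ c₁) x)) isOpen_univ
    obtain ⟨_, ⟨U₀, hU₀, rfl⟩, hxU₀, -⟩ :=
      C₀.isBasis_affineOpens.exists_subset_of_mem_open (Set.mem_univ (πC₀ x)) isOpen_univ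
    have hCyl := isAffineOpen_cyl hC hU₀
    have hxCyl : x ∈ Cyl πC₀ πK U₀ := ⟨hxU₀, trivial⟩
    have hFx : Fr x ∈ Cyl πC₀ πK U₀ := cyl_le p m hFr₀ U₀ hxCyl
    have hFxV : Fr x ∈ c₁ ⁻¹ᵁ V := hxV
    obtain ⟨g, hgV, hxg⟩ := hCyl.exists_basicOpen_le (V := c₁ ⁻¹ᵁ V) ⟨Fr x, hFxV⟩ hFx
    set φ := Fr.appLE (Cyl πC₀ πK U₀) (Cyl πC₀ πK U₀) (cyl_le p m hFr₀ U₀) with hφ
    set W := C.basicOpen (φ.hom g) with hW
    have hWaff : IsAffineOpen W := hCyl.basicOpen _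
    have hWF : W ≤ Fr ⁻¹ᵁ (C.basicOpen g) := basicOpen_le_preimage p m hFr₀ U₀ g
    have hxW : x ∈ W := by
      rw [hW, Scheme.basicOpen_appLE]
      exact ⟨hxCyl, hxg⟩
    have e : W ≤ (Fr ≫ c₁) ⁻¹ᵁ V := fun y hy => hgV (hWF hy)
    refine ⟨⟨W, hWaff⟩, hxW, ?_⟩
    rw [Groth.Agent.Lib.Helper1.ideal_comap I (Fr ≫ c₁) ⟨W, hWaff⟩ ⟨V, hV⟩ e,
      Ideal.map_le_iff_le_comap]
    intro s hs
    rw [Ideal.mem_comap]
    have e1 : (Fr ≫ c₁).appLE V W e = c₁.appLE V (C.basicOpen g) hgV ≫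
        Fr.appLE (C.basicOpen g) W hWF := by
      rw [Scheme.Hom.appLE_comp_appLE]
    obtain ⟨τ, hτ⟩ := local_pow p hC m hFr₀ hFrK hU₀ g ((c₁.appLE V (C.basicOpen g) hgV).hom s)
    have e2 : ((Fr ≫ c₁).appLE V W e).hom s = τ ^ (p ^ m) := by
      rw [e1, CommRingCat.hom_comp, RingHom.comp_apply]
      exact hτ
    have h3 : ((Fr ≫ c₁).appLE V W e).hom s ∈ (I.comap (Fr ≫ c₁)).ideal ⟨W, hWaff⟩ := by
      rw [Groth.Agent.Lib.Helper1.ideal_comap I (Fr ≫ c₁) ⟨W, hWaff⟩ ⟨V, hV⟩ e]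
      exact Ideal.mem_map_of_mem _ hs
    have h4 : τ ^ (p ^ m) ∈ ((I.comap c₂).ideal ⟨W, hWaff⟩).radical := by
      rw [← e2]
      exact hLJ ⟨W, hWaff⟩ h3
    have h5 : τ ∈ ((I.comap c₂).ideal ⟨W, hWaff⟩).radical := Ideal.mem_radical_of_pow_mem h4
    rw [e2]
    change τ ^ (p ^ m) ∈ (((I.comap c₂).ideal ⟨W, hWaff⟩).radical) ^ (p ^ m)
    exact Ideal.pow_mem_pow h5 _
  choose W hxW hW using key
  exact Scheme.IdealSheafData.le_of_iSup_eq_top W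
    (eq_top_iff.mpr fun x _ => TopologicalSpace.Opens.mem_iSup.mpr ⟨x, hxW x⟩) hW

include hC hFr₀ hFrK in
theorem contracting {X : Scheme.{u}} (c₁ c₂ : C ⟶ X) (I : X.IdealSheafData) (d : ℕ)
    (hd : (I.comap c₂).radical ^ d ≤ I.comap c₂) (hn : d < p ^ m)
    (hinv : (Fr ≫ c₁).base '' (c₂.base ⁻¹' (I.support : Set X)) ⊆ (I.support : Set X)) :
    I.comap (Fr ≫ c₁) ≤ I.comap c₂ ∧ I.comap (Fr ≫ c₁) ^ d ≤ I.comap c₂ ^ (d + 1) := by
  have h0 := comap_le_radical_pow p hC m hFr₀ hFrK c₁ c₂ I hinv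
  refine ⟨h0.trans ((pow_anti' _ hn.le).trans hd), ?_⟩
  calc I.comap (Fr ≫ c₁) ^ d ≤ ((I.comap c₂).radical ^ (p ^ m)) ^ d := pow_mono' h0 d
    _ = (I.comap c₂).radical ^ (p ^ m * d) := (pow_mul _ _ _).symm
    _ ≤ (I.comap c₂).radical ^ (d * (d + 1)) := pow_anti' _ (by nlinarith)
    _ = ((I.comap c₂).radical ^ d) ^ (d + 1) := pow_mul _ _ _
    _ ≤ I.comap c₂ ^ (d + 1) := pow_mono' hd _

end

end Groth.Agent.Lib.Helper24.FrobTwist
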