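import Mathlib
import Groth.Prelude.Def_Frob
import Groth.Agent.Lib.Helper24.FrobTwistC

/-!
# Ideal sheaves locally generated by `q`-th powers; contraction near fixed points (helper24)
-/

set_option backward.isDefEq.respectTransparency false
set_option backward.isDefEq.respectTransparency.types false
set_option autoImplicit false

namespace Groth.Agent.Lib.Helper24.FrobTwist

open CategoryTheory CategoryTheory.Limits AlgebraicGeometry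

universe u

/-- `L` is locally generated by `q`-th powers. -/
def HasPowGens {Y : Scheme.{u}} (L : Y.IdealSheafData) (q : ℕ) : Prop :=
  ∀ y : Y, ∃ V : Y.affineOpens, y ∈ V.1 ∧
    L.ideal V ≤ Ideal.span {b | b ∈ L.ideal V ∧ ∃ τ, b = τ ^ q}

theorem HasPowGens.comap {Y Y' : Scheme.{u}} {L : Y.IdealSheafData} {q : ℕ}
    (h : HasPowGens L q) (f : Y' ⟶ Y) : HasPowGens (L.comap f) q := by
  intro y'
  obtain ⟨V, hyV, hV⟩ := h (f y')
  obtain ⟨_, ⟨U, hU, rfl⟩, hyU, hUV⟩ :=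
    Y'.isBasis_affineOpens.exists_subset_of_mem_open (show y' ∈ (f ⁻¹ᵁ V.1 : Set Y') from hyV)
      (f ⁻¹ᵁ V.1).2
  refine ⟨⟨U, hU⟩, hyU, ?_⟩
  have e := Groth.Agent.Lib.Helper1.ideal_comap L f ⟨U, hU⟩ V hUV
  rw [e, Ideal.map_le_iff_le_comap]
  refine hV.trans (Ideal.span_le.mpr ?_)
  rintro b ⟨hb, τ, rfl⟩
  refine Ideal.subset_span ⟨?_, (f.appLE V.1 U hUV).hom τ, map_pow _ _ _⟩
  exact Ideal.mem_map_of_mem _ hb

theorem HasPowGens.le_radical_pow {Y : Scheme.{u}} {L J : Y.IdealSheafData} {q : ℕ}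
    (h : HasPowGens L q) (hLJ : L ≤ J.radical) : L ≤ J.radical ^ q := by
  choose V hyV hV using h
  refine Scheme.IdealSheafData.le_of_iSup_eq_top V
    (eq_top_iff.mpr fun y _ => TopologicalSpace.Opens.mem_iSup.mpr ⟨y, hyV y⟩) fun y => ?_
  refine (hV y).trans (Ideal.span_le.mpr ?_)
  rintro b ⟨hb, τ, rfl⟩
  have h4 : τ ^ q ∈ (J.ideal (V y)).radical := hLJ (V y) hb
  have h5 : τ ∈ (J.ideal (V y)).radical := Ideal.mem_radical_of_pow_mem h4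
  change τ ^ q ∈ ((J.ideal (V y)).radical) ^ q
  exact Ideal.pow_mem_pow h5 _

theorem contracting_of_le_radical_pow {Y : Scheme.{u}} {L J : Y.IdealSheafData} {q d : ℕ}
    (h0 : L ≤ J.radical ^ q) (hd : J.radical ^ d ≤ J) (hn : d < q) :
    L ≤ J ∧ L ^ d ≤ J ^ (d + 1) := by
  refine ⟨h0.trans ((pow_anti' _ hn.le).trans hd), ?_⟩
  calc L ^ d ≤ (J.radical ^ q) ^ d := pow_mono' h0 d
    _ = J.radical ^ (q * d) := (pow_mul _ _ _).symm
    _ ≤ J.radical ^ (d * (d + 1)) := pow_anti' _ (by nlinarith)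
    _ = (J.radical ^ d) ^ (d + 1) := pow_mul _ _ _
    _ ≤ J ^ (d + 1) := pow_mono' hd _

theorem radical_comap_of_isOpenImmersion {Y Y' : Scheme.{u}} (J : Y.IdealSheafData) (f : Y' ⟶ Y)
    [IsOpenImmersion f] : (J.comap f).radical = J.radical.comap f := by
  ext U : 2
  change ((J.comap f).ideal U).radical = (J.radical.comap f).ideal U
  rw [Scheme.IdealSheafData.ideal_comap_of_isOpenImmersion,
    Scheme.IdealSheafData.ideal_comap_of_isOpenImmersion, ← Ideal.comap_radical]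
  rfl

section

variable {C C₀ : Scheme.{u}} (p : ℕ) [Fact p.Prime]
  {k₀ : Type u} [Field k₀] {K : Type u} [Field K] [Algebra k₀ K] [IsAlgClosed K]
  {f₀ : C₀ ⟶ Spec (CommRingCat.of k₀)} [FrobSch.IsCharP C₀ p]
  {πC₀ : C ⟶ C₀} {πK : C ⟶ Spec (CommRingCat.of K)}
  (hC : IsPullback πC₀ πK f₀ (Spec.map (CommRingCat.ofHom (algebraMap k₀ K))))
  (m : ℕ) {Fr : C ⟶ C}
  (hFr₀ : Fr ≫ πC₀ = πC₀ ≫ End.asHom (End.of (FrobSch.frob C₀ p) ^ m))
  (hFrK : Fr ≫ πK = πK)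

include hC hFr₀ hFrK in
theorem hasPowGens_comap_frob {X : Scheme.{u}} (c₁ : C ⟶ X) (I : X.IdealSheafData) :
    HasPowGens (I.comap (Fr ≫ c₁)) (p ^ m) := by
  intro x
  obtain ⟨_, ⟨V, hV, rfl⟩, hxV, -⟩ :=
    X.isBasis_affineOpens.exists_subset_of_mem_open (Set.mem_univ ((Fr ≫ c₁) x)) isOpen_univ
  obtain ⟨_, ⟨U₀, hU₀, rfl⟩, hxU₀, -⟩ :=
    C₀.isBasis_affineOpens.exists_subset_of_mem_open (Set.mem_univ (πC₀ x)) isOpen_univ
  have hCyl := isAffineOpen_cyl hC hU₀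
  have hxCyl : x ∈ Cyl πC₀ πK U₀ := ⟨hxU₀, trivial⟩
  have hFx : Fr x ∈ Cyl πC₀ πK U₀ := cyl_le p m hFr₀ U₀ hxCyl
  have hFxV : Fr x ∈ c₁ ⁻¹ᵁ V := hxV
  obtain ⟨g, hgV, hxg⟩ := hCyl.exists_basicOpen_le (V := c₁ ⁻¹ᵁ V) ⟨Fr x, hFxV⟩ hFx
  set φ := Fr.appLE (Cyl πC₀ πK U₀) (Cyl πC₀ πK U₀) (cyl_le p m hFr₀ U₀) with hφ
  set W := C.basicOpen (φ.hom g) with hW
  have hWaff : IsAffineOpen W := hCyl.basicOpen _
  have hWF : W ≤ Fr ⁻¹ᵁ (C.basicOpen g) := basicOpen_le_preimage p m hFr₀ U₀ g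
  have hxW : x ∈ W := by
    rw [hW, Scheme.basicOpen_appLE]
    exact ⟨hxCyl, hxg⟩
  have e : W ≤ (Fr ≫ c₁) ⁻¹ᵁ V := fun y hy => hgV (hWF hy)
  refine ⟨⟨W, hWaff⟩, hxW, ?_⟩
  have e0 := Groth.Agent.Lib.Helper1.ideal_comap I (Fr ≫ c₁) ⟨W, hWaff⟩ ⟨V, hV⟩ e
  rw [e0, Ideal.map_le_iff_le_comap]
  intro s hs
  rw [Ideal.mem_comap]
  have e1 : (Fr ≫ c₁).appLE V W e = c₁.appLE V (C.basicOpen g) hgV ≫
      Fr.appLE (C.basicOpen g) W hWF := by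
    rw [Scheme.Hom.appLE_comp_appLE]
  obtain ⟨τ, hτ⟩ := local_pow p hC m hFr₀ hFrK hU₀ g ((c₁.appLE V (C.basicOpen g) hgV).hom s)
  have e2 : ((Fr ≫ c₁).appLE V W e).hom s = τ ^ (p ^ m) := by
    rw [e1, CommRingCat.hom_comp, RingHom.comp_apply]
    exact hτ
  refine Ideal.subset_span ⟨?_, τ, e2⟩
  exact Ideal.mem_map_of_mem _ hs

end

end Groth.Agent.Lib.Helper24.FrobTwist
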