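import Mathlib
import Groth.Prelude.Def_Frob
import Groth.Agent.Lib.Helper24.FrobTwistD

/-!
# Frobenius-twisted correspondences are contracting near closed points, around fixed points (helper24)
-/

set_option backward.isDefEq.respectTransparency false
set_option backward.isDefEq.respectTransparency.types false
set_option autoImplicit false

namespace Groth.Agent.Lib.Helper24.FrobTwist

open CategoryTheory CategoryTheory.Limits AlgebraicGeometry

universe u

section

variable {C C₀ : Scheme.{u}} (p : ℕ) [Fact p.Prime]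
  {k₀ : Type u} [Field k₀] {K : Type u} [Field K] [Algebra k₀ K] [IsAlgClosed K]
  {f₀ : C₀ ⟶ Spec (CommRingCat.of k₀)} [FrobSch.IsCharP C₀ p]
  {πC₀ : C ⟶ C₀} {πK : C ⟶ Spec (CommRingCat.of K)}
  (hC : IsPullback πC₀ πK f₀ (Spec.map (CommRingCat.ofHom (algebraMap k₀ K))))
  (m : ℕ) {Fr : C ⟶ C}
  (hFr₀ : Fr ≫ πC₀ = πC₀ ≫ End.asHom (End.of (FrobSch.frob C₀ p) ^ m))
  (hFrK : Fr ≫ πK = πK)

omit [Fact p.Prime] [IsAlgClosed K] in
theorem eq_of_mem_diagonal {X : Scheme.{u}} (pX : X ⟶ Spec (CommRingCat.of K))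
    (a b : C ⟶ X) (hcomm : a ≫ pX = b ≫ pX) (y : C)
    (hy : y ∈ (pullback.lift a b hcomm).base ⁻¹' Set.range (pullback.diagonal pX).base) :
    a.base y = b.base y := by
  obtain ⟨z, hz⟩ := hy
  have e1 : pullback.lift a b hcomm ≫ pullback.fst pX pX = a := pullback.lift_fst _ _ _
  have e1' : pullback.lift a b hcomm ≫ pullback.snd pX pX = b := pullback.lift_snd _ _ _
  have e2 : pullback.diagonal pX ≫ pullback.fst pX pX = 𝟙 X := pullback.diagonal_fst pX
  have e2' : pullback.diagonal pX ≫ pullback.snd pX pX = 𝟙 X := pullback.diagonal_snd pX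
  have h1 : a.base y = z := by
    calc a.base y = (pullback.lift a b hcomm ≫ pullback.fst pX pX).base y := by rw [e1]
      _ = (pullback.fst pX pX).base ((pullback.lift a b hcomm).base y) := rfl
      _ = (pullback.fst pX pX).base ((pullback.diagonal pX).base z) := by rw [hz]
      _ = (pullback.diagonal pX ≫ pullback.fst pX pX).base z := rfl
      _ = z := by rw [e2]; rfl
  have h2 : b.base y = z := by
    calc b.base y = (pullback.lift a b hcomm ≫ pullback.snd pX pX).base y := by rw [e1']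
      _ = (pullback.snd pX pX).base ((pullback.lift a b hcomm).base y) := rfl
      _ = (pullback.snd pX pX).base ((pullback.diagonal pX).base z) := by rw [hz]
      _ = (pullback.diagonal pX ≫ pullback.snd pX pX).base z := rfl
      _ = z := by rw [e2']; rfl
  rw [h1, h2]

include hC hFr₀ hFrK in
theorem contracting_near_fix {X : Scheme.{u}} (pX : X ⟶ Spec (CommRingCat.of K))
    (c₁ c₂ : C ⟶ X) [LocallyQuasiFinite c₂]
    (hcomm : (Fr ≫ c₁) ≫ pX = c₂ ≫ pX) (d : ℕ) (hn : d < p ^ m)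
    (x : X) (hx : IsClosed ({x} : Set X))
    (hd : ((Scheme.IdealSheafData.vanishingIdeal ⟨{x}, hx⟩).comap c₂).radical ^ d ≤
        (Scheme.IdealSheafData.vanishingIdeal ⟨{x}, hx⟩).comap c₂) :
    ∃ W : C.Opens,
      (pullback.lift (Fr ≫ c₁) c₂ hcomm).base ⁻¹' Set.range (pullback.diagonal pX).base ⊆
        (W : Set C) ∧
      (Scheme.IdealSheafData.vanishingIdeal ⟨{x}, hx⟩).comap (W.ι ≫ Fr ≫ c₁) ≤
        (Scheme.IdealSheafData.vanishingIdeal ⟨{x}, hx⟩).comap (W.ι ≫ c₂) ∧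
      ∃ k : ℕ, (Scheme.IdealSheafData.vanishingIdeal ⟨{x}, hx⟩).comap (W.ι ≫ Fr ≫ c₁) ^ k ≤
        (Scheme.IdealSheafData.vanishingIdeal ⟨{x}, hx⟩).comap (W.ι ≫ c₂) ^ (k + 1) := by
  set I := Scheme.IdealSheafData.vanishingIdeal ⟨{x}, hx⟩ with hI
  have hIsupp : (I.support : Set X) = {x} := Scheme.IdealSheafData.coe_support_vanishingIdeal _
  let A : Set C := c₂.base ⁻¹' {x} \ (Fr ≫ c₁).base ⁻¹' {x}
  have hA : IsClosed A := isClosed_of_subset_discrete_closed Set.sdiff_subset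
    (c₂.isDiscrete_preimage_singleton x) (hx.preimage c₂.continuous)
  let W : C.Opens := ⟨Aᶜ, hA.isOpen_compl⟩
  refine ⟨W, ?_, ?_⟩
  · intro y hy hyA
    have h := eq_of_mem_diagonal pX (Fr ≫ c₁) c₂ hcomm y hy
    apply hyA.2
    change (Fr ≫ c₁).base y = x
    rw [h]
    exact hyA.1
  · have hL : I.comap (W.ι ≫ Fr ≫ c₁) = (I.comap (Fr ≫ c₁)).comap W.ι :=
      Scheme.IdealSheafData.comap_comp I W.ι (Fr ≫ c₁)
    have hJ : I.comap (W.ι ≫ c₂) = (I.comap c₂).comap W.ι :=
      Scheme.IdealSheafData.comap_comp I W.ι c₂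
    have hgen : HasPowGens (I.comap (W.ι ≫ Fr ≫ c₁)) (p ^ m) :=
      hL ▸ (hasPowGens_comap_frob p hC m hFr₀ hFrK c₁ I).comap W.ι
    have hLJ : I.comap (W.ι ≫ Fr ≫ c₁) ≤ (I.comap (W.ι ≫ c₂)).radical := by
      rw [← Scheme.IdealSheafData.vanishingIdeal_support,
        ← Scheme.IdealSheafData.le_support_iff_le_vanishingIdeal]
      intro w hw
      rw [Scheme.IdealSheafData.support_comap] at hw ⊢
      change (W.ι ≫ c₂).base w ∈ (I.support : Set X) at hw
      change (W.ι ≫ Fr ≫ c₁).base w ∈ (I.support : Set X)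
      rw [hIsupp] at hw ⊢
      have hwW : W.ι.base w ∈ (W : Set C) := by
        have : W.ι.base w ∈ Set.range W.ι.base := ⟨w, rfl⟩
        rwa [Scheme.Opens.range_ι] at this
      by_contra hne
      exact hwW ⟨hw, hne⟩
    have h0 := hgen.le_radical_pow hLJ
    have hd' : (I.comap (W.ι ≫ c₂)).radical ^ d ≤ I.comap (W.ι ≫ c₂) := by
      rw [hJ, radical_comap_of_isOpenImmersion, ← Groth.Agent.Lib.Helper1.comap_pow]
      exact Scheme.IdealSheafData.comap_mono _ hd
    obtain ⟨r1, r2⟩ := contracting_of_le_radical_pow h0 hd' hn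
    exact ⟨r1, d, r2⟩

end

end Groth.Agent.Lib.Helper24.FrobTwist
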