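import Mathlib
import Groth.Prelude.Def_Frob
import Groth.Agent.Lib.Helper24.FrobTwistE
import Groth.Agent.Lib.Helper16.LocNoeth
import Groth.Agent.S19878

/-!
# The fixed points of a sufficiently Frobenius-twisted correspondence are finite and discrete
(helper24)
-/

set_option backward.isDefEq.respectTransparency false
set_option backward.isDefEq.respectTransparency.types false
set_option autoImplicit false

namespace Groth.Agent.Lib.Helper24.FrobTwist

open CategoryTheory CategoryTheory.Limits AlgebraicGeometry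

universe u

section

variable {C C₀ : Scheme.{u}} (p : ℕ) [Fact p.Prime]
  {k₀ : Type u} [Field k₀] {K : Type u} [Field K] [Algebra k₀ K] [IsAlgClosed K]
  {f₀ : C₀ ⟶ Spec (CommRingCat.of k₀)} [LocallyOfFiniteType f₀] [QuasiCompact f₀]
  [FrobSch.IsCharP C₀ p]
  {πC₀ : C ⟶ C₀} {πK : C ⟶ Spec (CommRingCat.of K)}
  (hC : IsPullback πC₀ πK f₀ (Spec.map (CommRingCat.ofHom (algebraMap k₀ K))))
  (m : ℕ) {Fr : C ⟶ C}
  (hFr₀ : Fr ≫ πC₀ = πC₀ ≫ End.asHom (End.of (FrobSch.frob C₀ p) ^ m))
  (hFrK : Fr ≫ πK = πK)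

include hC hFr₀ hFrK in
theorem fix_finite_discrete {X Fx : Scheme.{u}} (pX : X ⟶ Spec (CommRingCat.of K))
    [LocallyOfFiniteType pX]
    (c₁ c₂ : C ⟶ X) [LocallyQuasiFinite c₂] [LocallyOfFiniteType c₂]
    (hcomm : (Fr ≫ c₁) ≫ pX = c₂ ≫ pX) (d : ℕ) (hn : d < p ^ m)
    (hd : ∀ (x : X) (hx : IsClosed ({x} : Set X)),
      ((Scheme.IdealSheafData.vanishingIdeal ⟨{x}, hx⟩).comap c₂).radical ^ d ≤
        (Scheme.IdealSheafData.vanishingIdeal ⟨{x}, hx⟩).comap c₂)
    (i : Fx ⟶ C) (δ : Fx ⟶ X)
    (hF : IsPullback i δ (pullback.lift (Fr ≫ c₁) c₂ hcomm) (pullback.diagonal pX)) :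
    Finite Fx ∧ DiscreteTopology Fx := by
  -- instances
  have hπK1 : LocallyOfFiniteType πK := MorphismProperty.of_isPullback hC inferInstance
  have hπK2 : QuasiCompact πK := MorphismProperty.of_isPullback hC inferInstance
  have : IsLocallyNoetherian C := LocallyOfFiniteType.isLocallyNoetherian πK
  have : CompactSpace C := QuasiCompact.compactSpace_of_compactSpace πK
  have : IsNoetherian C := { }
  have hi : IsImmersion i := MorphismProperty.of_isPullback hF.flip inferInstance
  have : TopologicalSpace.NoetherianSpace Fx := i.isEmbedding.isInducing.noetherianSpace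
  have h2 : i ≫ c₂ = δ := by
    have := congrArg (· ≫ pullback.snd pX pX) hF.w
    simp only [Category.assoc, pullback.diagonal_snd, Category.comp_id] at this
    rw [pullback.lift_snd] at this
    exact this
  have hδ1 : LocallyOfFiniteType δ := h2 ▸ inferInstance
  have hδ2 : LocallyQuasiFinite δ := h2 ▸ inferInstance
  have : JacobsonSpace X := LocallyOfFiniteType.jacobsonSpace pX
  -- closed points are open
  have key : ∀ y : Fx, IsClosed ({y} : Set Fx) → IsOpen ({y} : Set Fx) := by
    intro y hy
    have hx : IsClosed ({δ.base y} : Set X) :=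
      δ.closePoints_subset_preimage_closedPoints hy
    obtain ⟨W, hWfix, hle, k, hpow⟩ :=
      contracting_near_fix p hC m hFr₀ hFrK pX c₁ c₂ hcomm d hn (δ.base y) hx (hd _ hx)
    have hW : Set.range i.base ⊆ (W : Set C) := by
      rintro _ ⟨y', rfl⟩
      apply hWfix
      refine ⟨δ.base y', ?_⟩
      change (δ ≫ pullback.diagonal pX).base y' = (i ≫ pullback.lift (Fr ≫ c₁) c₂ hcomm).base y'
      rw [hF.w]
    let β : Fx.Opens := ⟨connectedComponent y,
      Groth.Agent.Lib.Helper16.isOpen_connectedComponent_of_noetherian y⟩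
    have hβ : _root_.IsConnected (β : Set Fx) := isConnected_connectedComponent
    have hsupp : ((Scheme.IdealSheafData.vanishingIdeal ⟨{δ.base y}, hx⟩).support : Set X) =
        {δ.base y} := Scheme.IdealSheafData.coe_support_vanishingIdeal _
    have hβZ : (δ.base '' (β : Set Fx) ∩
        ((Scheme.IdealSheafData.vanishingIdeal ⟨{δ.base y}, hx⟩).support : Set X)).Nonempty := by
      refine ⟨δ.base y, ⟨y, mem_connectedComponent, rfl⟩, ?_⟩
      rw [hsupp]
      rfl
    have hsub := Groth.Agent.S19878.result K πK pX (Fr ≫ c₁) c₂ hcomm i δ hF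
      (Scheme.IdealSheafData.vanishingIdeal ⟨{δ.base y}, hx⟩) W hW
      (by simpa only [Category.assoc] using hle) k
      (by simpa only [Category.assoc] using hpow) β hβ hβZ
    rw [hsupp] at hsub
    have hdisc : _root_.IsDiscrete (β : Set Fx) :=
      (δ.isDiscrete_preimage_singleton (δ.base y)).mono hsub
    obtain ⟨U, hU, hUβ⟩ := isDiscrete_iff_forall_mem_exists_isOpen.mp hdisc y
      (mem_connectedComponent : y ∈ connectedComponent y)
    rw [← hUβ]
    exact hU.inter β.2
  -- every point is open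
  have key2 : ∀ z : Fx, IsOpen ({z} : Set Fx) := by
    intro z
    obtain ⟨y, hyz, hy⟩ := (isClosed_closure (s := ({z} : Set Fx))).exists_closed_singleton
      ⟨z, subset_closure rfl⟩
    have hyo := key y hy
    obtain ⟨w, hw1, hw2⟩ := mem_closure_iff.mp hyz {y} hyo rfl
    have e1 : w = y := hw1
    have e2 : w = z := hw2
    rw [← e2, e1]
    exact hyo
  have hdisc : DiscreteTopology Fx := discreteTopology_iff_isOpen_singleton.mpr key2
  exact ⟨finite_of_compact_of_discrete, hdisc⟩

end

end Groth.Agent.Lib.Helper24.FrobTwist
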