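import Groth.Agent.Lib.Helper24.FtPtClosed
import Groth.Agent.Lib.Helper14.AlgSpFtPt
import Groth.Agent.Lib.Helper14.AlgSpLocP3
import Groth.Agent.Lib.Helper6.FTPointsField
import Groth.Agent.Lib.Helper6.BddFibEtale

set_option autoImplicit false
universe u
open CategoryTheory CategoryTheory.Limits AlgebraicGeometry Opposite AlgSp
open Groth.Agent.Lib.Helper14.AS

namespace Groth.Agent.Lib.Helper24.FtPtClosed

variable {S : Scheme.{u}}

set_option backward.isDefEq.respectTransparency.types false in
/-- A finite type point is the image of a closed point of some étale chart. -/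
theorem exists_closed_chart_of_isFtPt {X : Sp S} (hX : IsAlgSpace X) (x : Points X)
    (hx : IsFtPt X x) :
    ∃ (U : Over S) (φ : (yon S).obj U ⟶ X) (u : ↥U.left), RepWith @Etale φ ∧
      IsClosed ({u} : Set ↥U.left) ∧ Points.ofPt φ u = x := by
  obtain ⟨k, _, str, ξ, hξ, rfl⟩ := hx
  obtain ⟨U, φ, hφe, hφs⟩ := hX.atlas
  have hξrep : Representable ξ := hX.representable_from_yon ξ
  have hξlft : RepWith @LocallyOfFiniteType ξ :=
    repWith_of_locP_of_representable etLocal_lft hX hξrep hξ
  have hrep := hφe.rep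
  have sq := hrep.isPullback' ξ
  set sT := hrep.fst' ξ with hsT
  set cT := hrep.snd ξ with hcT
  have hcTe : Etale cT.left := hφe.property_snd ξ
  have hsTl : LocallyOfFiniteType sT.left := hξlft.property φ _ sT sq.flip
  let pt : ↥(Spec (CommRingCat.of k)) := IsLocalRing.closedPoint k
  obtain ⟨u₀, hu₀⟩ := ofPt_surjective_of_repWith hφs (Points.ofPt ξ pt)
  obtain ⟨t, ht1, -⟩ := exists_point_of_isPullback_yon sq u₀ pt hu₀
  -- t is a closed point of T, as T is discrete
  have hd : DiscreteTopology ↥(hrep.pullback ξ).left :=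
    Groth.Agent.Lib.Helper6.BddFibLib.discreteTopology_of_etale_field (k := k) cT.left
  have hcl : IsClosed ({t} : Set ↥(hrep.pullback ξ).left) := isClosed_discrete _
  have hci := isClosed_singleton_iff_isClosedImmersion.1 hcl
  let g := (hrep.pullback ξ).left.fromSpecResidueField t ≫ sT.left
  have hg : LocallyOfFiniteType g := inferInstance
  let z : ↥(Spec ((hrep.pullback ξ).left.residueField t)) := default
  have hgz : g z = sT.left t := by
    change sT.left ((hrep.pullback ξ).left.fromSpecResidueField t z) = _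
    rw [Scheme.fromSpecResidueField_apply]
  have h1 := (Groth.Agent.Lib.Helper6.locallyOfFiniteType_from_field_iff U.left
    ↑((hrep.pullback ξ).left.residueField t) g z).1 hg
  have hlft := h1.1
  have hlc := isLocallyClosed_singleton_of_lft (g z)
  obtain ⟨O, Z, hO, hZ, hOZ⟩ := hlc
  have huO : g z ∈ O := by
    have : g z ∈ ({g z} : Set _) := rfl
    rw [hOZ] at this; exact this.1
  let V : U.left.Opens := ⟨O, hO⟩
  refine ⟨openSub U V, (yon S).map (openSubι U V) ≫ φ, (⟨g z, huO⟩ : ↥V), ?_, ?_, ?_⟩
  · exact repWith_comp _ ((repWith_yon_map_iff _ _).2 (inferInstanceAs (Etale V.ι))) hφe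
  · have : ({(⟨g z, huO⟩ : ↥V)} : Set ↥V) = (Subtype.val ⁻¹' Z : Set ↥V) := by
      ext w
      constructor
      · rintro rfl
        have : g z ∈ ({g z} : Set _) := rfl
        rw [hOZ] at this; exact this.2
      · intro hw
        have : (w : ↥U.left) ∈ ({g z} : Set _) := by
          rw [hOZ]; exact ⟨w.2, hw⟩
        exact Subtype.ext this
    change IsClosed ({(⟨g z, huO⟩ : ↥V)} : Set ↥V)
    rw [this]
    exact hZ.preimage continuous_subtype_val
  · rw [ofPt_yon_map_comp]
    change Points.ofPt φ (g z) = _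
    rw [hgz, ht1, hu₀]

end Groth.Agent.Lib.Helper24.FtPtClosed
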