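import Mathlib
set_option autoImplicit false
universe u
open CategoryTheory AlgebraicGeometry

namespace Groth.Agent.Lib.Helper24.FtPtClosed

/-- A field of finite type over `A`, all of whose elements are fractions of images of elements of `A`,
is a quotient of a localization `A[1/b]`. -/
theorem exists_away_surjective {A K : Type*} [CommRing A] [Field K] (ψ : A →+* K)
    (hft : ψ.FiniteType) (hfrac : ∀ s : K, ∃ a b : A, ψ b ≠ 0 ∧ s * ψ b = ψ a) :
    ∃ b : A, ψ b ≠ 0 ∧ ∀ {A' : Type*} [CommRing A'] (φ : A →+* A') (ψ' : A' →+* K),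
      ψ'.comp φ = ψ → IsUnit (φ b) → Function.Surjective ψ' := by
  classical
  algebraize [ψ]
  obtain ⟨t, ht⟩ := (Algebra.FiniteType.out : (⊤ : Subalgebra A K).FG)
  choose a b hb hab using hfrac
  refine ⟨∏ s ∈ t, b s, ?_, ?_⟩
  · rw [map_prod]
    exact Finset.prod_ne_zero_iff.mpr fun s _ => hb s
  · intro A' _ φ ψ' hcomp hunit
    have hunit' : ∀ s ∈ t, IsUnit (φ (b s)) := by
      intro s hs
      rw [map_prod] at hunit
      exact isUnit_of_dvd_unit (Finset.dvd_prod_of_mem (fun x => φ (b x)) hs) hunit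
    -- the range of ψ' as a subalgebra
    let R : Subalgebra A K :=
      { ψ'.range with
        algebraMap_mem' := fun r => ⟨φ r, by rw [← RingHom.comp_apply, hcomp]; rfl⟩ }
    have hle : Algebra.adjoin A (t : Set K) ≤ R := by
      apply Algebra.adjoin_le
      intro s hs
      obtain ⟨v, hv⟩ := hunit' s hs
      refine ⟨φ (a s) * ↑v⁻¹, ?_⟩
      have h1 : ψ' (φ (b s)) = ψ (b s) := by rw [← RingHom.comp_apply, hcomp]
      have h2 : ψ' (φ (a s)) = ψ (a s) := by rw [← RingHom.comp_apply, hcomp]
      have h3 : ψ' ↑v⁻¹ * ψ (b s) = 1 := by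
        rw [← h1, ← hv, ← map_mul, Units.inv_mul, map_one]
      rw [map_mul, h2, ← hab s, mul_assoc, mul_comm (ψ (b s)), h3, mul_one]
    rw [ht] at hle
    intro s
    exact hle (Algebra.mem_top : s ∈ (⊤ : Subalgebra A K))


/-- If the residue field of a prime `p` is of finite type over `R`, then `p` is maximal among
the primes not containing some `b ∉ p`. -/
theorem exists_notMem_forall_prime_eq {R : Type*} [CommRing R] (p : Ideal R) [p.IsPrime]
    (hft : (algebraMap R p.ResidueField).FiniteType) :
    ∃ b : R, b ∉ p ∧ ∀ q : Ideal R, q.IsPrime → p ≤ q → b ∉ q → q = p := by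
  have hker : ∀ r : R, algebraMap R p.ResidueField r = 0 ↔ r ∈ p :=
    fun r => Ideal.algebraMap_residueField_eq_zero
  have hfrac : ∀ s : p.ResidueField, ∃ a b : R, algebraMap R p.ResidueField b ≠ 0 ∧
      s * algebraMap R p.ResidueField b = algebraMap R p.ResidueField a := by
    intro s
    obtain ⟨⟨a', ⟨b', hb'⟩⟩, h⟩ := IsLocalization.surj (nonZeroDivisors (R ⧸ p)) s
    obtain ⟨a, rfl⟩ := Ideal.Quotient.mk_surjective a'
    obtain ⟨b, rfl⟩ := Ideal.Quotient.mk_surjective b'
    refine ⟨a, b, ?_, ?_⟩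
    · rw [Ne, hker, ← Ideal.Quotient.eq_zero_iff_mem]
      exact nonZeroDivisors.ne_zero hb'
    · rw [IsScalarTower.algebraMap_apply R (R ⧸ p) p.ResidueField b,
        IsScalarTower.algebraMap_apply R (R ⧸ p) p.ResidueField a]
      exact h
  obtain ⟨b, hb, H⟩ := exists_away_surjective (algebraMap R p.ResidueField) hft hfrac
  refine ⟨b, fun h => hb ((hker b).2 h), ?_⟩
  intro q hq hpq hbq
  by_contra hne
  obtain ⟨c, hcq, hcp⟩ : ∃ c ∈ q, c ∉ p := by
    by_contra h
    push Not at h
    exact hne (le_antisymm h hpq)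
  have hbu : IsUnit (algebraMap R p.ResidueField b) := IsUnit.mk0 _ hb
  have hsurj := H (algebraMap R (Localization.Away b))
    (IsLocalization.Away.lift (S := Localization.Away b) b hbu)
    (IsLocalization.Away.lift_comp b hbu) (IsLocalization.Away.algebraMap_isUnit b)
  have hc0 : algebraMap R p.ResidueField c ≠ 0 := fun h => hcp ((hker c).1 h)
  obtain ⟨z, hz⟩ := hsurj (algebraMap R p.ResidueField c)⁻¹
  obtain ⟨⟨d, ⟨_, n, rfl⟩⟩, hzd⟩ := IsLocalization.surj (Submonoid.powers b) z
  have h1 := congrArg (IsLocalization.Away.lift (S := Localization.Away b) b hbu) hzd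
  simp only [map_mul, IsLocalization.Away.lift_eq, hz, map_pow] at h1
  have h2 : algebraMap R p.ResidueField (b ^ n - d * c) = 0 := by
    rw [map_sub, map_mul, map_pow, ← h1]
    field_simp
    ring
  have h3 : b ^ n - d * c ∈ q := hpq ((hker _).1 h2)
  have h4 : b ^ n ∈ q := by
    have := q.add_mem h3 (q.mul_mem_left d hcq)
    simpa using this
  exact hbq (hq.mem_of_pow_mem n h4)


set_option backward.isDefEq.respectTransparency.types false in
theorem isLocallyClosed_singleton_Spec (R : CommRingCat.{u}) (x : Spec R)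
    [h : LocallyOfFiniteType ((Spec R).fromSpecResidueField x)] :
    IsLocallyClosed ({x} : Set (Spec R)) := by
  rw [← Scheme.Spec.map_residueFieldIso_inv_eq_fromSpecResidueField,
    MorphismProperty.cancel_left_of_respectsIso (P := @LocallyOfFiniteType),
    HasRingHomProperty.Spec_iff (P := @LocallyOfFiniteType)] at h
  obtain ⟨b, hb, H⟩ := exists_notMem_forall_prime_eq x.asIdeal h
  refine ⟨(PrimeSpectrum.basicOpen b : Set (PrimeSpectrum R)),
    PrimeSpectrum.zeroLocus (x.asIdeal : Set R), (PrimeSpectrum.basicOpen b).2,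
    PrimeSpectrum.isClosed_zeroLocus _, ?_⟩
  ext y
  constructor
  · rintro rfl
    exact ⟨hb, fun _ h => h⟩
  · rintro ⟨h1, h2⟩
    exact PrimeSpectrum.ext (H y.asIdeal y.2 h2 h1)

set_option backward.isDefEq.respectTransparency.types false in
/-- A point whose residue field spectrum is locally of finite type over the scheme is locally
closed. -/
theorem isLocallyClosed_singleton_of_lft {X : Scheme.{u}} (x : X)
    [h : LocallyOfFiniteType (X.fromSpecResidueField x)] : IsLocallyClosed ({x} : Set X) := by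
  obtain ⟨W, hW, hxW, -⟩ := exists_isAffineOpen_mem_and_subset (x := x) (U := (⊤ : X.Opens)) trivial
  have hr : x ∈ Set.range hW.fromSpec := by
    rw [hW.range_fromSpec]; exact hxW
  obtain ⟨x', rfl⟩ := hr
  have e := Scheme.Hom.SpecMap_residueFieldMap_fromSpecResidueField hW.fromSpec x'
  have h1 : LocallyOfFiniteType ((Spec Γ(X, W)).fromSpecResidueField x' ≫ hW.fromSpec) := by
    rw [← e]
    infer_instance
  have h2 : LocallyOfFiniteType ((Spec Γ(X, W)).fromSpecResidueField x') :=
    locallyOfFiniteType_of_comp _ hW.fromSpec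
  have h3 := isLocallyClosed_singleton_Spec Γ(X, W) x'
  have h4 := h3.image hW.fromSpec.isOpenEmbedding.isInducing
    hW.fromSpec.isOpenEmbedding.isOpen_range.isLocallyClosed
  rwa [Set.image_singleton] at h4

end Groth.Agent.Lib.Helper24.FtPtClosed
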