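import Groth.Agent.Lib.Helper10.QuotShBr2
import Groth.Agent.Lib.Helper14.SheafQuot2
import Groth.Prelude.Def_ChGrp
import Groth.Prelude.Def_W4bk4git07Quot
import Groth.Prelude.Def_QuotSh
set_option autoImplicit false
set_option backward.isDefEq.respectTransparency.types false
universe u
open CategoryTheory CategoryTheory.Limits AlgebraicGeometry Opposite
open MonoidalCategory CartesianMonoidalCategory MonObj

/-! fppf sheaf quotients by group actions: local sections and local orbits. -/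

namespace Groth.Agent.Lib.Helper24.GQ1
open AlgSp Groth.Agent.Lib.Helper14.AS Groth.Agent.Lib.Helper24.QuotBridge
open Groth.Agent.Lib.Helper10.QuotShBr

variable {S : Scheme.{u}} {G X Y : Over S} [GrpObj G] (a : AlgGrp.Action G X) (q : X ⟶ Y)

theorem isPreEqvRelSp_act :
    AlgSp.IsPreEqvRelSp ((yon S).map a.act) ((yon S).map (snd G X)) := by
  intro T
  refine ⟨fun x => ?_, fun {x y} => ?_, fun {x y z} => ?_⟩
  · obtain ⟨x₀, rfl⟩ := (yon S).map_surjective x
    refine ⟨(yon S).map (lift (1 : T ⟶ G) x₀), ?_, ?_⟩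
    · rw [← Functor.map_comp, lift_snd]
    · rw [← Functor.map_comp, AlgGrp.Action.lift_one_act]
  · rintro ⟨r, rfl, rfl⟩
    obtain ⟨r₀, rfl⟩ := (yon S).map_surjective r
    let g : T ⟶ G := r₀ ≫ fst G X
    let x₀ : T ⟶ X := r₀ ≫ snd G X
    have hr : r₀ = lift g x₀ := by
      apply CartesianMonoidalCategory.hom_ext <;> simp [g, x₀]
    refine ⟨(yon S).map (lift g⁻¹ (r₀ ≫ a.act)), ?_, ?_⟩
    · rw [← Functor.map_comp, ← Functor.map_comp, lift_snd]
    · rw [← Functor.map_comp, ← Functor.map_comp]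
      congr 1
      rw [hr, ← AlgGrp.Action.lift_mul_act, inv_mul_cancel, AlgGrp.Action.lift_one_act, lift_snd]
  · rintro ⟨r₁, rfl, rfl⟩ ⟨r₂, h2, rfl⟩
    obtain ⟨r₁', rfl⟩ := (yon S).map_surjective r₁
    obtain ⟨r₂', rfl⟩ := (yon S).map_surjective r₂
    rw [← Functor.map_comp, ← Functor.map_comp] at h2
    have h2' : r₂' ≫ snd G X = r₁' ≫ a.act := (yon S).map_injective h2
    let g : T ⟶ G := r₁' ≫ fst G X
    let h : T ⟶ G := r₂' ≫ fst G X
    let x₀ : T ⟶ X := r₁' ≫ snd G X
    have hr1 : r₁' = lift g x₀ := by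
      apply CartesianMonoidalCategory.hom_ext <;> simp [g, x₀]
    have hr2 : r₂' = lift h (r₁' ≫ a.act) := by
      apply CartesianMonoidalCategory.hom_ext
      · simp [h]
      · rw [lift_snd, h2']
    refine ⟨(yon S).map (lift (h * g) x₀), ?_, ?_⟩
    · rw [← Functor.map_comp, ← Functor.map_comp, lift_snd]
    · rw [← Functor.map_comp, ← Functor.map_comp]
      congr 1
      rw [AlgGrp.Action.lift_mul_act]
      conv_rhs => rw [hr2, hr1]

variable {a q}

/-- the comparison isomorphism from the sheaf quotient -/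
theorem exists_iso_of_isQuotient
    (hq : QuotSh.IsQuotient Scheme.fppfPrecoverage a.act (snd G X) q) :
    ∃ (wY : (yon S).map a.act ≫ (yon S).map q = (yon S).map (snd G X) ≫ (yon S).map q),
      IsIso (quotSpDesc ((yon S).map q) wY) := by
  obtain ⟨w, hiso⟩ := hq
  have wY : (yon S).map a.act ≫ (yon S).map q = (yon S).map (snd G X) ≫ (yon S).map q := by
    rw [← Functor.map_comp, ← Functor.map_comp, w]
  refine ⟨wY, ?_⟩
  rw [quotSpDesc_eq q w]
  infer_instance

theorem epi_of_isQuotient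
    (hq : QuotSh.IsQuotient Scheme.fppfPrecoverage a.act (snd G X) q) :
    Epi ((yon S).map q) := by
  obtain ⟨wY, hd⟩ := exists_iso_of_isQuotient hq
  have hπd : quotSpπ ((yon S).map a.act) ((yon S).map (snd G X)) ≫
      quotSpDesc ((yon S).map q) wY = (yon S).map q := quotSpπ_desc _ _ ((yon S).map q) wY
  rw [← hπd]
  haveI := epi_quotSpπ ((yon S).map a.act) ((yon S).map (snd G X))
  exact epi_comp _ _

/-- two points with the same image are fppf locally in the same orbit -/
theorem exists_cover_orbit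
    (hq : QuotSh.IsQuotient Scheme.fppfPrecoverage a.act (snd G X) q)
    {T : Over S} (x₁ x₂ : T ⟶ X) (h : x₁ ≫ q = x₂ ≫ q) :
    ∃ R ∈ KS S T, ∀ ⦃W : Over S⦄ (w : W ⟶ T), R w →
      ∃ g : W ⟶ G, lift g (w ≫ x₁) ≫ a.act = w ≫ x₂ := by
  obtain ⟨wY, hd⟩ := exists_iso_of_isQuotient hq
  have hπd : quotSpπ ((yon S).map a.act) ((yon S).map (snd G X)) ≫
      quotSpDesc ((yon S).map q) wY = (yon S).map q := quotSpπ_desc _ _ ((yon S).map q) wY
  have h' : (yon S).map x₁ ≫ quotSpπ ((yon S).map a.act) ((yon S).map (snd G X)) =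
      (yon S).map x₂ ≫ quotSpπ ((yon S).map a.act) ((yon S).map (snd G X)) := by
    rw [← cancel_mono (quotSpDesc ((yon S).map q) wY), Category.assoc, Category.assoc, hπd,
      ← Functor.map_comp, ← Functor.map_comp, h]
  obtain ⟨Sv, hSv, hrel⟩ := exists_cover_rel _ _ (isPreEqvRelSp_act a) _ _ h'
  obtain ⟨R, hR, hle⟩ := (mem_J_iff _).1 hSv
  refine ⟨R, hR, fun W w hw => ?_⟩
  obtain ⟨r, h1, h2⟩ := hrel w (hle _ _ hw)
  obtain ⟨r₀, rfl⟩ := (yon S).map_surjective r
  rw [← Functor.map_comp, ← Functor.map_comp] at h1 h2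
  have h1' : r₀ ≫ snd G X = w ≫ x₁ := (yon S).map_injective h1
  have h2' : r₀ ≫ a.act = w ≫ x₂ := (yon S).map_injective h2
  refine ⟨r₀ ≫ fst G X, ?_⟩
  rw [← h2', ← h1']
  congr 1
  apply CartesianMonoidalCategory.hom_ext <;> simp

end Groth.Agent.Lib.Helper24.GQ1
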