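import Groth.Agent.Lib.Helper24.GQ2
set_option autoImplicit false
set_option backward.isDefEq.respectTransparency.types false
universe u
open CategoryTheory CategoryTheory.Limits AlgebraicGeometry Opposite
open MonoidalCategory CartesianMonoidalCategory MonObj

/-! Restriction of a sheaf quotient to an open of the base; the sections condition. -/

namespace Groth.Agent.Lib.Helper24.GQ3
open AlgSp Groth.Agent.Lib.Helper14.AS Groth.Agent.Lib.Helper10.QuotShBr
open Groth.Agent.Lib.Helper24.GQ1 Groth.Agent.Lib.Helper24.GQ2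

variable {S : Scheme.{u}} {X Y : Over S} (q : X ⟶ Y) (U : Y.left.Opens)

/-- the open `U` of `Y` as a scheme over `S` -/
noncomputable def YU : Over S := Over.mk (U.ι ≫ Y.hom)
noncomputable def jU : YU U ⟶ Y := Over.homMk U.ι rfl
/-- the preimage of `U` in `X` as a scheme over `S` -/
noncomputable def XU : Over S := Over.mk ((q.left ⁻¹ᵁ U).ι ≫ X.hom)
noncomputable def iU : XU q U ⟶ X := Over.homMk (q.left ⁻¹ᵁ U).ι rfl

noncomputable def qU : XU q U ⟶ YU U :=
  Over.homMk (q.left ∣_ U) (by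
    change (q.left ∣_ U) ≫ U.ι ≫ Y.hom = (q.left ⁻¹ᵁ U).ι ≫ X.hom
    rw [← Category.assoc, morphismRestrict_ι, Category.assoc, Over.w q])

lemma qU_jU : qU q U ≫ jU U = iU q U ≫ q := by
  apply Over.OverMorphism.ext
  exact morphismRestrict_ι q.left U

lemma jU_cancel {T : Over S} (a b : T ⟶ YU U) (h : a ≫ jU U = b ≫ jU U) : a = b := by
  apply Over.OverMorphism.ext
  have := congrArg CommaMorphism.left h
  exact (cancel_mono U.ι).1 this

lemma iU_cancel {T : Over S} (a b : T ⟶ XU q U) (h : a ≫ iU q U = b ≫ iU q U) : a = b := by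
  apply Over.OverMorphism.ext
  have := congrArg CommaMorphism.left h
  exact (cancel_mono (q.left ⁻¹ᵁ U).ι).1 this

/-- points of `X` whose image lies in `U` factor through the preimage of `U` -/
lemma exists_lift_XU {T : Over S} (l : T ⟶ X) (v : T ⟶ YU U) (h : l ≫ q = v ≫ jU U) :
    ∃ l' : T ⟶ XU q U, l' ≫ iU q U = l ∧ l' ≫ qU q U = v := by
  have hr : Set.range l.left ⊆ Set.range (q.left ⁻¹ᵁ U).ι := by
    rintro _ ⟨t, rfl⟩
    rw [Scheme.Opens.range_ι]
    change q.left (l.left t) ∈ U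
    have h1 : q.left (l.left t) = U.ι (v.left t) := by
      have := congrArg (fun k => k.left t) h
      exact this
    rw [h1]
    exact (v.left t).2
  let l₀ : T.left ⟶ (q.left ⁻¹ᵁ U).toScheme := IsOpenImmersion.lift (q.left ⁻¹ᵁ U).ι l.left hr
  have hl₀ : l₀ ≫ (q.left ⁻¹ᵁ U).ι = l.left := IsOpenImmersion.lift_fac _ _ _
  let l' : T ⟶ XU q U := Over.homMk l₀ (by
    change l₀ ≫ (q.left ⁻¹ᵁ U).ι ≫ X.hom = T.hom
    rw [← Category.assoc, hl₀, Over.w l])
  have h1 : l' ≫ iU q U = l := Over.OverMorphism.ext hl₀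
  refine ⟨l', h1, ?_⟩
  apply jU_cancel
  rw [Category.assoc, qU_jU, ← Category.assoc, h1, h]

variable {q}

theorem epi_qU (hq : Epi ((yon S).map q)) : Epi ((yon S).map (qU q U)) := by
  haveI : Sheaf.IsLocallySurjective ((yon S).map q) := (Sheaf.isLocallySurjective_iff_epi _).2 hq
  refine (Sheaf.isLocallySurjective_iff_epi _).1 (isLocallySurjective_of_cover_lifts _ ?_)
  intro T y
  obtain ⟨v, rfl⟩ := (yon S).map_surjective y
  obtain ⟨R, hR, hl⟩ := exists_cover_lift ((yon S).map q) ((yon S).map (v ≫ jU U))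
  refine ⟨Sieve.generate R, ?_, ?_⟩
  · rw [J_eq_toGrothendieck]
    exact Precoverage.generate_mem_toGrothendieck hR
  · rintro W w ⟨W', u, w', hw', rfl⟩
    obtain ⟨l, hl'⟩ := hl w' hw'
    obtain ⟨l₀, rfl⟩ := (yon S).map_surjective l
    rw [← Functor.map_comp, ← Functor.map_comp] at hl'
    have hl'' : l₀ ≫ q = (w' ≫ v) ≫ jU U := by
      rw [Category.assoc]
      exact (yon S).map_injective hl'
    obtain ⟨l', -, h2⟩ := exists_lift_XU q U l₀ (w' ≫ v) hl''
    refine ⟨(yon S).map (u ≫ l'), ?_⟩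
    rw [← Functor.map_comp, ← Functor.map_comp, Category.assoc, h2, Category.assoc]

end Groth.Agent.Lib.Helper24.GQ3
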