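import Groth.Agent.Lib.Helper24.GQ3
import Groth.Agent.Lib.Helper24.DescSubsheaf
import Groth.Agent.Lib.Helper10.FpqcDesc2
set_option autoImplicit false
set_option backward.isDefEq.respectTransparency.types false
universe u
open CategoryTheory CategoryTheory.Limits AlgebraicGeometry Opposite
open MonoidalCategory CartesianMonoidalCategory MonObj

/-! fppf sheaf quotients are geometric quotients: invariance, surjectivity, orbits. -/

namespace Groth.Agent.Lib.Helper24.GQ4
open AlgSp Groth.Agent.Lib.Helper14.AS Groth.Agent.Lib.Helper10.QuotShBr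
open Groth.Agent.Lib.Helper24.GQ1 Groth.Agent.Lib.Helper24.GQ2 Groth.Agent.Lib.Helper24.GQ3
open Groth.Agent.Lib.Helper10.FpqcDesc

variable {S : Scheme.{u}} {G X Y : Over S} [GrpObj G] {a : AlgGrp.Action G X} {q : X ⟶ Y}

theorem inv_of_isQuotient
    (hq : QuotSh.IsQuotient Scheme.fppfPrecoverage a.act (snd G X) q) :
    GIT.IsInvariant a q := by
  obtain ⟨w, _⟩ := hq
  exact w

theorem surj_of_epi (hepi : Epi ((yon S).map q)) : Function.Surjective q.left.base := by
  intro y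
  obtain ⟨R, hR, hl⟩ := exists_cover_lift_of_epi q hepi
  obtain ⟨W, w, hw, t, ht⟩ :=
    Groth.Agent.Lib.Helper24.DescSubsheaf.exists_mem_range_of_mem_KS R hR y
  obtain ⟨l, hl'⟩ := hl w hw
  refine ⟨l.left t, ?_⟩
  have := congrArg (fun k => k.left t) hl'
  exact this.trans ht

theorem orbit_of_isQuotient
    (hq : QuotSh.IsQuotient Scheme.fppfPrecoverage a.act (snd G X) q) :
    Function.Surjective (GIT.PsiY a q (inv_of_isQuotient hq)).base := by
  intro z
  -- the residue field point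
  let ιz : Spec ((pullback q.left q.left).residueField z) ⟶ pullback q.left q.left :=
    (pullback q.left q.left).fromSpecResidueField z
  let T : Over S := Over.mk (ιz ≫ pullback.fst _ _ ≫ X.hom)
  let x₁ : T ⟶ X := Over.homMk (ιz ≫ pullback.fst _ _) (by simp [T])
  let x₂ : T ⟶ X := Over.homMk (ιz ≫ pullback.snd _ _) (by
    change (ιz ≫ pullback.snd _ _) ≫ X.hom = ιz ≫ pullback.fst _ _ ≫ X.hom
    rw [← Over.w q, Category.assoc, ← Category.assoc (pullback.snd _ _), ← pullback.condition,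
      Category.assoc])
  have h : x₁ ≫ q = x₂ ≫ q := by
    apply Over.OverMorphism.ext
    change (ιz ≫ pullback.fst _ _) ≫ q.left = (ιz ≫ pullback.snd _ _) ≫ q.left
    rw [Category.assoc, Category.assoc, pullback.condition]
  obtain ⟨R, hR, hl⟩ := exists_cover_orbit hq x₂ x₁ h.symm
  let t₀ : T.left := (show Spec ((pullback q.left q.left).residueField z) from
    IsLocalRing.closedPoint ((pullback q.left q.left).residueField z))
  obtain ⟨W, w, hw, t, ht⟩ :=
    Groth.Agent.Lib.Helper24.DescSubsheaf.exists_mem_range_of_mem_KS R hR t₀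
  obtain ⟨g, hg⟩ := hl w hw
  refine ⟨(lift g (w ≫ x₂)).left t, ?_⟩
  have key : (lift g (w ≫ x₂)).left ≫ GIT.PsiY a q (inv_of_isQuotient hq) = w.left ≫ ιz := by
    apply pullback.hom_ext
    · rw [Category.assoc, GIT.PsiY, pullback.lift_fst, ← Over.comp_left, hg]
      rfl
    · rw [Category.assoc, GIT.PsiY, pullback.lift_snd, ← Over.comp_left, lift_snd]
      rfl
  have h2 := congrArg (fun k => k t) key
  change (GIT.PsiY a q _) ((lift g (w ≫ x₂)).left t) = ιz (w.left t) at h2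
  refine h2.trans ?_
  rw [ht]
  exact Scheme.fromSpecResidueField_apply _ _

theorem subm_of_epi (hepi : Epi ((yon S).map q)) : GIT.IsUnivSubmersive q.left := by
  intro X' Y' i₁ i₂ f' hsq
  -- hsq : IsPullback f' i₁ i₂ q.left
  haveI : Surjective q.left := ⟨surj_of_epi hepi⟩
  haveI : Surjective f' := MorphismProperty.of_isPullback hsq.flip ‹Surjective q.left›
  obtain ⟨R, hR, hl⟩ := exists_cover_lift_of_epi q hepi
  change Topology.IsQuotientMap f'
  refine ⟨Topology.IsCoinducing.of_isOpen_preimage_iff_isOpen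
    fun V => ⟨fun hV => ?_, fun hV => hV.preimage f'.continuous⟩, f'.surjective⟩
  rw [isOpen_iff_forall_mem_open]
  intro y hy
  obtain ⟨W, w, hw, t, ht⟩ :=
    Groth.Agent.Lib.Helper24.DescSubsheaf.exists_mem_range_of_mem_KS R hR (i₂ y)
  obtain ⟨l, hl'⟩ := hl w hw
  obtain ⟨hfl, hlfp⟩ := flat_lfp_of_mem_KS hR w hw
  have := hfl
  have := hlfp
  -- base change of the cover member
  let w' : pullback w.left i₂ ⟶ Y' := pullback.snd w.left i₂
  haveI : Flat w' := inferInstance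
  haveI : LocallyOfFinitePresentation w' := inferInstance
  haveI : UniversallyOpen w' := UniversallyOpen.of_flat w'
  have hopen : IsOpenMap w' := w'.isOpenMap
  obtain ⟨t', ht1, ht2⟩ := Scheme.Pullback.exists_preimage_pullback t y ht
  -- the section
  have hcomm : (pullback.fst w.left i₂ ≫ l.left) ≫ q.left = w' ≫ i₂ := by
    rw [Category.assoc, ← Over.comp_left, hl', pullback.condition]
  let σ : pullback w.left i₂ ⟶ X' := hsq.lift w' (pullback.fst w.left i₂ ≫ l.left) hcomm.symm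
  have hσ : σ ≫ f' = w' := hsq.lift_fst _ _ _
  refine ⟨w' '' (w' ⁻¹' V), ?_, ?_, ?_⟩
  · rintro _ ⟨s, hs, rfl⟩
    exact hs
  · apply hopen
    have : (w' ⁻¹' V : Set ↥(pullback w.left i₂)) = σ ⁻¹' (f' ⁻¹' V) := by
      ext s
      have := congrArg (fun k => k s) hσ
      change f' (σ s) = w' s at this
      simp only [Set.mem_preimage]
      rw [this]
    rw [this]
    exact hV.preimage σ.continuous
  · exact ⟨t', by rw [Set.mem_preimage]; change w' t' ∈ V; rw [ht2]; exact hy, ht2⟩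

theorem isInvSection_app (hinv : GIT.IsInvariant a q) (U : Y.left.Opens) (g : Γ(Y.left, U)) :
    GIT.IsInvSection a q U (q.left.app U g) := by
  unfold GIT.IsInvSection
  have e0 : q.left.app U = q.left.appLE U (q.left ⁻¹ᵁ U) le_rfl := Scheme.Hom.app_eq_appLE _
  rw [e0]
  have h1 : a.act.left ⁻¹ᵁ (q.left ⁻¹ᵁ U) ⊓ (snd G X).left ⁻¹ᵁ (q.left ⁻¹ᵁ U) ≤
      (a.act.left ≫ q.left) ⁻¹ᵁ U := inf_le_left
  have h2 : a.act.left ⁻¹ᵁ (q.left ⁻¹ᵁ U) ⊓ (snd G X).left ⁻¹ᵁ (q.left ⁻¹ᵁ U) ≤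
      ((snd G X).left ≫ q.left) ⁻¹ᵁ U := inf_le_right
  rw [appLE_comp_apply _ _ _ _ _ _ _ h1, appLE_comp_apply _ _ _ _ _ _ _ h2]
  exact congrArg (fun t => t.hom g) (appLE_congr_hom hinv.left _ _ h1 h2)

theorem app_injective_of_epi (hepi : Epi ((yon S).map q)) (U : Y.left.Opens) :
    Function.Injective (q.left.app U) := by
  intro g₁ g₂ h
  have key : ∀ g : Γ(Y.left, U), (qU q U).left.appTop (U.topIso.inv g) =
      (q.left ⁻¹ᵁ U).topIso.inv (q.left.app U g) := fun g =>
    congrArg (fun t => t.hom g) (topIso_inv_appTop q.left U)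
  have h2 : (qU q U).left.appTop (U.topIso.inv g₁) = (qU q U).left.appTop (U.topIso.inv g₂) := by
    rw [key, key, h]
  have h3 := appTop_injective_of_epi (qU q U) (epi_qU U hepi) h2
  have h4 := congrArg U.topIso.hom h3
  have hinvhom : ∀ t : Γ(Y.left, U), U.topIso.hom (U.topIso.inv t) = t :=
    fun t => congrArg (fun r => r.hom t) U.topIso.inv_hom_id
  rwa [hinvhom, hinvhom] at h4

/-- pulling back the section `f` over `V` along a point of `X` factoring through `V` -/
theorem appTop_topIso_inv_left (U : Y.left.Opens) (f : Γ(X.left, q.left ⁻¹ᵁ U))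
    {W : Over S} (k : W ⟶ XU q U) (h : (⊤ : W.left.Opens) ≤ (k ≫ iU q U).left ⁻¹ᵁ (q.left ⁻¹ᵁ U)) :
    k.left.appTop ((q.left ⁻¹ᵁ U).topIso.inv f) =
      (k ≫ iU q U).left.appLE (q.left ⁻¹ᵁ U) ⊤ h f :=
  appTop_topIso_inv (q.left ⁻¹ᵁ U) k.left f h

theorem top_le_preimage (U : Y.left.Opens) {W : Over S} (k : W ⟶ XU q U) :
    (⊤ : W.left.Opens) ≤ (k ≫ iU q U).left ⁻¹ᵁ (q.left ⁻¹ᵁ U) := by
  intro t _
  change (q.left ⁻¹ᵁ U).ι (k.left t) ∈ q.left ⁻¹ᵁ U
  exact (k.left t).2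

theorem eq_of_orbit (U : Y.left.Opens) (f : Γ(X.left, q.left ⁻¹ᵁ U))
    (hf : GIT.IsInvSection a q U f) {W : Over S} (k₁ k₂ : W ⟶ XU q U) (g : W ⟶ G)
    (hg : lift g (k₁ ≫ iU q U) ≫ a.act = k₂ ≫ iU q U) :
    k₁.left.appTop ((q.left ⁻¹ᵁ U).topIso.inv f) = k₂.left.appTop ((q.left ⁻¹ᵁ U).topIso.inv f) := by
  rw [appTop_topIso_inv_left U f k₁ (top_le_preimage U k₁),
    appTop_topIso_inv_left U f k₂ (top_le_preimage U k₂)]
  have hs : lift g (k₁ ≫ iU q U) ≫ snd G X = k₁ ≫ iU q U := lift_snd _ _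
  have hsl : (lift g (k₁ ≫ iU q U)).left ≫ (snd G X).left = (k₁ ≫ iU q U).left := by
    rw [← Over.comp_left, hs]
  have hal : (lift g (k₁ ≫ iU q U)).left ≫ a.act.left = (k₂ ≫ iU q U).left := by
    rw [← Over.comp_left, hg]
  have hV' : (⊤ : W.left.Opens) ≤ (lift g (k₁ ≫ iU q U)).left ⁻¹ᵁ
      (a.act.left ⁻¹ᵁ (q.left ⁻¹ᵁ U) ⊓ (snd G X).left ⁻¹ᵁ (q.left ⁻¹ᵁ U)) := by
    intro t _
    refine ⟨?_, ?_⟩
    · have := top_le_preimage U k₂ (Set.mem_univ t)
      rw [← hal] at this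
      exact this
    · have := top_le_preimage U k₁ (Set.mem_univ t)
      rw [← hsl] at this
      exact this
  have e1 : (⊤ : W.left.Opens) ≤
      ((lift g (k₁ ≫ iU q U)).left ≫ (snd G X).left) ⁻¹ᵁ (q.left ⁻¹ᵁ U) := by
    rw [hsl]; exact top_le_preimage U k₁
  have e2 : (⊤ : W.left.Opens) ≤
      ((lift g (k₁ ≫ iU q U)).left ≫ a.act.left) ⁻¹ᵁ (q.left ⁻¹ᵁ U) := by
    rw [hal]; exact top_le_preimage U k₂
  have c1 := congrArg (fun t => t.hom f)
    (appLE_congr_hom hsl (q.left ⁻¹ᵁ U) ⊤ e1 (top_le_preimage U k₁))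
  have c2 := congrArg (fun t => t.hom f)
    (appLE_congr_hom hal (q.left ⁻¹ᵁ U) ⊤ e2 (top_le_preimage U k₂))
  refine c1.symm.trans (Eq.trans ?_ c2)
  change ((lift g (k₁ ≫ iU q U)).left ≫ (snd G X).left).appLE (q.left ⁻¹ᵁ U) ⊤ e1 f =
    ((lift g (k₁ ≫ iU q U)).left ≫ a.act.left).appLE (q.left ⁻¹ᵁ U) ⊤ e2 f
  rw [← appLE_comp_apply _ _ _ _ _ inf_le_right hV' e1, ← appLE_comp_apply _ _ _ _ _ inf_le_left hV' e2]
  exact congrArg _ hf.symm

theorem exists_section_of_isInvSection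
    (hq : QuotSh.IsQuotient Scheme.fppfPrecoverage a.act (snd G X) q)
    (U : Y.left.Opens) (f : Γ(X.left, q.left ⁻¹ᵁ U))
    (hf : GIT.IsInvSection a q U f) : ∃ g : Γ(Y.left, U), q.left.app U g = f := by
  have hepi : Epi ((yon S).map q) := epi_of_isQuotient hq
  have H : (pullback.fst (qU q U) (qU q U)).left.appTop ((q.left ⁻¹ᵁ U).topIso.inv f) =
      (pullback.snd (qU q U) (qU q U)).left.appTop ((q.left ⁻¹ᵁ U).topIso.inv f) := by
    have h : (pullback.fst (qU q U) (qU q U) ≫ iU q U) ≫ q =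
        (pullback.snd (qU q U) (qU q U) ≫ iU q U) ≫ q := by
      rw [Category.assoc, Category.assoc, ← qU_jU, ← Category.assoc, ← Category.assoc,
        pullback.condition]
    obtain ⟨R, hR, hl⟩ := exists_cover_orbit hq _ _ h
    have hR' : Sieve.generate R ∈ J S (pullback (qU q U) (qU q U)) := by
      rw [J_eq_toGrothendieck]; exact Precoverage.generate_mem_toGrothendieck hR
    have key : pullback.fst (qU q U) (qU q U) ≫ ofFun ((q.left ⁻¹ᵁ U).topIso.inv f) =
        pullback.snd (qU q U) (qU q U) ≫ ofFun ((q.left ⁻¹ᵁ U).topIso.inv f) := by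
      apply (yon S).map_injective
      refine yon_hom_ext_of_cover _ _ _ hR' ?_
      rintro W' w' ⟨W, u, w, hw, rfl⟩
      obtain ⟨g, hg⟩ := hl w hw
      rw [← Functor.map_comp, ← Functor.map_comp]
      congr 1
      rw [Category.assoc, Category.assoc]
      congr 1
      rw [← Category.assoc, ← Category.assoc, comp_ofFun, comp_ofFun]
      congr 1
      refine eq_of_orbit U f hf _ _ g ?_
      rw [Category.assoc, Category.assoc]
      exact hg
    have h3 := congrArg toFun key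
    rwa [toFun_comp, toFun_comp, toFun_ofFun] at h3
  obtain ⟨g₀, hg₀⟩ := exists_fun_of_epi (qU q U) (epi_qU U hepi) _ H
  refine ⟨U.topIso.hom g₀, ?_⟩
  have key : (qU q U).left.appTop (U.topIso.inv (U.topIso.hom g₀)) =
      (q.left ⁻¹ᵁ U).topIso.inv (q.left.app U (U.topIso.hom g₀)) :=
    congrArg (fun t => t.hom (U.topIso.hom g₀)) (topIso_inv_appTop q.left U)
  have hhominv : U.topIso.inv (U.topIso.hom g₀) = g₀ :=
    congrArg (fun r => r.hom g₀) U.topIso.hom_inv_id
  rw [hhominv, hg₀] at key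
  have e4 := congrArg (q.left ⁻¹ᵁ U).topIso.hom key
  have hinvhom : ∀ t : Γ(X.left, q.left ⁻¹ᵁ U),
      (q.left ⁻¹ᵁ U).topIso.hom ((q.left ⁻¹ᵁ U).topIso.inv t) = t :=
    fun t => congrArg (fun r => r.hom t) (q.left ⁻¹ᵁ U).topIso.inv_hom_id
  rw [hinvhom, hinvhom] at e4
  exact e4.symm


/-- an fppf sheaf quotient by a group action is a geometric quotient -/
theorem isGeomQuot_of_isQuotient
    (hq : QuotSh.IsQuotient Scheme.fppfPrecoverage a.act (snd G X) q) :
    GIT.IsGeomQuot a q := by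
  have hepi : Epi ((yon S).map q) := epi_of_isQuotient hq
  refine ⟨inv_of_isQuotient hq, surj_of_epi hepi, orbit_of_isQuotient hq, subm_of_epi hepi,
    fun U => ⟨app_injective_of_epi hepi U, ?_⟩⟩
  ext f
  constructor
  · rintro ⟨g, rfl⟩
    exact isInvSection_app (inv_of_isQuotient hq) U g
  · intro hf
    exact exists_section_of_isInvSection hq U f hf

end Groth.Agent.Lib.Helper24.GQ4
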