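import Mathlib

set_option autoImplicit false

/-!
# Compactness of the automorphism group of a normal algebraic extension (helper24)
-/

namespace Groth.Agent.Lib.Helper24.GalField

open scoped Topology IntermediateField

universe u

section Compact

variable (K E : Type*) [Field K] [Field E] [Algebra K E] [Normal K E]

/-- An automorphism fixing the separable closure is trivial. -/
lemma eq_one_of_fix_separableClosure (σ : Gal(E/K))
    (h : ∀ y : separableClosure K E, σ (y : E) = y) : σ = 1 := by
  have : IsPurelyInseparable (separableClosure K E) E := inferInstance
  have h1 := IsPurelyInseparable.injective_comp_algebraMap (separableClosure K E) E E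
    (a₁ := (σ : E →+* E)) (a₂ := RingHom.id E) (by
      ext y
      exact h y)
  ext x
  exact congrArg (fun f : E →+* E => f x) h1

lemma restrict_apply (σ : Gal(E/K)) (y : separableClosure K E) :
    ((AlgEquiv.restrictNormalHom (separableClosure K E) σ) y : E) = σ (y : E) :=
  AlgEquiv.restrictNormal_commutes σ (separableClosure K E) y

lemma restrict_injective :
    Function.Injective (AlgEquiv.restrictNormalHom (F := K) (K₁ := E) (separableClosure K E)) := by
  rw [injective_iff_map_eq_one]
  intro σ hσ
  refine eq_one_of_fix_separableClosure K E σ fun y => ?_
  rw [← restrict_apply, hσ]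
  rfl

lemma nhds_one_eq_comap :
    𝓝 (1 : Gal(E/K)) = (𝓝 (1 : Gal((separableClosure K E)/K))).comap
      (AlgEquiv.restrictNormalHom (F := K) (K₁ := E) (separableClosure K E)) := by
  apply le_antisymm
  · have hc := InfiniteGalois.restrictNormalHom_continuous (k := K) (K := E)
      (separableClosure K E)
    have := hc.tendsto 1
    rw [map_one] at this
    exact Filter.map_le_iff_le_comap.1 this
  · intro s hs
    rw [krullTopology_mem_nhds_one_iff] at hs
    obtain ⟨L, hL, hLs⟩ := hs
    let L' : IntermediateField K (separableClosure K E) :=
      L.comap (separableClosure K E).val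
    have hL' : FiniteDimensional K L' := by
      let f : L' →ₗ[K] L :=
        { toFun := fun y => ⟨((y : separableClosure K E) : E), y.2⟩
          map_add' := fun _ _ => rfl
          map_smul' := fun _ _ => rfl }
      have hf : Function.Injective f := fun a b hab => by
        apply Subtype.ext
        apply Subtype.ext
        exact congrArg (fun t : L => (t : E)) hab
      exact Module.Finite.of_injective f hf
    refine Filter.mem_comap.2 ⟨(L'.fixingSubgroup : Set _),
      (krullTopology_mem_nhds_one_iff _ _ _).2 ⟨L', hL', subset_rfl⟩, ?_⟩
    intro σ hσ
    apply hLs
    rw [Set.mem_preimage, SetLike.mem_coe, IntermediateField.mem_fixingSubgroup_iff] at hσ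
    rw [SetLike.mem_coe, IntermediateField.mem_fixingSubgroup_iff]
    intro x hx
    let q := ringExpChar (separableClosure K E)
    have : IsPurelyInseparable (separableClosure K E) E := inferInstance
    obtain ⟨n, y, hy⟩ := IsPurelyInseparable.pow_mem (separableClosure K E) q x
    have hyL : y ∈ L' := by
      show ((y : separableClosure K E) : E) ∈ L
      have : ((y : separableClosure K E) : E) = x ^ q ^ n := hy
      rw [this]
      exact pow_mem hx _
    have h1 := hσ y hyL
    have h2 : σ ((y : separableClosure K E) : E) = ((y : separableClosure K E) : E) := by
      rw [← restrict_apply, h1]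
    have h3 : ((y : separableClosure K E) : E) = x ^ q ^ n := hy
    rw [h3, map_pow] at h2
    have hq : ExpChar E q := expChar_of_injective_algebraMap
      (algebraMap (separableClosure K E) E).injective q
    exact iterateFrobenius_inj E q n h2

instance compactSpace_gal : CompactSpace Gal(E/K) := by
  have hind : Topology.IsInducing
      (AlgEquiv.restrictNormalHom (F := K) (K₁ := E) (separableClosure K E)) :=
    IsTopologicalGroup.isInducing_iff_nhds_one.2 (nhds_one_eq_comap K E)
  constructor
  rw [hind.isCompact_iff, Set.image_univ,
    Set.range_eq_univ.2 (AlgEquiv.restrictNormalHom_surjective E)]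
  exact isCompact_univ

end Compact

end Groth.Agent.Lib.Helper24.GalField
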