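import Mathlib

set_option autoImplicit false

/-!
# Extending embeddings to automorphisms of an algebraic closure (helper24)
-/

namespace Groth.Agent.Lib.Helper24.GalField

open scoped Topology IntermediateField

universe u

section Ext

variable {K B E : Type*} [Field K] [CommRing B] [Algebra K B] [Module.Finite K B]
  [Field E] [Algebra K E] [IsAlgClosed E] [Algebra.IsAlgebraic K E]

/-- Two `K`-algebra maps from a finite `K`-algebra to an algebraic closure with the same kernel
differ by an automorphism. -/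
theorem exists_aut_of_ker_eq (α₁ α₂ : B →ₐ[K] E)
    (h : RingHom.ker (α₁ : B →+* E) = RingHom.ker (α₂ : B →+* E)) :
    ∃ σ : E ≃ₐ[K] E, ∀ b, σ (α₁ b) = α₂ b := by
  have hart : IsArtinianRing B := IsArtinianRing.of_finite K B
  have hprime : (RingHom.ker (α₁ : B →+* E)).IsPrime := RingHom.ker_isPrime _
  have hmax : (RingHom.ker (α₁ : B →+* E)).IsMaximal := inferInstance
  letI : Field (B ⧸ RingHom.ker (α₁ : B →+* E)) := Ideal.Quotient.field _
  let ι : (B ⧸ RingHom.ker (α₁ : B →+* E)) →ₐ[K] E := Ideal.kerLiftAlg α₁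
  letI : Algebra (B ⧸ RingHom.ker (α₁ : B →+* E)) E := ι.toRingHom.toAlgebra
  haveI : IsScalarTower K (B ⧸ RingHom.ker (α₁ : B →+* E)) E :=
    IsScalarTower.of_algebraMap_eq fun x => (ι.commutes x).symm
  haveI : Algebra.IsAlgebraic (B ⧸ RingHom.ker (α₁ : B →+* E)) E :=
    Algebra.IsAlgebraic.tower_top (K := K) _
  let f : (B ⧸ RingHom.ker (α₁ : B →+* E)) →ₐ[K] E :=
    Ideal.Quotient.liftₐ (RingHom.ker (α₁ : B →+* E)) α₂ (fun a ha => by
      have : a ∈ RingHom.ker (α₂ : B →+* E) := h ▸ ha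
      exact this)
  obtain ⟨φ, hφ⟩ := IsAlgClosed.surjective_domRestrict_of_isAlgebraic
    (K := K) (L := B ⧸ RingHom.ker (α₁ : B →+* E)) (M := E) (E := E) f
  have hbij : Function.Bijective φ := Algebra.IsAlgebraic.algHom_bijective φ
  refine ⟨AlgEquiv.ofBijective φ hbij, fun b => ?_⟩
  have h1 := congrArg (fun g : (B ⧸ RingHom.ker (α₁ : B →+* E)) →ₐ[K] E =>
    g (Ideal.Quotient.mk _ b)) hφ
  simp only [f] at h1
  have h2 : φ (algebraMap (B ⧸ RingHom.ker (α₁ : B →+* E)) E (Ideal.Quotient.mk _ b)) =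
      α₂ b := h1
  have h3 : algebraMap (B ⧸ RingHom.ker (α₁ : B →+* E)) E (Ideal.Quotient.mk _ b) = α₁ b := rfl
  rw [h3] at h2
  exact h2

end Ext

end Groth.Agent.Lib.Helper24.GalField
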