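import Mathlib
import Groth.Prelude.Def_FEt
import Groth.Agent.Lib.Helper24.FlcT
import Groth.Agent.Lib.Helper24.GalFieldA
import Groth.Agent.Lib.Helper24.GalFieldB

set_option autoImplicit false
set_option backward.isDefEq.respectTransparency false
set_option backward.isDefEq.respectTransparency.types false

/-!
# The Galois action on geometric fibres of finite étale `K`-schemes (helper24)
-/

namespace Groth.Agent.Lib.Helper24.GalField

open AlgebraicGeometry CategoryTheory Limits Opposite
open Groth.Agent.Lib.Helper24.Flc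

universe u

variable (K : Type u) [Field K]

/-- The geometric point `Spec K̄ ⟶ Spec K`. -/
noncomputable abbrev ξ₀ : Spec (CommRingCat.of (AlgebraicClosure K)) ⟶ Spec (CommRingCat.of K) :=
  Spec.map (CommRingCat.ofHom (algebraMap K (AlgebraicClosure K)))

/-- The automorphism of `Spec K̄` induced by `σ`. -/
noncomputable def sp (σ : Gal(AlgebraicClosure K/K)) :
    Spec (CommRingCat.of (AlgebraicClosure K)) ⟶ Spec (CommRingCat.of (AlgebraicClosure K)) :=
  Spec.map (CommRingCat.ofHom (σ : AlgebraicClosure K →+* AlgebraicClosure K))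

lemma sp_one : sp K 1 = 𝟙 _ := by
  have : CommRingCat.ofHom ((1 : Gal(AlgebraicClosure K/K)) :
      AlgebraicClosure K →+* AlgebraicClosure K) = 𝟙 _ := rfl
  rw [sp, this, Spec.map_id]

lemma sp_mul (σ τ : Gal(AlgebraicClosure K/K)) : sp K (σ * τ) = sp K σ ≫ sp K τ := by
  have : CommRingCat.ofHom ((σ * τ : Gal(AlgebraicClosure K/K)) :
      AlgebraicClosure K →+* AlgebraicClosure K) =
      CommRingCat.ofHom (τ : AlgebraicClosure K →+* AlgebraicClosure K) ≫
      CommRingCat.ofHom (σ : AlgebraicClosure K →+* AlgebraicClosure K) := rfl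
  rw [sp, this, Spec.map_comp]
  rfl

lemma sp_ξ₀ (σ : Gal(AlgebraicClosure K/K)) : sp K σ ≫ ξ₀ K = ξ₀ K := by
  rw [sp, ξ₀, ← Spec.map_comp]
  congr 1
  ext x
  exact σ.commutes x

noncomputable instance mulActionFiber (A : FEt.Cat (Spec (CommRingCat.of K))) :
    MulAction Gal(AlgebraicClosure K/K) (FEt.fiberObj (ξ₀ K) A) where
  smul σ s := ⟨sp K σ ≫ s.1, by rw [Category.assoc, s.2, sp_ξ₀]⟩
  one_smul s := Subtype.ext (by
    show sp K 1 ≫ s.1 = s.1
    rw [sp_one, Category.id_comp])
  mul_smul σ τ s := Subtype.ext (by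
    show sp K (σ * τ) ≫ s.1 = sp K σ ≫ sp K τ ≫ s.1
    rw [sp_mul, Category.assoc])

lemma smul_val (A : FEt.Cat (Spec (CommRingCat.of K))) (σ : Gal(AlgebraicClosure K/K))
    (s : FEt.fiberObj (ξ₀ K) A) : (σ • s).1 = sp K σ ≫ s.1 := rfl

noncomputable instance mulActionFiberFin (A : FEt.Cat (Spec (CommRingCat.of K))) :
    MulAction Gal(AlgebraicClosure K/K) ((fiberFin (ξ₀ K)).obj A) :=
  inferInstanceAs (MulAction Gal(AlgebraicClosure K/K) (FEt.fiberObj (ξ₀ K) A))

instance isNaturalSMul :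
    PreGaloisCategory.IsNaturalSMul (fiberFin (ξ₀ K)) Gal(AlgebraicClosure K/K) where
  naturality σ A B f s := Subtype.ext (by
    show (sp K σ ≫ s.1) ≫ f.left = sp K σ ≫ (s.1 ≫ f.left)
    rw [Category.assoc])

end Groth.Agent.Lib.Helper24.GalField
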