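import Mathlib
import Groth.Prelude.Def_FEt
import Groth.Agent.Lib.Helper24.GalFieldC
import Groth.Agent.Lib.Helper20.UnramifiedOverField

set_option autoImplicit false
set_option backward.isDefEq.respectTransparency false
set_option backward.isDefEq.respectTransparency.types false

/-!
# Transitivity of the Galois action on fibres of connected finite étale `K`-schemes (helper24)
-/

namespace Groth.Agent.Lib.Helper24.GalField

open AlgebraicGeometry CategoryTheory Limits Opposite
open Groth.Agent.Lib.Helper24.Flc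

universe u

variable {K : Type u} [Field K] (A : FEt.Cat (Spec (CommRingCat.of K)))

instance isAffine_left : IsAffine A.left := by
  have : IsFinite A.hom := A.prop.1
  have h : IsAffine ((Functor.fromPUnit (Spec (CommRingCat.of K))).obj A.right) :=
    inferInstanceAs (IsAffine (Spec (CommRingCat.of K)))
  exact isAffine_of_isAffineHom A.hom

/-- The structure map of the coordinate ring. -/
noncomputable def ι : CommRingCat.of K ⟶ Γ(A.left, ⊤) :=
  Spec.preimage (A.left.isoSpec.inv ≫ A.hom)

lemma map_ι : Spec.map (ι A) = A.left.isoSpec.inv ≫ A.hom := Spec.map_preimage _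

/-- The ring map associated with a geometric point. -/
noncomputable def αc (s : FEt.fiberObj (ξ₀ K) A) :
    Γ(A.left, ⊤) ⟶ CommRingCat.of (AlgebraicClosure K) :=
  Spec.preimage (s.1 ≫ A.left.isoSpec.hom)

lemma map_αc (s : FEt.fiberObj (ξ₀ K) A) : Spec.map (αc A s) = s.1 ≫ A.left.isoSpec.hom :=
  Spec.map_preimage _

lemma ι_αc (s : FEt.fiberObj (ξ₀ K) A) :
    ι A ≫ αc A s = CommRingCat.ofHom (algebraMap K (AlgebraicClosure K)) := by
  apply Spec.map_injective
  rw [Spec.map_comp, map_ι, map_αc, Category.assoc, Iso.hom_inv_id_assoc, s.2]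

lemma αc_smul (σ : Gal(AlgebraicClosure K/K)) (s : FEt.fiberObj (ξ₀ K) A) :
    αc A (σ • s) =
      αc A s ≫ CommRingCat.ofHom (σ : AlgebraicClosure K →+* AlgebraicClosure K) := by
  apply Spec.map_injective
  rw [Spec.map_comp, map_αc, map_αc, smul_val, Category.assoc]
  rfl

lemma αc_injective : Function.Injective (αc A) := by
  intro s t h
  apply Subtype.ext
  have h1 := congrArg Spec.map h
  rw [map_αc, map_αc] at h1
  exact (cancel_mono _).1 h1

lemma finite_ι : (ι A).hom.Finite := by
  rw [← IsFinite.SpecMap_iff, map_ι]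
  have : IsFinite A.hom := A.prop.1
  infer_instance

/-- The `K`-algebra structure on the coordinate ring. -/
noncomputable abbrev algCoord : Algebra K Γ(A.left, ⊤) := (ι A).hom.toAlgebra

/-- The `K`-algebra map associated with a geometric point. -/
noncomputable def αalg (s : FEt.fiberObj (ξ₀ K) A) :
    letI := algCoord A
    Γ(A.left, ⊤) →ₐ[K] AlgebraicClosure K :=
  letI := algCoord A
  { (αc A s).hom with
    commutes' := fun x => by
      have := congrArg (fun f => f.hom x) (ι_αc A s)
      exact this }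

lemma αalg_apply (s : FEt.fiberObj (ξ₀ K) A) (b : Γ(A.left, ⊤)) :
    αalg A s b = (αc A s).hom b := rfl

/-- The kernel of `αc s` is the image point of `s`. -/
lemma ker_αc (s : FEt.fiberObj (ξ₀ K) A) (p : Spec (CommRingCat.of (AlgebraicClosure K))) :
    RingHom.ker (αc A s).hom = (A.left.isoSpec.hom (s.1 p)).asIdeal := by
  have hp : p = ⟨⊥, Ideal.isPrime_bot⟩ := Subsingleton.elim _ _
  have h1 : A.left.isoSpec.hom (s.1 p) = (Spec.map (αc A s)) p := by
    rw [map_αc]
    rfl
  rw [h1, hp]
  rfl

/-- On a connected finite étale `K`-scheme all geometric points have the same image. -/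
lemma point_eq_of_isConnected [PreGaloisCategory.IsConnected A]
    (s₁ s₂ : FEt.fiberObj (ξ₀ K) A) (p : Spec (CommRingCat.of (AlgebraicClosure K))) :
    s₁.1 p = s₂.1 p := by
  have hfin : IsFinite A.hom := A.prop.1
  have het : Etale A.hom := A.prop.2
  have hdisc : DiscreteTopology A.left :=
    Groth.Agent.Lib.Helper20.discreteTopology_of_unramified K A.hom
  have := preGaloisCategory_fet (Spec (CommRingCat.of K))
  have := fiberFunctor_fet (ξ₀ K)
  let V : A.left.Opens := ⟨{s₁.1 p}, isOpen_discrete _⟩
  have hVcl : IsClosedImmersion V.ι := by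
    refine IsClosedImmersion.of_isPreimmersion V.ι ?_
    rw [Scheme.Opens.range_ι]
    exact isClosed_discrete _
  let Z : FEt.Cat (Spec (CommRingCat.of K)) :=
    MorphismProperty.Over.mk ⊤ (V.ι ≫ A.hom) ⟨inferInstance, inferInstance⟩
  let u : Z ⟶ A := MorphismProperty.Over.homMk V.ι rfl trivial
  have hmono : Mono u := by
    have h1 : Mono ((U₀ (Spec (CommRingCat.of K))).map u) := (inferInstance : Mono V.ι)
    exact (U₀ (Spec (CommRingCat.of K))).mono_of_mono_map h1
  have hrange : Set.range s₁.1 ⊆ Set.range V.ι := by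
    rw [Scheme.Opens.range_ι]
    rintro _ ⟨q, rfl⟩
    have : q = p := Subsingleton.elim _ _
    rw [this]
    rfl
  let t : Spec (CommRingCat.of (AlgebraicClosure K)) ⟶ V := IsOpenImmersion.lift V.ι s₁.1 hrange
  have ht : t ≫ V.ι = s₁.1 := IsOpenImmersion.lift_fac _ _ _
  let z : FEt.fiberObj (ξ₀ K) Z := ⟨t, by
    show t ≫ V.ι ≫ A.hom = _
    rw [← Category.assoc, ht, s₁.2]⟩
  have hnot : IsInitial Z → False :=
    PreGaloisCategory.not_initial_of_inhabited (fiberFin (ξ₀ K)) z
  have hiso : IsIso u := PreGaloisCategory.IsConnected.noTrivialComponent Z u hnot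
  have hiso2 : IsIso ((FEt.fiber (ξ₀ K)).map u) := inferInstance
  obtain ⟨z₂, hz₂⟩ := ((isIso_iff_bijective _).1 hiso2).2 s₂
  have h3 : s₂.1 = z₂.1 ≫ V.ι := congrArg Subtype.val hz₂.symm
  have hmem : s₂.1 p ∈ Set.range V.ι := by
    rw [h3]
    exact ⟨z₂.1 p, rfl⟩
  rw [Scheme.Opens.range_ι] at hmem
  exact hmem.symm

/-- The Galois group acts transitively on the geometric fibre of a connected object. -/
theorem isPretransitive_of_isConnected [PreGaloisCategory.IsConnected A] :
    MulAction.IsPretransitive Gal(AlgebraicClosure K/K) (FEt.fiberObj (ξ₀ K) A) := by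
  constructor
  intro s₁ s₂
  letI := algCoord A
  have hfin : Module.Finite K Γ(A.left, ⊤) := finite_ι A
  have hp : Nonempty (Spec (CommRingCat.of (AlgebraicClosure K))) := inferInstance
  obtain ⟨p⟩ := hp
  have hker : RingHom.ker (αalg A s₁ : Γ(A.left, ⊤) →+* AlgebraicClosure K) =
      RingHom.ker (αalg A s₂ : Γ(A.left, ⊤) →+* AlgebraicClosure K) := by
    have h1 := ker_αc A s₁ p
    have h2 := ker_αc A s₂ p
    rw [point_eq_of_isConnected A s₁ s₂ p] at h1
    exact h1.trans h2.symm
  obtain ⟨σ, hσ⟩ := exists_aut_of_ker_eq (αalg A s₁) (αalg A s₂) hker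
  refine ⟨σ, αc_injective A ?_⟩
  rw [αc_smul]
  ext b
  exact hσ b

end Groth.Agent.Lib.Helper24.GalField
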