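import Mathlib
import Groth.Prelude.Def_FEt
import Groth.Agent.Lib.Helper24.GalFieldD

set_option autoImplicit false
set_option backward.isDefEq.respectTransparency false
set_option backward.isDefEq.respectTransparency.types false

/-!
# The absolute Galois group is the fundamental group of `Spec K` (helper24)
-/

namespace Groth.Agent.Lib.Helper24.GalField

open AlgebraicGeometry CategoryTheory Limits Opposite
open Groth.Agent.Lib.Helper24.Flc
open scoped IntermediateField FintypeCatDiscrete

universe u

section Cont

variable {K : Type u} [Field K] (A : FEt.Cat (Spec (CommRingCat.of K)))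

/-- Stabilisers of geometric points are open. -/
theorem stabilizer_isOpen_fiber (s : FEt.fiberObj (ξ₀ K) A) :
    IsOpen (MulAction.stabilizer Gal(AlgebraicClosure K/K) s : Set Gal(AlgebraicClosure K/K)) := by
  letI := algCoord A
  have hfin : Module.Finite K Γ(A.left, ⊤) := finite_ι A
  obtain ⟨T, hT⟩ := hfin.fg_top
  let S : Set (AlgebraicClosure K) := (αalg A s) '' (T : Set Γ(A.left, ⊤))
  have hSfin : Finite S := (T.finite_toSet.image _).to_subtype
  let L : IntermediateField K (AlgebraicClosure K) := IntermediateField.adjoin K S
  have hL : FiniteDimensional K L :=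
    IntermediateField.finiteDimensional_adjoin (fun x _ => Algebra.IsIntegral.isIntegral x)
  refine Subgroup.isOpen_mono (H₁ := L.fixingSubgroup) ?_
    (IntermediateField.fixingSubgroup_isOpen L)
  intro σ hσ
  rw [MulAction.mem_stabilizer_iff]
  apply αc_injective A
  rw [αc_smul]
  have hlin : (σ.toLinearMap ∘ₗ (αalg A s).toLinearMap) = (αalg A s).toLinearMap := by
    apply LinearMap.ext_on hT
    intro b hb
    show σ (αalg A s b) = αalg A s b
    exact (IntermediateField.mem_fixingSubgroup_iff _ _).1 hσ _
      (IntermediateField.subset_adjoin K S ⟨b, hb, rfl⟩)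
  ext b
  exact congrArg (fun f => f b) hlin

end Cont

section Sep

variable (K : Type u) [Field K] (L : IntermediateField K (AlgebraicClosure K))
  [FiniteDimensional K L] [Algebra.IsSeparable K L]

/-- `Spec L ⟶ Spec K` for a finite separable subextension. -/
noncomputable def objOf : FEt.Cat (Spec (CommRingCat.of K)) :=
  MorphismProperty.Over.mk ⊤ (Spec.map (CommRingCat.ofHom (algebraMap K L))) (by
    constructor
    · rw [IsFinite.SpecMap_iff]
      exact RingHom.finite_algebraMap.2 inferInstance
    · rw [HasRingHomProperty.Spec_iff (P := @Etale), CommRingCat.hom_ofHom,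
        RingHom.etale_algebraMap]
      have := Algebra.FormallyEtale.of_isSeparable K L
      have : Algebra.FinitePresentation K L :=
        Algebra.FinitePresentation.of_finiteType.1 inferInstance
      exact {})

/-- The tautological geometric point of `Spec L`. -/
noncomputable def ptOf : FEt.fiberObj (ξ₀ K) (objOf K L) :=
  ⟨Spec.map (CommRingCat.ofHom (algebraMap L (AlgebraicClosure K))), by
    show Spec.map _ ≫ Spec.map _ = _
    rw [← Spec.map_comp]
    rfl⟩

lemma fix_of_smul_ptOf (σ : Gal(AlgebraicClosure K/K)) (h : σ • ptOf K L = ptOf K L) (y : L) :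
    σ (y : AlgebraicClosure K) = y := by
  have h1 : sp K σ ≫ Spec.map (CommRingCat.ofHom (algebraMap L (AlgebraicClosure K))) =
      Spec.map (CommRingCat.ofHom (algebraMap L (AlgebraicClosure K))) :=
    congrArg Subtype.val h
  rw [sp, ← Spec.map_comp] at h1
  have h2 := Spec.map_injective h1
  exact congrArg (fun f => f.hom y) h2

end Sep

section Fund

variable (K : Type u) [Field K]

theorem eq_one_of_smul_trivial (σ : Gal(AlgebraicClosure K/K))
    (h : ∀ (A : FEt.Cat (Spec (CommRingCat.of K))) (s : FEt.fiberObj (ξ₀ K) A), σ • s = s) :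
    σ = 1 := by
  refine eq_one_of_fix_separableClosure K (AlgebraicClosure K) σ fun y => ?_
  have hsep : IsSeparable K (y : AlgebraicClosure K) := mem_separableClosure_iff.1 y.2
  let L : IntermediateField K (AlgebraicClosure K) := K⟮(y : AlgebraicClosure K)⟯
  have h1 : FiniteDimensional K L :=
    IntermediateField.adjoin.finiteDimensional (Algebra.IsIntegral.isIntegral _)
  have h2 : Algebra.IsSeparable K L :=
    (IntermediateField.isSeparable_adjoin_simple_iff_isSeparable K (AlgebraicClosure K)).2 hsep
  exact fix_of_smul_ptOf K L σ (h _ _)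
    ⟨(y : AlgebraicClosure K), IntermediateField.mem_adjoin_simple_self K _⟩

instance galoisCategory_specField : GaloisCategory (FEt.Cat (Spec (CommRingCat.of K))) :=
  galoisCategory_fet (ξ₀ K)

instance fiberFunctor_specField : PreGaloisCategory.FiberFunctor (fiberFin (ξ₀ K)) :=
  fiberFunctor_fet (ξ₀ K)

instance isFundamentalGroup_gal :
    PreGaloisCategory.IsFundamentalGroup (fiberFin (ξ₀ K)) Gal(AlgebraicClosure K/K) where
  transitive_of_isGalois A _ := isPretransitive_of_isConnected A
  continuous_smul A := continuousSMul_iff_stabilizer_isOpen.2 (fun s => stabilizer_isOpen_fiber A s)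
  non_trivial' σ h := eq_one_of_smul_trivial K σ h

end Fund

end Groth.Agent.Lib.Helper24.GalField
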