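import Mathlib
import Groth.Prelude.Def_FEt
import Groth.Agent.Lib.Helper24.GalFieldE

set_option autoImplicit false
set_option backward.isDefEq.respectTransparency false
set_option backward.isDefEq.respectTransparency.types false

/-!
# `π₁(Spec K) ≃ G_K` and `FEt(Spec K) ≌ G_K-FinSet` (helper24)
-/

namespace Groth.Agent.Lib.Helper24.GalField

open AlgebraicGeometry CategoryTheory Limits Opposite
open Groth.Agent.Lib.Helper24.Flc
open scoped IntermediateField FintypeCatDiscrete

universe u

variable (K : Type u) [Field K]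

theorem piOne_specField :
    Nonempty (Field.absoluteGaloisGroup K ≃*
      FEt.piOne (Spec (CommRingCat.of K))
        (Spec.map (CommRingCat.ofHom (algebraMap K (AlgebraicClosure K))))) := by
  let e1 : Gal(AlgebraicClosure K/K) ≃* Aut (fiberFin (ξ₀ K)) :=
    PreGaloisCategory.toAutMulEquiv (fiberFin (ξ₀ K)) Gal(AlgebraicClosure K/K)
  let e2 : Aut (fiberFin (ξ₀ K)) ≃* Aut (fiberFin (ξ₀ K) ⋙ FintypeCat.incl) :=
    ((ObjectProperty.fullyFaithfulι _).whiskeringRight _).autMulEquivOfFullyFaithful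
      (fiberFin (ξ₀ K))
  let e3 : Aut (fiberFin (ξ₀ K) ⋙ FintypeCat.incl) ≃* Aut (FEt.fiber (ξ₀ K)) :=
    Aut.autMulEquivOfIso (fiberFinIso (ξ₀ K))
  exact ⟨(e1.trans e2).trans e3⟩

theorem fet_specField_equiv :
    Nonempty (FEt.Cat (Spec (CommRingCat.of K)) ≌
      ContAction FintypeCat.{u} (Field.absoluteGaloisGroup K)) := by
  let E1 : FEt.Cat (Spec (CommRingCat.of K)) ≌ ContAction FintypeCat (Aut (fiberFin (ξ₀ K))) :=
    (PreGaloisCategory.functorToContAction (fiberFin (ξ₀ K))).asEquivalence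
  let f : Gal(AlgebraicClosure K/K) ≃ₜ* Aut (fiberFin (ξ₀ K)) :=
    { toMulEquiv := PreGaloisCategory.toAutMulEquiv (fiberFin (ξ₀ K)) Gal(AlgebraicClosure K/K)
      continuous_toFun :=
        (PreGaloisCategory.toAut_isHomeomorph (fiberFin (ξ₀ K)) Gal(AlgebraicClosure K/K)).continuous
      continuous_invFun :=
        (Equiv.continuous_symm_iff (PreGaloisCategory.toAutMulEquiv (fiberFin (ξ₀ K))
          Gal(AlgebraicClosure K/K)).toEquiv).2
          (PreGaloisCategory.toAut_isHomeomorph (fiberFin (ξ₀ K))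
            Gal(AlgebraicClosure K/K)).isOpenMap }
  exact ⟨E1.trans (ContAction.resEquiv _ f)⟩

end Groth.Agent.Lib.Helper24.GalField
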