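import Mathlib
import Groth.Prelude.Def_CInt
import Groth.Agent.Lib.Helper12.SchDense

set_option autoImplicit false
set_option backward.isDefEq.respectTransparency false
set_option backward.isDefEq.respectTransparency.types false

universe u

namespace Groth.Agent.Lib.Helper24.GenFib

open CategoryTheory Limits AlgebraicGeometry TopologicalSpace

/-- Injectivity of `app` for an open immersion with schematically dense range. -/
theorem app_injective_of_dense {P W : Scheme.{u}} (ι : P ⟶ W) [IsOpenImmersion ι]
    (hd : CInt.IsSchematicallyDense ι.opensRange) (U : W.Opens) :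
    Function.Injective (ι.app U) := by
  rw [injective_iff_map_eq_zero]
  intro a ha
  apply hd U
  rw [map_zero]
  have h1 : (ι.app U ≫ (ι.appIso (ι ⁻¹ᵁ U)).inv) a = 0 := by
    rw [CommRingCat.comp_apply, ha, map_zero]
  rw [Scheme.Hom.app_appIso_inv] at h1
  have hle : U ⊓ ι.opensRange ≤ ι ''ᵁ ι ⁻¹ᵁ U := by
    rw [Scheme.Hom.image_preimage_eq_opensRange_inf]; exact le_of_eq (inf_comm _ _)
  have h2 : W.presheaf.map (homOfLE (inf_le_left : U ⊓ ι.opensRange ≤ U)).op a =
      W.presheaf.map (homOfLE hle).op
        (W.presheaf.map (homOfLE (Set.image_preimage_subset ι U.1)).op a) := by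
    rw [← CommRingCat.comp_apply, ← Functor.map_comp]; rfl
  rw [h2, h1, map_zero]

/-- A nonempty open of an integral scheme is schematically dense. -/
theorem dense_of_integral {X : Scheme.{u}} [IsIntegral X] (V : X.Opens)
    (hV : (V : Set X).Nonempty) : CInt.IsSchematicallyDense V := by
  intro O
  by_cases hO : (O : Set X).Nonempty
  · have hne : ((O ⊓ V : X.Opens) : Set X).Nonempty :=
      nonempty_preirreducible_inter O.2 V.2 hO hV
    have : Nonempty (O ⊓ V : X.Opens) := ⟨⟨hne.some, hne.some_mem⟩⟩
    exact map_injective_of_isIntegral X (homOfLE inf_le_left)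
  · have hO' : O = ⊥ := by
      ext x
      simp only [Opens.coe_bot, Set.mem_empty_iff_false, iff_false]
      intro hx
      exact hO ⟨x, hx⟩
    subst hO'
    intro a b _
    exact Subsingleton.elim _ _

end Groth.Agent.Lib.Helper24.GenFib
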