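import Mathlib
import Groth.Prelude.Def_CInt
import Groth.Agent.Lib.Helper12.SchDense
import Groth.Agent.Lib.Helper24.GenFibA

set_option autoImplicit false
set_option backward.isDefEq.respectTransparency false
set_option backward.isDefEq.respectTransparency.types false

universe u

namespace Groth.Agent.Lib.Helper24.GenFib

open CategoryTheory Limits AlgebraicGeometry TopologicalSpace

section

variable (R K : Type u) [CommRing R] [IsDomain R] [IsDiscreteValuationRing R]
  [Field K] [Algebra R K] [IsFractionRing R K]

theorem isLocalizationAway {π : R} (hπ : Irreducible π) : IsLocalization.Away π K := by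
  have h1 : IsLocalization (nonZeroDivisors R) (Localization.Away π) := by
    refine IsLocalization.of_le_of_exists_dvd (Submonoid.powers π) (nonZeroDivisors R) ?_ ?_
    · rintro _ ⟨n, rfl⟩
      exact pow_mem (mem_nonZeroDivisors_of_ne_zero hπ.ne_zero) n
    · intro x hx
      obtain ⟨n, hn⟩ := IsDiscreteValuationRing.associated_pow_irreducible
        (nonZeroDivisors.ne_zero hx) hπ
      exact ⟨π ^ n, ⟨n, rfl⟩, hn.dvd⟩
  have e : Localization.Away π ≃ₐ[R] K :=
    IsLocalization.algEquiv (nonZeroDivisors R) _ _
  exact IsLocalization.isLocalization_of_algEquiv (Submonoid.powers π) e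

/-- The generic point of the spectrum of a DVR is an open immersion. -/
theorem isOpenImmersion_generic :
    IsOpenImmersion (Spec.map (CommRingCat.ofHom (algebraMap R K))) := by
  obtain ⟨π, hπ⟩ := IsDiscreteValuationRing.exists_irreducible R
  have := isLocalizationAway R K hπ
  exact IsOpenImmersion.of_isLocalization π

/-- The generic fibre of a flat scheme over a DVR is schematically dominant. -/
theorem app_injective {W : Scheme.{u}} (w : W ⟶ Spec (CommRingCat.of R)) [Flat w]
    (U : W.Opens) :
    Function.Injective
      ((pullback.fst w (Spec.map (CommRingCat.ofHom (algebraMap R K)))).app U) := by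
  have hη := isOpenImmersion_generic R K
  set η := Spec.map (CommRingCat.ofHom (algebraMap R K)) with hηdef
  have hV : CInt.IsSchematicallyDense η.opensRange := by
    apply dense_of_integral
    exact Set.range_nonempty _
  have h2 := Groth.Agent.Lib.Helper12.SchDense.preimage_of_flat_of_isLocallyNoetherian w
    η.opensRange hV
  have h3 : (pullback.fst w η).opensRange = w ⁻¹ᵁ η.opensRange := by
    ext x
    have := Scheme.Pullback.range_fst w η
    simp only [Scheme.Hom.coe_opensRange, Opens.map_coe, Set.mem_preimage, SetLike.mem_coe]
    rw [this]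
    rfl
  apply app_injective_of_dense
  rw [h3]
  exact h2

end

/-- Key lemma: a morphism from a flat scheme over a DVR factors through a closed subscheme as soon
as its restriction to the generic fibre does. -/
theorem exists_lift (R K : Type u) [CommRing R] [IsDomain R] [IsDiscreteValuationRing R]
    [Field K] [Algebra R K] [IsFractionRing R K]
    {W V Z : Scheme.{u}} (w : W ⟶ Spec (CommRingCat.of R)) [Flat w]
    (i : Z ⟶ V) [IsClosedImmersion i] (g : W ⟶ V)
    (c : pullback w (Spec.map (CommRingCat.ofHom (algebraMap R K))) ⟶ Z)
    (hc : c ≫ i = pullback.fst w (Spec.map (CommRingCat.ofHom (algebraMap R K))) ≫ g) :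
    ∃ l : W ⟶ Z, l ≫ i = g := by
  have H : i.ker ≤ g.ker := by
    refine Scheme.IdealSheafData.le_ofIdeals_iff.mpr ?_
    intro U a ha
    have ha' : i.app U a = 0 := RingHom.mem_ker.mp (i.ideal_ker_le U ha)
    rw [RingHom.mem_ker]
    apply app_injective R K w (g ⁻¹ᵁ U)
    rw [map_zero]
    have key : ∀ φ : pullback w (Spec.map (CommRingCat.ofHom (algebraMap R K))) ⟶ V,
        φ = c ≫ i → φ.app U a = 0 := by
      rintro _ rfl
      rw [Scheme.Hom.comp_app, CommRingCat.comp_apply, ha', map_zero]
    exact key _ hc.symm
  exact ⟨IsClosedImmersion.lift i g H, IsClosedImmersion.lift_fac i g H⟩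

end Groth.Agent.Lib.Helper24.GenFib
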