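import Mathlib
import Groth.Agent.Lib.Helper24.GenFibB

set_option autoImplicit false
set_option backward.isDefEq.respectTransparency false
set_option backward.isDefEq.respectTransparency.types false

universe u

namespace Groth.Agent.Lib.Helper24.GenFib

open CategoryTheory Limits AlgebraicGeometry TopologicalSpace

theorem equivalence_of_generic
    (R K : Type u) [CommRing R] [IsDomain R] [IsDiscreteValuationRing R]
    [Field K] [Algebra R K] [IsFractionRing R K]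
    (Y Γ : Scheme.{u}) (f : Y ⟶ Spec (CommRingCat.of R)) [Flat f]
    (p₁ p₂ : Γ ⟶ Y) (h : p₁ ≫ f = p₂ ≫ f)
    (hΓ : IsClosedImmersion (pullback.lift p₁ p₂ h))
    [Flat (p₁ ≫ f)] [Flat p₁]
    (hK : ∀ (T : Scheme.{u}) (t : T ⟶ Spec (CommRingCat.of R)),
      (∃ s : T ⟶ Spec (CommRingCat.of K), t = s ≫ Spec.map (CommRingCat.ofHom (algebraMap R K))) →
      _root_.Equivalence fun a b : {a : T ⟶ Y // a ≫ f = t} =>
        ∃ c : T ⟶ Γ, c ≫ p₁ = a.1 ∧ c ≫ p₂ = b.1) :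
    ∀ (T : Scheme.{u}) (t : T ⟶ Spec (CommRingCat.of R)),
      _root_.Equivalence fun a b : {a : T ⟶ Y // a ≫ f = t} =>
        ∃ c : T ⟶ Γ, c ≫ p₁ = a.1 ∧ c ≫ p₂ = b.1 := by
  set η := Spec.map (CommRingCat.ofHom (algebraMap R K)) with hη
  set j := pullback.lift p₁ p₂ h with hj
  have hj1 : j ≫ pullback.fst f f = p₁ := pullback.lift_fst _ _ _
  have hj2 : j ≫ pullback.snd f f = p₂ := pullback.lift_snd _ _ _
  -- general pattern: a morphism `g = (g₁, g₂)` from a flat `W` lifts to `Γ` if generically so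
  have lift_of : ∀ {W : Scheme.{u}} (w : W ⟶ Spec (CommRingCat.of R)) [Flat w]
      (g₁ g₂ : W ⟶ Y) (hg : g₁ ≫ f = g₂ ≫ f)
      (c : pullback w η ⟶ Γ) (_ : c ≫ p₁ = pullback.fst w η ≫ g₁)
      (_ : c ≫ p₂ = pullback.fst w η ≫ g₂),
      ∃ l : W ⟶ Γ, l ≫ p₁ = g₁ ∧ l ≫ p₂ = g₂ := by
    intro W w _ g₁ g₂ hg c hc1 hc2
    obtain ⟨l, hl⟩ := exists_lift R K w j (pullback.lift g₁ g₂ hg) c (by
      apply pullback.hom_ext
      · rw [Category.assoc, hj1, hc1, Category.assoc, pullback.lift_fst]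
      · rw [Category.assoc, hj2, hc2, Category.assoc, pullback.lift_snd])
    refine ⟨l, ?_, ?_⟩
    · rw [← hj1, ← Category.assoc, hl, pullback.lift_fst]
    · rw [← hj2, ← Category.assoc, hl, pullback.lift_snd]
  -- reflexivity
  obtain ⟨δ, hδ1, hδ2⟩ : ∃ δ : Y ⟶ Γ, δ ≫ p₁ = 𝟙 Y ∧ δ ≫ p₂ = 𝟙 Y := by
    obtain ⟨c, hc1, hc2⟩ := (hK (pullback f η) (pullback.fst f η ≫ f)
      ⟨pullback.snd f η, pullback.condition⟩).refl ⟨pullback.fst f η, rfl⟩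
    exact lift_of f (𝟙 Y) (𝟙 Y) rfl c (by rw [hc1, Category.comp_id])
      (by rw [hc2, Category.comp_id])
  -- symmetry
  obtain ⟨σ, hσ1, hσ2⟩ : ∃ σ : Γ ⟶ Γ, σ ≫ p₁ = p₂ ∧ σ ≫ p₂ = p₁ := by
    have e1 : (pullback.fst (p₁ ≫ f) η ≫ p₁) ≫ f = pullback.fst (p₁ ≫ f) η ≫ p₁ ≫ f :=
      Category.assoc _ _ _
    have e2 : (pullback.fst (p₁ ≫ f) η ≫ p₂) ≫ f = pullback.fst (p₁ ≫ f) η ≫ p₁ ≫ f :=
      (Category.assoc _ _ _).trans (congrArg (fun z => pullback.fst (p₁ ≫ f) η ≫ z) h.symm)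
    obtain ⟨c, hc1, hc2⟩ := (hK (pullback (p₁ ≫ f) η) (pullback.fst (p₁ ≫ f) η ≫ p₁ ≫ f)
      ⟨pullback.snd (p₁ ≫ f) η, pullback.condition⟩).symm
      (x := ⟨pullback.fst (p₁ ≫ f) η ≫ p₁, e1⟩) (y := ⟨pullback.fst (p₁ ≫ f) η ≫ p₂, e2⟩)
      ⟨pullback.fst (p₁ ≫ f) η, rfl, rfl⟩
    exact lift_of (p₁ ≫ f) p₂ p₁ h.symm c hc1 hc2
  -- transitivity
  obtain ⟨μ, hμ1, hμ2⟩ : ∃ μ : pullback p₂ p₁ ⟶ Γ,
      μ ≫ p₁ = pullback.fst p₂ p₁ ≫ p₁ ∧ μ ≫ p₂ = pullback.snd p₂ p₁ ≫ p₂ := by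
    have hq : pullback.fst p₂ p₁ ≫ p₂ = pullback.snd p₂ p₁ ≫ p₁ := pullback.condition
    have hfl : Flat (pullback.fst p₂ p₁ ≫ p₁ ≫ f) := inferInstance
    have hw : (pullback.fst p₂ p₁ ≫ p₁) ≫ f = (pullback.snd p₂ p₁ ≫ p₂) ≫ f := by
      calc (pullback.fst p₂ p₁ ≫ p₁) ≫ f = pullback.fst p₂ p₁ ≫ p₁ ≫ f := Category.assoc _ _ _
        _ = pullback.fst p₂ p₁ ≫ p₂ ≫ f := congrArg (fun z => pullback.fst p₂ p₁ ≫ z) h
        _ = (pullback.fst p₂ p₁ ≫ p₂) ≫ f := (Category.assoc _ _ _).symm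
        _ = (pullback.snd p₂ p₁ ≫ p₁) ≫ f := congrArg (fun z => z ≫ f) hq
        _ = pullback.snd p₂ p₁ ≫ p₁ ≫ f := Category.assoc _ _ _
        _ = pullback.snd p₂ p₁ ≫ p₂ ≫ f := congrArg (fun z => pullback.snd p₂ p₁ ≫ z) h
        _ = (pullback.snd p₂ p₁ ≫ p₂) ≫ f := (Category.assoc _ _ _).symm
    obtain ⟨w, hwdef⟩ : ∃ w : pullback p₂ p₁ ⟶ Spec (CommRingCat.of R),
        w = pullback.fst p₂ p₁ ≫ p₁ ≫ f := ⟨_, rfl⟩
    have hflw : Flat w := hwdef ▸ hfl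
    have hw1 : (pullback.fst p₂ p₁ ≫ p₁) ≫ f = w := (Category.assoc _ _ _).trans hwdef.symm
    have hw1' : (pullback.fst p₂ p₁ ≫ p₂) ≫ f = w := by
      rw [← hw1, Category.assoc, Category.assoc, h]
    have hw2 : (pullback.snd p₂ p₁ ≫ p₂) ≫ f = w := hw.symm.trans hw1
    have E := hK (pullback w η) (pullback.fst w η ≫ w)
      ⟨pullback.snd w η, pullback.condition⟩
    obtain ⟨c, hc1, hc2⟩ := E.trans
      (x := ⟨pullback.fst w η ≫ pullback.fst p₂ p₁ ≫ p₁, by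
        rw [Category.assoc, hw1]⟩)
      (y := ⟨pullback.fst w η ≫ pullback.fst p₂ p₁ ≫ p₂, by
        rw [Category.assoc, hw1']⟩)
      (z := ⟨pullback.fst w η ≫ pullback.snd p₂ p₁ ≫ p₂, by
        rw [Category.assoc, hw2]⟩)
      ⟨pullback.fst w η ≫ pullback.fst p₂ p₁, Category.assoc _ _ _, Category.assoc _ _ _⟩
      ⟨pullback.fst w η ≫ pullback.snd p₂ p₁, by
        show (pullback.fst w η ≫ pullback.snd p₂ p₁) ≫ p₁ =
          pullback.fst w η ≫ pullback.fst p₂ p₁ ≫ p₂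
        rw [Category.assoc, hq], Category.assoc _ _ _⟩
    exact lift_of w _ _ hw c hc1 hc2
  intro T t
  refine ⟨fun a => ⟨a.1 ≫ δ, ?_, ?_⟩, ?_, ?_⟩
  · rw [Category.assoc, hδ1, Category.comp_id]
  · rw [Category.assoc, hδ2, Category.comp_id]
  · rintro a b ⟨c, h1, h2⟩
    exact ⟨c ≫ σ, by rw [Category.assoc, hσ1, h2], by rw [Category.assoc, hσ2, h1]⟩
  · rintro a b d ⟨c₁, h1, h2⟩ ⟨c₂, h3, h4⟩
    refine ⟨pullback.lift c₁ c₂ (h2.trans h3.symm) ≫ μ, ?_, ?_⟩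
    · rw [Category.assoc, hμ1, pullback.lift_fst_assoc, h1]
    · rw [Category.assoc, hμ2, pullback.lift_snd_assoc, h4]

end Groth.Agent.Lib.Helper24.GenFib
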