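import Mathlib

set_option autoImplicit false
set_option backward.isDefEq.respectTransparency false
set_option backward.isDefEq.respectTransparency.types false

universe u

open CategoryTheory CategoryTheory.Limits AlgebraicGeometry

namespace Groth.Agent.Lib.Helper24.GenFibInt

theorem irreducibleSpace_of_dense_point {T : Type*} [TopologicalSpace T] (ζ : T)
    (hζ : closure {ζ} = Set.univ) : IrreducibleSpace T := by
  have h := (isIrreducible_singleton (x := ζ)).closure
  rw [hζ] at h
  exact { isPreirreducible_univ := h.isPreirreducible, toNonempty := ⟨ζ⟩ }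

theorem stalkSpecializes_injective_of_eq_generic {Z : Scheme.{u}} [IsIntegral Z] (η x : Z)
    (hη : η = genericPoint Z) (h : η ⤳ x) :
    Function.Injective (Z.presheaf.stalkSpecializes h).hom := by
  subst hη
  exact IsFractionRing.injective (Z.presheaf.stalk x) Z.functionField

theorem isField_stalk_of_eq_generic {Z : Scheme.{u}} [IsIntegral Z] (η : Z)
    (hη : η = genericPoint Z) : IsField (Z.presheaf.stalk η) := by
  subst hη
  exact Field.toIsField Z.functionField

/-- The fibre of an integral scheme over the image of its generic point is integral. -/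
theorem isIntegral_fiber {Z S : Scheme.{u}} [IsIntegral Z] (g : Z ⟶ S) (s : S)
    (hs : g (genericPoint Z) = s) : IsIntegral (g.fiber s) := by
  obtain ⟨p, hp⟩ : ∃ p, p = g.fiberι s := ⟨_, rfl⟩
  have hpre : IsPreimmersion p := by rw [hp]; infer_instance
  let ζs : g.fiber s := (g.fiberHomeo s).symm ⟨genericPoint Z, hs⟩
  have hζs : p ζs = genericPoint Z := by
    rw [hp]
    exact g.fiberι_fiberHomeo_symm s ⟨genericPoint Z, hs⟩
  have hspec : ∀ y : g.fiber s, ζs ⤳ y := by
    intro y
    rw [← p.isEmbedding.toIsInducing.specializes_iff, hζs]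
    exact genericPoint_specializes _
  have hirr : IrreducibleSpace (g.fiber s) := by
    apply irreducibleSpace_of_dense_point ζs
    rw [Set.eq_univ_iff_forall]
    intro y
    exact (specializes_iff_mem_closure.mp (hspec y))
  have hred : IsReduced (g.fiber s) := by
    have : ∀ y : g.fiber s, _root_.IsReduced ((g.fiber s).presheaf.stalk y) := by
      intro y
      have hsurj : Function.Surjective (p.stalkMap y).hom := p.stalkMap_surjective y
      have hinj : Function.Injective (p.stalkMap y).hom := by
        intro a b hab
        have h := hspec y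
        have e1 := Scheme.Hom.stalkSpecializes_stalkMap_apply p ζs y h a
        have e2 := Scheme.Hom.stalkSpecializes_stalkMap_apply p ζs y h b
        have hF := isField_stalk_of_eq_generic (p ζs) hζs
        letI := hF.toField
        have hinj2 : Function.Injective (p.stalkMap ζs).hom := RingHom.injective _
        have e3 : (Z.presheaf.stalkSpecializes (p.base.hom.map_specializes h)) a =
            (Z.presheaf.stalkSpecializes (p.base.hom.map_specializes h)) b := by
          apply hinj2
          change (p.stalkMap ζs) _ = (p.stalkMap ζs) _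
          rw [e1, e2]
          exact congrArg _ hab
        exact stalkSpecializes_injective_of_eq_generic (p ζs) (p y) hζs _ e3
      let e := RingEquiv.ofBijective (p.stalkMap y).hom ⟨hinj, hsurj⟩
      have : IsDomain ((g.fiber s).presheaf.stalk y) :=
        Function.Injective.isDomain e.symm.toRingHom e.symm.injective
      infer_instance
    exact isReduced_of_isReduced_stalk _
  exact isIntegral_of_irreducibleSpace_of_isReduced _

theorem main {X S Z : Scheme.{u}} (f : X ⟶ S) (z : X) (ι : Z ⟶ X) [IsClosedImmersion ι]
    [IsReduced Z] (hZ : Set.range ι = closure {z}) :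
    IsIntegral (pullback (ι ≫ f) (S.fromSpecResidueField (f z))) ∧
      ∃ w : ↥(pullback f (S.fromSpecResidueField (f z))),
        pullback.fst f (S.fromSpecResidueField (f z)) w = z ∧
        Set.range (pullback.map (ι ≫ f) (S.fromSpecResidueField (f z)) f
          (S.fromSpecResidueField (f z)) ι (𝟙 _) (𝟙 S) (Category.comp_id _)
          ((Category.comp_id _).trans (Category.id_comp _).symm)) = closure {w} := by
  obtain ⟨ζ₀, hζ₀⟩ : z ∈ Set.range ι := by rw [hZ]; exact subset_closure rfl
  have hcl : closure {ζ₀} = Set.univ := by
    rw [ι.isEmbedding.closure_eq_preimage_closure_image, Set.image_singleton, hζ₀, ← hZ,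
      Set.preimage_range]
  have hirr : IrreducibleSpace Z := irreducibleSpace_of_dense_point ζ₀ hcl
  have hint : IsIntegral Z := isIntegral_of_irreducibleSpace_of_isReduced _
  have hgen : genericPoint Z = ζ₀ :=
    (genericPoint_spec Z).eq (isGenericPoint_def.mpr hcl)
  refine ⟨?_, ?_⟩
  · exact isIntegral_fiber (ι ≫ f) (f z) (by rw [hgen, Scheme.Hom.comp_apply, hζ₀])
  · refine ⟨(f.fiberHomeo (f z)).symm ⟨z, rfl⟩, f.fiberι_fiberHomeo_symm (f z) ⟨z, rfl⟩, ?_⟩
    rw [Scheme.Pullback.range_map, hZ]
    have h1 : Set.range ⇑(𝟙 (Spec (S.residueField (f z)))) = Set.univ := by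
      rw [Set.eq_univ_iff_forall]
      intro y
      exact ⟨y, rfl⟩
    rw [h1, Set.preimage_univ, Set.inter_univ]
    have hemb := (f.fiberι (f z)).isEmbedding
    rw [hemb.closure_eq_preimage_closure_image, Set.image_singleton,
      f.fiberι_fiberHomeo_symm (f z) ⟨z, rfl⟩]
    rfl

end Groth.Agent.Lib.Helper24.GenFibInt
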