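import Mathlib
import Groth.Agent.S2535
import Groth.Agent.Lib.Helper10.FibreProductStalk
import Groth.Agent.Lib.Helper14.EtRed

/-!
# Geometric reducedness at a point via the local ring (helper24)
-/

set_option autoImplicit false
universe u
open CategoryTheory CategoryTheory.Limits AlgebraicGeometry Opposite TensorProduct

namespace Groth.Agent.Lib.Helper24.GeomRedPt

open Groth.Agent.Lib.Helper14.AS

set_option backward.isDefEq.respectTransparency.types false in
/-- If the base change of `Spec O_{X,x}` along `s` is reduced, then the local rings of `X ×_B T` at the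
points above `x` are reduced. -/
theorem isReduced_stalk_pullback_of_local {X B T : Scheme.{u}} (f : X ⟶ B) (s : T ⟶ B) (x : X)
    (hY : IsReduced (pullback (X.fromSpecStalk x ≫ f) s))
    (x' : ↥(pullback f s)) (hx' : (pullback.fst f s) x' = x) :
    _root_.IsReduced ((pullback f s).presheaf.stalk x') := by
  haveI : Flat (X.fromSpecStalk x) :=
    Groth.Agent.Lib.Helper10.FibreProductStalk.flat_fromSpecStalk X x
  let e : pullback (X.fromSpecStalk x) (pullback.fst f s) ≅ pullback (X.fromSpecStalk x ≫ f) s :=
    pullbackRightPullbackFstIso f s (X.fromSpecStalk x)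
  haveI : IsReduced (pullback (X.fromSpecStalk x) (pullback.fst f s)) :=
    isReduced_of_isOpenImmersion e.hom
  have hc : (X.fromSpecStalk x) (IsLocalRing.closedPoint (X.presheaf.stalk x)) =
      (pullback.fst f s) x' := by
    rw [hx']
    exact Scheme.fromSpecStalk_closedPoint
  obtain ⟨z, -, hz⟩ := Scheme.Pullback.exists_preimage_pullback (f := X.fromSpecStalk x)
    (g := pullback.fst f s) _ x' hc
  subst hz
  haveI : Flat (pullback.snd (X.fromSpecStalk x) (pullback.fst f s)) := inferInstance
  exact isReduced_of_injective
    ((pullback.snd (X.fromSpecStalk x) (pullback.fst f s)).stalkMap z).hom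
    (stalkMap_injective_of_flat (pullback.snd (X.fromSpecStalk x) (pullback.fst f s)) z)

/-- Over a perfect field, a point with reduced local ring is a point of geometric reducedness. -/
theorem isGeomReducedAt_of_isReduced_stalk_perfect {k : Type u} [Field k] [PerfectField k]
    {X : Scheme.{u}} (f : X ⟶ Spec (CommRingCat.of k)) (x : X)
    (hx : _root_.IsReduced (X.presheaf.stalk x)) : FBase.IsGeomReducedAt f x := by
  intro K _ _ x' hx'
  refine isReduced_stalk_pullback_of_local f _ x ?_ x' hx'
  set φ := X.fromSpecStalk x ≫ f with hφ
  haveI : IsReduced (Spec (X.presheaf.stalk x)) := (affine_isReduced_iff _).mpr hx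
  have hiso : IsIso (Spec.map (CommRingCat.ofHom (algebraMap k k))) := by
    have : CommRingCat.ofHom (algebraMap k k) = 𝟙 (CommRingCat.of k) := rfl
    rw [this]
    infer_instance
  haveI : IsIso (FBase.bcπ φ k) := by
    unfold FBase.bcπ
    haveI := hiso
    exact pullback_fst_iso_of_right_iso φ _
  haveI : IsReduced (FBase.bc φ k) := isReduced_of_isOpenImmersion (FBase.bcπ φ k)
  have hG : GeometricallyReduced φ := Groth.Agent.S2535.result (Ω := k) φ
  exact geometrically_iff_of_commRing_of_isClosedUnderIsomorphisms.mp hG.1 K

end Groth.Agent.Lib.Helper24.GeomRedPt
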