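import Groth.Agent.Lib.Helper24.GerbDiagFlat
import Groth.Agent.Lib.Helper24.AlgStInertia
import Groth.Agent.Lib.Helper24.AlgStInv

universe u

set_option autoImplicit false
set_option backward.isDefEq.respectTransparency false
set_option backward.isDefEq.respectTransparency.types false

open CategoryTheory CategoryTheory.Limits AlgebraicGeometry Opposite

namespace Groth.Agent.Lib.Helper24.GerbDiagFlat2
open Groth.Agent.Lib.Helper24.GerbDiagFlat Groth.Agent.Lib.Helper24.AlgSpSmLocal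

variable {S : Scheme.{u}} {𝒳 𝒴 : AlgSt.Cat S}

theorem isAlgStack_inertia (h𝒳 : AlgSt.IsAlgStack Scheme.fppfPrecoverage 𝒳)
    (h𝒴 : AlgSt.IsAlgStack Scheme.fppfPrecoverage 𝒴) (f : 𝒳 ⥤ᵇ 𝒴) :
    AlgSt.IsAlgStack Scheme.fppfPrecoverage (FibCat.inertia f) := by
  have hP := isAlgStack_fp_self h𝒳 h𝒴 f
  have h2 : AlgSt.IsAlgStack Scheme.fppfPrecoverage (FibCat.fp (FibCat.diag f) (FibCat.diag f)) :=
    Groth.Agent.Lib.Helper24.AlgStFpAlg.isAlgStack_fp hP.isStack hP.diag h𝒳 h𝒳 _ _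
  exact (Groth.Agent.Lib.Helper24.AlgStInv.isAlgStack_iff_of_isEquivOver _
    (Groth.Agent.Lib.Helper24.FibCatInertiaFp.E f)
    (Groth.Agent.Lib.Helper24.FibCatInertiaFp.isEquivOver_E f)).2 h2

/-- S16862 -/
theorem locQ_inertiaToBase (h𝒳 : AlgSt.IsAlgStack Scheme.fppfPrecoverage 𝒳)
    (h𝒴 : AlgSt.IsAlgStack Scheme.fppfPrecoverage 𝒴) (f : 𝒳 ⥤ᵇ 𝒴)
    (hf : Gerb.IsGerbeOver (AlgSp.J S) f) :
    AlgSt.LocQ (AlgSp.LocP @Flat) (FibCat.inertiaToBase f) ∧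
      AlgSt.LocQ (AlgSp.LocP @LocallyOfFinitePresentation) (FibCat.inertiaToBase f) := by
  obtain ⟨h1, h2, -⟩ := diag_of_isGerbeOver h𝒳 h𝒴 f hf
  have hI := isAlgStack_inertia h𝒳 h𝒴 f
  exact ⟨Groth.Agent.Lib.Helper24.AlgStLocQ5.locQ_of_repByAlgSpWith hI h𝒳 _ isSmoothLocalST_flat
      (Groth.Agent.Lib.Helper24.AlgStInertia.repByAlgSpWith_inertiaToBase _ f h1),
    Groth.Agent.Lib.Helper24.AlgStLocQ5.locQ_of_repByAlgSpWith hI h𝒳 _ isSmoothLocalST_lfp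
      (Groth.Agent.Lib.Helper24.AlgStInertia.repByAlgSpWith_inertiaToBase _ f h2)⟩

/-- LocQ form for the diagonal -/
theorem locQ_diag (h𝒳 : AlgSt.IsAlgStack Scheme.fppfPrecoverage 𝒳)
    (h𝒴 : AlgSt.IsAlgStack Scheme.fppfPrecoverage 𝒴) (f : 𝒳 ⥤ᵇ 𝒴)
    (hf : Gerb.IsGerbeOver (AlgSp.J S) f) :
    AlgSt.IsSurjective (FibCat.diag f) ∧
    AlgSt.LocQ (AlgSp.LocP @Flat) (FibCat.diag f) ∧
      AlgSt.LocQ (AlgSp.LocP @LocallyOfFinitePresentation) (FibCat.diag f) := by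
  obtain ⟨h1, h2, h3⟩ := diag_of_isGerbeOver h𝒳 h𝒴 f hf
  have hP := isAlgStack_fp_self h𝒳 h𝒴 f
  exact ⟨h3, Groth.Agent.Lib.Helper24.AlgStLocQ5.locQ_of_repByAlgSpWith h𝒳 hP _
      isSmoothLocalST_flat h1,
    Groth.Agent.Lib.Helper24.AlgStLocQ5.locQ_of_repByAlgSpWith h𝒳 hP _ isSmoothLocalST_lfp h2⟩

end Groth.Agent.Lib.Helper24.GerbDiagFlat2
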