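import Groth.Agent.Lib.Helper24.GerbSect2
import Groth.Agent.Lib.Helper24.GerbDiagFlat2

universe u v u₂ v₂ u₃ v₃

set_option autoImplicit false
set_option linter.unusedSectionVars false
set_option linter.unusedVariables false
set_option backward.isDefEq.respectTransparency false
set_option backward.isDefEq.respectTransparency.types false

open CategoryTheory CategoryTheory.Limits AlgebraicGeometry Opposite

/-! A gerbe morphism of algebraic stacks is flat and locally of finite presentation. -/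

namespace Groth.Agent.Lib.Helper24.GerbFlat
open AlgSp Groth.Agent.Lib.Helper24.GerbNB Groth.Agent.Lib.Helper24.GerbSect1
open Groth.Agent.Lib.Helper24.AlgStRepS Groth.Agent.Lib.Helper24.AlgStEqv
open Groth.Agent.Lib.Helper24.FibCatEquiv Groth.Agent.Lib.Helper24.AlgStRep
open Groth.Agent.Lib.Helper24.AlgStBridge Groth.Agent.Lib.Helper24.FibCatFpMap
open Groth.Agent.Lib.Helper24.FibCatFpGen Groth.Agent.Lib.Helper24.GerbFormal
open Groth.Agent.Lib.Helper24.FibCatYoneda Groth.Agent.Lib.Helper24.FibCatRepDiag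
open Groth.Agent.Lib.Helper14.AS

section Formal
variable {C : Type u} [Category.{v} C] (J : GrothendieckTopology C)
  {𝒳 : BasedCategory.{v₂, u₂} C} {𝒴 : BasedCategory.{v₃, u₃} C}

/-- if objects of `𝒳 ×_𝒴 𝒳` come locally from the diagonal, morphisms between images lift
locally -/
theorem locSurjHom_of_locSurjObj_diag (h𝒴 : FibCat.IsFibGrpd 𝒴.p) (f : 𝒳 ⥤ᵇ 𝒴)
    (h : Gerb.LocSurjObj J (FibCat.diag f)) : Gerb.LocSurjHom J f := by
  intro x x' b hb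
  have hiso : IsIso b := Groth.Agent.Lib.Helper24.FibGrpd.isIso_of_isFibGrpd 𝒴.p h𝒴 (𝟙 (𝒳.p.obj x)) b
  let z : (FibCat.fp f f).obj := mkObj (F := f) (G := f) x x' (asIso b) hb
  obtain ⟨R, hR, hloc⟩ := h z
  refine ⟨R, hR, fun V k hk => ?_⟩
  obtain ⟨x₀, g, hg⟩ := hloc k hk
  have := hg
  refine ⟨x₀, g.hom.fst, g.hom.snd, isHomLift_fst k g, isHomLift_snd k g, ?_⟩
  have hw := hom_w g
  have h1 : ((FibCat.diag f).toFunctor.obj x₀).obj.iso.hom = 𝟙 _ := rfl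
  rw [h1, Category.id_comp] at hw
  exact hw

end Formal

variable {S : Scheme.{u}}

section Fam
variable {𝒵 : AlgSt.Cat S} (h𝒵 : FibCat.IsFibGrpd 𝒵.p) {V : Over S}
  (p : 𝒵 ⥤ᵇ FibCat.overCat V) (hp : Gerb.LocSurjHom (AlgSp.J S) p)
  {ι : Type u} (Wv : ι → Over S) (wv : ∀ v, Wv v ⟶ V)
  (hcov : Sieve.generate (Presieve.ofArrows Wv wv) ∈ AlgSp.J S V)
  (xv : ∀ v, FibCat.overCat (Wv v) ⥤ᵇ 𝒵)
  (ev : ∀ v, BasedFunctor.comp (xv v) p ≅ AlgSt.overMap (wv v))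

include h𝒵 hp hcov ev in
/-- local sections of a gerbe over a scheme over a covering family are jointly locally
surjective -/
theorem jointLocSurjObj_sections : JointLocSurjObj xv := by
  intro ζ
  have hT' : (p.toFunctor.obj ζ).left = 𝒵.p.obj ζ := p.w_obj ζ
  have hV : FibCat.IsFibGrpd (FibCat.overCat V).p :=
    Groth.Agent.Lib.Helper24.StkFpCrit.isFibGrpd_overForget V
  apply exists_sieve_of_eq (AlgSp.J S) hT'
  refine bind_lemma (AlgSp.J S)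
    (fun W k => ∃ (v : ι) (t'' : W ⟶ Wv v), t'' ≫ wv v = k ≫ (p.toFunctor.obj ζ).hom)
    ⟨(Sieve.generate (Presieve.ofArrows Wv wv)).pullback (p.toFunctor.obj ζ).hom,
      (AlgSp.J S).pullback_stable (p.toFunctor.obj ζ).hom hcov, ?_⟩ ?_
  · intro W k hk
    obtain ⟨Y, t'', g', ⟨v⟩, hfac⟩ := hk
    exact ⟨v, t'', hfac⟩
  · rintro W k ⟨v, t'', hfac⟩
    obtain ⟨ζ', c, hc⟩ := exists_lift' h𝒵 (k ≫ eqToHom hT') ζ rfl
    have hζ' : 𝒵.p.obj ζ' = W := IsHomLift.domain_eq 𝒵.p (k ≫ eqToHom hT') c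
    let w₀ : Over (Wv v) := Over.mk t''
    have hξ : 𝒵.p.obj ((xv v).toFunctor.obj w₀) = W := (xv v).w_obj w₀
    have h1 : (FibCat.overCat V).p.IsHomLift (k ≫ eqToHom hT') (p.toFunctor.map c) := inferInstance
    have h1' : (FibCat.overCat V).p.IsHomLift k (p.toFunctor.map c) :=
      (IsHomLift.lift_comp_eqToHom_iff _ _ _ _).mp h1
    let n₀ : (AlgSt.overMap (wv v)).toFunctor.obj w₀ ⟶ p.toFunctor.obj ζ :=
      Over.homMk (U := (AlgSt.overMap (wv v)).toFunctor.obj w₀) (V := p.toFunctor.obj ζ) k (by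
          have h0 : ((AlgSt.overMap (wv v)).toFunctor.obj w₀).hom = t'' ≫ wv v := rfl
          rw [h0, hfac])
    have hn₀ : (FibCat.overCat V).p.IsHomLift k n₀ := over_lift_self n₀
    have hev : (FibCat.overCat V).p.IsHomLift (𝟙 W) (appIso (ev v) w₀).hom :=
      appIso_hom_isHomLift (ev v) w₀ rfl
    have hn : (FibCat.overCat V).p.IsHomLift k ((appIso (ev v) w₀).hom ≫ n₀) :=
      IsHomLift.comp_lift_id_left' (p := (FibCat.overCat V).p) W (appIso (ev v) w₀).hom k n₀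
    obtain ⟨χ, hχl, -⟩ := exists_iso_factor hV k (p.toFunctor.map c)
      ((appIso (ev v) w₀).hom ≫ n₀) h1' hn
    obtain ⟨R', hR', hloc⟩ := locSurjHom_at (AlgSp.J S) hp ζ' ((xv v).toFunctor.obj w₀) hζ'
      χ.hom hχl
    refine ⟨R', hR', fun W' l hl => ?_⟩
    obtain ⟨x₀, φ, ψ, hφ, hψ, -⟩ := hloc l hl
    let w₁ : Over (Wv v) := Over.mk (l ≫ t'')
    let mor : w₁ ⟶ w₀ := Over.homMk (U := w₁) (V := w₀) l rfl
    have hmor : (FibCat.overCat (Wv v)).p.IsHomLift l mor := over_lift_self mor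
    have h2 : 𝒵.p.IsHomLift l ((xv v).toFunctor.map mor) := map_lift (xv v) l mor hmor
    obtain ⟨χ', hχ'l, -⟩ := exists_iso_factor h𝒵 l ((xv v).toFunctor.map mor) ψ h2 hψ
    have h3 : 𝒵.p.IsHomLift (l ≫ k ≫ eqToHom hT') (φ ≫ c) := inferInstance
    have h4 : 𝒵.p.IsHomLift (l ≫ k ≫ eqToHom hT') (χ'.hom ≫ φ ≫ c) :=
      IsHomLift.comp_lift_id_left' (p := 𝒵.p) W' χ'.hom (l ≫ k ≫ eqToHom hT') (φ ≫ c)
    refine ⟨v, w₁, χ'.hom ≫ φ ≫ c, ?_⟩
    rw [Category.assoc]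
    exact h4

end Fam

section Snd
variable {ι : Type u} {𝒜 : ι → AlgSt.Cat S} {𝒵 𝒰 : AlgSt.Cat S} (h𝒵 : FibCat.IsFibGrpd 𝒵.p)
  (h𝒰 : FibCat.IsFibGrpd 𝒰.p) (xv : ∀ v, 𝒜 v ⥤ᵇ 𝒵) (a : 𝒰 ⥤ᵇ 𝒵)

include h𝒵 h𝒰 in
/-- the base change of a jointly locally surjective family is jointly locally surjective -/
theorem jointLocSurjObj_fpSnd (hxv : JointLocSurjObj xv) :
    JointLocSurjObj (fun v => FibCat.fpSnd (xv v) a) := by
  intro b
  have h : 𝒵.p.obj (a.toFunctor.obj b) = 𝒰.p.obj b := a.w_obj b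
  apply exists_sieve_of_eq (AlgSp.J S) h
  obtain ⟨R, hR, hloc⟩ := hxv (a.toFunctor.obj b)
  refine ⟨R, hR, fun W k hk => ?_⟩
  obtain ⟨v, w, m, hm⟩ := hloc k hk
  obtain ⟨b', β, hβ⟩ := exists_lift' h𝒰 (k ≫ eqToHom h) b rfl
  have hw : (𝒜 v).p.obj w = W := ((xv v).w_obj w).symm.trans (IsHomLift.domain_eq 𝒵.p k m)
  have h1 : 𝒵.p.IsHomLift (k ≫ eqToHom h) (a.toFunctor.map β) := inferInstance
  have h1' : 𝒵.p.IsHomLift k (a.toFunctor.map β) :=
    (IsHomLift.lift_comp_eqToHom_iff _ _ _ _).mp h1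
  obtain ⟨χ, hχl, -⟩ := exists_iso_factor h𝒵 k m (a.toFunctor.map β) hm h1'
  have hχl' : 𝒵.p.IsHomLift (𝟙 ((𝒜 v).p.obj w)) χ.hom := by rw [hw]; exact hχl
  let z : (FibCat.fp (xv v) a).obj := mkObj (F := xv v) (G := a) w b' χ hχl'
  exact ⟨v, z, β, hβ⟩

end Snd

section Chart
open Groth.Agent.Lib.Helper24.AlgStSchLocal Groth.Agent.Lib.Helper24.AlgStProps
open Groth.Agent.Lib.Helper24.AlgStSmooth Groth.Agent.Lib.Helper24.AlgStSmLoc
open Groth.Agent.Lib.Helper24.AlgStDiagLft Groth.Agent.Lib.Helper24.AlgStLocQ5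
open Groth.Agent.Lib.Helper24.AlgStAtlas Groth.Agent.Lib.Helper24.AlgStCalc
open Groth.Agent.Lib.Helper24.AlgSpSmLocal Groth.Agent.Lib.Helper24.AlgStPts3

variable {𝒵 : AlgSt.Cat S} (h𝒵 : FibCat.IsFibGrpd 𝒵.p) {V U : Over S}
  (p : 𝒵 ⥤ᵇ FibCat.overCat V) (hp : Gerb.IsGerbeOver (AlgSp.J S) p)
  (a : FibCat.overCat U ⥤ᵇ 𝒵)

include h𝒵 hp in
/-- local sections of a gerbe over a scheme -/
theorem exists_sections : ∃ (Wv : ↥V.left → Over S) (wv : ∀ v, Wv v ⟶ V)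
    (xv : ∀ v, FibCat.overCat (Wv v) ⥤ᵇ 𝒵), (∀ v, Flat (wv v).left) ∧
      (∀ v, LocallyOfFinitePresentation (wv v).left) ∧ (∀ v, v ∈ Set.range (wv v).left) ∧
      ∀ v, Nonempty (BasedFunctor.comp (xv v) p ≅ AlgSt.overMap (wv v)) := by
  have hV : FibCat.IsFibGrpd (FibCat.overCat V).p :=
    Groth.Agent.Lib.Helper24.StkFpCrit.isFibGrpd_overForget V
  have hfib : 𝒵.p.IsFibered := Groth.Agent.Lib.Helper24.FibGrpd.isFibered_of_isFibGrpd 𝒵.p h𝒵
  obtain ⟨R, hR, hloc⟩ := locSurjObj_at (AlgSp.J S) hp.1 (Over.mk (𝟙 V)) (V := V) rfl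
  obtain ⟨R', hR', hle⟩ := (mem_J_iff R).1 hR
  choose Wv wv hwR hfl hlfp hrange using fun v : ↥V.left => exists_of_mem_KS hR' v
  choose ξ n hn using fun v : ↥V.left => hloc (wv v) (hle _ _ (hwR v))
  have hξ : ∀ v, 𝒵.p.obj (ξ v) = Wv v := fun v =>
    (p.w_obj (ξ v)).symm.trans (IsHomLift.domain_eq (FibCat.overCat V).p (wv v) (n v))
  refine ⟨Wv, wv, fun v => pbBased (hξ v), hfl, hlfp, hrange, fun v => ?_⟩
  -- the value at the identity
  have h1 : 𝒵.p.IsHomLift (𝟙 (Wv v)) (pbMap (hξ v) (Over.mk (𝟙 (Wv v)))) := pbMap_id_lift (hξ v)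
  have h2 : (FibCat.overCat V).p.IsHomLift (𝟙 (Wv v))
      (p.toFunctor.map (pbMap (hξ v) (Over.mk (𝟙 (Wv v))))) := inferInstance
  have h3 : (FibCat.overCat V).p.IsHomLift (wv v)
      (p.toFunctor.map (pbMap (hξ v) (Over.mk (𝟙 (Wv v)))) ≫ n v) :=
    IsHomLift.comp_lift_id_left' (p := (FibCat.overCat V).p) (Wv v) _ (wv v) (n v)
  let n₀ : (AlgSt.overMap (wv v)).toFunctor.obj (Over.mk (𝟙 (Wv v))) ⟶ Over.mk (𝟙 V) :=
    Over.homMk (U := (AlgSt.overMap (wv v)).toFunctor.obj (Over.mk (𝟙 (Wv v))))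
      (V := Over.mk (𝟙 V)) (wv v) (by
        have h0 : ((AlgSt.overMap (wv v)).toFunctor.obj (Over.mk (𝟙 (Wv v)))).hom =
          𝟙 (Wv v) ≫ wv v := rfl
        rw [h0]
        simp)
  have hn₀ : (FibCat.overCat V).p.IsHomLift (wv v) n₀ := over_lift_self n₀
  obtain ⟨χ, hχl, -⟩ := exists_iso_factor hV (wv v)
    (p.toFunctor.map (pbMap (hξ v) (Over.mk (𝟙 (Wv v)))) ≫ n v) n₀ h3 hn₀
  exact Groth.Agent.Lib.Helper24.SpQ14.nonempty_iso_of_hom_at_id hV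
    (BasedFunctor.comp (pbBased (hξ v)) p) (AlgSt.overMap (wv v)) χ.hom hχl

include h𝒵 hp in
/-- a smooth chart of a gerbe over a scheme is flat and locally of finite presentation over the
base -/
theorem flat_lfp_chart (ha : AlgSt.RepByAlgSpWith (AlgSp.LocP @Smooth) a) :
    AlgSt.RepByAlgSpWith (AlgSp.LocP @Flat) (BasedFunctor.comp a p) ∧
      AlgSt.RepByAlgSpWith (AlgSp.LocP @LocallyOfFinitePresentation) (BasedFunctor.comp a p) := by
  have hV : FibCat.IsFibGrpd (FibCat.overCat V).p :=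
    Groth.Agent.Lib.Helper24.StkFpCrit.isFibGrpd_overForget V
  have hU : FibCat.IsFibGrpd (FibCat.overCat U).p :=
    Groth.Agent.Lib.Helper24.StkFpCrit.isFibGrpd_overForget U
  have hVdiag : AlgSt.RepByAlgSp1 (FibCat.diag (FibCat.toSelf (FibCat.overCat V))) :=
    (isAlgStack_of_repByAlgSp (repByAlgSp_overCat V)).diag
  obtain ⟨Wv, wv, xv, hfl, hlfp, hrange, hev⟩ := exists_sections h𝒵 p hp
  have hcov : Sieve.generate (Presieve.ofArrows Wv wv) ∈ AlgSp.J S V :=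
    (mem_J_iff _).2 ⟨_, ofArrows_mem_KS Wv wv (fun v => ⟨hfl v, hlfp v⟩)
      (fun v => ⟨v, hrange v⟩), Sieve.le_generate _⟩
  have hsec := jointLocSurjObj_sections h𝒵 p hp.2 Wv wv hcov xv (fun v => (hev v).some)
  have hg := jointLocSurjObj_fpSnd h𝒵 hU xv a hsec
  have hW : ∀ v, FibCat.IsFibGrpd (FibCat.overCat (Wv v)).p := fun v =>
    Groth.Agent.Lib.Helper24.StkFpCrit.isFibGrpd_overForget (Wv v)
  have hfp : ∀ v, FibCat.IsFibGrpd (FibCat.fp (xv v) a).p := fun v =>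
    isFibGrpd_fp _ _ (hW v) hU h𝒵
  have hx : AlgSt.RepByAlgSp1 (BasedFunctor.comp a p) := fun T t =>
    Groth.Agent.Lib.Helper24.AlgStDiag.repByAlgSp1_of_diag hV hVdiag
      (Groth.Agent.Lib.Helper24.StkFpCrit.isFibGrpd_overForget T) hU (repByAlgSp_overCat T)
      (repByAlgSp_overCat U) t (BasedFunctor.comp a p)
  have θ : ∀ v, BasedFunctor.comp (FibCat.fpFst (xv v) a) (AlgSt.overMap (wv v)) ≅
      BasedFunctor.comp (FibCat.fpSnd (xv v) a) (BasedFunctor.comp a p) := fun v =>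
    (whiskerLeftIso (FibCat.fpFst (xv v) a) (hev v).some.symm).trans
      (whiskerRightIso (FibCat.fpIso (xv v) a) p)
  have hafl := repByAlgSpWith_locP_mono Groth.Agent.Lib.Helper24.AlgStDiagLft.smooth_le_flat a ha
  have halfp := repByAlgSpWith_locP_mono Groth.Agent.Lib.Helper24.AlgStDiagLft.smooth_le_lfp a ha
  constructor
  · refine repByAlgSpWith_of_factor_family famDesc_flat hV (BasedFunctor.comp a p) hx
      (fun v => BasedFunctor.comp (FibCat.fpFst (xv v) a) (AlgSt.overMap (wv v)))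
      (fun v => FibCat.fpSnd (xv v) a) θ (fun v => ?_) hg
    exact repByAlgSpWith_comp (hfp v) (hW v) hV _ good_flat.nice stableComp_flat _ _
      (Groth.Agent.Lib.Helper24.AlgStBoot.repByAlgSpWith_fpFst _ a (xv v) hafl)
      ((repByAlgSpWith_overMap_iff _ good_flat (wv v)).2
        (Groth.Agent.Lib.Helper24.AlgStLocQ6.locP_yon_map_of etLocal_flat (hfl v)))
  · refine repByAlgSpWith_of_factor_family famDesc_lfp hV (BasedFunctor.comp a p) hx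
      (fun v => BasedFunctor.comp (FibCat.fpFst (xv v) a) (AlgSt.overMap (wv v)))
      (fun v => FibCat.fpSnd (xv v) a) θ (fun v => ?_) hg
    exact repByAlgSpWith_comp (hfp v) (hW v) hV _ good_lfp.nice stableComp_lfp _ _
      (Groth.Agent.Lib.Helper24.AlgStBoot.repByAlgSpWith_fpFst _ a (xv v) halfp)
      ((repByAlgSpWith_overMap_iff _ good_lfp (wv v)).2
        (Groth.Agent.Lib.Helper24.AlgStLocQ6.locP_yon_map_of etLocal_lfp (hlfp v)))

end Chart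

section Main
open Groth.Agent.Lib.Helper24.AlgStSchLocal Groth.Agent.Lib.Helper24.AlgStProps
open Groth.Agent.Lib.Helper24.AlgStSmooth Groth.Agent.Lib.Helper24.AlgStSmLoc
open Groth.Agent.Lib.Helper24.AlgStDiagLft Groth.Agent.Lib.Helper24.AlgStLocQ5
open Groth.Agent.Lib.Helper24.AlgStAtlas Groth.Agent.Lib.Helper24.AlgStCalc
open Groth.Agent.Lib.Helper24.AlgSpSmLocal Groth.Agent.Lib.Helper24.AlgStPts3
open Groth.Agent.Lib.Helper24.GerbDiagFlat Groth.Agent.Lib.Helper24.GerbDiagFlat2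

variable {𝒳 𝒴 : AlgSt.Cat S}

/-- a gerbe morphism of algebraic stacks is flat and locally of finite presentation -/
theorem locQ_of_isGerbeOver (h𝒳 : AlgSt.IsAlgStack Scheme.fppfPrecoverage 𝒳)
    (h𝒴 : AlgSt.IsAlgStack Scheme.fppfPrecoverage 𝒴) (f : 𝒳 ⥤ᵇ 𝒴)
    (hf : Gerb.IsGerbeOver (AlgSp.J S) f) :
    AlgSt.LocQ (AlgSp.LocP @Flat) f ∧ AlgSt.LocQ (AlgSp.LocP @LocallyOfFinitePresentation) f := by
  obtain ⟨V, y, hy, hy'⟩ := h𝒴.atlas
  have hV : FibCat.IsFibGrpd (FibCat.overCat V).p :=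
    Groth.Agent.Lib.Helper24.StkFpCrit.isFibGrpd_overForget V
  have hValg : AlgSt.IsAlgStack Scheme.fppfPrecoverage (FibCat.overCat V) :=
    isAlgStack_of_repByAlgSp (repByAlgSp_overCat V)
  have hZalg : AlgSt.IsAlgStack Scheme.fppfPrecoverage (FibCat.fp y f) :=
    Groth.Agent.Lib.Helper24.AlgStFpAlg.isAlgStack_fp h𝒴.isStack h𝒴.diag hValg h𝒳 y f
  have hp : Gerb.IsGerbeOver (AlgSp.J S) (FibCat.fpFst y f) :=
    isGerbeOver_fpFst (AlgSp.J S) h𝒴.isStack.1 hV f y hf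
  obtain ⟨U, a, ha, ha'⟩ := hZalg.atlas
  obtain ⟨h1, h2⟩ := flat_lfp_chart hZalg.isStack.1 (FibCat.fpFst y f) hp a ha
  obtain ⟨g, ⟨i⟩, hg⟩ := exists_hom_of_repByAlgSpWith _ good_flat _ h1
  have hg' : AlgSp.LocP @LocallyOfFinitePresentation ((AlgSp.yon S).map g) :=
    (repByAlgSpWith_overMap_iff _ good_lfp g).1
      (Groth.Agent.Lib.Helper24.AlgStGC.repByAlgSpWith_of_iso _ i h2)
  have hid : AlgSt.RepByAlgSpWith (AlgSp.LocP @Smooth) (BasedFunctor.id (FibCat.overCat V)) :=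
    Groth.Agent.Lib.Helper24.AlgStLocQ4.smooth_of_isEquivOver _ (isEquivOver_id _)
  constructor
  · exact Groth.Agent.Lib.Helper24.AlgStLocQ7.locQ_of_fpFst hV h𝒳.isStack.1 h𝒴.isStack.1 y hy hy' f
      ⟨U, V, a, BasedFunctor.id _, g, i, ha, ha', hid, hg⟩
  · exact Groth.Agent.Lib.Helper24.AlgStLocQ7.locQ_of_fpFst hV h𝒳.isStack.1 h𝒴.isStack.1 y hy hy' f
      ⟨U, V, a, BasedFunctor.id _, g, i, ha, ha', hid, hg'⟩

/-- S16860 -/
theorem isGerbeOver_iff (h𝒳 : AlgSt.IsAlgStack Scheme.fppfPrecoverage 𝒳)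
    (h𝒴 : AlgSt.IsAlgStack Scheme.fppfPrecoverage 𝒴) (f : 𝒳 ⥤ᵇ 𝒴) :
    Gerb.IsGerbeOver (AlgSp.J S) f ↔
      (AlgSt.IsSurjective f ∧ AlgSt.LocQ (AlgSp.LocP @Flat) f ∧
        AlgSt.LocQ (AlgSp.LocP @LocallyOfFinitePresentation) f) ∧
      (AlgSt.IsSurjective (FibCat.diag f) ∧ AlgSt.LocQ (AlgSp.LocP @Flat) (FibCat.diag f) ∧
        AlgSt.LocQ (AlgSp.LocP @LocallyOfFinitePresentation) (FibCat.diag f)) := by
  constructor
  · intro hf
    obtain ⟨h1, h2⟩ := locQ_of_isGerbeOver h𝒳 h𝒴 f hf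
    exact ⟨⟨Groth.Agent.Lib.Helper24.GerbHomeo1.isSurjective_of_locSurjObj h𝒴.isStack.1 f hf.1,
      h1, h2⟩, locQ_diag h𝒳 h𝒴 f hf⟩
  · rintro ⟨⟨hs, hfl, hlfp⟩, ⟨hs', hfl', hlfp'⟩⟩
    have hP := isAlgStack_fp_self h𝒳 h𝒴 f
    exact ⟨Groth.Agent.Lib.Helper24.GerbFppf.locSurjObj_of_fppf h𝒳 h𝒴 f hs hfl hlfp,
      locSurjHom_of_locSurjObj_diag (AlgSp.J S) h𝒴.isStack.1 f
        (Groth.Agent.Lib.Helper24.GerbFppf.locSurjObj_of_fppf h𝒳 hP (FibCat.diag f)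
          hs' hfl' hlfp')⟩

end Main

end Groth.Agent.Lib.Helper24.GerbFlat
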