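import Groth.Prelude.Def_StGerb2
import Groth.Agent.Lib.Helper24.GerbFlat
import Groth.Agent.Lib.Helper24.FibCatTwoCart

universe u

set_option autoImplicit false
set_option linter.unusedSectionVars false
set_option linter.unusedVariables false
set_option backward.isDefEq.respectTransparency false
set_option backward.isDefEq.respectTransparency.types false

open CategoryTheory CategoryTheory.Limits AlgebraicGeometry Opposite

/-! The automorphism group scheme of a point of a stack is the base change of the inertia. -/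

namespace Groth.Agent.Lib.Helper24.GerbAut
open Groth.Agent.Lib.Helper24.FibCatFpGen Groth.Agent.Lib.Helper24.FibCatEquiv
open Groth.Agent.Lib.Helper24.GerbFormal Groth.Agent.Lib.Helper24.FibCatRepDiag

variable {S : Scheme.{u}} {U : Over S}

lemma over_endo_eq_id {t : Over U} (φ : t ⟶ t) {T : Over S}
    (hφ : (FibCat.overCat U).p.IsHomLift (𝟙 T) φ) : φ = 𝟙 t := by
  apply Over.OverMorphism.ext
  have h := IsHomLift.fac' (FibCat.overCat U).p (𝟙 T) φ
  change φ.left = _ at h
  rw [h]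
  simp
  rfl

variable {𝒳 : AlgSt.Cat S} (h𝒳 : FibCat.IsFibGrpd 𝒳.p)
  (π : 𝒳 ⥤ᵇ FibCat.overCat U) (x : FibCat.overCat U ⥤ᵇ 𝒳)
  (G : Over U.left) [GrpObj G] (r : Gerb.AutRep x (Gerb.ptsGrp U G))

/-- the total space of the group scheme, over `S` -/
def G' : Over S := Over.mk (G.hom ≫ U.hom)

/-- the structure morphism of the group scheme, over `S` -/
def γ : G' G ⟶ U := Over.homMk (U := G' G) (V := U) G.hom rfl

lemma γ_left : (γ G).left = G.hom := rfl

/-- the image of an object of `Sch/G'` in `Sch/U` -/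
abbrev tOfW (w : Over (G' G)) : Over U := (Over.map (γ G)).obj w

/-- the point of `G` given by an object of `Sch/G'` -/
def ptOf (w : Over (G' G)) : (Over.iteratedSliceForward U).obj (tOfW G w) ⟶ G :=
  Over.homMk (U := (Over.iteratedSliceForward U).obj (tOfW G w)) (V := G) w.hom.left rfl

lemma ptOf_left (w : Over (G' G)) : (ptOf G w).left = w.hom.left := rfl

lemma ptOf_map {w w' : Over (G' G)} (m : w ⟶ w') :
    (Over.iteratedSliceForward U).map ((Over.map (γ G)).map m) ≫ ptOf G w' = ptOf G w := by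
  apply Over.OverMorphism.ext
  have h := congrArg (fun t => t.left) (Over.w m)
  exact h

/-- the automorphism attached to an object of `Sch/G'` -/
noncomputable def autOf (w : Over (G' G)) : Gerb.AutO (x.obj (tOfW G w)) :=
  r.iso (tOfW G w) (ptOf G w)

lemma autOf_natural {w w' : Over (G' G)} (m : w ⟶ w') :
    (autOf x G r w).hom.1 ≫ x.map ((Over.map (γ G)).map m) =
      x.map ((Over.map (γ G)).map m) ≫ (autOf x G r w').hom.1 := by
  have h := r.natural ((Over.map (γ G)).map m) (ptOf G w')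
  have h2 : (Gerb.ptsGrp U G).map ((Over.map (γ G)).map m).op (ptOf G w') = ptOf G w :=
    ptOf_map G m
  rw [h2] at h
  exact h

/-- an automorphism over the identity as an isomorphism of `𝒳` -/
def isoOfAutO {y : 𝒳.obj} (α : Gerb.AutO y) : y ≅ y :=
  (Functor.Fiber.fiberInclusion (p := 𝒳.p) (S := 𝒳.p.obj y)).mapIso α

lemma isoOfAutO_hom {y : 𝒳.obj} (α : Gerb.AutO y) : (isoOfAutO α).hom = α.hom.1 := rfl

lemma map_autO_eq_id {y : 𝒳.obj} (α : Gerb.AutO y) : π.map α.hom.1 = 𝟙 (π.obj y) :=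
  over_endo_eq_id _ (Gerb.isHomLift_map_autO π y α)

/-- the functor `Sch/G' ⟶ I_{𝒳/U}` -/
noncomputable def k₂ : FibCat.overCat (G' G) ⥤ᵇ FibCat.inertia π where
  toFunctor :=
    { obj := fun w => ⟨x.obj (tOfW G w), isoOfAutO (autOf x G r w), map_autO_eq_id π _⟩
      map := fun {w w'} m => ⟨x.map ((Over.map (γ G)).map m), autOf_natural x G r m⟩
      map_id := fun w => by
        apply FibCat.InertiaObj.hom_ext
        exact (BasedFunctor.comp (AlgSt.overMap (γ G)) x).toFunctor.map_id w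
      map_comp := fun m m' => by
        apply FibCat.InertiaObj.hom_ext
        exact (BasedFunctor.comp (AlgSt.overMap (γ G)) x).toFunctor.map_comp m m' }
  w := (BasedFunctor.comp (AlgSt.overMap (γ G)) x).w

/-- the comparison functor `Sch/G' ⟶ (Sch/U) ×_𝒳 I_{𝒳/U}` -/
noncomputable def k : FibCat.overCat (G' G) ⥤ᵇ FibCat.fp x (FibCat.inertiaToBase π) :=
  FibCat.fpLift (AlgSt.overMap (γ G)) (k₂ π x G r) (Iso.refl _)

lemma k_fst : BasedFunctor.comp (k π x G r) (FibCat.fpFst _ _) = AlgSt.overMap (γ G) := rfl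

lemma isHomLift_autO' {y : 𝒳.obj} {R : Over S} (hR : 𝒳.p.obj y = R) (α : Gerb.AutO y) :
    𝒳.p.IsHomLift (𝟙 R) α.hom.1 := by
  subst hR
  exact α.hom.2

/-- an isomorphism of `𝒳` over the identity as an automorphism over the identity -/
def autOOfIso {y : 𝒳.obj} (β : y ≅ y) (h : 𝒳.p.IsHomLift (𝟙 (𝒳.p.obj y)) β.hom) : Gerb.AutO y where
  hom := ⟨β.hom, h⟩
  inv := ⟨β.inv, IsHomLift.lift_id_inv (p := 𝒳.p) (𝒳.p.obj y) β⟩
  hom_inv_id := Functor.Fiber.hom_ext β.hom_inv_id
  inv_hom_id := Functor.Fiber.hom_ext β.inv_hom_id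

lemma autOOfIso_hom {y : 𝒳.obj} (β : y ≅ y) (h : 𝒳.p.IsHomLift (𝟙 (𝒳.p.obj y)) β.hom) :
    (autOOfIso β h).hom.1 = β.hom := rfl

lemma autO_ext {y : 𝒳.obj} {α α' : Gerb.AutO y} (h : α.hom.1 = α'.hom.1) : α = α' := by
  apply Aut.ext
  exact Functor.Fiber.hom_ext h

/-- isomorphisms of the inertia from isomorphisms of `𝒳` commuting with the automorphisms -/
def mkIsoInertia {a b : FibCat.InertiaObj π} (φ : a.pt ≅ b.pt)
    (h : a.aut.hom ≫ φ.hom = φ.hom ≫ b.aut.hom) : a ≅ b where
  hom := ⟨φ.hom, h⟩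
  inv := ⟨φ.inv, by
    rw [Iso.comp_inv_eq, Category.assoc, Iso.eq_inv_comp]
    exact h.symm⟩
  hom_inv_id := FibCat.InertiaObj.hom_ext φ.hom_inv_id
  inv_hom_id := FibCat.InertiaObj.hom_ext φ.inv_hom_id

include h𝒳 in
/-- fullness: a morphism of `Sch/U` compatible with the universal automorphisms comes from `Sch/G'` -/
lemma w_of_comm {w w' : Over (G' G)} (u : tOfW G w ⟶ tOfW G w')
    (hu : (autOf x G r w).hom.1 ≫ x.map u = x.map u ≫ (autOf x G r w').hom.1) :
    u.left ≫ w'.hom = w.hom := by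
  have hnat := r.natural u (ptOf G w')
  have hux : 𝒳.p.IsHomLift u.left (x.map u) := map_lift x u.left u (over_lift_self u)
  have hsc : 𝒳.p.IsStronglyCartesian u.left (x.map u) := scart_of_isFibGrpd 𝒳.p h𝒳 _ _
  have hR : 𝒳.p.obj (x.obj (tOfW G w)) = (tOfW G w).left := x.w_obj _
  have h1 : 𝒳.p.IsHomLift (𝟙 (tOfW G w).left)
      (r.iso (tOfW G w) ((Gerb.ptsGrp U G).map u.op (ptOf G w'))).hom.1 := isHomLift_autO' hR _
  have h2 : 𝒳.p.IsHomLift (𝟙 (tOfW G w).left) (autOf x G r w).hom.1 := isHomLift_autO' hR _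
  have heq : (r.iso (tOfW G w) ((Gerb.ptsGrp U G).map u.op (ptOf G w'))).hom.1 =
      (autOf x G r w).hom.1 :=
    Functor.IsCartesian.ext 𝒳.p u.left (x.map u) _ _ (hnat.trans hu.symm)
  have h3 : (Gerb.ptsGrp U G).map u.op (ptOf G w') = ptOf G w :=
    (r.iso (tOfW G w)).injective (autO_ext heq)
  have h4 : (Over.iteratedSliceForward U).map u ≫ ptOf G w' = ptOf G w := h3
  apply Over.OverMorphism.ext
  exact congrArg (fun t => t.left) h4

/-- the object of `Sch/G'` attached to a point of `G` -/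
def wOf (t : Over U) (a : (Over.iteratedSliceForward U).obj t ⟶ G) : Over (G' G) :=
  Over.mk (Y := t.left) (Over.homMk (U := t.left) (V := G' G) a.left (by
    have h1 : a.left ≫ G.hom = t.hom.left := Over.w a
    have h2 : t.hom.left ≫ U.hom = t.left.hom := Over.w t.hom
    change a.left ≫ G.hom ≫ U.hom = t.left.hom
    rw [← Category.assoc, h1, h2]))

/-- its image in `Sch/U` is the original object -/
def wOfIso (t : Over U) (a : (Over.iteratedSliceForward U).obj t ⟶ G) :
    tOfW G (wOf G t a) ≅ t :=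
  Over.isoMk (Iso.refl _) (by
    apply Over.OverMorphism.ext
    have h1 : a.left ≫ G.hom = t.hom.left := Over.w a
    change 𝟙 _ ≫ t.hom.left = a.left ≫ G.hom
    rw [Category.id_comp, h1])

lemma wOfIso_hom_left (t : Over U) (a : (Over.iteratedSliceForward U).obj t ⟶ G) :
    (wOfIso G t a).hom.left = 𝟙 t.left := rfl

lemma ptOf_wOf (t : Over U) (a : (Over.iteratedSliceForward U).obj t ⟶ G) :
    (Over.iteratedSliceForward U).map (wOfIso G t a).hom ≫ a = ptOf G (wOf G t a) := by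
  apply Over.OverMorphism.ext
  change 𝟙 _ ≫ a.left = a.left
  exact Category.id_comp _

include h𝒳 in
/-- the comparison functor is an equivalence: `G` is the base change of the relative inertia -/
theorem isEquivOver_k : FibCat.IsEquivOver (k π x G r) := by
  apply Groth.Agent.Lib.Helper24.FibCatTwoCart.isEquivOver_fpLift_of
  · intro w w' m m' h1 _
    apply Over.OverMorphism.ext
    exact congrArg (fun t => t.left) h1
  · intro w w' u v huv
    have hv : x.map u = v.hom := by
      have : x.map u ≫ 𝟙 _ = 𝟙 _ ≫ v.hom := huv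
      rwa [Category.comp_id, Category.id_comp] at this
    have hcomm : (autOf x G r w).hom.1 ≫ x.map u = x.map u ≫ (autOf x G r w').hom.1 := by
      rw [hv]
      exact v.comm
    have hw := w_of_comm h𝒳 x G r u hcomm
    refine ⟨Over.homMk u.left hw, ?_, ?_⟩
    · apply Over.OverMorphism.ext
      rfl
    · apply FibCat.InertiaObj.hom_ext
      change x.map _ = v.hom
      rw [← hv]
      congr 1
  · intro η
    have hθ : 𝒳.p.IsHomLift (𝟙 ((FibCat.overCat U).p.obj η.obj.fst)) η.obj.iso.hom :=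
      iso_isHomLift x (FibCat.inertiaToBase π) η
    have hθ' : 𝒳.p.IsHomLift (𝟙 ((FibCat.overCat U).p.obj η.obj.fst)) η.obj.iso.inv :=
      IsHomLift.lift_id_inv (p := 𝒳.p) _ η.obj.iso
    have hpt : 𝒳.p.obj η.obj.snd.pt = (FibCat.overCat U).p.obj η.obj.fst :=
      IsHomLift.codomain_eq 𝒳.p (𝟙 ((FibCat.overCat U).p.obj η.obj.fst)) η.obj.iso.hom
    have haut : 𝒳.p.IsHomLift (𝟙 ((FibCat.overCat U).p.obj η.obj.fst)) η.obj.snd.aut.hom := by
      rw [← BasedFunctor.isHomLift_iff π, η.obj.snd.map_aut]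
      exact IsHomLift.id ((π.w_obj η.obj.snd.pt).trans hpt)
    let βt : x.obj η.obj.fst ≅ x.obj η.obj.fst := η.obj.iso ≪≫ η.obj.snd.aut ≪≫ η.obj.iso.symm
    have hβt₀ : 𝒳.p.IsHomLift (𝟙 ((FibCat.overCat U).p.obj η.obj.fst)) βt.hom := by
      change 𝒳.p.IsHomLift _ (η.obj.iso.hom ≫ η.obj.snd.aut.hom ≫ η.obj.iso.inv)
      have : 𝒳.p.IsHomLift (𝟙 ((FibCat.overCat U).p.obj η.obj.fst))
          (η.obj.snd.aut.hom ≫ η.obj.iso.inv) := inferInstance
      infer_instance
    have hβt : 𝒳.p.IsHomLift (𝟙 (𝒳.p.obj (x.obj η.obj.fst))) βt.hom := by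
      rw [x.w_obj η.obj.fst]
      exact hβt₀
    let a' : (Over.iteratedSliceForward U).obj η.obj.fst ⟶ G :=
      (r.iso η.obj.fst).symm (autOOfIso βt hβt)
    have ha' : r.iso η.obj.fst a' = autOOfIso βt hβt := (r.iso η.obj.fst).apply_symm_apply _
    have hnat := r.natural (wOfIso G η.obj.fst a').hom a'
    have hpt' : (Gerb.ptsGrp U G).map (wOfIso G η.obj.fst a').hom.op a' =
        ptOf G (wOf G η.obj.fst a') := ptOf_wOf G η.obj.fst a'
    rw [hpt', ha'] at hnat
    have key : (autOf x G r (wOf G η.obj.fst a')).hom.1 ≫ x.map (wOfIso G η.obj.fst a').hom =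
        x.map (wOfIso G η.obj.fst a').hom ≫
          η.obj.iso.hom ≫ η.obj.snd.aut.hom ≫ η.obj.iso.inv := hnat
    have hlift : (FibCat.overCat U).p.IsHomLift (𝟙 ((FibCat.overCat U).p.obj η.obj.fst))
        (wOfIso G η.obj.fst a').hom := over_lift_self (wOfIso G η.obj.fst a').hom
    refine ⟨wOf G η.obj.fst a', wOfIso G η.obj.fst a',
      mkIsoInertia π (a := (k₂ π x G r).obj (wOf G η.obj.fst a')) (b := η.obj.snd)
        (x.toFunctor.mapIso (wOfIso G η.obj.fst a') ≪≫ η.obj.iso) ?_, hlift, ?_⟩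
    · change (autOf x G r (wOf G η.obj.fst a')).hom.1 ≫
        (x.map (wOfIso G η.obj.fst a').hom ≫ η.obj.iso.hom) =
        (x.map (wOfIso G η.obj.fst a').hom ≫ η.obj.iso.hom) ≫ η.obj.snd.aut.hom
      rw [← Category.assoc, key]
      simp only [Category.assoc, Iso.inv_hom_id, Category.comp_id]
    · exact (Category.id_comp _).symm

include x r in
/-- S16867: the automorphism group scheme of a point of a gerbe over a scheme is flat and locally of
finite presentation -/
theorem flat_lfp_autGrp (h𝒳 : AlgSt.IsAlgStack Scheme.fppfPrecoverage 𝒳)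
    (hπ : Gerb.IsGerbeOver (AlgSp.J S) π) :
    Flat G.hom ∧ LocallyOfFinitePresentation G.hom := by
  have hU : AlgSt.IsAlgStack Scheme.fppfPrecoverage (FibCat.overCat U) :=
    Groth.Agent.Lib.Helper24.AlgStAtlas.isAlgStack_of_repByAlgSp
      (Groth.Agent.Lib.Helper24.AlgStCalc.repByAlgSp_overCat U)
  obtain ⟨h1, h2, -⟩ := Groth.Agent.Lib.Helper24.GerbDiagFlat.diag_of_isGerbeOver h𝒳 hU π hπ
  have hk := isEquivOver_k h𝒳.isStack.1 π x G r
  have key : ∀ P : MorphismProperty (AlgSp.Sp S), Groth.Agent.Lib.Helper24.AlgStProps.Good P →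
      AlgSt.RepByAlgSpWith P (FibCat.diag π) → P ((AlgSp.yon S).map (γ G)) := by
    intro P hP h
    have hI := Groth.Agent.Lib.Helper24.AlgStInertia.repByAlgSpWith_inertiaToBase P π h
    have hb := Groth.Agent.Lib.Helper24.AlgStBoot.repByAlgSpWith_fpFst P
      (FibCat.inertiaToBase π) x hI
    have hc : AlgSt.RepByAlgSpWith P (AlgSt.overMap (γ G)) := by
      rw [← k_fst π x G r]
      exact (Groth.Agent.Lib.Helper24.AlgStSmLoc.repByAlgSpWith_equiv_comp P (k π x G r) _ hk).2 hb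
    exact (Groth.Agent.Lib.Helper24.AlgStSmLoc.repByAlgSpWith_overMap_iff P hP (γ G)).1 hc
  exact ⟨AlgSp.locP_yon_map (key _ Groth.Agent.Lib.Helper24.AlgStProps.good_flat h1),
    AlgSp.locP_yon_map (key _ Groth.Agent.Lib.Helper24.AlgStProps.good_lfp h2)⟩

end Groth.Agent.Lib.Helper24.GerbAut
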