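import Groth.Agent.Lib.Helper24.GerbBandGlue
import Mathlib.Algebra.Category.Grp.Limits
set_option autoImplicit false
set_option linter.unusedSectionVars false
set_option linter.style.haveILetI false
open CategoryTheory Opposite
universe v₃ u₃ v₂ u₂ v u
set_option backward.isDefEq.respectTransparency false
set_option backward.isDefEq.respectTransparency.types false

/-! # The band of an abelian gerbe -/

noncomputable section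

namespace Groth.Agent.Lib.Helper24.GerbBand
open Groth.Agent.Lib.Helper24.FibGrpd Groth.Agent.Lib.Helper24.FibGrpdFunctor
open Groth.Agent.Lib.Helper24.FibCatYoneda Groth.Agent.Lib.Helper24.FibCatRepDiag
open Groth.Agent.Lib.Helper24.GerbGlue Groth.Agent.Lib.Helper24.GerbBandGlue

variable {C : Type u} [Category.{v} C] (𝒮 : BasedCategory.{v₂, u₂} C)

section Presheaf

/-- the ambient product group -/
abbrev Fam (U : C) : Type (max u₂ v v₂) := ∀ (y : 𝒮.obj) (_ : 𝒮.p.obj y ⟶ U), Gerb.AutO y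

variable {𝒮}

lemma autO_mul_hom {y : 𝒮.obj} (a b : Gerb.AutO y) : (a * b).hom.1 = b.hom.1 ≫ a.hom.1 := rfl

lemma autO_one_hom (y : 𝒮.obj) : (1 : Gerb.AutO y).hom.1 = 𝟙 y := rfl

lemma autO_hom_inv {y : 𝒮.obj} (a : Gerb.AutO y) : a.hom.1 ≫ (a⁻¹).hom.1 = 𝟙 y :=
  congrArg Subtype.val a.hom_inv_id

lemma autO_inv_hom {y : 𝒮.obj} (a : Gerb.AutO y) : (a⁻¹).hom.1 ≫ a.hom.1 = 𝟙 y :=
  congrArg Subtype.val a.inv_hom_id

lemma autO_ext {y : 𝒮.obj} {a b : Gerb.AutO y} (h : a.hom.1 = b.hom.1) : a = b := by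
  apply Aut.ext
  exact Subtype.ext h

/-- naturality of a family of automorphisms -/
def IsNat {U : C} (a : Fam 𝒮 U) : Prop :=
  ∀ ⦃y' y : 𝒮.obj⦄ (ψ : y' ⟶ y) (f : 𝒮.p.obj y ⟶ U),
    (a y' (𝒮.p.map ψ ≫ f)).hom.1 ≫ ψ = ψ ≫ (a y f).hom.1

variable (𝒮) in
/-- the group of natural families of automorphisms -/
def bandSubgroup (U : C) : Subgroup (Fam 𝒮 U) where
  carrier := {a | IsNat a}
  mul_mem' := by
    intro a b ha hb y' y ψ f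
    change (a y' _ * b y' _).hom.1 ≫ ψ = ψ ≫ (a y f * b y f).hom.1
    rw [autO_mul_hom, autO_mul_hom, Category.assoc, ha ψ f, ← Category.assoc, hb ψ f,
      Category.assoc]
  one_mem' := by
    intro y' y ψ f
    change (1 : Gerb.AutO y').hom.1 ≫ ψ = ψ ≫ (1 : Gerb.AutO y).hom.1
    rw [autO_one_hom, autO_one_hom, Category.id_comp, Category.comp_id]
  inv_mem' := by
    intro a ha y' y ψ f
    change ((a y' _)⁻¹).hom.1 ≫ ψ = ψ ≫ ((a y f)⁻¹).hom.1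
    have h := ha ψ f
    calc ((a y' _)⁻¹).hom.1 ≫ ψ
        = ((a y' _)⁻¹).hom.1 ≫ ψ ≫ (a y f).hom.1 ≫ ((a y f)⁻¹).hom.1 := by
          rw [autO_hom_inv, Category.comp_id]
      _ = ((a y' _)⁻¹).hom.1 ≫ ((a y' (𝒮.p.map ψ ≫ f)).hom.1 ≫ ψ) ≫ ((a y f)⁻¹).hom.1 := by
          rw [h, Category.assoc]
      _ = ψ ≫ ((a y f)⁻¹).hom.1 := by
          rw [Category.assoc, ← Category.assoc, autO_inv_hom, Category.id_comp]

lemma mem_bandSubgroup {U : C} (a : Fam 𝒮 U) : a ∈ bandSubgroup 𝒮 U ↔ IsNat a := Iff.rfl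

/-- restriction of natural families -/
def bandMap {U V : C} (g : V ⟶ U) : bandSubgroup 𝒮 U →* bandSubgroup 𝒮 V where
  toFun a := ⟨fun y f => a.1 y (f ≫ g), by
    intro y' y ψ f
    have := a.2 ψ (f ≫ g)
    rw [← Category.assoc] at this
    exact this⟩
  map_one' := rfl
  map_mul' _ _ := rfl

lemma bandMap_val {U V : C} (g : V ⟶ U) (a : bandSubgroup 𝒮 U) (y : 𝒮.obj)
    (f : 𝒮.p.obj y ⟶ V) : (bandMap g a).1 y f = a.1 y (f ≫ g) := rfl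

lemma band_ext {U : C} {a b : bandSubgroup 𝒮 U} (h : ∀ y f, a.1 y f = b.1 y f) : a = b := by
  apply Subtype.ext
  funext y f
  exact h y f

variable (𝒮) in
/-- the presheaf of groups of natural families of automorphisms -/
def bandPsh : Cᵒᵖ ⥤ GrpCat.{max u₂ v v₂} where
  obj U := GrpCat.of (bandSubgroup 𝒮 U.unop)
  map g := GrpCat.ofHom (bandMap g.unop)
  map_id U := by
    apply GrpCat.hom_ext
    apply MonoidHom.ext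
    intro a
    apply band_ext
    intro y f
    change a.1 y (f ≫ 𝟙 _) = a.1 y f
    rw [Category.comp_id]
  map_comp g h := by
    apply GrpCat.hom_ext
    apply MonoidHom.ext
    intro a
    apply band_ext
    intro y f
    change a.1 y (f ≫ (h.unop ≫ g.unop)) = a.1 y ((f ≫ h.unop) ≫ g.unop)
    rw [Category.assoc]

lemma bandPsh_map_val {U V : C} (g : V ⟶ U) (a : bandSubgroup 𝒮 U) (y : 𝒮.obj)
    (f : 𝒮.p.obj y ⟶ V) :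
    (((bandPsh 𝒮).map g.op).hom a : bandSubgroup 𝒮 V).1 y f = a.1 y (f ≫ g) := rfl

end Presheaf


section Sheaf
variable {𝒮} (J : GrothendieckTopology C) (hst : Stk.IsStack J 𝒮)

section Family
variable {U : C} (S : Sieve U) (hS : S ∈ J U)
  (x : ∀ ⦃V : C⦄ (g : V ⟶ U), S g → bandSubgroup 𝒮 V)
  (hx : ∀ ⦃V W : C⦄ (g : V ⟶ U) (h : W ⟶ V) (hg : S g),
    x (h ≫ g) (S.downward_closed hg h) = bandMap h (x g hg))

lemma x_congr {V : C} {g g' : V ⟶ U} (e : g = g') (hg : S g) (hg' : S g') :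
    x g hg = x g' hg' := by
  subst e; rfl

/-- the local membership predicate -/
def MS (y : 𝒮.obj) (f : 𝒮.p.obj y ⟶ U) : ∀ ⦃w : 𝒮.obj⦄, (w ⟶ y) → Prop :=
  fun _ cc => S (𝒮.p.map cc ≫ f)

lemma MS_comp (y : 𝒮.obj) (f : 𝒮.p.obj y ⟶ U) ⦃w' w : 𝒮.obj⦄ (m : w' ⟶ w) (cc : w ⟶ y)
    (h : MS S y f cc) : MS S y f (m ≫ cc) := by
  change S (𝒮.p.map (m ≫ cc) ≫ f)
  rw [Functor.map_comp, Category.assoc]
  exact S.downward_closed h _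

include hst hS hx

lemma MS_cover (y : 𝒮.obj) (f : 𝒮.p.obj y ⟶ U) :
    sieveOf hst.1 y (MS S y f) (MS_comp S y f) ∈ J (𝒮.p.obj y) := by
  refine J.superset_covering ?_ (J.pullback_stable f hS)
  intro V h hh
  obtain ⟨w, c, hc⟩ := hst.1.exists_lift (x := y) h
  refine ⟨w, c, hc, ?_⟩
  change S (𝒮.p.map c ≫ f)
  have e := IsHomLift.fac' 𝒮.p h c
  rw [e]
  simp only [eqToHom_refl, Category.comp_id, Category.assoc]
  exact S.downward_closed hh _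

/-- the local automorphisms -/
def αS (y : 𝒮.obj) (f : 𝒮.p.obj y ⟶ U) : ∀ ⦃w : 𝒮.obj⦄ (cc : w ⟶ y), MS S y f cc → (w ⟶ w) :=
  fun w cc h => ((x (𝒮.p.map cc ≫ f) h).1 w (𝟙 _)).hom.1

lemma αS_nat (y : 𝒮.obj) (f : 𝒮.p.obj y ⟶ U) ⦃w' w : 𝒮.obj⦄ (m : w' ⟶ w) (cc : w ⟶ y)
    (h : MS S y f cc) :
    αS S x y f (m ≫ cc) (MS_comp S y f m cc h) ≫ m = m ≫ αS S x y f cc h := by
  have e0 : 𝒮.p.map (m ≫ cc) ≫ f = 𝒮.p.map m ≫ (𝒮.p.map cc ≫ f) := by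
    rw [Functor.map_comp, Category.assoc]
  have e1 : x (𝒮.p.map (m ≫ cc) ≫ f) (MS_comp S y f m cc h) =
      bandMap (𝒮.p.map m) (x (𝒮.p.map cc ≫ f) h) :=
    (x_congr S x e0 _ (S.downward_closed h _)).trans (hx _ _ h)
  have e2 := (x (𝒮.p.map cc ≫ f) h).2 m (𝟙 _)
  unfold αS
  rw [e1, bandMap_val, Category.id_comp]
  rw [Category.comp_id] at e2
  exact e2

lemma exists_tS (y : 𝒮.obj) (f : 𝒮.p.obj y ⟶ U) :
    ∃ β : y ⟶ y, 𝒮.p.IsHomLift (𝟙 (𝒮.p.obj y)) β ∧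
      ∀ ⦃w : 𝒮.obj⦄ (cc : w ⟶ y) (h : MS S y f cc), cc ≫ β = αS S x y f cc h ≫ cc :=
  exists_glue J hst y (MS S y f) (MS_comp S y f) (MS_cover J hst S hS x hx y f) (αS S x y f)
    (fun w cc h => ((x (𝒮.p.map cc ≫ f) h).1 w (𝟙 _)).hom.2) (αS_nat J hst S hS x hx y f)

/-- the glued family -/
def tS : Fam 𝒮 U := fun y f =>
  autOfHom hst.1 (exists_tS J hst S hS x hx y f).choose (exists_tS J hst S hS x hx y f).choose_spec.1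

lemma tS_spec (y : 𝒮.obj) (f : 𝒮.p.obj y ⟶ U) ⦃w : 𝒮.obj⦄ (cc : w ⟶ y) (h : MS S y f cc) :
    cc ≫ (tS J hst S hS x hx y f).hom.1 = αS S x y f cc h ≫ cc :=
  (exists_tS J hst S hS x hx y f).choose_spec.2 cc h

lemma tS_char (y : 𝒮.obj) (f : 𝒮.p.obj y ⟶ U) (β : y ⟶ y)
    (hβ : 𝒮.p.IsHomLift (𝟙 (𝒮.p.obj y)) β)
    (H : ∀ ⦃w : 𝒮.obj⦄ (cc : w ⟶ y) (h : MS S y f cc), cc ≫ β = αS S x y f cc h ≫ cc) :
    β = (tS J hst S hS x hx y f).hom.1 := by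
  refine glue_unique J hst y (MS S y f) (MS_comp S y f) (MS_cover J hst S hS x hx y f) _ _ hβ
    (tS J hst S hS x hx y f).hom.2 ?_
  intro w cc h
  rw [H cc h, tS_spec J hst S hS x hx y f cc h]

lemma tS_isNat : IsNat (tS J hst S hS x hx) := by
  intro y' y ψ f
  have hψ : 𝒮.p.IsHomLift (𝒮.p.map ψ) ψ := IsHomLift.map 𝒮.p ψ
  have hβ : 𝒮.p.IsHomLift (𝟙 (𝒮.p.obj y)) (tS J hst S hS x hx y f).hom.1 :=
    (tS J hst S hS x hx y f).hom.2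
  have hψβ : 𝒮.p.IsHomLift (𝒮.p.map ψ) (ψ ≫ (tS J hst S hS x hx y f).hom.1) := inferInstance
  obtain ⟨γ, ⟨hγ1, hγ2⟩, -⟩ := exists_unique_factor hst.1 ψ (ψ ≫ (tS J hst S hS x hx y f).hom.1)
    (𝒮.p.map ψ) (𝟙 _) (𝒮.p.map ψ) (Category.id_comp _).symm hψ hψβ
  have key : γ = (tS J hst S hS x hx y' (𝒮.p.map ψ ≫ f)).hom.1 := by
    apply tS_char J hst S hS x hx y' (𝒮.p.map ψ ≫ f) γ hγ1
    intro w cc' h'
    have hcc' : 𝒮.p.IsHomLift (𝒮.p.map cc') cc' := IsHomLift.map 𝒮.p cc'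
    have hα' : 𝒮.p.IsHomLift (𝟙 (𝒮.p.obj w)) (αS S x y' (𝒮.p.map ψ ≫ f) cc' h') :=
      ((x (𝒮.p.map cc' ≫ 𝒮.p.map ψ ≫ f) h').1 w (𝟙 _)).hom.2
    have l1 : 𝒮.p.IsHomLift (𝒮.p.map cc') (cc' ≫ γ) := inferInstance
    have l2 : 𝒮.p.IsHomLift (𝒮.p.map cc') (αS S x y' (𝒮.p.map ψ ≫ f) cc' h' ≫ cc') :=
      inferInstance
    apply cancel_right hst.1 ψ (𝒮.p.map ψ) (𝒮.p.map cc') hψ _ _ l1 l2
    have e0 : 𝒮.p.map (cc' ≫ ψ) ≫ f = 𝒮.p.map cc' ≫ 𝒮.p.map ψ ≫ f := by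
      rw [Functor.map_comp, Category.assoc]
    have h'' : MS S y f (cc' ≫ ψ) := by
      change S (𝒮.p.map (cc' ≫ ψ) ≫ f)
      rw [e0]; exact h'
    have e1 := tS_spec J hst S hS x hx y f (cc' ≫ ψ) h''
    have e2 : αS S x y f (cc' ≫ ψ) h'' = αS S x y' (𝒮.p.map ψ ≫ f) cc' h' := by
      unfold αS
      rw [x_congr S x e0 h'' h']
    rw [Category.assoc, hγ2, ← Category.assoc, e1, e2, Category.assoc]
  rw [← key]
  exact hγ2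

/-- the glued element -/
def tEl : bandSubgroup 𝒮 U := ⟨tS J hst S hS x hx, tS_isNat J hst S hS x hx⟩

lemma tEl_amalg ⦃V : C⦄ (g : V ⟶ U) (hg : S g) : bandMap g (tEl J hst S hS x hx) = x g hg := by
  apply band_ext
  intro y f
  rw [bandMap_val]
  apply autO_ext
  symm
  apply tS_char J hst S hS x hx y (f ≫ g) _ ((x g hg).1 y f).hom.2
  intro w cc h
  have e0 : 𝒮.p.map cc ≫ f ≫ g = (𝒮.p.map cc ≫ f) ≫ g := (Category.assoc _ _ _).symm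
  have e1 : x (𝒮.p.map cc ≫ f ≫ g) h = bandMap (𝒮.p.map cc ≫ f) (x g hg) :=
    (x_congr S x e0 _ (S.downward_closed hg _)).trans (hx _ _ hg)
  have e2 := (x g hg).2 cc f
  unfold αS
  rw [e1, bandMap_val, Category.id_comp]
  exact e2.symm

lemma amalg_unique (t t' : bandSubgroup 𝒮 U)
    (ht : ∀ ⦃V : C⦄ (g : V ⟶ U) (hg : S g), bandMap g t = x g hg)
    (ht' : ∀ ⦃V : C⦄ (g : V ⟶ U) (hg : S g), bandMap g t' = x g hg) : t = t' := by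
  apply band_ext
  intro y f
  apply autO_ext
  refine glue_unique J hst y (MS S y f) (MS_comp S y f) (MS_cover J hst S hS x hx y f) _ _
    (t.1 y f).hom.2 (t'.1 y f).hom.2 ?_
  intro w cc h
  have n1 := t.2 cc f
  have n2 := t'.2 cc f
  have e1 : t.1 w (𝒮.p.map cc ≫ f) = t'.1 w (𝒮.p.map cc ≫ f) := by
    have a1 := congrArg (fun s : bandSubgroup 𝒮 _ => s.1 w (𝟙 _)) (ht _ h)
    have a2 := congrArg (fun s : bandSubgroup 𝒮 _ => s.1 w (𝟙 _)) (ht' _ h)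
    simp only [bandMap_val, Category.id_comp] at a1 a2
    rw [a1, a2]
  rw [← n1, ← n2, e1]

theorem exists_unique_amalg :
    ∃! t : bandSubgroup 𝒮 U, ∀ ⦃V : C⦄ (g : V ⟶ U) (hg : S g), bandMap g t = x g hg :=
  ⟨tEl J hst S hS x hx, tEl_amalg J hst S hS x hx,
    fun t' ht' => amalg_unique J hst S hS x hx t' _ ht' (tEl_amalg J hst S hS x hx)⟩

end Family

include hst in
/-- the presheaf of natural families of automorphisms is a sheaf of types -/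
theorem isSheaf_bandPsh_forget :
    Presieve.IsSheaf J (bandPsh 𝒮 ⋙ forget GrpCat) := by
  intro U S hS xf hxf
  rw [Presieve.compatible_iff_sieveCompatible] at hxf
  let x : ∀ ⦃V : C⦄ (g : V ⟶ U), S g → bandSubgroup 𝒮 V := fun V g hg => xf g hg
  have hx : ∀ ⦃V W : C⦄ (g : V ⟶ U) (h : W ⟶ V) (hg : S g),
      x (h ≫ g) (S.downward_closed hg h) = bandMap h (x g hg) := fun V W g h hg => hxf g h hg
  obtain ⟨t, ht, htu⟩ := exists_unique_amalg J hst S hS x hx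
  refine ⟨t, fun V g hg => ht g hg, fun t' ht' => htu t' (fun V g hg => ht' g hg)⟩

end Sheaf


section Transport
variable {𝒮} (h𝒮 : FibCat.IsFibGrpd 𝒮.p) {x : 𝒮.obj} (α : Gerb.AutO x)

include h𝒮 in
lemma exists_tr {w : 𝒮.obj} (θ : w ⟶ x) :
    ∃! r : w ⟶ w, 𝒮.p.IsHomLift (𝟙 (𝒮.p.obj w)) r ∧ r ≫ θ = θ ≫ α.hom.1 := by
  have h1 : 𝒮.p.IsHomLift (𝒮.p.map θ) θ := IsHomLift.map 𝒮.p θ
  have hα : 𝒮.p.IsHomLift (𝟙 (𝒮.p.obj x)) α.hom.1 := α.hom.2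
  have h3 : 𝒮.p.IsHomLift (𝒮.p.map θ) (θ ≫ α.hom.1) := inferInstance
  exact exists_unique_factor h𝒮 θ (θ ≫ α.hom.1) (𝒮.p.map θ) (𝟙 _) (𝒮.p.map θ)
    (Category.id_comp _).symm h1 h3

/-- transport of an automorphism of `x` along `θ : w ⟶ x` -/
def tr {w : 𝒮.obj} (θ : w ⟶ x) : w ⟶ w := (exists_tr h𝒮 α θ).choose

lemma tr_lift {w : 𝒮.obj} (θ : w ⟶ x) : 𝒮.p.IsHomLift (𝟙 (𝒮.p.obj w)) (tr h𝒮 α θ) :=
  (exists_tr h𝒮 α θ).choose_spec.1.1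

lemma tr_fac {w : 𝒮.obj} (θ : w ⟶ x) : tr h𝒮 α θ ≫ θ = θ ≫ α.hom.1 :=
  (exists_tr h𝒮 α θ).choose_spec.1.2

lemma tr_uniq {w : 𝒮.obj} (θ : w ⟶ x) (r' : w ⟶ w)
    (h1 : 𝒮.p.IsHomLift (𝟙 (𝒮.p.obj w)) r') (h2 : r' ≫ θ = θ ≫ α.hom.1) :
    r' = tr h𝒮 α θ :=
  (exists_tr h𝒮 α θ).choose_spec.2 r' ⟨h1, h2⟩

variable (hcomm : ∀ (x : 𝒮.obj) (α β : Gerb.AutO x), α * β = β * α)

include h𝒮 hcomm in
lemma comm_of_lifts {w : 𝒮.obj} (a b : w ⟶ w) (ha : 𝒮.p.IsHomLift (𝟙 (𝒮.p.obj w)) a)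
    (hb : 𝒮.p.IsHomLift (𝟙 (𝒮.p.obj w)) b) : a ≫ b = b ≫ a := by
  have := congrArg (fun t : Gerb.AutO w => t.hom.1) (hcomm w (autOfHom h𝒮 b hb) (autOfHom h𝒮 a ha))
  simp only [autO_mul_hom, autOfHom_hom] at this
  exact this

include hcomm in
lemma tr_indep {w : 𝒮.obj} (θ θ' : w ⟶ x) (hθ : 𝒮.p.map θ = 𝒮.p.map θ') :
    tr h𝒮 α θ = tr h𝒮 α θ' := by
  have h1 : 𝒮.p.IsHomLift (𝒮.p.map θ) θ := IsHomLift.map 𝒮.p θ
  have h1' : 𝒮.p.IsHomLift (𝒮.p.map θ') θ' := IsHomLift.map 𝒮.p θ'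
  obtain ⟨τ, ⟨hτ1, hτ2⟩, -⟩ := exists_unique_factor h𝒮 θ θ' (𝒮.p.map θ) (𝟙 _) (𝒮.p.map θ')
    (by rw [Category.id_comp, hθ]) h1 h1'
  apply tr_uniq h𝒮 α θ' _ (tr_lift h𝒮 α θ)
  rw [← hτ2, ← Category.assoc, comm_of_lifts h𝒮 hcomm _ _ (tr_lift h𝒮 α θ) hτ1, Category.assoc,
    tr_fac, Category.assoc]

lemma tr_nat {w' w : 𝒮.obj} (m : w' ⟶ w) (θ : w ⟶ x) :
    tr h𝒮 α (m ≫ θ) ≫ m = m ≫ tr h𝒮 α θ := by
  have h1 : 𝒮.p.IsHomLift (𝒮.p.map θ) θ := IsHomLift.map 𝒮.p θ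
  have hm : 𝒮.p.IsHomLift (𝒮.p.map m) m := IsHomLift.map 𝒮.p m
  have hr := tr_lift h𝒮 α θ
  have hr' := tr_lift h𝒮 α (m ≫ θ)
  have k1 : 𝒮.p.IsHomLift (𝒮.p.map m) (m ≫ tr h𝒮 α θ) := inferInstance
  have k2 : 𝒮.p.IsHomLift (𝒮.p.map m) (tr h𝒮 α (m ≫ θ) ≫ m) := inferInstance
  apply cancel_right h𝒮 θ (𝒮.p.map θ) (𝒮.p.map m) h1 _ _ k2 k1
  rw [Category.assoc, tr_fac, Category.assoc, Category.assoc, tr_fac]

end Transport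

section Iso
variable {𝒮} (J : GrothendieckTopology C) (hst : Stk.IsStack J 𝒮)
  (hG : Gerb.IsGerbeOver J (FibCat.toSelf 𝒮))
  (hcomm : ∀ (x : 𝒮.obj) (α β : Gerb.AutO x), α * β = β * α)

/-- evaluation at the identity -/
def evalHom (x : 𝒮.obj) : bandSubgroup 𝒮 (𝒮.p.obj x) →* Gerb.AutO x where
  toFun a := a.1 x (𝟙 _)
  map_one' := rfl
  map_mul' _ _ := rfl

/-- the relative local membership predicate -/
def MX (x y : 𝒮.obj) (f : 𝒮.p.obj y ⟶ 𝒮.p.obj x) : ∀ ⦃w : 𝒮.obj⦄, (w ⟶ y) → Prop :=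
  fun w cc => ∃ θ : w ⟶ x, 𝒮.p.map θ = 𝒮.p.map cc ≫ f

lemma MX_comp (x y : 𝒮.obj) (f : 𝒮.p.obj y ⟶ 𝒮.p.obj x) ⦃w' w : 𝒮.obj⦄ (m : w' ⟶ w)
    (cc : w ⟶ y) (h : MX x y f cc) : MX x y f (m ≫ cc) := by
  obtain ⟨θ, hθ⟩ := h
  exact ⟨m ≫ θ, by rw [Functor.map_comp, Functor.map_comp, hθ, Category.assoc]⟩

include hG in
lemma MX_cover (x y : 𝒮.obj) (f : 𝒮.p.obj y ⟶ 𝒮.p.obj x) :
    sieveOf hst.1 y (MX x y f) (MX_comp x y f) ∈ J (𝒮.p.obj y) := by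
  obtain ⟨x', c, hc⟩ := hst.1.exists_lift (x := x) f
  have hx' : 𝒮.p.obj x' = 𝒮.p.obj y := IsHomLift.domain_eq 𝒮.p f c
  let b : (FibCat.toSelf 𝒮).toFunctor.obj y ⟶ (FibCat.toSelf 𝒮).toFunctor.obj x' :=
    eqToHom hx'.symm
  have hb : (FibCat.selfOver C).p.IsHomLift (𝟙 (𝒮.p.obj y)) b := isHomLift_id_eqToHom' _
  obtain ⟨R, hR, H⟩ := hG.2 y x' b hb
  refine J.superset_covering ?_ hR
  intro V h hh
  obtain ⟨x₀, φ₀, ψ₀, h1, h2, -⟩ := H h hh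
  refine ⟨x₀, φ₀, h1, ⟨ψ₀ ≫ c, ?_⟩⟩
  have e1 := IsHomLift.fac' 𝒮.p h φ₀
  have e2 := IsHomLift.fac' 𝒮.p h ψ₀
  have e3 := IsHomLift.fac' 𝒮.p f c
  rw [Functor.map_comp, e1, e2, e3]
  simp

section Surj
variable {x : 𝒮.obj} (α : Gerb.AutO x)

/-- the local automorphisms obtained by transport -/
def αX (y : 𝒮.obj) (f : 𝒮.p.obj y ⟶ 𝒮.p.obj x) :
    ∀ ⦃w : 𝒮.obj⦄ (cc : w ⟶ y), MX x y f cc → (w ⟶ w) :=
  fun _ _ h => tr hst.1 α h.choose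

include hcomm in
lemma αX_eq (y : 𝒮.obj) (f : 𝒮.p.obj y ⟶ 𝒮.p.obj x) ⦃w : 𝒮.obj⦄ (cc : w ⟶ y)
    (h : MX x y f cc) (θ : w ⟶ x) (hθ : 𝒮.p.map θ = 𝒮.p.map cc ≫ f) :
    αX J hst α y f cc h = tr hst.1 α θ :=
  tr_indep hst.1 α hcomm _ _ (h.choose_spec.trans hθ.symm)

include hcomm in
lemma αX_nat (y : 𝒮.obj) (f : 𝒮.p.obj y ⟶ 𝒮.p.obj x) ⦃w' w : 𝒮.obj⦄ (m : w' ⟶ w)
    (cc : w ⟶ y) (h : MX x y f cc) :
    αX J hst α y f (m ≫ cc) (MX_comp x y f m cc h) ≫ m = m ≫ αX J hst α y f cc h := by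
  obtain ⟨θ, hθ⟩ := id h
  have hθ' : 𝒮.p.map (m ≫ θ) = 𝒮.p.map (m ≫ cc) ≫ f := by
    rw [Functor.map_comp, Functor.map_comp, hθ, Category.assoc]
  rw [αX_eq J hst hcomm α y f cc h θ hθ, αX_eq J hst hcomm α y f (m ≫ cc) _ (m ≫ θ) hθ']
  exact tr_nat hst.1 α m θ

include hG hcomm in
lemma exists_aX (y : 𝒮.obj) (f : 𝒮.p.obj y ⟶ 𝒮.p.obj x) :
    ∃ β : y ⟶ y, 𝒮.p.IsHomLift (𝟙 (𝒮.p.obj y)) β ∧
      ∀ ⦃w : 𝒮.obj⦄ (cc : w ⟶ y) (h : MX x y f cc), cc ≫ β = αX J hst α y f cc h ≫ cc :=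
  exists_glue J hst y (MX x y f) (MX_comp x y f) (MX_cover J hst hG x y f) (αX J hst α y f)
    (fun _ _ h => tr_lift hst.1 α h.choose) (αX_nat J hst hcomm α y f)

/-- the family of automorphisms attached to `α` -/
def aX : Fam 𝒮 (𝒮.p.obj x) := fun y f =>
  autOfHom hst.1 (exists_aX J hst hG hcomm α y f).choose
    (exists_aX J hst hG hcomm α y f).choose_spec.1

lemma aX_spec (y : 𝒮.obj) (f : 𝒮.p.obj y ⟶ 𝒮.p.obj x) ⦃w : 𝒮.obj⦄ (cc : w ⟶ y) (θ : w ⟶ x)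
    (hθ : 𝒮.p.map θ = 𝒮.p.map cc ≫ f) :
    cc ≫ (aX J hst hG hcomm α y f).hom.1 = tr hst.1 α θ ≫ cc := by
  have h : MX x y f cc := ⟨θ, hθ⟩
  rw [← αX_eq J hst hcomm α y f cc h θ hθ]
  exact (exists_aX J hst hG hcomm α y f).choose_spec.2 cc h

lemma aX_char (y : 𝒮.obj) (f : 𝒮.p.obj y ⟶ 𝒮.p.obj x) (β : y ⟶ y)
    (hβ : 𝒮.p.IsHomLift (𝟙 (𝒮.p.obj y)) β)
    (H : ∀ ⦃w : 𝒮.obj⦄ (cc : w ⟶ y) (θ : w ⟶ x), 𝒮.p.map θ = 𝒮.p.map cc ≫ f →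
      cc ≫ β = tr hst.1 α θ ≫ cc) :
    β = (aX J hst hG hcomm α y f).hom.1 := by
  refine glue_unique J hst y (MX x y f) (MX_comp x y f) (MX_cover J hst hG x y f) _ _ hβ
    (aX J hst hG hcomm α y f).hom.2 ?_
  rintro w cc ⟨θ, hθ⟩
  rw [H cc θ hθ, aX_spec J hst hG hcomm α y f cc θ hθ]

lemma aX_isNat : IsNat (aX J hst hG hcomm α) := by
  intro y' y ψ f
  have hψ : 𝒮.p.IsHomLift (𝒮.p.map ψ) ψ := IsHomLift.map 𝒮.p ψ
  have hβ : 𝒮.p.IsHomLift (𝟙 (𝒮.p.obj y)) (aX J hst hG hcomm α y f).hom.1 :=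
    (aX J hst hG hcomm α y f).hom.2
  have hψβ : 𝒮.p.IsHomLift (𝒮.p.map ψ) (ψ ≫ (aX J hst hG hcomm α y f).hom.1) := inferInstance
  obtain ⟨γ, ⟨hγ1, hγ2⟩, -⟩ := exists_unique_factor hst.1 ψ
    (ψ ≫ (aX J hst hG hcomm α y f).hom.1)
    (𝒮.p.map ψ) (𝟙 _) (𝒮.p.map ψ) (Category.id_comp _).symm hψ hψβ
  have key : γ = (aX J hst hG hcomm α y' (𝒮.p.map ψ ≫ f)).hom.1 := by
    apply aX_char J hst hG hcomm α y' (𝒮.p.map ψ ≫ f) γ hγ1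
    intro w cc' θ hθ
    have hcc' : 𝒮.p.IsHomLift (𝒮.p.map cc') cc' := IsHomLift.map 𝒮.p cc'
    have hα' : 𝒮.p.IsHomLift (𝟙 (𝒮.p.obj w)) (tr hst.1 α θ) := tr_lift hst.1 α θ
    have l1 : 𝒮.p.IsHomLift (𝒮.p.map cc') (cc' ≫ γ) := inferInstance
    have l2 : 𝒮.p.IsHomLift (𝒮.p.map cc') (tr hst.1 α θ ≫ cc') := inferInstance
    apply cancel_right hst.1 ψ (𝒮.p.map ψ) (𝒮.p.map cc') hψ _ _ l1 l2
    have hθ' : 𝒮.p.map θ = 𝒮.p.map (cc' ≫ ψ) ≫ f := by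
      rw [hθ, Functor.map_comp, Category.assoc]
    have e1 := aX_spec J hst hG hcomm α y f (cc' ≫ ψ) θ hθ'
    rw [Category.assoc, hγ2, ← Category.assoc, e1, Category.assoc]
  rw [← key]
  exact hγ2

/-- the element of the band attached to `α` -/
def aEl : bandSubgroup 𝒮 (𝒮.p.obj x) := ⟨aX J hst hG hcomm α, aX_isNat J hst hG hcomm α⟩

lemma evalHom_aEl : evalHom x (aEl J hst hG hcomm α) = α := by
  apply autO_ext
  change (aX J hst hG hcomm α x (𝟙 _)).hom.1 = α.hom.1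
  symm
  apply aX_char J hst hG hcomm α x (𝟙 _) _ α.hom.2
  intro w cc θ hθ
  rw [Category.comp_id] at hθ
  rw [tr_indep hst.1 α hcomm θ cc hθ, tr_fac]

end Surj

include hst hG in
lemma evalHom_injective (x : 𝒮.obj) : Function.Injective (evalHom (𝒮 := 𝒮) x) := by
  intro a b hab
  change a.1 x (𝟙 _) = b.1 x (𝟙 _) at hab
  apply band_ext
  intro y f
  apply autO_ext
  refine glue_unique J hst y (MX x y f) (MX_comp x y f) (MX_cover J hst hG x y f) _ _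
    (a.1 y f).hom.2 (b.1 y f).hom.2 ?_
  rintro w cc ⟨θ, hθ⟩
  have n1 := a.2 cc f
  have n2 := b.2 cc f
  have e0 : 𝒮.p.map cc ≫ f = 𝒮.p.map θ ≫ 𝟙 _ := by rw [Category.comp_id, hθ]
  have m1 := a.2 θ (𝟙 _)
  have m2 := b.2 θ (𝟙 _)
  rw [← e0] at m1 m2
  have t1 := tr_uniq hst.1 (a.1 x (𝟙 _)) θ _ (a.1 w (𝒮.p.map cc ≫ f)).hom.2 m1
  have t2 := tr_uniq hst.1 (b.1 x (𝟙 _)) θ _ (b.1 w (𝒮.p.map cc ≫ f)).hom.2 m2
  rw [← n1, ← n2, t1, t2, hab]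

/-- the isomorphism `G(U) ≃ Aut_U(x)` -/
def evalEquiv (x : 𝒮.obj) : bandSubgroup 𝒮 (𝒮.p.obj x) ≃* Gerb.AutO x :=
  MulEquiv.ofBijective (evalHom x)
    ⟨evalHom_injective J hst hG x, fun α => ⟨aEl J hst hG hcomm α, evalHom_aEl J hst hG hcomm α⟩⟩

lemma evalEquiv_apply (x : 𝒮.obj) (a : bandSubgroup 𝒮 (𝒮.p.obj x)) :
    evalEquiv J hst hG hcomm x a = a.1 x (𝟙 _) := rfl

/-- the banding -/
def banding : Gerb.Banding 𝒮 (bandPsh 𝒮) where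
  iso x := evalEquiv J hst hG hcomm x
  natural {x' x} φ a := by
    have h := (show bandSubgroup 𝒮 (𝒮.p.obj x) from a).2 φ (𝟙 _)
    rw [Category.comp_id] at h
    change ((show bandSubgroup 𝒮 (𝒮.p.obj x) from a).1 x' (𝟙 _ ≫ 𝒮.p.map φ)).hom.1 ≫ φ =
      φ ≫ ((show bandSubgroup 𝒮 (𝒮.p.obj x) from a).1 x (𝟙 _)).hom.1
    rw [Category.id_comp]
    exact h

include hcomm in
lemma band_comm (U : C) (a b : bandSubgroup 𝒮 U) : a * b = b * a := by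
  apply Subtype.ext
  funext y f
  exact hcomm y _ _

end Iso

end Groth.Agent.Lib.Helper24.GerbBand
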