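import Groth.Agent.Lib.Helper24.GerbGlue
set_option autoImplicit false
set_option linter.unusedSectionVars false
set_option linter.style.haveILetI false
open CategoryTheory
universe v₃ u₃ v₂ u₂ v u
set_option backward.isDefEq.respectTransparency false
set_option backward.isDefEq.respectTransparency.types false

/-! # Gluing endomorphisms of an object of a stack from local data -/

noncomputable section

namespace Groth.Agent.Lib.Helper24.GerbBandGlue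
open Groth.Agent.Lib.Helper24.FibGrpd Groth.Agent.Lib.Helper24.FibGrpdFunctor
open Groth.Agent.Lib.Helper24.FibCatYoneda Groth.Agent.Lib.Helper24.FibCatRepDiag
open Groth.Agent.Lib.Helper24.GerbGlue

variable {C : Type u} [Category.{v} C] {𝒳 : BasedCategory.{v₂, u₂} C}

section
variable (h𝒳 : FibCat.IsFibGrpd 𝒳.p) (y : 𝒳.obj) (M : ∀ ⦃w : 𝒳.obj⦄, (w ⟶ y) → Prop)
  (hM : ∀ ⦃w' w : 𝒳.obj⦄ (m : w' ⟶ w) (cc : w ⟶ y), M cc → M (m ≫ cc))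

/-- the sieve of arrows over which `y` has a pullback satisfying `M` -/
def sieveOf : Sieve (𝒳.p.obj y) where
  arrows V h := ∃ (w : 𝒳.obj) (c : w ⟶ y), 𝒳.p.IsHomLift h c ∧ M c
  downward_closed := by
    rintro V V' h ⟨w, c, hc, hMc⟩ k
    obtain ⟨w', m, hm⟩ := Groth.Agent.Lib.Helper24.GerbFormal.exists_lift' h𝒳 k w
      (IsHomLift.domain_eq 𝒳.p h c)
    exact ⟨w', m ≫ c, inferInstance, hM m c hMc⟩

include h𝒳 hM in
lemma M_of_lift {w w' : 𝒳.obj} (c : w ⟶ y) (c' : w' ⟶ y) {V : C} (h : V ⟶ 𝒳.p.obj y)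
    (hc : 𝒳.p.IsHomLift h c) (hc' : 𝒳.p.IsHomLift h c') (hMc : M c) : M c' := by
  obtain ⟨ι, ⟨-, hι⟩, -⟩ := exists_unique_factor h𝒳 c c' h (𝟙 _) h (Category.id_comp _).symm hc hc'
  rw [← hι]
  exact hM ι c hMc

variable [𝒳.p.IsFibered]

include h𝒳 hM in
lemma pbM (c : (Stk.sieveCat (sieveOf h𝒳 y M hM)).obj) : M (pbMap (x := y) rfl c.obj) := by
  obtain ⟨w, c', hc', hMc'⟩ := c.property
  exact M_of_lift h𝒳 y M hM c' _ c.obj.hom hc' inferInstance hMc'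

variable (α : ∀ ⦃w : 𝒳.obj⦄ (cc : w ⟶ y), M cc → (w ⟶ w))
  (hα : ∀ ⦃w : 𝒳.obj⦄ (cc : w ⟶ y) (h : M cc), 𝒳.p.IsHomLift (𝟙 (𝒳.p.obj w)) (α cc h))
  (hnat : ∀ ⦃w' w : 𝒳.obj⦄ (m : w' ⟶ w) (cc : w ⟶ y) (h : M cc),
    α (m ≫ cc) (hM m cc h) ≫ m = m ≫ α cc h)

lemma α_congr {w : 𝒳.obj} {cc cc' : w ⟶ y} (e : cc = cc') (h : M cc) (h' : M cc') :
    α cc h = α cc' h' := by
  subst e; rfl

include hnat in
lemma hnat' {w' w : 𝒳.obj} (m : w' ⟶ w) (cc : w ⟶ y) (cc' : w' ⟶ y) (e : m ≫ cc = cc')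
    (h : M cc) (h' : M cc') : α cc' h' ≫ m = m ≫ α cc h := by
  rw [← hnat m cc h]
  congr 1
  exact α_congr y M α e.symm _ _

/-- the family of local endomorphisms on the covering sieve -/
def βy : (Stk.resSieve (sieveOf h𝒳 y M hM) 𝒳).obj (Gy y) ⟶
    (Stk.resSieve (sieveOf h𝒳 y M hM) 𝒳).obj (Gy y) where
  toNatTrans :=
    { app := fun c => α (pbMap (x := y) rfl c.obj) (pbM h𝒳 y M hM c)
      naturality := fun c c' m =>
        (hnat' y M hM α hnat (pbTrans (x := y) rfl m.hom) (pbMap (x := y) rfl c'.obj)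
          (pbMap (x := y) rfl c.obj) (pbTrans_fac (x := y) rfl m.hom) _ _).symm }
  isHomLift' := fun c => lift_id_of_eq _ (pbObj_proj (x := y) rfl c.obj) (hα _ _)

variable (hfull : (Stk.resSieve (sieveOf h𝒳 y M hM) 𝒳).Full)

/-- the glued natural transformation -/
def αy : Gy y ⟶ Gy y :=
  haveI := hfull
  (Stk.resSieve (sieveOf h𝒳 y M hM) 𝒳).preimage (βy h𝒳 y M hM α hα hnat)

lemma αy_app (c : (Stk.sieveCat (sieveOf h𝒳 y M hM)).obj) :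
    (αy h𝒳 y M hM α hα hnat hfull).toNatTrans.app c.obj =
      α (pbMap (x := y) rfl c.obj) (pbM h𝒳 y M hM c) := by
  haveI := hfull
  have := congrArg (fun t => t.toNatTrans.app c)
    ((Stk.resSieve (sieveOf h𝒳 y M hM) 𝒳).map_preimage (βy h𝒳 y M hM α hα hnat))
  exact this

/-- the glued endomorphism -/
def ρy : y ⟶ y :=
  haveI := pbMap_id_isIso (x := y) rfl
  inv (pbMap (x := y) rfl (Over.mk (𝟙 _))) ≫
    (αy h𝒳 y M hM α hα hnat hfull).toNatTrans.app (Over.mk (𝟙 _)) ≫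
      pbMap (x := y) rfl (Over.mk (𝟙 _))

lemma ρy_lift : 𝒳.p.IsHomLift (𝟙 (𝒳.p.obj y)) (ρy h𝒳 y M hM α hα hnat hfull) := by
  haveI := pbMap_id_isIso (x := y) rfl
  have h1 : 𝒳.p.IsHomLift (𝟙 (𝒳.p.obj y)) (pbMap (x := y) rfl (Over.mk (𝟙 _))) :=
    pbMap_id_lift (x := y) rfl
  have h3 : 𝒳.p.IsHomLift (𝟙 (𝒳.p.obj y)) (inv (pbMap (x := y) rfl (Over.mk (𝟙 _)))) :=
    inferInstance
  have h4 : 𝒳.p.IsHomLift (𝟙 (𝒳.p.obj y))
      ((αy h𝒳 y M hM α hα hnat hfull).toNatTrans.app (Over.mk (𝟙 _))) :=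
    app_lift (αy h𝒳 y M hM α hα hnat hfull) (Over.mk (𝟙 _))
  unfold ρy
  infer_instance

lemma ρy_pb (c : (Stk.sieveCat (sieveOf h𝒳 y M hM)).obj) :
    pbMap (x := y) rfl c.obj ≫ ρy h𝒳 y M hM α hα hnat hfull =
      α (pbMap (x := y) rfl c.obj) (pbM h𝒳 y M hM c) ≫ pbMap (x := y) rfl c.obj := by
  haveI := pbMap_id_isIso (x := y) rfl
  have nat := (αy h𝒳 y M hM α hα hnat hfull).toNatTrans.naturality (tOf c.obj)
  change (pbTrans (x := y) rfl (tOf c.obj)) ≫ _ = _ ≫ pbTrans (x := y) rfl (tOf c.obj) at nat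
  have fac := pbTrans_fac (x := y) rfl (tOf c.obj)
  have e1 : pbMap (x := y) rfl c.obj ≫ inv (pbMap (x := y) rfl (Over.mk (𝟙 _))) =
      pbTrans (x := y) rfl (tOf c.obj) := by
    rw [← fac, Category.assoc, IsIso.hom_inv_id, Category.comp_id]
  unfold ρy
  calc pbMap (x := y) rfl c.obj ≫ inv (pbMap (x := y) rfl (Over.mk (𝟙 _))) ≫
        (αy h𝒳 y M hM α hα hnat hfull).toNatTrans.app (Over.mk (𝟙 _)) ≫
          pbMap (x := y) rfl (Over.mk (𝟙 _))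
      = (pbMap (x := y) rfl c.obj ≫ inv (pbMap (x := y) rfl (Over.mk (𝟙 _)))) ≫
        (αy h𝒳 y M hM α hα hnat hfull).toNatTrans.app (Over.mk (𝟙 _)) ≫
          pbMap (x := y) rfl (Over.mk (𝟙 _)) := by simp only [Category.assoc]
    _ = (pbTrans (x := y) rfl (tOf c.obj) ≫
        (αy h𝒳 y M hM α hα hnat hfull).toNatTrans.app (Over.mk (𝟙 _))) ≫
          pbMap (x := y) rfl (Over.mk (𝟙 _)) := by rw [e1, Category.assoc]
    _ = ((αy h𝒳 y M hM α hα hnat hfull).toNatTrans.app c.obj ≫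
        pbTrans (x := y) rfl (tOf c.obj)) ≫ pbMap (x := y) rfl (Over.mk (𝟙 _)) := by rw [nat]
    _ = (αy h𝒳 y M hM α hα hnat hfull).toNatTrans.app c.obj ≫ pbMap (x := y) rfl c.obj := by
        rw [Category.assoc, fac]
    _ = α (pbMap (x := y) rfl c.obj) (pbM h𝒳 y M hM c) ≫ pbMap (x := y) rfl c.obj := by
        rw [αy_app]

include hnat in
lemma ρy_spec {w : 𝒳.obj} (cc : w ⟶ y) (h : M cc) :
    cc ≫ ρy h𝒳 y M hM α hα hnat hfull = α cc h ≫ cc := by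
  have hcc : 𝒳.p.IsHomLift (𝒳.p.map cc) cc := IsHomLift.map 𝒳.p cc
  let c : (Stk.sieveCat (sieveOf h𝒳 y M hM)).obj := ⟨Over.mk (𝒳.p.map cc), ⟨w, cc, hcc, h⟩⟩
  have hp : 𝒳.p.IsHomLift c.obj.hom (pbMap (x := y) rfl c.obj) := inferInstance
  obtain ⟨ι, ⟨hι1, hι2⟩, -⟩ := exists_unique_factor h𝒳 (pbMap (x := y) rfl c.obj) cc c.obj.hom
    (𝟙 _) c.obj.hom (Category.id_comp _).symm hp hcc
  have e := ρy_pb h𝒳 y M hM α hα hnat hfull c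
  have n := hnat' y M hM α hnat ι (pbMap (x := y) rfl c.obj) cc hι2 (pbM h𝒳 y M hM c) h
  calc cc ≫ ρy h𝒳 y M hM α hα hnat hfull
      = (ι ≫ pbMap (x := y) rfl c.obj) ≫ ρy h𝒳 y M hM α hα hnat hfull := by rw [hι2]
    _ = ι ≫ α (pbMap (x := y) rfl c.obj) (pbM h𝒳 y M hM c) ≫ pbMap (x := y) rfl c.obj := by
        rw [Category.assoc, e]
    _ = (α cc h ≫ ι) ≫ pbMap (x := y) rfl c.obj := by rw [n, Category.assoc]
    _ = α cc h ≫ cc := by rw [Category.assoc, hι2]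

end

section Main
variable (J : GrothendieckTopology C)

/-- gluing: existence -/
theorem exists_glue (hst : Stk.IsStack J 𝒳) (y : 𝒳.obj) (M : ∀ ⦃w : 𝒳.obj⦄, (w ⟶ y) → Prop)
    (hM : ∀ ⦃w' w : 𝒳.obj⦄ (m : w' ⟶ w) (cc : w ⟶ y), M cc → M (m ≫ cc))
    (hR : sieveOf hst.1 y M hM ∈ J (𝒳.p.obj y))
    (α : ∀ ⦃w : 𝒳.obj⦄ (cc : w ⟶ y), M cc → (w ⟶ w))
    (hα : ∀ ⦃w : 𝒳.obj⦄ (cc : w ⟶ y) (h : M cc), 𝒳.p.IsHomLift (𝟙 (𝒳.p.obj w)) (α cc h))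
    (hnat : ∀ ⦃w' w : 𝒳.obj⦄ (m : w' ⟶ w) (cc : w ⟶ y) (h : M cc),
      α (m ≫ cc) (hM m cc h) ≫ m = m ≫ α cc h) :
    ∃ β : y ⟶ y, 𝒳.p.IsHomLift (𝟙 (𝒳.p.obj y)) β ∧
      ∀ ⦃w : 𝒳.obj⦄ (cc : w ⟶ y) (h : M cc), cc ≫ β = α cc h ≫ cc := by
  have h𝒳 := hst.1
  haveI : 𝒳.p.IsFibered := isFibered_of_isFibGrpd 𝒳.p h𝒳
  have hE : (Stk.resSieve (sieveOf h𝒳 y M hM) 𝒳).IsEquivalence := hst.2 _ hR
  have hfull : (Stk.resSieve (sieveOf h𝒳 y M hM) 𝒳).Full := inferInstance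
  exact ⟨ρy h𝒳 y M hM α hα hnat hfull, ρy_lift h𝒳 y M hM α hα hnat hfull,
    fun w cc h => ρy_spec h𝒳 y M hM α hα hnat hfull cc h⟩

/-- gluing: uniqueness -/
theorem glue_unique (hst : Stk.IsStack J 𝒳) (y : 𝒳.obj) (M : ∀ ⦃w : 𝒳.obj⦄, (w ⟶ y) → Prop)
    (hM : ∀ ⦃w' w : 𝒳.obj⦄ (m : w' ⟶ w) (cc : w ⟶ y), M cc → M (m ≫ cc))
    (hR : sieveOf hst.1 y M hM ∈ J (𝒳.p.obj y)) {y' : 𝒳.obj} (β β' : y ⟶ y')
    (hβ : 𝒳.p.IsHomLift (𝟙 (𝒳.p.obj y)) β) (hβ' : 𝒳.p.IsHomLift (𝟙 (𝒳.p.obj y)) β')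
    (H : ∀ ⦃w : 𝒳.obj⦄ (cc : w ⟶ y), M cc → cc ≫ β = cc ≫ β') : β = β' := by
  have h𝒳 := hst.1
  have hE : (Stk.resSieve (sieveOf h𝒳 y M hM) 𝒳).IsEquivalence := hst.2 _ hR
  have hfaith : (Stk.resSieve (sieveOf h𝒳 y M hM) 𝒳).Faithful := inferInstance
  refine Groth.Agent.Lib.Helper24.StkLocal.hom_ext_of_locally_eq h𝒳 (sieveOf h𝒳 y M hM)
    hfaith _ _ hβ hβ' ?_
  rintro V f ⟨w, c, hc, hMc⟩
  exact ⟨w, c, hc, H c hMc⟩

end Main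

end Groth.Agent.Lib.Helper24.GerbBandGlue
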