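import Groth.Agent.Lib.Helper24.CatModQuot2
import Groth.Agent.Lib.Helper24.CB3
import Groth.Agent.Lib.Helper24.FibGrpd
import Groth.Agent.Lib.Helper14.FppfDescSp2
import Groth.Prelude.Def_StGerb
import Groth.Prelude.Def_StCoarse
set_option autoImplicit false
set_option linter.unusedSectionVars false
set_option linter.unusedSimpArgs false
set_option linter.style.haveILetI false
set_option linter.unusedVariables false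
universe u
set_option backward.isDefEq.respectTransparency false
set_option backward.isDefEq.respectTransparency.types false

/-! Coarse moduli spaces along a gerbe with the universal property for maps to algebraic spaces. -/

namespace Groth.Agent.Lib.Helper24.GerbCoarse
open CategoryTheory CategoryTheory.Limits AlgebraicGeometry Opposite AlgSt
open Groth.Agent.Lib.Helper24.PshFun Groth.Agent.Lib.Helper24.PshBridge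
open Groth.Agent.Lib.Helper24.CatModQuot Groth.Agent.Lib.Helper24.CatModQuot2
open Groth.Agent.Lib.Helper14.AS

variable {S : Scheme.{u}}

/-- every fppf covering sieve of `T` contains the identity -/
def JPoint (T : Over S) : Prop := ∀ R : Sieve T, R ∈ AlgSp.J S T → R (𝟙 T)

theorem jPoint_of_isAlgClosed {Ω : Type u} [Field Ω] [IsAlgClosed Ω]
    (t : Spec (CommRingCat.of Ω) ⟶ S) : JPoint (Over.mk t) := by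
  intro R hR
  obtain ⟨R', hR', hle⟩ := (mem_J_iff _).1 hR
  obtain ⟨W, w, hw, hfl, hlfp, ⟨z, hz⟩⟩ :=
    exists_of_mem_KS hR' (IsLocalRing.closedPoint Ω : ↥(Spec (CommRingCat.of Ω)))
  haveI : Subsingleton ↥(Spec (CommRingCat.of Ω)) :=
    inferInstanceAs (Subsingleton (PrimeSpectrum Ω))
  haveI : Surjective w.left := ⟨fun p => ⟨z, @Subsingleton.elim ↥(Spec (CommRingCat.of Ω)) _ _ _⟩⟩
  haveI : LocallyOfFinitePresentation w.left := hlfp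
  haveI : LocallyOfFiniteType w.left := inferInstance
  obtain ⟨s, hs⟩ := Groth.Agent.Lib.Helper24.CB3.exists_lift_of_isAlgClosed w.left (𝟙 _)
  have hW : s ≫ W.hom = t := by
    have h1 := Over.w w
    change w.left ≫ t = W.hom at h1
    rw [← h1, ← Category.assoc, hs, Category.id_comp]
  let s' : Over.mk t ⟶ W := Over.homMk s hW
  have h2 : s' ≫ w = 𝟙 _ := Over.OverMorphism.ext hs
  rw [← h2]
  exact R.downward_closed (hle _ _ hw) s'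

lemma iso_iff_eq {𝒜 : AlgSt.Cat S} {N : AlgSp.Sp S} (Φ Ψ : 𝒜 ⥤ᵇ AlgSt.ofSp N) :
    Nonempty (Φ ≅ Ψ) ↔ Φ = Ψ := ⟨eq_of_nonempty_iso, fun h => ⟨eqToIso h⟩⟩

section
variable {𝒳 𝒴 : AlgSt.Cat S} (F : 𝒳 ⥤ᵇ 𝒴)

/-- the image of an object of a fibre -/
def imgFib {T : Over S} (x : 𝒳.p.Fiber T) : 𝒴.p.Fiber T :=
  ⟨F.obj x.1, (F.w_obj x.1).trans x.2⟩

lemma fibSec_comp {M : AlgSp.Sp S} (π : 𝒴 ⥤ᵇ AlgSt.ofSp M) {T : Over S} (x : 𝒳.p.Fiber T) :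
    AlgSt.fibSec (BasedFunctor.comp F π) x = AlgSt.fibSec π (imgFib F x) := by
  obtain ⟨a, rfl⟩ := x
  rw [fibSec_mk, fibSec_eq, sec_comp]
  rfl

lemma nonempty_imgFib_iso {T : Over S} {x x' : 𝒳.p.Fiber T} (e : x ≅ x') :
    Nonempty (imgFib F x ≅ imgFib F x') := by
  have h1 : 𝒳.p.IsHomLift (𝟙 T) e.hom.1 := e.hom.2
  have hiso : IsIso e.hom.1 :=
    ⟨e.inv.1, congrArg Subtype.val e.hom_inv_id, congrArg Subtype.val e.inv_hom_id⟩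
  have h2 : 𝒴.p.IsHomLift (𝟙 T) (F.map e.hom.1) := inferInstance
  exact fiberIso_of_isIso _ _ (F.map e.hom.1) h2

lemma exists_fib_of_locSurjObj (h𝒴 : FibCat.IsFibGrpd 𝒴.p)
    (hF : Gerb.LocSurjObj (AlgSp.J S) F) {T : Over S} (hT : JPoint T) (y : 𝒴.p.Fiber T) :
    ∃ x : 𝒳.p.Fiber T, Nonempty (imgFib F x ≅ y) := by
  obtain ⟨b, rfl⟩ := y
  obtain ⟨R, hR, h⟩ := hF b
  obtain ⟨x, g, hg⟩ := h (𝟙 _) (hT R hR)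
  have hx : 𝒳.p.obj x = 𝒴.p.obj b :=
    (F.w_obj x).symm.trans (IsHomLift.domain_eq 𝒴.p (𝟙 (𝒴.p.obj b)) g)
  have hiso : IsIso g :=
    Groth.Agent.Lib.Helper24.FibGrpd.isIso_of_isFibGrpd 𝒴.p h𝒴 (𝟙 (𝒴.p.obj b)) g
  exact ⟨⟨x, hx⟩, fiberIso_of_isIso _ _ g hg⟩

lemma nonempty_iso_of_locSurjHom (h𝒳 : FibCat.IsFibGrpd 𝒳.p)
    (hF : Gerb.LocSurjHom (AlgSp.J S) F) {T : Over S} (hT : JPoint T) (x x' : 𝒳.p.Fiber T)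
    (b : imgFib F x ≅ imgFib F x') : Nonempty (x ≅ x') := by
  obtain ⟨a, rfl⟩ := x
  obtain ⟨a', ha'⟩ := x'
  have hb : 𝒴.p.IsHomLift (𝟙 (𝒳.p.obj a)) b.hom.1 := b.hom.2
  obtain ⟨R, hR, h⟩ := hF a a' b.hom.1 hb
  obtain ⟨x₀, φ, ψ, hφ, hψ, -⟩ := h (𝟙 _) (hT R hR)
  have hφi : IsIso φ :=
    Groth.Agent.Lib.Helper24.FibGrpd.isIso_of_isFibGrpd 𝒳.p h𝒳 (𝟙 (𝒳.p.obj a)) φ
  have hψi : IsIso ψ :=
    Groth.Agent.Lib.Helper24.FibGrpd.isIso_of_isFibGrpd 𝒳.p h𝒳 (𝟙 (𝒳.p.obj a)) ψ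
  have h1 : 𝒳.p.IsHomLift (𝟙 (𝒳.p.obj a)) (inv φ) := inferInstance
  have h2 : 𝒳.p.IsHomLift (𝟙 (𝒳.p.obj a) ≫ 𝟙 (𝒳.p.obj a)) (inv φ ≫ ψ) := inferInstance
  rw [Category.comp_id] at h2
  exact fiberIso_of_isIso rfl ha' (inv φ ≫ ψ) h2

end

section Main
variable {𝒳 𝒴 : AlgSt.Cat S}

theorem geomPtBij_comp (h𝒳 : FibCat.IsFibGrpd 𝒳.p) (h𝒴 : FibCat.IsFibGrpd 𝒴.p)
    (F : 𝒳 ⥤ᵇ 𝒴) (hF : Gerb.IsGerbeOver (AlgSp.J S) F) {M : AlgSp.Sp S}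
    (π : 𝒴 ⥤ᵇ AlgSt.ofSp M) (hπ : AlgSt.GeomPtBij π) :
    AlgSt.GeomPtBij (BasedFunctor.comp F π) := by
  intro Ω _ _ t
  obtain ⟨h1, h2⟩ := hπ Ω t
  have hT := jPoint_of_isAlgClosed t
  constructor
  · intro m
    obtain ⟨y, hy⟩ := h1 m
    obtain ⟨x, ⟨e⟩⟩ := exists_fib_of_locSurjObj F h𝒴 hF.1 hT y
    exact ⟨x, by rw [fibSec_comp, fibSec_eq_of_hom π e.hom, hy]⟩
  · intro x x' hxx'
    rw [fibSec_comp, fibSec_comp] at hxx'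
    obtain ⟨b⟩ := h2 _ _ hxx'
    exact nonempty_iso_of_locSurjHom F h𝒳 hF.2 hT x x' b

theorem geomPtBij_of_comp (h𝒳 : FibCat.IsFibGrpd 𝒳.p) (h𝒴 : FibCat.IsFibGrpd 𝒴.p)
    (F : 𝒳 ⥤ᵇ 𝒴) (hF : Gerb.IsGerbeOver (AlgSp.J S) F) {M : AlgSp.Sp S}
    (ψ : 𝒴 ⥤ᵇ AlgSt.ofSp M) (hπ : AlgSt.GeomPtBij (BasedFunctor.comp F ψ)) :
    AlgSt.GeomPtBij ψ := by
  intro Ω _ _ t
  obtain ⟨h1, h2⟩ := hπ Ω t
  have hT := jPoint_of_isAlgClosed t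
  constructor
  · intro m
    obtain ⟨x, hx⟩ := h1 m
    exact ⟨imgFib F x, by rw [← fibSec_comp, hx]⟩
  · intro y y' hyy'
    obtain ⟨x, ⟨e⟩⟩ := exists_fib_of_locSurjObj F h𝒴 hF.1 hT y
    obtain ⟨x', ⟨e'⟩⟩ := exists_fib_of_locSurjObj F h𝒴 hF.1 hT y'
    have h3 : AlgSt.fibSec (BasedFunctor.comp F ψ) x = AlgSt.fibSec (BasedFunctor.comp F ψ) x' := by
      rw [fibSec_comp, fibSec_comp, fibSec_eq_of_hom ψ e.hom, fibSec_eq_of_hom ψ e'.hom, hyy']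
    obtain ⟨b⟩ := h2 _ _ h3
    obtain ⟨c⟩ := nonempty_imgFib_iso F b
    exact ⟨e.symm ≪≫ c ≪≫ e'⟩

variable (F : 𝒳 ⥤ᵇ 𝒴)
  (huniv : ∀ (N : AlgSp.Sp S), AlgSp.IsAlgSpace N → ∀ φ : 𝒳 ⥤ᵇ AlgSt.ofSp N,
      ∃ ψ : 𝒴 ⥤ᵇ AlgSt.ofSp N, Nonempty (BasedFunctor.comp F ψ ≅ φ) ∧
        ∀ ψ' : 𝒴 ⥤ᵇ AlgSt.ofSp N, Nonempty (BasedFunctor.comp F ψ' ≅ φ) → Nonempty (ψ' ≅ ψ))

include huniv in
lemma eq_of_comp_eq {N : AlgSp.Sp S} (hN : AlgSp.IsAlgSpace N) (ψ₁ ψ₂ : 𝒴 ⥤ᵇ AlgSt.ofSp N)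
    (h : BasedFunctor.comp F ψ₁ = BasedFunctor.comp F ψ₂) : ψ₁ = ψ₂ := by
  obtain ⟨ψ, -, hu⟩ := huniv N hN (BasedFunctor.comp F ψ₂)
  have e1 := (iso_iff_eq _ _).1 (hu ψ₁ ⟨eqToIso h⟩)
  have e2 := (iso_iff_eq _ _).1 (hu ψ₂ ⟨Iso.refl _⟩)
  rw [e1, e2]

include huniv in
theorem isCatModuli_comp {M : AlgSp.Sp S} (π : 𝒴 ⥤ᵇ AlgSt.ofSp M) (hπ : AlgSt.IsCatModuli π) :
    AlgSt.IsCatModuli (BasedFunctor.comp F π) := by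
  refine ⟨hπ.1, fun N hN φ => ?_⟩
  obtain ⟨ψ, hψ, -⟩ := huniv N hN φ
  have hψ' := (iso_iff_eq _ _).1 hψ
  obtain ⟨g, hg, hguniq⟩ := hπ.2 N hN ψ
  have hg' := (iso_iff_eq _ _).1 hg
  refine ⟨g, (iso_iff_eq _ _).2 ?_, fun g' hg'' => hguniq g' ((iso_iff_eq _ _).2 ?_)⟩
  · rw [← comp_assoc_eq, hg', hψ']
  · have h1 := (iso_iff_eq _ _).1 hg''
    rw [← comp_assoc_eq, ← hψ'] at h1
    exact eq_of_comp_eq F huniv hN _ _ h1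

include huniv in
theorem isCatModuli_of_comp {M : AlgSp.Sp S} (ψ : 𝒴 ⥤ᵇ AlgSt.ofSp M)
    (hπ : AlgSt.IsCatModuli (BasedFunctor.comp F ψ)) : AlgSt.IsCatModuli ψ := by
  refine ⟨hπ.1, fun N hN φ => ?_⟩
  obtain ⟨g, hg, hguniq⟩ := hπ.2 N hN (BasedFunctor.comp F φ)
  have hg' := (iso_iff_eq _ _).1 hg
  refine ⟨g, (iso_iff_eq _ _).2 ?_, fun g' hg'' => hguniq g' ((iso_iff_eq _ _).2 ?_)⟩
  · apply eq_of_comp_eq F huniv hN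
    rw [comp_assoc_eq]
    exact hg'
  · have h1 := (iso_iff_eq _ _).1 hg''
    rw [← comp_assoc_eq, h1]

include huniv in
theorem main (h𝒳 : FibCat.IsFibGrpd 𝒳.p) (h𝒴 : FibCat.IsFibGrpd 𝒴.p)
    (hF : Gerb.IsGerbeOver (AlgSp.J S) F) :
    ((∃ (M : AlgSp.Sp S) (π : 𝒴 ⥤ᵇ AlgSt.ofSp M), AlgSt.IsCoarseModuli π) ↔
        ∃ (M : AlgSp.Sp S) (π : 𝒳 ⥤ᵇ AlgSt.ofSp M), AlgSt.IsCoarseModuli π) ∧
      ∀ (M : AlgSp.Sp S) (π : 𝒴 ⥤ᵇ AlgSt.ofSp M), AlgSt.IsCoarseModuli π →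
        AlgSt.IsCoarseModuli (BasedFunctor.comp F π) := by
  have h2 : ∀ (M : AlgSp.Sp S) (π : 𝒴 ⥤ᵇ AlgSt.ofSp M), AlgSt.IsCoarseModuli π →
      AlgSt.IsCoarseModuli (BasedFunctor.comp F π) := fun M π hπ =>
    ⟨isCatModuli_comp F huniv π hπ.1, geomPtBij_comp h𝒳 h𝒴 F hF π hπ.2⟩
  refine ⟨⟨fun ⟨M, π, hπ⟩ => ⟨M, _, h2 M π hπ⟩, fun ⟨M, π', hπ'⟩ => ?_⟩, h2⟩
  obtain ⟨ψ, hψ, -⟩ := huniv M hπ'.1.1 π'
  have hψ' := (iso_iff_eq _ _).1 hψ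
  subst hψ'
  exact ⟨M, ψ, isCatModuli_of_comp F huniv ψ hπ'.1, geomPtBij_of_comp h𝒳 h𝒴 F hF ψ hπ'.2⟩

end Main

end Groth.Agent.Lib.Helper24.GerbCoarse
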