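import Groth.Agent.Lib.Helper24.GerbDiagFlat2
import Groth.Agent.Lib.Helper24.FibCatMagic
import Groth.Agent.Lib.Helper24.AlgStGC

universe u v u₂ v₂ u₃ v₃ u₄ v₄ u₅ v₅

set_option autoImplicit false
set_option backward.isDefEq.respectTransparency false
set_option backward.isDefEq.respectTransparency.types false

open CategoryTheory CategoryTheory.Limits AlgebraicGeometry Opposite

namespace Groth.Agent.Lib.Helper24.GerbCompare
open Groth.Agent.Lib.Helper24.FibCatFpGen Groth.Agent.Lib.Helper24.FibCatEquiv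
open Groth.Agent.Lib.Helper24.FibCatDiag Groth.Agent.Lib.Helper24.FibCatMagic

section General
variable {C : Type u} [Category.{v} C]
variable {𝒜 : BasedCategory.{v₂, u₂} C} {ℬ : BasedCategory.{v₃, u₃} C}
  {𝒳 : BasedCategory.{v₄, u₄} C} {𝒴 : BasedCategory.{v₅, u₅} C}
  (a : 𝒜 ⥤ᵇ 𝒳) (b : ℬ ⥤ᵇ 𝒳) (j : 𝒳 ⥤ᵇ 𝒴)

/-- the comparison functor built by `fpLift` from the canonical 2-isomorphism is `N` -/
def compIso (e : BasedFunctor.comp (FibCat.fpFst a b) (BasedFunctor.comp a j) ≅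
      BasedFunctor.comp (FibCat.fpSnd a b) (BasedFunctor.comp b j))
    (he : ∀ z, e.hom.toNatTrans.app z = j.map z.obj.iso.hom) :
    FibCat.fpLift (FibCat.fpFst a b) (FibCat.fpSnd a b) e ≅ N a b j :=
  BasedNatIso.mkNatIso
    (NatIso.ofComponents (fun z => mkIso (F := BasedFunctor.comp a j) (G := BasedFunctor.comp b j)
        (x := (FibCat.fpLift (FibCat.fpFst a b) (FibCat.fpSnd a b) e).toFunctor.obj z)
        (y := (N a b j).toFunctor.obj z) (Iso.refl _) (Iso.refl _) (by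
          have h1 : (BasedFunctor.comp a j).toFunctor.map (𝟙 z.obj.fst) = 𝟙 _ := CategoryTheory.Functor.map_id _ _
          have h2 : (BasedFunctor.comp b j).toFunctor.map (𝟙 z.obj.snd) = 𝟙 _ := CategoryTheory.Functor.map_id _ _
          exact ((congrArg (· ≫ _) h1).trans (Category.id_comp _)).trans
            (((he z).symm).trans ((Category.comp_id _).symm.trans (congrArg (_ ≫ ·) h2.symm)))))
      (fun {z z'} φ => by
        apply hom_ext'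
        · change φ.hom.fst ≫ 𝟙 _ = 𝟙 _ ≫ φ.hom.fst
          rw [Category.comp_id, Category.id_comp]
        · change φ.hom.snd ≫ 𝟙 _ = 𝟙 _ ≫ φ.hom.snd
          rw [Category.comp_id, Category.id_comp]))
    (fun z => by
      rw [isHomLift_iff_fst]
      change 𝒜.p.IsHomLift (𝟙 (𝒜.p.obj z.obj.fst)) (𝟙 z.obj.fst)
      infer_instance)

end General

section Main
open Groth.Agent.Lib.Helper24.GerbDiagFlat Groth.Agent.Lib.Helper24.AlgSpSmLocal
open Groth.Agent.Lib.Helper24.AlgStAtlas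
variable {S : Scheme.{u}} {𝒳 𝒴 : AlgSt.Cat S}

/-- the comparison functor is a base change of the diagonal -/
theorem repByAlgSpWith_N (P : MorphismProperty (AlgSp.Sp S)) {𝒜 ℬ : AlgSt.Cat S}
    (a : 𝒜 ⥤ᵇ 𝒳) (b : ℬ ⥤ᵇ 𝒳) (f : 𝒳 ⥤ᵇ 𝒴)
    (h : AlgSt.RepByAlgSpWith P (FibCat.diag f)) : AlgSt.RepByAlgSpWith P (N a b f) := by
  have h1 := Groth.Agent.Lib.Helper24.AlgStBoot.repByAlgSpWith_fpFst P (FibCat.diag f) (M a b f) h
  rw [← Ψ_fst]
  exact (Groth.Agent.Lib.Helper24.AlgStSmLoc.repByAlgSpWith_equiv_comp P (Ψ a b f) _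
    (isEquivOver_Ψ a b f)).2 h1

/-- S16863 -/
theorem compare_of_isGerbeOver (h𝒳 : AlgSt.IsAlgStack Scheme.fppfPrecoverage 𝒳)
    (h𝒴 : AlgSt.IsAlgStack Scheme.fppfPrecoverage 𝒴) (f : 𝒳 ⥤ᵇ 𝒴)
    (hf : Gerb.IsGerbeOver (AlgSp.J S) f)
    (T₁ T₂ : AlgSp.Space S) (x₁ : AlgSt.ofSp T₁.obj ⥤ᵇ 𝒳) (x₂ : AlgSt.ofSp T₂.obj ⥤ᵇ 𝒳)
    (e : BasedFunctor.comp (FibCat.fpFst x₁ x₂) (BasedFunctor.comp x₁ f) ≅
      BasedFunctor.comp (FibCat.fpSnd x₁ x₂) (BasedFunctor.comp x₂ f))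
    (he : ∀ a, e.hom.toNatTrans.app a = f.map a.obj.iso.hom) :
    AlgSt.IsSurjective (FibCat.fpLift (FibCat.fpFst x₁ x₂) (FibCat.fpSnd x₁ x₂) e) ∧
      AlgSt.LocQ (AlgSp.LocP @Flat) (FibCat.fpLift (FibCat.fpFst x₁ x₂) (FibCat.fpSnd x₁ x₂) e) ∧
      AlgSt.LocQ (AlgSp.LocP @LocallyOfFinitePresentation)
        (FibCat.fpLift (FibCat.fpFst x₁ x₂) (FibCat.fpSnd x₁ x₂) e) := by
  obtain ⟨h1, h2, h3⟩ := diag_of_isGerbeOver h𝒳 h𝒴 f hf
  have hP := isAlgStack_fp_self h𝒳 h𝒴 f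
  have hx := Groth.Agent.Lib.Helper24.AlgStSep2.repByAlgSp1_diag h𝒳 h𝒴 f
  have h3' := (Groth.Agent.Lib.Helper24.AlgStPts5.isSurjective_iff_repByAlgSpWith h𝒳.isStack.1
    hP.isStack.1 _ hx).1 h3
  have i := compIso x₁ x₂ f e he
  have hA : AlgSt.IsAlgStack Scheme.fppfPrecoverage (FibCat.fp x₁ x₂) :=
    Groth.Agent.Lib.Helper24.AlgStFpAlg.isAlgStack_fp h𝒳.isStack h𝒳.diag (isAlgStack_ofSp T₁)
      (isAlgStack_ofSp T₂) x₁ x₂
  have hB : AlgSt.IsAlgStack Scheme.fppfPrecoverage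
      (FibCat.fp (BasedFunctor.comp x₁ f) (BasedFunctor.comp x₂ f)) :=
    Groth.Agent.Lib.Helper24.AlgStFpAlg.isAlgStack_fp h𝒴.isStack h𝒴.diag (isAlgStack_ofSp T₁)
      (isAlgStack_ofSp T₂) _ _
  have key : ∀ P : MorphismProperty (AlgSp.Sp S), AlgSt.RepByAlgSpWith P (FibCat.diag f) →
      AlgSt.RepByAlgSpWith P (FibCat.fpLift (FibCat.fpFst x₁ x₂) (FibCat.fpSnd x₁ x₂) e) :=
    fun P h => Groth.Agent.Lib.Helper24.AlgStGC.repByAlgSpWith_of_iso P i.symm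
      (repByAlgSpWith_N P x₁ x₂ f h)
  exact ⟨Groth.Agent.Lib.Helper24.AlgStPts3.surjective_map_of_repByAlgSpWith hB.isStack.1 _
      (key _ h3'),
    Groth.Agent.Lib.Helper24.AlgStLocQ5.locQ_of_repByAlgSpWith hA hB _ isSmoothLocalST_flat
      (key _ h1),
    Groth.Agent.Lib.Helper24.AlgStLocQ5.locQ_of_repByAlgSpWith hA hB _ isSmoothLocalST_lfp
      (key _ h2)⟩

end Main

end Groth.Agent.Lib.Helper24.GerbCompare
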