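import Groth.Agent.Lib.Helper24.GerbSect2
import Groth.Agent.Lib.Helper24.AlgStSep2
import Groth.Agent.Lib.Helper24.AlgStFpAlg

universe u

set_option autoImplicit false
set_option backward.isDefEq.respectTransparency false
set_option backward.isDefEq.respectTransparency.types false

open CategoryTheory CategoryTheory.Limits AlgebraicGeometry Opposite

namespace Groth.Agent.Lib.Helper24.GerbDiagFlat

variable {S : Scheme.{u}} {𝒳 𝒴 : AlgSt.Cat S}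

/-- the composite `fpFst ∘ Δ` is the identity -/
def diagFstIso (f : 𝒳 ⥤ᵇ 𝒴) :
    BasedFunctor.comp (FibCat.diag f) (FibCat.fpFst f f) ≅ BasedFunctor.id 𝒳 :=
  Iso.refl _

theorem isAlgStack_fp_self (h𝒳 : AlgSt.IsAlgStack Scheme.fppfPrecoverage 𝒳)
    (h𝒴 : AlgSt.IsAlgStack Scheme.fppfPrecoverage 𝒴) (f : 𝒳 ⥤ᵇ 𝒴) :
    AlgSt.IsAlgStack Scheme.fppfPrecoverage (FibCat.fp f f) :=
  Groth.Agent.Lib.Helper24.AlgStFpAlg.isAlgStack_fp h𝒴.isStack h𝒴.diag h𝒳 h𝒳 f f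

/-- the diagonal of a gerbe morphism is flat, lfp and surjective -/
theorem diag_of_isGerbeOver (h𝒳 : AlgSt.IsAlgStack Scheme.fppfPrecoverage 𝒳)
    (h𝒴 : AlgSt.IsAlgStack Scheme.fppfPrecoverage 𝒴) (f : 𝒳 ⥤ᵇ 𝒴)
    (hf : Gerb.IsGerbeOver (AlgSp.J S) f) :
    AlgSt.RepByAlgSpWith (AlgSp.LocP @Flat) (FibCat.diag f) ∧
      AlgSt.RepByAlgSpWith (AlgSp.LocP @LocallyOfFinitePresentation) (FibCat.diag f) ∧
      AlgSt.IsSurjective (FibCat.diag f) := by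
  have hP := isAlgStack_fp_self h𝒳 h𝒴 f
  have hπ := Groth.Agent.Lib.Helper24.GerbFormal.isGerbeOver_fpFst (AlgSp.J S)
    h𝒴.isStack.1 h𝒳.isStack.1 f f hf
  have hx := Groth.Agent.Lib.Helper24.AlgStSep2.repByAlgSp1_diag h𝒳 h𝒴 f
  obtain ⟨h1, h2⟩ := Groth.Agent.Lib.Helper24.GerbSect2.flat_lfp_of_section hP
    (FibCat.fpFst f f) hπ.2 (FibCat.diag f) (diagFstIso f) hx
  exact ⟨h1, h2, Groth.Agent.Lib.Helper24.GerbSect2.surjective_of_section hP.isStack.1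
    h𝒳.isStack.1 (FibCat.fpFst f f) hπ.2 (FibCat.diag f) (diagFstIso f)⟩

end Groth.Agent.Lib.Helper24.GerbDiagFlat
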