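import Groth.Agent.Lib.Helper24.GerbFormal
import Groth.Agent.Lib.Helper24.FibCatMagic
set_option autoImplicit false
set_option linter.unusedSectionVars false
set_option linter.unusedVariables false
open CategoryTheory
universe u v u₂ v₂ u₃ v₃ u₄ v₄ u₅ v₅
set_option backward.isDefEq.respectTransparency false
set_option backward.isDefEq.respectTransparency.types false

/-! The product `𝒜 ×_𝒴 ℬ ⟶ 𝒳 ×_𝒴 𝒳` of two gerbes `𝒜 ⟶ 𝒳`, `ℬ ⟶ 𝒳` is a gerbe. -/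

namespace Groth.Agent.Lib.Helper24.GerbProd
open Groth.Agent.Lib.Helper24.FibCatFpGen Groth.Agent.Lib.Helper24.FibCatEquiv
open Groth.Agent.Lib.Helper24.FibGrpd Groth.Agent.Lib.Helper24.GerbFormal
open Groth.Agent.Lib.Helper24.FibCatMagic

variable {C : Type u} [Category.{v} C] (J : GrothendieckTopology C)
variable {𝒜 : BasedCategory.{v₂, u₂} C} {ℬ : BasedCategory.{v₃, u₃} C}
  {𝒳 : BasedCategory.{v₄, u₄} C} {𝒴 : BasedCategory.{v₅, u₅} C}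

theorem isGerbeOver_M (h𝒴 : FibCat.IsFibGrpd 𝒴.p)
    (a : 𝒜 ⥤ᵇ 𝒳) (b : ℬ ⥤ᵇ 𝒳) (j : 𝒳 ⥤ᵇ 𝒴) (ha : Gerb.IsGerbeOver J a)
    (hb : Gerb.IsGerbeOver J b) : Gerb.IsGerbeOver J (M a b j) := by
  constructor
  · intro w
    -- w = (x₁, x₂, α)
    have hx₂ : 𝒳.p.obj w.obj.snd = 𝒳.p.obj w.obj.fst := (p_eq j j w).symm
    obtain ⟨R₁, hR₁, hloc₁⟩ := ha.1 w.obj.fst
    obtain ⟨R₂, hR₂, hloc₂⟩ := locSurjObj_at J hb.1 w.obj.snd hx₂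
    refine ⟨R₁ ⊓ R₂, J.intersection_covering hR₁ hR₂, fun V k hk => ?_⟩
    obtain ⟨a₁, n₁, hn₁⟩ := hloc₁ k hk.1
    obtain ⟨b₂, n₂, hn₂⟩ := hloc₂ k hk.2
    have hα : 𝒴.p.IsHomLift (𝟙 (𝒳.p.obj w.obj.fst)) w.obj.iso.hom := iso_isHomLift j j w
    have h1 : 𝒴.p.IsHomLift k (j.toFunctor.map n₁) := inferInstance
    have h2 : 𝒴.p.IsHomLift k (j.toFunctor.map n₂) := inferInstance
    have h3 : 𝒴.p.IsHomLift k (j.toFunctor.map n₁ ≫ w.obj.iso.hom) :=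
      IsHomLift.comp_lift_id_right' (p := 𝒴.p) k (j.toFunctor.map n₁) (𝒳.p.obj w.obj.fst) w.obj.iso.hom
    obtain ⟨θ, hθl, hθ⟩ := exists_iso_factor h𝒴 k (j.toFunctor.map n₁ ≫ w.obj.iso.hom)
      (j.toFunctor.map n₂) h3 h2
    have hV : 𝒜.p.obj a₁ = V :=
      (a.w_obj a₁).symm.trans (IsHomLift.domain_eq 𝒳.p k n₁)
    have hθl' : 𝒴.p.IsHomLift (𝟙 (𝒜.p.obj a₁)) θ.hom := by rw [hV]; exact hθl
    let m : (FibCat.fp (BasedFunctor.comp a j) (BasedFunctor.comp b j)).obj :=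
      mkObj (F := BasedFunctor.comp a j) (G := BasedFunctor.comp b j) a₁ b₂ θ hθl'
    let g : (M a b j).toFunctor.obj m ⟶ w :=
      mkHom (x := (M a b j).toFunctor.obj m) (y := w) n₁ n₂ hθ.symm
    refine ⟨m, g, ?_⟩
    rw [isHomLift_iff_fst]; exact hn₁
  · intro m m' β hβ
    -- m = (a₁, b₁, θ), m' = (a₂, b₂, θ')
    have hb₁ : ℬ.p.obj m.obj.snd = 𝒜.p.obj m.obj.fst := (p_eq _ _ m).symm
    have hβ' : (FibCat.fp j j).p.IsHomLift (𝟙 (𝒜.p.obj m.obj.fst)) β := hβ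
    have hβ₁ : 𝒳.p.IsHomLift (𝟙 (𝒜.p.obj m.obj.fst)) β.hom.fst := isHomLift_fst _ β
    have hβ₂ : 𝒳.p.IsHomLift (𝟙 (𝒜.p.obj m.obj.fst)) β.hom.snd := isHomLift_snd _ β
    obtain ⟨R₁, hR₁, hloc₁⟩ := ha.2 m.obj.fst m'.obj.fst β.hom.fst hβ₁
    obtain ⟨R₂, hR₂, hloc₂⟩ := locSurjHom_at J hb.2 m.obj.snd m'.obj.snd hb₁ β.hom.snd hβ₂
    refine ⟨R₁ ⊓ R₂, J.intersection_covering hR₁ hR₂, fun V k hk => ?_⟩
    obtain ⟨a₀, φ₁, ψ₁, hφ₁, hψ₁, hc₁⟩ := hloc₁ k hk.1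
    obtain ⟨b₀, φ₂, ψ₂, hφ₂, hψ₂, hc₂⟩ := hloc₂ k hk.2
    have hθ : 𝒴.p.IsHomLift (𝟙 (𝒜.p.obj m.obj.fst)) m.obj.iso.hom := iso_isHomLift _ _ m
    have h1 : 𝒴.p.IsHomLift k (j.toFunctor.map (a.toFunctor.map φ₁)) := inferInstance
    have h2 : 𝒴.p.IsHomLift k (j.toFunctor.map (b.toFunctor.map φ₂)) := inferInstance
    have h3 : 𝒴.p.IsHomLift k (j.toFunctor.map (a.toFunctor.map φ₁) ≫ m.obj.iso.hom) :=
      IsHomLift.comp_lift_id_right' (p := 𝒴.p) k (j.toFunctor.map (a.toFunctor.map φ₁))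
        (𝒜.p.obj m.obj.fst) m.obj.iso.hom
    obtain ⟨θ₀, hθ₀l, hθ₀⟩ := exists_iso_factor h𝒴 k
      (j.toFunctor.map (a.toFunctor.map φ₁) ≫ m.obj.iso.hom)
      (j.toFunctor.map (b.toFunctor.map φ₂)) h3 h2
    have hV : 𝒜.p.obj a₀ = V := IsHomLift.domain_eq 𝒜.p k φ₁
    have hθ₀l' : 𝒴.p.IsHomLift (𝟙 (𝒜.p.obj a₀)) θ₀.hom := by rw [hV]; exact hθ₀l
    let m₀ : (FibCat.fp (BasedFunctor.comp a j) (BasedFunctor.comp b j)).obj :=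
      mkObj (F := BasedFunctor.comp a j) (G := BasedFunctor.comp b j) a₀ b₀ θ₀ hθ₀l'
    let φ : m₀ ⟶ m := mkHom (x := m₀) (y := m) φ₁ φ₂ hθ₀.symm
    have hw : j.toFunctor.map (a.toFunctor.map ψ₁) ≫ m'.obj.iso.hom =
        θ₀.hom ≫ j.toFunctor.map (b.toFunctor.map ψ₂) := by
      have hβw : j.toFunctor.map β.hom.fst ≫ m'.obj.iso.hom =
          m.obj.iso.hom ≫ j.toFunctor.map β.hom.snd := hom_w β
      rw [← hc₁, ← hc₂, Functor.map_comp, Functor.map_comp, Category.assoc, hβw,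
        ← Category.assoc, ← hθ₀, Category.assoc]
    let ψ : m₀ ⟶ m' := mkHom (x := m₀) (y := m') ψ₁ ψ₂ hw
    refine ⟨m₀, φ, ψ, ?_, ?_, ?_⟩
    · rw [isHomLift_iff_fst]; exact hφ₁
    · rw [isHomLift_iff_fst]; exact hψ₁
    · apply hom_ext'
      · exact hc₁
      · exact hc₂

end Groth.Agent.Lib.Helper24.GerbProd
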