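import Groth.Agent.Lib.Helper24.GerbHomeo2
import Groth.Agent.Lib.Helper24.GerbProd
import Groth.Agent.Lib.Helper24.AlgStPts6
import Groth.Agent.Lib.Helper24.AlgStQCProd
set_option autoImplicit false
set_option linter.unusedSectionVars false
set_option linter.unusedVariables false
open CategoryTheory AlgebraicGeometry Opposite
universe u
set_option backward.isDefEq.respectTransparency false
set_option backward.isDefEq.respectTransparency.types false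

/-! Quasi-compactness of the diagonal descends along a gerbe. -/

namespace Groth.Agent.Lib.Helper24.GerbDiagQC
open AlgSt Groth.Agent.Lib.Helper24.AlgStPts1 Groth.Agent.Lib.Helper24.AlgStPts6
open Groth.Agent.Lib.Helper24.FibCatFpGen Groth.Agent.Lib.Helper24.FibCatEquiv
open Groth.Agent.Lib.Helper24.AlgStFpAlg Groth.Agent.Lib.Helper24.AlgStQCMor
open Groth.Agent.Lib.Helper24.AlgStProdAlg Groth.Agent.Lib.Helper24.StkSelf
open Groth.Agent.Lib.Helper24.FibCatMagic Groth.Agent.Lib.Helper24.GerbProd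
open Groth.Agent.Lib.Helper24.GerbHomeo1 Groth.Agent.Lib.Helper24.GerbHomeo2
open Groth.Agent.Lib.Helper24.AlgStRep

variable {S : Scheme.{u}}

theorem isQuasiCompactMor_of_isUnivHomeo {𝒳 𝒴 : AlgSt.Cat S}
    (h𝒳 : AlgSt.IsAlgStack Scheme.fppfPrecoverage 𝒳)
    (h𝒴 : AlgSt.IsAlgStack Scheme.fppfPrecoverage 𝒴) (f : 𝒳 ⥤ᵇ 𝒴)
    (hf : AlgSt.IsUnivHomeo Scheme.fppfPrecoverage f) :
    AlgSt.IsQuasiCompactMor Scheme.fppfPrecoverage f := by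
  intro 𝒵 h𝒵 hq g
  have halg : AlgSt.IsAlgStack Scheme.fppfPrecoverage (FibCat.fp g f) :=
    isAlgStack_fp h𝒴.isStack h𝒴.diag h𝒵 h𝒳 g f
  rw [isQuasiCompact_iff_compactSpace halg]
  have hc := (isQuasiCompact_iff_compactSpace h𝒵).1 hq
  have hh := hf 𝒵 h𝒵 g
  exact (hh.homeomorph _).symm.compactSpace

theorem isAlgStack_fp_selfOver {𝒳 𝒴 : AlgSt.Cat S}
    (h𝒳 : AlgSt.IsAlgStack Scheme.fppfPrecoverage 𝒳)
    (h𝒴 : AlgSt.IsAlgStack Scheme.fppfPrecoverage 𝒴)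
    (a : 𝒳 ⥤ᵇ FibCat.selfOver (Over S)) (b : 𝒴 ⥤ᵇ FibCat.selfOver (Over S)) :
    AlgSt.IsAlgStack Scheme.fppfPrecoverage (FibCat.fp a b) :=
  isAlgStack_fp (isStack_selfOver _) (repByAlgSp1_of_isEquivOver _ isEquivOver_diag_selfOver)
    h𝒳 h𝒴 a b

theorem isQuasiCompactMor_diag_of_isGerbeOver {𝒳 𝒴 : AlgSt.Cat S}
    (h𝒳 : AlgSt.IsAlgStack Scheme.fppfPrecoverage 𝒳)
    (h𝒴 : AlgSt.IsAlgStack Scheme.fppfPrecoverage 𝒴)
    (f : 𝒳 ⥤ᵇ 𝒴) (hf : Gerb.IsGerbeOver (AlgSp.J S) f)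
    (hΔ : AlgSt.IsQuasiCompactMor Scheme.fppfPrecoverage (FibCat.diag (FibCat.toSelf 𝒳))) :
    AlgSt.IsQuasiCompactMor Scheme.fppfPrecoverage (FibCat.diag (FibCat.toSelf 𝒴)) := by
  rw [eq_of_selfOver (FibCat.toSelf 𝒳) (BasedFunctor.comp f (FibCat.toSelf 𝒴))] at hΔ
  have hM : Gerb.IsGerbeOver (AlgSp.J S) (M f f (FibCat.toSelf 𝒴)) :=
    isGerbeOver_M (AlgSp.J S) Groth.Agent.Lib.Helper24.FibCatInertia.isFibGrpd_selfOver f f
      (FibCat.toSelf 𝒴) hf hf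
  have h𝒳2 := isAlgStack_fp_selfOver h𝒳 h𝒳 (BasedFunctor.comp f (FibCat.toSelf 𝒴))
    (BasedFunctor.comp f (FibCat.toSelf 𝒴))
  have h𝒴2 := isAlgStack_fp_selfOver h𝒴 h𝒴 (FibCat.toSelf 𝒴) (FibCat.toSelf 𝒴)
  have hMq : AlgSt.IsQuasiCompactMor Scheme.fppfPrecoverage (M f f (FibCat.toSelf 𝒴)) :=
    isQuasiCompactMor_of_isUnivHomeo h𝒳2 h𝒴2 _ (isUnivHomeo_of_isGerbeOver h𝒳2 h𝒴2 _ hM)
  have hcomp := isQuasiCompactMor_comp h𝒳2 h𝒴2 _ _ hΔ hMq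
  have e : BasedFunctor.comp f (FibCat.diag (FibCat.toSelf 𝒴)) ≅
      BasedFunctor.comp (FibCat.diag (BasedFunctor.comp f (FibCat.toSelf 𝒴)))
        (M f f (FibCat.toSelf 𝒴)) := Iso.refl _
  exact isQuasiCompactMor_of_surjective_triangle h𝒳 h𝒴 h𝒴2 f _ _ e
    (isSurjective_of_locSurjObj h𝒴.isStack.1 f hf.1) hcomp

end Groth.Agent.Lib.Helper24.GerbDiagQC
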