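import Groth.Agent.Lib.Helper24.GerbGlue
import Groth.Agent.Lib.Helper24.FibCatFaithful
import Groth.Agent.Lib.Helper24.FibCatEquiv
import Groth.Agent.Lib.Helper24.StkEquiv
set_option autoImplicit false
set_option linter.unusedSectionVars false
set_option linter.style.haveILetI false
open CategoryTheory
universe v₃ u₃ v₂ u₂ v u
set_option backward.isDefEq.respectTransparency false
set_option backward.isDefEq.respectTransparency.types false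

/-! # A morphism of gerbes inducing bijections on automorphism groups is an equivalence -/

noncomputable section

namespace Groth.Agent.Lib.Helper24.GerbEquiv
open Groth.Agent.Lib.Helper24.FibGrpd Groth.Agent.Lib.Helper24.FibGrpdFunctor
open Groth.Agent.Lib.Helper24.FibCatYoneda Groth.Agent.Lib.Helper24.FibCatRepDiag
open Groth.Agent.Lib.Helper24.GerbGlue

variable {C : Type u} [Category.{v} C] {𝒳 : BasedCategory.{v₂, u₂} C}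
  {𝒴 : BasedCategory.{v₃, u₃} C}

section Faithful
variable (J : GrothendieckTopology C) (φ : 𝒳 ⥤ᵇ 𝒴) {s : 𝒳.obj}

lemma lift_id_of_eqToHom {a b : 𝒳.obj} (χ : a ⟶ b) {R R' : C} (h : R = R')
    (hχ : 𝒳.p.IsHomLift (eqToHom h) χ) : 𝒳.p.IsHomLift (𝟙 R) χ := by
  subst h; simpa using hχ

theorem faithful_of_aut_injective (hst : Stk.IsStack J 𝒳) (h𝒴 : FibCat.IsFibGrpd 𝒴.p)
    (hG : Gerb.IsGerbeOver J (FibCat.toSelf 𝒳))
    (hne : ∀ V : C, Nonempty (V ⟶ 𝒳.p.obj s))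
    (hinj : ∀ (x : 𝒳.obj) (c : x ⟶ s), Function.Injective (Gerb.autMap φ x)) :
    φ.toFunctor.Faithful := by
  have h𝒳 := hst.1
  refine Groth.Agent.Lib.Helper24.FibCatFaithful.faithful_of_aut φ h𝒳 h𝒴 fun x u hu hφu => ?_
  have hfaith : (Stk.resSieve (locSieve h𝒳 s x) 𝒳).Faithful := by
    haveI : (Stk.resSieve (locSieve h𝒳 s x) 𝒳).IsEquivalence :=
      hst.2 _ (locSieve_mem J h𝒳 hG hne x)
    infer_instance
  refine Groth.Agent.Lib.Helper24.StkLocal.hom_ext_of_locally_eq h𝒳 (locSieve h𝒳 s x) hfaith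
    u (𝟙 x) hu (IsHomLift.id rfl) ?_
  rintro V f₀ ⟨w, a, ha, ⟨θ⟩⟩
  refine ⟨w, a, ha, ?_⟩
  have hau : 𝒳.p.IsHomLift f₀ (a ≫ u) :=
    IsHomLift.comp_lift_id_right' (p := 𝒳.p) f₀ a (𝒳.p.obj x) u
  obtain ⟨uw, ⟨huw1, huw2⟩, -⟩ := exists_unique_factor h𝒳 a (a ≫ u) f₀ (𝟙 V) f₀
    (Category.id_comp _).symm ha hau
  have hVw : V = 𝒳.p.obj w := (IsHomLift.domain_eq 𝒳.p f₀ a).symm
  have huw1' : 𝒳.p.IsHomLift (𝟙 (𝒳.p.obj w)) uw := lift_id_of_eq _ hVw huw1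
  have hφuw : φ.map uw = 𝟙 _ := by
    have hφa : 𝒴.p.IsHomLift f₀ (φ.map a) := map_lift φ _ _ ha
    have k1 : 𝒴.p.IsHomLift (𝟙 V) (φ.map uw) := map_lift φ _ _ huw1
    have k2 : 𝒴.p.IsHomLift (𝟙 V) (𝟙 (φ.obj w)) :=
      IsHomLift.id ((φ.w_obj w).trans hVw.symm)
    apply cancel_right h𝒴 (φ.map a) f₀ (𝟙 V) hφa _ _ k1 k2
    rw [← φ.map_comp, huw2, φ.map_comp, hφu, Category.comp_id, Category.id_comp]
  have h1 : Gerb.autMap φ w (autOfHom h𝒳 uw huw1') = Gerb.autMap φ w 1 := by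
    apply Aut.ext
    apply Functor.Fiber.hom_ext
    change φ.map uw = φ.map (𝟙 w)
    rw [hφuw, φ.map_id]
  have h2 := hinj w θ h1
  have h3 : uw = 𝟙 w := congrArg (fun t : Gerb.AutO w => t.hom.1) h2
  rw [← huw2, h3, Category.id_comp, Category.comp_id]

end Faithful

section Full
variable (J : GrothendieckTopology C) (φ : 𝒳 ⥤ᵇ 𝒴) {s : 𝒳.obj}

/-- the sieve of `locSieve`, on an object only propositionally equal to the base of `y` -/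
def locSieve' (h𝒳 : FibCat.IsFibGrpd 𝒳.p) (x y : 𝒳.obj) (U : C) : Sieve U where
  arrows V f := ∃ (w : 𝒳.obj) (a : w ⟶ y), 𝒳.p.IsHomLift f a ∧ Nonempty (w ⟶ x)
  downward_closed := by
    rintro V V' f ⟨w, a, ha, ⟨θ⟩⟩ h
    obtain ⟨w', m, hm⟩ := Groth.Agent.Lib.Helper24.GerbFormal.exists_lift' h𝒳 h w
      (IsHomLift.domain_eq 𝒳.p f a)
    exact ⟨w', m ≫ a, inferInstance, ⟨m ≫ θ⟩⟩

lemma locSieve'_mem (h𝒳 : FibCat.IsFibGrpd 𝒳.p) (hG : Gerb.IsGerbeOver J (FibCat.toSelf 𝒳))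
    (hne : ∀ V : C, Nonempty (V ⟶ 𝒳.p.obj s)) (y : 𝒳.obj) {U : C} (hy : 𝒳.p.obj y = U) :
    locSieve' h𝒳 s y U ∈ J U := by
  subst hy
  exact locSieve_mem J h𝒳 hG hne y

lemma pb_toX' (h𝒳 : FibCat.IsFibGrpd 𝒳.p) [𝒳.p.IsFibered] {y : 𝒳.obj} {U : C}
    (hy : 𝒳.p.obj y = U) (c : Over U)
    (hc : ∃ (w : 𝒳.obj) (a : w ⟶ y), 𝒳.p.IsHomLift c.hom a ∧ Nonempty (w ⟶ s)) :
    Nonempty (pbObj hy c ⟶ s) := by
  obtain ⟨w, a, ha, ⟨θ⟩⟩ := hc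
  have hp : 𝒳.p.IsHomLift c.hom (pbMap hy c) := inferInstance
  obtain ⟨ι, -, -⟩ := exists_unique_factor h𝒳 a (pbMap hy c) c.hom (𝟙 _)
    c.hom (Category.id_comp _).symm ha hp
  exact ⟨ι ≫ θ⟩

lemma exists_preimage_local (h𝒳 : FibCat.IsFibGrpd 𝒳.p) (h𝒴 : FibCat.IsFibGrpd 𝒴.p)
    (hsub : ∀ (V : C) (f f' : V ⟶ 𝒳.p.obj s), f = f')
    (hsurj : ∀ (x : 𝒳.obj) (c : x ⟶ s), Function.Surjective (Gerb.autMap φ x))
    {w w'' : 𝒳.obj} (θ : w ⟶ s) (θ'' : w'' ⟶ s) (b : φ.obj w ⟶ φ.obj w'')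
    (hb : 𝒴.p.IsHomLift (𝟙 (𝒳.p.obj w)) b) :
    ∃ m : w ⟶ w'', 𝒳.p.IsHomLift (𝟙 (𝒳.p.obj w)) m ∧ φ.map m = b := by
  have e : 𝒳.p.obj w'' = 𝒳.p.obj w :=
    (φ.w_obj w'').symm.trans (IsHomLift.codomain_eq 𝒴.p (𝟙 (𝒳.p.obj w)) b)
  have h1 : 𝒳.p.IsHomLift (𝒳.p.map θ'') θ'' := IsHomLift.map 𝒳.p θ''
  have h2 : 𝒳.p.IsHomLift (𝒳.p.map θ) θ := IsHomLift.map 𝒳.p θ
  have heq : 𝒳.p.map θ = eqToHom e.symm ≫ 𝒳.p.map θ'' := hsub _ _ _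
  obtain ⟨ι, ⟨hι1, hι2⟩, -⟩ := exists_unique_factor h𝒳 θ'' θ (𝒳.p.map θ'') (eqToHom e.symm)
    (𝒳.p.map θ) heq h1 h2
  have hι : 𝒳.p.IsHomLift (𝟙 (𝒳.p.obj w)) ι := lift_id_of_eqToHom ι e.symm hι1
  haveI : IsIso ι := isIso_of_isFibGrpd 𝒳.p h𝒳 (𝟙 (𝒳.p.obj w)) ι
  have hφι : 𝒴.p.IsHomLift (𝟙 (𝒳.p.obj w)) (φ.map ι) := map_lift φ _ _ hι
  have hβ0 : 𝒴.p.IsHomLift (𝟙 (𝒳.p.obj w)) (b ≫ inv (φ.map ι)) := inferInstance
  have hβ : 𝒴.p.IsHomLift (𝟙 (𝒴.p.obj (φ.obj w))) (b ≫ inv (φ.map ι)) :=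
    lift_id_of_eq _ (φ.w_obj w).symm hβ0
  obtain ⟨α, hα⟩ := hsurj w θ (autOfHom h𝒴 (b ≫ inv (φ.map ι)) hβ)
  have hα' : φ.map α.hom.1 = b ≫ inv (φ.map ι) :=
    congrArg (fun t : Gerb.AutO (φ.obj w) => t.hom.1) hα
  have hαl : 𝒳.p.IsHomLift (𝟙 (𝒳.p.obj w)) α.hom.1 := α.hom.2
  refine ⟨α.hom.1 ≫ ι, inferInstance, ?_⟩
  rw [φ.map_comp, hα', Category.assoc, IsIso.inv_hom_id, Category.comp_id]

theorem exists_preimage_fibre (hst𝒳 : Stk.IsStack J 𝒳) (hst𝒴 : Stk.IsStack J 𝒴)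
    (hG : Gerb.IsGerbeOver J (FibCat.toSelf 𝒳))
    (hne : ∀ V : C, Nonempty (V ⟶ 𝒳.p.obj s))
    (hsub : ∀ (V : C) (f f' : V ⟶ 𝒳.p.obj s), f = f')
    (hsurj : ∀ (x : 𝒳.obj) (c : x ⟶ s), Function.Surjective (Gerb.autMap φ x))
    [φ.toFunctor.Faithful]
    (x x'' : 𝒳.obj) (b₀ : φ.obj x ⟶ φ.obj x'') (hb₀ : 𝒴.p.IsHomLift (𝟙 (𝒳.p.obj x)) b₀) :
    ∃ m₀ : x ⟶ x'', 𝒳.p.IsHomLift (𝟙 (𝒳.p.obj x)) m₀ ∧ φ.map m₀ = b₀ := by
  have h𝒳 := hst𝒳.1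
  have h𝒴 := hst𝒴.1
  haveI : 𝒳.p.IsFibered := isFibered_of_isFibGrpd 𝒳.p h𝒳
  have e : 𝒳.p.obj x'' = 𝒳.p.obj x :=
    (φ.w_obj x'').symm.trans (IsHomLift.codomain_eq 𝒴.p (𝟙 (𝒳.p.obj x)) b₀)
  obtain ⟨R, hR⟩ : ∃ R : Sieve (𝒳.p.obj x),
      R = locSieve h𝒳 s x ⊓ locSieve' h𝒳 s x'' (𝒳.p.obj x) := ⟨_, rfl⟩
  have hRJ : R ∈ J (𝒳.p.obj x) := by
    rw [hR]
    exact J.intersection_covering (locSieve_mem J h𝒳 hG hne x) (locSieve'_mem J h𝒳 hG hne x'' e)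
  have hRa : ∀ ⦃V : C⦄ (f : V ⟶ 𝒳.p.obj x), R f → (locSieve h𝒳 s x) f := by
    rw [hR]; intro V f h; exact h.1
  have hRb : ∀ ⦃V : C⦄ (f : V ⟶ 𝒳.p.obj x), R f → (locSieve' h𝒳 s x'' (𝒳.p.obj x)) f := by
    rw [hR]; intro V f h; exact h.2
  have hR1 : ∀ c : (Stk.sieveCat R).obj, Nonempty (pbObj (x := x) rfl c.obj ⟶ s) := fun c =>
    pb_toX' h𝒳 rfl c.obj (hRa _ c.property)
  have hR2 : ∀ c : (Stk.sieveCat R).obj, Nonempty (pbObj (x := x'') e c.obj ⟶ s) := fun c =>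
    pb_toX' h𝒳 e c.obj (hRb _ c.property)
  -- the local preimages
  have hbc : ∀ c : (Stk.sieveCat R).obj, ∃ m : pbObj (x := x) rfl c.obj ⟶ pbObj (x := x'') e c.obj,
      𝒳.p.IsHomLift (𝟙 c.obj.left) m ∧
        φ.map m ≫ φ.map (pbMap (x := x'') e c.obj) = φ.map (pbMap (x := x) rfl c.obj) ≫ b₀ := by
    intro c
    obtain ⟨θ⟩ := hR1 c
    obtain ⟨θ''⟩ := hR2 c
    have l1 : 𝒴.p.IsHomLift c.obj.hom (φ.map (pbMap (x := x'') e c.obj)) :=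
      map_lift φ _ _ inferInstance
    have l2 : 𝒴.p.IsHomLift c.obj.hom (φ.map (pbMap (x := x) rfl c.obj)) :=
      map_lift φ _ _ inferInstance
    have l3 : 𝒴.p.IsHomLift c.obj.hom (φ.map (pbMap (x := x) rfl c.obj) ≫ b₀) :=
      IsHomLift.comp_lift_id_right' (p := 𝒴.p) c.obj.hom _ (𝒳.p.obj x) b₀
    obtain ⟨bc, ⟨hbc1, hbc2⟩, -⟩ := exists_unique_factor h𝒴 (φ.map (pbMap (x := x'') e c.obj))
      (φ.map (pbMap (x := x) rfl c.obj) ≫ b₀) c.obj.hom (𝟙 _) c.obj.hom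
      (Category.id_comp _).symm l1 l3
    have hpr : 𝒳.p.obj (pbObj (x := x) rfl c.obj) = c.obj.left := pbObj_proj (x := x) rfl c.obj
    obtain ⟨m, hm1, hm2⟩ := exists_preimage_local φ h𝒳 h𝒴 hsub hsurj θ θ'' bc
      (lift_id_of_eq _ hpr.symm hbc1)
    exact ⟨m, lift_id_of_eq _ hpr hm1, by rw [hm2, hbc2]⟩
  choose m hm1 hm2 using hbc
  let β : (Stk.resSieve R 𝒳).obj (pbBased (x := x) rfl) ⟶
      (Stk.resSieve R 𝒳).obj (pbBased (x := x'') e) :=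
    { toNatTrans :=
        { app := m
          naturality := fun c c' n => by
            apply φ.toFunctor.map_injective
            have hn : 𝒳.p.IsHomLift n.hom.left (pbTrans (x := x) rfl n.hom) := inferInstance
            have hn'' : 𝒳.p.IsHomLift n.hom.left (pbTrans (x := x'') e n.hom) := inferInstance
            have q1 : 𝒴.p.IsHomLift n.hom.left (φ.map (pbTrans (x := x) rfl n.hom ≫ m c')) := by
              have := hm1 c'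
              exact map_lift φ _ _
                (IsHomLift.comp_lift_id_right' (p := 𝒳.p) n.hom.left _ c'.obj.left (m c'))
            have q2 : 𝒴.p.IsHomLift n.hom.left (φ.map (m c ≫ pbTrans (x := x'') e n.hom)) := by
              have := hm1 c
              exact map_lift φ _ _
                (IsHomLift.comp_lift_id_left' (p := 𝒳.p) c.obj.left (m c) n.hom.left _)
            have l1 : 𝒴.p.IsHomLift c'.obj.hom (φ.map (pbMap (x := x'') e c'.obj)) :=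
              map_lift φ _ _ inferInstance
            change φ.map (pbTrans (x := x) rfl n.hom ≫ m c') =
              φ.map (m c ≫ pbTrans (x := x'') e n.hom)
            apply cancel_right h𝒴 (φ.map (pbMap (x := x'') e c'.obj)) c'.obj.hom n.hom.left l1 _ _
              q1 q2
            rw [φ.map_comp, Category.assoc, hm2 c', ← Category.assoc, ← φ.map_comp,
              pbTrans_fac, φ.map_comp, Category.assoc, ← φ.map_comp, pbTrans_fac, hm2 c] }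
      isHomLift' := fun c => hm1 c }
  haveI : (Stk.resSieve R 𝒳).IsEquivalence := hst𝒳.2 R hRJ
  haveI : (Stk.resSieve R 𝒴).IsEquivalence := hst𝒴.2 R hRJ
  obtain ⟨α, hα⟩ : ∃ α : pbBased (x := x) rfl ⟶ pbBased (x := x'') e,
      (Stk.resSieve R 𝒳).map α = β := ⟨_, (Stk.resSieve R 𝒳).map_preimage β⟩
  have hαc : ∀ c : (Stk.sieveCat R).obj, α.toNatTrans.app c.obj = m c := fun c =>
    congrArg (fun t => t.toNatTrans.app c) hα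
  haveI := pbMap_id_isIso (x := x) rfl
  have t1 : 𝒳.p.IsHomLift (𝟙 (𝒳.p.obj x)) (pbMap (x := x) rfl (Over.mk (𝟙 _))) :=
    pbMap_id_lift (x := x) rfl
  have t2 : 𝒳.p.IsHomLift (𝟙 (𝒳.p.obj x)) (inv (pbMap (x := x) rfl (Over.mk (𝟙 _)))) :=
    inferInstance
  have t3 : 𝒳.p.IsHomLift (𝟙 (𝒳.p.obj x)) (pbMap (x := x'') e (Over.mk (𝟙 _))) :=
    pbMap_id_lift (x := x'') e
  have t4 : 𝒳.p.IsHomLift (𝟙 (𝒳.p.obj x)) (α.toNatTrans.app (Over.mk (𝟙 _))) :=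
    app_lift α (Over.mk (𝟙 _))
  refine ⟨inv (pbMap (x := x) rfl (Over.mk (𝟙 _))) ≫ α.toNatTrans.app (Over.mk (𝟙 _)) ≫
    pbMap (x := x'') e (Over.mk (𝟙 _)), inferInstance, ?_⟩
  have k1 : 𝒴.p.IsHomLift (𝟙 (𝒳.p.obj x)) (φ.map (inv (pbMap (x := x) rfl (Over.mk (𝟙 _))) ≫
      α.toNatTrans.app (Over.mk (𝟙 _)) ≫ pbMap (x := x'') e (Over.mk (𝟙 _)))) :=
    map_lift φ _ _ inferInstance
  refine Groth.Agent.Lib.Helper24.StkLocal.hom_ext_of_locally_eq h𝒴 R inferInstance _ _ k1 hb₀ ?_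
  intro V f₀ hf₀
  let c : (Stk.sieveCat R).obj := ⟨Over.mk f₀, hf₀⟩
  have lc : 𝒴.p.IsHomLift f₀ (φ.map (pbMap (x := x) rfl c.obj)) :=
    map_lift φ _ _ (inferInstanceAs (𝒳.p.IsHomLift c.obj.hom (pbMap (x := x) rfl c.obj)))
  refine ⟨φ.obj (pbObj (x := x) rfl c.obj), φ.map (pbMap (x := x) rfl c.obj), lc, ?_⟩
  have nat := α.toNatTrans.naturality (tOf c.obj)
  change pbTrans (x := x) rfl (tOf c.obj) ≫ _ = _ ≫ pbTrans (x := x'') e (tOf c.obj) at nat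
  have fac := pbTrans_fac (x := x) rfl (tOf c.obj)
  have fac'' := pbTrans_fac (x := x'') e (tOf c.obj)
  have key : pbMap (x := x) rfl c.obj ≫ inv (pbMap (x := x) rfl (Over.mk (𝟙 _))) ≫
      α.toNatTrans.app (Over.mk (𝟙 _)) ≫ pbMap (x := x'') e (Over.mk (𝟙 _)) =
      m c ≫ pbMap (x := x'') e c.obj := by
    rw [← fac, Category.assoc, IsIso.hom_inv_id_assoc, ← Category.assoc, nat, Category.assoc,
      fac'', hαc]
  rw [← φ.map_comp, key, φ.map_comp, hm2 c]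

theorem full_of_aut_surjective (hst𝒳 : Stk.IsStack J 𝒳) (hst𝒴 : Stk.IsStack J 𝒴)
    (hG : Gerb.IsGerbeOver J (FibCat.toSelf 𝒳))
    (hne : ∀ V : C, Nonempty (V ⟶ 𝒳.p.obj s))
    (hsub : ∀ (V : C) (f f' : V ⟶ 𝒳.p.obj s), f = f')
    (hsurj : ∀ (x : 𝒳.obj) (c : x ⟶ s), Function.Surjective (Gerb.autMap φ x))
    [φ.toFunctor.Faithful] : φ.toFunctor.Full := by
  have h𝒳 := hst𝒳.1
  have h𝒴 := hst𝒴.1
  constructor
  intro x x' b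
  obtain ⟨x'', c, hc⟩ := h𝒳.exists_lift (x := x') (𝒴.p.map b ≫ eqToHom (φ.w_obj x'))
  have hb : 𝒴.p.IsHomLift (𝒴.p.map b ≫ eqToHom (φ.w_obj x')) b := inferInstance
  have hφc : 𝒴.p.IsHomLift (𝒴.p.map b ≫ eqToHom (φ.w_obj x')) (φ.map c) := map_lift φ _ _ hc
  obtain ⟨b₀, ⟨hb01, hb02⟩, -⟩ := exists_unique_factor h𝒴 (φ.map c) b
    (𝒴.p.map b ≫ eqToHom (φ.w_obj x')) (𝟙 _) (𝒴.p.map b ≫ eqToHom (φ.w_obj x'))
    (Category.id_comp _).symm hφc hb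
  have hb01' : 𝒴.p.IsHomLift (𝟙 (𝒳.p.obj x)) b₀ := lift_id_of_eq _ (φ.w_obj x) hb01
  obtain ⟨m₀, -, hm₀⟩ := exists_preimage_fibre J φ hst𝒳 hst𝒴 hG hne hsub hsurj x x'' b₀ hb01'
  exact ⟨m₀ ≫ c, by rw [φ.map_comp, hm₀, hb02]⟩

end Full

section Factor
universe v₄ u₄
variable {𝒟 : BasedCategory.{v₄, u₄} C} (F : 𝒳 ⥤ᵇ 𝒴) [F.toFunctor.Full] [F.toFunctor.Faithful]
  (H : 𝒟 ⥤ᵇ 𝒴)
  (h : ∀ d : 𝒟.obj, ∃ (x : 𝒳.obj) (e : F.obj x ≅ H.obj d), 𝒴.p.IsHomLift (𝟙 (𝒟.p.obj d)) e.hom)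

def xOf (d : 𝒟.obj) : 𝒳.obj := (h d).choose
def eOf (d : 𝒟.obj) : F.obj (xOf F H h d) ≅ H.obj d := (h d).choose_spec.choose
lemma eOf_lift (d : 𝒟.obj) : 𝒴.p.IsHomLift (𝟙 (𝒟.p.obj d)) (eOf F H h d).hom :=
  (h d).choose_spec.choose_spec
lemma eOf_inv_lift (d : 𝒟.obj) : 𝒴.p.IsHomLift (𝟙 (𝒟.p.obj d)) (eOf F H h d).inv := by
  have := eOf_lift F H h d
  exact IsHomLift.lift_id_inv (p := 𝒴.p) _ (eOf F H h d)

def gMap {d d' : 𝒟.obj} (m : d ⟶ d') : xOf F H h d ⟶ xOf F H h d' :=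
  F.toFunctor.preimage ((eOf F H h d).hom ≫ H.map m ≫ (eOf F H h d').inv)

lemma map_gMap {d d' : 𝒟.obj} (m : d ⟶ d') :
    F.map (gMap F H h m) = (eOf F H h d).hom ≫ H.map m ≫ (eOf F H h d').inv :=
  F.toFunctor.map_preimage _

lemma gMap_lift {d d' : 𝒟.obj} (m : d ⟶ d') : 𝒳.p.IsHomLift (𝒟.p.map m) (gMap F H h m) := by
  rw [← BasedFunctor.isHomLift_iff F, map_gMap]
  have h1 := eOf_lift F H h d
  have h2 := eOf_inv_lift F H h d'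
  have h3 : 𝒴.p.IsHomLift (𝒟.p.map m) (H.map m) := inferInstance
  have h4 : 𝒴.p.IsHomLift (𝒟.p.map m) (H.map m ≫ (eOf F H h d').inv) :=
    IsHomLift.comp_lift_id_right' (p := 𝒴.p) (𝒟.p.map m) (H.map m) (𝒟.p.obj d') _
  exact IsHomLift.comp_lift_id_left' (p := 𝒴.p) (𝒟.p.obj d) (eOf F H h d).hom (𝒟.p.map m) _

/-- a functor whose values lie in the essential image of a fully faithful functor factors -/
def factor : 𝒟 ⥤ᵇ 𝒳 where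
  toFunctor :=
    { obj := xOf F H h
      map := fun m => gMap F H h m
      map_id := fun d => by
        apply F.toFunctor.map_injective
        rw [map_gMap]; simp
      map_comp := fun m n => by
        apply F.toFunctor.map_injective
        rw [map_gMap, F.toFunctor.map_comp, map_gMap, map_gMap]; simp }
  w := by
    refine CategoryTheory.Functor.ext (fun d => ?_) (fun d d' m => ?_)
    · have := gMap_lift F H h (𝟙 d)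
      exact IsHomLift.domain_eq 𝒳.p (𝒟.p.map (𝟙 d)) (gMap F H h (𝟙 d))
    · have := gMap_lift F H h m
      exact IsHomLift.fac' 𝒳.p (𝒟.p.map m) (gMap F H h m)

def factorIso : BasedFunctor.comp (factor F H h) F ≅ H :=
  BasedNatIso.mkNatIso
    (NatIso.ofComponents (fun d => eOf F H h d) (fun {d d'} m => by
      change F.map (gMap F H h m) ≫ (eOf F H h d').hom = (eOf F H h d).hom ≫ H.map m
      rw [map_gMap]; simp))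
    (fun d => eOf_lift F H h d)

end Factor

section EssSurj
variable (J : GrothendieckTopology C) (φ : 𝒳 ⥤ᵇ 𝒴) {s : 𝒳.obj}
open Groth.Agent.Lib.Helper24.StkEquiv

theorem exists_liftData (hst𝒳 : Stk.IsStack J 𝒳) (hst𝒴 : Stk.IsStack J 𝒴)
    (hG𝒴 : Gerb.IsGerbeOver J (FibCat.toSelf 𝒴))
    (hne : ∀ V : C, Nonempty (V ⟶ 𝒳.p.obj s))
    [φ.toFunctor.Full] [φ.toFunctor.Faithful] (η : 𝒴.obj) :
    ∃ (ξ : 𝒳.obj) (e : φ.obj ξ ≅ η), 𝒴.p.IsHomLift (𝟙 (𝒴.p.obj η)) e.hom := by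
  have h𝒳 := hst𝒳.1
  have h𝒴 := hst𝒴.1
  haveI : 𝒴.p.IsFibered := isFibered_of_isFibGrpd 𝒴.p h𝒴
  have hne' : ∀ V : C, Nonempty (V ⟶ 𝒴.p.obj (φ.obj s)) := fun V => by
    rw [φ.w_obj]; exact hne V
  obtain ⟨R, hR⟩ : ∃ R : Sieve (𝒴.p.obj η), R = locSieve h𝒴 (φ.obj s) η := ⟨_, rfl⟩
  have hRJ : R ∈ J (𝒴.p.obj η) := by
    rw [hR]; exact locSieve_mem J h𝒴 hG𝒴 hne' η
  have hRa : ∀ ⦃V : C⦄ (f : V ⟶ 𝒴.p.obj η), R f → (locSieve h𝒴 (φ.obj s) η) f := by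
    rw [hR]; intro V f h; exact h
  obtain ⟨H, hHdef⟩ : ∃ H : Stk.sieveCat R ⥤ᵇ 𝒴,
      H = (Stk.resSieve R 𝒴).obj (pbBased (x := η) rfl) := ⟨_, rfl⟩
  have hH : ∀ c : (Stk.sieveCat R).obj, ∃ (x : 𝒳.obj) (e : φ.obj x ≅ H.obj c),
      𝒴.p.IsHomLift (𝟙 ((Stk.sieveCat R).p.obj c)) e.hom := by
    intro c
    subst hHdef
    obtain ⟨θ⟩ := pb_toX' h𝒴 rfl c.obj (hRa _ c.property)
    obtain ⟨sc, cc, hcc⟩ := h𝒳.exists_lift (x := s) (𝒴.p.map θ ≫ eqToHom (φ.w_obj s))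
    have l1 : 𝒴.p.IsHomLift (𝒴.p.map θ ≫ eqToHom (φ.w_obj s)) (φ.map cc) := map_lift φ _ _ hcc
    have l2 : 𝒴.p.IsHomLift (𝒴.p.map θ ≫ eqToHom (φ.w_obj s)) θ := inferInstance
    obtain ⟨ι, ⟨hι1, hι2⟩, -⟩ := exists_unique_factor h𝒴 (φ.map cc) θ
      (𝒴.p.map θ ≫ eqToHom (φ.w_obj s)) (𝟙 _) (𝒴.p.map θ ≫ eqToHom (φ.w_obj s))
      (Category.id_comp _).symm l1 l2
    haveI : IsIso ι :=
      isIso_of_isFibGrpd 𝒴.p h𝒴 (𝟙 (𝒴.p.obj (pbObj (x := η) rfl c.obj))) ι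
    have hpr : 𝒴.p.obj (pbObj (x := η) rfl c.obj) = c.obj.left := pbObj_proj (x := η) rfl c.obj
    have hinv : 𝒴.p.IsHomLift (𝟙 (𝒴.p.obj (pbObj (x := η) rfl c.obj))) (inv ι) := inferInstance
    exact ⟨sc, (asIso ι).symm, lift_id_of_eq _ hpr hinv⟩
  let H' : Stk.sieveCat R ⥤ᵇ 𝒳 := factor φ H hH
  let i : BasedFunctor.comp H' φ ≅ H := factorIso φ H hH
  haveI : (Stk.resSieve R 𝒳).IsEquivalence := hst𝒳.2 R hRJ
  haveI : (Stk.resSieve R 𝒴).IsEquivalence := hst𝒴.2 R hRJ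
  obtain ⟨G, ⟨k⟩⟩ : ∃ G : FibCat.overCat (𝒴.p.obj η) ⥤ᵇ 𝒳,
      Nonempty ((Stk.resSieve R 𝒳).obj G ≅ H') :=
    ⟨(Stk.resSieve R 𝒳).objPreimage H', ⟨(Stk.resSieve R 𝒳).objObjPreimageIso H'⟩⟩
  let j' : (Stk.resSieve R 𝒴).obj (BasedFunctor.comp G φ) ⟶
      (Stk.resSieve R 𝒴).obj (pbBased (x := η) rfl) :=
    (postcompF (Stk.sieveCat R) φ).map k.hom ≫ i.hom ≫ eqToHom hHdef
  let j : BasedFunctor.comp G φ ⟶ pbBased (x := η) rfl := (Stk.resSieve R 𝒴).preimage j'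
  have t1 : 𝒴.p.IsHomLift (𝟙 (𝒴.p.obj η)) (j.toNatTrans.app (Over.mk (𝟙 _))) :=
    app_lift j (Over.mk (𝟙 _))
  have t2 : 𝒴.p.IsHomLift (𝟙 (𝒴.p.obj η)) (pbMap (x := η) rfl (Over.mk (𝟙 _))) :=
    pbMap_id_lift (x := η) rfl
  have t3 : 𝒴.p.IsHomLift (𝟙 (𝒴.p.obj η))
      (j.toNatTrans.app (Over.mk (𝟙 _)) ≫ pbMap (x := η) rfl (Over.mk (𝟙 _))) := inferInstance
  haveI : IsIso (j.toNatTrans.app (Over.mk (𝟙 _)) ≫ pbMap (x := η) rfl (Over.mk (𝟙 _))) :=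
    isIso_of_isFibGrpd 𝒴.p h𝒴 (𝟙 (𝒴.p.obj η)) _
  exact ⟨G.obj (Over.mk (𝟙 _)),
    asIso (j.toNatTrans.app (Over.mk (𝟙 _)) ≫ pbMap (x := η) rfl (Over.mk (𝟙 _))), t3⟩

theorem isEquivOver_of_aut_bijective (hst𝒳 : Stk.IsStack J 𝒳) (hst𝒴 : Stk.IsStack J 𝒴)
    (hG𝒳 : Gerb.IsGerbeOver J (FibCat.toSelf 𝒳)) (hG𝒴 : Gerb.IsGerbeOver J (FibCat.toSelf 𝒴))
    (hne : ∀ V : C, Nonempty (V ⟶ 𝒳.p.obj s))
    (hsub : ∀ (V : C) (f f' : V ⟶ 𝒳.p.obj s), f = f')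
    (hbij : ∀ (x : 𝒳.obj) (c : x ⟶ s), Function.Bijective (Gerb.autMap φ x)) :
    FibCat.IsEquivOver φ := by
  haveI : φ.toFunctor.Faithful :=
    faithful_of_aut_injective J φ hst𝒳 hst𝒴.1 hG𝒳 hne (fun x c => (hbij x c).1)
  haveI : φ.toFunctor.Full :=
    full_of_aut_surjective J φ hst𝒳 hst𝒴 hG𝒳 hne hsub (fun x c => (hbij x c).2)
  choose ξ e he using exists_liftData J φ hst𝒳 hst𝒴 hG𝒴 hne
  exact Groth.Agent.Lib.Helper24.FibCatEquiv.isEquivOver_of_liftData ⟨ξ, e, he⟩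

end EssSurj

end Groth.Agent.Lib.Helper24.GerbEquiv
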