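import Groth.Agent.Lib.Helper24.AlgStLocQ12
import Groth.Agent.Lib.Helper24.GerbFormal
import Groth.Agent.Lib.Helper24.FibCatYoneda
set_option autoImplicit false
open CategoryTheory AlgebraicGeometry Opposite
universe u
set_option backward.isDefEq.respectTransparency false
set_option backward.isDefEq.respectTransparency.types false

/-! Surjective, flat, locally finitely presented morphisms of algebraic stacks are locally
surjective on objects for the fppf topology; descent of gerbes along them. -/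

namespace Groth.Agent.Lib.Helper24.GerbFppf
open Groth.Agent.Lib.Helper24.FibGrpd Groth.Agent.Lib.Helper24.FibCatYoneda
open Groth.Agent.Lib.Helper24.AlgStLocQ12 Groth.Agent.Lib.Helper14.AS
open CategoryTheory.Limits AlgSt

variable {S : Scheme.{u}}

theorem locSurjObj_of_fppf {𝒴' 𝒴 : AlgSt.Cat S}
    (h𝒴' : AlgSt.IsAlgStack Scheme.fppfPrecoverage 𝒴')
    (h𝒴 : AlgSt.IsAlgStack Scheme.fppfPrecoverage 𝒴) (g : 𝒴' ⥤ᵇ 𝒴)
    (hg₁ : AlgSt.IsSurjective g) (hg₂ : AlgSt.LocQ (AlgSp.LocP @Flat) g)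
    (hg₃ : AlgSt.LocQ (AlgSp.LocP @LocallyOfFinitePresentation) g) :
    Gerb.LocSurjObj (QuotSh.J Scheme.fppfPrecoverage S) g := by
  intro y
  have hY := h𝒴.isStack.1
  have : 𝒴.p.IsFibered := isFibered_of_isFibGrpd 𝒴.p hY
  obtain ⟨U, hU⟩ : ∃ U, 𝒴.p.obj y = U := ⟨_, rfl⟩
  let yb := pbBased hU
  obtain ⟨ι, V, gi, c, hcov, hx⟩ := exists_fppf_lifts h𝒴 PUnit.{u+1} (fun _ => 𝒴')
    (fun _ => h𝒴') (fun _ => g) (fun _ => hg₂) (fun _ => hg₃)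
    (fun p => ⟨PUnit.unit, hg₁ p⟩) U yb
  choose x' hx' using hx
  have hKS : Presieve.ofArrows V gi ∈ KS S U := by
    rw [Precoverage.mem_comap_iff, Presieve.map_ofArrows]
    exact hcov
  have hR : Sieve.generate (Presieve.ofArrows V gi) ∈ AlgSp.J S U := by
    rw [J_eq_toGrothendieck]
    exact Precoverage.generate_mem_toGrothendieck hKS
  rw [hU]
  refine ⟨_, hR, ?_⟩
  rintro V' f ⟨W, k, l, ⟨i⟩, rfl⟩
  obtain ⟨α⟩ := hx' i
  refine ⟨(x' i).obj (Over.mk k), α.hom.toNatTrans.app (Over.mk k) ≫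
    pbMap hU (Over.mk (k ≫ gi i)), ?_⟩
  have h1 : 𝒴.p.IsHomLift (𝟙 V') (α.hom.toNatTrans.app (Over.mk k)) :=
    app_lift α.hom (Over.mk k)
  have h2 : 𝒴.p.IsHomLift (k ≫ gi i) (pbMap hU (Over.mk (k ≫ gi i))) :=
    (pbMap_isStronglyCartesian hU (Over.mk (k ≫ gi i))).toIsHomLift
  have : 𝒴.p.IsHomLift (𝟙 V' ≫ k ≫ gi i)
      (α.hom.toNatTrans.app (Over.mk k) ≫ pbMap hU (Over.mk (k ≫ gi i))) := inferInstance
  rwa [Category.id_comp] at this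

/-- S16865 -/
theorem isGerbeOver_of_fpFst_fppf {𝒳 𝒴 𝒴' : AlgSt.Cat S}
    (h𝒳 : AlgSt.IsAlgStack Scheme.fppfPrecoverage 𝒳) (h𝒴 : AlgSt.IsAlgStack Scheme.fppfPrecoverage 𝒴)
    (h𝒴' : AlgSt.IsAlgStack Scheme.fppfPrecoverage 𝒴')
    (f : 𝒳 ⥤ᵇ 𝒴) (g : 𝒴' ⥤ᵇ 𝒴)
    (hg₁ : AlgSt.IsSurjective g) (hg₂ : AlgSt.LocQ (AlgSp.LocP @Flat) g)
    (hg₃ : AlgSt.LocQ (AlgSp.LocP @LocallyOfFinitePresentation) g)
    (h : Gerb.IsGerbeOver (QuotSh.J Scheme.fppfPrecoverage S) (FibCat.fpFst g f)) :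
    Gerb.IsGerbeOver (QuotSh.J Scheme.fppfPrecoverage S) f :=
  Groth.Agent.Lib.Helper24.GerbFormal.isGerbeOver_of_fpFst _ h𝒳.isStack.1 h𝒴.isStack.1 f g
    (locSurjObj_of_fppf h𝒴' h𝒴 g hg₁ hg₂ hg₃) h

end Groth.Agent.Lib.Helper24.GerbFppf
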