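import Groth.Agent.Lib.Helper24.GerbFormal
import Groth.Agent.Lib.Helper24.GerbCoarse
import Groth.Agent.Lib.Helper24.AlgStUniv2
import Groth.Agent.Lib.Helper24.AlgStPts7
set_option autoImplicit false
set_option linter.unusedSectionVars false
set_option linter.unusedSimpArgs false
set_option linter.style.haveILetI false
set_option linter.unusedVariables false
universe u
set_option backward.isDefEq.respectTransparency false
set_option backward.isDefEq.respectTransparency.types false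

/-! A gerbe morphism of categories fibred in groupoids is bijective on points. -/

namespace Groth.Agent.Lib.Helper24.GerbHomeo1
open CategoryTheory CategoryTheory.Limits AlgebraicGeometry Opposite AlgSt
open Groth.Agent.Lib.Helper24.FibCatFpMap Groth.Agent.Lib.Helper24.FibCatEquiv
open Groth.Agent.Lib.Helper24.FibGrpd Groth.Agent.Lib.Helper24.FibCatFpGen
open Groth.Agent.Lib.Helper24.GerbFormal Groth.Agent.Lib.Helper24.GerbCoarse
open Groth.Agent.Lib.Helper24.AlgStPts1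

variable {S : Scheme.{u}}

/-- every field-valued point of a category fibred in groupoids is dominated by a point with values
in an algebraically closed field -/
lemma exists_algClosed_pt {𝒜 : AlgSt.Cat S} (h𝒜 : FibCat.IsFibGrpd 𝒜.p) (q : FPt 𝒜) :
    ∃ (Ω : Type u) (_ : Field Ω) (_ : IsAlgClosed Ω) (t : Spec (CommRingCat.of Ω) ⟶ S)
      (s : 𝒜.obj) (_ : 𝒜.p.obj s = Over.mk t) (_ : s ⟶ q.obj), True := by
  let Ω := AlgebraicClosure q.K
  let a : Spec (CommRingCat.of Ω) ⟶ Spec (CommRingCat.of q.K) :=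
    Spec.map (CommRingCat.ofHom (algebraMap q.K Ω))
  let t : Spec (CommRingCat.of Ω) ⟶ S := a ≫ q.str
  let k : Over.mk t ⟶ Over.mk q.str := Over.homMk a rfl
  obtain ⟨s, c, hc⟩ := exists_lift' h𝒜 k q.obj q.lies
  exact ⟨Ω, inferInstance, inferInstance, t, s, IsHomLift.domain_eq 𝒜.p k c, c, trivial⟩

variable {𝒳 𝒴 : AlgSt.Cat S}

theorem isSurjective_of_locSurjObj (h𝒴 : FibCat.IsFibGrpd 𝒴.p) (f : 𝒳 ⥤ᵇ 𝒴)
    (hf : Gerb.LocSurjObj (AlgSp.J S) f) : AlgSt.IsSurjective f := by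
  intro y₀
  obtain ⟨q, rfl⟩ := Points.mk_surjective y₀
  obtain ⟨Ω, _, _, t, s, hs, c, -⟩ := exists_algClosed_pt h𝒴 q
  obtain ⟨x, ⟨e⟩⟩ := exists_fib_of_locSurjObj f h𝒴 hf (jPoint_of_isAlgClosed t) ⟨s, hs⟩
  let p : FPt 𝒳 := { K := Ω, str := t, obj := x.1, lies := x.2 }
  refine ⟨Points.mk p, ?_⟩
  exact Points.sound ⟨p.map f, 𝟙 _, e.hom.1 ≫ c, trivial⟩

theorem isSurjective_diag_of_locSurjHom (h𝒳 : FibCat.IsFibGrpd 𝒳.p) (h𝒴 : FibCat.IsFibGrpd 𝒴.p)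
    (f : 𝒳 ⥤ᵇ 𝒴) (hf : Gerb.LocSurjHom (AlgSp.J S) f) : AlgSt.IsSurjective (FibCat.diag f) := by
  intro w₀
  obtain ⟨q, rfl⟩ := Points.mk_surjective w₀
  have hff : FibCat.IsFibGrpd (FibCat.fp f f).p := isFibGrpd_fp f f h𝒳 h𝒳 h𝒴
  obtain ⟨Ω, _, _, t, s, hs, c, -⟩ := exists_algClosed_pt hff q
  -- s = (x, x', b) over Ω
  have hs1 : 𝒳.p.obj s.obj.fst = Over.mk t := hs
  have hb : 𝒴.p.IsHomLift (𝟙 (Over.mk t)) s.obj.iso.hom := by
    rw [← hs1]; exact iso_isHomLift f f s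
  obtain ⟨R, hR, hloc⟩ := locSurjHom_at (AlgSp.J S) hf s.obj.fst s.obj.snd hs1 s.obj.iso.hom hb
  obtain ⟨x₀, φ, ψ, hφ, hψ, hc⟩ := hloc (𝟙 _) (jPoint_of_isAlgClosed t R hR)
  have hx₀ : 𝒳.p.obj x₀ = Over.mk t := IsHomLift.domain_eq 𝒳.p (𝟙 (Over.mk t)) φ
  let p : FPt 𝒳 := { K := Ω, str := t, obj := x₀, lies := hx₀ }
  refine ⟨Points.mk p, ?_⟩
  let m : (FibCat.diag f).obj x₀ ⟶ s :=
    mkHom (x := (FibCat.diag f).obj x₀) (y := s) φ ψ (by
      change f.toFunctor.map φ ≫ s.obj.iso.hom = 𝟙 _ ≫ f.toFunctor.map ψ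
      rw [Category.id_comp]; exact hc)
  exact Points.sound ⟨p.map (FibCat.diag f), 𝟙 _, m ≫ c, trivial⟩

theorem bijective_map_of_isGerbeOver (h𝒳 : FibCat.IsFibGrpd 𝒳.p) (h𝒴 : FibCat.IsFibGrpd 𝒴.p)
    (f : 𝒳 ⥤ᵇ 𝒴) (hf : Gerb.IsGerbeOver (AlgSp.J S) f) : Function.Bijective (Points.map f) :=
  ⟨Groth.Agent.Lib.Helper24.AlgStUniv2.injective_map_of_isSurjective_diag h𝒳 h𝒴 f
    (isSurjective_diag_of_locSurjHom h𝒳 h𝒴 f hf.2), isSurjective_of_locSurjObj h𝒴 f hf.1⟩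

end Groth.Agent.Lib.Helper24.GerbHomeo1
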