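import Mathlib
import Groth.Prelude.Def_AlgSt
import Groth.Agent.Lib.Helper24.FibCatYoneda
import Groth.Agent.Lib.Helper24.FibCatTwoCart
import Groth.Agent.Lib.Helper24.FibCatFp
set_option autoImplicit false
set_option linter.unusedSectionVars false
set_option linter.unusedVariables false
set_option backward.isDefEq.respectTransparency false
set_option backward.isDefEq.respectTransparency.types false
open CategoryTheory CategoryTheory.Limits Opposite
universe u v u₂ v₂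

/-! The presheaf of morphisms `y₁(c) ⟶ x₂` over `c`, for a functor `y₁ : C/U ⟶ 𝒳` over `C` and an
object `x₂` of `𝒳`: the fibre of the diagonal. -/

namespace Groth.Agent.Lib.Helper24.IsomPsh
open Groth.Agent.Lib.Helper24.FibCatFpGen Groth.Agent.Lib.Helper24.FibGrpd
open Groth.Agent.Lib.Helper24.FibCatRepDiag Groth.Agent.Lib.Helper24.FibCatYoneda

variable {C : Type u} [Category.{v} C] {𝒳 : BasedCategory.{v₂, u₂} C} {U : C}
  (y₁ : FibCat.overCat U ⥤ᵇ 𝒳) (x₂ : 𝒳.obj)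

/-- a section over `T`: a morphism `c : T ⟶ U` and a morphism `y₁(c) ⟶ x₂` over `c` -/
structure HSec (T : C) : Type (max v v₂) where
  c : T ⟶ U
  h : y₁.toFunctor.obj (Over.mk c) ⟶ x₂
  lift : 𝒳.p.IsHomLift c h

/-- the transition morphism of the slice -/
abbrev kHom {T T' : C} (k : T' ⟶ T) (c : T ⟶ U) (c' : T' ⟶ U) (e : k ≫ c = c') :
    Over.mk c' ⟶ Over.mk c := Over.homMk k e

variable {y₁ x₂}

lemma map_kHom_lift {T T' : C} (k : T' ⟶ T) (c : T ⟶ U) (c' : T' ⟶ U) (e : k ≫ c = c') :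
    𝒳.p.IsHomLift k (y₁.toFunctor.map (kHom k c c' e)) :=
  map_lift y₁ _ _ (over_lift_self (kHom k c c' e))

lemma HSec.ext' {T : C} {a b : HSec y₁ x₂ T} (hc : a.c = b.c)
    (hh : y₁.toFunctor.map (kHom (𝟙 T) b.c a.c (by rw [Category.id_comp, hc])) ≫ b.h = a.h) :
    a = b := by
  obtain ⟨c, h, l⟩ := a
  obtain ⟨c', h', l'⟩ := b
  dsimp only at hc
  subst hc
  have e : kHom (𝟙 T) c c (Category.id_comp c) = 𝟙 (Over.mk c) := Over.OverMorphism.ext rfl
  dsimp only at hh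
  rw [e, CategoryTheory.Functor.map_id, Category.id_comp] at hh
  subst hh
  rfl

/-- restriction of sections -/
def HSec.map {T T' : C} (k : T' ⟶ T) (a : HSec y₁ x₂ T) : HSec y₁ x₂ T' where
  c := k ≫ a.c
  h := y₁.toFunctor.map (kHom k a.c _ rfl) ≫ a.h
  lift := comp_lift 𝒳.p k a.c _ _ (map_kHom_lift k a.c _ rfl) a.lift

lemma HSec.map_eq_iff {T T' : C} (k : T' ⟶ T) (a : HSec y₁ x₂ T) (b : HSec y₁ x₂ T') :
    HSec.map k a = b ↔ ∃ e : k ≫ a.c = b.c, y₁.toFunctor.map (kHom k a.c b.c e) ≫ a.h = b.h := by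
  constructor
  · rintro rfl
    exact ⟨rfl, rfl⟩
  · rintro ⟨e, he⟩
    refine HSec.ext' e ?_
    rw [← he]
    change y₁.toFunctor.map _ ≫ y₁.toFunctor.map _ ≫ a.h = y₁.toFunctor.map _ ≫ a.h
    rw [← Category.assoc, ← Functor.map_comp]
    congr 2
    apply Over.OverMorphism.ext
    exact Category.id_comp k

lemma HSec.map_id {T : C} (a : HSec y₁ x₂ T) : HSec.map (𝟙 T) a = a := by
  rw [HSec.map_eq_iff]
  refine ⟨Category.id_comp _, ?_⟩
  have e : kHom (𝟙 T) a.c a.c (Category.id_comp a.c) = 𝟙 (Over.mk a.c) :=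
    Over.OverMorphism.ext rfl
  rw [e, CategoryTheory.Functor.map_id, Category.id_comp]

lemma HSec.map_comp {T T' T'' : C} (k' : T'' ⟶ T') (k : T' ⟶ T) (a : HSec y₁ x₂ T) :
    HSec.map (k' ≫ k) a = HSec.map k' (HSec.map k a) := by
  rw [HSec.map_eq_iff]
  refine ⟨Category.assoc _ _ _, ?_⟩
  change _ = y₁.toFunctor.map _ ≫ y₁.toFunctor.map _ ≫ a.h
  rw [← Category.assoc, ← Functor.map_comp]
  congr 2

variable (y₁ x₂)

/-- the presheaf of morphisms from the values of `y₁` to `x₂` -/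
def homPsh : Cᵒᵖ ⥤ Type (max v v₂) where
  obj T := HSec y₁ x₂ T.unop
  map k := ↾(HSec.map k.unop)
  map_id T := by
    ext a
    exact HSec.map_id a
  map_comp k k' := by
    ext a
    exact HSec.map_comp k'.unop k.unop a

@[simp] lemma homPsh_map_apply {T T' : Cᵒᵖ} (k : T ⟶ T') (a : HSec y₁ x₂ T.unop) :
    (homPsh y₁ x₂).map k a = HSec.map k.unop a := rfl

end Groth.Agent.Lib.Helper24.IsomPsh
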