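import Mathlib
import Groth.Agent.Lib.Helper24.IsomPsh1
set_option autoImplicit false
set_option linter.unusedSectionVars false
set_option linter.unusedVariables false
set_option backward.isDefEq.respectTransparency false
set_option backward.isDefEq.respectTransparency.types false
open CategoryTheory CategoryTheory.Limits Opposite
universe u v u₂ v₂

/-! The category of the presheaf of morphisms is the fibre of the diagonal. -/

namespace Groth.Agent.Lib.Helper24.IsomPsh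
open Groth.Agent.Lib.Helper24.FibCatFpGen Groth.Agent.Lib.Helper24.FibGrpd
open Groth.Agent.Lib.Helper24.FibCatRepDiag Groth.Agent.Lib.Helper24.FibCatYoneda

variable {C : Type u} [Category.{v} C] {𝒳 : BasedCategory.{v₂, u₂} C} {U : C}
  (h𝒳 : FibCat.IsFibGrpd 𝒳.p)
  (y : FibCat.overCat U ⥤ᵇ FibCatFp.P 𝒳 𝒳)

/-- first component -/
abbrev yy₁ : FibCat.overCat U ⥤ᵇ 𝒳 := BasedFunctor.comp y (FibCat.fpFst _ _)
/-- second component -/
abbrev yy₂ : FibCat.overCat U ⥤ᵇ 𝒳 := BasedFunctor.comp y (FibCat.fpSnd _ _)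
/-- the second object -/
abbrev xx₂ : 𝒳.obj := (yy₂ y).toFunctor.obj (Over.mk (𝟙 U))
/-- the presheaf of isomorphisms -/
abbrev II : Cᵒᵖ ⥤ Type (max v v₂) := homPsh (yy₁ y) (xx₂ y)

lemma sec_c_comp {w w' : (Stk.ofPsh (II y)).obj} (m : w ⟶ w') : m.hom ≫ w'.sec.c = w.sec.c :=
  congrArg HSec.c m.map_sec

lemma sec_h_comp {w w' : (Stk.ofPsh (II y)).obj} (m : w ⟶ w') :
    (yy₁ y).toFunctor.map (kHom m.hom w'.sec.c w.sec.c (sec_c_comp y m)) ≫ w'.sec.h = w.sec.h := by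
  obtain ⟨e, he⟩ := (HSec.map_eq_iff m.hom w'.sec w.sec).1 m.map_sec
  exact he

/-- the first projection -/
def aFun : Stk.ofPsh (II y) ⥤ᵇ FibCat.overCat U where
  toFunctor :=
    { obj := fun w => Over.mk w.sec.c
      map := fun {w w'} m => kHom m.hom w'.sec.c w.sec.c (sec_c_comp y m)
      map_id := fun w => Over.OverMorphism.ext rfl
      map_comp := fun m m' => Over.OverMorphism.ext rfl }
  w := rfl

lemma aFun_obj (w : (Stk.ofPsh (II y)).obj) : (aFun y).toFunctor.obj w = Over.mk w.sec.c := rfl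

/-- the second projection -/
abbrev bFun : Stk.ofPsh (II y) ⥤ᵇ 𝒳 := BasedFunctor.comp (aFun y) (yy₂ y)

include h𝒳 in
lemma t_scart (c : Over U) :
    𝒳.p.IsStronglyCartesian c.hom ((yy₂ y).toFunctor.map (tOf c)) :=
  cartOnT_of_isFibGrpd h𝒳 (yy₂ y) c

include h𝒳 in
lemma exists_theta (w : (Stk.ofPsh (II y)).obj) :
    ∃ θ : (yy₁ y).toFunctor.obj (Over.mk w.sec.c) ⟶ (yy₂ y).toFunctor.obj (Over.mk w.sec.c),
      𝒳.p.IsHomLift (𝟙 w.base) θ ∧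
        θ ≫ (yy₂ y).toFunctor.map (tOf (Over.mk w.sec.c)) = w.sec.h := by
  have hs : 𝒳.p.IsStronglyCartesian w.sec.c
      ((yy₂ y).toFunctor.map (tOf (Over.mk w.sec.c))) := t_scart h𝒳 y (Over.mk w.sec.c)
  have hl := w.sec.lift
  obtain ⟨χ, ⟨h1, h2⟩, _⟩ := Functor.IsStronglyCartesian.universal_property 𝒳.p w.sec.c
    ((yy₂ y).toFunctor.map (tOf (Over.mk w.sec.c))) (𝟙 w.base) w.sec.c (Category.id_comp _).symm
    w.sec.h
  exact ⟨χ, h1, h2⟩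

/-- the comparison morphism -/
noncomputable def theta (w : (Stk.ofPsh (II y)).obj) :
    (yy₁ y).toFunctor.obj (Over.mk w.sec.c) ⟶ (yy₂ y).toFunctor.obj (Over.mk w.sec.c) :=
  (exists_theta h𝒳 y w).choose

lemma theta_lift (w : (Stk.ofPsh (II y)).obj) : 𝒳.p.IsHomLift (𝟙 w.base) (theta h𝒳 y w) :=
  (exists_theta h𝒳 y w).choose_spec.1

lemma theta_fac (w : (Stk.ofPsh (II y)).obj) :
    theta h𝒳 y w ≫ (yy₂ y).toFunctor.map (tOf (Over.mk w.sec.c)) = w.sec.h :=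
  (exists_theta h𝒳 y w).choose_spec.2

lemma theta_unique (w : (Stk.ofPsh (II y)).obj)
    (θ : (yy₁ y).toFunctor.obj (Over.mk w.sec.c) ⟶ (yy₂ y).toFunctor.obj (Over.mk w.sec.c))
    (h1 : 𝒳.p.IsHomLift (𝟙 w.base) θ)
    (h2 : θ ≫ (yy₂ y).toFunctor.map (tOf (Over.mk w.sec.c)) = w.sec.h) : θ = theta h𝒳 y w := by
  have hs : 𝒳.p.IsStronglyCartesian w.sec.c
      ((yy₂ y).toFunctor.map (tOf (Over.mk w.sec.c))) := t_scart h𝒳 y (Over.mk w.sec.c)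
  have := theta_lift h𝒳 y w
  apply Functor.IsStronglyCartesian.ext 𝒳.p w.sec.c
    ((yy₂ y).toFunctor.map (tOf (Over.mk w.sec.c))) (𝟙 w.base)
  rw [h2, theta_fac]

lemma isIso_theta (w : (Stk.ofPsh (II y)).obj) : IsIso (theta h𝒳 y w) := by
  have := theta_lift h𝒳 y w
  have hs : 𝒳.p.IsStronglyCartesian (𝟙 w.base) (theta h𝒳 y w) :=
    scart_of_isFibGrpd 𝒳.p h𝒳 _ _
  exact Functor.IsStronglyCartesian.isIso_of_base_isIso 𝒳.p (𝟙 w.base) (theta h𝒳 y w)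

/-- the comparison isomorphism -/
noncomputable def thetaIso (w : (Stk.ofPsh (II y)).obj) :
    (yy₁ y).toFunctor.obj (Over.mk w.sec.c) ≅ (yy₂ y).toFunctor.obj (Over.mk w.sec.c) :=
  have := isIso_theta h𝒳 y w
  asIso (theta h𝒳 y w)

lemma thetaIso_hom (w : (Stk.ofPsh (II y)).obj) : (thetaIso h𝒳 y w).hom = theta h𝒳 y w := rfl

/-- component of the 2-isomorphism -/
noncomputable def eApp (w : (Stk.ofPsh (II y)).obj) :
    y.toFunctor.obj ((aFun y).toFunctor.obj w) ≅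
      (Δ 𝒳).toFunctor.obj ((bFun y).toFunctor.obj w) :=
  mkIsoΔ (x := y.toFunctor.obj (Over.mk w.sec.c))
    (s := (yy₂ y).toFunctor.obj (Over.mk w.sec.c)) (R := w.base) (thetaIso h𝒳 y w) (Iso.refl _)
    (theta_lift h𝒳 y w) (IsHomLift.id ((yy₂ y).w_obj (Over.mk w.sec.c)))

lemma eApp_hom_fst (w : (Stk.ofPsh (II y)).obj) : (eApp h𝒳 y w).hom.hom.fst = theta h𝒳 y w := rfl

lemma eApp_hom_snd (w : (Stk.ofPsh (II y)).obj) : (eApp h𝒳 y w).hom.hom.snd = 𝟙 _ := rfl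

lemma eApp_lift (w : (Stk.ofPsh (II y)).obj) :
    (FibCatFp.P 𝒳 𝒳).p.IsHomLift (𝟙 w.base) (eApp h𝒳 y w).hom := by
  rw [FibCatFp.isHomLift_iff_fst]
  exact theta_lift h𝒳 y w

lemma theta_naturality {w w' : (Stk.ofPsh (II y)).obj} (m : w ⟶ w') :
    (yy₁ y).toFunctor.map ((aFun y).toFunctor.map m) ≫ theta h𝒳 y w' =
      theta h𝒳 y w ≫ (yy₂ y).toFunctor.map ((aFun y).toFunctor.map m) := by
  have hs : 𝒳.p.IsStronglyCartesian w'.sec.c
      ((yy₂ y).toFunctor.map (tOf (Over.mk w'.sec.c))) := t_scart h𝒳 y (Over.mk w'.sec.c)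
  have hm1 : 𝒳.p.IsHomLift m.hom ((yy₁ y).toFunctor.map ((aFun y).toFunctor.map m)) :=
    map_kHom_lift (y₁ := yy₁ y) m.hom w'.sec.c w.sec.c (sec_c_comp y m)
  have hm2 : 𝒳.p.IsHomLift m.hom ((yy₂ y).toFunctor.map ((aFun y).toFunctor.map m)) :=
    map_kHom_lift (y₁ := yy₂ y) m.hom w'.sec.c w.sec.c (sec_c_comp y m)
  have h1 : 𝒳.p.IsHomLift m.hom
      ((yy₁ y).toFunctor.map ((aFun y).toFunctor.map m) ≫ theta h𝒳 y w') :=
    comp_id_right 𝒳.p _ _ _ hm1 (theta_lift h𝒳 y w')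
  have h2 : 𝒳.p.IsHomLift m.hom
      (theta h𝒳 y w ≫ (yy₂ y).toFunctor.map ((aFun y).toFunctor.map m)) :=
    comp_id_left 𝒳.p _ _ _ (theta_lift h𝒳 y w) hm2
  apply Functor.IsStronglyCartesian.ext 𝒳.p w'.sec.c
    ((yy₂ y).toFunctor.map (tOf (Over.mk w'.sec.c))) m.hom
  rw [Category.assoc, theta_fac, Category.assoc, ← Functor.map_comp]
  have e : (aFun y).toFunctor.map m ≫ tOf (Over.mk w'.sec.c) = tOf (Over.mk w.sec.c) :=
    map_tOf_comp _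
  rw [e, theta_fac]
  exact sec_h_comp y m

lemma eApp_naturality {w w' : (Stk.ofPsh (II y)).obj} (m : w ⟶ w') :
    y.toFunctor.map ((aFun y).toFunctor.map m) ≫ (eApp h𝒳 y w').hom =
      (eApp h𝒳 y w).hom ≫ (Δ 𝒳).toFunctor.map ((bFun y).toFunctor.map m) := by
  apply FibCatFp.hom_ext'
  · exact theta_naturality h𝒳 y m
  · change (yy₂ y).toFunctor.map ((aFun y).toFunctor.map m) ≫ 𝟙 _ =
      𝟙 _ ≫ (yy₂ y).toFunctor.map ((aFun y).toFunctor.map m)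
    rw [Category.comp_id, Category.id_comp]

/-- the 2-isomorphism of the square -/
noncomputable def eIso : BasedFunctor.comp (aFun y) y ≅ BasedFunctor.comp (bFun y) (Δ 𝒳) :=
  BasedNatIso.mkNatIso
    (NatIso.ofComponents (fun w => eApp h𝒳 y w) (fun {w w'} m => eApp_naturality h𝒳 y m))
    (fun w => eApp_lift h𝒳 y w)

lemma eIso_app (w : (Stk.ofPsh (II y)).obj) :
    (eIso h𝒳 y).hom.toNatTrans.app w = (eApp h𝒳 y w).hom := rfl

lemma lift_unique' {𝒵 𝒮 : Type*} [Category 𝒵] [Category 𝒮] (p : 𝒵 ⥤ 𝒮) {R T : 𝒮} (f f' : R ⟶ T)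
    {a b : 𝒵} (φ : a ⟶ b) (h : p.IsHomLift f φ) (h' : p.IsHomLift f' φ) : f = f' := by
  have h1 := IsHomLift.fac p f φ
  have h2 := IsHomLift.fac p f' φ
  rw [h1, h2]

lemma surj_aux {T : C} (t : T ⟶ U) (A : 𝒳.obj)
    (i : y.toFunctor.obj (Over.mk t) ≅ (Δ 𝒳).toFunctor.obj A)
    (hzp : (FibCatFp.P 𝒳 𝒳).p.IsHomLift (𝟙 T) i.hom) :
    ∃ (w : (Stk.ofPsh (II y)).obj) (α : (aFun y).toFunctor.obj w ≅ Over.mk t)
      (β : (bFun y).toFunctor.obj w ≅ A),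
      (FibCat.overCat U).p.IsHomLift (𝟙 T) α.hom ∧
      y.toFunctor.map α.hom ≫ i.hom =
        (eIso h𝒳 y).hom.toNatTrans.app w ≫ (Δ 𝒳).toFunctor.map β.hom := by
  obtain ⟨ι₁, ι₂, h1, h2⟩ := exists_components i
  have hl1 : 𝒳.p.IsHomLift (𝟙 T) ι₁.hom := by
    rw [h1]; exact FibCatFp.isHomLift_fst (𝟙 T) i.hom (h := hzp)
  have hl2 : 𝒳.p.IsHomLift (𝟙 T) ι₂.hom := by
    rw [h2]; exact FibCatFp.isHomLift_snd (𝟙 T) i.hom (h := hzp)
  have hl2' : 𝒳.p.IsHomLift (𝟙 T) ι₂.inv := inv_lift ι₂ hl2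
  have ht : 𝒳.p.IsHomLift t ((yy₂ y).toFunctor.map (tOf (Over.mk t))) :=
    map_tOf_lift (yy₂ y) (Over.mk t)
  have hh : 𝒳.p.IsHomLift t (ι₁.hom ≫ ι₂.inv ≫ (yy₂ y).toFunctor.map (tOf (Over.mk t))) :=
    comp_id_left 𝒳.p _ _ _ hl1 (comp_id_left 𝒳.p _ _ _ hl2' ht)
  let w : (Stk.ofPsh (II y)).obj :=
    ⟨T, ⟨t, ι₁.hom ≫ ι₂.inv ≫ (yy₂ y).toFunctor.map (tOf (Over.mk t)), hh⟩⟩
  have hθ : ι₁.hom ≫ ι₂.inv = theta h𝒳 y w :=
    theta_unique h𝒳 y w _ (comp_id_left 𝒳.p _ _ _ hl1 hl2') (Category.assoc _ _ _)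
  refine ⟨w, Iso.refl _, ι₂, ?_, ?_⟩
  · exact over_lift_self (𝟙 (Over.mk t))
  · apply FibCatFp.hom_ext'
    · change (yy₁ y).toFunctor.map (𝟙 _) ≫ i.hom.hom.fst = theta h𝒳 y w ≫ ι₂.hom
      rw [CategoryTheory.Functor.map_id, Category.id_comp, ← hθ, Category.assoc, Iso.inv_hom_id,
        Category.comp_id, h1]
    · change (yy₂ y).toFunctor.map (𝟙 _) ≫ i.hom.hom.snd = 𝟙 _ ≫ ι₂.hom
      rw [CategoryTheory.Functor.map_id, Category.id_comp, Category.id_comp, h2]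

open Groth.Agent.Lib.Helper24.FibCatTwoCart in
/-- the category of the presheaf of isomorphisms is the fibre of the diagonal over `y` -/
theorem isEquivOver_fpLift_eIso :
    FibCat.IsEquivOver (FibCat.fpLift (aFun y) (bFun y) (eIso h𝒳 y)) := by
  refine isEquivOver_fpLift_of _ _ _ ?_ ?_ ?_
  · intro w w' m m' h _
    have h1 : m.hom = m'.hom := congrArg (fun t => t.left) h
    exact Stk.EltObj.hom_ext h1
  · intro w w' u v huv
    have huv' : y.toFunctor.map u ≫ (eApp h𝒳 y w').hom =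
        (eApp h𝒳 y w).hom ≫ (Δ 𝒳).toFunctor.map v := huv
    have hf : (yy₁ y).toFunctor.map u ≫ theta h𝒳 y w' = theta h𝒳 y w ≫ v :=
      congrArg (fun t => t.hom.fst) huv'
    have hs : (yy₂ y).toFunctor.map u ≫ 𝟙 _ = 𝟙 _ ≫ v := congrArg (fun t => t.hom.snd) huv'
    rw [Category.comp_id, Category.id_comp] at hs
    have e : u.left ≫ w'.sec.c = w.sec.c := Over.w u
    have hu : kHom u.left w'.sec.c w.sec.c e = u := Over.OverMorphism.ext rfl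
    have key : HSec.map u.left w'.sec = w.sec := by
      rw [HSec.map_eq_iff]
      refine ⟨e, ?_⟩
      rw [hu, ← theta_fac h𝒳 y w', ← Category.assoc, hf, ← hs, Category.assoc, ← Functor.map_comp]
      have e2 : u ≫ tOf (Over.mk w'.sec.c) = tOf (Over.mk w.sec.c) := map_tOf_comp _
      rw [e2, theta_fac]
    refine ⟨⟨u.left, key⟩, ?_, ?_⟩
    · exact hu
    · change (yy₂ y).toFunctor.map (kHom u.left w'.sec.c w.sec.c e) = v
      rw [hu, hs]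
  · rintro ⟨zo, zp⟩
    obtain ⟨c, A, i, hi⟩ : ∃ (c : Over U) (A : 𝒳.obj)
        (i : y.toFunctor.obj c ≅ (Δ 𝒳).toFunctor.obj A), zo = ⟨c, A, i⟩ :=
      ⟨zo.fst, zo.snd, zo.iso, rfl⟩
    subst hi
    have hzp : (FibCatFp.P 𝒳 𝒳).p.IsHomLift (𝟙 c.left) i.hom := zp
    obtain ⟨T, t, rfl⟩ : ∃ (T : C) (t : T ⟶ U), c = Over.mk t := ⟨c.left, c.hom, rfl⟩
    exact surj_aux h𝒳 y t A i hzp

lemma fpLift_comp_fpFst :
    BasedFunctor.comp (FibCat.fpLift (aFun y) (bFun y) (eIso h𝒳 y)) (FibCat.fpFst y (Δ 𝒳)) =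
      aFun y := rfl

end Groth.Agent.Lib.Helper24.IsomPsh
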