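import Groth.Agent.Lib.Helper24.Slice2
import Groth.Agent.Lib.Helper14.AlgSpSect
set_option autoImplicit false
set_option linter.unusedSectionVars false
universe u
open CategoryTheory CategoryTheory.Limits AlgebraicGeometry Opposite

/-! `j_!` on representables, preservation and reflection of pullbacks. -/

namespace Groth.Agent.Lib.Helper24.Slice
open AlgSp Groth.Agent.Lib.Helper14.AS

variable {S S' : Scheme.{u}} {g : S ⟶ S'}

/-- sectionwise criterion for pullback squares of sheaves -/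
lemma isPullback_sheaf_iff {B : Scheme.{u}} {A₁ A₂ A₃ A₄ : Sp B} {fst : A₁ ⟶ A₂} {snd : A₁ ⟶ A₃}
    {f : A₂ ⟶ A₄} {k : A₃ ⟶ A₄} :
    IsPullback fst snd f k ↔ fst ≫ f = snd ≫ k ∧ ∀ T : (Over B)ᵒᵖ,
      (∀ x y : A₁.obj.obj T, fst.hom.app T x = fst.hom.app T y → snd.hom.app T x = snd.hom.app T y →
        x = y) ∧
      ∀ (b : A₂.obj.obj T) (c : A₃.obj.obj T), f.hom.app T b = k.hom.app T c →
        ∃ a : A₁.obj.obj T, fst.hom.app T a = b ∧ snd.hom.app T a = c := by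
  constructor
  · intro sq
    refine ⟨sq.w, fun T => ?_⟩
    have h := (sq.map (sheafToPresheaf (J B) (Type (u + 1)))).app T
    rw [Limits.Types.isPullback_iff] at h
    exact ⟨fun x y h1 h2 => h.2.1 x y ⟨h1, h2⟩, fun b c hbc => h.2.2 b c hbc⟩
  · rintro ⟨w, H⟩
    apply IsPullback.of_map (sheafToPresheaf (J B) (Type (u + 1))) w
    apply IsPullback.of_forall_isPullback_app
    intro T
    rw [Limits.Types.isPullback_iff]
    refine ⟨?_, fun x y h => (H T).1 x y h.1 h.2, fun b c hbc => (H T).2 b c hbc⟩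
    have := congrArg (fun k => k.hom.app T) w
    exact this

lemma Sec.mk_eq_iff {F : (Over S)ᵒᵖ ⥤ Type (u + 1)} {T' : Over S'} (φ : T' ⟶ base g)
    (ξ ζ : F.obj (op (lft g φ))) : (⟨φ, ξ⟩ : Sec g F T') = ⟨φ, ζ⟩ ↔ ξ = ζ := by
  constructor
  · intro h
    rw [Sec.mk.injEq] at h
    exact eq_of_heq h.2
  · rintro rfl; rfl

/-- **`j_!` preserves pullbacks.** -/
theorem isPullback_Sh {A₁ A₂ A₃ A₄ : Sp S} {fst : A₁ ⟶ A₂} {snd : A₁ ⟶ A₃}
    {f : A₂ ⟶ A₄} {k : A₃ ⟶ A₄} (sq : IsPullback fst snd f k) :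
    IsPullback ((Sh g).map fst) ((Sh g).map snd) ((Sh g).map f) ((Sh g).map k) := by
  rw [isPullback_sheaf_iff] at sq ⊢
  obtain ⟨w, H⟩ := sq
  refine ⟨by rw [← Functor.map_comp, ← Functor.map_comp, w], fun T' => ⟨?_, ?_⟩⟩
  · rintro ⟨φ, ξ⟩ ⟨ψ, ζ⟩ h1 h2
    have e : φ = ψ := congrArg Sec.φ h1
    subst e
    have h1' : fst.hom.app _ ξ = fst.hom.app _ ζ := (Sec.mk_eq_iff φ _ _).1 h1
    have h2' : snd.hom.app _ ξ = snd.hom.app _ ζ := (Sec.mk_eq_iff φ _ _).1 h2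
    rw [(H _).1 ξ ζ h1' h2']
  · rintro ⟨φ, ξ⟩ ⟨ψ, ζ⟩ h
    have e : φ = ψ := congrArg Sec.φ h
    subst e
    have h' : f.hom.app _ ξ = k.hom.app _ ζ := (Sec.mk_eq_iff φ _ _).1 h
    obtain ⟨a, ha1, ha2⟩ := (H _).2 ξ ζ h'
    exact ⟨⟨φ, a⟩, (Sec.mk_eq_iff φ _ _).2 ha1, (Sec.mk_eq_iff φ _ _).2 ha2⟩

lemma mapNat_ofFib {F G : (Over S)ᵒᵖ ⥤ Type (u + 1)} (a : F ⟶ G) {V : Over S}
    (ξ : F.obj (op V)) : Sec.mapNat a (ofFib (g := g) ξ) = ofFib (a.app _ ξ) := rfl

lemma toFib_mapNat {F G : (Over S)ᵒᵖ ⥤ Type (u + 1)} (a : F ⟶ G) {V : Over S}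
    (x : Sec g F ((Over.map g).obj V)) (hx : x.φ = can V) :
    toFib (Sec.mapNat a x) hx = a.app _ (toFib x hx) :=
  (NatTrans.naturality_apply a _ x.ξ).symm

lemma ofFib_injective {F : (Over S)ᵒᵖ ⥤ Type (u + 1)} {V : Over S} {ξ ζ : F.obj (op V)}
    (h : ofFib (g := g) ξ = ofFib ζ) : ξ = ζ :=
  (Sec.mk_eq_iff _ _ _).1 h

/-- **`j_!` reflects pullbacks.** -/
theorem isPullback_of_Sh {A₁ A₂ A₃ A₄ : Sp S} {fst : A₁ ⟶ A₂} {snd : A₁ ⟶ A₃}
    {f : A₂ ⟶ A₄} {k : A₃ ⟶ A₄} (w : fst ≫ f = snd ≫ k)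
    (sq : IsPullback ((Sh g).map fst) ((Sh g).map snd) ((Sh g).map f) ((Sh g).map k)) :
    IsPullback fst snd f k := by
  rw [isPullback_sheaf_iff] at sq ⊢
  obtain ⟨-, H⟩ := sq
  refine ⟨w, fun V => ⟨?_, ?_⟩⟩
  · intro x y h1 h2
    refine ofFib_injective (g := g) ((H (op ((Over.map g).obj V.unop))).1 (ofFib x) (ofFib y) ?_ ?_)
    · exact congrArg ofFib h1
    · exact congrArg ofFib h2
  · intro b c hbc
    obtain ⟨a, ha1, ha2⟩ := (H (op ((Over.map g).obj V.unop))).2 (ofFib b) (ofFib c)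
      (congrArg ofFib hbc)
    have haφ : a.φ = can V.unop := congrArg Sec.φ ha1
    refine ⟨toFib a haφ, ?_, ?_⟩
    · have := toFib_mapNat fst.hom a haφ
      rw [← this]
      have key : ∀ (z : Sec g A₂.obj ((Over.map g).obj V.unop)) (hz : z = ofFib b)
          (hzc : z.φ = can V.unop), toFib z hzc = b := by
        intro z hz hzc
        subst hz
        exact toFib_ofFib b
      exact key _ ha1 _
    · have := toFib_mapNat snd.hom a haφ
      rw [← this]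
      have key : ∀ (z : Sec g A₃.obj ((Over.map g).obj V.unop)) (hz : z = ofFib c)
          (hzc : z.φ = can V.unop), toFib z hzc = c := by
        intro z hz hzc
        subst hz
        exact toFib_ofFib c
      exact key _ ha2 _

/-- a morphism of sheaves which is bijective on sections is an isomorphism -/
lemma isIso_of_bijective {B : Scheme.{u}} {A₁ A₂ : Sp B} (f : A₁ ⟶ A₂)
    (h : ∀ T, Function.Bijective (f.hom.app T)) : IsIso f := by
  have h1 : ∀ T, IsIso (f.hom.app T) := fun T => (isIso_iff_bijective _).2 (h T)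
  have h2 : IsIso f.hom := NatIso.isIso_of_isIso_app f.hom
  have h3 : IsIso ((sheafToPresheaf (J B) (Type (u + 1))).map f) := h2
  exact isIso_of_reflects_iso f (sheafToPresheaf (J B) (Type (u + 1)))

section Alpha
variable (g)

/-- the universal section of `j_! h_V` over `Φ V` -/
def unitSec (V : Over S) : Sec g ((yon S).obj V).obj ((Over.map g).obj V) :=
  ofFib (g := g) (F := ((yon S).obj V).obj) ⟨𝟙 V⟩

/-- the comparison `h_{Φ V} ⟶ j_! h_V` -/
noncomputable def α (V : Over S) :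
    (yon S').obj ((Over.map g).obj V) ⟶ (Sh g).obj ((yon S).obj V) :=
  yEquiv.symm (unitSec g V)

variable {g}

@[simp] lemma unitSec_φ (V : Over S) : (unitSec g V).φ = can V := rfl

lemma α_app {V : Over S} {T' : Over S'} (b : T' ⟶ (Over.map g).obj V) :
    (α g V).hom.app (op T') ⟨b⟩ = Sec.map ((yon S).obj V).obj b (unitSec g V) :=
  (J S').uliftYonedaEquiv_symm_app_apply _ (op T') b

lemma yEquiv_α (V : Over S) : yEquiv (α g V) = unitSec g V :=
  Equiv.apply_symm_apply _ _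

lemma yon_map_apply {B : Scheme.{u}} {V W Z : Over B} (m : W ⟶ Z) (a : Z ⟶ V) :
    ((yon B).obj V).obj.map m.op ⟨a⟩ = ⟨m ≫ a⟩ := rfl

lemma yon_map_hom_apply {B : Scheme.{u}} {V W Z : Over B} (m : V ⟶ W) (a : Z ⟶ V) :
    ((yon B).map m).hom.app (op Z) ⟨a⟩ = ⟨a ≫ m⟩ := rfl

/-- sections of `j_! h_V` -/
lemma map_unitSec_eq_iff {V : Over S} {T' : Over S'} (b : T' ⟶ (Over.map g).obj V)
    (φ : T' ⟶ base g) (a : lft g φ ⟶ V) :
    Sec.map ((yon S).obj V).obj b (unitSec g V) = ⟨φ, ⟨a⟩⟩ ↔ b.left = a.left := by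
  rw [Sec.map_eq_iff]
  constructor
  · rintro ⟨e, h⟩
    have h' := congrArg (fun z : ULift _ => z.down.left) h
    have h'' : b.left ≫ 𝟙 _ = a.left := h'
    rwa [Category.comp_id] at h''
  · intro h
    have e : b ≫ (unitSec g V).φ = φ := by
      ext
      have := Over.w a
      simp only [unitSec_φ, Over.comp_left, can_left, h]
      exact this
    refine ⟨e, ?_⟩
    refine congrArg ULift.up (Over.OverMorphism.ext ?_)
    change b.left ≫ 𝟙 _ = a.left
    rw [Category.comp_id, h]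

instance isIso_α (V : Over S) : IsIso (α g V) := by
  refine isIso_of_bijective _ fun T' => ⟨?_, ?_⟩
  · obtain ⟨T'⟩ := T'
    rintro ⟨(b : T' ⟶ (Over.map g).obj V)⟩ ⟨(b' : T' ⟶ (Over.map g).obj V)⟩ h
    have h1 : Sec.map ((yon S).obj V).obj b (unitSec g V) =
        Sec.map ((yon S).obj V).obj b' (unitSec g V) := (α_app b).symm.trans (h.trans (α_app b'))
    have h2 := (map_unitSec_eq_iff b (b' ≫ can V)
      (lftHom b' (can V) (b' ≫ can V) rfl ≫ 𝟙 V)).1 h1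
    have h3 : b.left = b'.left ≫ 𝟙 _ := h2
    rw [Category.comp_id] at h3
    exact congrArg ULift.up (Over.OverMorphism.ext h3)
  · obtain ⟨T'⟩ := T'
    rintro ⟨φ, ⟨(a : lft g φ ⟶ V)⟩⟩
    refine ⟨⟨(isoT φ).inv ≫ (Over.map g).map a⟩, ?_⟩
    refine (α_app _).trans ((map_unitSec_eq_iff _ φ a).2 ?_)
    simp

lemma yEquiv_yon_map_comp {B : Scheme.{u}} {F : Sp B} {V W : Over B} (m : V ⟶ W)
    (f : (yon B).obj W ⟶ F) : yEquiv ((yon B).map m ≫ f) = F.obj.map m.op (yEquiv f) :=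
  ((J B).uliftYonedaEquiv_naturality f m).symm

/-- naturality of the comparison -/
lemma α_naturality {V W : Over S} (m : V ⟶ W) :
    (yon S').map ((Over.map g).map m) ≫ α g W = α g V ≫ (Sh g).map ((yon S).map m) := by
  apply yEquiv.injective
  rw [yEquiv_yon_map_comp, yEquiv_comp, yEquiv_α, yEquiv_α]
  refine ((map_unitSec_eq_iff ((Over.map g).map m) (can V) (𝟙 V ≫ m)).2 ?_)
  change m.left = 𝟙 _ ≫ m.left
  rw [Category.id_comp]

/-- every point of `j_! F` comes from a point of `F` -/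
lemma yEquiv_symm_sec (F : Sp S) {T' : Over S'} (x : Sec g F.obj T') :
    (yEquiv.symm x : (yon S').obj T' ⟶ (Sh g).obj F) =
      (yon S').map (isoT x.φ).inv ≫ α g (lft g x.φ) ≫ (Sh g).map (yEquiv.symm x.ξ) := by
  apply yEquiv.injective
  refine (Equiv.apply_symm_apply yEquiv _).trans ?_
  rw [yEquiv_yon_map_comp, yEquiv_comp, yEquiv_α]
  change x = Sec.map F.obj (isoT x.φ).inv (Sec.mapNat (yEquiv.symm x.ξ).hom (unitSec g _))
  have h1 : Sec.mapNat (yEquiv.symm x.ξ).hom (unitSec g (lft g x.φ)) = ofFib x.ξ := by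
    change ofFib ((yEquiv.symm x.ξ).hom.app _ ⟨𝟙 _⟩) = ofFib x.ξ
    congr 1
    exact Equiv.apply_symm_apply yEquiv x.ξ
  rw [h1]
  exact (left_tri F x).symm

end Alpha

end Groth.Agent.Lib.Helper24.Slice
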