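import Mathlib
import Groth.Agent.Lib.Helper24.IsomPsh2
import Groth.Agent.Lib.Helper24.AlgStStack
import Groth.Agent.Lib.Helper24.AlgStProdAlg
import Groth.Agent.Lib.Helper24.StkFp
import Groth.Agent.Lib.Helper24.Slice3
set_option autoImplicit false
set_option linter.unusedSectionVars false
set_option linter.unusedVariables false
set_option backward.isDefEq.respectTransparency false
set_option backward.isDefEq.respectTransparency.types false
open CategoryTheory CategoryTheory.Limits Opposite AlgebraicGeometry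
universe u w

/-! The sheaf of isomorphisms of two objects of a stack over `(Sch/S)`, and the representability
criterion for the diagonal. -/

namespace Groth.Agent.Lib.Helper24.IsomPsh
open Groth.Agent.Lib.Helper24.FibCatFpGen Groth.Agent.Lib.Helper24.FibGrpd
open Groth.Agent.Lib.Helper24.FibCatRepDiag Groth.Agent.Lib.Helper24.FibCatYoneda
open AlgSp

variable {S : Scheme.{u}} {𝒳 : BasedCategory.{u + 1, w} (Over S)}
  (hst : Stk.IsStack (AlgSp.J S) 𝒳) {U : Over S}
  (y : FibCat.overCat U ⥤ᵇ FibCatFp.P 𝒳 𝒳)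

include hst in
lemma isSheaf_II : Presheaf.IsSheaf (AlgSp.J S) (II y) := by
  have h1 : Stk.IsStack (AlgSp.J S) (FibCatFp.P 𝒳 𝒳) :=
    Groth.Agent.Lib.Helper24.StkFp.isStack_fp _ _ _ hst hst
      (Groth.Agent.Lib.Helper24.AlgStFpAlg.isPrestack_of_isStack _
        (Groth.Agent.Lib.Helper24.AlgStProdAlg.isStack_selfOver _))
  have h2 : Stk.IsStack (AlgSp.J S) (FibCat.fp y (Δ 𝒳)) :=
    Groth.Agent.Lib.Helper24.StkFp.isStack_fp _ _ _
      (Groth.Agent.Lib.Helper24.AlgStStack.isStack_overCat U) hst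
      (Groth.Agent.Lib.Helper24.AlgStFpAlg.isPrestack_of_isStack _ h1)
  have h3 : Stk.IsStack (AlgSp.J S) (Stk.ofPsh (II y)) :=
    (Groth.Agent.Lib.Helper24.StkEquiv.isStack_iff _ _ (isEquivOver_fpLift_eIso hst.1 y)).2 h2
  exact (isSheaf_iff_isSheaf_of_type _ _).2
    ((Groth.Agent.Lib.Helper24.PshStack.isStack_ofPsh_iff _ _).1 h3)

/-- the sheaf of isomorphisms -/
def FF : Sp S := ⟨II y, isSheaf_II hst y⟩

/-- the projection to `h_U` -/
def ππ : FF hst y ⟶ (yon S).obj U :=
  ObjectProperty.homMk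
    { app := fun T => ↾(fun a : HSec (yy₁ y) (xx₂ y) T.unop => (⟨a.c⟩ : ULift (T.unop ⟶ U)))
      naturality := fun T T' k => by
        ext a
        rfl }

lemma ππ_app (T : Over S) (a : HSec (yy₁ y) (xx₂ y) T) :
    (ππ hst y).hom.app (op T) a = ⟨a.c⟩ := rfl

lemma spMapOfOver_aFun : AlgSt.spMapOfOver (F := FF hst y) (aFun y) = ππ hst y := by
  apply ObjectProperty.hom_ext
  ext T x
  apply ULift.ext
  change AlgSt.secHom (F := FF hst y) (aFun y) ⟨T.unop, x⟩ = _
  unfold AlgSt.secHom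
  change eqToHom _ ≫ x.c = x.c
  simp

/-- the diagonal of a stack is representable by the sheaves of isomorphisms -/
theorem repByAlgSpWith_diag_of (P : MorphismProperty (Sp S))
    (H : ∀ (U : Over S) (y : FibCat.overCat U ⥤ᵇ FibCatFp.P 𝒳 𝒳),
      IsAlgSpace (FF hst y) ∧ P (ππ hst y)) :
    AlgSt.RepByAlgSpWith P (FibCat.diag (FibCat.toSelf 𝒳)) := by
  intro U y
  refine ⟨⟨FF hst y, (H U y).1⟩, FibCat.fpLift (aFun y) (bFun y) (eIso hst.1 y),
    isEquivOver_fpLift_eIso hst.1 y, ?_⟩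
  have h1 : BasedFunctor.comp (FibCat.fpLift (aFun y) (bFun y) (eIso hst.1 y))
      (FibCat.fpFst y (Δ 𝒳)) = aFun y := rfl
  rw [h1]
  have h3 : AlgSt.spMapOfOver (F := FF hst y) (aFun y) = ππ hst y := spMapOfOver_aFun hst y
  rw [h3]
  exact (H U y).2

end Groth.Agent.Lib.Helper24.IsomPsh
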