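import Mathlib
import Groth.Agent.Lib.Helper24.IsomPsh3
set_option autoImplicit false
set_option linter.unusedSectionVars false
set_option linter.unusedVariables false
set_option backward.isDefEq.respectTransparency false
set_option backward.isDefEq.respectTransparency.types false
open CategoryTheory CategoryTheory.Limits Opposite AlgebraicGeometry
universe u w

/-! Base change of the sheaf of isomorphisms. -/

namespace Groth.Agent.Lib.Helper24.IsomPsh
open Groth.Agent.Lib.Helper24.FibCatFpGen Groth.Agent.Lib.Helper24.FibGrpd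
open Groth.Agent.Lib.Helper24.FibCatRepDiag Groth.Agent.Lib.Helper24.FibCatYoneda
open AlgSp

variable {S : Scheme.{u}} {𝒳 : BasedCategory.{u + 1, w} (Over S)}
  (hst : Stk.IsStack (AlgSp.J S) 𝒳) {U : Over S}
  (y : FibCat.overCat U ⥤ᵇ FibCatFp.P 𝒳 𝒳) {V : Over S} (g : V ⟶ U)

/-- the restriction of `y` along `g` -/
abbrev yg : FibCat.overCat V ⥤ᵇ FibCatFp.P 𝒳 𝒳 := BasedFunctor.comp (overMap g) y

/-- the canonical morphism between the second objects -/
def tg : xx₂ (yg y g) ⟶ xx₂ y :=
  (yy₂ y).toFunctor.map (tOf ((Over.map g).obj (Over.mk (𝟙 V))))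

lemma tg_lift : 𝒳.p.IsHomLift g (tg y g) := by
  have h := map_tOf_lift (yy₂ y) ((Over.map g).obj (Over.mk (𝟙 V)))
  have e : ((Over.map g).obj (Over.mk (𝟙 V))).hom = g := Category.id_comp g
  rw [e] at h
  exact h

include hst in
lemma tg_scart : 𝒳.p.IsStronglyCartesian g (tg y g) :=
  have := tg_lift y g
  scart_of_isFibGrpd 𝒳.p hst.1 _ _

/-- the base change map on sections -/
def rSec {T : Over S} (a : HSec (yy₁ (yg y g)) (xx₂ (yg y g)) T) : HSec (yy₁ y) (xx₂ y) T where
  c := a.c ≫ g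
  h := a.h ≫ tg y g
  lift := comp_lift 𝒳.p a.c g _ _ a.lift (tg_lift y g)

lemma rSec_map {T T' : Over S} (k : T' ⟶ T) (a : HSec (yy₁ (yg y g)) (xx₂ (yg y g)) T) :
    HSec.map k (rSec y g a) = rSec y g (HSec.map k a) := by
  rw [HSec.map_eq_iff]
  refine ⟨(Category.assoc _ _ _).symm, ?_⟩
  change _ = ((yy₁ (yg y g)).toFunctor.map (kHom k a.c (k ≫ a.c) rfl) ≫ a.h) ≫ tg y g
  exact (Category.assoc _ _ _).symm

/-- the base change map of the sheaves of isomorphisms -/
def rr : FF hst (yg y g) ⟶ FF hst y :=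
  ObjectProperty.homMk
    { app := fun T => ↾(fun a : HSec (yy₁ (yg y g)) (xx₂ (yg y g)) T.unop => rSec y g a)
      naturality := fun T T' k => by
        ext a
        exact (rSec_map y g k.unop a).symm }

lemma rr_app (T : Over S) (a : HSec (yy₁ (yg y g)) (xx₂ (yg y g)) T) :
    (rr hst y g).hom.app (op T) a = rSec y g a := rfl

/-- the sheaf of isomorphisms commutes with base change -/
theorem isPullback_rr :
    IsPullback (rr hst y g) (ππ hst (yg y g)) (ππ hst y) ((yon S).map g) := by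
  rw [Groth.Agent.Lib.Helper24.Slice.isPullback_sheaf_iff]
  refine ⟨?_, fun T => ⟨?_, ?_⟩⟩
  · apply ObjectProperty.hom_ext
    ext T a
    rfl
  · intro x x' h1 h2
    obtain ⟨c, h, l⟩ := x
    obtain ⟨c', h', l'⟩ := x'
    have hc : c = c' := congrArg ULift.down h2
    subst hc
    have h3 : rSec y g ⟨c, h, l⟩ = rSec y g ⟨c, h', l'⟩ := h1
    have h4 : h ≫ tg y g = h' ≫ tg y g := by
      have := HSec.mk.inj h3
      exact eq_of_heq this.2
    have hs := tg_scart hst y g
    have : h = h' := Functor.IsStronglyCartesian.ext 𝒳.p g (tg y g) c h4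
    subst this
    rfl
  · intro b v hbv
    obtain ⟨c, h, l⟩ := b
    obtain ⟨v⟩ := v
    have hc : c = v ≫ g := congrArg ULift.down hbv
    subst hc
    have hs := tg_scart hst y g
    obtain ⟨χ, ⟨h1, h2⟩, _⟩ := Functor.IsStronglyCartesian.universal_property 𝒳.p g
      (tg y g) v (v ≫ g) rfl h
    refine ⟨⟨v, χ, h1⟩, ?_, rfl⟩
    change rSec y g ⟨v, χ, h1⟩ = _
    unfold rSec
    dsimp only
    congr 1

end Groth.Agent.Lib.Helper24.IsomPsh
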