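import Groth.Prelude.Def_AlgSt
import Groth.Prelude.Def_FibCat2
import Groth.Agent.Lib.Helper24.FibCatFpMap
set_option autoImplicit false
open CategoryTheory Opposite
universe w v u v₂ u₂ v₃ u₃
set_option backward.isDefEq.respectTransparency false
set_option backward.isDefEq.respectTransparency.types false

/-! Functors over `C` into the category of elements `Stk.ofPsh P` = compatible families. -/

namespace Groth.Agent.Lib.Helper24.PshFun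

variable {C : Type u} [Category.{v} C] {P : Cᵒᵖ ⥤ Type w}
variable {𝒜 : BasedCategory.{v₂, u₂} C} {ℬ : BasedCategory.{v₃, u₃} C}

lemma base_eq (Φ : 𝒜 ⥤ᵇ Stk.ofPsh P) (a : 𝒜.obj) : (Φ.toFunctor.obj a).base = 𝒜.p.obj a :=
  Φ.w_obj a

/-- the section over `p a` attached to a functor over `C` to `ofPsh P` -/
def sec (Φ : 𝒜 ⥤ᵇ Stk.ofPsh P) (a : 𝒜.obj) : P.obj (op (𝒜.p.obj a)) :=
  P.map (eqToHom (base_eq Φ a).symm).op (Φ.toFunctor.obj a).sec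

lemma map_hom (Φ : 𝒜 ⥤ᵇ Stk.ofPsh P) {a b : 𝒜.obj} (m : a ⟶ b) :
    (Φ.toFunctor.map m).hom = eqToHom (base_eq Φ a) ≫ 𝒜.p.map m ≫ eqToHom (base_eq Φ b).symm := by
  have h0 : 𝒜.p.IsHomLift (𝒜.p.map m) m := IsHomLift.map 𝒜.p m
  have h : (Stk.ofPsh P).p.IsHomLift (𝒜.p.map m) (Φ.toFunctor.map m) :=
    BasedFunctor.preserves_isHomLift Φ (𝒜.p.map m) m
  exact IsHomLift.fac' (Stk.ofPsh P).p (𝒜.p.map m) (Φ.toFunctor.map m)

lemma sec_compat (Φ : 𝒜 ⥤ᵇ Stk.ofPsh P) {a b : 𝒜.obj} (m : a ⟶ b) :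
    P.map (𝒜.p.map m).op (sec Φ b) = sec Φ a := by
  have h1 := (Φ.toFunctor.map m).map_sec
  have h2 : 𝒜.p.map m ≫ eqToHom (base_eq Φ b).symm =
      eqToHom (base_eq Φ a).symm ≫ (Φ.toFunctor.map m).hom := by
    rw [map_hom]; simp
  unfold sec
  rw [← h1]
  simp only [← Functor.map_comp_apply, ← op_comp]
  rw [h2]

/-- compatible families of sections indexed by the objects of `𝒜` -/
structure Fam (𝒜 : BasedCategory.{v₂, u₂} C) (P : Cᵒᵖ ⥤ Type w) where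
  s : ∀ a : 𝒜.obj, P.obj (op (𝒜.p.obj a))
  compat : ∀ {a b : 𝒜.obj} (m : a ⟶ b), P.map (𝒜.p.map m).op (s b) = s a

@[ext] lemma Fam.ext {σ τ : Fam 𝒜 P} (h : ∀ a, σ.s a = τ.s a) : σ = τ := by
  cases σ; cases τ; congr; funext a; exact h a

/-- the family of a functor -/
def famOf (Φ : 𝒜 ⥤ᵇ Stk.ofPsh P) : Fam 𝒜 P := ⟨sec Φ, fun m => sec_compat Φ m⟩

/-- the functor of a family -/
def ofFam (σ : Fam 𝒜 P) : 𝒜 ⥤ᵇ Stk.ofPsh P where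
  toFunctor :=
    { obj := fun a => ⟨𝒜.p.obj a, σ.s a⟩
      map := fun {a b} m => ⟨𝒜.p.map m, σ.compat m⟩
      map_id := fun a => Stk.EltObj.hom_ext (𝒜.p.map_id a)
      map_comp := fun m n => Stk.EltObj.hom_ext (𝒜.p.map_comp m n) }
  w := rfl

lemma sec_ofFam (σ : Fam 𝒜 P) (a : 𝒜.obj) : sec (ofFam σ) a = σ.s a := by
  unfold sec
  simp [ofFam]

lemma famOf_ofFam (σ : Fam 𝒜 P) : famOf (ofFam σ) = σ := Fam.ext (sec_ofFam σ)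

lemma sec_eq_aux (Φ Ψ : 𝒜 ⥤ᵇ Stk.ofPsh P) (a : 𝒜.obj) (h : sec Φ a = sec Ψ a) :
    P.map (eqToHom ((base_eq Φ a).trans (base_eq Ψ a).symm)).op (Ψ.toFunctor.obj a).sec =
      (Φ.toFunctor.obj a).sec := by
  unfold sec at h
  have e := congrArg (P.map (eqToHom (base_eq Φ a)).op) h
  simp only [← Functor.map_comp_apply, ← op_comp, eqToHom_trans, eqToHom_refl,
    op_id, Functor.map_id_apply] at e
  exact e.symm

/-- the component of `isoOfSecEq` -/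
def appOfSecEq (Φ Ψ : 𝒜 ⥤ᵇ Stk.ofPsh P) (h : ∀ a, sec Φ a = sec Ψ a) (a : 𝒜.obj) :
    Φ.toFunctor.obj a ≅ Ψ.toFunctor.obj a where
  hom := ⟨eqToHom ((base_eq Φ a).trans (base_eq Ψ a).symm), sec_eq_aux Φ Ψ a (h a)⟩
  inv := ⟨eqToHom ((base_eq Ψ a).trans (base_eq Φ a).symm), sec_eq_aux Ψ Φ a (h a).symm⟩
  hom_inv_id := Stk.EltObj.hom_ext (by simp)
  inv_hom_id := Stk.EltObj.hom_ext (by simp)

/-- two functors with the same family are isomorphic -/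
def isoOfSecEq (Φ Ψ : 𝒜 ⥤ᵇ Stk.ofPsh P) (h : ∀ a, sec Φ a = sec Ψ a) : Φ ≅ Ψ :=
  BasedNatIso.mkNatIso
    (NatIso.ofComponents (appOfSecEq Φ Ψ h)
      (fun {a b} m => Stk.EltObj.hom_ext (by
        simp only [Stk.EltObj.comp_hom]
        rw [map_hom, map_hom]
        simp [appOfSecEq])))
    (fun a => by
      have : (Stk.ofPsh P).p.map (appOfSecEq Φ Ψ h a).hom =
          eqToHom (base_eq Φ a) ≫ 𝟙 _ ≫ eqToHom (base_eq Ψ a).symm := by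
        simp [appOfSecEq]
      exact IsHomLift.of_fac' _ _ _ (base_eq Φ a) (base_eq Ψ a) this)

/-- a 2-morphism forces equal families -/
lemma sec_eq_of_hom {Φ Ψ : 𝒜 ⥤ᵇ Stk.ofPsh P} (α : Φ ⟶ Ψ) (a : 𝒜.obj) : sec Φ a = sec Ψ a := by
  have h1 : (Stk.ofPsh P).p.IsHomLift (𝟙 (𝒜.p.obj a)) (α.toNatTrans.app a) := α.isHomLift' a
  have h2 : (α.toNatTrans.app a).hom = eqToHom (base_eq Φ a) ≫ 𝟙 _ ≫ eqToHom (base_eq Ψ a).symm :=
    IsHomLift.fac' (Stk.ofPsh P).p (𝟙 (𝒜.p.obj a)) (α.toNatTrans.app a)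
  have h3 := (α.toNatTrans.app a).map_sec
  unfold sec
  rw [← h3, h2]
  simp only [← Functor.map_comp_apply, ← op_comp]
  simp

lemma nonempty_iso_iff (Φ Ψ : 𝒜 ⥤ᵇ Stk.ofPsh P) : Nonempty (Φ ≅ Ψ) ↔ ∀ a, sec Φ a = sec Ψ a :=
  ⟨fun ⟨e⟩ => sec_eq_of_hom e.hom, fun h => ⟨isoOfSecEq Φ Ψ h⟩⟩

instance (Φ Ψ : 𝒜 ⥤ᵇ Stk.ofPsh P) : Subsingleton (Φ ⟶ Ψ) := by
  constructor
  intro α β
  apply BasedNatTrans.homCategory.ext
  ext a
  have h1 : (Stk.ofPsh P).p.IsHomLift (𝟙 (𝒜.p.obj a)) (α.toNatTrans.app a) := α.isHomLift' a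
  have h2 : (Stk.ofPsh P).p.IsHomLift (𝟙 (𝒜.p.obj a)) (β.toNatTrans.app a) := β.isHomLift' a
  exact (IsHomLift.fac' (Stk.ofPsh P).p (𝟙 (𝒜.p.obj a)) (α.toNatTrans.app a)).trans
    (IsHomLift.fac' (Stk.ofPsh P).p (𝟙 (𝒜.p.obj a)) (β.toNatTrans.app a)).symm

/-- restriction of families -/
def Fam.restr (ι : 𝒜 ⥤ᵇ ℬ) (σ : Fam ℬ P) : Fam 𝒜 P where
  s a := P.map (eqToHom (ι.w_obj a).symm).op (σ.s (ι.toFunctor.obj a))
  compat {a b} m := by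
    have h1 := σ.compat (ι.toFunctor.map m)
    have h2 : ℬ.p.map (ι.toFunctor.map m) =
        eqToHom (ι.w_obj a) ≫ 𝒜.p.map m ≫ eqToHom (ι.w_obj b).symm :=
      IsHomLift.fac' ℬ.p (𝒜.p.map m) (ι.toFunctor.map m)
    rw [← h1, h2]
    simp only [← Functor.map_comp_apply, ← op_comp]
    simp

lemma sec_comp (ι : 𝒜 ⥤ᵇ ℬ) (Φ : ℬ ⥤ᵇ Stk.ofPsh P) (a : 𝒜.obj) :
    sec (BasedFunctor.comp ι Φ) a =
      P.map (eqToHom (ι.w_obj a).symm).op (sec Φ (ι.toFunctor.obj a)) := by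
  unfold sec
  simp only [← Functor.map_comp_apply, ← op_comp]
  simp
  rfl

lemma famOf_comp (ι : 𝒜 ⥤ᵇ ℬ) (Φ : ℬ ⥤ᵇ Stk.ofPsh P) :
    famOf (BasedFunctor.comp ι Φ) = (famOf Φ).restr ι := Fam.ext (sec_comp ι Φ)

end Groth.Agent.Lib.Helper24.PshFun
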