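import Groth.Agent.Lib.Helper24.Slice3
set_option autoImplicit false
set_option linter.unusedSectionVars false
universe u
open CategoryTheory CategoryTheory.Limits AlgebraicGeometry Opposite

/-! Transfer of representability with a property along `j_!`. -/

namespace Groth.Agent.Lib.Helper24.Slice
open AlgSp Groth.Agent.Lib.Helper14.AS

variable {S S' : Scheme.{u}} {g : S ⟶ S'}

/-- `j_!` is faithful -/
lemma Sh_map_injective {A B : Sp S} {a b : A ⟶ B} (h : (Sh g).map a = (Sh g).map b) : a = b := by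
  apply Sheaf.hom_ext
  ext V ξ
  have h1 := congrArg (fun k => k.hom.app (op ((Over.map g).obj V.unop)) (ofFib ξ)) h
  exact ofFib_injective (g := g) h1

lemma isoT_inv_map {T' : Over S'} (φ : T' ⟶ base g) {V : Over S} (k : lft g φ ⟶ V)
    (k' : T' ⟶ (Over.map g).obj V) (h : k'.left = k.left) :
    (isoT φ).inv ≫ (Over.map g).map k = k' := by
  ext
  simp [h]

/-- **`j_!` preserves representability with a property.** -/
theorem repWith_Sh (P : MorphismProperty Scheme.{u}) [P.RespectsIso] {A F : Sp S} (f : A ⟶ F)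
    (h : RepWith P f) : RepWith P ((Sh g).map f) := by
  have : (P.inverseImage (Over.forget S')).RespectsIso :=
    MorphismProperty.RespectsIso.inverseImage P _
  refine MorphismProperty.relative.of_exists fun T' ξ' => ?_
  let x : Sec g F.obj T' := yEquiv ξ'
  have hξ' : ξ' = (yon S').map (isoT x.φ).inv ≫ α g (lft g x.φ) ≫
      (Sh g).map (yEquiv.symm x.ξ) := by
    rw [← yEquiv_symm_sec F x]
    exact (Equiv.symm_apply_apply yEquiv ξ').symm
  let ξ : (yon S).obj (lft g x.φ) ⟶ F := yEquiv.symm x.ξ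
  have sq := h.rep.isPullback ξ
  have hP : P (h.rep.snd ξ).left := h.property_snd ξ
  have sqSh := isPullback_Sh (g := g) sq
  refine ⟨(Over.map g).obj (h.rep.pullback ξ), α g _ ≫ (Sh g).map (h.rep.fst ξ),
    (Over.map g).map (h.rep.snd ξ) ≫ (isoT x.φ).hom, ?_, ?_⟩
  · refine IsPullback.of_iso sqSh (asIso (α g _)).symm (Iso.refl _)
      ((asIso (α g _)).symm ≪≫ (yon S').mapIso (isoT x.φ)) (Iso.refl _) ?_ ?_ ?_ ?_
    · simp
    · simp only [Iso.symm_hom, asIso_inv, Iso.trans_hom, Functor.mapIso_hom, Functor.map_comp,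
        IsIso.eq_inv_comp]
      rw [← Category.assoc, ← Category.assoc, ← α_naturality, Category.assoc,
        Category.assoc, IsIso.hom_inv_id_assoc]
    · simp
    · rw [hξ']
      simp only [Iso.refl_hom, Category.comp_id, Iso.symm_hom, asIso_inv, Iso.trans_hom,
        Functor.mapIso_hom, Category.assoc]
      rw [← Functor.map_comp_assoc, Iso.hom_inv_id, CategoryTheory.Functor.map_id,
        Category.id_comp, IsIso.inv_hom_id_assoc]
  · change P ((h.rep.snd ξ).left ≫ 𝟙 _)
    rw [Category.comp_id]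
    exact hP

lemma yEquiv_symm_yon {B : Scheme.{u}} {V W : Over B} (a : W ⟶ V) :
    (yEquiv.symm (⟨a⟩ : ((yon B).obj V).obj.obj (op W)) : (yon B).obj W ⟶ (yon B).obj V) =
      (yon B).map a := by
  apply yEquiv.injective
  refine (Equiv.apply_symm_apply yEquiv _).trans ?_
  exact ((J B).uliftYonedaEquiv_uliftYoneda_map a).symm

/-- **`j_!` reflects representability with a property** (for morphisms from a scheme). -/
theorem repWith_of_Sh (P : MorphismProperty Scheme.{u}) [P.RespectsIso] {F : Sp S} {T : Over S}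
    (f : (yon S).obj T ⟶ F) (h : RepWith P ((Sh g).map f)) : RepWith P f := by
  have : (P.inverseImage (Over.forget S)).RespectsIso :=
    MorphismProperty.RespectsIso.inverseImage P _
  refine MorphismProperty.relative.of_exists fun V ξ => ?_
  let ξ' : (yon S').obj ((Over.map g).obj V) ⟶ (Sh g).obj F := α g V ≫ (Sh g).map ξ
  have sq' := h.rep.isPullback ξ'
  have hP : P (h.rep.snd ξ').left := h.property_snd ξ'
  -- the point of `j_! h_T` given by the first projection
  rcases hx : (yEquiv (h.rep.fst ξ') : Sec g ((yon S).obj T).obj (h.rep.pullback ξ')) with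
    ⟨φ, ⟨(a : lft g φ ⟶ T)⟩⟩
  have hfst' : h.rep.fst ξ' =
      (yon S').map (isoT φ).inv ≫ α g (lft g φ) ≫ (Sh g).map ((yon S).map a) := by
    have h1 := yEquiv_symm_sec ((yon S).obj T)
      (⟨φ, ⟨a⟩⟩ : Sec g ((yon S).obj T).obj (h.rep.pullback ξ'))
    rw [yEquiv_symm_yon] at h1
    rw [← h1, ← hx]
    exact (Equiv.symm_apply_apply yEquiv _).symm
  have hφ : φ = h.rep.snd ξ' ≫ can V := by
    have h1 := congrArg yEquiv sq'.w
    rw [yEquiv_comp, yEquiv_yon_map_comp, yEquiv_comp, yEquiv_α, hx] at h1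
    exact congrArg Sec.φ h1
  subst hφ
  let snd : lft g (h.rep.snd ξ' ≫ can V) ⟶ V := Over.homMk (h.rep.snd ξ').left rfl
  have hsnd : (isoT (h.rep.snd ξ' ≫ can V)).inv ≫ (Over.map g).map snd = h.rep.snd ξ' :=
    isoT_inv_map _ snd _ rfl
  have sqSh : IsPullback ((Sh g).map ((yon S).map a)) ((Sh g).map ((yon S).map snd))
      ((Sh g).map f) ((Sh g).map ξ) := by
    refine IsPullback.of_iso sq'
      ((yon S').mapIso (isoT (h.rep.snd ξ' ≫ can V)).symm ≪≫ asIso (α g _)) (Iso.refl _)
      (asIso (α g V)) (Iso.refl _) ?_ ?_ ?_ ?_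
    · rw [hfst']
      simp
    · simp only [asIso_hom, Iso.trans_hom, Functor.mapIso_hom, Iso.symm_hom, Category.assoc]
      rw [← α_naturality, ← Functor.map_comp_assoc, hsnd]
    · simp
    · simp [ξ']
  refine ⟨lft g (h.rep.snd ξ' ≫ can V), (yon S).map a, snd, ?_, hP⟩
  refine isPullback_of_Sh (g := g) ?_ sqSh
  apply Sh_map_injective (g := g)
  rw [Functor.map_comp, Functor.map_comp]
  exact sqSh.w

end Groth.Agent.Lib.Helper24.Slice
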