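import Groth.Agent.Lib.Helper24.QuotSt6
import Groth.Agent.Lib.Helper24.DescBridge
import Groth.Agent.Lib.Helper24.DescE6
import Groth.Agent.Lib.Helper24.Slice4
import Groth.Agent.Lib.Helper24.PshFun
set_option autoImplicit false
set_option linter.unusedSimpArgs false
universe w v u v₂ u₂
set_option backward.isDefEq.respectTransparency false
set_option backward.isDefEq.respectTransparency.types false

/-! Invariant maps `X ⟶ M` to a sheaf factor uniquely through `[X/G]`. -/

namespace Groth.Agent.Lib.Helper24.QuotSt7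
open CategoryTheory CategoryTheory.Limits MonoidalCategory CartesianMonoidalCategory MonObj GrpObj
open AlgebraicGeometry Opposite Groth.Agent.Lib.Helper24.QuotSt1 Groth.Agent.Lib.Helper24.QuotSt2
open Groth.Agent.Lib.Helper24.QuotSt3 Groth.Agent.Lib.Helper24.QuotSt4
open Groth.Agent.Lib.Helper24.QuotSt5 Groth.Agent.Lib.Helper24.QuotSt6
open Groth.Agent.Lib.Helper24.PshFun

section General
variable {C : Type u} [Category.{v} C] {P : Cᵒᵖ ⥤ Type w}
variable {𝒜 : BasedCategory.{v₂, u₂} C}

lemma eltObj_ext {x y : Stk.EltObj P} (hb : x.base = y.base)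
    (hs : P.map (eqToHom hb).op y.sec = x.sec) : x = y := by
  obtain ⟨xb, xs⟩ := x
  obtain ⟨yb, ys⟩ := y
  dsimp only at hb
  subst hb
  simp only [eqToHom_refl, op_id, FunctorToTypes.map_id_apply] at hs
  rw [hs]

/-- two functors over `C` into a category of elements with the same sections are equal -/
theorem eq_of_sec_eq (Φ Ψ : 𝒜 ⥤ᵇ Stk.ofPsh P) (h : ∀ a, sec Φ a = sec Ψ a) : Φ = Ψ := by
  have hobj : ∀ a, Φ.toFunctor.obj a = Ψ.toFunctor.obj a := fun a =>
    eltObj_ext ((base_eq Φ a).trans (base_eq Ψ a).symm) (sec_eq_aux Φ Ψ a (h a))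
  have hF : Φ.toFunctor = Ψ.toFunctor := by
    refine CategoryTheory.Functor.ext hobj fun a b m => ?_
    apply Stk.EltObj.hom_ext
    rw [Stk.EltObj.comp_hom, Stk.EltObj.comp_hom, map_hom, map_hom]
    have e1 : (eqToHom (hobj a)).hom = eqToHom (congrArg Stk.EltObj.base (hobj a)) := by
      generalize hobj a = e
      generalize Φ.toFunctor.obj a = x at e
      subst e
      rfl
    have e2 : (eqToHom (hobj b).symm).hom = eqToHom (congrArg Stk.EltObj.base (hobj b).symm) := by
      generalize hobj b = e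
      generalize Φ.toFunctor.obj b = x at e
      subst e
      rfl
    rw [e1, e2]
    simp
  obtain ⟨Φf, Φw⟩ := Φ
  obtain ⟨Ψf, Ψw⟩ := Ψ
  dsimp only at hF
  subst hF
  rfl

end General


section Quot
open AlgSp Groth.Agent.Lib.Helper14.AS Groth.Agent.Lib.Helper24.DescSheaf
open Groth.Agent.Lib.Helper24.DescBridge

variable {S : Scheme.{u}} {G : Over S} [GrpObj G] [IsAffineHom G.hom] [Flat G.hom]
  [LocallyOfFinitePresentation G.hom] {X : Over S} {aX : AlgGrp.Action G X}
  {M : AlgSp.Sp S} (f : (AlgSp.yon S).obj X ⟶ M)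
  (hf : (AlgSp.yon S).map aX.act ≫ f = (AlgSp.yon S).map (snd G X) ≫ f)

instance flat_π (A : AlgSt.QuotObj Scheme.fppfPrecoverage G aX) : Flat A.π.left :=
  torsor_prop @Flat (inferInstanceAs (Flat G.hom)) A

instance lfp_π (A : AlgSt.QuotObj Scheme.fppfPrecoverage G aX) :
    LocallyOfFinitePresentation A.π.left :=
  torsor_prop @LocallyOfFinitePresentation
    (inferInstanceAs (LocallyOfFinitePresentation G.hom)) A

instance surjective_π (A : AlgSt.QuotObj Scheme.fppfPrecoverage G aX) : Surjective A.π.left :=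
  torsor_prop @Surjective surjective_hom_of_grpObj A

instance epi_π (A : AlgSt.QuotObj Scheme.fppfPrecoverage G aX) : Epi ((yon S).map A.π) :=
  epi_yon_map_of_fppf A.π

include hf in
lemma exists_desc_obj (A : AlgSt.QuotObj Scheme.fppfPrecoverage G aX) :
    ∃ d : (yon S).obj A.base ⟶ M, (yon S).map A.π ≫ d = (yon S).map A.φ ≫ f := by
  refine exists_desc ((yon S).map A.π) ((yon S).map A.φ ≫ f) fun T a₁ a₂ h => ?_
  obtain ⟨p₁, rfl⟩ := (yon S).map_surjective a₁
  obtain ⟨p₂, rfl⟩ := (yon S).map_surjective a₂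
  have h' : p₁ ≫ A.π = p₂ ≫ A.π := by
    apply (yon S).map_injective
    rw [Functor.map_comp, Functor.map_comp]
    exact h
  obtain ⟨q, hq1, hq2⟩ : ∃ q : T ⟶ G ⊗ A.P, q ≫ A.act.act = p₁ ∧ q ≫ snd G A.P = p₂ :=
    ⟨A.cart.lift p₁ p₂ h', A.cart.lift_fst _ _ _, A.cart.lift_snd _ _ _⟩
  have e1 : p₁ ≫ A.φ = (q ≫ (G ◁ A.φ)) ≫ aX.act := by
    rw [← hq1, Category.assoc, A.eqv, Category.assoc]
  have e2 : p₂ ≫ A.φ = (q ≫ (G ◁ A.φ)) ≫ snd G X := by
    rw [← hq2, Category.assoc, Category.assoc, whiskerLeft_snd]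
  rw [← Category.assoc, ← Category.assoc, ← Functor.map_comp, ← Functor.map_comp, e1, e2,
    Functor.map_comp _ _ aX.act, Functor.map_comp _ _ (snd G X), Category.assoc, Category.assoc,
    hf]

/-- the descended section over the base of a torsor -/
noncomputable def dOf (A : AlgSt.QuotObj Scheme.fppfPrecoverage G aX) :
    (yon S).obj A.base ⟶ M := (exists_desc_obj f hf A).choose

lemma dOf_spec (A : AlgSt.QuotObj Scheme.fppfPrecoverage G aX) :
    (yon S).map A.π ≫ dOf f hf A = (yon S).map A.φ ≫ f := (exists_desc_obj f hf A).choose_spec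

lemma dOf_unique (A : AlgSt.QuotObj Scheme.fppfPrecoverage G aX) (d : (yon S).obj A.base ⟶ M)
    (h : (yon S).map A.π ≫ d = (yon S).map A.φ ≫ f) : d = dOf f hf A := by
  rw [← cancel_epi ((yon S).map A.π), h, dOf_spec]

lemma dOf_map {A B : AlgSt.QuotObj Scheme.fppfPrecoverage G aX} (h : A ⟶ B) :
    (yon S).map h.base ≫ dOf f hf B = dOf f hf A := by
  apply dOf_unique
  have hw : A.π ≫ h.base = h.top ≫ B.π := h.cart.w.symm
  rw [← Category.assoc, ← Functor.map_comp, hw, Functor.map_comp, Category.assoc, dOf_spec,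
    ← Category.assoc, ← Functor.map_comp, h.wφ]

/-- the family of sections defining the factorisation -/
noncomputable def fam : Fam (AlgSt.QuotSt Scheme.fppfPrecoverage G aX) M.obj where
  s A := yEquiv (dOf f hf A)
  compat {A B} h := by
    have := Groth.Agent.Lib.Helper24.DescE.yEquiv_map_comp h.base (dOf f hf B)
    rw [dOf_map] at this
    exact this.symm

/-- the factorisation through the quotient stack -/
noncomputable def factor : AlgSt.QuotSt Scheme.fppfPrecoverage G aX ⥤ᵇ AlgSt.ofSp M :=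
  ofFam (fam f hf)

lemma yEquiv_yon_map {T V : Over S} (x : T ⟶ V) :
    yEquiv ((yon S).map x) = (⟨x⟩ : ((yon S).obj V).obj.obj (op T)) := by
  rw [← Groth.Agent.Lib.Helper24.Slice.yEquiv_symm_yon, Equiv.apply_symm_apply]

include hf in
lemma dOf_triv {T : Over S} (x : T ⟶ X) :
    dOf f hf (triv Scheme.fppfPrecoverage G aX x) = (yon S).map x ≫ f := by
  have h : (yon S).map (snd G T) ≫ (yon S).map x ≫ f = (yon S).map ((G ◁ x) ≫ aX.act) ≫ f := by
    rw [Functor.map_comp, Category.assoc, hf, ← Category.assoc, ← Category.assoc,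
      ← Functor.map_comp, ← Functor.map_comp, whiskerLeft_snd]
  exact (dOf_unique f hf (triv Scheme.fppfPrecoverage G aX x) ((yon S).map x ≫ f) h).symm

lemma sec_factor (A : AlgSt.QuotObj Scheme.fppfPrecoverage G aX) :
    sec (factor f hf) A = yEquiv (dOf f hf A) := sec_ofFam (fam f hf) A

theorem quotMap_comp_factor :
    BasedFunctor.comp (AlgSt.quotMap Scheme.fppfPrecoverage G aX) (factor f hf) =
      AlgSt.ofSpMap f := by
  apply eq_of_sec_eq
  intro a
  rw [sec_comp, Groth.Agent.Lib.Helper24.PshBridge.sec_ofPshMap, sec_factor]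
  have h1 : dOf f hf ((AlgSt.quotMap Scheme.fppfPrecoverage G aX).toFunctor.obj a) =
      (yon S).map a.sec.down ≫ f := dOf_triv f hf a.sec.down
  rw [h1, yEquiv_comp, yEquiv_yon_map]
  simp only [eqToHom_refl, op_id]
  erw [FunctorToTypes.map_id_apply]
  rfl

theorem factor_unique (ψ : AlgSt.QuotSt Scheme.fppfPrecoverage G aX ⥤ᵇ AlgSt.ofSp M)
    (hψ : BasedFunctor.comp (AlgSt.quotMap Scheme.fppfPrecoverage G aX) ψ = AlgSt.ofSpMap f) :
    ψ = factor f hf := by
  apply eq_of_sec_eq
  intro A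
  rw [sec_factor]
  obtain ⟨σ, hσ⟩ : ∃ σ : M.obj.obj (op A.base), σ = sec ψ A := ⟨_, rfl⟩
  rw [← hσ]
  have key : yEquiv.symm σ = dOf f hf A := by
    apply dOf_unique
    apply yEquiv.injective
    rw [Groth.Agent.Lib.Helper24.DescE.yEquiv_map_comp, Equiv.apply_symm_apply, yEquiv_comp,
      yEquiv_yon_map, hσ]
    -- the canonical morphism from the trivial torsor on the total space
    have h1 := sec_compat ψ (homOfSec A (𝟙 A.P) (x := A.φ) (Category.id_comp _))
    have h2 : (AlgSt.QuotSt Scheme.fppfPrecoverage G aX).p.map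
        (homOfSec A (𝟙 A.P) (x := A.φ) (Category.id_comp _)) = A.π := by
      change 𝟙 A.P ≫ A.π = A.π
      rw [Category.id_comp]
    rw [h2] at h1
    refine h1.trans ?_
    have h3 := congrArg (fun Φ => sec Φ (⟨A.P, ⟨A.φ⟩⟩ : (AlgSt.ofSch X).obj)) hψ
    simp only at h3
    rw [sec_comp, Groth.Agent.Lib.Helper24.PshBridge.sec_ofPshMap] at h3
    simp only [eqToHom_refl, op_id] at h3
    erw [FunctorToTypes.map_id_apply] at h3
    exact h3
  rw [← key, Equiv.apply_symm_apply]

end Quot

end Groth.Agent.Lib.Helper24.QuotSt7
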