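import Groth.Agent.Lib.Helper24.QuotSt14
set_option autoImplicit false
set_option linter.unusedSimpArgs false
universe u
set_option backward.isDefEq.respectTransparency false
set_option backward.isDefEq.respectTransparency.types false

/-! The glued object of `[X/G]` on a vertex of the system of a section over a covering sieve. -/

namespace Groth.Agent.Lib.Helper24.QuotSt15
open CategoryTheory CategoryTheory.Limits MonoidalCategory CartesianMonoidalCategory Opposite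
open AlgebraicGeometry MonObj GrpObj Groth.Agent.Lib.Helper24.QuotSt9
open Groth.Agent.Lib.Helper24.StkCone Groth.Agent.Lib.Helper24.StkRefine
open Groth.Agent.Lib.Helper24.QuotSt11

variable {S : Scheme.{u}} {U : Over S} {K : Precoverage Scheme.{u}} {G : Over S} [GrpObj G]
  {X : Over S} {aX : AlgGrp.Action G X} {R : Sieve U}
  (hR : R ∈ QuotSh.J K S U)
  (hsub : ∀ Z : Over S, Presieve.IsSheaf (QuotSh.J K S) (yoneda.obj Z))
  (Ψ : Stk.sieveCat R ⥤ᵇ AlgSt.QuotSt K G aX) (vx : Vertex (preOf Ψ))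

/-- the maps to the vertex, with source the total space of the torsor -/
abbrev qv (a : (Stk.sieveCat R).obj) : (Ψ.toFunctor.obj a).P ⟶ vx.N := vx.q a

include hR hsub in
lemma exists_φ : ∃! φN : vx.N ⟶ X, ∀ a, qv Ψ vx a ≫ φN = (Ψ.toFunctor.obj a).φ :=
  vx.toCartSys.exists_unique_glue hR hsub (fun a => (Ψ.toFunctor.obj a).φ)
    (fun m => (Ψ.toFunctor.map m).wφ)

/-- the glued map to `X` -/
noncomputable def φN : vx.N ⟶ X := (exists_φ hR hsub Ψ vx).choose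

lemma q_φN (a : (Stk.sieveCat R).obj) : qv Ψ vx a ≫ φN hR hsub Ψ vx = (Ψ.toFunctor.obj a).φ :=
  (exists_φ hR hsub Ψ vx).choose_spec.1 a

include hR hsub in
lemma exists_act : ∃! actN : G ⊗ vx.N ⟶ vx.N,
    ∀ a, (G ◁ qv Ψ vx a) ≫ actN = (Ψ.toFunctor.obj a).act.act ≫ qv Ψ vx a := by
  refine (vx.toCartSys.whisker G).exists_unique_glue hR hsub
    (fun a => (Ψ.toFunctor.obj a).act.act ≫ qv Ψ vx a) (fun {a b} m => ?_)
  change (G ◁ (Ψ.toFunctor.map m).top) ≫ (Ψ.toFunctor.obj b).act.act ≫ qv Ψ vx b =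
    (Ψ.toFunctor.obj a).act.act ≫ qv Ψ vx a
  rw [← Category.assoc, ← (Ψ.toFunctor.map m).eqv, Category.assoc]
  congr 1
  exact vx.t_q m

/-- the glued action -/
noncomputable def actN : G ⊗ vx.N ⟶ vx.N := (exists_act hR hsub Ψ vx).choose

lemma q_actN (a : (Stk.sieveCat R).obj) :
    (G ◁ qv Ψ vx a) ≫ actN hR hsub Ψ vx = (Ψ.toFunctor.obj a).act.act ≫ qv Ψ vx a :=
  (exists_act hR hsub Ψ vx).choose_spec.1 a

lemma one_actN : (η[G] ▷ vx.N) ≫ actN hR hsub Ψ vx = (λ_ vx.N).hom := by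
  apply (vx.toCartSys.whisker (𝟙_ (Over S))).hom_ext hR hsub
  intro a
  change (𝟙_ (Over S) ◁ qv Ψ vx a) ≫ (η[G] ▷ vx.N) ≫ actN hR hsub Ψ vx =
    (𝟙_ (Over S) ◁ qv Ψ vx a) ≫ (λ_ vx.N).hom
  rw [← Category.assoc, whisker_exchange, Category.assoc, q_actN, ← Category.assoc,
    (Ψ.toFunctor.obj a).act.one_act, leftUnitor_naturality]

lemma mul_actN : (μ[G] ▷ vx.N) ≫ actN hR hsub Ψ vx =
    (α_ G G vx.N).hom ≫ (G ◁ actN hR hsub Ψ vx) ≫ actN hR hsub Ψ vx := by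
  apply (vx.toCartSys.whisker (G ⊗ G)).hom_ext hR hsub
  intro a
  change ((G ⊗ G) ◁ qv Ψ vx a) ≫ (μ[G] ▷ vx.N) ≫ actN hR hsub Ψ vx =
    ((G ⊗ G) ◁ qv Ψ vx a) ≫ (α_ G G vx.N).hom ≫ (G ◁ actN hR hsub Ψ vx) ≫ actN hR hsub Ψ vx
  rw [← Category.assoc, whisker_exchange, Category.assoc, q_actN, ← Category.assoc,
    (Ψ.toFunctor.obj a).act.mul_act, ← Category.assoc ((G ⊗ G) ◁ qv Ψ vx a),
    associator_naturality_right]
  simp only [Category.assoc]
  congr 1
  rw [← MonoidalCategory.whiskerLeft_comp_assoc, q_actN, MonoidalCategory.whiskerLeft_comp,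
    Category.assoc, q_actN]

lemma eqvN : actN hR hsub Ψ vx ≫ φN hR hsub Ψ vx = (G ◁ φN hR hsub Ψ vx) ≫ aX.act := by
  apply (vx.toCartSys.whisker G).hom_ext hR hsub
  intro a
  change (G ◁ qv Ψ vx a) ≫ actN hR hsub Ψ vx ≫ φN hR hsub Ψ vx =
    (G ◁ qv Ψ vx a) ≫ (G ◁ φN hR hsub Ψ vx) ≫ aX.act
  rw [← Category.assoc, q_actN, Category.assoc, q_φN, (Ψ.toFunctor.obj a).eqv,
    ← MonoidalCategory.whiskerLeft_comp_assoc, q_φN]

lemma isPullback_comp_eqToHom {C : Type*} [Category C] {P X Y Z Z' : C} {t : P ⟶ Y} {l : P ⟶ X}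
    {r : Y ⟶ Z} {b : X ⟶ Z} (h : IsPullback t l r b) (hZ : Z = Z') :
    IsPullback t l (r ≫ eqToHom hZ) (b ≫ eqToHom hZ) := by
  subst hZ
  simpa using h

lemma isPullback_of_comp_eqToHom {C : Type*} [Category C] {P X X' Y Z : C} {t : P ⟶ Y} {l : P ⟶ X}
    {r : Y ⟶ Z} (hX : X = X') {b : X' ⟶ Z} (h : IsPullback t (l ≫ eqToHom hX) r b) :
    IsPullback t l r (eqToHom hX ≫ b) := by
  subst hX
  simpa using h

include hR hsub in
lemma cartN : IsPullback (actN hR hsub Ψ vx) (snd G vx.N) vx.πN vx.πN :=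
  Groth.Agent.Lib.Helper24.QuotSt14.isPullback_act vx.toCartSys hR hsub G
    (fun a => (Ψ.toFunctor.obj a).act.act)
    (fun a => isPullback_comp_eqToHom (Ψ.toFunctor.obj a).cart (Ψ.w_obj a))
    (actN hR hsub Ψ vx) (fun a => q_actN hR hsub Ψ vx a)

lemma loc_of_base_eq (A : AlgSt.QuotObj K G aX) {T : Over S} (hA : A.base = T) :
    NonAbH1.IsLocallyTrivialFor K (Over.mk (A.π ≫ eqToHom hA).left : Over T.left) := by
  subst hA
  simpa using A.loc

lemma isLocallyTrivialFor_of_family [K.IsStableUnderComposition] {Y : Scheme.{u}} (N : Over Y)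
    {I : Type u} {V : I → Scheme.{u}} (w : ∀ i, V i ⟶ Y) (hw : Presieve.ofArrows V w ∈ K Y)
    (h : ∀ i, ∃ Ri ∈ K (V i), ∀ ⦃W : Scheme.{u}⦄ (g : W ⟶ V i), Ri g →
      ∃ s : W ⟶ N.left, s ≫ N.hom = g ≫ w i) : NonAbH1.IsLocallyTrivialFor K N := by
  choose Ri hRi hsec using h
  have hex := fun i => (Ri i).exists_eq_ofArrows
  choose J W g hg using hex
  refine ⟨Presieve.ofArrows (fun p : Σ i, J i => W p.1 p.2) (fun p => g p.1 p.2 ≫ w p.1),
    Precoverage.comp_mem_coverings w hw g (fun i => by rw [← hg i]; exact hRi i), ?_⟩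
  rintro S' f ⟨p⟩
  obtain ⟨s, hs⟩ := hsec p.1 (g p.1 p.2) (by rw [hg p.1]; exact ⟨p.2⟩)
  exact ⟨s, hs⟩

section Glue
variable [K.IsStableUnderComposition] {I : Type u} {V : I → Over S} (f : ∀ i, V i ⟶ U)
  (hf : ∀ i, R (f i))
  (hu : Presieve.ofArrows (fun i => (V i).left) (fun i => (f i).left) ∈ K U.left)

include hf hu in
lemma locN : NonAbH1.IsLocallyTrivialFor K (Over.mk vx.πN.left : Over U.left) := by
  refine isLocallyTrivialFor_of_family _ (fun i => (f i).left) hu (fun i => ?_)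
  obtain ⟨Ri, hRi, hsec⟩ := loc_of_base_eq (Ψ.toFunctor.obj (ai f hf i)) (Ψ.w_obj (ai f hf i))
  refine ⟨Ri, hRi, fun W g hg => ?_⟩
  obtain ⟨s, hs⟩ := hsec g hg
  refine ⟨s ≫ (qv Ψ vx (ai f hf i)).left, ?_⟩
  have h1 := congrArg CommaMorphism.left (vx.cart (ai f hf i)).w
  change (s ≫ (qv Ψ vx (ai f hf i)).left) ≫ vx.πN.left = g ≫ (f i).left
  rw [Category.assoc]
  have h2 : (qv Ψ vx (ai f hf i)).left ≫ vx.πN.left =
      ((Ψ.toFunctor.obj (ai f hf i)).π ≫ eqToHom (Ψ.w_obj (ai f hf i))).left ≫ (f i).left := h1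
  rw [h2, ← Category.assoc]
  congr 1

/-- **the glued object of the quotient stack** -/
noncomputable def glueObj : AlgSt.QuotObj K G aX where
  base := U
  P := vx.N
  act :=
    { act := actN hR hsub Ψ vx
      one_act := one_actN hR hsub Ψ vx
      mul_act := mul_actN hR hsub Ψ vx }
  π := vx.πN
  cart := cartN hR hsub Ψ vx
  loc := locN Ψ vx f hf hu
  φ := φN hR hsub Ψ vx
  eqv := eqvN hR hsub Ψ vx

/-- the cone over the section with vertex the glued object -/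
noncomputable def glueCone : Cone R Ψ (glueObj hR hsub Ψ vx f hf hu) where
  θ a :=
    { base := eqToHom (Ψ.w_obj a) ≫ a.obj.hom
      top := qv Ψ vx a
      eqv := (q_actN hR hsub Ψ vx a).symm
      cart := isPullback_of_comp_eqToHom (Ψ.w_obj a) (vx.cart a)
      wφ := q_φN hR hsub Ψ vx a }
  lift a := by
    apply IsHomLift.of_fac' (AlgSt.QuotSt K G aX).p _ _ (Ψ.w_obj a) rfl
    change eqToHom (Ψ.w_obj a) ≫ a.obj.hom = eqToHom (Ψ.w_obj a) ≫ a.obj.hom ≫ eqToHom rfl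
    simp
  nat {a b} m := by
    refine AlgSt.QuotObj.Hom.ext ?_ (vx.t_q m)
    change (Ψ.toFunctor.map m).base ≫ eqToHom (Ψ.w_obj b) ≫ b.obj.hom =
      eqToHom (Ψ.w_obj a) ≫ a.obj.hom
    rw [map_base m]
    simp

end Glue

end Groth.Agent.Lib.Helper24.QuotSt15
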