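import Groth.Agent.Lib.Helper24.QuotSt9
set_option autoImplicit false
set_option linter.unusedSimpArgs false
universe u
set_option backward.isDefEq.respectTransparency false
set_option backward.isDefEq.respectTransparency.types false

/-! Morphisms between vertices of cones in `[X/G]` over a covering sieve exist uniquely. -/

namespace Groth.Agent.Lib.Helper24.QuotSt10
open CategoryTheory CategoryTheory.Limits MonoidalCategory CartesianMonoidalCategory Opposite
open AlgebraicGeometry MonObj GrpObj Groth.Agent.Lib.Helper24.QuotSt9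
open Groth.Agent.Lib.Helper24.StkCone

variable {S : Scheme.{u}} {U : Over S} {K : Precoverage Scheme.{u}} {G : Over S} [GrpObj G]
  {X : Over S} {aX : AlgGrp.Action G X} {R : Sieve U}
  (hR : R ∈ QuotSh.J K S U)
  (hsub : ∀ Z : Over S, Presieve.IsSheaf (QuotSh.J K S) (yoneda.obj Z))
  {Ψ : Stk.sieveCat R ⥤ᵇ AlgSt.QuotSt K G aX} {A A' : AlgSt.QuotObj K G aX}
  (c : Cone R Ψ A) (c' : Cone R Ψ A') (hA : A.base = U) (hA' : A'.base = U)

include hR hsub hA hA' in
lemma exists_top : ∃ top : A.P ⟶ A'.P, ∀ a, (c.θ a).top ≫ top = (c'.θ a).top := by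
  obtain ⟨top, h, -⟩ := (ofCone c hA).exists_unique_glue hR hsub
    (fun a => (c'.θ a).top) (fun m => (ofCone c' hA').t_q m)
  exact ⟨top, h⟩

include hR hsub hA hA' in
theorem cone_desc : ∃! h : A ⟶ A', (AlgSt.QuotSt K G aX).p.IsHomLift (𝟙 U) h ∧
    ∀ a, c.θ a ≫ h = c'.θ a := by
  obtain ⟨top, htop⟩ := exists_top hR hsub c c' hA hA'
  obtain ⟨top', htop'⟩ := exists_top hR hsub c' c hA' hA
  let σ := ofCone c hA
  let σ' := ofCone c' hA'
  have h1 : top ≫ top' = 𝟙 A.P := by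
    apply σ.hom_ext hR hsub
    intro a
    change (c.θ a).top ≫ top ≫ top' = (c.θ a).top ≫ 𝟙 _
    rw [← Category.assoc, htop, htop', Category.comp_id]
  have h2 : top' ≫ top = 𝟙 A'.P := by
    apply σ'.hom_ext hR hsub
    intro a
    change (c'.θ a).top ≫ top' ≫ top = (c'.θ a).top ≫ 𝟙 _
    rw [← Category.assoc, htop', htop, Category.comp_id]
  have hiso : IsIso top := ⟨⟨top', h1, h2⟩⟩
  have heqv : A.act.act ≫ top = (G ◁ top) ≫ A'.act.act := by
    apply (σ.whisker G).hom_ext hR hsub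
    intro a
    change (G ◁ (c.θ a).top) ≫ A.act.act ≫ top = (G ◁ (c.θ a).top) ≫ (G ◁ top) ≫ A'.act.act
    rw [← Category.assoc, ← (c.θ a).eqv, Category.assoc, htop, (c'.θ a).eqv,
      ← MonoidalCategory.whiskerLeft_comp_assoc, htop]
  have hφ : top ≫ A'.φ = A.φ := by
    apply σ.hom_ext hR hsub
    intro a
    change (c.θ a).top ≫ top ≫ A'.φ = (c.θ a).top ≫ A.φ
    rw [← Category.assoc, htop, (c'.θ a).wφ, (c.θ a).wφ]
  have hπ : top ≫ A'.π ≫ eqToHom hA' = A.π ≫ eqToHom hA := by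
    apply σ.hom_ext hR hsub
    intro a
    change (c.θ a).top ≫ top ≫ σ'.πN = (c.θ a).top ≫ σ.πN
    rw [← Category.assoc, htop]
    exact (σ'.cart a).w.trans (σ.cart a).w.symm
  have hπ' : top ≫ A'.π = A.π ≫ eqToHom (hA.trans hA'.symm) := by
    have := congrArg (fun t => t ≫ eqToHom hA'.symm) hπ
    simpa using this
  let h : A ⟶ A' :=
    { base := eqToHom (hA.trans hA'.symm)
      top := top
      eqv := heqv
      cart := IsPullback.of_horiz_isIso ⟨hπ'⟩
      wφ := hφ }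
  have hl : (AlgSt.QuotSt K G aX).p.IsHomLift (𝟙 U) h := by
    apply IsHomLift.of_fac' (AlgSt.QuotSt K G aX).p _ _ hA hA'
    change eqToHom (hA.trans hA'.symm) = eqToHom hA ≫ 𝟙 U ≫ eqToHom hA'.symm
    simp
  refine ⟨h, ⟨hl, fun a => ?_⟩, ?_⟩
  · refine AlgSt.QuotObj.Hom.ext ?_ (htop a)
    change (c.θ a).base ≫ eqToHom (hA.trans hA'.symm) = (c'.θ a).base
    rw [base_eq_of_lift a.obj.hom _ (c.lift a) (Ψ.w_obj a) hA,
      base_eq_of_lift a.obj.hom _ (c'.lift a) (Ψ.w_obj a) hA']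
    simp
  · rintro h' ⟨hl', hh'⟩
    refine AlgSt.QuotObj.Hom.ext ?_ ?_
    · change h'.base = eqToHom (hA.trans hA'.symm)
      rw [base_eq_of_lift (𝟙 U) _ hl' hA hA']
      simp
    · change h'.top = top
      apply σ.hom_ext hR hsub
      intro a
      change (c.θ a).top ≫ h'.top = (c.θ a).top ≫ top
      rw [htop]
      exact congrArg (fun t => t.top) (hh' a)

end Groth.Agent.Lib.Helper24.QuotSt10
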