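import Groth.Agent.Lib.Helper24.StkRefine
set_option autoImplicit false
open CategoryTheory
universe u v u₂ v₂
set_option backward.isDefEq.respectTransparency false
set_option backward.isDefEq.respectTransparency.types false

/-! # The stack condition for a sieve through cones

For a category fibred in groupoids, restriction of sections to a sieve `R` on `U` is an equivalence
as soon as every section over `R` has a "colimit cone" with vertex over `U`, and maps between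
vertices of cones exist uniquely. -/

namespace Groth.Agent.Lib.Helper24.StkCone
open Groth.Agent.Lib.Helper24.FibGrpd Groth.Agent.Lib.Helper24.FibCatYoneda
open Groth.Agent.Lib.Helper24.FibCatFpGen Groth.Agent.Lib.Helper24.StkRefine
open Groth.Agent.Lib.Helper24.FibCatRepDiag

variable {C : Type u} [Category.{v} C] {𝒳 : BasedCategory.{v₂, u₂} C}
variable {U : C} (R : Sieve U)

/-- a cone over a section `Ψ` of `𝒳` over the sieve `R`, with vertex `A` over `U` -/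
structure Cone (Ψ : Stk.sieveCat R ⥤ᵇ 𝒳) (A : 𝒳.obj) where
  θ : ∀ a : (Stk.sieveCat R).obj, Ψ.toFunctor.obj a ⟶ A
  lift : ∀ a : (Stk.sieveCat R).obj, 𝒳.p.IsHomLift a.obj.hom (θ a)
  nat : ∀ {a b : (Stk.sieveCat R).obj} (m : a ⟶ b), Ψ.toFunctor.map m ≫ θ b = θ a

variable {R}

/-- the canonical cone of a restricted global section -/
def coneOfGlobal (Φ : FibCat.overCat U ⥤ᵇ 𝒳) :
    Cone R (BasedFunctor.comp (Stk.sieveIncl R) Φ) (Φ.toFunctor.obj (Over.mk (𝟙 U))) where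
  θ a := Φ.toFunctor.map (tOf a.obj)
  lift a := map_tOf_lift Φ a.obj
  nat {a b} m := by
    change Φ.toFunctor.map m.hom ≫ Φ.toFunctor.map (tOf b.obj) = Φ.toFunctor.map (tOf a.obj)
    rw [← Functor.map_comp, map_tOf_comp]

/-- the cone obtained from a morphism of restricted sections -/
def coneOfTrans {Φ Φ' : FibCat.overCat U ⥤ᵇ 𝒳}
    (γ : BasedFunctor.comp (Stk.sieveIncl R) Φ ⟶ BasedFunctor.comp (Stk.sieveIncl R) Φ') :
    Cone R (BasedFunctor.comp (Stk.sieveIncl R) Φ) (Φ'.toFunctor.obj (Over.mk (𝟙 U))) where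
  θ a := γ.toNatTrans.app a ≫ Φ'.toFunctor.map (tOf a.obj)
  lift a := comp_id_left 𝒳.p _ _ _ (γ.isHomLift' a) (map_tOf_lift Φ' a.obj)
  nat {a b} m := by
    have n := γ.toNatTrans.naturality m
    change Φ.toFunctor.map m.hom ≫ γ.toNatTrans.app b ≫ Φ'.toFunctor.map (tOf b.obj) =
      γ.toNatTrans.app a ≫ Φ'.toFunctor.map (tOf a.obj)
    have n' : Φ.toFunctor.map m.hom ≫ γ.toNatTrans.app b =
        γ.toNatTrans.app a ≫ Φ'.toFunctor.map m.hom := n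
    rw [← Category.assoc, n', Category.assoc, ← Functor.map_comp, map_tOf_comp]
    rfl

section Pre
variable (h𝒳 : FibCat.IsFibGrpd 𝒳.p)
  (hdesc : ∀ (Ψ : Stk.sieveCat R ⥤ᵇ 𝒳) (A A' : 𝒳.obj) (c : Cone R Ψ A) (c' : Cone R Ψ A'),
    𝒳.p.obj A = U → 𝒳.p.obj A' = U →
    ∃! h : A ⟶ A', 𝒳.p.IsHomLift (𝟙 U) h ∧ ∀ a, c.θ a ≫ h = c'.θ a)

include h𝒳 hdesc in
theorem faithful_of_cones : (Stk.resSieve R 𝒳).Faithful := by
  constructor
  intro Φ Φ' α β hαβ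
  have hc := cartOnT_of_isFibGrpd h𝒳 Φ'
  apply ext_of_app_id hc
  have happ : ∀ a : (Stk.sieveCat R).obj, α.toNatTrans.app a.obj = β.toNatTrans.app a.obj :=
    fun a => congrArg (fun t : (Stk.resSieve R 𝒳).obj Φ ⟶ (Stk.resSieve R 𝒳).obj Φ' =>
      t.toNatTrans.app a) hαβ
  let c := coneOfGlobal (R := R) Φ
  let c' := coneOfTrans (R := R) (Φ := Φ) (Φ' := Φ') ((Stk.resSieve R 𝒳).map α)
  obtain ⟨h, -, huniq⟩ := hdesc _ _ _ c c' (Φ.w_obj _) (Φ'.w_obj _)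
  have la : 𝒳.p.IsHomLift (𝟙 U) (α.toNatTrans.app (Over.mk (𝟙 U))) := app_lift α (Over.mk (𝟙 U))
  have lb : 𝒳.p.IsHomLift (𝟙 U) (β.toNatTrans.app (Over.mk (𝟙 U))) := app_lift β (Over.mk (𝟙 U))
  have h1 : α.toNatTrans.app (Over.mk (𝟙 U)) = h := by
    apply huniq
    refine ⟨la, fun a => ?_⟩
    exact α.toNatTrans.naturality (tOf a.obj)
  have h2 : β.toNatTrans.app (Over.mk (𝟙 U)) = h := by
    apply huniq
    refine ⟨lb, fun a => ?_⟩
    change Φ.toFunctor.map (tOf a.obj) ≫ β.toNatTrans.app (Over.mk (𝟙 U)) =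
      α.toNatTrans.app a.obj ≫ Φ'.toFunctor.map (tOf a.obj)
    rw [happ a]
    exact β.toNatTrans.naturality (tOf a.obj)
  rw [h1, h2]

include h𝒳 hdesc in
theorem full_of_cones : (Stk.resSieve R 𝒳).Full := by
  constructor
  intro Φ Φ' γ
  have hc := cartOnT_of_isFibGrpd h𝒳 Φ'
  let c := coneOfGlobal (R := R) Φ
  let c' := coneOfTrans (R := R) (Φ := Φ) (Φ' := Φ') γ
  obtain ⟨h, ⟨hl, hh⟩, -⟩ := hdesc _ _ _ c c' (Φ.w_obj _) (Φ'.w_obj _)
  refine ⟨natTransOf hc h hl, ?_⟩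
  apply BasedNatTrans.homCategory.ext
  ext a
  have hs := hc a.obj
  have l1 : 𝒳.p.IsHomLift (𝟙 a.obj.left) (appOf hc h hl a.obj) := appOf_lift hc h hl a.obj
  have l2 : 𝒳.p.IsHomLift (𝟙 a.obj.left) (γ.toNatTrans.app a) := γ.isHomLift' a
  change appOf hc h hl a.obj = γ.toNatTrans.app a
  apply Functor.IsStronglyCartesian.ext 𝒳.p a.obj.hom (Φ'.toFunctor.map (tOf a.obj)) (𝟙 a.obj.left)
  rw [appOf_fac]
  exact hh a

end Pre


section Ess
variable (h𝒳 : FibCat.IsFibGrpd 𝒳.p)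
  (hex : ∀ Ψ : Stk.sieveCat R ⥤ᵇ 𝒳, ∃ A : 𝒳.obj, 𝒳.p.obj A = U ∧ Nonempty (Cone R Ψ A))

include h𝒳 hex in
theorem essSurj_of_cones : (Stk.resSieve R 𝒳).EssSurj := by
  constructor
  intro Ψ
  obtain ⟨A, hA, ⟨c⟩⟩ := hex Ψ
  have : 𝒳.p.IsFibered := isFibered_of_isFibGrpd 𝒳.p h𝒳
  let Φ : FibCat.overCat U ⥤ᵇ 𝒳 := pbBased hA
  have hex' : ∀ a : (Stk.sieveCat R).obj, ∃ χ : Ψ.toFunctor.obj a ⟶ Φ.toFunctor.obj a.obj,
      𝒳.p.IsHomLift (𝟙 a.obj.left) χ ∧ χ ≫ pbMap hA a.obj = c.θ a := by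
    intro a
    have := c.lift a
    obtain ⟨χ, ⟨h1, h2⟩, -⟩ := Functor.IsStronglyCartesian.universal_property 𝒳.p a.obj.hom
      (pbMap hA a.obj) (𝟙 a.obj.left) a.obj.hom (Category.id_comp _).symm (c.θ a)
    exact ⟨χ, h1, h2⟩
  choose χ hχl hχ using hex'
  have hnat : ∀ {a b : (Stk.sieveCat R).obj} (m : a ⟶ b),
      Ψ.toFunctor.map m ≫ χ b = χ a ≫ Φ.toFunctor.map m.hom := by
    intro a b m
    have hm : (Stk.sieveCat R).p.IsHomLift m.hom.left m := sieveCat_lift m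
    have l1 : 𝒳.p.IsHomLift m.hom.left (Ψ.toFunctor.map m ≫ χ b) :=
      comp_id_right 𝒳.p _ _ _ (map_lift Ψ _ _ hm) (hχl b)
    have hm' : (FibCat.overCat U).p.IsHomLift m.hom.left m.hom := over_lift_self m.hom
    have l2 : 𝒳.p.IsHomLift m.hom.left (χ a ≫ Φ.toFunctor.map m.hom) :=
      comp_id_left 𝒳.p _ _ _ (hχl a) (map_lift Φ _ _ hm')
    apply Functor.IsStronglyCartesian.ext 𝒳.p b.obj.hom (pbMap hA b.obj) m.hom.left
    rw [Category.assoc, hχ, c.nat, Category.assoc]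
    have : Φ.toFunctor.map m.hom ≫ pbMap hA b.obj = pbMap hA a.obj := pbTrans_fac hA m.hom
    rw [this, hχ]
  let η : Ψ ⟶ (Stk.resSieve R 𝒳).obj Φ :=
    { toNatTrans := { app := χ, naturality := fun _ _ m => hnat m }
      isHomLift' := fun a => hχl a }
  have hiso : ∀ a, IsIso (η.toNatTrans.app a) := fun a => by
    have : 𝒳.p.IsHomLift (𝟙 a.obj.left) (η.toNatTrans.app a) := hχl a
    exact isIso_of_isFibGrpd 𝒳.p h𝒳 (𝟙 a.obj.left) _
  have : IsIso (X := Ψ.toFunctor) η.toNatTrans := NatIso.isIso_of_isIso_app _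
  have : IsIso η := BasedNatIso.isIso_of_toNatTrans_isIso η
  exact ⟨Φ, ⟨(asIso η).symm⟩⟩

end Ess

section Main
variable (h𝒳 : FibCat.IsFibGrpd 𝒳.p)
  (hdesc : ∀ (Ψ : Stk.sieveCat R ⥤ᵇ 𝒳) (A A' : 𝒳.obj) (c : Cone R Ψ A) (c' : Cone R Ψ A'),
    𝒳.p.obj A = U → 𝒳.p.obj A' = U →
    ∃! h : A ⟶ A', 𝒳.p.IsHomLift (𝟙 U) h ∧ ∀ a, c.θ a ≫ h = c'.θ a)

include h𝒳 hdesc in
theorem isPrestackFor_of_cones : Stk.IsPrestackFor R 𝒳 :=
  ⟨full_of_cones h𝒳 hdesc, faithful_of_cones h𝒳 hdesc⟩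

include h𝒳 hdesc in
theorem isStackFor_of_cones
    (hex : ∀ Ψ : Stk.sieveCat R ⥤ᵇ 𝒳, ∃ A : 𝒳.obj, 𝒳.p.obj A = U ∧ Nonempty (Cone R Ψ A)) :
    Stk.IsStackFor R 𝒳 := by
  have h1 := full_of_cones h𝒳 hdesc
  have h2 := faithful_of_cones h𝒳 hdesc
  have h3 := essSurj_of_cones h𝒳 hex
  exact { }

end Main

end Groth.Agent.Lib.Helper24.StkCone
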