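import Mathlib
import Groth.Agent.Lib.Helper14.AlgSpSect
import Groth.Agent.Lib.Helper24.DescSheaf
import Groth.Agent.Lib.Helper24.StkCone
set_option autoImplicit false
set_option linter.unusedSectionVars false
set_option backward.isDefEq.respectTransparency false
set_option backward.isDefEq.respectTransparency.types false
universe u
open CategoryTheory CategoryTheory.Limits AlgebraicGeometry Opposite

/-! Gluing for fppf sheaves over a covering sieve: morphisms from representables glue, morphisms of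
sheaves from natural maps on points, and cartesian systems of sheaves over a sieve: the vertex is
the colimit. -/

namespace Groth.Agent.Lib.Helper24.SpQ1
open AlgSp Groth.Agent.Lib.Helper14.AS Groth.Agent.Lib.Helper24.DescSheaf

variable {S : Scheme.{u}}

lemma yEquiv_map_comp {F : Sp S} {W W' : Over S} (l : W' ⟶ W) (x : (yon S).obj W ⟶ F) :
    yEquiv ((yon S).map l ≫ x) = F.obj.map l.op (yEquiv x) :=
  ((AlgSp.J S).uliftYonedaEquiv_naturality x l).symm

/-- morphisms from a representable sheaf to a sheaf glue along covering sieves -/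
theorem exists_unique_glue_yon (F : Sp S) {W : Over S} (T : Sieve W) (hT : T ∈ J S W)
    (x : ∀ ⦃W' : Over S⦄ (k : W' ⟶ W), T k → ((yon S).obj W' ⟶ F))
    (hx : ∀ ⦃W' W'' : Over S⦄ (k : W' ⟶ W) (hk : T k) (l : W'' ⟶ W'),
      (yon S).map l ≫ x k hk = x (l ≫ k) (T.downward_closed hk l)) :
    ∃! y : (yon S).obj W ⟶ F, ∀ ⦃W' : Over S⦄ (k : W' ⟶ W) (hk : T k),
      (yon S).map k ≫ y = x k hk := by
  have hsh : Presieve.IsSheafFor F.obj T.arrows :=
    (isSheaf_iff_isSheaf_of_type _ _).1 F.property T hT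
  let fam : Presieve.FamilyOfElements F.obj T.arrows := fun W' k hk => yEquiv (x k hk)
  have hcomp : fam.Compatible := by
    rw [Presieve.compatible_iff_sieveCompatible]
    intro W' W'' k l hk
    change yEquiv (x (l ≫ k) _) = F.obj.map l.op (yEquiv (x k hk))
    rw [← yEquiv_map_comp, hx]
  obtain ⟨t, ht, huniq⟩ := hsh fam hcomp
  refine ⟨yEquiv.symm t, fun W' k hk => ?_, fun y hy => ?_⟩
  · apply yEquiv.injective
    rw [yEquiv_map_comp, Equiv.apply_symm_apply]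
    exact ht k hk
  · apply yEquiv.injective
    rw [Equiv.apply_symm_apply]
    apply huniq
    intro W' k hk
    change F.obj.map k.op (yEquiv y) = yEquiv (x k hk)
    rw [← yEquiv_map_comp, hy]

/-- morphisms from a representable sheaf to a sheaf are determined on a covering sieve -/
theorem hom_ext_sieve (F : Sp S) {W : Over S} (T : Sieve W) (hT : T ∈ J S W)
    (y y' : (yon S).obj W ⟶ F)
    (h : ∀ ⦃W' : Over S⦄ (k : W' ⟶ W), T k → (yon S).map k ≫ y = (yon S).map k ≫ y') :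
    y = y' := by
  obtain ⟨z, -, hz⟩ := exists_unique_glue_yon F T hT (fun W' k _ => (yon S).map k ≫ y)
    (fun W' W'' k hk l => by rw [Functor.map_comp, Category.assoc])
  rw [hz y (fun W' k hk => rfl), hz y' (fun W' k hk => (h k hk).symm)]

/-- a morphism of sheaves from a natural family of maps on points -/
noncomputable def homOfPoints {N Z : Sp S}
    (φ : ∀ T : Over S, ((yon S).obj T ⟶ N) → ((yon S).obj T ⟶ Z))
    (nat : ∀ ⦃T T' : Over S⦄ (k : T' ⟶ T) (x : (yon S).obj T ⟶ N),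
      (yon S).map k ≫ φ T x = φ T' ((yon S).map k ≫ x)) : N ⟶ Z :=
  ⟨{ app := fun T => ↾(fun n => yEquiv (φ T.unop (yEquiv.symm n)))
     naturality := by
      intro T T' f
      ext n
      change yEquiv (φ T'.unop (yEquiv.symm (N.obj.map f n))) =
        Z.obj.map f (yEquiv (φ T.unop (yEquiv.symm n)))
      rw [(AlgSp.J S).uliftYonedaEquiv_symm_map f n, ← nat]
      exact yEquiv_map_comp f.unop _ }⟩

lemma comp_homOfPoints {N Z : Sp S}
    (φ : ∀ T : Over S, ((yon S).obj T ⟶ N) → ((yon S).obj T ⟶ Z))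
    (nat : ∀ ⦃T T' : Over S⦄ (k : T' ⟶ T) (x : (yon S).obj T ⟶ N),
      (yon S).map k ≫ φ T x = φ T' ((yon S).map k ≫ x)) {T : Over S} (x : (yon S).obj T ⟶ N) :
    x ≫ homOfPoints φ nat = φ T x := by
  apply yEquiv.injective
  rw [yEquiv_comp]
  change yEquiv (φ T (yEquiv.symm (yEquiv x))) = _
  rw [Equiv.symm_apply_apply]


variable {U : Over S}

/-- a system of sheaves over the arrows of a sieve, all pulled back from one sheaf over `h_U` -/
structure CartSysSp (R : Sieve U) where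
  N : Sp S
  πN : N ⟶ (yon S).obj U
  Q : (Stk.sieveCat R).obj → Sp S
  q : ∀ a, Q a ⟶ N
  p : ∀ a : (Stk.sieveCat R).obj, Q a ⟶ (yon S).obj a.obj.left
  cart : ∀ a : (Stk.sieveCat R).obj, IsPullback (q a) (p a) πN ((yon S).map a.obj.hom)
  t : ∀ {a b : (Stk.sieveCat R).obj} (_ : a ⟶ b), Q a ⟶ Q b
  t_q : ∀ {a b : (Stk.sieveCat R).obj} (m : a ⟶ b), t m ≫ q b = q a
  t_p : ∀ {a b : (Stk.sieveCat R).obj} (m : a ⟶ b), t m ≫ p b = p a ≫ (yon S).map m.hom.left

/-- the arrow of a sieve as an object of the sieve category -/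
def aOf {R : Sieve U} {T : Over S} (w : T ⟶ U) (hw : R w) : (Stk.sieveCat R).obj :=
  ⟨Over.mk w, hw⟩

/-- the morphism of the sieve category induced by precomposition -/
def mOf {R : Sieve U} {T T' : Over S} (k : T' ⟶ T) (w : T ⟶ U) (hw : R w) :
    aOf (k ≫ w) (R.downward_closed hw k) ⟶ aOf w hw :=
  ObjectProperty.homMk (Over.homMk k rfl)

/-- the morphism of the sieve category from a point of an arrow of the sieve -/
def nOf {R : Sieve U} (a : (Stk.sieveCat R).obj) {T : Over S} (v : T ⟶ a.obj.left) :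
    aOf (v ≫ a.obj.hom) (R.downward_closed a.property v) ⟶ a :=
  ObjectProperty.homMk (Over.homMk v rfl)

namespace CartSysSp
variable {R : Sieve U} (σ : CartSysSp R)

/-- the tautological section over a point of the vertex -/
noncomputable def sec {T : Over S} (g : (yon S).obj T ⟶ σ.N) (w : T ⟶ U)
    (hgw : g ≫ σ.πN = (yon S).map w) (hw : R w) : (yon S).obj T ⟶ σ.Q (aOf w hw) :=
  (σ.cart (aOf w hw)).lift g (𝟙 _) (by rw [Category.id_comp]; exact hgw)

@[reassoc] lemma sec_q {T : Over S} (g : (yon S).obj T ⟶ σ.N) (w : T ⟶ U)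
    (hgw : g ≫ σ.πN = (yon S).map w) (hw : R w) :
    σ.sec g w hgw hw ≫ σ.q (aOf w hw) = g := (σ.cart (aOf w hw)).lift_fst _ _ _

@[reassoc] lemma sec_p {T : Over S} (g : (yon S).obj T ⟶ σ.N) (w : T ⟶ U)
    (hgw : g ≫ σ.πN = (yon S).map w) (hw : R w) :
    σ.sec g w hgw hw ≫ σ.p (aOf w hw) = 𝟙 _ := (σ.cart (aOf w hw)).lift_snd _ _ _

lemma comp_πN {T T' : Over S} (k : T' ⟶ T) (g : (yon S).obj T ⟶ σ.N) (w : T ⟶ U)
    (hgw : g ≫ σ.πN = (yon S).map w) :
    ((yon S).map k ≫ g) ≫ σ.πN = (yon S).map (k ≫ w) := by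
  rw [Category.assoc, hgw, ← Functor.map_comp]

lemma sec_t {T T' : Over S} (k : T' ⟶ T) (g : (yon S).obj T ⟶ σ.N) (w : T ⟶ U)
    (hgw : g ≫ σ.πN = (yon S).map w) (hw : R w) :
    σ.sec ((yon S).map k ≫ g) (k ≫ w) (σ.comp_πN k g w hgw) (R.downward_closed hw k) ≫
      σ.t (mOf k w hw) = (yon S).map k ≫ σ.sec g w hgw hw := by
  apply (σ.cart (aOf w hw)).hom_ext
  · rw [Category.assoc, σ.t_q, sec_q, Category.assoc, sec_q]
  · rw [Category.assoc, σ.t_p, sec_p_assoc, Category.assoc, sec_p, Category.comp_id]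
    rfl

lemma pt_πN (a : (Stk.sieveCat R).obj) {T : Over S} (x : (yon S).obj T ⟶ σ.Q a)
    (v : T ⟶ a.obj.left) (hx : x ≫ σ.p a = (yon S).map v) :
    (x ≫ σ.q a) ≫ σ.πN = (yon S).map (v ≫ a.obj.hom) := by
  rw [Category.assoc, (σ.cart a).w, ← Category.assoc, hx, ← Functor.map_comp]

lemma sec_nOf (a : (Stk.sieveCat R).obj) {T : Over S} (x : (yon S).obj T ⟶ σ.Q a)
    (v : T ⟶ a.obj.left) (hx : x ≫ σ.p a = (yon S).map v) :
    σ.sec (x ≫ σ.q a) (v ≫ a.obj.hom) (σ.pt_πN a x v hx) (R.downward_closed a.property v) ≫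
      σ.t (nOf a v) = x := by
  apply (σ.cart a).hom_ext
  · rw [Category.assoc, σ.t_q, sec_q]
  · rw [Category.assoc, σ.t_p, sec_p_assoc, hx]
    rfl

section Glue
variable (hR : R ∈ J S U) {Z : Sp S} (z : ∀ a, σ.Q a ⟶ Z)
  (hz : ∀ {a b : (Stk.sieveCat R).obj} (m : a ⟶ b), σ.t m ≫ z b = z a)

lemma sec_z_congr {T : Over S} {g g' : (yon S).obj T ⟶ σ.N} {w w' : T ⟶ U} (hg : g = g')
    (hw : w = w') (h1 : g ≫ σ.πN = (yon S).map w) (h2 : R w)
    (h1' : g' ≫ σ.πN = (yon S).map w') (h2' : R w') :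
    σ.sec g w h1 h2 ≫ z (aOf w h2) = σ.sec g' w' h1' h2' ≫ z (aOf w' h2') := by
  subst hg hw; rfl

include hR hz in
lemma exists_glueAt {T : Over S} (g : (yon S).obj T ⟶ σ.N) (w : T ⟶ U)
    (hgw : g ≫ σ.πN = (yon S).map w) :
    ∃! y : (yon S).obj T ⟶ Z, ∀ ⦃T' : Over S⦄ (k : T' ⟶ T) (hk : R (k ≫ w)),
      (yon S).map k ≫ y =
        σ.sec ((yon S).map k ≫ g) (k ≫ w) (σ.comp_πN k g w hgw) hk ≫ z (aOf (k ≫ w) hk) := by
  refine exists_unique_glue_yon Z (Sieve.pullback w R) ((J S).pullback_stable w hR)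
    (fun T' k hk => σ.sec ((yon S).map k ≫ g) (k ≫ w) (σ.comp_πN k g w hgw) hk ≫
      z (aOf (k ≫ w) hk)) ?_
  intro T' T'' k hk l
  have hk' : R (k ≫ w) := hk
  rw [← Category.assoc, ← σ.sec_t l _ (k ≫ w) (σ.comp_πN k g w hgw) hk', Category.assoc, hz]
  exact σ.sec_z_congr z (by rw [Functor.map_comp, Category.assoc]) (Category.assoc _ _ _).symm
    _ _ _ _

/-- the value of the glued map on a point of the vertex -/
noncomputable def glueAt {T : Over S} (g : (yon S).obj T ⟶ σ.N) (w : T ⟶ U)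
    (hgw : g ≫ σ.πN = (yon S).map w) : (yon S).obj T ⟶ Z :=
  (σ.exists_glueAt hR z hz g w hgw).exists.choose

lemma glueAt_spec {T : Over S} (g : (yon S).obj T ⟶ σ.N) (w : T ⟶ U)
    (hgw : g ≫ σ.πN = (yon S).map w) ⦃T' : Over S⦄ (k : T' ⟶ T) (hk : R (k ≫ w)) :
    (yon S).map k ≫ σ.glueAt hR z hz g w hgw =
      σ.sec ((yon S).map k ≫ g) (k ≫ w) (σ.comp_πN k g w hgw) hk ≫ z (aOf (k ≫ w) hk) :=
  (σ.exists_glueAt hR z hz g w hgw).exists.choose_spec k hk

lemma glueAt_unique {T : Over S} (g : (yon S).obj T ⟶ σ.N) (w : T ⟶ U)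
    (hgw : g ≫ σ.πN = (yon S).map w) (y : (yon S).obj T ⟶ Z)
    (hy : ∀ ⦃T' : Over S⦄ (k : T' ⟶ T) (hk : R (k ≫ w)), (yon S).map k ≫ y =
      σ.sec ((yon S).map k ≫ g) (k ≫ w) (σ.comp_πN k g w hgw) hk ≫ z (aOf (k ≫ w) hk)) :
    y = σ.glueAt hR z hz g w hgw :=
  (σ.exists_glueAt hR z hz g w hgw).unique hy (fun _ k hk => σ.glueAt_spec hR z hz g w hgw k hk)

lemma glueAt_congr {T : Over S} {g g' : (yon S).obj T ⟶ σ.N} {w w' : T ⟶ U} (hg : g = g')
    (hw : w = w') (h : g ≫ σ.πN = (yon S).map w) (h' : g' ≫ σ.πN = (yon S).map w') :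
    σ.glueAt hR z hz g w h = σ.glueAt hR z hz g' w' h' := by
  subst hg hw; rfl

lemma glueAt_eq_of_mem {T : Over S} (g : (yon S).obj T ⟶ σ.N) (w : T ⟶ U)
    (hgw : g ≫ σ.πN = (yon S).map w) (hw : R w) :
    σ.glueAt hR z hz g w hgw = σ.sec g w hgw hw ≫ z (aOf w hw) := by
  symm
  apply σ.glueAt_unique hR z hz
  intro T' k hk
  rw [← Category.assoc, ← σ.sec_t k g w hgw hw, Category.assoc, hz]

lemma glueAt_nat {T T' : Over S} (l : T' ⟶ T) (g : (yon S).obj T ⟶ σ.N) (w : T ⟶ U)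
    (hgw : g ≫ σ.πN = (yon S).map w) :
    (yon S).map l ≫ σ.glueAt hR z hz g w hgw =
      σ.glueAt hR z hz ((yon S).map l ≫ g) (l ≫ w) (σ.comp_πN l g w hgw) := by
  apply σ.glueAt_unique hR z hz
  intro T'' k hk
  have hk' : R ((k ≫ l) ≫ w) := by rw [Category.assoc]; exact hk
  rw [← Category.assoc, ← Functor.map_comp, σ.glueAt_spec hR z hz g w hgw (k ≫ l) hk']
  exact σ.sec_z_congr z (by rw [Functor.map_comp, Category.assoc]) (Category.assoc _ _ _) _ _ _ _

/-- the point of `U` under a point of the vertex -/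
noncomputable def wOf {T : Over S} (g : (yon S).obj T ⟶ σ.N) : T ⟶ U :=
  (yon S).preimage (g ≫ σ.πN)

lemma wOf_spec {T : Over S} (g : (yon S).obj T ⟶ σ.N) : g ≫ σ.πN = (yon S).map (σ.wOf g) :=
  ((yon S).map_preimage _).symm

lemma wOf_eq {T : Over S} (g : (yon S).obj T ⟶ σ.N) (w : T ⟶ U)
    (hgw : g ≫ σ.πN = (yon S).map w) : σ.wOf g = w := by
  apply (yon S).map_injective
  rw [← σ.wOf_spec, hgw]

/-- the glued map -/
noncomputable def glue : σ.N ⟶ Z :=
  homOfPoints (fun T g => σ.glueAt hR z hz g (σ.wOf g) (σ.wOf_spec g)) (fun T T' k g => by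
    rw [σ.glueAt_nat hR z hz k g (σ.wOf g) (σ.wOf_spec g)]
    exact σ.glueAt_congr hR z hz rfl
      (σ.wOf_eq _ _ (σ.comp_πN k g (σ.wOf g) (σ.wOf_spec g))).symm _ _)

lemma comp_glue {T : Over S} (g : (yon S).obj T ⟶ σ.N) (w : T ⟶ U)
    (hgw : g ≫ σ.πN = (yon S).map w) : g ≫ σ.glue hR z hz = σ.glueAt hR z hz g w hgw := by
  rw [glue, comp_homOfPoints]
  exact σ.glueAt_congr hR z hz rfl (σ.wOf_eq g w hgw) _ _

lemma q_glue (a : (Stk.sieveCat R).obj) : σ.q a ≫ σ.glue hR z hz = z a := by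
  apply hom_ext_yon
  intro T x
  let v : T ⟶ a.obj.left := (yon S).preimage (x ≫ σ.p a)
  have hv : x ≫ σ.p a = (yon S).map v := ((yon S).map_preimage _).symm
  rw [← Category.assoc, σ.comp_glue hR z hz (x ≫ σ.q a) (v ≫ a.obj.hom) (σ.pt_πN a x v hv),
    σ.glueAt_eq_of_mem hR z hz _ _ _ (R.downward_closed a.property v), ← hz (nOf a v),
    ← Category.assoc, σ.sec_nOf a x v hv]

include hR hz in
/-- **maps out of the vertex of a cartesian system of sheaves over a covering sieve glue** -/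
theorem exists_unique_glue : ∃! ζ : σ.N ⟶ Z, ∀ a, σ.q a ≫ ζ = z a := by
  refine ⟨σ.glue hR z hz, σ.q_glue hR z hz, fun ζ' hζ' => ?_⟩
  apply hom_ext_yon
  intro T g
  rw [σ.comp_glue hR z hz g (σ.wOf g) (σ.wOf_spec g)]
  apply σ.glueAt_unique hR z hz
  intro T' k hk
  rw [← hζ', sec_q_assoc, Category.assoc]

include hR in
/-- the maps `q a` are jointly epimorphic -/
theorem hom_ext {ζ ζ' : σ.N ⟶ Z} (h : ∀ a, σ.q a ≫ ζ = σ.q a ≫ ζ') : ζ = ζ' := by
  have hz : ∀ {a b : (Stk.sieveCat R).obj} (m : a ⟶ b),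
      σ.t m ≫ (fun b => σ.q b ≫ ζ') b = (fun a => σ.q a ≫ ζ') a := by
    intro a b m
    change σ.t m ≫ σ.q b ≫ ζ' = σ.q a ≫ ζ'
    rw [← Category.assoc, σ.t_q]
  obtain ⟨ξ, -, hu⟩ := σ.exists_unique_glue hR (fun a => σ.q a ≫ ζ') hz
  rw [hu ζ h, hu ζ' (fun a => rfl)]

end Glue

/-- base change of a cartesian system along a map to the vertex -/
def pull (N' : Sp S) (f : N' ⟶ σ.N) (Q' : (Stk.sieveCat R).obj → Sp S) (q' : ∀ a, Q' a ⟶ N')
    (f' : ∀ a, Q' a ⟶ σ.Q a) (hc : ∀ a, IsPullback (q' a) (f' a) f (σ.q a))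
    (t' : ∀ {a b : (Stk.sieveCat R).obj} (_ : a ⟶ b), Q' a ⟶ Q' b)
    (ht'q : ∀ {a b : (Stk.sieveCat R).obj} (m : a ⟶ b), t' m ≫ q' b = q' a)
    (ht'f : ∀ {a b : (Stk.sieveCat R).obj} (m : a ⟶ b), t' m ≫ f' b = f' a ≫ σ.t m) :
    CartSysSp R where
  N := N'
  πN := f ≫ σ.πN
  Q := Q'
  q := q'
  p a := f' a ≫ σ.p a
  cart a := (hc a).paste_vert (σ.cart a)
  t := t'
  t_q := ht'q
  t_p m := by rw [← Category.assoc, ht'f, Category.assoc, σ.t_p, Category.assoc]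

end CartSysSp

end Groth.Agent.Lib.Helper24.SpQ1
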