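import Mathlib
import Groth.Agent.Lib.Helper24.SpQ1
set_option autoImplicit false
set_option linter.unusedSectionVars false
set_option linter.unusedVariables false
set_option backward.isDefEq.respectTransparency false
set_option backward.isDefEq.respectTransparency.types false
universe u
open CategoryTheory CategoryTheory.Limits AlgebraicGeometry Opposite

/-! Descent for fppf sheaves: a system of sheaves over the arrows of a sieve with cartesian
transition maps, and the presheaf of its compatible sections, which is a sheaf. -/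

namespace Groth.Agent.Lib.Helper24.SpQ2
open AlgSp Groth.Agent.Lib.Helper14.AS Groth.Agent.Lib.Helper24.DescSheaf
open Groth.Agent.Lib.Helper24.SpQ1

variable {S : Scheme.{u}} {U : Over S}

/-- a system of sheaves over the arrows of a sieve with cartesian transition maps -/
structure PreSysSp (R : Sieve U) where
  Q : (Stk.sieveCat R).obj → Sp S
  p : ∀ a : (Stk.sieveCat R).obj, Q a ⟶ (yon S).obj a.obj.left
  t : ∀ {a b : (Stk.sieveCat R).obj} (_ : a ⟶ b), Q a ⟶ Q b
  cart : ∀ {a b : (Stk.sieveCat R).obj} (m : a ⟶ b),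
    IsPullback (t m) (p a) (p b) ((yon S).map m.hom.left)
  t_id : ∀ a : (Stk.sieveCat R).obj, t (𝟙 a) = 𝟙 (Q a)
  t_comp : ∀ {a b c : (Stk.sieveCat R).obj} (m : a ⟶ b) (n : b ⟶ c), t (m ≫ n) = t m ≫ t n

variable {R : Sieve U} (σ : PreSysSp R)

/-- sections of the glued sheaf over `W` -/
structure Sec (W : Over S) : Type (u + 1) where
  w : W ⟶ U
  s : ∀ ⦃W' : Over S⦄ (g : W' ⟶ W) (a : (Stk.sieveCat R).obj) (v : W' ⟶ a.obj.left),
    v ≫ a.obj.hom = g ≫ w → ((yon S).obj W' ⟶ σ.Q a)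
  s_p : ∀ ⦃W' : Over S⦄ (g : W' ⟶ W) (a : (Stk.sieveCat R).obj) (v : W' ⟶ a.obj.left)
    (h : v ≫ a.obj.hom = g ≫ w), s g a v h ≫ σ.p a = (yon S).map v
  s_t : ∀ ⦃W' : Over S⦄ (g : W' ⟶ W) {a b : (Stk.sieveCat R).obj} (m : a ⟶ b)
    (v : W' ⟶ a.obj.left) (h : v ≫ a.obj.hom = g ≫ w),
    s g a v h ≫ σ.t m = s g b (v ≫ m.hom.left) (by rw [Category.assoc, Over.w m.hom, h])
  s_res : ∀ ⦃W' W'' : Over S⦄ (k : W'' ⟶ W') (g : W' ⟶ W) (a : (Stk.sieveCat R).obj)
    (v : W' ⟶ a.obj.left) (h : v ≫ a.obj.hom = g ≫ w),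
    (yon S).map k ≫ s g a v h = s (k ≫ g) a (k ≫ v) (by rw [Category.assoc, h, Category.assoc])

variable {σ}

theorem Sec.ext' {W : Over S} {n n' : Sec σ W} (hw : n.w = n'.w)
    (hs : ∀ ⦃W' : Over S⦄ (g : W' ⟶ W) (a : (Stk.sieveCat R).obj) (v : W' ⟶ a.obj.left)
      (h : v ≫ a.obj.hom = g ≫ n.w) (h' : v ≫ a.obj.hom = g ≫ n'.w),
      n.s g a v h = n'.s g a v h') : n = n' := by
  cases n; cases n'
  simp only at hw
  subst hw
  congr
  funext W' g a v h
  exact hs g a v h h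

theorem Sec.s_congr {W : Over S} (n : Sec σ W) {W' : Over S} {g g' : W' ⟶ W}
    {a : (Stk.sieveCat R).obj} {v v' : W' ⟶ a.obj.left} (hg : g = g') (hv : v = v')
    (h : v ≫ a.obj.hom = g ≫ n.w) (h' : v' ≫ a.obj.hom = g' ≫ n.w) :
    n.s g a v h = n.s g' a v' h' := by
  subst hg hv; rfl

theorem Sec.s_congr' {W : Over S} {n n' : Sec σ W} (e : n = n') {W' : Over S} {g g' : W' ⟶ W}
    {a : (Stk.sieveCat R).obj} {v v' : W' ⟶ a.obj.left} (hg : g = g') (hv : v = v')
    (h : v ≫ a.obj.hom = g ≫ n.w) (h' : v' ≫ a.obj.hom = g' ≫ n'.w) :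
    n.s g a v h = n'.s g' a v' h' := by
  subst e hg hv; rfl

/-- restriction of sections -/
def Sec.map {W W₁ : Over S} (k : W₁ ⟶ W) (n : Sec σ W) : Sec σ W₁ where
  w := k ≫ n.w
  s W' g a v h := n.s (g ≫ k) a v (by rw [h, Category.assoc])
  s_p W' g a v h := n.s_p _ a v _
  s_t W' g a b m v h := n.s_t _ m v _
  s_res W' W'' k' g a v h := by
    rw [n.s_res k' (g ≫ k) a v _]
    exact n.s_congr (Category.assoc _ _ _).symm rfl _ _

@[simp] theorem Sec.map_w {W W₁ : Over S} (k : W₁ ⟶ W) (n : Sec σ W) :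
    (Sec.map k n).w = k ≫ n.w := rfl

theorem Sec.map_s {W W₁ : Over S} (k : W₁ ⟶ W) (n : Sec σ W) {W' : Over S} (g : W' ⟶ W₁)
    (a : (Stk.sieveCat R).obj) (v : W' ⟶ a.obj.left) (h : v ≫ a.obj.hom = g ≫ k ≫ n.w) :
    (Sec.map k n).s g a v h = n.s (g ≫ k) a v (by rw [h, Category.assoc]) := rfl

variable (σ)

/-- the glued presheaf -/
def pre : (Over S)ᵒᵖ ⥤ Type (u + 1) where
  obj W := Sec σ W.unop
  map k := ↾(Sec.map k.unop)
  map_id W := by
    ext n
    apply Sec.ext'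
    · exact Category.id_comp _
    · intro W' g a v h h'
      exact n.s_congr (Category.comp_id g) rfl _ _
  map_comp f g := by
    ext n
    apply Sec.ext'
    · exact Category.assoc _ _ _
    · intro W' k a v h h'
      exact n.s_congr (Category.assoc _ _ _).symm rfl _ _

variable {σ}

@[simp] theorem pre_map_apply {W W₁ : Over S} (k : W₁ ⟶ W) (n : Sec σ W) :
    (pre σ).map k.op n = Sec.map k n := rfl

section Sheaf
variable {W : Over S} (T : Sieve W) (hT : T ∈ J S W)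
  (x : Presieve.FamilyOfElements (pre σ) T.arrows) (hx : x.SieveCompatible)

include hx in
lemma x_map {Y Z : Over S} (f : Y ⟶ W) (hf : T f) (l : Z ⟶ Y) (f' : Z ⟶ W) (hf' : T f')
    (e : f' = l ≫ f) : x f' hf' = Sec.map l (x f hf) := by
  subst e
  exact hx f l hf

lemma xs_congr {Y : Over S} {f f' : Y ⟶ W} (hf : T f) (hf' : T f') (e : f = f')
    {W' : Over S} {g g' : W' ⟶ Y} (eg : g = g')
    {a : (Stk.sieveCat R).obj} {v v' : W' ⟶ a.obj.left} (ev : v = v')
    (h : v ≫ a.obj.hom = g ≫ (x f hf).w) (h' : v' ≫ a.obj.hom = g' ≫ (x f' hf').w) :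
    (x f hf).s g a v h = (x f' hf').s g' a v' h' := by
  subst e eg ev; rfl

include hT hx in
lemma exists_w : ∃ w : W ⟶ U, ∀ ⦃Y : Over S⦄ (f : Y ⟶ W) (hf : T f), (x f hf).w = f ≫ w := by
  obtain ⟨y, hy, -⟩ := exists_unique_glue_yon ((yon S).obj U) T hT
    (fun Y f hf => (yon S).map (x f hf).w) (by
      intro Y Z f hf l
      rw [← Functor.map_comp, x_map T x hx f hf l (l ≫ f) _ rfl, Sec.map_w])
  refine ⟨(yon S).preimage y, fun Y f hf => ?_⟩
  apply (yon S).map_injective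
  rw [Functor.map_comp, Functor.map_preimage, hy f hf]

variable (w : W ⟶ U) (hw : ∀ ⦃Y : Over S⦄ (f : Y ⟶ W) (hf : T f), (x f hf).w = f ≫ w)

/-- the local pieces of the glued section -/
def locS ⦃W' : Over S⦄ (g : W' ⟶ W) (a : (Stk.sieveCat R).obj) (v : W' ⟶ a.obj.left)
    (h : v ≫ a.obj.hom = g ≫ w) ⦃W'' : Over S⦄ (k : W'' ⟶ W') (hk : T (k ≫ g)) :
    (yon S).obj W'' ⟶ σ.Q a :=
  (x (k ≫ g) hk).s (𝟙 W'') a (k ≫ v)
    (by rw [hw, Category.id_comp, Category.assoc, h, Category.assoc])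

include hx in
lemma locS_compat ⦃W' : Over S⦄ (g : W' ⟶ W) (a : (Stk.sieveCat R).obj) (v : W' ⟶ a.obj.left)
    (h : v ≫ a.obj.hom = g ≫ w) ⦃W'' W''' : Over S⦄ (k : W'' ⟶ W') (hk : T (k ≫ g))
    (l : W''' ⟶ W'') :
    (yon S).map l ≫ locS T x w hw g a v h k hk =
      locS T x w hw g a v h (l ≫ k) ((T.pullback g).downward_closed hk l) := by
  have hk' : T ((l ≫ k) ≫ g) := (T.pullback g).downward_closed hk l
  have e := x_map T x hx (k ≫ g) hk l ((l ≫ k) ≫ g) hk' (Category.assoc _ _ _)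
  unfold locS
  rw [(x (k ≫ g) hk).s_res l (𝟙 W'') a (k ≫ v) _]
  have h2 : ((l ≫ k) ≫ v) ≫ a.obj.hom = 𝟙 W''' ≫ (Sec.map l (x (k ≫ g) hk)).w := by
    rw [Sec.map_w, hw, Category.id_comp, Category.assoc, h]
    simp only [Category.assoc]
  exact ((x (k ≫ g) hk).s_congr (g' := 𝟙 W''' ≫ l) (v' := (l ≫ k) ≫ v)
    (by rw [Category.comp_id, Category.id_comp]) (Category.assoc _ _ _).symm _
    (h2.trans (Category.assoc _ _ _).symm)).trans
    (Sec.s_congr' (n := Sec.map l (x (k ≫ g) hk)) e.symm rfl rfl h2 _)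

include hT hx in
lemma exists_gs ⦃W' : Over S⦄ (g : W' ⟶ W) (a : (Stk.sieveCat R).obj) (v : W' ⟶ a.obj.left)
    (h : v ≫ a.obj.hom = g ≫ w) :
    ∃! y : (yon S).obj W' ⟶ σ.Q a, ∀ ⦃W'' : Over S⦄ (k : W'' ⟶ W') (hk : T (k ≫ g)),
      (yon S).map k ≫ y = locS T x w hw g a v h k hk :=
  exists_unique_glue_yon (σ.Q a) (T.pullback g) ((J S).pullback_stable g hT)
    (fun W'' k hk => locS T x w hw g a v h k hk)
    (fun W'' W''' k hk l => locS_compat T x hx w hw g a v h k hk l)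

/-- the glued pieces -/
noncomputable def gs ⦃W' : Over S⦄ (g : W' ⟶ W) (a : (Stk.sieveCat R).obj) (v : W' ⟶ a.obj.left)
    (h : v ≫ a.obj.hom = g ≫ w) : (yon S).obj W' ⟶ σ.Q a :=
  (exists_gs T hT x hx w hw g a v h).exists.choose

lemma gs_spec ⦃W' : Over S⦄ (g : W' ⟶ W) (a : (Stk.sieveCat R).obj) (v : W' ⟶ a.obj.left)
    (h : v ≫ a.obj.hom = g ≫ w) ⦃W'' : Over S⦄ (k : W'' ⟶ W') (hk : T (k ≫ g)) :
    (yon S).map k ≫ gs T hT x hx w hw g a v h = locS T x w hw g a v h k hk :=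
  (exists_gs T hT x hx w hw g a v h).exists.choose_spec k hk

lemma gs_unique ⦃W' : Over S⦄ (g : W' ⟶ W) (a : (Stk.sieveCat R).obj) (v : W' ⟶ a.obj.left)
    (h : v ≫ a.obj.hom = g ≫ w) (y : (yon S).obj W' ⟶ σ.Q a)
    (hy : ∀ ⦃W'' : Over S⦄ (k : W'' ⟶ W') (hk : T (k ≫ g)),
      (yon S).map k ≫ y = locS T x w hw g a v h k hk) : y = gs T hT x hx w hw g a v h :=
  (exists_gs T hT x hx w hw g a v h).unique hy (fun _ k hk => gs_spec T hT x hx w hw g a v h k hk)

/-- the glued section -/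
noncomputable def glued : Sec σ W where
  w := w
  s W' g a v h := gs T hT x hx w hw g a v h
  s_p W' g a v h := by
    apply hom_ext_sieve _ (T.pullback g) ((J S).pullback_stable g hT)
    intro W'' k hk
    rw [← Category.assoc, gs_spec T hT x hx w hw g a v h k hk, ← Functor.map_comp]
    exact (x (k ≫ g) hk).s_p _ _ _ _
  s_t W' g a b m v h := by
    apply hom_ext_sieve _ (T.pullback g) ((J S).pullback_stable g hT)
    intro W'' k hk
    rw [← Category.assoc, gs_spec T hT x hx w hw g a v h k hk,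
      gs_spec T hT x hx w hw g b (v ≫ m.hom.left) _ k hk]
    unfold locS
    rw [(x (k ≫ g) hk).s_t]
    exact (x (k ≫ g) hk).s_congr rfl (Category.assoc _ _ _) _ _
  s_res W' W'' k₀ g a v h := by
    apply hom_ext_sieve _ (T.pullback (k₀ ≫ g)) ((J S).pullback_stable _ hT)
    intro W''' l hl
    have hl' : T ((l ≫ k₀) ≫ g) := by rw [Category.assoc]; exact hl
    rw [← Category.assoc, ← Functor.map_comp, gs_spec T hT x hx w hw g a v h (l ≫ k₀) hl',
      gs_spec T hT x hx w hw (k₀ ≫ g) a (k₀ ≫ v) _ l hl]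
    exact xs_congr T x hl' hl (Category.assoc _ _ _) rfl (Category.assoc _ _ _) _ _

lemma glued_isAmalgamation : x.IsAmalgamation (glued T hT x hx w hw) := by
  intro Y f hf
  change Sec.map f (glued T hT x hx w hw) = x f hf
  apply Sec.ext'
  · exact (hw f hf).symm
  · intro W' g a v h h'
    change gs T hT x hx w hw (g ≫ f) a v _ = _
    have hk : T (𝟙 W' ≫ g ≫ f) := by rw [Category.id_comp]; exact T.downward_closed hf g
    have h0 : v ≫ a.obj.hom = (g ≫ f) ≫ w := by rw [h', hw f hf, Category.assoc]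
    have e1 := gs_spec T hT x hx w hw (g ≫ f) a v h0 (𝟙 W') hk
    rw [CategoryTheory.Functor.map_id, Category.id_comp] at e1
    rw [e1]
    unfold locS
    have e := x_map T x hx f hf g (𝟙 W' ≫ g ≫ f) hk (Category.id_comp _)
    have h2 : v ≫ a.obj.hom = 𝟙 W' ≫ (Sec.map g (x f hf)).w := by
      rw [Sec.map_w, Category.id_comp, h']
    exact (Sec.s_congr' (n' := Sec.map g (x f hf)) (g' := 𝟙 W') (v' := v) e rfl
      (Category.id_comp _) _ h2).trans ((x f hf).s_congr (Category.id_comp _) rfl _ _)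

lemma glued_unique (n' : Sec σ W) (hn' : x.IsAmalgamation n') :
    n' = glued T hT x hx w hw := by
  have hmap : ∀ ⦃Y : Over S⦄ (f : Y ⟶ W) (hf : T f), Sec.map f n' = x f hf := hn'
  apply Sec.ext'
  · apply (yon S).map_injective
    apply hom_ext_sieve _ T hT
    intro Y f hf
    rw [← Functor.map_comp, ← Functor.map_comp]
    congr 1
    change _ = f ≫ w
    rw [← hw f hf, ← hmap f hf]
    rfl
  · intro W' g a v h h'
    refine gs_unique T hT x hx w hw g a v h' _ ?_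
    intro W'' k hk
    rw [n'.s_res]
    unfold locS
    have h2 : (k ≫ v) ≫ a.obj.hom = 𝟙 W'' ≫ (Sec.map (k ≫ g) n').w := by
      rw [Sec.map_w, Category.id_comp, Category.assoc, h, Category.assoc]
    exact (n'.s_congr (g' := 𝟙 W'' ≫ k ≫ g) (Category.id_comp _).symm rfl _
      (h2.trans (Category.assoc _ _ _).symm)).trans
      (Sec.s_congr' (n := Sec.map (k ≫ g) n') (hmap _ hk) rfl rfl h2 _)

end Sheaf

/-- the presheaf of compatible sections is a sheaf -/
theorem isSheaf_pre (σ : PreSysSp R) : Presieve.IsSheaf (J S) (pre σ) := by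
  intro W T hT x hx
  rw [Presieve.compatible_iff_sieveCompatible] at hx
  obtain ⟨w, hw⟩ := exists_w T hT x hx
  exact ⟨glued T hT x hx w hw, glued_isAmalgamation T hT x hx w hw,
    fun n' hn' => glued_unique T hT x hx w hw n' hn'⟩

/-- the glued sheaf -/
def glueSp (σ : PreSysSp R) : Sp S :=
  ⟨pre σ, (isSheaf_iff_isSheaf_of_type _ _).2 (isSheaf_pre σ)⟩

end Groth.Agent.Lib.Helper24.SpQ2
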