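import Mathlib
import Groth.Agent.Lib.Helper24.SpQ2
set_option autoImplicit false
set_option linter.unusedSectionVars false
set_option linter.unusedVariables false
set_option backward.isDefEq.respectTransparency false
set_option backward.isDefEq.respectTransparency.types false
universe u
open CategoryTheory CategoryTheory.Limits AlgebraicGeometry Opposite

/-! Descent for fppf sheaves: the glued sheaf of a system over a sieve is a vertex of the system
(the system is pulled back from it). -/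

namespace Groth.Agent.Lib.Helper24.SpQ3
open AlgSp Groth.Agent.Lib.Helper14.AS Groth.Agent.Lib.Helper24.DescSheaf
open Groth.Agent.Lib.Helper24.SpQ1 Groth.Agent.Lib.Helper24.SpQ2
open Groth.Agent.Lib.Helper24.StkRefine

variable {S : Scheme.{u}} {U : Over S} {R : Sieve U}

/-- a morphism of the sieve category from the canonical object of a point of an arrow -/
def cOf (a b : (Stk.sieveCat R).obj) {W' : Over S} (v : W' ⟶ b.obj.left) (u : W' ⟶ a.obj.left)
    (h : u ≫ a.obj.hom = v ≫ b.obj.hom) :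
    aOf (v ≫ b.obj.hom) (R.downward_closed b.property v) ⟶ a :=
  ObjectProperty.homMk (Over.homMk u h)

variable (σ : PreSysSp R)

section Raw
variable {a : (Stk.sieveCat R).obj} {W : Over S} (x : (yon S).obj W ⟶ σ.Q a)
  (v₀ : W ⟶ a.obj.left) (hv₀ : x ≫ σ.p a = (yon S).map v₀)

include hv₀ in
lemma lft_aux ⦃W' : Over S⦄ (g : W' ⟶ W) (b : (Stk.sieveCat R).obj) (v : W' ⟶ b.obj.left)
    (h : v ≫ b.obj.hom = g ≫ v₀ ≫ a.obj.hom) :
    ((yon S).map g ≫ x) ≫ σ.p a =
      𝟙 _ ≫ (yon S).map (cOf a b v (g ≫ v₀) (by rw [h, Category.assoc])).hom.left := by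
  rw [Category.assoc, hv₀, ← Functor.map_comp, Category.id_comp]
  rfl

/-- the lift of a point of `Q a` to the canonical object -/
noncomputable def lft ⦃W' : Over S⦄ (g : W' ⟶ W) (b : (Stk.sieveCat R).obj) (v : W' ⟶ b.obj.left)
    (h : v ≫ b.obj.hom = g ≫ v₀ ≫ a.obj.hom) :
    (yon S).obj W' ⟶ σ.Q (aOf (v ≫ b.obj.hom) (R.downward_closed b.property v)) :=
  (σ.cart (cOf a b v (g ≫ v₀) (by rw [h, Category.assoc]))).lift ((yon S).map g ≫ x) (𝟙 _)
    (lft_aux σ x v₀ hv₀ g b v h)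

lemma lft_t ⦃W' : Over S⦄ (g : W' ⟶ W) (b : (Stk.sieveCat R).obj) (v : W' ⟶ b.obj.left)
    (h : v ≫ b.obj.hom = g ≫ v₀ ≫ a.obj.hom) :
    lft σ x v₀ hv₀ g b v h ≫ σ.t (cOf a b v (g ≫ v₀) (by rw [h, Category.assoc])) =
      (yon S).map g ≫ x := IsPullback.lift_fst _ _ _ _

lemma lft_p ⦃W' : Over S⦄ (g : W' ⟶ W) (b : (Stk.sieveCat R).obj) (v : W' ⟶ b.obj.left)
    (h : v ≫ b.obj.hom = g ≫ v₀ ≫ a.obj.hom) :
    lft σ x v₀ hv₀ g b v h ≫ σ.p _ = 𝟙 _ := IsPullback.lift_snd _ _ _ _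

/-- the sections of the glued sheaf attached to a point of `Q a` -/
noncomputable def sRaw ⦃W' : Over S⦄ (g : W' ⟶ W) (b : (Stk.sieveCat R).obj)
    (v : W' ⟶ b.obj.left) (h : v ≫ b.obj.hom = g ≫ v₀ ≫ a.obj.hom) :
    (yon S).obj W' ⟶ σ.Q b :=
  lft σ x v₀ hv₀ g b v h ≫ σ.t (nOf b v)

theorem sRaw_char ⦃W' : Over S⦄ (g : W' ⟶ W) (b : (Stk.sieveCat R).obj) (v : W' ⟶ b.obj.left)
    (h : v ≫ b.obj.hom = g ≫ v₀ ≫ a.obj.hom) (c : (Stk.sieveCat R).obj) (e : W' ⟶ c.obj.left)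
    (ma : c ⟶ a) (mb : c ⟶ b) (y : (yon S).obj W' ⟶ σ.Q c)
    (hy1 : y ≫ σ.p c = (yon S).map e) (hy2 : y ≫ σ.t ma = (yon S).map g ≫ x)
    (hea : e ≫ ma.hom.left = g ≫ v₀) (heb : e ≫ mb.hom.left = v) :
    sRaw σ x v₀ hv₀ g b v h = y ≫ σ.t mb := by
  have he : e ≫ c.obj.hom = v ≫ b.obj.hom := by
    rw [← Over.w mb.hom, ← Category.assoc, heb]
  let μ : aOf (v ≫ b.obj.hom) (R.downward_closed b.property v) ⟶ c :=
    ObjectProperty.homMk (Over.homMk e he)
  have hμa : μ ≫ ma = cOf a b v (g ≫ v₀) (by rw [h, Category.assoc]) :=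
    sieveCat_hom_ext hea
  have hμb : μ ≫ mb = nOf b v := sieveCat_hom_ext heb
  have key : lft σ x v₀ hv₀ g b v h ≫ σ.t μ = y := by
    apply (σ.cart ma).hom_ext
    · rw [Category.assoc, ← σ.t_comp, hμa, lft_t, hy2]
    · rw [Category.assoc, (σ.cart μ).w, ← Category.assoc, lft_p, Category.id_comp, hy1]
      rfl
  unfold sRaw
  rw [← hμb, σ.t_comp, ← Category.assoc, key]

end Raw

section QSec
variable {a : (Stk.sieveCat R).obj} {W : Over S} (x : (yon S).obj W ⟶ σ.Q a)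
  (v₀ : W ⟶ a.obj.left) (hv₀ : x ≫ σ.p a = (yon S).map v₀)

/-- the section of the glued sheaf attached to a point of `Q a` -/
noncomputable def qSec : Sec σ W where
  w := v₀ ≫ a.obj.hom
  s W' g b v h := sRaw σ x v₀ hv₀ g b v h
  s_p W' g b v h := by
    unfold sRaw
    rw [Category.assoc, (σ.cart (nOf b v)).w, ← Category.assoc, lft_p, Category.id_comp]
    rfl
  s_t W' g b b' m v h := by
    symm
    refine (sRaw_char σ x v₀ hv₀ g b' (v ≫ m.hom.left) _
      (aOf (v ≫ b.obj.hom) (R.downward_closed b.property v)) (𝟙 _)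
      (cOf a b v (g ≫ v₀) (by rw [h, Category.assoc])) (nOf b v ≫ m) (lft σ x v₀ hv₀ g b v h)
      (by rw [lft_p, CategoryTheory.Functor.map_id]) (lft_t σ x v₀ hv₀ g b v h)
      (Category.id_comp _) (Category.id_comp _)).trans ?_
    unfold sRaw
    rw [σ.t_comp, Category.assoc]
  s_res W' W'' k g b v h := by
    symm
    refine (sRaw_char σ x v₀ hv₀ (k ≫ g) b (k ≫ v) _
      (aOf (v ≫ b.obj.hom) (R.downward_closed b.property v)) k
      (cOf a b v (g ≫ v₀) (by rw [h, Category.assoc])) (nOf b v)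
      ((yon S).map k ≫ lft σ x v₀ hv₀ g b v h)
      (by rw [Category.assoc, lft_p, Category.comp_id])
      (by rw [Category.assoc, lft_t, Functor.map_comp, Category.assoc])
      (Category.assoc _ _ _).symm rfl).trans ?_
    unfold sRaw
    rw [Category.assoc]

lemma qSec_congr {x x' : (yon S).obj W ⟶ σ.Q a} {v₀ v₀' : W ⟶ a.obj.left} (hx : x = x')
    (hv : v₀ = v₀') (h : x ≫ σ.p a = (yon S).map v₀) (h' : x' ≫ σ.p a = (yon S).map v₀') :
    qSec σ x v₀ h = qSec σ x' v₀' h' := by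
  subst hx hv; rfl

lemma qSec_map {W₁ : Over S} (k₁ : W₁ ⟶ W) :
    Sec.map k₁ (qSec σ x v₀ hv₀) = qSec σ ((yon S).map k₁ ≫ x) (k₁ ≫ v₀)
      (by rw [Category.assoc, hv₀, Functor.map_comp]) := by
  apply Sec.ext'
  · exact (Category.assoc _ _ _).symm
  · intro W' g b v h h'
    symm
    have h'' : v ≫ b.obj.hom = (g ≫ k₁) ≫ v₀ ≫ a.obj.hom := by
      rw [h']; simp only [Category.assoc]; rfl
    exact sRaw_char σ _ _ _ g b v h' (aOf (v ≫ b.obj.hom) (R.downward_closed b.property v))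
      (𝟙 _) (cOf a b v ((g ≫ k₁) ≫ v₀) (by rw [h'', Category.assoc])) (nOf b v)
      (lft σ x v₀ hv₀ (g ≫ k₁) b v h'')
      (by rw [lft_p, CategoryTheory.Functor.map_id])
      (by rw [lft_t, Functor.map_comp, Category.assoc])
      ((Category.id_comp _).trans (Category.assoc _ _ _)) (Category.id_comp _)

end QSec

/-- the point of the glued sheaf attached to a section -/
noncomputable def pt {W : Over S} (n : Sec σ W) : (yon S).obj W ⟶ glueSp σ :=
  yEquiv.symm n

lemma map_pt {W W₁ : Over S} (k : W₁ ⟶ W) (n : Sec σ W) :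
    (yon S).map k ≫ pt σ n = pt σ (Sec.map k n) :=
  (AlgSp.J S).uliftYonedaEquiv_symm_naturality_left k (glueSp σ) n

lemma pt_yEquiv {W : Over S} (g : (yon S).obj W ⟶ glueSp σ) : pt σ (yEquiv g) = g :=
  Equiv.symm_apply_apply _ _

lemma pt_injective {W : Over S} {n n' : Sec σ W} (h : pt σ n = pt σ n') : n = n' :=
  yEquiv.symm.injective h

lemma yEquiv_map {W W₁ : Over S} (k : W₁ ⟶ W) (g : (yon S).obj W ⟶ glueSp σ) :
    (yEquiv ((yon S).map k ≫ g) : Sec σ W₁) = Sec.map k (yEquiv g) :=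
  yEquiv_map_comp k g

/-- the projection of the glued sheaf -/
noncomputable def πN : glueSp σ ⟶ (yon S).obj U :=
  homOfPoints (fun T g => (yon S).map (yEquiv g : Sec σ T).w) (fun T T' k g => by
    rw [yEquiv_map, Sec.map_w, Functor.map_comp])

lemma pt_πN {W : Over S} (n : Sec σ W) : pt σ n ≫ πN σ = (yon S).map n.w := by
  rw [πN, comp_homOfPoints, pt, Equiv.apply_symm_apply]

/-- the point of an arrow under a point of `Q a` -/
noncomputable def vOf {a : (Stk.sieveCat R).obj} {W : Over S} (x : (yon S).obj W ⟶ σ.Q a) :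
    W ⟶ a.obj.left := (yon S).preimage (x ≫ σ.p a)

lemma vOf_spec {a : (Stk.sieveCat R).obj} {W : Over S} (x : (yon S).obj W ⟶ σ.Q a) :
    x ≫ σ.p a = (yon S).map (vOf σ x) := ((yon S).map_preimage _).symm

lemma vOf_eq {a : (Stk.sieveCat R).obj} {W : Over S} (x : (yon S).obj W ⟶ σ.Q a)
    (v : W ⟶ a.obj.left) (h : x ≫ σ.p a = (yon S).map v) : vOf σ x = v := by
  apply (yon S).map_injective
  rw [← vOf_spec, h]

/-- the maps to the glued sheaf -/
noncomputable def q (a : (Stk.sieveCat R).obj) : σ.Q a ⟶ glueSp σ :=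
  homOfPoints (fun T x => pt σ (qSec σ x (vOf σ x) (vOf_spec σ x))) (fun T T' k x => by
    rw [map_pt, qSec_map]
    congr 1
    exact qSec_congr σ rfl (vOf_eq σ _ _ (by
      rw [Category.assoc, vOf_spec σ x, Functor.map_comp])).symm _ _)

lemma comp_q {a : (Stk.sieveCat R).obj} {W : Over S} (x : (yon S).obj W ⟶ σ.Q a)
    (v₀ : W ⟶ a.obj.left) (hv₀ : x ≫ σ.p a = (yon S).map v₀) :
    x ≫ q σ a = pt σ (qSec σ x v₀ hv₀) := by
  rw [q, comp_homOfPoints]
  congr 1
  exact qSec_congr σ rfl (vOf_eq σ x v₀ hv₀) _ _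

lemma q_πN (a : (Stk.sieveCat R).obj) : q σ a ≫ πN σ = σ.p a ≫ (yon S).map a.obj.hom := by
  apply hom_ext_yon
  intro T x
  rw [← Category.assoc, comp_q σ x (vOf σ x) (vOf_spec σ x), pt_πN, ← Category.assoc,
    vOf_spec σ x, ← Functor.map_comp]
  rfl

lemma t_q {a a' : (Stk.sieveCat R).obj} (m : a ⟶ a') : σ.t m ≫ q σ a' = q σ a := by
  apply hom_ext_yon
  intro T x
  have hv := vOf_spec σ x
  have hv' : (x ≫ σ.t m) ≫ σ.p a' = (yon S).map (vOf σ x ≫ m.hom.left) := by
    rw [Category.assoc, (σ.cart m).w, ← Category.assoc, hv, Functor.map_comp]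
  rw [← Category.assoc, comp_q σ (x ≫ σ.t m) _ hv', comp_q σ x _ hv]
  congr 1
  apply Sec.ext'
  · change (vOf σ x ≫ m.hom.left) ≫ a'.obj.hom = vOf σ x ≫ a.obj.hom
    rw [Category.assoc, Over.w m.hom]
  · intro W' g b v h h'
    exact sRaw_char σ _ _ _ g b v h (aOf (v ≫ b.obj.hom) (R.downward_closed b.property v))
      (𝟙 _) (cOf a b v (g ≫ vOf σ x) (by rw [h', Category.assoc]; rfl) ≫ m) (nOf b v)
      (lft σ x (vOf σ x) hv g b v h')
      (by rw [lft_p, CategoryTheory.Functor.map_id])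
      (by rw [σ.t_comp, ← Category.assoc, lft_t, Category.assoc])
      (by rw [Category.id_comp]; exact Category.assoc _ _ _) (Category.id_comp _)

/-- the system is pulled back from the glued sheaf -/
theorem cart (a : (Stk.sieveCat R).obj) :
    IsPullback (q σ a) (σ.p a) (πN σ) ((yon S).map a.obj.hom) := by
  rw [isPullback_iff_yon]
  refine ⟨q_πN σ a, fun T n y hny => ?_⟩
  let n' : Sec σ T := yEquiv n
  have hn : pt σ n' = n := pt_yEquiv σ n
  let v : T ⟶ a.obj.left := (yon S).preimage y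
  have hy : (yon S).map v = y := (yon S).map_preimage y
  have hv : v ≫ a.obj.hom = n'.w := by
    apply (yon S).map_injective
    rw [Functor.map_comp, hy, ← hny, ← hn, pt_πN]
  have hv1 : v ≫ a.obj.hom = 𝟙 T ≫ n'.w := by rw [Category.id_comp, hv]
  let z : (yon S).obj T ⟶ σ.Q a := n'.s (𝟙 T) a v hv1
  have hz : z ≫ σ.p a = (yon S).map v := n'.s_p _ _ _ _
  have hzq : qSec σ z v hz = n' := by
    apply Sec.ext'
    · exact hv
    · intro W' g b v' h h'
      have hc : 𝟙 W' ≫ (v' ≫ b.obj.hom) = g ≫ n'.w := by rw [Category.id_comp, h']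
      let c : (Stk.sieveCat R).obj := aOf (v' ≫ b.obj.hom) (R.downward_closed b.property v')
      let y' : (yon S).obj W' ⟶ σ.Q c := n'.s g c (𝟙 W') hc
      have hga : (g ≫ v) ≫ a.obj.hom = v' ≫ b.obj.hom := by rw [h, Category.assoc]; rfl
      refine (sRaw_char σ z v hz g b v' h c (𝟙 W') (cOf a b v' (g ≫ v) hga) (nOf b v') y'
        (n'.s_p _ _ _ _) ?_ (Category.id_comp _) (Category.id_comp _)).trans ?_
      · rw [n'.s_t g (cOf a b v' (g ≫ v) hga) (𝟙 W') hc, n'.s_res g (𝟙 T) a v hv1]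
        exact n'.s_congr (Category.comp_id _).symm (Category.id_comp _) _ _
      · rw [n'.s_t g (nOf b v') (𝟙 W') hc]
        exact n'.s_congr rfl (Category.id_comp _) _ _
  refine ⟨z, ⟨?_, ?_⟩, ?_⟩
  · rw [comp_q σ z v hz, hzq, hn]
  · rw [hz, hy]
  · rintro z' ⟨h1, h2⟩
    have hz' : z' ≫ σ.p a = (yon S).map v := by rw [h2, hy]
    have e : qSec σ z' v hz' = n' := by
      apply pt_injective σ
      rw [← comp_q σ z' v hz', h1, hn]
    have h0 : v ≫ a.obj.hom = 𝟙 T ≫ (qSec σ z' v hz').w := (Category.id_comp _).symm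
    have e1 : z = (qSec σ z' v hz').s (𝟙 T) a v h0 :=
      Sec.s_congr' e.symm rfl rfl _ _
    rw [e1]
    change z' = sRaw σ z' v hz' (𝟙 T) a v _
    rw [sRaw_char σ z' v hz' (𝟙 T) a v h0 a v (𝟙 a) (𝟙 a) z' hz'
      (by rw [σ.t_id, Category.comp_id, CategoryTheory.Functor.map_id, Category.id_comp])
      (by rw [Category.id_comp]; exact Category.comp_id _) (Category.comp_id _),
      σ.t_id, Category.comp_id]

/-- **descent for sheaves: every system over a sieve has a vertex** -/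
noncomputable def vertex : CartSysSp R where
  N := glueSp σ
  πN := πN σ
  Q := σ.Q
  q := q σ
  p := σ.p
  cart := cart σ
  t := σ.t
  t_q := t_q σ
  t_p m := (σ.cart m).w

end Groth.Agent.Lib.Helper24.SpQ3
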