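import Mathlib
import Groth.Prelude.Def_AlgSt6
import Groth.Agent.Lib.Helper24.FibGrpd
import Groth.Agent.Lib.Helper24.QuotSt8
set_option autoImplicit false
set_option linter.unusedSectionVars false
set_option linter.unusedVariables false
set_option linter.unusedSimpArgs false
set_option backward.isDefEq.respectTransparency false
set_option backward.isDefEq.respectTransparency.types false
universe u
open CategoryTheory CategoryTheory.Limits AlgebraicGeometry Opposite
open MonoidalCategory CartesianMonoidalCategory MonObj GrpObj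

/-! The quotient stack `[X/G]` with sheaf torsors is fibred in groupoids. -/

namespace Groth.Agent.Lib.Helper24.SpQ4
open AlgSp AlgSt

variable {S : Scheme.{u}} {K : Precoverage Scheme.{u}} {B : Sp S} {G : Over B} [GrpObj G]
  {X : Over B} {aX : GAction G X}

lemma bHom_comp_eq {T T' T'' : Over S} {b : (yon S).obj T ⟶ B} {b' : (yon S).obj T' ⟶ B}
    {b'' : (yon S).obj T'' ⟶ B} (f : T ⟶ T') (g : T' ⟶ T'') (k : T ⟶ T'') (hk : f ≫ g = k)
    (w : (yon S).map f ≫ b' = b) (w' : (yon S).map g ≫ b'' = b')
    (w'' : (yon S).map k ≫ b'' = b) : bHom f w ≫ bHom g w' = bHom k w'' := by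
  subst hk
  ext
  simp

lemma liftHom_wb {A B' C : SpQuotObj K G aX} (h : A ⟶ B') (m : C ⟶ B')
    (g : C.base ⟶ A.base) (hg : g ≫ h.base = m.base) : (yon S).map g ≫ A.b = C.b := by
  rw [← h.wb, ← Category.assoc, ← Functor.map_comp, hg, m.wb]

lemma liftHom_aux {A B' C : SpQuotObj K G aX} (h : A ⟶ B') (m : C ⟶ B')
    (g : C.base ⟶ A.base) (hg : g ≫ h.base = m.base) (wb : (yon S).map g ≫ A.b = C.b) :
    m.top ≫ B'.π = (C.π ≫ bHom g wb) ≫ bHom h.base h.wb := by
  rw [m.cart.w, Category.assoc, bHom_comp_eq g h.base m.base hg]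

/-- the lift of `m : C ⟶ B'` through `h : A ⟶ B'` over `g` -/
noncomputable def liftHom {A B' C : SpQuotObj K G aX} (h : A ⟶ B') (m : C ⟶ B')
    (g : C.base ⟶ A.base) (hg : g ≫ h.base = m.base) : C ⟶ A where
  base := g
  wb := liftHom_wb h m g hg
  top := h.cart.lift m.top (C.π ≫ bHom g (liftHom_wb h m g hg))
    (liftHom_aux h m g hg (liftHom_wb h m g hg))
  eqv := by
    have wb := liftHom_wb h m g hg
    apply h.cart.hom_ext
    · rw [Category.assoc, IsPullback.lift_fst, m.eqv, Category.assoc, h.eqv,
        ← MonoidalCategory.whiskerLeft_comp_assoc, IsPullback.lift_fst]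
    · generalize_proofs
      rw [Category.assoc, IsPullback.lift_snd, Category.assoc, A.cart.w,
        whiskerLeft_snd_assoc, IsPullback.lift_snd, ← Category.assoc, C.cart.w, Category.assoc]
  cart := by
    refine IsPullback.of_right ?_ (IsPullback.lift_snd _ _ _ _) h.cart
    rw [IsPullback.lift_fst, bHom_comp_eq g h.base m.base hg _ _ m.wb]
    exact m.cart
  wφ := by rw [← h.wφ, ← Category.assoc, IsPullback.lift_fst, m.wφ]

@[simp] lemma liftHom_base {A B' C : SpQuotObj K G aX} (h : A ⟶ B') (m : C ⟶ B')
    (g : C.base ⟶ A.base) (hg : g ≫ h.base = m.base) : (liftHom h m g hg).base = g := rfl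

lemma liftHom_comp {A B' C : SpQuotObj K G aX} (h : A ⟶ B') (m : C ⟶ B')
    (g : C.base ⟶ A.base) (hg : g ≫ h.base = m.base) : liftHom h m g hg ≫ h = m :=
  SpQuotObj.hom_ext hg (IsPullback.lift_fst _ _ _ _)

lemma liftHom_unique {A B' C : SpQuotObj K G aX} (h : A ⟶ B') (m : C ⟶ B')
    (g : C.base ⟶ A.base) (hg : g ≫ h.base = m.base) (l : C ⟶ A) (hl : l.base = g)
    (hlm : l ≫ h = m) : l = liftHom h m g hg := by
  refine SpQuotObj.hom_ext hl ?_
  apply h.cart.hom_ext
  · have : l.top ≫ h.top = m.top := congrArg (fun t => t.top) hlm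
    rw [this]
    exact (IsPullback.lift_fst _ _ _ _).symm
  · have e : l.top ≫ A.π = C.π ≫ bHom g (by
        rw [← h.wb, ← Category.assoc, ← Functor.map_comp, hg, m.wb]) := by
      rw [l.cart.w]
      congr 1
      subst hl
      rfl
    rw [e]
    exact (IsPullback.lift_snd _ _ _ _).symm

instance isStronglyCartesian_map {A B' : SpQuotObj K G aX} (h : A ⟶ B') :
    (SpQuotSt K G aX).p.IsStronglyCartesian ((SpQuotSt K G aX).p.map h) h where
  universal_property' := by
    intro C g m hm
    have hg : g ≫ h.base = m.base :=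
      IsHomLift.eq_of_isHomLift (SpQuotSt K G aX).p
        (g ≫ (SpQuotSt K G aX).p.map h) m
    refine ⟨liftHom h m g hg, ⟨?_, liftHom_comp h m g hg⟩, ?_⟩
    · have : (SpQuotSt K G aX).p.IsHomLift
          ((SpQuotSt K G aX).p.map (liftHom h m g hg)) (liftHom h m g hg) :=
        IsHomLift.map _ _
      exact this
    · rintro l ⟨hl1, hl2⟩
      have hl : l.base = g :=
        (IsHomLift.eq_of_isHomLift (SpQuotSt K G aX).p g l).symm
      exact liftHom_unique h m g hg l hl hl2

/-- every morphism lying over `f` is strongly cartesian over `f` -/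
theorem scart {A B' : SpQuotObj K G aX} {R T : Over S} (f : R ⟶ T) (h : A ⟶ B')
    [(SpQuotSt K G aX).p.IsHomLift f h] :
    (SpQuotSt K G aX).p.IsStronglyCartesian f h := by
  rw [Groth.Agent.Lib.Helper24.FibGrpd.isStronglyCartesian_iff_map]
  infer_instance

section Action
variable {Q P' T' : Over B} (aQ : GAction G Q) (j : P' ⟶ Q) (q : P' ⟶ T')
  (hjq : ∀ {Z : Over B} (a b : Z ⟶ P'), a ≫ j = b ≫ j → a ≫ q = b ≫ q → a = b)
  (act' : G ⊗ P' ⟶ P') (h1 : act' ≫ j = (G ◁ j) ≫ aQ.act) (h2 : act' ≫ q = snd G P' ≫ q)

include hjq h1 h2 in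
/-- an action induced on a subobject of `Q × T'` (trivial action on `T'`) -/
noncomputable def actionOfJointlyMono : GAction G P' where
  act := act'
  one_act := by
    apply hjq
    · rw [Category.assoc, h1, ← Category.assoc, ← MonoidalCategory.whisker_exchange,
        Category.assoc, aQ.one_act, leftUnitor_naturality]
    · rw [Category.assoc, h2, whiskerRight_snd_assoc, leftUnitor_hom]
  mul_act := by
    apply hjq
    · rw [Category.assoc, h1, ← Category.assoc, ← MonoidalCategory.whisker_exchange,
        Category.assoc, aQ.mul_act]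
      simp only [Category.assoc]
      rw [h1, ← MonoidalCategory.whiskerLeft_comp_assoc, h1, MonoidalCategory.whiskerLeft_comp,
        Category.assoc, associator_naturality_right_assoc]
    · simp only [Category.assoc]
      rw [h2, whiskerRight_snd_assoc, whiskerLeft_snd_assoc, h2, associator_hom_snd_snd_assoc]

end Action

section Pull
variable [K.IsStableUnderBaseChange] (A : SpQuotObj K G aX) {T' : Over S} (f : T' ⟶ A.base)

/-- the morphism of bases as a morphism over `B` -/
abbrev fB : Over.mk ((yon S).map f ≫ A.b) ⟶ Over.mk A.b := bHom f rfl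

/-- the action morphism of the pulled back torsor -/
noncomputable def pullAct : G ⊗ pullback A.π (fB A f) ⟶ pullback A.π (fB A f) :=
  pullback.lift ((G ◁ pullback.fst A.π (fB A f)) ≫ A.act.act)
    (snd G _ ≫ pullback.snd A.π (fB A f)) (by
    rw [Category.assoc, A.cart.w, whiskerLeft_snd_assoc, Category.assoc, pullback.condition])

lemma pullAct_fst : pullAct A f ≫ pullback.fst A.π (fB A f) =
    (G ◁ pullback.fst A.π (fB A f)) ≫ A.act.act :=
  pullback.lift_fst _ _ _

lemma pullAct_snd : pullAct A f ≫ pullback.snd A.π (fB A f) =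
    snd G _ ≫ pullback.snd A.π (fB A f) :=
  pullback.lift_snd _ _ _

/-- the action on the pulled back torsor -/
noncomputable def pullAction : GAction G (pullback A.π (fB A f)) :=
  actionOfJointlyMono A.act (pullback.fst A.π (fB A f)) (pullback.snd A.π (fB A f))
    (fun a b h1 h2 => pullback.hom_ext h1 h2) (pullAct A f) (pullAct_fst A f) (pullAct_snd A f)

lemma pullAction_act : (pullAction A f).act = pullAct A f := rfl

lemma pull_cart : IsPullback (pullAction A f).act (snd G (pullback A.π (fB A f)))
    (pullback.snd A.π (fB A f)) (pullback.snd A.π (fB A f)) := by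
  have hr : IsPullback (pullback.fst A.π (fB A f)) (pullback.snd A.π (fB A f)) A.π (fB A f) :=
    IsPullback.of_hasPullback A.π (fB A f)
  have h1 : IsPullback (G ◁ pullback.fst A.π (fB A f)) (snd G (pullback A.π (fB A f)))
      (snd G A.P) (pullback.fst A.π (fB A f)) :=
    AlgSt.isPullback_whiskerLeft' (pullback.fst A.π (fB A f))
  have houter := h1.paste_horiz A.cart
  refine IsPullback.of_right ?_ (pullAct_snd A f) hr
  rw [pullAction_act, pullAct_fst, ← pullback.condition]
  exact houter

lemma pull_loc : HasSecLoc K (pullback.snd A.π (fB A f)).left := by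
  obtain ⟨R, hR, hsec⟩ := A.loc
  refine ⟨R.pullbackArrows f.left, Precoverage.pullbackArrows_mem f.left hR, ?_⟩
  rintro S' g' ⟨Z, h, hRh⟩
  obtain ⟨s, hs⟩ := hsec h hRh
  have hmap : IsPullback (pullback.fst A.π (fB A f)).left (pullback.snd A.π (fB A f)).left
      A.π.left (fB A f).left :=
    (IsPullback.of_hasPullback A.π (fB A f)).map (Over.forget B)
  have hw : pullback.fst h f.left ≫ h ≫ A.base.hom = pullback.snd h f.left ≫ T'.hom := by
    rw [← Category.assoc, pullback.condition, Category.assoc, Over.w f]
  let w₁ : Over.mk (pullback.snd h f.left ≫ T'.hom) ⟶ Over.mk (h ≫ A.base.hom) :=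
    Over.homMk (pullback.fst h f.left) hw
  refine ⟨hmap.lift ((yon S).map w₁ ≫ s) ((yon S).map (Over.homMk (pullback.snd h f.left))) ?_, ?_⟩
  · rw [Category.assoc, hs, ← Functor.map_comp]
    change _ = (yon S).map _ ≫ (yon S).map f
    rw [← Functor.map_comp]
    congr 1
    ext
    change pullback.fst h f.left ≫ h = pullback.snd h f.left ≫ f.left
    exact pullback.condition
  · exact hmap.lift_snd _ _ _

/-- the pullback of a torsor along a morphism of bases -/
noncomputable def pullObj : SpQuotObj K G aX where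
  base := T'
  b := (yon S).map f ≫ A.b
  P := pullback A.π (fB A f)
  act := pullAction A f
  π := pullback.snd A.π (fB A f)
  cart := pull_cart A f
  loc := pull_loc A f
  φ := pullback.fst A.π (fB A f) ≫ A.φ
  eqv := by
    rw [pullAction_act, ← Category.assoc, pullAct_fst, Category.assoc, A.eqv,
      MonoidalCategory.whiskerLeft_comp, Category.assoc]

/-- the canonical morphism from the pullback -/
noncomputable def pullHom : pullObj A f ⟶ A where
  base := f
  wb := rfl
  top := pullback.fst A.π (fB A f)
  eqv := pullAct_fst A f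
  cart := IsPullback.of_hasPullback A.π (fB A f)
  wφ := rfl

end Pull

/-- the quotient stack with sheaf torsors is fibred in groupoids -/
theorem isFibGrpd [K.IsStableUnderBaseChange] : FibCat.IsFibGrpd (SpQuotSt K G aX).p where
  exists_lift := by
    intro A V f
    exact ⟨pullObj A f, pullHom A f,
      (IsHomLift.map (SpQuotSt K G aX).p (pullHom A f) :)⟩
  isStronglyCartesian := fun φ => isStronglyCartesian_map φ

end Groth.Agent.Lib.Helper24.SpQ4
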