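import Mathlib
import Groth.Agent.Lib.Helper24.SpQ3
import Groth.Agent.Lib.Helper24.SpQ4
import Groth.Agent.Lib.Helper24.QuotSt10
set_option autoImplicit false
set_option linter.unusedSectionVars false
set_option linter.unusedVariables false
set_option linter.unusedSimpArgs false
set_option backward.isDefEq.respectTransparency false
set_option backward.isDefEq.respectTransparency.types false
universe u
open CategoryTheory CategoryTheory.Limits AlgebraicGeometry Opposite
open MonoidalCategory CartesianMonoidalCategory MonObj GrpObj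

/-! Cartesian systems of sheaves over a base sheaf `B`, and uniqueness of morphisms between the
vertices of cones in the quotient stack with sheaf torsors. -/

namespace Groth.Agent.Lib.Helper24.SpQ5
open AlgSp AlgSt Groth.Agent.Lib.Helper14.AS Groth.Agent.Lib.Helper24.SpQ1
open Groth.Agent.Lib.Helper24.StkCone

variable {S : Scheme.{u}} {U : Over S}

/-- a cartesian system of sheaves over `B` over the arrows of a sieve -/
structure CartSysB (B : Sp S) (R : Sieve U) where
  N : Over B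
  πN : N.left ⟶ (yon S).obj U
  Q : (Stk.sieveCat R).obj → Over B
  q : ∀ a, Q a ⟶ N
  p : ∀ a : (Stk.sieveCat R).obj, (Q a).left ⟶ (yon S).obj a.obj.left
  cart : ∀ a : (Stk.sieveCat R).obj, IsPullback (q a).left (p a) πN ((yon S).map a.obj.hom)
  t : ∀ {a b : (Stk.sieveCat R).obj} (_ : a ⟶ b), Q a ⟶ Q b
  t_q : ∀ {a b : (Stk.sieveCat R).obj} (m : a ⟶ b), t m ≫ q b = q a
  t_p : ∀ {a b : (Stk.sieveCat R).obj} (m : a ⟶ b),
    (t m).left ≫ p b = p a ≫ (yon S).map m.hom.left

namespace CartSysB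
variable {B : Sp S} {R : Sieve U} (τ : CartSysB B R)

/-- the underlying cartesian system of sheaves -/
def toSp : CartSysSp R where
  N := τ.N.left
  πN := τ.πN
  Q a := (τ.Q a).left
  q a := (τ.q a).left
  p := τ.p
  cart := τ.cart
  t m := (τ.t m).left
  t_q m := by rw [← Over.comp_left, τ.t_q]
  t_p := τ.t_p

section Glue
variable (hR : R ∈ J S U)

include hR in
theorem exists_unique_glue {Z : Over B} (z : ∀ a, τ.Q a ⟶ Z)
    (hz : ∀ {a b : (Stk.sieveCat R).obj} (m : a ⟶ b), τ.t m ≫ z b = z a) :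
    ∃! ζ : τ.N ⟶ Z, ∀ a, τ.q a ≫ ζ = z a := by
  obtain ⟨ζ₀, hζ₀, hu⟩ := τ.toSp.exists_unique_glue hR (fun a => (z a).left)
    (fun {a b} m => by
      change (τ.t m).left ≫ (z b).left = (z a).left
      rw [← Over.comp_left, hz])
  have hw : ζ₀ ≫ Z.hom = τ.N.hom := by
    apply τ.toSp.hom_ext hR
    intro a
    change (τ.q a).left ≫ ζ₀ ≫ Z.hom = (τ.q a).left ≫ τ.N.hom
    have := hζ₀ a
    change (τ.q a).left ≫ ζ₀ = (z a).left at this
    rw [← Category.assoc, this, Over.w, Over.w]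
  refine ⟨Over.homMk ζ₀ hw, fun a => ?_, fun ζ' hζ' => ?_⟩
  · apply Over.OverMorphism.ext
    exact hζ₀ a
  · apply Over.OverMorphism.ext
    change ζ'.left = ζ₀
    apply hu
    intro a
    change (τ.q a).left ≫ ζ'.left = (z a).left
    rw [← Over.comp_left, hζ']

include hR in
theorem hom_ext {Z : Over B} {ζ ζ' : τ.N ⟶ Z} (h : ∀ a, τ.q a ≫ ζ = τ.q a ≫ ζ') : ζ = ζ' := by
  apply Over.OverMorphism.ext
  apply τ.toSp.hom_ext hR
  intro a
  change (τ.q a).left ≫ ζ.left = (τ.q a).left ≫ ζ'.left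
  rw [← Over.comp_left, h, Over.comp_left]

end Glue

/-- the product of a cartesian system with an object over `B` -/
noncomputable def whisker (W : Over B) : CartSysB B R where
  N := W ⊗ τ.N
  πN := (snd W τ.N).left ≫ τ.πN
  Q a := W ⊗ τ.Q a
  q a := W ◁ τ.q a
  p a := (snd W (τ.Q a)).left ≫ τ.p a
  cart a := ((AlgSt.isPullback_whiskerLeft' (G := W) (τ.q a)).map (Over.forget B)).paste_vert
    (τ.cart a)
  t m := W ◁ τ.t m
  t_q m := by rw [← MonoidalCategory.whiskerLeft_comp, τ.t_q]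
  t_p m := by
    rw [← Category.assoc, ← Over.comp_left, whiskerLeft_snd, Over.comp_left, Category.assoc,
      τ.t_p, Category.assoc]

@[simp] lemma whisker_N (W : Over B) : (τ.whisker W).N = W ⊗ τ.N := rfl
@[simp] lemma whisker_q (W : Over B) (a : (Stk.sieveCat R).obj) :
    (τ.whisker W).q a = W ◁ τ.q a := rfl

end CartSysB

lemma isPullback_yon_eqToHom {P Y : Sp S} {X Z X' Z' : Over S} {t : P ⟶ Y}
    {l : P ⟶ (yon S).obj X} {r : Y ⟶ (yon S).obj Z} {b : X ⟶ Z}
    (h : IsPullback t l r ((yon S).map b)) (hX : X = X') (hZ : Z = Z') (b' : X' ⟶ Z')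
    (hb : b = eqToHom hX ≫ b' ≫ eqToHom hZ.symm) :
    IsPullback t (l ≫ (yon S).map (eqToHom hX)) (r ≫ (yon S).map (eqToHom hZ))
      ((yon S).map b') := by
  subst hX hZ
  simp only [eqToHom_refl, Category.id_comp, Category.comp_id] at hb
  subst hb
  simpa using h

section OfCone
variable {K : Precoverage Scheme.{u}} {B : Sp S} {G : Over B} [GrpObj G] {X : Over B}
  {aX : GAction G X} {R : Sieve U} {Ψ : Stk.sieveCat R ⥤ᵇ SpQuotSt K G aX}

lemma base_eq_of_lift {A A' : SpQuotObj K G aX} {V W : Over S} (f : V ⟶ W) (h : A ⟶ A')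
    (hl : (SpQuotSt K G aX).p.IsHomLift f h) (hA : A.base = V) (hA' : A'.base = W) :
    h.base = eqToHom hA ≫ f ≫ eqToHom hA'.symm :=
  IsHomLift.fac' (SpQuotSt K G aX).p f h

lemma map_base {a b : (Stk.sieveCat R).obj} (m : a ⟶ b) :
    (Ψ.toFunctor.map m).base =
      eqToHom (Ψ.w_obj a) ≫ m.hom.left ≫ eqToHom (Ψ.w_obj b).symm :=
  base_eq_of_lift m.hom.left _
    (Groth.Agent.Lib.Helper24.FibCatRepDiag.map_lift Ψ _ _
      (Groth.Agent.Lib.Helper24.StkRefine.sieveCat_lift m)) (Ψ.w_obj a) (Ψ.w_obj b)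

/-- the cartesian system of a cone over a section of `[X/G]` over a sieve -/
noncomputable def ofCone {A : SpQuotObj K G aX} (c : Cone R Ψ A) (hA : A.base = U) :
    CartSysB B R where
  N := A.P
  πN := A.π.left ≫ (yon S).map (eqToHom hA)
  Q a := (Ψ.toFunctor.obj a).P
  q a := (c.θ a).top
  p a := (Ψ.toFunctor.obj a).π.left ≫ (yon S).map (eqToHom (Ψ.w_obj a))
  cart a := isPullback_yon_eqToHom ((c.θ a).cart.map (Over.forget B)) (Ψ.w_obj a) hA a.obj.hom
    (base_eq_of_lift a.obj.hom _ (c.lift a) (Ψ.w_obj a) hA)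
  t m := (Ψ.toFunctor.map m).top
  t_q m := congrArg (fun h => h.top) (c.nat m)
  t_p {a b} m := by
    have h := congrArg (fun k => k.left) (Ψ.toFunctor.map m).cart.w
    simp only [Over.comp_left] at h
    rw [← Category.assoc, h, Category.assoc, Category.assoc]
    congr 1
    change (yon S).map _ ≫ _ = _
    rw [← Functor.map_comp, ← Functor.map_comp, map_base m]
    simp

end OfCone

section Desc
variable {K : Precoverage Scheme.{u}} {B : Sp S} {G : Over B} [GrpObj G] {X : Over B}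
  {aX : GAction G X} {R : Sieve U} {Ψ : Stk.sieveCat R ⥤ᵇ SpQuotSt K G aX}
  (hR : R ∈ J S U) {A A' : SpQuotObj K G aX}
  (c : Cone R Ψ A) (c' : Cone R Ψ A') (hA : A.base = U) (hA' : A'.base = U)

include hR hA hA' in
lemma exists_top : ∃ top : A.P ⟶ A'.P, ∀ a, (c.θ a).top ≫ top = (c'.θ a).top := by
  obtain ⟨top, h, -⟩ := (ofCone c hA).exists_unique_glue hR
    (fun a => (c'.θ a).top) (fun m => (ofCone c' hA').t_q m)
  exact ⟨top, h⟩

include hR c c' in
lemma b_eq : (yon S).map (eqToHom (hA.trans hA'.symm)) ≫ A'.b = A.b := by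
  apply hom_ext_sieve B (Sieve.pullback (eqToHom hA) R) ((J S).pullback_stable _ hR)
  intro W' k hk
  have hk' : R (k ≫ eqToHom hA) := hk
  let a : (Stk.sieveCat R).obj := aOf (k ≫ eqToHom hA) hk'
  have e1 := (c.θ a).wb
  have e2 := (c'.θ a).wb
  have b1 : (c.θ a).base = eqToHom (Ψ.w_obj a) ≫ k := by
    rw [base_eq_of_lift a.obj.hom _ (c.lift a) (Ψ.w_obj a) hA]
    change _ ≫ (k ≫ eqToHom hA) ≫ _ = _
    simp
  have b2 : (c'.θ a).base = eqToHom (Ψ.w_obj a) ≫ k ≫ eqToHom (hA.trans hA'.symm) := by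
    rw [base_eq_of_lift a.obj.hom _ (c'.lift a) (Ψ.w_obj a) hA']
    change _ ≫ (k ≫ eqToHom hA) ≫ _ = _
    simp
  rw [← cancel_epi ((yon S).map (eqToHom (Ψ.w_obj a)))]
  rw [b1, Functor.map_comp, Category.assoc] at e1
  rw [b2, Functor.map_comp, Functor.map_comp, Category.assoc, Category.assoc] at e2
  rw [e1, e2]

include hR hA hA' in
theorem cone_desc : ∃! h : A ⟶ A', (SpQuotSt K G aX).p.IsHomLift (𝟙 U) h ∧
    ∀ a, c.θ a ≫ h = c'.θ a := by
  obtain ⟨top, htop⟩ := exists_top hR c c' hA hA'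
  obtain ⟨top', htop'⟩ := exists_top hR c' c hA' hA
  let σ := ofCone c hA
  let σ' := ofCone c' hA'
  have h1 : top ≫ top' = 𝟙 A.P := by
    apply σ.hom_ext hR
    intro a
    change (c.θ a).top ≫ top ≫ top' = (c.θ a).top ≫ 𝟙 _
    rw [← Category.assoc, htop, htop', Category.comp_id]
  have h2 : top' ≫ top = 𝟙 A'.P := by
    apply σ'.hom_ext hR
    intro a
    change (c'.θ a).top ≫ top' ≫ top = (c'.θ a).top ≫ 𝟙 _
    rw [← Category.assoc, htop', htop, Category.comp_id]
  have hiso : IsIso top := ⟨⟨top', h1, h2⟩⟩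
  have heqv : A.act.act ≫ top = (G ◁ top) ≫ A'.act.act := by
    apply (σ.whisker G).hom_ext hR
    intro a
    change (G ◁ (c.θ a).top) ≫ A.act.act ≫ top = (G ◁ (c.θ a).top) ≫ (G ◁ top) ≫ A'.act.act
    rw [← Category.assoc, ← (c.θ a).eqv, Category.assoc, htop, (c'.θ a).eqv,
      ← MonoidalCategory.whiskerLeft_comp_assoc, htop]
  have hφ : top ≫ A'.φ = A.φ := by
    apply σ.hom_ext hR
    intro a
    change (c.θ a).top ≫ top ≫ A'.φ = (c.θ a).top ≫ A.φ
    rw [← Category.assoc, htop, (c'.θ a).wφ, (c.θ a).wφ]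
  have hπ : top.left ≫ A'.π.left ≫ (yon S).map (eqToHom hA') =
      A.π.left ≫ (yon S).map (eqToHom hA) := by
    apply σ.toSp.hom_ext hR
    intro a
    change (c.θ a).top.left ≫ top.left ≫ σ'.πN = (c.θ a).top.left ≫ σ.πN
    rw [← Category.assoc, ← Over.comp_left, htop]
    exact (σ'.cart a).w.trans (σ.cart a).w.symm
  have hwb := b_eq hR c c' hA hA'
  have hπ' : top ≫ A'.π = A.π ≫ bHom (eqToHom (hA.trans hA'.symm)) hwb := by
    apply Over.OverMorphism.ext
    change top.left ≫ A'.π.left = A.π.left ≫ (yon S).map (eqToHom (hA.trans hA'.symm))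
    have := congrArg (fun t => t ≫ (yon S).map (eqToHom hA'.symm)) hπ
    simp only [Category.assoc, ← Functor.map_comp, eqToHom_trans, eqToHom_refl,
      CategoryTheory.Functor.map_id, Category.comp_id] at this
    exact this
  have hisob : IsIso (bHom (eqToHom (hA.trans hA'.symm)) hwb) := by
    have : IsIso ((Over.forget B).map (bHom (eqToHom (hA.trans hA'.symm)) hwb)) := by
      change IsIso ((yon S).map (eqToHom (hA.trans hA'.symm)))
      infer_instance
    exact isIso_of_reflects_iso _ (Over.forget B)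
  let h : A ⟶ A' :=
    { base := eqToHom (hA.trans hA'.symm)
      wb := hwb
      top := top
      eqv := heqv
      cart := IsPullback.of_horiz_isIso ⟨hπ'⟩
      wφ := hφ }
  have hl : (SpQuotSt K G aX).p.IsHomLift (𝟙 U) h := by
    apply IsHomLift.of_fac' (SpQuotSt K G aX).p _ _ hA hA'
    change eqToHom (hA.trans hA'.symm) = eqToHom hA ≫ 𝟙 U ≫ eqToHom hA'.symm
    simp
  refine ⟨h, ⟨hl, fun a => ?_⟩, ?_⟩
  · refine SpQuotObj.hom_ext ?_ (htop a)
    change (c.θ a).base ≫ eqToHom (hA.trans hA'.symm) = (c'.θ a).base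
    rw [base_eq_of_lift a.obj.hom _ (c.lift a) (Ψ.w_obj a) hA,
      base_eq_of_lift a.obj.hom _ (c'.lift a) (Ψ.w_obj a) hA']
    simp
  · rintro h' ⟨hl', hh'⟩
    refine SpQuotObj.hom_ext ?_ ?_
    · change h'.base = eqToHom (hA.trans hA'.symm)
      rw [base_eq_of_lift (𝟙 U) _ hl' hA hA']
      simp
    · change h'.top = top
      apply σ.hom_ext hR
      intro a
      change (c.θ a).top ≫ h'.top = (c.θ a).top ≫ top
      rw [htop]
      exact congrArg (fun t => t.top) (hh' a)

end Desc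

end Groth.Agent.Lib.Helper24.SpQ5
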