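import Mathlib
import Groth.Agent.Lib.Helper24.SpQ5
set_option autoImplicit false
set_option linter.unusedSectionVars false
set_option linter.unusedVariables false
set_option linter.unusedSimpArgs false
set_option backward.isDefEq.respectTransparency false
set_option backward.isDefEq.respectTransparency.types false
universe u
open CategoryTheory CategoryTheory.Limits AlgebraicGeometry Opposite

/-! A glued action on the vertex of a cartesian system of sheaf pseudo-torsors is a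
pseudo-torsor. -/

namespace Groth.Agent.Lib.Helper24.SpQ6
open AlgSp Groth.Agent.Lib.Helper14.AS Groth.Agent.Lib.Helper24.SpQ1
open Groth.Agent.Lib.Helper24.DescSheaf

variable {S : Scheme.{u}} {U : Over S} {R : Sieve U} (τ : CartSysSp R) (hR : R ∈ J S U)
  {GN : Sp S} (actN sndN : GN ⟶ τ.N)
  (GQ : (Stk.sieveCat R).obj → Sp S) (Gq : ∀ a, GQ a ⟶ GN) (act snd : ∀ a, GQ a ⟶ τ.Q a)
  (hc : ∀ a, IsPullback (Gq a) (snd a) sndN (τ.q a))
  (hact : ∀ a, Gq a ≫ actN = act a ≫ τ.q a)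
  (hsq : ∀ a, IsPullback (act a) (snd a) (τ.p a) (τ.p a))

/-- the local lift of a point of `GN` -/
noncomputable def lam {T : Over S} (x : (yon S).obj T ⟶ GN) (w : T ⟶ U)
    (hxw : (x ≫ sndN) ≫ τ.πN = (yon S).map w) (hw : R w) : (yon S).obj T ⟶ GQ (aOf w hw) :=
  (hc (aOf w hw)).lift x (τ.sec (x ≫ sndN) w hxw hw) (by rw [τ.sec_q])

lemma lam_Gq {T : Over S} (x : (yon S).obj T ⟶ GN) (w : T ⟶ U)
    (hxw : (x ≫ sndN) ≫ τ.πN = (yon S).map w) (hw : R w) :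
    lam τ sndN GQ Gq snd hc x w hxw hw ≫ Gq (aOf w hw) = x := IsPullback.lift_fst _ _ _ _

lemma lam_snd {T : Over S} (x : (yon S).obj T ⟶ GN) (w : T ⟶ U)
    (hxw : (x ≫ sndN) ≫ τ.πN = (yon S).map w) (hw : R w) :
    lam τ sndN GQ Gq snd hc x w hxw hw ≫ snd (aOf w hw) = τ.sec (x ≫ sndN) w hxw hw :=
  IsPullback.lift_snd _ _ _ _

include hact hsq in
lemma lam_act {T : Over S} (x : (yon S).obj T ⟶ GN) (w : T ⟶ U)
    (hxw : (x ≫ sndN) ≫ τ.πN = (yon S).map w) (hw : R w) :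
    (lam τ sndN GQ Gq snd hc x w hxw hw ≫ act (aOf w hw)) ≫ τ.q (aOf w hw) = x ≫ actN ∧
    (lam τ sndN GQ Gq snd hc x w hxw hw ≫ act (aOf w hw)) ≫ τ.p (aOf w hw) = 𝟙 _ := by
  constructor
  · rw [Category.assoc, ← hact, ← Category.assoc, lam_Gq]
  · rw [Category.assoc, (hsq _).w, ← Category.assoc, lam_snd, τ.sec_p]

include hR hc hact hsq in
lemma w_act : actN ≫ τ.πN = sndN ≫ τ.πN := by
  apply hom_ext_yon
  intro T x
  let w : T ⟶ U := (yon S).preimage ((x ≫ sndN) ≫ τ.πN)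
  have hxw : (x ≫ sndN) ≫ τ.πN = (yon S).map w := ((yon S).map_preimage _).symm
  apply hom_ext_sieve _ (Sieve.pullback w R) ((J S).pullback_stable w hR)
  intro T' k hk
  have hk' : R (k ≫ w) := hk
  have hxw' : (((yon S).map k ≫ x) ≫ sndN) ≫ τ.πN = (yon S).map (k ≫ w) := by
    rw [Functor.map_comp, ← hxw]; simp only [Category.assoc]
  obtain ⟨e1, e2⟩ := lam_act τ actN sndN GQ Gq act snd hc hact hsq ((yon S).map k ≫ x) (k ≫ w)
    hxw' hk'
  have e3 := lam_Gq τ sndN GQ Gq snd hc ((yon S).map k ≫ x) (k ≫ w) hxw' hk'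
  have e4 := lam_snd τ sndN GQ Gq snd hc ((yon S).map k ≫ x) (k ≫ w) hxw' hk'
  set l := lam τ sndN GQ Gq snd hc ((yon S).map k ≫ x) (k ≫ w) hxw' hk' with hl
  calc (yon S).map k ≫ x ≫ actN ≫ τ.πN
      = (((yon S).map k ≫ x) ≫ actN) ≫ τ.πN := by simp only [Category.assoc]
    _ = ((l ≫ act _) ≫ τ.q _) ≫ τ.πN := by rw [e1]
    _ = (l ≫ act _) ≫ τ.p _ ≫ (yon S).map (aOf (k ≫ w) hk').obj.hom := by
        rw [Category.assoc, (τ.cart _).w]
    _ = (l ≫ snd _) ≫ τ.p _ ≫ (yon S).map (aOf (k ≫ w) hk').obj.hom := by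
        rw [← Category.assoc, e2, e4, ← Category.assoc (τ.sec _ _ _ _), τ.sec_p]
    _ = ((l ≫ snd _) ≫ τ.q _) ≫ τ.πN := by rw [Category.assoc (l ≫ snd _), (τ.cart _).w]
    _ = (yon S).map k ≫ x ≫ sndN ≫ τ.πN := by
        rw [e4, τ.sec_q]; simp only [Category.assoc]

include hR hc hact hsq in
lemma unique_lift {T : Over S} (l l' : (yon S).obj T ⟶ GN) (h1 : l ≫ actN = l' ≫ actN)
    (h2 : l ≫ sndN = l' ≫ sndN) : l = l' := by
  let w : T ⟶ U := (yon S).preimage ((l ≫ sndN) ≫ τ.πN)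
  have hxw : (l ≫ sndN) ≫ τ.πN = (yon S).map w := ((yon S).map_preimage _).symm
  apply hom_ext_sieve _ (Sieve.pullback w R) ((J S).pullback_stable w hR)
  intro T' k hk
  have hk' : R (k ≫ w) := hk
  have hxw1 : (((yon S).map k ≫ l) ≫ sndN) ≫ τ.πN = (yon S).map (k ≫ w) := by
    rw [Functor.map_comp, ← hxw]; simp only [Category.assoc]
  have hxw2 : (((yon S).map k ≫ l') ≫ sndN) ≫ τ.πN = (yon S).map (k ≫ w) := by
    rw [Functor.map_comp, ← hxw, h2]; simp only [Category.assoc]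
  obtain ⟨a1, a2⟩ := lam_act τ actN sndN GQ Gq act snd hc hact hsq ((yon S).map k ≫ l) (k ≫ w)
    hxw1 hk'
  obtain ⟨b1, b2⟩ := lam_act τ actN sndN GQ Gq act snd hc hact hsq ((yon S).map k ≫ l') (k ≫ w)
    hxw2 hk'
  have c1 := lam_snd τ sndN GQ Gq snd hc ((yon S).map k ≫ l) (k ≫ w) hxw1 hk'
  have c2 := lam_snd τ sndN GQ Gq snd hc ((yon S).map k ≫ l') (k ≫ w) hxw2 hk'
  have hsec : τ.sec (((yon S).map k ≫ l) ≫ sndN) (k ≫ w) hxw1 hk' =
      τ.sec (((yon S).map k ≫ l') ≫ sndN) (k ≫ w) hxw2 hk' := by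
    congr 1
    rw [Category.assoc, h2, Category.assoc]
  have e : lam τ sndN GQ Gq snd hc ((yon S).map k ≫ l) (k ≫ w) hxw1 hk' =
      lam τ sndN GQ Gq snd hc ((yon S).map k ≫ l') (k ≫ w) hxw2 hk' := by
    apply (hsq _).hom_ext
    · apply (τ.cart _).hom_ext
      · rw [a1, b1, Category.assoc, h1, Category.assoc]
      · rw [a2, b2]
    · rw [c1, c2, hsec]
  rw [← lam_Gq τ sndN GQ Gq snd hc ((yon S).map k ≫ l) (k ≫ w) hxw1 hk', e, lam_Gq]

include hc hact hsq in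
lemma exists_local {T : Over S} (n₁ n₂ : (yon S).obj T ⟶ τ.N) (w : T ⟶ U)
    (h1 : n₁ ≫ τ.πN = (yon S).map w) (h2 : n₂ ≫ τ.πN = (yon S).map w) (hw : R w) :
    ∃ l : (yon S).obj T ⟶ GN, l ≫ actN = n₁ ∧ l ≫ sndN = n₂ := by
  let a := aOf w hw
  let ν₁ := τ.sec n₁ w h1 hw
  let ν₂ := τ.sec n₂ w h2 hw
  let l₀ : (yon S).obj T ⟶ GQ a := (hsq a).lift ν₁ ν₂ (by rw [τ.sec_p, τ.sec_p])
  have hl1 : l₀ ≫ act a = ν₁ := (hsq a).lift_fst _ _ _
  have hl2 : l₀ ≫ snd a = ν₂ := (hsq a).lift_snd _ _ _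
  refine ⟨l₀ ≫ Gq a, ?_, ?_⟩
  · rw [Category.assoc, hact, ← Category.assoc, hl1, τ.sec_q]
  · rw [Category.assoc, (hc a).w, ← Category.assoc, hl2, τ.sec_q]

include hR hc hact hsq in
lemma exists_global {T : Over S} (n₁ n₂ : (yon S).obj T ⟶ τ.N)
    (h : n₁ ≫ τ.πN = n₂ ≫ τ.πN) :
    ∃ l : (yon S).obj T ⟶ GN, l ≫ actN = n₁ ∧ l ≫ sndN = n₂ := by
  let w : T ⟶ U := (yon S).preimage (n₂ ≫ τ.πN)
  have h2 : n₂ ≫ τ.πN = (yon S).map w := ((yon S).map_preimage _).symm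
  have h1 : n₁ ≫ τ.πN = (yon S).map w := h.trans h2
  have hloc : ∀ ⦃T' : Over S⦄ (k : T' ⟶ T), (Sieve.pullback w R).arrows k →
      ∃ l : (yon S).obj T' ⟶ GN, l ≫ actN = (yon S).map k ≫ n₁ ∧
        l ≫ sndN = (yon S).map k ≫ n₂ := by
    intro T' k hk
    exact exists_local τ actN sndN GQ Gq act snd hc hact hsq _ _ (k ≫ w)
      (τ.comp_πN k n₁ w h1) (τ.comp_πN k n₂ w h2) hk
  choose x hx1 hx2 using hloc
  obtain ⟨l, hl, -⟩ := exists_unique_glue_yon GN (Sieve.pullback w R)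
    ((J S).pullback_stable w hR) x (by
      intro T' T'' k hk j
      apply unique_lift τ hR actN sndN GQ Gq act snd hc hact hsq _ _ ?_ ?_
      · rw [Category.assoc, hx1, hx1, Functor.map_comp, Category.assoc]
      · rw [Category.assoc, hx2, hx2, Functor.map_comp, Category.assoc])
  refine ⟨l, ?_, ?_⟩
  · apply hom_ext_sieve _ (Sieve.pullback w R) ((J S).pullback_stable w hR)
    intro T' k hk
    rw [← Category.assoc, hl k hk, hx1]
  · apply hom_ext_sieve _ (Sieve.pullback w R) ((J S).pullback_stable w hR)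
    intro T' k hk
    rw [← Category.assoc, hl k hk, hx2]

include hR hc hact hsq in
/-- **the glued action on the vertex is a pseudo-torsor** -/
theorem isPullback_act : IsPullback actN sndN τ.πN τ.πN := by
  rw [isPullback_iff_yon]
  refine ⟨w_act τ hR actN sndN GQ Gq act snd hc hact hsq, fun T n₁ n₂ h => ?_⟩
  obtain ⟨l, hl1, hl2⟩ := exists_global τ hR actN sndN GQ Gq act snd hc hact hsq n₁ n₂ h
  refine ⟨l, ⟨hl1, hl2⟩, fun l' hl' => ?_⟩
  exact unique_lift τ hR actN sndN GQ Gq act snd hc hact hsq l' l (by rw [hl'.1, hl1])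
    (by rw [hl'.2, hl2])

end Groth.Agent.Lib.Helper24.SpQ6
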