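import Mathlib
import Groth.Agent.Lib.Helper24.SpQ6
import Groth.Agent.Lib.Helper24.QuotSt15
set_option autoImplicit false
set_option linter.unusedSectionVars false
set_option linter.unusedVariables false
set_option linter.unusedSimpArgs false
set_option backward.isDefEq.respectTransparency false
set_option backward.isDefEq.respectTransparency.types false
universe u
open CategoryTheory CategoryTheory.Limits AlgebraicGeometry Opposite
open MonoidalCategory CartesianMonoidalCategory MonObj GrpObj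

/-! The glued object of the quotient stack with sheaf torsors over a covering sieve. -/

namespace Groth.Agent.Lib.Helper24.SpQ7
open AlgSp AlgSt Groth.Agent.Lib.Helper14.AS Groth.Agent.Lib.Helper24.SpQ1
open Groth.Agent.Lib.Helper24.SpQ2 Groth.Agent.Lib.Helper24.SpQ5
open Groth.Agent.Lib.Helper24.StkCone Groth.Agent.Lib.Helper24.DescSheaf

variable {S : Scheme.{u}} {U : Over S} {K : Precoverage Scheme.{u}} {B : Sp S} {G : Over B}
  [GrpObj G] {X : Over B} {aX : GAction G X} {R : Sieve U} (hR : R ∈ J S U)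
  (Ψ : Stk.sieveCat R ⥤ᵇ SpQuotSt K G aX)

/-- the system of total sheaves of a section of `[X/G]` over a sieve -/
noncomputable def preOf : PreSysSp R where
  Q a := (Ψ.toFunctor.obj a).P.left
  p a := (Ψ.toFunctor.obj a).π.left ≫ (yon S).map (eqToHom (Ψ.w_obj a))
  t m := (Ψ.toFunctor.map m).top.left
  cart {a b} m := isPullback_yon_eqToHom ((Ψ.toFunctor.map m).cart.map (Over.forget B))
    (Ψ.w_obj a) (Ψ.w_obj b) m.hom.left (map_base m)
  t_id a := by rw [Ψ.toFunctor.map_id]; rfl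
  t_comp m n := by rw [Ψ.toFunctor.map_comp]; rfl

/-- the vertex of the system of total sheaves -/
noncomputable def vx : CartSysSp R := Groth.Agent.Lib.Helper24.SpQ3.vertex (preOf Ψ)

include hR in
lemma exists_β : ∃! β : (vx Ψ).N ⟶ B, ∀ a, (vx Ψ).q a ≫ β = (Ψ.toFunctor.obj a).P.hom :=
  (vx Ψ).exists_unique_glue hR (fun a => (Ψ.toFunctor.obj a).P.hom)
    (fun m => Over.w (Ψ.toFunctor.map m).top)

/-- the structure map of the glued sheaf to `B` -/
noncomputable def βN : (vx Ψ).N ⟶ B := (exists_β hR Ψ).exists.choose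

lemma q_βN (a : (Stk.sieveCat R).obj) :
    (vx Ψ).q a ≫ βN hR Ψ = (Ψ.toFunctor.obj a).P.hom :=
  (exists_β hR Ψ).exists.choose_spec a

/-- the glued sheaf over `B` -/
noncomputable def NB : Over B := Over.mk (βN hR Ψ)

/-- the maps to the glued sheaf, over `B` -/
noncomputable def qB (a : (Stk.sieveCat R).obj) : (Ψ.toFunctor.obj a).P ⟶ NB hR Ψ :=
  Over.homMk ((vx Ψ).q a) (q_βN hR Ψ a)

/-- the cartesian system over `B` of the glued sheaf -/
noncomputable def τ : CartSysB B R where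
  N := NB hR Ψ
  πN := (vx Ψ).πN
  Q a := (Ψ.toFunctor.obj a).P
  q := qB hR Ψ
  p := (preOf Ψ).p
  cart := (vx Ψ).cart
  t m := (Ψ.toFunctor.map m).top
  t_q m := by
    apply Over.OverMorphism.ext
    exact (vx Ψ).t_q m
  t_p := (vx Ψ).t_p

/-- the local pieces of the section of `B` over `U` -/
noncomputable def bLoc ⦃W' : Over S⦄ (k : W' ⟶ U) (hk : R k) : (yon S).obj W' ⟶ B :=
  (yon S).map (eqToHom (Ψ.w_obj (aOf k hk)).symm) ≫ (Ψ.toFunctor.obj (aOf k hk)).b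

lemma bLoc_compat ⦃W' W'' : Over S⦄ (k : W' ⟶ U) (hk : R k) (l : W'' ⟶ W') :
    (yon S).map l ≫ bLoc Ψ k hk = bLoc Ψ (l ≫ k) (R.downward_closed hk l) := by
  unfold bLoc
  have e := (Ψ.toFunctor.map (mOf l k hk)).wb
  rw [map_base (mOf l k hk)] at e
  rw [← e, ← Category.assoc, ← Category.assoc, ← Functor.map_comp, ← Functor.map_comp]
  congr 2
  change _ = _ ≫ _ ≫ l ≫ _
  simp

include hR in
lemma exists_bU : ∃! b : (yon S).obj U ⟶ B, ∀ ⦃W' : Over S⦄ (k : W' ⟶ U) (hk : R k),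
    (yon S).map k ≫ b = bLoc Ψ k hk :=
  exists_unique_glue_yon B R hR (fun W' k hk => bLoc Ψ k hk)
    (fun W' W'' k hk l => bLoc_compat Ψ k hk l)

/-- the glued section of `B` over `U` -/
noncomputable def bU : (yon S).obj U ⟶ B := (exists_bU hR Ψ).exists.choose

lemma bU_spec (a : (Stk.sieveCat R).obj) :
    (yon S).map a.obj.hom ≫ bU hR Ψ =
      (yon S).map (eqToHom (Ψ.w_obj a).symm) ≫ (Ψ.toFunctor.obj a).b :=
  (exists_bU hR Ψ).exists.choose_spec a.obj.hom a.property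

lemma πN_bU : (vx Ψ).πN ≫ bU hR Ψ = βN hR Ψ := by
  apply (vx Ψ).hom_ext hR
  intro a
  rw [← Category.assoc, ((vx Ψ).cart a).w, Category.assoc, bU_spec, q_βN]
  change ((Ψ.toFunctor.obj a).π.left ≫ _) ≫ _ ≫ _ = _
  rw [Category.assoc, ← Category.assoc ((yon S).map _), ← Functor.map_comp, eqToHom_trans,
    eqToHom_refl, CategoryTheory.Functor.map_id, Category.id_comp]
  exact Over.w (Ψ.toFunctor.obj a).π

/-- the structure morphism of the glued torsor -/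
noncomputable def πB : NB hR Ψ ⟶ Over.mk (bU hR Ψ) := Over.homMk (vx Ψ).πN (πN_bU hR Ψ)

lemma exists_φ : ∃! φN : NB hR Ψ ⟶ X, ∀ a, qB hR Ψ a ≫ φN = (Ψ.toFunctor.obj a).φ :=
  (τ hR Ψ).exists_unique_glue hR (fun a => (Ψ.toFunctor.obj a).φ)
    (fun m => (Ψ.toFunctor.map m).wφ)

/-- the glued map to `X` -/
noncomputable def φN : NB hR Ψ ⟶ X := (exists_φ hR Ψ).exists.choose

lemma q_φN (a : (Stk.sieveCat R).obj) : qB hR Ψ a ≫ φN hR Ψ = (Ψ.toFunctor.obj a).φ :=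
  (exists_φ hR Ψ).exists.choose_spec a

lemma exists_act : ∃! actN : G ⊗ NB hR Ψ ⟶ NB hR Ψ,
    ∀ a, (G ◁ qB hR Ψ a) ≫ actN = (Ψ.toFunctor.obj a).act.act ≫ qB hR Ψ a := by
  refine ((τ hR Ψ).whisker G).exists_unique_glue hR
    (fun a => (Ψ.toFunctor.obj a).act.act ≫ qB hR Ψ a) (fun {a b} m => ?_)
  change (G ◁ (Ψ.toFunctor.map m).top) ≫ (Ψ.toFunctor.obj b).act.act ≫ qB hR Ψ b =
    (Ψ.toFunctor.obj a).act.act ≫ qB hR Ψ a
  rw [← Category.assoc, ← (Ψ.toFunctor.map m).eqv, Category.assoc]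
  congr 1
  exact (τ hR Ψ).t_q m

/-- the glued action -/
noncomputable def actN : G ⊗ NB hR Ψ ⟶ NB hR Ψ := (exists_act hR Ψ).exists.choose

lemma q_actN (a : (Stk.sieveCat R).obj) :
    (G ◁ qB hR Ψ a) ≫ actN hR Ψ = (Ψ.toFunctor.obj a).act.act ≫ qB hR Ψ a :=
  (exists_act hR Ψ).exists.choose_spec a

lemma one_actN : (η[G] ▷ NB hR Ψ) ≫ actN hR Ψ = (λ_ (NB hR Ψ)).hom := by
  apply ((τ hR Ψ).whisker (𝟙_ (Over B))).hom_ext hR
  intro a
  change (𝟙_ (Over B) ◁ qB hR Ψ a) ≫ (η[G] ▷ NB hR Ψ) ≫ actN hR Ψ =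
    (𝟙_ (Over B) ◁ qB hR Ψ a) ≫ (λ_ (NB hR Ψ)).hom
  rw [← Category.assoc, whisker_exchange, Category.assoc, q_actN, ← Category.assoc,
    (Ψ.toFunctor.obj a).act.one_act, leftUnitor_naturality]

lemma mul_actN : (μ[G] ▷ NB hR Ψ) ≫ actN hR Ψ =
    (α_ G G (NB hR Ψ)).hom ≫ (G ◁ actN hR Ψ) ≫ actN hR Ψ := by
  apply ((τ hR Ψ).whisker (G ⊗ G)).hom_ext hR
  intro a
  change ((G ⊗ G) ◁ qB hR Ψ a) ≫ (μ[G] ▷ NB hR Ψ) ≫ actN hR Ψ =
    ((G ⊗ G) ◁ qB hR Ψ a) ≫ (α_ G G (NB hR Ψ)).hom ≫ (G ◁ actN hR Ψ) ≫ actN hR Ψ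
  rw [← Category.assoc, whisker_exchange, Category.assoc, q_actN, ← Category.assoc,
    (Ψ.toFunctor.obj a).act.mul_act, ← Category.assoc ((G ⊗ G) ◁ qB hR Ψ a),
    associator_naturality_right]
  simp only [Category.assoc]
  congr 1
  rw [← MonoidalCategory.whiskerLeft_comp_assoc, q_actN, MonoidalCategory.whiskerLeft_comp,
    Category.assoc, q_actN]

lemma eqvN : actN hR Ψ ≫ φN hR Ψ = (G ◁ φN hR Ψ) ≫ aX.act := by
  apply ((τ hR Ψ).whisker G).hom_ext hR
  intro a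
  change (G ◁ qB hR Ψ a) ≫ actN hR Ψ ≫ φN hR Ψ =
    (G ◁ qB hR Ψ a) ≫ (G ◁ φN hR Ψ) ≫ aX.act
  rw [← Category.assoc, q_actN, Category.assoc, q_φN, (Ψ.toFunctor.obj a).eqv,
    ← MonoidalCategory.whiskerLeft_comp_assoc, q_φN]

lemma isPullback_comp_yon_eqToHom {P Y : Sp S} {Z Z' : Over S} {t l : P ⟶ Y}
    {r : Y ⟶ (yon S).obj Z} (h : IsPullback t l r r) (hZ : Z = Z') :
    IsPullback t l (r ≫ (yon S).map (eqToHom hZ)) (r ≫ (yon S).map (eqToHom hZ)) := by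
  subst hZ
  simpa using h

lemma cartN_left : IsPullback (actN hR Ψ).left (snd G (NB hR Ψ)).left (vx Ψ).πN (vx Ψ).πN :=
  Groth.Agent.Lib.Helper24.SpQ6.isPullback_act (vx Ψ) hR (actN hR Ψ).left
    (snd G (NB hR Ψ)).left (fun a => (G ⊗ (Ψ.toFunctor.obj a).P).left)
    (fun a => (G ◁ qB hR Ψ a).left) (fun a => (Ψ.toFunctor.obj a).act.act.left)
    (fun a => (snd G (Ψ.toFunctor.obj a).P).left)
    (fun a => (AlgSt.isPullback_whiskerLeft' (G := G) (qB hR Ψ a)).map (Over.forget B))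
    (fun a => congrArg (fun k => k.left) (q_actN hR Ψ a))
    (fun a => isPullback_comp_yon_eqToHom ((Ψ.toFunctor.obj a).cart.map (Over.forget B))
      (Ψ.w_obj a))

lemma cartN : IsPullback (actN hR Ψ) (snd G (NB hR Ψ)) (πB hR Ψ) (πB hR Ψ) := by
  have h := cartN_left hR Ψ
  refine IsPullback.of_map (Over.forget B) ?_ h
  apply Over.OverMorphism.ext
  exact h.w

lemma hasSecLoc_of_family [K.IsStableUnderComposition] {T : Over S} {P : Sp S}
    (π : P ⟶ (yon S).obj T) {I : Type u} {V : I → Scheme.{u}} (w : ∀ i, V i ⟶ T.left)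
    (hw : Presieve.ofArrows V w ∈ K T.left)
    (h : ∀ i, ∃ Ri ∈ K (V i), ∀ ⦃W : Scheme.{u}⦄ (g : W ⟶ V i), Ri g →
      ∃ s : (yon S).obj (Over.mk ((g ≫ w i) ≫ T.hom)) ⟶ P,
        s ≫ π = (yon S).map (Over.homMk (g ≫ w i))) : HasSecLoc K π := by
  choose Ri hRi hsec using h
  have hex := fun i => (Ri i).exists_eq_ofArrows
  choose Jx W g hg using hex
  refine ⟨Presieve.ofArrows (fun p : Σ i, Jx i => W p.1 p.2) (fun p => g p.1 p.2 ≫ w p.1),
    Precoverage.comp_mem_coverings w hw g (fun i => by rw [← hg i]; exact hRi i), ?_⟩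
  rintro S' f ⟨p⟩
  exact hsec p.1 (g p.1 p.2) (by rw [hg p.1]; exact ⟨p.2⟩)

lemma loc_of_base_eq (A : SpQuotObj K G aX) {T : Over S} (hA : A.base = T) :
    ∃ Ri ∈ K T.left, ∀ ⦃W : Scheme.{u}⦄ (g : W ⟶ T.left), Ri g →
      ∃ s : (yon S).obj (Over.mk (g ≫ T.hom)) ⟶ A.P.left,
        s ≫ A.π.left ≫ (yon S).map (eqToHom hA) = (yon S).map (Over.homMk g) := by
  subst hA
  obtain ⟨Ri, hRi, hsec⟩ := A.loc
  refine ⟨Ri, hRi, fun W g hg => ?_⟩
  obtain ⟨s, hs⟩ := hsec g hg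
  exact ⟨s, by simpa using hs⟩

section Glue
open Groth.Agent.Lib.Helper24.QuotSt11
variable [K.IsStableUnderComposition] {I : Type u} {V : I → Over S} (f : ∀ i, V i ⟶ U)
  (hf : ∀ i, R (f i))
  (hu : Presieve.ofArrows (fun i => (V i).left) (fun i => (f i).left) ∈ K U.left)

include hf hu in
lemma locN : HasSecLoc K (πB hR Ψ).left := by
  refine hasSecLoc_of_family _ (fun i => (f i).left) hu (fun i => ?_)
  obtain ⟨Ri, hRi, hsec⟩ := loc_of_base_eq (Ψ.toFunctor.obj (ai f hf i)) (Ψ.w_obj (ai f hf i))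
  refine ⟨Ri, hRi, fun W g hg => ?_⟩
  obtain ⟨s, hs⟩ := hsec g hg
  let e0 : Over.mk ((g ≫ (f i).left) ≫ U.hom) ⟶ Over.mk (g ≫ (V i).hom) :=
    Over.homMk (𝟙 W) (by
      change 𝟙 W ≫ g ≫ (V i).hom = (g ≫ (f i).left) ≫ U.hom
      rw [Category.id_comp, Category.assoc, Over.w])
  refine ⟨(yon S).map e0 ≫ s ≫ (vx Ψ).q (ai f hf i), ?_⟩
  have e1 : (vx Ψ).q (ai f hf i) ≫ (vx Ψ).πN = (preOf Ψ).p (ai f hf i) ≫ (yon S).map (f i) :=
    ((vx Ψ).cart (ai f hf i)).w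
  have e2 : s ≫ (preOf Ψ).p (ai f hf i) = (yon S).map (Over.homMk g) := hs
  calc ((yon S).map e0 ≫ s ≫ (vx Ψ).q (ai f hf i)) ≫ (vx Ψ).πN
      = (yon S).map e0 ≫ (s ≫ (preOf Ψ).p (ai f hf i)) ≫ (yon S).map (f i) := by
        simp only [Category.assoc, e1]
    _ = (yon S).map e0 ≫ (yon S).map (Over.homMk g) ≫ (yon S).map (f i) := by rw [e2]
    _ = _ := by
        rw [← Functor.map_comp, ← Functor.map_comp]
        congr 1

/-- **the glued object of the quotient stack with sheaf torsors** -/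
noncomputable def glueObj : SpQuotObj K G aX where
  base := U
  b := bU hR Ψ
  P := NB hR Ψ
  act :=
    { act := actN hR Ψ
      one_act := one_actN hR Ψ
      mul_act := mul_actN hR Ψ }
  π := πB hR Ψ
  cart := cartN hR Ψ
  loc := locN hR Ψ f hf hu
  φ := φN hR Ψ
  eqv := eqvN hR Ψ

lemma isPullback_of_comp_yon_eqToHom {P Y : Sp S} {X X' Z : Over S} {t : P ⟶ Y}
    {l : P ⟶ (yon S).obj X} {r : Y ⟶ (yon S).obj Z} (hX : X = X') {b : X' ⟶ Z}
    (h : IsPullback t (l ≫ (yon S).map (eqToHom hX)) r ((yon S).map b)) :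
    IsPullback t l r ((yon S).map (eqToHom hX ≫ b)) := by
  subst hX
  simpa using h

lemma θ_wb (a : (Stk.sieveCat R).obj) :
    (yon S).map (eqToHom (Ψ.w_obj a) ≫ a.obj.hom) ≫ bU hR Ψ = (Ψ.toFunctor.obj a).b := by
  rw [Functor.map_comp, Category.assoc, bU_spec, ← Category.assoc, ← Functor.map_comp,
    eqToHom_trans, eqToHom_refl, CategoryTheory.Functor.map_id, Category.id_comp]

/-- the cone over the section with vertex the glued object -/
noncomputable def glueCone : Cone R Ψ (glueObj hR Ψ f hf hu) where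
  θ a :=
    { base := eqToHom (Ψ.w_obj a) ≫ a.obj.hom
      wb := θ_wb hR Ψ a
      top := qB hR Ψ a
      eqv := (q_actN hR Ψ a).symm
      cart := by
        refine IsPullback.of_map (Over.forget B) ?_
          (isPullback_of_comp_yon_eqToHom (Ψ.w_obj a) ((vx Ψ).cart a))
        apply Over.OverMorphism.ext
        exact (isPullback_of_comp_yon_eqToHom (Ψ.w_obj a) ((vx Ψ).cart a)).w
      wφ := q_φN hR Ψ a }
  lift a := by
    apply IsHomLift.of_fac' (SpQuotSt K G aX).p _ _ (Ψ.w_obj a) rfl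
    change eqToHom (Ψ.w_obj a) ≫ a.obj.hom = eqToHom (Ψ.w_obj a) ≫ a.obj.hom ≫ eqToHom rfl
    simp
  nat {a b} m := by
    refine SpQuotObj.hom_ext ?_ ((τ hR Ψ).t_q m)
    change (Ψ.toFunctor.map m).base ≫ eqToHom (Ψ.w_obj b) ≫ b.obj.hom =
      eqToHom (Ψ.w_obj a) ≫ a.obj.hom
    rw [map_base m]
    simp

end Glue

end Groth.Agent.Lib.Helper24.SpQ7
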