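import Mathlib
import Groth.Agent.Lib.Helper24.SpQ7
import Groth.Agent.Lib.Helper24.QuotSt17
set_option autoImplicit false
set_option linter.unusedSectionVars false
set_option linter.unusedVariables false
set_option linter.unusedSimpArgs false
set_option backward.isDefEq.respectTransparency false
set_option backward.isDefEq.respectTransparency.types false
universe u
open CategoryTheory CategoryTheory.Limits AlgebraicGeometry Opposite
open MonoidalCategory CartesianMonoidalCategory MonObj GrpObj

/-! The quotient category `[X/G]` with sheaf torsors is a stack for the fppf topology. -/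

namespace Groth.Agent.Lib.Helper24.SpQ8
open AlgSp AlgSt Groth.Agent.Lib.Helper24.StkCone Groth.Agent.Lib.Helper24.StkRefine
open Groth.Agent.Lib.Helper24.QuotSt11 Groth.Agent.Lib.Helper24.SpQ7

variable {S : Scheme.{u}} {B : Sp S} {G : Over B} [GrpObj G] {X : Over B}

/-- **the quotient category `[X/G]` with fppf sheaf torsors is a stack** -/
theorem isStack_spQuotSt (aX : GAction G X) :
    Stk.IsStack (AlgSp.J S) (SpQuotSt Scheme.fppfPrecoverage G aX) := by
  have h𝒳 : FibCat.IsFibGrpd (SpQuotSt Scheme.fppfPrecoverage G aX).p :=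
    Groth.Agent.Lib.Helper24.SpQ4.isFibGrpd
  refine ⟨h𝒳, fun U R hR => ?_⟩
  obtain ⟨I, V, f, hf, hu⟩ :=
    Groth.Agent.Lib.Helper24.QuotSt16.exists_small_family Scheme.fppfPrecoverage R hR
  let R₀ : Sieve U := Sieve.generate (Presieve.ofArrows V f)
  have hle : R₀ ≤ R := by
    rw [Sieve.generate_le_iff]
    rintro _ _ ⟨i⟩
    exact hf i
  have hJ : AlgSp.J S = ((Scheme.fppfPrecoverage).comap (Over.forget S)).toGrothendieck :=
    over_toGrothendieck_eq_toGrothendieck_comap_forget _ S
  have hR₀ : R₀ ∈ AlgSp.J S U := by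
    rw [hJ]
    refine Precoverage.generate_mem_toGrothendieck ?_
    rw [Precoverage.mem_comap_iff, Presieve.map_ofArrows]
    exact hu
  refine isStackFor_of_le h𝒳 hle ?_ (fun V' g hg => isPrestackFor_of_cones h𝒳
    (fun Ψ A A' c c' hA hA' => Groth.Agent.Lib.Helper24.SpQ5.cone_desc
      ((AlgSp.J S).pullback_stable g hR₀) c c' hA hA'))
  refine isStackFor_of_cones h𝒳 (fun Ψ A A' c c' hA hA' =>
    Groth.Agent.Lib.Helper24.SpQ5.cone_desc hR₀ c c' hA hA') (fun Ψ => ?_)
  have hf₀ : ∀ i, R₀ (f i) := fun i => Sieve.ofArrows_mk V f i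
  exact ⟨glueObj hR₀ Ψ f hf₀ hu, rfl, ⟨glueCone hR₀ Ψ f hf₀ hu⟩⟩

end Groth.Agent.Lib.Helper24.SpQ8
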