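import Mathlib
import Groth.Agent.Lib.Helper24.SpQ8
import Groth.Agent.Lib.Helper24.Boot9
import Groth.Agent.Lib.Helper24.StkSub
import Groth.Agent.Lib.Helper24.AlgStLocQ6
set_option autoImplicit false
set_option linter.unusedSectionVars false
set_option linter.unusedVariables false
set_option linter.unusedSimpArgs false
set_option backward.isDefEq.respectTransparency false
set_option backward.isDefEq.respectTransparency.types false
universe u
open CategoryTheory CategoryTheory.Limits AlgebraicGeometry Opposite

/-! A sheaf over a scheme whose base changes along an fppf covering family are algebraic spaces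
is an algebraic space. -/

namespace Groth.Agent.Lib.Helper24.SpQ9
open AlgSp Groth.Agent.Lib.Helper14.AS

variable {S : Scheme.{u}}

/-- **algebraic spaces glue fppf locally on the base scheme** -/
theorem isAlgSpace_of_local {F : Sp S} {T : Over S} (π : F ⟶ (yon S).obj T) {I : Type u}
    (V : I → Over S) (f : ∀ i, V i ⟶ T)
    (hf : ∀ i, Flat (f i).left ∧ LocallyOfFinitePresentation (f i).left)
    (hsurj : ∀ t : T.left, ∃ i, t ∈ Set.range (f i).left)
    (X : I → Sp S) (hX : ∀ i, IsAlgSpace (X i)) (p : ∀ i, X i ⟶ F)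
    (πi : ∀ i, X i ⟶ (yon S).obj (V i))
    (sq : ∀ i, IsPullback (p i) (πi i) π ((yon S).map (f i))) : IsAlgSpace F := by
  -- the comparison with the scheme-level fibre product
  have key : ∀ (i : I) ⦃U' : Over S⦄ (ξ : (yon S).obj U' ⟶ F) (τ' : U' ⟶ T)
      (hτ : (yon S).map τ' = ξ ≫ π) ⦃F' : Sp S⦄ (fst : F' ⟶ X i)
      (snd : F' ⟶ (yon S).obj U'), IsPullback fst snd (p i) ξ →
      ∃ (e : F' ≅ (yon S).obj (pullback (f i) τ')),
        e.hom ≫ (yon S).map (pullback.snd (f i) τ') = snd := by
    intro i U' ξ τ' hτ F' fst snd h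
    have big : IsPullback (fst ≫ πi i) snd ((yon S).map (f i)) ((yon S).map τ') := by
      rw [hτ]
      exact h.paste_horiz (sq i).flip
    have sqW := (IsPullback.of_hasPullback (f i) τ').map (yon S)
    exact ⟨big.isoIsPullback _ _ sqW, IsPullback.isoIsPullback_hom_snd _ _ big sqW⟩
  refine Groth.Agent.Lib.Helper24.Boot9.isAlgSpace_of_fppf_family X p hX ?_ ?_
  · intro i U' ξ F' fst snd h
    let τ' : U' ⟶ T := (yon S).preimage (ξ ≫ π)
    have hτ : (yon S).map τ' = ξ ≫ π := (yon S).map_preimage _
    obtain ⟨e, he⟩ := key i ξ τ' hτ fst snd h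
    have sqL := (IsPullback.of_hasPullback (f i) τ').map (Over.forget S)
    have hfl : Flat (pullback.snd (f i) τ').left :=
      MorphismProperty.of_isPullback (P := @Flat) sqL (hf i).1
    have hlfp : LocallyOfFinitePresentation (pullback.snd (f i) τ').left :=
      MorphismProperty.of_isPullback (P := @LocallyOfFinitePresentation) sqL (hf i).2
    refine ⟨(IsAlgSpace.yon_obj _).of_iso e.symm, ?_, ?_⟩
    · rw [← he]
      exact Groth.Agent.Lib.Helper24.Boot7.locP_iso_comp e _
        (Groth.Agent.Lib.Helper24.AlgStLocQ6.locP_yon_map_of etLocal_flat hfl)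
    · rw [← he]
      exact Groth.Agent.Lib.Helper24.Boot7.locP_iso_comp e _
        (Groth.Agent.Lib.Helper24.AlgStLocQ6.locP_yon_map_of etLocal_lfp hlfp)
  · intro U' ξ x
    obtain ⟨u', rfl⟩ := (Points.schemeHomeo U').surjective x
    let τ' : U' ⟶ T := (yon S).preimage (ξ ≫ π)
    have hτ : (yon S).map τ' = ξ ≫ π := (yon S).map_preimage _
    obtain ⟨i, v, hv⟩ := hsurj (τ'.left u')
    refine ⟨i, ?_⟩
    obtain ⟨e, he⟩ := key i ξ τ' hτ _ _ (IsPullback.of_hasPullback (p i) ξ)
    have sqL := (IsPullback.of_hasPullback (f i) τ').map (Over.forget S)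
    obtain ⟨w, hw1, hw2⟩ := Scheme.Pullback.exists_preimage_pullback v u' hv
    let w' : (pullback (f i) τ').left := sqL.isoPullback.inv w
    have hw' : (pullback.snd (f i) τ').left w' = u' := by
      have e1 : sqL.isoPullback.inv ≫ (pullback.snd (f i) τ').left = pullback.snd _ _ :=
        sqL.isoPullback_inv_snd
      have e2 : (pullback.snd (f i) τ').left w' = (pullback.snd (f i).left τ'.left) w :=
        calc (pullback.snd (f i) τ').left w'
            = (sqL.isoPullback.inv ≫ (pullback.snd (f i) τ').left) w := rfl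
          _ = _ := by rw [e1]; rfl
      exact e2.trans hw2
    refine ⟨Points.ofPt e.inv w', ?_⟩
    rw [Points.map_ofPt, ← he, Iso.inv_hom_id_assoc, Points.ofPt_eq_map_ofScheme]
    exact (Points.map_yon_map_apply _ w').trans (congrArg _ hw')

end Groth.Agent.Lib.Helper24.SpQ9
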