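import Mathlib
import Groth.Agent.Lib.Helper24.SpQ9
set_option autoImplicit false
set_option linter.unusedSectionVars false
set_option linter.unusedVariables false
set_option linter.unusedSimpArgs false
set_option backward.isDefEq.respectTransparency false
set_option backward.isDefEq.respectTransparency.types false
universe u
open CategoryTheory CategoryTheory.Limits AlgebraicGeometry Opposite
open MonoidalCategory CartesianMonoidalCategory MonObj GrpObj

/-! The torsors which are algebraic spaces form a substack of the quotient stack with sheaf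
torsors. -/

namespace Groth.Agent.Lib.Helper24.SpQ10
open AlgSp AlgSt Groth.Agent.Lib.Helper14.AS Groth.Agent.Lib.Helper24.StkSub
open Groth.Agent.Lib.Helper24.SpQ5

variable {S : Scheme.{u}} {B : Sp S} {G : Over B} [GrpObj G] {X : Over B} {aX : GAction G X}

/-- the total sheaf of a torsor is an algebraic space if it is so fppf locally on the base -/
theorem isAlgSpace_P_of_local {K : Precoverage Scheme.{u}} (A : SpQuotObj K G aX) (W : Over S)
    (hA : A.base = W) {I : Type u} (V : I → Over S) (f : ∀ i, V i ⟶ W)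
    (hf : ∀ i, Flat (f i).left ∧ LocallyOfFinitePresentation (f i).left)
    (hsurj : ∀ t : W.left, ∃ i, t ∈ Set.range (f i).left)
    (Ai : I → SpQuotObj K G aX) (φ : ∀ i, Ai i ⟶ A)
    (hφ : ∀ i, (SpQuotSt K G aX).p.IsHomLift (f i) (φ i))
    (hQ : ∀ i, IsAlgSpace (Ai i).P.left) : IsAlgSpace A.P.left := by
  subst hA
  have hV : ∀ i, (Ai i).base = V i := fun i =>
    IsHomLift.domain_eq (SpQuotSt K G aX).p (f i) (φ i)
  obtain rfl : V = fun i => (Ai i).base := funext fun i => (hV i).symm
  have hb : ∀ i, (φ i).base = f i := fun i => by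
    have := base_eq_of_lift (f i) (φ i) (hφ i) rfl rfl
    simpa using this
  refine Groth.Agent.Lib.Helper24.SpQ9.isAlgSpace_of_local A.π.left (fun i => (Ai i).base) f hf
    hsurj (fun i => (Ai i).P.left) hQ (fun i => (φ i).top.left) (fun i => (Ai i).π.left)
    (fun i => ?_)
  have h := (φ i).cart.map (Over.forget B)
  have e : (Over.forget B).map (bHom (φ i).base (φ i).wb) = (yon S).map (f i) := by
    rw [← hb i]; rfl
  rw [e] at h
  exact h

/-- isomorphic torsors have isomorphic total sheaves -/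
lemma isAlgSpace_P_of_iso {K : Precoverage Scheme.{u}} {A A' : SpQuotObj K G aX} (e : A ≅ A')
    (h : IsAlgSpace A'.P.left) : IsAlgSpace A.P.left := by
  have h1 : e.hom.top.left ≫ e.inv.top.left = 𝟙 _ := by
    rw [← Over.comp_left, ← SpQuotObj.comp_top, e.hom_inv_id]; rfl
  have h2 : e.inv.top.left ≫ e.hom.top.left = 𝟙 _ := by
    rw [← Over.comp_left, ← SpQuotObj.comp_top, e.inv_hom_id]; rfl
  exact h.of_iso ⟨e.inv.top.left, e.hom.top.left, h2, h1⟩

lemma isAlgSpace_P_of_isoQ {K : Precoverage Scheme.{u}} {A : SpQuotObj K G aX}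
    (h : IsoQ (𝒳 := SpQuotSt K G aX) (fun A => IsAlgSpace A.P.left) A) : IsAlgSpace A.P.left := by
  obtain ⟨A', e, hQ, -⟩ := h
  exact isAlgSpace_P_of_iso e hQ

/-- the source of a morphism to a torsor whose total sheaf is an algebraic space -/
lemma isAlgSpace_P_of_hom {K : Precoverage Scheme.{u}} {A A' : SpQuotObj K G aX} (φ : A' ⟶ A)
    (h : IsAlgSpace A.P.left) : IsAlgSpace A'.P.left :=
  isAlgSpace_of_isPullback (repDiag_of_isAlgSpace (IsAlgSpace.yon_obj A.base)) h
    (IsAlgSpace.yon_obj A'.base) (φ.cart.map (Over.forget B))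

/-- **torsors that are algebraic spaces form a stack** -/
theorem isStack_fullSub (aX : GAction G X) :
    Stk.IsStack (AlgSp.J S) (AlgSt.fullSub (SpQuotSt Scheme.fppfPrecoverage G aX)
      (fun A => IsAlgSpace A.P.left)) := by
  let 𝒳 := SpQuotSt Scheme.fppfPrecoverage G aX
  let Q : ObjectProperty 𝒳.obj := fun A => IsAlgSpace A.P.left
  have hst : Stk.IsStack (AlgSp.J S) 𝒳 := Groth.Agent.Lib.Helper24.SpQ8.isStack_spQuotSt aX
  change Stk.IsStack (AlgSp.J S) (sub Q)
  have h1 : ∀ ⦃y x : 𝒳.obj⦄ (_ : y ⟶ x), Q x → IsoQ Q y := fun y x φ hx =>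
    ⟨y, Iso.refl y, isAlgSpace_P_of_hom φ hx, by
      change 𝒳.p.IsHomLift (𝟙 (𝒳.p.obj y)) (𝟙 y)
      infer_instance⟩
  refine ⟨isFibGrpd_sub hst.1 h1, fun U R hR => ?_⟩
  have heq : (Stk.resSieve R 𝒳).IsEquivalence := hst.2 R hR
  have hglue : ∀ (H : FibCat.overCat U ⥤ᵇ 𝒳),
      (∀ a : (Stk.sieveCat R).obj, IsoQ Q (H.toFunctor.obj ((Stk.sieveIncl R).toFunctor.obj a))) →
      ∀ b : (FibCat.overCat U).obj, IsoQ Q (H.toFunctor.obj b) := by
    intro H hH b
    let R' : Sieve b.left := Sieve.pullback b.hom R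
    have hR' : R' ∈ AlgSp.J S b.left := (AlgSp.J S).pullback_stable b.hom hR
    obtain ⟨I, V, f, hf, hu⟩ :=
      Groth.Agent.Lib.Helper24.QuotSt16.exists_small_family Scheme.fppfPrecoverage R' hR'
    have hu' := (Scheme.ofArrows_mem_precoverage_iff
      (P := @Flat ⊓ @LocallyOfFinitePresentation)).1 hu
    let bi : I → Over U := fun i => Over.mk (f i ≫ b.hom)
    let mi : ∀ i, bi i ⟶ b := fun i => Over.homMk (f i) rfl
    let ai : I → (Stk.sieveCat R).obj := fun i => ⟨bi i, hf i⟩
    have hAi : ∀ i, IsAlgSpace (H.toFunctor.obj (bi i)).P.left := fun i =>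
      isAlgSpace_P_of_isoQ (hH (ai i))
    have hP : IsAlgSpace (H.toFunctor.obj b).P.left :=
      isAlgSpace_P_of_local (H.toFunctor.obj b) b.left (H.w_obj b) V f
        (fun i => hu'.2 i) hu'.1 (fun i => H.toFunctor.obj (bi i))
        (fun i => H.toFunctor.map (mi i))
        (fun i => Groth.Agent.Lib.Helper24.FibCatRepDiag.map_lift H _ _
          (IsHomLift.map (Over.forget U) (mi i) :)) hAi
    exact ⟨H.toFunctor.obj b, Iso.refl _, hP, by
      change 𝒳.p.IsHomLift (𝟙 (𝒳.p.obj (H.toFunctor.obj b))) (𝟙 _)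
      infer_instance⟩
  have : (Stk.restr (Stk.sieveIncl R) 𝒳).IsEquivalence := heq
  have hF := restr_sub_faithful Q (Stk.sieveIncl R)
  have hFu := restr_sub_full Q (Stk.sieveIncl R)
  have hE := restr_sub_essSurj Q (Stk.sieveIncl R) hglue
  exact { }

end Groth.Agent.Lib.Helper24.SpQ10
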