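import Mathlib
import Groth.Agent.Lib.Helper24.SpQ10
import Groth.Agent.Lib.Helper24.FibCatEquiv
set_option autoImplicit false
set_option linter.unusedSectionVars false
set_option linter.unusedVariables false
set_option linter.unusedSimpArgs false
set_option backward.isDefEq.respectTransparency false
set_option backward.isDefEq.respectTransparency.types false
universe u
open CategoryTheory CategoryTheory.Limits AlgebraicGeometry Opposite
open MonoidalCategory CartesianMonoidalCategory MonObj GrpObj

/-! Sheaf torsors under a group algebraic space are algebraic spaces. -/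

namespace Groth.Agent.Lib.Helper24.SpQ11
open AlgSp AlgSt Groth.Agent.Lib.Helper14.AS

variable {S : Scheme.{u}} {B : Sp S} {G : Over B} [GrpObj G] {X : Over B} {aX : GAction G X}

/-- a covering family of the fppf precoverage contains a small covering family -/
lemma exists_small_subfamily {T : Scheme.{u}} (R : Presieve T)
    (hR : R ∈ Scheme.fppfPrecoverage.{u} T) :
    ∃ (I : Type u) (V : I → Scheme.{u}) (f : ∀ i, V i ⟶ T), (∀ i, R (f i)) ∧
      Presieve.ofArrows V f ∈ Scheme.fppfPrecoverage.{u} T := by
  obtain ⟨E, rfl⟩ := Precoverage.mem_iff_exists_zeroHypercover.1 hR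
  let E' := Precoverage.ZeroHypercover.restrictIndexOfSmall.{u} E
  exact ⟨E'.I₀, E'.X, E'.f, fun i => ⟨Precoverage.ZeroHypercover.Small.restrictFun E i⟩, E'.mem₀⟩

/-- **the total sheaf of a torsor under a group algebraic space over an algebraic space is an
algebraic space** -/
theorem isAlgSpace_P (hB : IsAlgSpace B) (hG : IsAlgSpace G.left)
    (A : SpQuotObj Scheme.fppfPrecoverage G aX) : IsAlgSpace A.P.left := by
  obtain ⟨R, hR, hsec⟩ := A.loc
  obtain ⟨I, V, f, hfR, hcov⟩ := exists_small_subfamily R hR
  have hcov' := (Scheme.ofArrows_mem_precoverage_iff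
    (P := @Flat ⊓ @LocallyOfFinitePresentation)).1 hcov
  choose s hs using fun i => hsec (f i) (hfR i)
  let W : I → Over S := fun i => Over.mk (f i ≫ A.base.hom)
  let g : ∀ i, W i ⟶ A.base := fun i => Over.homMk (f i)
  let WB : I → Over B := fun i => Over.mk (s i ≫ A.P.hom)
  let s' : ∀ i, WB i ⟶ A.P := fun i => Over.homMk (s i) rfl
  refine Groth.Agent.Lib.Helper24.SpQ9.isAlgSpace_of_local A.π.left W g (fun i => hcov'.2 i)
    hcov'.1 (fun i => (G ⊗ WB i).left) (fun i => ?_)
    (fun i => ((G ◁ s' i) ≫ A.act.act).left) (fun i => (snd G (WB i)).left) (fun i => ?_)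
  · exact isAlgSpace_of_isPullback (repDiag_of_isAlgSpace hB) hG (IsAlgSpace.yon_obj _)
      (IsPullback.of_hasPullback G.hom (WB i).hom)
  · have h := ((AlgSt.isPullback_whiskerLeft' (G := G) (s' i)).paste_horiz A.cart).map
      (Over.forget B)
    have e : (Over.forget B).map (s' i ≫ A.π) = (yon S).map (g i) := hs i
    rw [e] at h
    exact h

end Groth.Agent.Lib.Helper24.SpQ11
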