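import Mathlib
import Groth.Agent.Lib.Helper24.SpQ11
import Groth.Agent.Lib.Helper24.QuotSt7
import Groth.Agent.Lib.Helper24.FibCatTwoCart
set_option autoImplicit false
set_option linter.unusedSectionVars false
set_option linter.unusedVariables false
set_option linter.unusedSimpArgs false
set_option backward.isDefEq.respectTransparency false
set_option backward.isDefEq.respectTransparency.types false
universe u
open CategoryTheory CategoryTheory.Limits AlgebraicGeometry Opposite
open MonoidalCategory CartesianMonoidalCategory MonObj GrpObj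

/-! The fibre of `X ⟶ [X/G]` (sheaf torsors) over a torsor is its total sheaf. -/

namespace Groth.Agent.Lib.Helper24.SpQ12
open AlgSp AlgSt Groth.Agent.Lib.Helper14.AS

variable {S : Scheme.{u}} {B : Sp S}

section Gen
variable (G : Over B) [GrpObj G] {X : Over B} (aX : GAction G X)

/-- the unit section of the trivial torsor -/
noncomputable def unitSec (T : Over B) : T ⟶ G ⊗ T := lift (toUnit T ≫ η[G]) (𝟙 T)

@[reassoc (attr := simp)] lemma unitSec_snd (T : Over B) : unitSec G T ≫ snd G T = 𝟙 T :=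
  lift_snd _ _

lemma unitSec_fst (T : Over B) : unitSec G T ≫ fst G T = 1 := by
  rw [unitSec, lift_fst, Hom.one_def]

/-- every point of the trivial torsor is the translate of the unit section -/
lemma id_eq_act (T : Over B) :
    lift (fst G T) (snd G T ≫ unitSec G T) ≫ (AlgSt.spLeftMul G T).act = 𝟙 (G ⊗ T) := by
  apply CartesianMonoidalCategory.hom_ext
  · simp only [AlgSt.spLeftMul, Category.assoc, lift_fst, lift_snd, comp_lift, comp_mul,
      lift_fst_assoc, lift_snd_assoc, Category.id_comp, unitSec_fst, comp_one, _root_.mul_one]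
  · simp only [AlgSt.spLeftMul, Category.assoc, lift_fst, lift_snd, comp_lift,
      lift_snd_assoc, Category.id_comp, unitSec_snd, Category.comp_id]

include aX in
/-- `(a b) · c = a · (b · c)` on generalized points -/
lemma act_mul {W : Over B} (a b : W ⟶ G) (c : W ⟶ X) :
    lift (a * b) c ≫ aX.act = lift a (lift b c ≫ aX.act) ≫ aX.act := by
  have h1 : lift (a * b) c = lift (lift a b) c ≫ (μ[G] ▷ X) := by
    apply CartesianMonoidalCategory.hom_ext
    · simp only [Category.assoc, lift_fst, whiskerRight_fst, lift_fst_assoc, Hom.mul_def]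
    · simp only [Category.assoc, lift_snd, whiskerRight_snd]
  have h2 : lift (lift a b) c ≫ (α_ G G X).hom ≫ (G ◁ aX.act) =
      lift a (lift b c ≫ aX.act) := by
    apply CartesianMonoidalCategory.hom_ext
    · simp only [Category.assoc, lift_fst, whiskerLeft_fst, associator_hom_fst, lift_fst_assoc]
    · simp only [Category.assoc, lift_snd, whiskerLeft_snd]
      rw [← Category.assoc, ← Category.assoc]
      congr 1
      apply CartesianMonoidalCategory.hom_ext
      · simp only [Category.assoc, lift_fst, associator_hom_snd_fst, lift_fst_assoc, lift_snd]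
      · simp only [Category.assoc, lift_snd, associator_hom_snd_snd]
  rw [h1, Category.assoc, aX.mul_act, ← h2]
  simp only [Category.assoc]

include aX in
lemma one_act' {W : Over B} (c : W ⟶ X) : lift (1 : W ⟶ G) c ≫ aX.act = c := by
  have h1 : lift (1 : W ⟶ G) c = c ≫ (λ_ X).inv ≫ (η[G] ▷ X) := by
    apply CartesianMonoidalCategory.hom_ext
    · simp only [Category.assoc, lift_fst, whiskerRight_fst, Hom.one_def]
      rw [← Category.assoc, ← Category.assoc]
      congr 1
      exact toUnit_unique _ _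
    · simp only [Category.assoc, lift_snd, whiskerRight_snd, leftUnitor_inv_snd, Category.comp_id]
  rw [h1, Category.assoc, Category.assoc, aX.one_act, Iso.inv_hom_id, Category.comp_id]

include aX in
lemma unitSec_act {T : Over B} (s : T ⟶ X) : unitSec G T ≫ (G ◁ s) ≫ aX.act = s := by
  have h3 : unitSec G T ≫ (G ◁ s) = lift (1 : T ⟶ G) s := by
    apply CartesianMonoidalCategory.hom_ext
    · simp only [Category.assoc, lift_fst, whiskerLeft_fst, unitSec_fst]
    · simp only [Category.assoc, lift_snd, whiskerLeft_snd, unitSec_snd_assoc]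
  rw [← Category.assoc, h3, one_act' G aX]

include aX in
/-- the equivariance of the orbit map of a point -/
lemma orbit_eqv {T : Over B} (s : T ⟶ X) :
    (AlgSt.spLeftMul G T).act ≫ (G ◁ s) ≫ aX.act = (G ◁ ((G ◁ s) ≫ aX.act)) ≫ aX.act := by
  have h1 : (AlgSt.spLeftMul G T).act ≫ (G ◁ s) =
      lift (fst G (G ⊗ T) * (snd G (G ⊗ T) ≫ fst G T)) (snd G (G ⊗ T) ≫ snd G T ≫ s) := by
    apply CartesianMonoidalCategory.hom_ext
    · simp only [AlgSt.spLeftMul, Category.assoc, lift_fst, whiskerLeft_fst]
    · simp only [AlgSt.spLeftMul, Category.assoc, lift_snd, whiskerLeft_snd, lift_snd_assoc]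
  have h2 : (G ◁ ((G ◁ s) ≫ aX.act)) =
      lift (fst G (G ⊗ T))
        (lift (snd G (G ⊗ T) ≫ fst G T) (snd G (G ⊗ T) ≫ snd G T ≫ s) ≫ aX.act) := by
    apply CartesianMonoidalCategory.hom_ext
    · simp only [lift_fst, whiskerLeft_fst]
    · simp only [lift_snd, whiskerLeft_snd]
      rw [← Category.assoc, ← Category.assoc]
      congr 1
      apply CartesianMonoidalCategory.hom_ext
      · simp only [Category.assoc, lift_fst, whiskerLeft_fst]
      · simp only [Category.assoc, lift_snd, whiskerLeft_snd]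
  rw [← Category.assoc, h1, act_mul G aX, h2]

end Gen


variable {K : Precoverage Scheme.{u}} [K.HasIsos] {G : Over B} [GrpObj G] {X : Over B}
  {aX : GAction G X}

/-- the morphism of base schemes determined by a point of the total sheaf -/
noncomputable def baseOf (A : SpQuotObj K G aX) {T : Over S} (s : (yon S).obj T ⟶ A.P.left) :
    T ⟶ A.base := (yon S).preimage (s ≫ A.π.left)

lemma map_baseOf (A : SpQuotObj K G aX) {T : Over S} (s : (yon S).obj T ⟶ A.P.left) :
    (yon S).map (baseOf A s) = s ≫ A.π.left := (yon S).map_preimage _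

section HomOfSec
variable (A : SpQuotObj K G aX) (a : (ofSp X.left).obj) (s : (yon S).obj a.base ⟶ A.P.left)
  (hx : s ≫ A.φ.left = secYon a)

include hx in
lemma sB_w : s ≫ A.P.hom = secYon a ≫ X.hom := by
  rw [← hx, Category.assoc, Over.w A.φ]

/-- the point of the total sheaf as a morphism over `B` -/
noncomputable def sB : Over.mk (secYon a ≫ X.hom) ⟶ A.P := Over.homMk s (sB_w A a s hx)

lemma sB_left : (sB A a s hx).left = s := rfl

lemma sB_φ : sB A a s hx ≫ A.φ = secOver a := by
  apply Over.OverMorphism.ext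
  exact hx

include hx in
lemma baseOf_wb : (yon S).map (baseOf A s) ≫ A.b = secYon a ≫ X.hom := by
  have h : A.π.left ≫ A.b = A.P.hom := Over.w A.π
  rw [map_baseOf, Category.assoc, h, sB_w A a s hx]

lemma sB_π : sB A a s hx ≫ A.π = bHom (baseOf A s) (baseOf_wb A a s hx) := by
  apply Over.OverMorphism.ext
  exact (map_baseOf A s).symm

/-- the morphism from the trivial torsor determined by a point of the total sheaf -/
noncomputable def homOfSec : (spQuotMap K G aX).toFunctor.obj a ⟶ A where
  base := baseOf A s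
  wb := baseOf_wb A a s hx
  top := (G ◁ sB A a s hx) ≫ A.act.act
  eqv := orbit_eqv G A.act (sB A a s hx)
  cart := by
    rw [← sB_π A a s hx]
    exact (AlgSt.isPullback_whiskerLeft' (G := G) (sB A a s hx)).paste_horiz A.cart
  wφ := by
    change ((G ◁ sB A a s hx) ≫ A.act.act) ≫ A.φ = (G ◁ secOver a) ≫ aX.act
    rw [Category.assoc, A.eqv, ← sB_φ A a s hx, MonoidalCategory.whiskerLeft_comp, Category.assoc]

@[simp] lemma homOfSec_base : (homOfSec A a s hx).base = baseOf A s := rfl

@[simp] lemma homOfSec_top : (homOfSec A a s hx).top = (G ◁ sB A a s hx) ≫ A.act.act := rfl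

end HomOfSec

/-- every morphism from a trivial torsor is determined by the image of the unit section -/
lemma eq_homOfSec (A : SpQuotObj K G aX) (a : (ofSp X.left).obj)
    (ρ : (spQuotMap K G aX).toFunctor.obj a ⟶ A) :
    ∃ (s : (yon S).obj a.base ⟶ A.P.left) (hx : s ≫ A.φ.left = secYon a),
      ρ = homOfSec A a s hx := by
  let T : Over B := Over.mk (secYon a ≫ X.hom)
  have heqv : (AlgSt.spLeftMul G T).act ≫ ρ.top = (G ◁ ρ.top) ≫ A.act.act := ρ.eqv
  have hw : ρ.top ≫ A.π = snd G T ≫ bHom ρ.base ρ.wb := ρ.cart.w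
  have hφ : ρ.top ≫ A.φ = (G ◁ secOver a) ≫ aX.act := ρ.wφ
  have h1 : ρ.top = (G ◁ (unitSec G T ≫ ρ.top)) ≫ A.act.act := by
    have h2 : lift (fst G T) (snd G T ≫ unitSec G T) ≫ (G ◁ ρ.top) =
        (G ◁ (unitSec G T ≫ ρ.top)) := by
      apply CartesianMonoidalCategory.hom_ext
      · simp only [Category.assoc, lift_fst, whiskerLeft_fst]
      · simp only [Category.assoc, lift_snd, whiskerLeft_snd, lift_snd_assoc]
    rw [← h2, Category.assoc, ← heqv, ← Category.assoc, id_eq_act, Category.id_comp]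
  have hx' : (unitSec G T ≫ ρ.top) ≫ A.φ = secOver a := by
    rw [Category.assoc, hφ, unitSec_act G aX]
  have hx : (unitSec G T ≫ ρ.top).left ≫ A.φ.left = secYon a :=
    congrArg (fun t => t.left) hx'
  refine ⟨(unitSec G T ≫ ρ.top).left, hx, SpQuotObj.hom_ext ?_ ?_⟩
  · apply (yon S).map_injective
    rw [homOfSec_base, map_baseOf]
    have h3 : (unitSec G T ≫ ρ.top) ≫ A.π = bHom ρ.base ρ.wb := by
      rw [Category.assoc, hw, unitSec_snd_assoc]
    exact (congrArg (fun t => t.left) h3).symm
  · rw [homOfSec_top]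
    have h4 : sB A a (unitSec G T ≫ ρ.top).left hx = unitSec G T ≫ ρ.top := by
      apply Over.OverMorphism.ext
      rfl
    rw [h4]
    exact h1

lemma spQuotMap_map_top {a a' : (ofSp X.left).obj} (f : a ⟶ a') :
    ((spQuotMap K G aX).toFunctor.map f).top =
      G ◁ bHom f.hom (show (yon S).map f.hom ≫ secYon a' ≫ X.hom = secYon a ≫ X.hom by
        rw [← Category.assoc, secYon_comp]) := rfl

lemma spQuotMap_map_base {a a' : (ofSp X.left).obj} (f : a ⟶ a') :
    ((spQuotMap K G aX).toFunctor.map f).base = f.hom := rfl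

section Fibre
open Groth.Agent.Lib.Helper24.FibCatYoneda Groth.Agent.Lib.Helper24.FibCatRepDiag
open Groth.Agent.Lib.Helper24.SpQ4

variable {U : Over S} (y : FibCat.overCat U ⥤ᵇ SpQuotSt K G aX)

/-- the torsor classified by `y` -/
noncomputable abbrev tors : SpQuotObj K G aX := y.toFunctor.obj (Over.mk (𝟙 U))

lemma tors_base : (tors y).base = U := y.w_obj (Over.mk (𝟙 U))

/-- the structure morphism of the torsor, to `h_U` -/
noncomputable def piU : (tors y).P.left ⟶ (yon S).obj U :=
  (tors y).π.left ≫ (yon S).map (eqToHom (tors_base y))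

/-- the first projection from the total sheaf -/
noncomputable def aFun : ofSp (tors y).P.left ⥤ᵇ FibCat.overCat U :=
  BasedFunctor.comp (ofSpMap (piU y)) (toOverCat U)

/-- the second projection from the total sheaf -/
noncomputable def bFun : ofSp (tors y).P.left ⥤ᵇ ofSp X.left := ofSpMap (tors y).φ.left

/-- the point of the total sheaf given by a section -/
noncomputable abbrev sW (w : (ofSp (tors y).P.left).obj) : (yon S).obj w.base ⟶ (tors y).P.left :=
  yEquiv.symm w.sec

lemma sW_φ (w : (ofSp (tors y).P.left).obj) :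
    sW y w ≫ (tors y).φ.left = secYon ((bFun y).toFunctor.obj w) :=
  yEquiv_symm_comp _ _

lemma map_aFun_hom (w : (ofSp (tors y).P.left).obj) :
    (yon S).map ((aFun y).toFunctor.obj w).hom = sW y w ≫ piU y := by
  rw [yEquiv_symm_comp, ← Groth.Agent.Lib.Helper24.Slice.yEquiv_symm_yon]
  rfl

/-- the cartesian morphism from the trivial torsor attached to a point of the total sheaf -/
noncomputable def sig (w : (ofSp (tors y).P.left).obj) :
    (spQuotMap K G aX).toFunctor.obj ((bFun y).toFunctor.obj w) ⟶ tors y :=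
  homOfSec (tors y) ((bFun y).toFunctor.obj w) (sW y w) (sW_φ y w)

lemma sig_base (w : (ofSp (tors y).P.left).obj) :
    (sig y w).base = baseOf (tors y) (sW y w) := rfl

lemma sig_top (w : (ofSp (tors y).P.left).obj) :
    (sig y w).top = (G ◁ sB (tors y) ((bFun y).toFunctor.obj w) (sW y w) (sW_φ y w)) ≫
      (tors y).act.act := rfl

lemma sig_base_comp (w : (ofSp (tors y).P.left).obj) :
    (sig y w).base ≫ eqToHom (tors_base y) = ((aFun y).toFunctor.obj w).hom := by
  apply (yon S).map_injective
  rw [Functor.map_comp, map_aFun_hom, sig_base, map_baseOf, Category.assoc]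
  rfl

lemma sig_lift (w : (ofSp (tors y).P.left).obj) :
    (SpQuotSt K G aX).p.IsHomLift ((aFun y).toFunctor.obj w).hom (sig y w) := by
  apply IsHomLift.of_fac' _ _ _ rfl (tors_base y)
  change (sig y w).base = 𝟙 _ ≫ ((aFun y).toFunctor.obj w).hom ≫ eqToHom (tors_base y).symm
  rw [← sig_base_comp]
  simp

/-- the canonical morphism to the classified torsor -/
noncomputable def mu (c : Over U) : y.toFunctor.obj c ⟶ tors y := y.toFunctor.map (tOf c)

lemma mu_lift (c : Over U) : (SpQuotSt K G aX).p.IsHomLift c.hom (mu y c) :=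
  map_tOf_lift y c

lemma map_mu {c c' : Over U} (m : c ⟶ c') : y.toFunctor.map m ≫ mu y c' = mu y c := by
  rw [mu, mu, ← Functor.map_comp, map_tOf_comp]

lemma sig_scart (w : (ofSp (tors y).P.left).obj) :
    (SpQuotSt K G aX).p.IsStronglyCartesian ((aFun y).toFunctor.obj w).hom (sig y w) :=
  have := sig_lift y w
  scart _ _

lemma mu_scart (w : (ofSp (tors y).P.left).obj) :
    (SpQuotSt K G aX).p.IsStronglyCartesian ((aFun y).toFunctor.obj w).hom
      (mu y ((aFun y).toFunctor.obj w)) :=
  have : (SpQuotSt K G aX).p.IsHomLift ((aFun y).toFunctor.obj w).hom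
      (mu y ((aFun y).toFunctor.obj w)) := mu_lift y ((aFun y).toFunctor.obj w)
  scart ((aFun y).toFunctor.obj w).hom (mu y ((aFun y).toFunctor.obj w))

/-- the comparison isomorphism at a point of the total sheaf -/
noncomputable def epsApp (w : (ofSp (tors y).P.left).obj) :
    y.toFunctor.obj ((aFun y).toFunctor.obj w) ≅
      (spQuotMap K G aX).toFunctor.obj ((bFun y).toFunctor.obj w) :=
  have := sig_scart y w
  have := mu_scart y w
  Functor.IsCartesian.domainUniqueUpToIso (SpQuotSt K G aX).p ((aFun y).toFunctor.obj w).hom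
    (sig y w) (mu y ((aFun y).toFunctor.obj w))

lemma epsApp_fac (w : (ofSp (tors y).P.left).obj) :
    (epsApp y w).hom ≫ sig y w = mu y ((aFun y).toFunctor.obj w) := by
  have := sig_scart y w
  have := mu_scart y w
  exact Functor.IsCartesian.fac (SpQuotSt K G aX).p ((aFun y).toFunctor.obj w).hom
    (sig y w) (mu y ((aFun y).toFunctor.obj w))

lemma epsApp_lift (w : (ofSp (tors y).P.left).obj) :
    (SpQuotSt K G aX).p.IsHomLift (𝟙 w.base) (epsApp y w).hom := by
  have := sig_scart y w
  have := mu_scart y w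
  exact Functor.IsCartesian.domainUniqueUpToIso_inv_isHomLift (SpQuotSt K G aX).p
    ((aFun y).toFunctor.obj w).hom (sig y w) (mu y ((aFun y).toFunctor.obj w))

end Fibre

section Fibre2
open Groth.Agent.Lib.Helper24.FibCatYoneda Groth.Agent.Lib.Helper24.FibCatRepDiag
open Groth.Agent.Lib.Helper24.SpQ4

variable {U : Over S} (y : FibCat.overCat U ⥤ᵇ SpQuotSt K G aX)

lemma homOfSec_lift (a : (ofSp X.left).obj) (s : (yon S).obj a.base ⟶ (tors y).P.left)
    (hx : s ≫ (tors y).φ.left = secYon a) (t : a.base ⟶ U) (ht : (yon S).map t = s ≫ piU y) :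
    (SpQuotSt K G aX).p.IsHomLift t (homOfSec (tors y) a s hx) := by
  apply IsHomLift.of_fac' _ _ _ rfl (tors_base y)
  change baseOf (tors y) s = 𝟙 _ ≫ t ≫ eqToHom (tors_base y).symm
  apply (yon S).map_injective
  rw [map_baseOf, Category.id_comp, Functor.map_comp, ht, piU]
  simp only [Category.assoc, ← Functor.map_comp, eqToHom_trans, eqToHom_refl,
    CategoryTheory.Functor.map_id, Category.comp_id]
  exact congrArg (fun t => s ≫ t) (Category.comp_id (tors y).π.left).symm

lemma sW_map {F : Sp S} {w w' : (ofSp F).obj} (m : w ⟶ w') :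
    (yon S).map m.hom ≫ yEquiv.symm w'.sec = yEquiv.symm w.sec := by
  change (AlgSp.J S).uliftYoneda.map m.hom ≫ ((AlgSp.J S).uliftYonedaEquiv).symm w'.sec = _
  rw [GrothendieckTopology.uliftYonedaEquiv_symm_naturality_left, m.map_sec]

lemma fQ_map_sig {w w' : (ofSp (tors y).P.left).obj} (m : w ⟶ w') :
    (spQuotMap K G aX).toFunctor.map ((bFun y).toFunctor.map m) ≫ sig y w' = sig y w := by
  have hm : (yon S).map m.hom ≫ sW y w' = sW y w := sW_map m
  refine SpQuotObj.hom_ext ?_ ?_
  · rw [SpQuotObj.comp_base, sig_base, sig_base, spQuotMap_map_base]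
    apply (yon S).map_injective
    rw [Functor.map_comp, map_baseOf, map_baseOf]
    change (yon S).map m.hom ≫ _ = _
    rw [← Category.assoc, hm]
  · rw [SpQuotObj.comp_top, sig_top, sig_top, spQuotMap_map_top,
      ← MonoidalCategory.whiskerLeft_comp_assoc]
    congr 2
    apply Over.OverMorphism.ext
    exact hm

lemma aFun_map_lift {w w' : (ofSp (tors y).P.left).obj} (m : w ⟶ w') :
    (SpQuotSt K G aX).p.IsHomLift m.hom (y.toFunctor.map ((aFun y).toFunctor.map m)) :=
  map_lift y _ _ (over_lift_self ((aFun y).toFunctor.map m))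

lemma fQ_map_lift {a a' : (ofSp X.left).obj} (m : a ⟶ a') :
    (SpQuotSt K G aX).p.IsHomLift m.hom ((spQuotMap K G aX).toFunctor.map m) :=
  (IsHomLift.map (SpQuotSt K G aX).p ((spQuotMap K G aX).toFunctor.map m) :)

lemma eps_naturality {w w' : (ofSp (tors y).P.left).obj} (m : w ⟶ w') :
    y.toFunctor.map ((aFun y).toFunctor.map m) ≫ (epsApp y w').hom =
      (epsApp y w).hom ≫ (spQuotMap K G aX).toFunctor.map ((bFun y).toFunctor.map m) := by
  have := sig_scart y w'
  have h1 : (SpQuotSt K G aX).p.IsHomLift m.hom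
      (y.toFunctor.map ((aFun y).toFunctor.map m) ≫ (epsApp y w').hom) :=
    comp_id_right _ _ _ _ (aFun_map_lift y m) (epsApp_lift y w')
  have h2 : (SpQuotSt K G aX).p.IsHomLift m.hom ((epsApp y w).hom ≫
      (spQuotMap K G aX).toFunctor.map ((bFun y).toFunctor.map m)) :=
    comp_id_left _ _ _ _ (epsApp_lift y w) (fQ_map_lift ((bFun y).toFunctor.map m))
  apply Functor.IsStronglyCartesian.ext (SpQuotSt K G aX).p ((aFun y).toFunctor.obj w').hom
    (sig y w') m.hom
  rw [Category.assoc, epsApp_fac, map_mu, Category.assoc, fQ_map_sig, epsApp_fac]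

/-- the 2-isomorphism of the square -/
noncomputable def eps : BasedFunctor.comp (aFun y) y ≅
    BasedFunctor.comp (bFun y) (spQuotMap K G aX) :=
  BasedNatIso.mkNatIso
    (NatIso.ofComponents (fun w => epsApp y w) (fun {w w'} m => eps_naturality y m))
    (fun w => epsApp_lift y w)

lemma eps_app (w : (ofSp (tors y).P.left).obj) :
    (eps y).hom.toNatTrans.app w = (epsApp y w).hom := rfl

end Fibre2

section Fibre3
open Groth.Agent.Lib.Helper24.FibCatYoneda Groth.Agent.Lib.Helper24.FibCatRepDiag
open Groth.Agent.Lib.Helper24.SpQ4 Groth.Agent.Lib.Helper24.QuotSt5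

variable {U : Over S} (y : FibCat.overCat U ⥤ᵇ SpQuotSt K G aX)

lemma surj_aux {T : Over S} (t : T ⟶ U) (x' : X.left.obj.obj (op T))
    (i : y.toFunctor.obj (Over.mk t) ≅ (spQuotMap K G aX).toFunctor.obj ⟨T, x'⟩)
    (hzp : (SpQuotSt K G aX).p.IsHomLift (𝟙 T) i.hom) :
    ∃ (w : (ofSp (tors y).P.left).obj) (α : (aFun y).toFunctor.obj w ≅ Over.mk t)
      (β : (bFun y).toFunctor.obj w ≅ (⟨T, x'⟩ : (ofSp X.left).obj)),
      (FibCat.overCat U).p.IsHomLift (𝟙 T) α.hom ∧
      y.toFunctor.map α.hom ≫ i.hom =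
        (eps y).hom.toNatTrans.app w ≫ (spQuotMap K G aX).toFunctor.map β.hom := by
  have hinv : (SpQuotSt K G aX).p.IsHomLift (𝟙 T) i.inv :=
    IsHomLift.lift_id_inv (SpQuotSt K G aX).p T i
  have hmu : (SpQuotSt K G aX).p.IsHomLift t (mu y (Over.mk t)) := mu_lift y (Over.mk t)
  obtain ⟨ρ, hρ⟩ : ∃ ρ : (spQuotMap K G aX).toFunctor.obj ⟨T, x'⟩ ⟶ tors y,
    ρ = i.inv ≫ mu y (Over.mk t) := ⟨_, rfl⟩
  have hρl : (SpQuotSt K G aX).p.IsHomLift t ρ := by
    rw [hρ]; exact comp_id_left _ _ _ _ hinv hmu
  obtain ⟨s, hx, hρs⟩ := eq_homOfSec (tors y) ⟨T, x'⟩ ρ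
  let t' : T ⟶ U := (yon S).preimage (s ≫ piU y)
  have ht' : (yon S).map t' = s ≫ piU y := (yon S).map_preimage _
  have hσ : (SpQuotSt K G aX).p.IsHomLift t' (homOfSec (tors y) ⟨T, x'⟩ s hx) :=
    homOfSec_lift y ⟨T, x'⟩ s hx t' ht'
  have hst : t' = t := by
    rw [← hρs] at hσ
    exact lift_unique _ _ _ _ hσ hρl
  let w : (ofSp (tors y).P.left).obj := ⟨T, yEquiv s⟩
  have hs : sW y w = s := Equiv.symm_apply_apply _ _
  have hwa : ((aFun y).toFunctor.obj w).hom = t := by
    apply (yon S).map_injective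
    rw [map_aFun_hom, hs, ← ht', hst]
  have hwb : (tors y).φ.left.hom.app (op T) (yEquiv s) = x' := by
    rw [← yEquiv_comp, hx]
    exact Equiv.apply_symm_apply _ _
  let α : (aFun y).toFunctor.obj w ≅ Over.mk t :=
    Over.isoMk (Iso.refl T) (by
      change 𝟙 T ≫ t = ((aFun y).toFunctor.obj w).hom
      rw [Category.id_comp, hwa])
  let β : (bFun y).toFunctor.obj w ≅ (⟨T, x'⟩ : (ofSp X.left).obj) :=
    { hom := ⟨𝟙 T, by
        change X.left.obj.map (𝟙 T).op x' = (tors y).φ.left.hom.app (op T) (yEquiv s)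
        rw [hwb, op_id, CategoryTheory.Functor.map_id_apply]⟩
      inv := ⟨𝟙 T, by
        change X.left.obj.map (𝟙 T).op ((tors y).φ.left.hom.app (op T) (yEquiv s)) = x'
        rw [hwb, op_id, CategoryTheory.Functor.map_id_apply]⟩
      hom_inv_id := Stk.EltObj.hom_ext (Category.comp_id _)
      inv_hom_id := Stk.EltObj.hom_ext (Category.comp_id _) }
  refine ⟨w, α, β, ?_, ?_⟩
  · exact over_lift_self α.hom
  · have hsc : (SpQuotSt K G aX).p.IsStronglyCartesian t ρ := by
      have := hρl
      exact scart t ρ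
    have h1 : (SpQuotSt K G aX).p.IsHomLift (𝟙 T) (y.toFunctor.map α.hom ≫ i.hom) := by
      have hα : (SpQuotSt K G aX).p.IsHomLift (𝟙 T) (y.toFunctor.map α.hom) :=
        map_lift y _ _ (over_lift_self α.hom)
      exact comp_id_left _ _ _ _ hα hzp
    have h2 : (SpQuotSt K G aX).p.IsHomLift (𝟙 T)
        ((eps y).hom.toNatTrans.app w ≫ (spQuotMap K G aX).toFunctor.map β.hom) := by
      have hβ : (SpQuotSt K G aX).p.IsHomLift (𝟙 T)
          ((spQuotMap K G aX).toFunctor.map β.hom) := fQ_map_lift β.hom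
      exact comp_id_left _ _ _ _ (epsApp_lift y w) hβ
    apply Functor.IsStronglyCartesian.ext (SpQuotSt K G aX).p t ρ (𝟙 T)
    have hL : (y.toFunctor.map α.hom ≫ i.hom) ≫ ρ = mu y ((aFun y).toFunctor.obj w) := by
      rw [hρ, Category.assoc, Iso.hom_inv_id_assoc, map_mu]
    have hR : (spQuotMap K G aX).toFunctor.map β.hom ≫ ρ = sig y w := by
      rw [hρs]
      refine SpQuotObj.hom_ext ?_ ?_
      · rw [SpQuotObj.comp_base, sig_base, homOfSec_base, spQuotMap_map_base, hs]
        exact Category.id_comp _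
      · rw [SpQuotObj.comp_top, sig_top, homOfSec_top, spQuotMap_map_top,
          ← MonoidalCategory.whiskerLeft_comp_assoc]
        congr 2
        apply Over.OverMorphism.ext
        change (yon S).map (𝟙 T) ≫ s = sW y w
        rw [hs, CategoryTheory.Functor.map_id, Category.id_comp]
    rw [hL, Category.assoc, hR, eps_app, epsApp_fac]

open Groth.Agent.Lib.Helper24.FibCatTwoCart in
/-- the total sheaf of the torsor classified by `y` is the fibre of `X ⟶ [X/G]` over `y` -/
theorem isEquivOver_fpLift_eps :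
    FibCat.IsEquivOver (FibCat.fpLift (aFun y) (bFun y) (eps y)) := by
  refine isEquivOver_fpLift_of _ _ _ ?_ ?_ ?_
  · intro w w' m m' h _
    have h1 : m.hom = m'.hom := congrArg (fun t => t.left) h
    exact Stk.EltObj.hom_ext h1
  · intro w w' u v huv
    have huv' : y.toFunctor.map u ≫ (epsApp y w').hom =
        (epsApp y w).hom ≫ (spQuotMap K G aX).toFunctor.map v := huv
    have hu : (SpQuotSt K G aX).p.IsHomLift u.left (y.toFunctor.map u) :=
      map_lift y _ _ (over_lift_self u)
    have hv : (SpQuotSt K G aX).p.IsHomLift v.hom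
        ((spQuotMap K G aX).toFunctor.map v) := fQ_map_lift v
    have h1 : (SpQuotSt K G aX).p.IsHomLift u.left
        (y.toFunctor.map u ≫ (epsApp y w').hom) :=
      comp_id_right _ _ _ _ hu (epsApp_lift y w')
    have h2 : (SpQuotSt K G aX).p.IsHomLift v.hom
        ((epsApp y w).hom ≫ (spQuotMap K G aX).toFunctor.map v) :=
      comp_id_left _ _ _ _ (epsApp_lift y w) hv
    rw [← huv'] at h2
    have hleft : u.left = v.hom := lift_unique _ _ _ _ h1 h2
    have h3 : sig y w = (spQuotMap K G aX).toFunctor.map v ≫ sig y w' := by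
      rw [← Iso.cancel_iso_hom_left (epsApp y w), epsApp_fac, ← Category.assoc, ← huv',
        Category.assoc, epsApp_fac, map_mu]
    have h4 := congrArg (fun t => t.top) h3
    simp only at h4
    rw [SpQuotObj.comp_top, sig_top, sig_top, spQuotMap_map_top] at h4
    have h5 := congrArg (fun t => unitSec G _ ≫ t) h4
    simp only at h5
    rw [unitSec_act G (tors y).act, ← MonoidalCategory.whiskerLeft_comp_assoc,
      unitSec_act G (tors y).act] at h5
    have h6 : sW y w = (yon S).map v.hom ≫ sW y w' := congrArg (fun t => t.left) h5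
    have h7 : (tors y).P.left.obj.map v.hom.op w'.sec = w.sec := by
      have e1 : yEquiv (sW y w) = w.sec := Equiv.apply_symm_apply _ _
      have e2 : yEquiv (sW y w') = w'.sec := Equiv.apply_symm_apply _ _
      have := congrArg yEquiv h6
      rw [Groth.Agent.Lib.Helper24.SpQ1.yEquiv_map_comp] at this
      exact (congrArg (fun z => (tors y).P.left.obj.map v.hom.op z) e2).symm.trans
        (this.symm.trans e1)
    refine ⟨⟨v.hom, h7⟩, ?_, ?_⟩
    · apply Over.OverMorphism.ext
      exact hleft.symm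
    · apply Stk.EltObj.hom_ext
      rfl
  · rintro ⟨zo, zp⟩
    obtain ⟨c, c', i, hi⟩ : ∃ (c : Over U) (c' : (ofSp X.left).obj)
        (i : y.toFunctor.obj c ≅ (spQuotMap K G aX).toFunctor.obj c'), zo = ⟨c, c', i⟩ :=
      ⟨zo.fst, zo.snd, zo.iso, rfl⟩
    subst hi
    have hzp : (SpQuotSt K G aX).p.IsHomLift (𝟙 c.left) i.hom := zp
    obtain ⟨T, t, rfl⟩ : ∃ (T : Over S) (t : T ⟶ U), c = Over.mk t := ⟨c.left, c.hom, rfl⟩
    obtain ⟨T', x'⟩ := c'
    have hT : T' = T := by
      have hzp' : (SpQuotSt K G aX).p.IsHomLift (𝟙 T) i.hom := hzp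
      exact (IsHomLift.codomain_eq (SpQuotSt K G aX).p (𝟙 T) i.hom)
    subst hT
    exact surj_aux y t x' i hzp

end Fibre3

end Groth.Agent.Lib.Helper24.SpQ12
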