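import Mathlib
import Groth.Agent.Lib.Helper24.SpQ12
import Groth.Agent.Lib.Helper24.AlgStBridge
import Groth.Agent.Lib.Helper24.AlgStProps
import Groth.Agent.Lib.Helper24.AlgStLocQ6
set_option autoImplicit false
set_option linter.unusedSectionVars false
set_option linter.unusedVariables false
set_option linter.unusedSimpArgs false
set_option backward.isDefEq.respectTransparency false
set_option backward.isDefEq.respectTransparency.types false
universe u
open CategoryTheory CategoryTheory.Limits AlgebraicGeometry Opposite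
open MonoidalCategory CartesianMonoidalCategory MonObj GrpObj

/-! `X ⟶ [X/G]` (sheaf torsors) is representable by the total sheaves of the torsors, and
properties of `G ⟶ B` which are fppf local on the base pass to all torsors. -/

namespace Groth.Agent.Lib.Helper24.SpQ13
open AlgSp AlgSt Groth.Agent.Lib.Helper14.AS Groth.Agent.Lib.Helper24.SpQ12
open Groth.Agent.Lib.Helper24.AlgStRepS

variable {S : Scheme.{u}} {B : Sp S} {G : Over B} [GrpObj G] {X : Over B} {aX : GAction G X}

/-- a covering family of the fppf precoverage of a scheme is an fppf covering of sheaves -/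
lemma isFppfCover_of_mem {T : Over S} {I : Type u} (V : I → Scheme.{u}) (f : ∀ i, V i ⟶ T.left)
    (hcov : Presieve.ofArrows V f ∈ Scheme.fppfPrecoverage.{u} T.left) :
    IsFppfCover (fun i => (yon S).obj (Over.mk (f i ≫ T.hom)))
      (fun i => (yon S).map (Over.homMk (f i) rfl : Over.mk (f i ≫ T.hom) ⟶ T)) := by
  have hcov' := (Scheme.ofArrows_mem_precoverage_iff
    (P := @Flat ⊓ @LocallyOfFinitePresentation)).1 hcov
  refine ⟨fun i => ⟨?_, ?_⟩, fun x => ?_⟩
  · exact Groth.Agent.Lib.Helper24.AlgStLocQ6.locP_yon_map_of etLocal_flat (hcov'.2 i).1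
  · exact Groth.Agent.Lib.Helper24.AlgStLocQ6.locP_yon_map_of etLocal_lfp (hcov'.2 i).2
  · obtain ⟨t, rfl⟩ := (Points.schemeHomeo T).surjective x
    obtain ⟨i, v, hv⟩ := hcov'.1 t
    refine ⟨i, Points.schemeHomeo _ v, ?_⟩
    exact (Points.map_yon_map_apply
      (Over.homMk (f i) rfl : Over.mk (f i ≫ T.hom) ⟶ T) v).trans (congrArg _ hv)

/-- a property of `G ⟶ B` which is stable under base change and fppf local on the base passes to
all torsors -/
theorem torsor_prop (hB : IsAlgSpace B) (hG : IsAlgSpace G.left) (P : MorphismProperty (Sp S))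
    (hbc : StableBC P) (hloc : IsLocalOnBase IsFppfCover P) (hP : P G.hom)
    (A : SpQuotObj Scheme.fppfPrecoverage G aX) : P A.π.left := by
  obtain ⟨R, hR, hsec⟩ := A.loc
  obtain ⟨I, V, f, hfR, hcov⟩ := Groth.Agent.Lib.Helper24.SpQ11.exists_small_subfamily R hR
  choose s hs using fun i => hsec (f i) (hfR i)
  let W : I → Over S := fun i => Over.mk (f i ≫ A.base.hom)
  let g : ∀ i, W i ⟶ A.base := fun i => Over.homMk (f i)
  let WB : I → Over B := fun i => Over.mk (s i ≫ A.P.hom)
  let s' : ∀ i, WB i ⟶ A.P := fun i => Over.homMk (s i) rfl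
  have hGW : ∀ i, IsAlgSpace (G ⊗ WB i).left := fun i =>
    isAlgSpace_of_isPullback (repDiag_of_isAlgSpace hB) hG (IsAlgSpace.yon_obj _)
      (IsPullback.of_hasPullback G.hom (WB i).hom)
  have hsq : ∀ i, IsPullback ((G ◁ s' i) ≫ A.act.act).left (snd G (WB i)).left A.π.left
      ((yon S).map (g i)) := fun i => by
    have h := ((AlgSt.isPullback_whiskerLeft' (G := G) (s' i)).paste_horiz A.cart).map
      (Over.forget B)
    have e : (Over.forget B).map (s' i ≫ A.π) = (yon S).map (g i) := hs i
    rw [e] at h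
    exact h
  refine (hloc (fun i => (yon S).obj (W i)) (fun i => (yon S).map (g i)) (IsAlgSpace.yon_obj _)
    (fun i => IsAlgSpace.yon_obj _) (isFppfCover_of_mem V f hcov) A.π.left
    (Groth.Agent.Lib.Helper24.SpQ11.isAlgSpace_P hB hG A) (fun i => (G ⊗ WB i).left)
    (fun i => (snd G (WB i)).left) (fun i => ((G ◁ s' i) ≫ A.act.act).left) hGW hsq).2 fun i => ?_
  have sq : IsPullback (fst G (WB i)).left (snd G (WB i)).left G.hom (WB i).hom := by
    rw [Over.fst_left, Over.snd_left]
    exact IsPullback.of_hasPullback G.hom (WB i).hom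
  exact hbc hG hB (hGW i) (IsAlgSpace.yon_obj _) G.hom (WB i).hom _ _ sq hP

/-- the same for the structure morphism to `h_U` of the torsor classified by `y` -/
theorem piU_prop (hB : IsAlgSpace B) (hG : IsAlgSpace G.left) (P : MorphismProperty (Sp S))
    (hbc : StableBC P) (hloc : IsLocalOnBase IsFppfCover P) (hP : P G.hom) {U : Over S}
    (y : FibCat.overCat U ⥤ᵇ SpQuotSt Scheme.fppfPrecoverage G aX) : P (piU y) := by
  have h := torsor_prop hB hG P hbc hloc hP (tors y)
  have hA := Groth.Agent.Lib.Helper24.SpQ11.isAlgSpace_P hB hG (tors y)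
  have sq : IsPullback (𝟙 (tors y).P.left) (piU y) (tors y).π.left
      ((yon S).map (eqToHom (tors_base y).symm)) := by
    refine IsPullback.of_horiz_isIso ⟨?_⟩
    rw [Category.id_comp, piU, Category.assoc, ← Functor.map_comp, eqToHom_trans, eqToHom_refl,
      CategoryTheory.Functor.map_id]
    exact (Category.comp_id _).symm
  exact hbc hA (IsAlgSpace.yon_obj _) hA (IsAlgSpace.yon_obj _) _ _ _ _ sq h

/-- the canonical map to the quotient stack is representable by the torsors' total sheaves -/
theorem repByAlgSpWith_spQuotMap (hB : IsAlgSpace B) (hG : IsAlgSpace G.left)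
    (Q : MorphismProperty (Sp S))
    (hQ : ∀ (U : Over S) (y : FibCat.overCat U ⥤ᵇ SpQuotSt Scheme.fppfPrecoverage G aX),
      Q (piU y)) :
    RepByAlgSpWith Q (spQuotMap Scheme.fppfPrecoverage G aX) := by
  intro U y
  refine ⟨⟨(tors y).P.left, Groth.Agent.Lib.Helper24.SpQ11.isAlgSpace_P hB hG (tors y)⟩,
    FibCat.fpLift (aFun y) (bFun y) (eps y), isEquivOver_fpLift_eps y, ?_⟩
  have h1 : BasedFunctor.comp (FibCat.fpLift (aFun y) (bFun y) (eps y))
      (FibCat.fpFst y (spQuotMap Scheme.fppfPrecoverage G aX)) = aFun y := rfl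
  rw [h1]
  have h2 := Groth.Agent.Lib.Helper24.AlgStBridge.spMapOfOver_ofPshMap_toOverCat
    (tors y).P.left U (piU y).hom
  have h3 : AlgSt.spMapOfOver (aFun y) = piU y := h2
  rw [h3]
  exact hQ U y

/-- `X ⟶ [X/G]` has every property of `G ⟶ B` which is stable under base change and fppf local
on the base -/
theorem repByAlgSpWith_spQuotMap_of (hB : IsAlgSpace B) (hG : IsAlgSpace G.left)
    (P : MorphismProperty (Sp S)) (hbc : StableBC P) (hloc : IsLocalOnBase IsFppfCover P)
    (hP : P G.hom) : RepByAlgSpWith P (spQuotMap Scheme.fppfPrecoverage G aX) :=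
  repByAlgSpWith_spQuotMap hB hG P fun U y => piU_prop hB hG P hbc hloc hP y

/-- the structure morphism of a group object is surjective -/
lemma isSurjectiveMor_hom : IsSurjectiveMor G.hom := by
  have h : (η[G] : 𝟙_ (Over B) ⟶ G).left ≫ G.hom = 𝟙 B := by
    simp
  intro x
  refine ⟨Points.map (η[G] : 𝟙_ (Over B) ⟶ G).left x, ?_⟩
  rw [← Points.map_comp]
  have : Points.map ((η[G] : 𝟙_ (Over B) ⟶ G).left ≫ G.hom) x = Points.map (𝟙 B) x := by rw [h]
  rw [this, Points.map_id]

/-- smoothness is stable under base change and fppf local on the base -/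
theorem good_locP_smooth : Groth.Agent.Lib.Helper24.AlgStProps.Good (LocP @Smooth (S := S)) :=
  Groth.Agent.Lib.Helper24.AlgStProps.good_locP etLocal_smooth

/-- S13595 -/
theorem spQuotMap_smooth_surjective (hB : IsAlgSpace B) (hG : IsAlgSpace G.left)
    (hs : LocP @Smooth G.hom) :
    RepByAlgSpWith (LocP @Smooth) (spQuotMap Scheme.fppfPrecoverage G aX) ∧
      RepByAlgSpWith IsSurjectiveMor (spQuotMap Scheme.fppfPrecoverage G aX) := by
  have h1 := good_locP_smooth (S := S)
  have h2 := Groth.Agent.Lib.Helper24.AlgStProps.good_isSurjectiveMor (S := S)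
  exact ⟨repByAlgSpWith_spQuotMap_of hB hG _ h1.bc h1.loc hs,
    repByAlgSpWith_spQuotMap_of hB hG _ h2.bc h2.loc isSurjectiveMor_hom⟩

end Groth.Agent.Lib.Helper24.SpQ13
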