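import Mathlib
import Groth.Agent.Lib.Helper24.SpQ13
import Groth.Agent.Lib.Helper24.SpQ8
import Groth.Agent.Lib.Helper24.IsomPsh4
set_option autoImplicit false
set_option linter.unusedSectionVars false
set_option linter.unusedVariables false
set_option linter.unusedSimpArgs false
set_option backward.isDefEq.respectTransparency false
set_option backward.isDefEq.respectTransparency.types false
universe u
open CategoryTheory CategoryTheory.Limits AlgebraicGeometry Opposite
open MonoidalCategory CartesianMonoidalCategory MonObj GrpObj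

/-! The sheaf of isomorphisms from a trivialised torsor is the total sheaf of the second torsor. -/

namespace Groth.Agent.Lib.Helper24.SpQ14
open AlgSp AlgSt Groth.Agent.Lib.Helper14.AS Groth.Agent.Lib.Helper24.SpQ12
open Groth.Agent.Lib.Helper24.IsomPsh Groth.Agent.Lib.Helper24.FibCatRepDiag
open Groth.Agent.Lib.Helper24.FibCatYoneda

variable {S : Scheme.{u}} {K : Precoverage Scheme.{u}} [K.HasIsos] {B : Sp S} {G : Over B}
  [GrpObj G] {X : Over B} {aX : GAction G X}

/-- the functor `(Sch/U) ⟶ X` of a point of `X` -/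
noncomputable def ptOf {U : Over S} (x : (yon S).obj U ⟶ X.left) :
    FibCat.overCat U ⥤ᵇ ofSp X.left :=
  BasedFunctor.comp (ofOverCat U) (ofSpMap x)

/-- the trivial torsors over the slice -/
noncomputable abbrev trivOf {U : Over S} (x : (yon S).obj U ⟶ X.left) :
    FibCat.overCat U ⥤ᵇ SpQuotSt K G aX :=
  BasedFunctor.comp (ptOf x) (spQuotMap K G aX)

/-- the point of the total sheaf given by a morphism from a trivial torsor -/
noncomputable def sOf {A : SpQuotObj K G aX} {a : (ofSp X.left).obj}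
    (ρ : (spQuotMap K G aX).toFunctor.obj a ⟶ A) : (yon S).obj a.base ⟶ A.P.left :=
  (unitSec G (Over.mk (secYon a ≫ X.hom)) ≫ ρ.top).left

lemma sOf_homOfSec (A : SpQuotObj K G aX) (a : (ofSp X.left).obj)
    (s : (yon S).obj a.base ⟶ A.P.left) (hx : s ≫ A.φ.left = secYon a) :
    sOf (homOfSec A a s hx) = s := by
  unfold sOf
  rw [homOfSec_top, unitSec_act G A.act]
  rfl

lemma eq_homOfSec_sOf (A : SpQuotObj K G aX) (a : (ofSp X.left).obj)
    (ρ : (spQuotMap K G aX).toFunctor.obj a ⟶ A) :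
    ∃ hx : sOf ρ ≫ A.φ.left = secYon a, ρ = homOfSec A a (sOf ρ) hx := by
  obtain ⟨s, hx, h⟩ := eq_homOfSec A a ρ
  have hs : sOf ρ = s := by rw [h, sOf_homOfSec]
  subst hs
  exact ⟨hx, h⟩

lemma unitSec_naturality {T T' : Over B} (f : T' ⟶ T) :
    unitSec G T' ≫ (G ◁ f) = f ≫ unitSec G T := by
  apply CartesianMonoidalCategory.hom_ext
  · simp only [Category.assoc, whiskerLeft_fst, unitSec_fst, comp_one]
  · simp only [Category.assoc, whiskerLeft_snd, unitSec_snd, unitSec_snd_assoc, Category.comp_id]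

lemma sOf_map_comp {A : SpQuotObj K G aX} {a a' : (ofSp X.left).obj} (m : a' ⟶ a)
    (ρ : (spQuotMap K G aX).toFunctor.obj a ⟶ A) :
    sOf ((spQuotMap K G aX).toFunctor.map m ≫ ρ) = (yon S).map m.hom ≫ sOf ρ := by
  unfold sOf
  rw [SpQuotObj.comp_top, spQuotMap_map_top, ← Category.assoc, unitSec_naturality, Category.assoc]
  rfl

section P34
variable (hst : Stk.IsStack (AlgSp.J S) (SpQuotSt K G aX))
  (hX : ∀ {T : Over S} (a b : (yon S).obj T ⟶ X.left), a = b)
  {U : Over S} (y : FibCat.overCat U ⥤ᵇ FibCatFp.P (SpQuotSt K G aX) (SpQuotSt K G aX))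
  (x : (yon S).obj U ⟶ X.left) (τ : yy₁ y ≅ trivOf (K := K) (aX := aX) x)

/-- the morphism from the trivial torsor attached to a section of the sheaf of isomorphisms -/
noncomputable def rhoOf {T : Over S} (a : HSec (yy₁ y) (xx₂ y) T) :
    (spQuotMap K G aX).toFunctor.obj ((ptOf x).toFunctor.obj (Over.mk a.c)) ⟶ xx₂ y :=
  τ.inv.toNatTrans.app (Over.mk a.c) ≫ a.h

lemma rhoOf_lift {T : Over S} (a : HSec (yy₁ y) (xx₂ y) T) :
    (SpQuotSt K G aX).p.IsHomLift a.c (rhoOf y x τ a) :=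
  comp_id_left _ _ _ _ (app_lift τ.inv (Over.mk a.c)) a.lift

/-- the point of the second torsor attached to a section of the sheaf of isomorphisms -/
noncomputable def mSec {T : Over S} (a : HSec (yy₁ y) (xx₂ y) T) :
    (yon S).obj T ⟶ (xx₂ y).P.left :=
  sOf (rhoOf y x τ a)

lemma mSec_map {T T' : Over S} (k : T' ⟶ T) (a : HSec (yy₁ y) (xx₂ y) T) :
    mSec y x τ (HSec.map k a) = (yon S).map k ≫ mSec y x τ a := by
  have hn := τ.inv.toNatTrans.naturality (kHom k a.c (k ≫ a.c) rfl)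
  have h1 : rhoOf y x τ (HSec.map k a) =
      (spQuotMap K G aX).toFunctor.map ((ptOf x).toFunctor.map (kHom k a.c (k ≫ a.c) rfl)) ≫
        rhoOf y x τ a := by
    unfold rhoOf
    have e : τ.inv.toNatTrans.app (Over.mk (k ≫ a.c)) ≫
        (yy₁ y).toFunctor.map (kHom k a.c (k ≫ a.c) rfl) ≫ a.h =
        (trivOf (K := K) (aX := aX) x).toFunctor.map (kHom k a.c (k ≫ a.c) rfl) ≫
          τ.inv.toNatTrans.app (Over.mk a.c) ≫ a.h := by
      rw [← Category.assoc, ← hn, Category.assoc]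
    exact e
  unfold mSec
  rw [h1, sOf_map_comp]
  rfl

lemma mSec_piU {T : Over S} (a : HSec (yy₁ y) (xx₂ y) T) :
    mSec y x τ a ≫ piU (yy₂ y) = (yon S).map a.c := by
  obtain ⟨hx, h⟩ := eq_homOfSec_sOf (xx₂ y) _ (rhoOf y x τ a)
  let t' : T ⟶ U := (yon S).preimage (mSec y x τ a ≫ piU (yy₂ y))
  have ht' : (yon S).map t' = mSec y x τ a ≫ piU (yy₂ y) := (yon S).map_preimage _
  have hl := homOfSec_lift (yy₂ y) _ (sOf (rhoOf y x τ a)) hx t' ht'
  rw [← h] at hl
  have : t' = a.c := Groth.Agent.Lib.Helper24.QuotSt5.lift_unique _ _ _ _ hl (rhoOf_lift y x τ a)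
  rw [← ht', this]

/-- the comparison morphism of sheaves -/
noncomputable def mm : FF hst y ⟶ (xx₂ y).P.left :=
  ObjectProperty.homMk
    { app := fun T => ↾(fun a : HSec (yy₁ y) (xx₂ y) T.unop => yEquiv (mSec y x τ a))
      naturality := fun T T' k => by
        ext a
        change yEquiv (mSec y x τ (HSec.map k.unop a)) = (xx₂ y).P.left.obj.map k (yEquiv _)
        rw [mSec_map]
        exact Groth.Agent.Lib.Helper24.SpQ1.yEquiv_map_comp k.unop _ }

lemma mm_app (T : Over S) (a : HSec (yy₁ y) (xx₂ y) T) :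
    (mm hst y x τ).hom.app (op T) a = yEquiv (mSec y x τ a) := rfl

lemma mm_piU : mm hst y x τ ≫ piU (yy₂ y) = ππ hst y := by
  apply ObjectProperty.hom_ext
  ext T a
  obtain ⟨T⟩ := T
  change (piU (yy₂ y)).hom.app (op T) (yEquiv (mSec y x τ a)) = ⟨a.c⟩
  rw [← yEquiv_comp, mSec_piU]
  exact Groth.Agent.Lib.Helper24.QuotSt7.yEquiv_yon_map a.c

end P34

section P34b
variable (hst : Stk.IsStack (AlgSp.J S) (SpQuotSt K G aX))
  (hX : ∀ {T : Over S} (a b : (yon S).obj T ⟶ X.left), a = b)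
  {U : Over S} (y : FibCat.overCat U ⥤ᵇ FibCatFp.P (SpQuotSt K G aX) (SpQuotSt K G aX))
  (x : (yon S).obj U ⟶ X.left) (τ : yy₁ y ≅ trivOf (K := K) (aX := aX) x)

lemma tau_hom_inv (c : Over U) :
    τ.hom.toNatTrans.app c ≫ τ.inv.toNatTrans.app c = 𝟙 _ := by
  have := congrArg (fun t => t.toNatTrans.app c) τ.hom_inv_id
  exact this

lemma tau_inv_hom (c : Over U) :
    τ.inv.toNatTrans.app c ≫ τ.hom.toNatTrans.app c = 𝟙 _ := by
  have := congrArg (fun t => t.toNatTrans.app c) τ.inv_hom_id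
  exact this

lemma mSec_injective {T : Over S} (a a' : HSec (yy₁ y) (xx₂ y) T)
    (h : mSec y x τ a = mSec y x τ a') : a = a' := by
  have hc : a.c = a'.c := by
    apply (yon S).map_injective
    rw [← mSec_piU y x τ a, ← mSec_piU y x τ a', h]
  obtain ⟨c, ha, la⟩ := a
  obtain ⟨c', ha', la'⟩ := a'
  dsimp only at hc
  subst hc
  obtain ⟨hx1, h1⟩ := eq_homOfSec_sOf (xx₂ y) _ (rhoOf y x τ ⟨c, ha, la⟩)
  obtain ⟨hx2, h2⟩ := eq_homOfSec_sOf (xx₂ y) _ (rhoOf y x τ ⟨c, ha', la'⟩)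
  have hs : sOf (rhoOf y x τ ⟨c, ha, la⟩) = sOf (rhoOf y x τ ⟨c, ha', la'⟩) := h
  have h3 : rhoOf y x τ ⟨c, ha, la⟩ = rhoOf y x τ ⟨c, ha', la'⟩ := by
    rw [h1, h2]
    congr 1
  have h4 : τ.inv.toNatTrans.app (Over.mk c) ≫ ha = τ.inv.toNatTrans.app (Over.mk c) ≫ ha' := h3
  have h5 : ha = ha' := by
    have := congrArg (fun t => τ.hom.toNatTrans.app (Over.mk c) ≫ t) h4
    simp only at this
    rw [← Category.assoc, ← Category.assoc, tau_hom_inv, Category.id_comp, Category.id_comp]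
      at this
    exact this
  subst h5
  rfl

include hX in
lemma mSec_surjective {T : Over S} (s : (yon S).obj T ⟶ (xx₂ y).P.left) :
    ∃ a : HSec (yy₁ y) (xx₂ y) T, mSec y x τ a = s := by
  let c : T ⟶ U := (yon S).preimage (s ≫ piU (yy₂ y))
  have hc : (yon S).map c = s ≫ piU (yy₂ y) := (yon S).map_preimage _
  let a₀ : (ofSp X.left).obj := (ptOf x).toFunctor.obj (Over.mk c)
  have hx : s ≫ (xx₂ y).φ.left = secYon a₀ := hX _ _
  let ρ : (spQuotMap K G aX).toFunctor.obj a₀ ⟶ xx₂ y := homOfSec (xx₂ y) a₀ s hx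
  have hρ : (SpQuotSt K G aX).p.IsHomLift c ρ := homOfSec_lift (yy₂ y) a₀ s hx c hc
  have hl : (SpQuotSt K G aX).p.IsHomLift c (τ.hom.toNatTrans.app (Over.mk c) ≫ ρ) :=
    comp_id_left _ _ _ _ (app_lift τ.hom (Over.mk c)) hρ
  refine ⟨⟨c, τ.hom.toNatTrans.app (Over.mk c) ≫ ρ, hl⟩, ?_⟩
  unfold mSec rhoOf
  dsimp only
  rw [← Category.assoc, tau_inv_hom]
  have e : 𝟙 ((spQuotMap K G aX).toFunctor.obj a₀) ≫ ρ = ρ := Category.id_comp ρ
  exact (congrArg sOf e).trans (sOf_homOfSec (xx₂ y) a₀ s hx)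

include hX in
lemma isIso_mm : IsIso (mm hst y x τ) := by
  apply Groth.Agent.Lib.Helper24.Slice.isIso_of_bijective
  intro T
  obtain ⟨T⟩ := T
  constructor
  · intro a a' h
    have h' : yEquiv (mSec y x τ a) = yEquiv (mSec y x τ a') := h
    exact mSec_injective y x τ a a' (yEquiv.injective h')
  · intro p
    obtain ⟨a, ha⟩ := mSec_surjective hX y x τ (yEquiv.symm p)
    refine ⟨a, ?_⟩
    change yEquiv (mSec y x τ a) = p
    rw [ha, Equiv.apply_symm_apply]

end P34b

section Yoneda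
variable {C : Type*} [Category C] {𝒵 : BasedCategory C}

/-- functors from a slice to a category fibred in groupoids are isomorphic as soon as their
values at the identity are related by a morphism over the identity -/
lemma nonempty_iso_of_hom_at_id (h𝒵 : FibCat.IsFibGrpd 𝒵.p) {W : C}
    (F F' : FibCat.overCat W ⥤ᵇ 𝒵)
    (φ : F.toFunctor.obj (Over.mk (𝟙 W)) ⟶ F'.toFunctor.obj (Over.mk (𝟙 W)))
    (hφ : 𝒵.p.IsHomLift (𝟙 W) φ) : Nonempty (F ≅ F') := by
  have hs : 𝒵.p.IsStronglyCartesian (𝟙 W) φ :=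
    Groth.Agent.Lib.Helper24.FibCatFpGen.scart_of_isFibGrpd 𝒵.p h𝒵 _ _
  have hiso : IsIso φ := Functor.IsStronglyCartesian.isIso_of_base_isIso 𝒵.p (𝟙 W) φ
  have hE := evalAtId_isEquivalence_of_isFibGrpd h𝒵 W
  have hinv : 𝒵.p.IsHomLift (𝟙 W) (inv φ) := inferInstance
  let i : (FibCat.evalAtId 𝒵 W).obj F ≅ (FibCat.evalAtId 𝒵 W).obj F' :=
    { hom := ⟨φ, hφ⟩
      inv := ⟨inv φ, hinv⟩
      hom_inv_id := Subtype.ext (IsIso.hom_inv_id φ)
      inv_hom_id := Subtype.ext (IsIso.inv_hom_id φ) }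
  exact ⟨(FibCat.evalAtId 𝒵 W).preimageIso i⟩

end Yoneda

section Final
open Groth.Agent.Lib.Helper24.AlgStRepS

variable (hB : IsAlgSpace B) (hG : IsAlgSpace G.left)
  (hX : ∀ {T : Over S} (a b : (yon S).obj T ⟶ X.left), a = b)
  (P : MorphismProperty (Sp S)) (hbc : StableBC P) (hloc : IsLocalOnBase IsFppfCover P)
  (hP : P G.hom)

include hB hG hX hbc hloc hP in
/-- the sheaf of isomorphisms from a trivialised torsor -/
theorem local_good {U : Over S}
    (y : FibCat.overCat U ⥤ᵇ FibCatFp.P (SpQuotSt Scheme.fppfPrecoverage G aX)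
      (SpQuotSt Scheme.fppfPrecoverage G aX))
    (x : (yon S).obj U ⟶ X.left)
    (τ : yy₁ y ≅ trivOf (K := Scheme.fppfPrecoverage) (aX := aX) x) :
    IsAlgSpace (FF (Groth.Agent.Lib.Helper24.SpQ8.isStack_spQuotSt aX) y) ∧
      P (ππ (Groth.Agent.Lib.Helper24.SpQ8.isStack_spQuotSt aX) y) := by
  have hst := Groth.Agent.Lib.Helper24.SpQ8.isStack_spQuotSt aX
  have hiso := isIso_mm hst hX y x τ
  have hA : IsAlgSpace (xx₂ y).P.left :=
    Groth.Agent.Lib.Helper24.SpQ11.isAlgSpace_P hB hG (xx₂ y)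
  have hF : IsAlgSpace (FF hst y) := hA.of_iso (asIso (mm hst y x τ)).symm
  refine ⟨hF, ?_⟩
  have hp : P (piU (yy₂ y)) :=
    Groth.Agent.Lib.Helper24.SpQ13.piU_prop hB hG P hbc hloc hP (yy₂ y)
  have sq : IsPullback (mm hst y x τ) (ππ hst y) (piU (yy₂ y)) (𝟙 _) :=
    IsPullback.of_horiz_isIso ⟨by rw [mm_piU, Category.comp_id]⟩
  exact hbc hA (IsAlgSpace.yon_obj _) hF (IsAlgSpace.yon_obj _) _ _ _ _ sq hp

end Final

section Global
open Groth.Agent.Lib.Helper24.AlgStRepS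

variable (hB : IsAlgSpace B) (hG : IsAlgSpace G.left)
  (hX : ∀ {T : Over S} (a b : (yon S).obj T ⟶ X.left), a = b)
  (P : MorphismProperty (Sp S)) (hbc : StableBC P) (hloc : IsLocalOnBase IsFppfCover P)
  (hP : P G.hom)

include hX in
/-- a section of the first torsor over `g` trivialises the restriction of `y₁` along `g` -/
lemma exists_triv {U V : Over S}
    (y : FibCat.overCat U ⥤ᵇ FibCatFp.P (SpQuotSt Scheme.fppfPrecoverage G aX)
      (SpQuotSt Scheme.fppfPrecoverage G aX)) (g : V ⟶ U)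
    (s : (yon S).obj V ⟶ (tors (yy₁ y)).P.left)
    (hs : s ≫ piU (yy₁ y) = (yon S).map g) :
    ∃ x : (yon S).obj V ⟶ X.left,
      Nonempty (yy₁ (yg y g) ≅ trivOf (K := Scheme.fppfPrecoverage) (aX := aX) x) := by
  have h𝒳 : FibCat.IsFibGrpd (SpQuotSt Scheme.fppfPrecoverage G aX).p :=
    Groth.Agent.Lib.Helper24.SpQ4.isFibGrpd
  let x : (yon S).obj V ⟶ X.left := s ≫ (tors (yy₁ y)).φ.left
  let a₀ : (ofSp X.left).obj := (ptOf x).toFunctor.obj (Over.mk (𝟙 V))
  have hx : s ≫ (tors (yy₁ y)).φ.left = secYon a₀ := hX _ _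
  let ρ : (spQuotMap Scheme.fppfPrecoverage G aX).toFunctor.obj a₀ ⟶ tors (yy₁ y) :=
    homOfSec (tors (yy₁ y)) a₀ s hx
  have hρ : (SpQuotSt Scheme.fppfPrecoverage G aX).p.IsHomLift g ρ :=
    homOfSec_lift (yy₁ y) a₀ s hx g hs.symm
  let mu' : (yy₁ (yg y g)).toFunctor.obj (Over.mk (𝟙 V)) ⟶ tors (yy₁ y) :=
    (yy₁ y).toFunctor.map (tOf ((Over.map g).obj (Over.mk (𝟙 V))))
  have hmu : (SpQuotSt Scheme.fppfPrecoverage G aX).p.IsHomLift g mu' := by
    have h := map_tOf_lift (yy₁ y) ((Over.map g).obj (Over.mk (𝟙 V)))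
    have e : ((Over.map g).obj (Over.mk (𝟙 V))).hom = g := Category.id_comp g
    rw [e] at h
    exact h
  have hmus : (SpQuotSt Scheme.fppfPrecoverage G aX).p.IsStronglyCartesian g mu' :=
    Groth.Agent.Lib.Helper24.FibCatFpGen.scart_of_isFibGrpd _ h𝒳 _ _
  obtain ⟨χ, ⟨h1, h2⟩, _⟩ := Functor.IsStronglyCartesian.universal_property
    (SpQuotSt Scheme.fppfPrecoverage G aX).p g mu' (𝟙 V) g (Category.id_comp g).symm ρ
  obtain ⟨i⟩ := nonempty_iso_of_hom_at_id h𝒳
    (trivOf (K := Scheme.fppfPrecoverage) (aX := aX) x) (yy₁ (yg y g)) χ h1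
  exact ⟨x, ⟨i.symm⟩⟩

include hB hG hX hbc hloc hP in
/-- the sheaf of isomorphisms of two torsors is an algebraic space with the properties of the
group which are fppf local on the base -/
theorem good {U : Over S}
    (y : FibCat.overCat U ⥤ᵇ FibCatFp.P (SpQuotSt Scheme.fppfPrecoverage G aX)
      (SpQuotSt Scheme.fppfPrecoverage G aX)) :
    IsAlgSpace (FF (Groth.Agent.Lib.Helper24.SpQ8.isStack_spQuotSt aX) y) ∧
      P (ππ (Groth.Agent.Lib.Helper24.SpQ8.isStack_spQuotSt aX) y) := by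
  have hst := Groth.Agent.Lib.Helper24.SpQ8.isStack_spQuotSt aX
  obtain ⟨R, hR, hsec⟩ := Groth.Agent.Lib.Helper24.SpQ7.loc_of_base_eq (tors (yy₁ y))
    (tors_base (yy₁ y))
  obtain ⟨I, V, f, hfR, hcov⟩ := Groth.Agent.Lib.Helper24.SpQ11.exists_small_subfamily R hR
  have hcov' := (Scheme.ofArrows_mem_precoverage_iff
    (P := @Flat ⊓ @LocallyOfFinitePresentation)).1 hcov
  choose s hs using fun i => hsec (f i) (hfR i)
  let W : I → Over S := fun i => Over.mk (f i ≫ U.hom)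
  let g : ∀ i, W i ⟶ U := fun i => Over.homMk (f i)
  have hloc_i : ∀ i, IsAlgSpace (FF hst (yg y (g i))) ∧ P (ππ hst (yg y (g i))) := fun i => by
    obtain ⟨x, ⟨τ⟩⟩ := exists_triv hX y (g i) (s i) (hs i)
    exact local_good hB hG hX P hbc hloc hP (yg y (g i)) x τ
  have hF : IsAlgSpace (FF hst y) :=
    Groth.Agent.Lib.Helper24.SpQ9.isAlgSpace_of_local (ππ hst y) W g (fun i => hcov'.2 i)
      hcov'.1 (fun i => FF hst (yg y (g i))) (fun i => (hloc_i i).1)
      (fun i => rr hst y (g i)) (fun i => ππ hst (yg y (g i)))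
      (fun i => isPullback_rr hst y (g i))
  refine ⟨hF, ?_⟩
  exact (hloc (fun i => (yon S).obj (W i)) (fun i => (yon S).map (g i)) (IsAlgSpace.yon_obj _)
    (fun i => IsAlgSpace.yon_obj _)
    (Groth.Agent.Lib.Helper24.SpQ13.isFppfCover_of_mem V f hcov) (ππ hst y) hF
    (fun i => FF hst (yg y (g i))) (fun i => ππ hst (yg y (g i))) (fun i => rr hst y (g i))
    (fun i => (hloc_i i).1) (fun i => isPullback_rr hst y (g i))).2 fun i => (hloc_i i).2

include hB hG hX hbc hloc hP in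
/-- the diagonal of the quotient stack of a subterminal sheaf (in particular of the classifying
stack) has every property of `G ⟶ B` which is stable under base change and fppf local on the
base -/
theorem repByAlgSpWith_diag :
    RepByAlgSpWith P (FibCat.diag (FibCat.toSelf (SpQuotSt Scheme.fppfPrecoverage G aX))) :=
  repByAlgSpWith_diag_of (Groth.Agent.Lib.Helper24.SpQ8.isStack_spQuotSt aX) P
    fun U y => good hB hG hX P hbc hloc hP y

end Global

section BG
open Groth.Agent.Lib.Helper24.AlgStRepS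

lemma hom_yon_terminal_ext {T : Over S}
    (a b : (yon S).obj T ⟶ (yon S).obj (Over.mk (𝟙 S))) : a = b := by
  have ha : a = (yon S).map ((yon S).preimage a) := ((yon S).map_preimage a).symm
  have hb : b = (yon S).map ((yon S).preimage b) := ((yon S).map_preimage b).symm
  rw [ha, hb]
  congr 1
  apply Over.OverMorphism.ext
  have h1 := Over.w ((yon S).preimage a)
  have h2 := Over.w ((yon S).preimage b)
  simp only [Over.mk_hom] at h1 h2
  exact ((Category.comp_id _).symm.trans h1).trans (h2.symm.trans (Category.comp_id _))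

/-- S18328 -/
theorem spBG_diag_and_triv (G : Over ((yon S).obj (Over.mk (𝟙 S)))) [GrpObj G]
    (hG : IsAlgSpace G.left) (P : MorphismProperty (Sp S)) [P.IsStableUnderBaseChange]
    (hloc : IsLocalOnBase IsFppfCover P) (hP : P G.hom) :
    RepByAlgSpWith P (FibCat.diag (FibCat.toSelf (SpBG Scheme.fppfPrecoverage G))) ∧
      RepByAlgSpWith P (spQuotMap Scheme.fppfPrecoverage G (trivGAction G)) := by
  have hB : IsAlgSpace ((yon S).obj (Over.mk (𝟙 S))) := IsAlgSpace.yon_obj _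
  have hbc : StableBC P := fun _ _ _ _ _ _ _ _ a b a' b' sq h =>
    MorphismProperty.of_isPullback sq h
  refine ⟨?_, Groth.Agent.Lib.Helper24.SpQ13.repByAlgSpWith_spQuotMap_of hB hG P hbc hloc hP⟩
  exact repByAlgSpWith_diag (aX := trivGAction G) hB hG
    (fun a b => hom_yon_terminal_ext a b) P hbc hloc hP

end BG

end Groth.Agent.Lib.Helper24.SpQ14
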