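import Groth.Agent.Lib.Helper24.GerbHomeo1
import Groth.Agent.Lib.Helper24.SpQ14
import Groth.Agent.Lib.Helper24.FibCatYoneda
import Groth.Agent.Lib.Helper24.AlgStFpAlg
set_option autoImplicit false
set_option linter.unusedSectionVars false
set_option linter.unusedSimpArgs false
set_option linter.style.haveILetI false
set_option linter.unusedVariables false
universe u
set_option backward.isDefEq.respectTransparency false
set_option backward.isDefEq.respectTransparency.types false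

/-! A gerbe morphism of algebraic stacks is a universal homeomorphism. -/

namespace Groth.Agent.Lib.Helper24.GerbHomeo2
open CategoryTheory CategoryTheory.Limits AlgebraicGeometry Opposite AlgSt
open Groth.Agent.Lib.Helper24.FibCatFpMap Groth.Agent.Lib.Helper24.FibCatEquiv
open Groth.Agent.Lib.Helper24.FibGrpd Groth.Agent.Lib.Helper24.FibCatFpGen
open Groth.Agent.Lib.Helper24.GerbFormal Groth.Agent.Lib.Helper24.GerbCoarse
open Groth.Agent.Lib.Helper24.AlgStPts1 Groth.Agent.Lib.Helper24.AlgStPts4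
open Groth.Agent.Lib.Helper24.FibCatYoneda Groth.Agent.Lib.Helper24.GerbHomeo1
open Groth.Agent.Lib.Helper14.AS

variable {S : Scheme.{u}} {𝒳 𝒴 : AlgSt.Cat S}

/-- scheme charts of the target of a gerbe lift fppf locally to the source -/
theorem exists_local_lift (h𝒳 : FibCat.IsFibGrpd 𝒳.p) (h𝒴 : FibCat.IsFibGrpd 𝒴.p)
    (f : 𝒳 ⥤ᵇ 𝒴) (hf : Gerb.LocSurjObj (AlgSp.J S) f) {U : Over S}
    (y : FibCat.overCat U ⥤ᵇ 𝒴) (v : ↥U.left) :
    ∃ (W : Over S) (w : W ⟶ U) (z : FibCat.overCat W ⥤ᵇ 𝒳), Flat w.left ∧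
      LocallyOfFinitePresentation w.left ∧ v ∈ Set.range w.left ∧
      Nonempty (BasedFunctor.comp z f ≅ BasedFunctor.comp (AlgSt.overMap w) y) := by
  have hfib : 𝒳.p.IsFibered := isFibered_of_isFibGrpd 𝒳.p h𝒳
  let y₀ : 𝒴.obj := y.toFunctor.obj (Over.mk (𝟙 U))
  have hy₀ : 𝒴.p.obj y₀ = U := y.w_obj _
  obtain ⟨R, hR, hloc⟩ := locSurjObj_at (AlgSp.J S) hf y₀ hy₀
  obtain ⟨R', hR', hle⟩ := (mem_J_iff R).1 hR
  obtain ⟨W, w, hw, hfl, hlfp, hv⟩ := exists_of_mem_KS hR' v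
  obtain ⟨x, n, hn⟩ := hloc w (hle _ _ hw)
  have hx : 𝒳.p.obj x = W := (f.w_obj x).symm.trans (IsHomLift.domain_eq 𝒴.p w n)
  refine ⟨W, w, pbBased hx, hfl, hlfp, hv, ?_⟩
  let a : Over U := (AlgSt.overMap w).toFunctor.obj (Over.mk (𝟙 W))
  have ha : a.hom = w := Category.id_comp _
  have h1 : 𝒴.p.IsHomLift a.hom (y.toFunctor.map (tOf a)) := map_tOf_lift y a
  rw [ha] at h1
  have h2 : 𝒳.p.IsHomLift (𝟙 W) (pbMap hx (Over.mk (𝟙 W))) := pbMap_id_lift hx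
  have h3 : 𝒴.p.IsHomLift (𝟙 W) (f.toFunctor.map (pbMap hx (Over.mk (𝟙 W)))) := inferInstance
  have h4 : 𝒴.p.IsHomLift (𝟙 W ≫ w) (f.toFunctor.map (pbMap hx (Over.mk (𝟙 W))) ≫ n) :=
    inferInstance
  rw [Category.id_comp] at h4
  obtain ⟨χ, hχl, -⟩ := exists_iso_factor h𝒴 w
    (f.toFunctor.map (pbMap hx (Over.mk (𝟙 W))) ≫ n) (y.toFunctor.map (tOf a)) h4 h1
  exact Groth.Agent.Lib.Helper24.SpQ14.nonempty_iso_of_hom_at_id h𝒴
    (BasedFunctor.comp (pbBased hx) f) (BasedFunctor.comp (AlgSt.overMap w) y) χ.hom hχl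

theorem isOpenMap_map_of_isGerbeOver
    (h𝒳 : AlgSt.IsAlgStack Scheme.fppfPrecoverage 𝒳)
    (h𝒴 : AlgSt.IsAlgStack Scheme.fppfPrecoverage 𝒴)
    (f : 𝒳 ⥤ᵇ 𝒴) (hf : Gerb.IsGerbeOver (AlgSp.J S) f) : IsOpenMap (Points.map f) := by
  intro O hO
  rw [Points.isOpen_iff]
  intro U y _
  rw [isOpen_iff_mem_nhds]
  intro v hv
  obtain ⟨o, ho, hov⟩ := hv
  obtain ⟨W, w, z, hfl, hlfp, ⟨t, ht⟩, ⟨i⟩⟩ :=
    exists_local_lift h𝒳.isStack.1 h𝒴.isStack.1 f hf.1 y v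
  have hinj := (bijective_map_of_isGerbeOver h𝒳.isStack.1 h𝒴.isStack.1 f hf).1
  have key : ∀ t' : ↥W.left, Points.map f (Points.ofChart z t') = Points.ofChart y (w.left t') := by
    intro t'
    rw [← ofChart_comp, ofChart_congr i, ofChart_overMap]
  have hN : IsOpen (w.left '' (Points.ofChart z ⁻¹' O)) :=
    w.left.isOpenMap _ ((continuous_ofChart h𝒳 z).isOpen_preimage O hO)
  refine Filter.mem_of_superset (hN.mem_nhds ?_) ?_
  · refine ⟨t, ?_, ht⟩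
    have : Points.ofChart z t = o := hinj (by rw [key, ht, hov])
    change Points.ofChart z t ∈ O
    rw [this]; exact ho
  · rintro _ ⟨t', ht', rfl⟩
    exact ⟨Points.ofChart z t', ht', key t'⟩

theorem isHomeomorph_map_of_isGerbeOver
    (h𝒳 : AlgSt.IsAlgStack Scheme.fppfPrecoverage 𝒳)
    (h𝒴 : AlgSt.IsAlgStack Scheme.fppfPrecoverage 𝒴)
    (f : 𝒳 ⥤ᵇ 𝒴) (hf : Gerb.IsGerbeOver (AlgSp.J S) f) : IsHomeomorph (Points.map f) :=
  ⟨continuous_map h𝒴 f, isOpenMap_map_of_isGerbeOver h𝒳 h𝒴 f hf,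
    bijective_map_of_isGerbeOver h𝒳.isStack.1 h𝒴.isStack.1 f hf⟩

end Groth.Agent.Lib.Helper24.GerbHomeo2

namespace Groth.Agent.Lib.Helper24.GerbHomeo2
open CategoryTheory AlgebraicGeometry AlgSt

variable {S : Scheme.{u}} {𝒳 𝒴 : AlgSt.Cat S}

theorem isUnivHomeo_of_isGerbeOver
    (h𝒳 : AlgSt.IsAlgStack Scheme.fppfPrecoverage 𝒳)
    (h𝒴 : AlgSt.IsAlgStack Scheme.fppfPrecoverage 𝒴)
    (f : 𝒳 ⥤ᵇ 𝒴) (hf : Gerb.IsGerbeOver (AlgSp.J S) f) :
    AlgSt.IsUnivHomeo Scheme.fppfPrecoverage f := by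
  intro 𝒵 h𝒵 g
  exact isHomeomorph_map_of_isGerbeOver
    (Groth.Agent.Lib.Helper24.AlgStFpAlg.isAlgStack_fp h𝒴.isStack h𝒴.diag h𝒵 h𝒳 g f) h𝒵
    (FibCat.fpFst g f)
    (Groth.Agent.Lib.Helper24.GerbFormal.isGerbeOver_fpFst (AlgSp.J S) h𝒴.isStack.1 h𝒵.isStack.1
      f g hf)

end Groth.Agent.Lib.Helper24.GerbHomeo2
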