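import Groth.Prelude.Def_StGerb2
import Groth.Agent.Lib.Helper24.PshFun
import Mathlib.CategoryTheory.Sites.LocallySurjective
import Mathlib.CategoryTheory.Sites.LocallyInjective
set_option autoImplicit false
set_option linter.unusedSimpArgs false
set_option linter.unusedSectionVars false
open CategoryTheory Opposite
universe v₂ u₂ v u
set_option backward.isDefEq.respectTransparency false
set_option backward.isDefEq.respectTransparency.types false

/-! A gerbe over (the category of elements of) a presheaf: the presheaf of isomorphism classes maps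
to the presheaf, locally surjectively and locally injectively. -/

namespace Groth.Agent.Lib.Helper24.GerbIso1
open Groth.Agent.Lib.Helper24.PshFun Gerb

variable {C : Type u} [Category.{v} C] {P : Cᵒᵖ ⥤ Type u₂}
variable {𝒳 : BasedCategory.{v₂, u₂} C} [FibCat.IsFibGrpd 𝒳.p]
variable (π : 𝒳 ⥤ᵇ Stk.ofPsh P)

/-- the section of an object of the fibre over `U` -/
def sF {U : C} (a : 𝒳.p.Fiber U) : P.obj (op U) :=
  P.map (eqToHom a.2.symm).op (sec π a.1)

lemma sF_fib (x : 𝒳.obj) : sF π (fib x) = sec π x := by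
  unfold sF
  simp

/-- a morphism over `f` gives the restriction of sections -/
lemma sF_of_hom {U V : C} (f : V ⟶ U) (a : 𝒳.p.Fiber U) (b : 𝒳.p.Fiber V) (φ : b.1 ⟶ a.1)
    (hφ : 𝒳.p.IsHomLift f φ) : sF π b = P.map f.op (sF π a) := by
  have h1 := sec_compat π φ
  have h2 : 𝒳.p.map φ = eqToHom b.2 ≫ f ≫ eqToHom a.2.symm :=
    IsHomLift.fac' 𝒳.p f φ
  unfold sF
  rw [← h1, h2]
  simp only [← Functor.map_comp_apply, ← op_comp]
  simp

lemma sF_of_rel {U : C} (a b : 𝒳.p.Fiber U) (h : IsoRel 𝒳 U a b) : sF π a = sF π b := by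
  obtain ⟨φ⟩ := h
  have := sF_of_hom π (𝟙 U) b a φ.1 φ.2
  simpa using this

/-- the map from the presheaf of isomorphism classes -/
noncomputable def cMap : isoClPsh 𝒳 ⟶ P where
  app U := ↾(Quot.lift (fun a => sF π a) (fun a b h => sF_of_rel π a b h))
  naturality := by
    intro U V f
    ext t
    obtain ⟨a⟩ := t
    change sF π (pullFib 𝒳 f.unop a) = P.map f (sF π a)
    exact sF_of_hom π f.unop a (pullFib 𝒳 f.unop a) (pullHom 𝒳 a.1 _) (by
      have h := pullHom_isHomLift 𝒳 a.1 (f.unop ≫ eqToHom a.2.symm)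
      refine IsHomLift.of_fac' 𝒳.p _ _ (pull_over 𝒳 a.1 _) a.2 ?_
      rw [pullHom_map])

lemma cMap_mk {U : C} (a : 𝒳.p.Fiber U) : (cMap π).app (op U) (Quot.mk _ a) = sF π a := rfl

theorem cMap_fib (x : 𝒳.obj) :
    (cMap π).app (op (𝒳.p.obj x)) (Quot.mk _ (fib x)) =
      P.map (eqToHom (π.w_obj x).symm).op (π.obj x).sec := by
  rw [cMap_mk, sF_fib]
  rfl

variable (J : GrothendieckTopology C)

theorem isLocallySurjective_cMap (h : LocSurjObj J π) :
    Presheaf.IsLocallySurjective J (cMap π) := by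
  constructor
  intro U s
  obtain ⟨R, hR, hR'⟩ := h ⟨U, s⟩
  refine J.superset_covering ?_ hR
  intro V f hf
  obtain ⟨x, g, hg⟩ := hR' f hf
  have hdom : (Stk.ofPsh P).p.obj (π.obj x) = V := IsHomLift.domain_eq (Stk.ofPsh P).p f g
  have hx : 𝒳.p.obj x = V := (π.w_obj x).symm.trans hdom
  refine ⟨Quot.mk _ ⟨x, hx⟩, ?_⟩
  rw [cMap_mk]
  have h1 := g.map_sec
  have h2 : g.hom = eqToHom hdom ≫ f ≫ eqToHom rfl := IsHomLift.fac' (Stk.ofPsh P).p f g
  unfold sF sec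
  rw [← h1, h2]
  simp only [← Functor.map_comp_apply, ← op_comp]
  simp

theorem equalizerSieve_mem (h : LocSurjHom J π) (U : C) (a a' : 𝒳.p.Fiber U)
    (htt' : sF π a = sF π a') :
    Presheaf.equalizerSieve (F := isoClPsh 𝒳) (X := op U) (Quot.mk _ a) (Quot.mk _ a') ∈ J U := by
  obtain ⟨xa, ha⟩ := a
  subst ha
  obtain ⟨xa', ha'⟩ := a'
  -- the morphism `π xa ⟶ π xa'` over the identity
  have hb : P.map (eqToHom ((base_eq π xa).trans (ha'.symm.trans (base_eq π xa').symm))).op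
      (π.obj xa').sec = (π.obj xa).sec := by
    unfold sF sec at htt'
    have e := congrArg (P.map (eqToHom (base_eq π xa)).op) htt'
    simp only [eqToHom_refl, op_id, Functor.map_id_apply] at e
    simp only [← Functor.map_comp_apply, ← op_comp, eqToHom_trans, eqToHom_refl,
      op_id, Functor.map_id_apply, Category.comp_id, Category.id_comp] at e
    exact e.symm
  let b : π.obj xa ⟶ π.obj xa' :=
    ⟨eqToHom ((base_eq π xa).trans (ha'.symm.trans (base_eq π xa').symm)), hb⟩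
  have hbl : (Stk.ofPsh P).p.IsHomLift (𝟙 (𝒳.p.obj xa)) b := by
    refine IsHomLift.of_fac' _ _ _ (base_eq π xa) ((base_eq π xa').trans ha') ?_
    change b.hom = _
    simp [b]
  obtain ⟨R, hR, hR'⟩ := h xa xa' b hbl
  refine J.superset_covering ?_ hR
  intro V f hf
  obtain ⟨x₀, φ, ψ, hφ, hψ, -⟩ := hR' f hf
  have hx₀ : 𝒳.p.obj x₀ = V := IsHomLift.domain_eq 𝒳.p f φ
  change (isoClPsh 𝒳).map f.op (Quot.mk _ _) = (isoClPsh 𝒳).map f.op (Quot.mk _ _)
  change Quot.mk _ (pullFib 𝒳 f ⟨xa, rfl⟩) = Quot.mk _ (pullFib 𝒳 f ⟨xa', ha'⟩)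
  have hφ' : 𝒳.p.IsHomLift (f ≫ eqToHom (rfl : 𝒳.p.obj xa = 𝒳.p.obj xa).symm) φ := by
    simpa using hφ
  have hψ' : 𝒳.p.IsHomLift (f ≫ eqToHom ha'.symm) ψ := by
    refine IsHomLift.of_fac' 𝒳.p _ _ hx₀ rfl ?_
    have := IsHomLift.fac' 𝒳.p f ψ
    rw [this]
    simp
  obtain ⟨χ, hχ, -⟩ := exists_hom_pull 𝒳 xa _ φ hφ'
  obtain ⟨χ', hχ', -⟩ := exists_hom_pull 𝒳 xa' _ ψ hψ'
  have e1 : Quot.mk (IsoRel 𝒳 V) ⟨x₀, hx₀⟩ = Quot.mk _ (pullFib 𝒳 f ⟨xa, rfl⟩) :=
    Quot.sound ⟨⟨χ, hχ⟩⟩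
  have e2 : Quot.mk (IsoRel 𝒳 V) ⟨x₀, hx₀⟩ = Quot.mk _ (pullFib 𝒳 f ⟨xa', ha'⟩) :=
    Quot.sound ⟨⟨χ', hχ'⟩⟩
  exact e1.symm.trans e2

theorem isLocallyInjective_cMap (h : LocSurjHom J π) :
    Presheaf.IsLocallyInjective J (cMap π) := by
  constructor
  intro U t t' htt'
  obtain ⟨a⟩ := t
  obtain ⟨a'⟩ := t'
  exact equalizerSieve_mem π J h U.unop a a' htt'

end Groth.Agent.Lib.Helper24.GerbIso1
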