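import Groth.Agent.Lib.Helper24.FamNB
import Groth.Agent.Lib.Helper24.AlgStEqv
import Groth.Agent.Lib.Helper24.GerbFormal
set_option autoImplicit false
universe w w₁ v₁ w₂ v₂ w₃ v₃ w₄ v₄ u
set_option linter.style.haveILetI false
set_option linter.unusedSectionVars false
set_option linter.unusedVariables false
set_option backward.isDefEq.respectTransparency false
set_option backward.isDefEq.respectTransparency.types false
open CategoryTheory CategoryTheory.Limits AlgebraicGeometry Opposite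

/-! Stacks 06NB for categories representable by algebraic spaces. -/

namespace Groth.Agent.Lib.Helper24.GerbNB
open AlgSp Groth.Agent.Lib.Helper14.AS Groth.Agent.Lib.Helper24.FamNB
open Groth.Agent.Lib.Helper24.PshFun Groth.Agent.Lib.Helper24.PshBridge
open Groth.Agent.Lib.Helper24.AlgStRepS Groth.Agent.Lib.Helper24.AlgStEqv
open Groth.Agent.Lib.Helper24.FibCatEquiv Groth.Agent.Lib.Helper24.AlgStRep
open Groth.Agent.Lib.Helper24.AlgStBridge

variable {S : Scheme.{u}}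

/-- categorical joint local surjectivity on objects of a family of functors over `(Sch/S)` -/
def JointLocSurjObj {ι : Type w} {𝒜 : ι → BasedCategory.{v₁, w₁} (Over S)}
    {ℬ : BasedCategory.{v₂, w₂} (Over S)} (ρ : ∀ i, 𝒜 i ⥤ᵇ ℬ) : Prop :=
  ∀ b : ℬ.obj, ∃ R ∈ AlgSp.J S (ℬ.p.obj b), ∀ ⦃W : Over S⦄ (k : W ⟶ ℬ.p.obj b), R k →
    ∃ (i : ι) (a : (𝒜 i).obj) (m : (ρ i).toFunctor.obj a ⟶ b), ℬ.p.IsHomLift k m

theorem jointLocSurj_spMapOf {ι : Type w} {F : ι → AlgSp.Sp S} {G : AlgSp.Sp S}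
    (Φ : ∀ i, AlgSt.ofSp (F i) ⥤ᵇ AlgSt.ofSp G) (h : JointLocSurjObj Φ) :
    JointLocSurj (fun i => spMapOf (Φ i)) := by
  intro V b
  let a : (AlgSt.ofSp G).obj := ⟨V, yEquiv b⟩
  obtain ⟨R, hR, hloc⟩ := h a
  refine ⟨R, hR, fun W w hw => ?_⟩
  obtain ⟨i, a', m, hm⟩ := hloc w hw
  have hW : ((Φ i).toFunctor.obj a').base = W := IsHomLift.domain_eq (AlgSt.ofSp G).p w m
  have hW' : a'.base = W := (base_eq (Φ i) a').symm.trans hW
  obtain ⟨W', s'⟩ := a'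
  change W' = W at hW'
  subst hW'
  refine ⟨i, yEquiv.symm s', ?_⟩
  apply yEquiv.injective
  have h1 := (AlgSp.J S).uliftYonedaEquiv_comp (yEquiv.symm s') (spMapOf (Φ i))
  have h2 := (AlgSp.J S).uliftYonedaEquiv_naturality b w
  rw [Equiv.apply_symm_apply] at h1
  refine h1.trans (Eq.trans ?_ h2)
  change sec (Φ i) ⟨W', s'⟩ = G.obj.map w.op (yEquiv b)
  have hfac := IsHomLift.fac' (AlgSt.ofSp G).p w m
  have hms := m.map_sec
  unfold sec
  rw [← hms]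
  change G.obj.map _ (G.obj.map m.hom.op (yEquiv b)) = _
  rw [← Functor.map_comp_apply, ← op_comp]
  have hmw : eqToHom (base_eq (Φ i) ⟨W', s'⟩).symm ≫ m.hom = w := by
    change _ ≫ (AlgSt.ofSp G).p.map m = w
    rw [hfac]
    simp
  rw [hmw]
  rfl


section Transfer
open Groth.Agent.Lib.Helper24.FibCatFpMap

variable {ι : Type w} {𝒜 : ι → BasedCategory.{v₁, w₁} (Over S)}
  {ℬ : BasedCategory.{v₂, w₂} (Over S)}

/-- joint local surjectivity is stable under postcomposition with an equivalence -/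
theorem JointLocSurjObj.comp_equiv {ρ : ∀ i, 𝒜 i ⥤ᵇ ℬ} (hρ : JointLocSurjObj ρ)
    {ℬ' : BasedCategory.{v₄, w₄} (Over S)} (e : ℬ ⥤ᵇ ℬ') (he : FibCat.IsEquivOver e) :
    JointLocSurjObj (fun i => BasedFunctor.comp (ρ i) e) := by
  obtain ⟨e', ⟨α⟩, ⟨β⟩⟩ := he
  intro b
  have hb : ℬ.p.obj (e'.toFunctor.obj b) = ℬ'.p.obj b := e'.w_obj b
  apply Groth.Agent.Lib.Helper24.GerbFormal.exists_sieve_of_eq (AlgSp.J S) hb
  obtain ⟨R, hR, hloc⟩ := hρ (e'.toFunctor.obj b)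
  refine ⟨R, hR, fun W k hk => ?_⟩
  obtain ⟨i, a, m, hm⟩ := hloc k hk
  have h1 : ℬ'.p.IsHomLift k (e.toFunctor.map m) := inferInstance
  have h2 : ℬ'.p.IsHomLift (𝟙 (ℬ.p.obj (e'.toFunctor.obj b))) (appIso β b).hom :=
    appIso_hom_isHomLift β b hb.symm
  refine ⟨i, a, e.toFunctor.map m ≫ (appIso β b).hom, ?_⟩
  have h3 : ℬ'.p.IsHomLift k (e.toFunctor.map m ≫ (appIso β b).hom) :=
    IsHomLift.comp_lift_id_right' (p := ℬ'.p) k (e.toFunctor.map m)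
      (ℬ.p.obj (e'.toFunctor.obj b)) (appIso β b).hom
  exact (IsHomLift.lift_comp_eqToHom_iff _ _ _ _).mpr h3

/-- joint local surjectivity is stable under precomposition with equivalences -/
theorem JointLocSurjObj.equiv_comp {ρ : ∀ i, 𝒜 i ⥤ᵇ ℬ} (hρ : JointLocSurjObj ρ)
    {𝒜' : ι → BasedCategory.{v₃, w₃} (Over S)} (e : ∀ i, 𝒜' i ⥤ᵇ 𝒜 i)
    (he : ∀ i, FibCat.IsEquivOver (e i)) :
    JointLocSurjObj (fun i => BasedFunctor.comp (e i) (ρ i)) := by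
  intro b
  obtain ⟨R, hR, hloc⟩ := hρ b
  refine ⟨R, hR, fun W k hk => ?_⟩
  obtain ⟨i, a, m, hm⟩ := hloc k hk
  obtain ⟨e', ⟨α⟩, ⟨β⟩⟩ := he i
  have ha : (𝒜 i).p.obj a = W :=
    ((ρ i).w_obj a).symm.trans (IsHomLift.domain_eq ℬ.p k m)
  have h2 : (𝒜 i).p.IsHomLift (𝟙 W) (appIso β a).hom := appIso_hom_isHomLift β a ha
  have h3 : ℬ.p.IsHomLift (𝟙 W) ((ρ i).toFunctor.map (appIso β a).hom) := inferInstance
  refine ⟨i, e'.toFunctor.obj a, (ρ i).toFunctor.map (appIso β a).hom ≫ m, ?_⟩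
  exact IsHomLift.comp_lift_id_left' (p := ℬ.p) W ((ρ i).toFunctor.map (appIso β a).hom) k m

end Transfer


section Main

/-- family descent property of a property of morphisms of algebraic spaces -/
def FamDesc (P : MorphismProperty (AlgSp.Sp S)) : Prop :=
  ∀ {ι : Type u} {X : ι → AlgSp.Sp S} {Y Z : AlgSp.Sp S}, (∀ i, IsAlgSpace (X i)) → IsAlgSpace Y →
    ∀ (g : ∀ i, X i ⟶ Y) (h : Y ⟶ Z), JointLocSurj g → (∀ i, P (g i ≫ h)) → P h

theorem famDesc_flat : FamDesc (S := S) (LocP @Flat) :=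
  fun hX hY g h hg => (locP_of_family hX hY g h hg).1

theorem famDesc_lft : FamDesc (S := S) (LocP @LocallyOfFiniteType) :=
  fun hX hY g h hg => (locP_of_family hX hY g h hg).2.1

theorem famDesc_lfp : FamDesc (S := S) (LocP @LocallyOfFinitePresentation) :=
  fun hX hY g h hg => (locP_of_family hX hY g h hg).2.2

/-- Stacks 06NB for categories representable by algebraic spaces, family version -/
theorem hasP_of_family {P : MorphismProperty (AlgSp.Sp S)} (hP : FamDesc P)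
    {𝒜 : BasedCategory.{v₁, w₁} (Over S)} {G : AlgSp.Sp S} (π : 𝒜 ⥤ᵇ AlgSt.ofSp G)
    (h𝒜 : AlgSt.RepByAlgSp 𝒜) {ι : Type u} {𝒜i : ι → BasedCategory.{v₂, w₂} (Over S)}
    (ρ : ∀ i, 𝒜i i ⥤ᵇ 𝒜) (hρ : JointLocSurjObj ρ)
    (H : ∀ i, HasP P (BasedFunctor.comp (ρ i) π)) : HasP P π := by
  obtain ⟨F, e, he⟩ := h𝒜
  obtain ⟨e', ⟨α⟩, ⟨β⟩⟩ := he
  have he' : FibCat.IsEquivOver e' := ⟨e, ⟨β⟩, ⟨α⟩⟩
  choose Fi ei hei hPi using H
  refine ⟨F, e, ⟨e', ⟨α⟩, ⟨β⟩⟩, ?_⟩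
  let Φ : ∀ i, AlgSt.ofSp (Fi i).obj ⥤ᵇ AlgSt.ofSp F.obj := fun i =>
    BasedFunctor.comp (ei i) (BasedFunctor.comp (ρ i) e')
  have hΦ : JointLocSurjObj Φ :=
    JointLocSurjObj.equiv_comp (JointLocSurjObj.comp_equiv hρ e' he') ei hei
  refine hP (fun i => (Fi i).property) F.property (fun i => spMapOf (Φ i))
    (spMapOf (BasedFunctor.comp e π)) (jointLocSurj_spMapOf Φ hΦ) (fun i => ?_)
  rw [← spMapOf_comp]
  have iso : BasedFunctor.comp (Φ i) (BasedFunctor.comp e π) ≅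
      BasedFunctor.comp (ei i) (BasedFunctor.comp (ρ i) π) :=
    whiskerLeftIso (ei i) (whiskerLeftIso (ρ i) (whiskerRightIso β π))
  rw [spMapOf_congr iso]
  exact hPi i

end Main

end Groth.Agent.Lib.Helper24.GerbNB
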