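import Groth.Agent.Lib.Helper24.AlgStLocQ13
import Groth.Agent.Lib.Helper24.AlgStPts5
set_option autoImplicit false
open CategoryTheory AlgebraicGeometry Opposite
universe u
set_option backward.isDefEq.respectTransparency false
set_option backward.isDefEq.respectTransparency.types false

/-! Algebraic stacks receiving a surjective flat morphism from the spectrum of a field. -/

namespace Groth.Agent.Lib.Helper24.GerbRes1
open Groth.Agent.Lib.Helper24.FibCatFpGen Groth.Agent.Lib.Helper24.FibGrpd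
open Groth.Agent.Lib.Helper24.AlgStPts1 Groth.Agent.Lib.Helper24.AlgStPts3
open Groth.Agent.Lib.Helper24.AlgStPts5
open Groth.Agent.Lib.Helper24.AlgStLocQ3 Groth.Agent.Lib.Helper24.AlgStLocQ5
open Groth.Agent.Lib.Helper24.AlgStLocQ8 Groth.Agent.Lib.Helper24.AlgStLocQ1
open Groth.Agent.Lib.Helper24.AlgStCalc Groth.Agent.Lib.Helper24.AlgStDiag
open Groth.Agent.Lib.Helper24.AlgStAtlas Groth.Agent.Lib.Helper24.AlgStProps
open Groth.Agent.Lib.Helper24.AlgStFpAlg Groth.Agent.Lib.Helper24.FibCatOverMap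
open Groth.Agent.Lib.Helper24.AlgStSmooth Groth.Agent.Lib.Helper24.AlgStLocQ4
open Groth.Agent.Lib.Helper24.AlgStLocQ6 Groth.Agent.Lib.Helper24.AlgStRep
open CategoryTheory.Limits AlgSt

variable {S : Scheme.{u}}

instance subsingleton_spec_field (k : Type u) [Field k] :
    Subsingleton ↥(Spec (CommRingCat.of k)) :=
  inferInstanceAs (Subsingleton (PrimeSpectrum k))

instance nonempty_spec_field (k : Type u) [Field k] :
    Nonempty ↥(Spec (CommRingCat.of k)) :=
  inferInstanceAs (Nonempty (PrimeSpectrum k))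

/-- every morphism to the spectrum of a field is flat -/
theorem flat_to_field (k : Type u) [Field k] {X : Scheme.{u}} (f : X ⟶ Spec (CommRingCat.of k)) :
    Flat f := inferInstance

theorem subsingleton_points_overCat_field (k : Type u) [Field k]
    (a : Spec (CommRingCat.of k) ⟶ S) : Subsingleton (Points (FibCat.overCat (Over.mk a))) := by
  have : Subsingleton ↥(Over.mk a).left := subsingleton_spec_field k
  constructor
  intro p q
  obtain ⟨t, rfl⟩ := (bijective_sch (Over.mk a)).2 p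
  obtain ⟨t', rfl⟩ := (bijective_sch (Over.mk a)).2 q
  rw [Subsingleton.elim t t']

theorem nonempty_points_overCat_field (k : Type u) [Field k]
    (a : Spec (CommRingCat.of k) ⟶ S) : Nonempty (Points (FibCat.overCat (Over.mk a))) :=
  have : Nonempty ↥(Over.mk a).left := nonempty_spec_field k
  ⟨sch (Over.mk a) (Classical.arbitrary _)⟩

section
variable {𝒵 : AlgSt.Cat S} (h𝒵 : AlgSt.IsAlgStack Scheme.fppfPrecoverage 𝒵)
  {k : Type u} [Field k] {a : Spec (CommRingCat.of k) ⟶ S}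
  (z : FibCat.overCat (Over.mk a) ⥤ᵇ 𝒵)

include h𝒵 in
theorem subsingleton_points_of_fieldPt (hzs : AlgSt.RepByAlgSpWith AlgSp.IsSurjectiveMor z) :
    Subsingleton (Points 𝒵) := by
  have hs := surjective_map_of_repByAlgSpWith h𝒵.isStack.1 z hzs
  have := subsingleton_points_overCat_field k a
  constructor
  intro p q
  obtain ⟨p', rfl⟩ := hs p
  obtain ⟨q', rfl⟩ := hs q
  rw [Subsingleton.elim p' q']

include z in
theorem nonempty_points_of_fieldPt : Nonempty (Points 𝒵) :=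
  (nonempty_points_overCat_field k a).map (Points.map z)

include h𝒵 in
theorem repByAlgSp1_chart {U : Over S} (x : FibCat.overCat U ⥤ᵇ 𝒵) : AlgSt.RepByAlgSp1 x :=
  (repByAlgSp1_diag_iff h𝒵.isStack.1).1 h𝒵.diag U x

include h𝒵 in
/-- a field point of a stack with at most one point is surjective -/
theorem surjective_fieldPt_of_subsingleton (hsub : Subsingleton (Points 𝒵)) :
    AlgSt.RepByAlgSpWith AlgSp.IsSurjectiveMor z := by
  have hT : FibCat.IsFibGrpd (FibCat.overCat (Over.mk a)).p :=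
    StkFpCrit.isFibGrpd_overForget _
  refine (isSurjective_iff_repByAlgSpWith hT h𝒵.isStack.1 z (repByAlgSp1_chart h𝒵 z)).1 ?_
  intro p
  obtain ⟨q⟩ := nonempty_points_overCat_field k a
  exact ⟨q, Subsingleton.elim _ _⟩

end

/-- a morphism from an algebraic stack to the spectrum of a field is flat -/
theorem locQ_flat_to_field {𝒲 : AlgSt.Cat S} (h𝒲 : AlgSt.IsAlgStack Scheme.fppfPrecoverage 𝒲)
    {k : Type u} [Field k] (a : Spec (CommRingCat.of k) ⟶ S)
    (φ : 𝒲 ⥤ᵇ FibCat.overCat (Over.mk a)) : AlgSt.LocQ (AlgSp.LocP @Flat) φ := by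
  obtain ⟨U, x, hx, hx'⟩ := h𝒲.atlas
  obtain ⟨h, ⟨i⟩⟩ := exists_iso_overMapC (BasedFunctor.comp x φ)
  refine ⟨U, Over.mk a, x, BasedFunctor.id _, h, i, hx, hx',
    smooth_of_isEquivOver _ (isEquivOver_id _), ?_⟩
  have : Flat h.left := flat_to_field k h.left
  exact locP_yon_map_of Groth.Agent.Lib.Helper14.AS.etLocal_flat this

/-- S16804 -/
theorem fieldPt_surjective_flat {𝒵 : AlgSt.Cat S} (h𝒵 : AlgSt.IsAlgStack Scheme.fppfPrecoverage 𝒵)
    {k : Type u} [Field k] {a : Spec (CommRingCat.of k) ⟶ S}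
    (z : FibCat.overCat (Over.mk a) ⥤ᵇ 𝒵)
    (hzs : AlgSt.RepByAlgSpWith AlgSp.IsSurjectiveMor z)
    (hzf : AlgSt.RepByAlgSpWith (AlgSp.LocP @Flat) z)
    {k' : Type u} [Field k'] {a' : Spec (CommRingCat.of k') ⟶ S}
    (z' : FibCat.overCat (Over.mk a') ⥤ᵇ 𝒵) :
    AlgSt.RepByAlgSpWith AlgSp.IsSurjectiveMor z' ∧ AlgSt.RepByAlgSpWith (AlgSp.LocP @Flat) z' := by
  refine ⟨surjective_fieldPt_of_subsingleton h𝒵 z' (subsingleton_points_of_fieldPt h𝒵 z hzs), ?_⟩
  have hT : AlgSt.IsAlgStack Scheme.fppfPrecoverage (FibCat.overCat (Over.mk a)) :=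
    isAlgStack_of_repByAlgSp (repByAlgSp_overCat _)
  have hT' : AlgSt.IsAlgStack Scheme.fppfPrecoverage (FibCat.overCat (Over.mk a')) :=
    isAlgStack_of_repByAlgSp (repByAlgSp_overCat _)
  have hz1 : AlgSt.LocQ (AlgSp.LocP @Flat) z :=
    locQ_of_repByAlgSpWith hT h𝒵 z Groth.Agent.Lib.Helper24.AlgSpSmLocal.isSmoothLocalST_flat hzf
  have hz3 : AlgSt.IsSurjective z := surjective_map_of_repByAlgSpWith h𝒵.isStack.1 z hzs
  have hfp : AlgSt.IsAlgStack Scheme.fppfPrecoverage (FibCat.fp z z') :=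
    isAlgStack_fp h𝒵.isStack h𝒵.diag hT hT' z z'
  have H : AlgSt.LocQ (AlgSp.LocP @Flat) (FibCat.fpFst z z') :=
    locQ_flat_to_field hfp a (FibCat.fpFst z z')
  have h1 : AlgSt.LocQ (AlgSp.LocP @Flat) z' := locQ_flat_of_fpFst hT' h𝒵 hT z' z hz1 hz3 H
  exact repByAlgSpWith_of_locQ hT' h𝒵 z' Groth.Agent.Lib.Helper24.AlgSpSmLocal.isSmoothLocalST_flat
    good_flat.bc good_flat.loc (repByAlgSp1_chart h𝒵 z') h1

end Groth.Agent.Lib.Helper24.GerbRes1
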