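import Groth.Agent.Lib.Helper24.GerbRes1
import Groth.Agent.Lib.Helper14.FpqcCover1
import Groth.Agent.Lib.Helper14.AlgSpQCMor
set_option autoImplicit false
open CategoryTheory AlgebraicGeometry Opposite
universe u
set_option backward.isDefEq.respectTransparency false
set_option backward.isDefEq.respectTransparency.types false

/-! A monomorphism from a nonempty algebraic space to the spectrum of a field is an isomorphism. -/

namespace Groth.Agent.Lib.Helper24.GerbRes2
open Groth.Agent.Lib.Helper24.GerbRes1 Groth.Agent.Lib.Helper14.AS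
open Groth.Agent.Lib.Helper24.AlgStLocQ6 Groth.Agent.Lib.Helper24.AlgStSmLoc
open CategoryTheory.Limits AlgSp

variable {S : Scheme.{u}}

theorem isIso_of_mono_to_field {F : Sp S} (hF : IsAlgSpace F) {k : Type u} [Field k]
    (a : Spec (CommRingCat.of k) ⟶ S) (m : F ⟶ (yon S).obj (Over.mk a)) [Mono m]
    (hne : Nonempty (Points F)) : IsIso m := by
  obtain ⟨x⟩ := hne
  obtain ⟨p, rfl⟩ := Points.mk_surjective x
  let φ : (yon S).obj p.pt ⟶ F := yEquiv.symm p.val
  let j : p.pt ⟶ Over.mk a := (yon S).preimage (φ ≫ m)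
  have hj : (yon S).map j = φ ≫ m := (yon S).map_preimage _
  have hqc : IsQuasiCompactMor ((yon S).map j) := by
    apply isQuasiCompactMor_of_repWith
    rw [repWith_yon_map_iff]
    have : IsAffineHom j.left := by
      change IsAffineHom (X := Spec (CommRingCat.of p.K)) (Y := Spec (CommRingCat.of k)) j.left
      infer_instance
    infer_instance
  have hflat : LocP @Flat ((yon S).map j) :=
    locP_yon_map_of etLocal_flat (flat_to_field k j.left)
  have hsurj : IsSurjectiveMor ((yon S).map j) := by
    apply isSurjectiveMor_yon_map_of_surjective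
    have : Nonempty ↥p.pt.left := nonempty_spec_field p.K
    have : Subsingleton ↥(Over.mk a).left := subsingleton_spec_field k
    exact ⟨fun y => ⟨Classical.arbitrary _, Subsingleton.elim _ _⟩⟩
  have hcov := isFpqcCover_of_qc_flat_surjective (IsAlgSpace.yon_obj p.pt)
    (IsAlgSpace.yon_obj (Over.mk a)) ((yon S).map j) hqc hflat hsurj
  have sq := IsPullback.of_hasPullback m ((yon S).map j)
  have hP : IsAlgSpace (pullback m ((yon S).map j)) :=
    isAlgSpace_of_isPullback (repDiag_of_isAlgSpace (IsAlgSpace.yon_obj (Over.mk a))) hF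
      (IsAlgSpace.yon_obj p.pt) sq
  have hsnd : IsIso (pullback.snd m ((yon S).map j)) := by
    have hs : IsSplitEpi (pullback.snd m ((yon S).map j)) :=
      ⟨⟨⟨pullback.lift φ (𝟙 _) (by rw [Category.id_comp, hj]), pullback.lift_snd _ _ _⟩⟩⟩
    exact isIso_of_mono_of_isSplitEpi _
  have h := isLocalOnBase_fpqc_isomorphisms (fun _ : PUnit.{u + 1} => (yon S).obj p.pt)
    (fun _ => (yon S).map j) (IsAlgSpace.yon_obj (Over.mk a)) (fun _ => IsAlgSpace.yon_obj p.pt)
    hcov m hF (fun _ => pullback m ((yon S).map j)) (fun _ => pullback.snd _ _)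
    (fun _ => pullback.fst _ _) (fun _ => hP) (fun _ => sq)
  exact h.2 fun _ => hsnd

end Groth.Agent.Lib.Helper24.GerbRes2
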