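import Groth.Agent.Lib.Helper24.GerbRes3
import Groth.Agent.Lib.Helper24.AlgStOpenSub3
import Groth.Agent.Lib.Helper24.AlgStFaithRep
import Groth.Agent.Lib.Helper24.AlgStMono2
import Groth.Prelude.Def_StGerb
set_option autoImplicit false
open CategoryTheory AlgebraicGeometry Opposite
universe u
set_option backward.isDefEq.respectTransparency false
set_option backward.isDefEq.respectTransparency.types false

/-! Field points factor through monomorphisms hitting them; residual gerbes. -/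

namespace Groth.Agent.Lib.Helper24.GerbRes4
open Groth.Agent.Lib.Helper24.GerbRes1 Groth.Agent.Lib.Helper24.GerbRes2
open Groth.Agent.Lib.Helper24.GerbRes3
open Groth.Agent.Lib.Helper24.FibCatFpGen Groth.Agent.Lib.Helper24.FibGrpd
open Groth.Agent.Lib.Helper24.FibCatYoneda Groth.Agent.Lib.Helper24.FibCatEquiv
open Groth.Agent.Lib.Helper24.FibCatInertiaEquiv
open Groth.Agent.Lib.Helper24.AlgStPts1 Groth.Agent.Lib.Helper24.AlgStPts2
open Groth.Agent.Lib.Helper24.AlgStPts3 Groth.Agent.Lib.Helper24.AlgStPts5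
open Groth.Agent.Lib.Helper24.AlgStRepS Groth.Agent.Lib.Helper24.AlgStRep
open Groth.Agent.Lib.Helper24.AlgStBridge Groth.Agent.Lib.Helper24.PshBridge
open Groth.Agent.Lib.Helper24.AlgStOpenSub3
open CategoryTheory.Limits AlgSt

variable {S : Scheme.{u}}

/-- a field point of `𝒳` lying in the image of a monomorphism `𝒵 ⟶ 𝒳` lifts to `𝒵` -/
theorem exists_lift_of_isMono_fieldPt {𝒵 𝒳 : AlgSt.Cat S}
    (h𝒵 : FibCat.IsFibGrpd 𝒵.p) (h𝒳 : FibCat.IsFibGrpd 𝒳.p) (i : 𝒵 ⥤ᵇ 𝒳) (hi : AlgSt.IsMono i)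
    {K : Type u} [Field K] {a : Spec (CommRingCat.of K) ⟶ S}
    (p : FibCat.overCat (Over.mk a) ⥤ᵇ 𝒳)
    (hpt : ∃ (t : ↥(Over.mk a).left) (z : AlgSt.Points 𝒵),
      AlgSt.Points.ofChart p t = AlgSt.Points.map i z) :
    ∃ (ζ : 𝒵.obj) (e : i.toFunctor.obj ζ ≅ p.toFunctor.obj (Over.mk (𝟙 (Over.mk a)))),
      𝒳.p.IsHomLift (𝟙 (Over.mk a)) e.hom := by
  have hT : FibCat.IsFibGrpd (FibCat.overCat (Over.mk a)).p := StkFpCrit.isFibGrpd_overForget _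
  obtain ⟨F, e, he, hm⟩ := hi (Over.mk a) p
  have hmono : Mono (AlgSt.spMapOfOver (BasedFunctor.comp e (FibCat.fpFst p i))) := hm
  have hneF : Nonempty (AlgSp.Points F.obj) := by
    obtain ⟨t, z, h⟩ := hpt
    obtain ⟨w, -⟩ := Groth.Agent.Lib.Helper26.StackPoints.exists_points_fp h𝒵 h𝒳 hT i p
      (sch (Over.mk a) t) z h
    obtain ⟨w', -⟩ := (bijective_map_of_isEquivOver e he).2 w
    exact ⟨(ptsEquiv F.obj).symm w'⟩
  have hiso : IsIso (AlgSt.spMapOfOver (BasedFunctor.comp e (FibCat.fpFst p i))) :=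
    isIso_of_mono_to_field F.property a _ hneF
  have hΦ := isEquivOver_of_isIso_spMapOfOver _ hiso
  have hfst : FibCat.IsEquivOver (FibCat.fpFst p i) := isEquivOver_of_comp_left e _ he hΦ
  obtain ⟨-, hess⟩ := props_of_isEquivOver _ hfst
  obtain ⟨η, θ, hθ⟩ := hess (Over.mk (𝟙 (Over.mk a)))
  have hθ' : (FibCat.overCat (Over.mk a)).p.IsHomLift (𝟙 (Over.mk a)) θ.hom := hθ
  have hcl : (FibCat.overCat (Over.mk a)).p.obj η.obj.fst = Over.mk a :=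
    IsHomLift.domain_eq _ (𝟙 (Over.mk a)) θ.hom
  have h1 : 𝒳.p.IsHomLift (𝟙 (Over.mk a)) η.obj.iso.inv := by
    have h0 : 𝒳.p.IsHomLift (𝟙 ((FibCat.overCat (Over.mk a)).p.obj η.obj.fst)) η.obj.iso.hom :=
      η.property
    have h0' : 𝒳.p.IsHomLift (𝟙 (Over.mk a)) η.obj.iso.hom :=
      Eq.mp (congrArg (fun Z => 𝒳.p.IsHomLift (𝟙 Z) η.obj.iso.hom) hcl) h0
    infer_instance
  have h2 : 𝒳.p.IsHomLift (𝟙 (Over.mk a)) (p.toFunctor.map θ.hom) := inferInstance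
  refine ⟨η.obj.snd, η.obj.iso.symm ≪≫ p.toFunctor.mapIso θ, ?_⟩
  change 𝒳.p.IsHomLift (𝟙 (Over.mk a)) (η.obj.iso.inv ≫ p.toFunctor.map θ.hom)
  have h4 : 𝒳.p.IsHomLift (𝟙 (Over.mk a) ≫ 𝟙 (Over.mk a))
      (η.obj.iso.inv ≫ p.toFunctor.map θ.hom) := inferInstance
  simpa using h4

/-- the inclusion of a strictly full substack which is algebraic is a monomorphism -/
theorem isMono_subIncl {𝒳 : AlgSt.Cat S} (h𝒳 : AlgSt.IsAlgStack Scheme.fppfPrecoverage 𝒳)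
    (Q : 𝒳.obj → Prop) (hZ : AlgSt.IsAlgStack Scheme.fppfPrecoverage (AlgSt.fullSub 𝒳 Q)) :
    AlgSt.IsMono (AlgSt.subIncl 𝒳 Q) := by
  have h1 : (AlgSt.subIncl 𝒳 Q).toFunctor.Faithful :=
    inferInstanceAs (ObjectProperty.ι Q).Faithful
  have h2 : (AlgSt.subIncl 𝒳 Q).toFunctor.Full := inferInstanceAs (ObjectProperty.ι Q).Full
  exact Groth.Agent.Lib.Helper24.AlgStMono.isMono_of_full _
    (Groth.Agent.Lib.Helper24.AlgStFaithRep.repByAlgSp1_of_faithful hZ h𝒳 _)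

/-- S16813 -/
theorem factors_of_isResGerbe {𝒳 : AlgSt.Cat S} (h𝒳 : AlgSt.IsAlgStack Scheme.fppfPrecoverage 𝒳)
    (x : AlgSt.Points 𝒳) (Q : 𝒳.obj → Prop)
    (hQ : Gerb.IsResGerbe Scheme.fppfPrecoverage 𝒳 x Q)
    {K : Type u} [Field K] {a : Spec (CommRingCat.of K) ⟶ S}
    (p : FibCat.overCat (Over.mk a) ⥤ᵇ 𝒳)
    (hp : ∀ t : ↥(Over.mk a).left, AlgSt.Points.ofChart p t = x) :
    ∃ q : FibCat.overCat (Over.mk a) ⥤ᵇ AlgSt.fullSub 𝒳 Q,
      Nonempty (BasedFunctor.comp q (AlgSt.subIncl 𝒳 Q) ≅ p) := by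
  obtain ⟨hcl, hZ, -, -, ⟨z⟩, -, hzx⟩ := hQ
  have hX := h𝒳.isStack.1
  have hmono := isMono_subIncl h𝒳 Q hZ
  have : Nonempty ↥(Over.mk a).left := nonempty_spec_field K
  obtain ⟨ζ, e, -⟩ := exists_lift_of_isMono_fieldPt hZ.isStack.1 hX _ hmono p
    ⟨Classical.arbitrary _, z, by rw [hp, hzx]⟩
  have h0 : Q (p.toFunctor.obj (Over.mk (𝟙 (Over.mk a)))) :=
    ObjectProperty.prop_of_iso Q e ζ.property
  have hq : ∀ c : Over (Over.mk a), Q (p.toFunctor.obj c) := fun c =>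
    prop_of_hom hX Q hZ.isStack.1 (p.toFunctor.map (tOf c)) h0
  exact ⟨{ toFunctor := ObjectProperty.lift Q p.toFunctor hq, w := p.w }, ⟨Iso.refl _⟩⟩

end Groth.Agent.Lib.Helper24.GerbRes4
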