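import Groth.Agent.Lib.Helper24.GerbRes1
import Groth.Agent.Lib.Helper24.AlgStSmLoc
import Groth.Agent.Lib.Helper24.AlgStDiagLft
import Groth.Agent.Lib.Helper14.AlgSpReduced
import Groth.Agent.Lib.Helper10.FlatPt3
set_option autoImplicit false
open CategoryTheory AlgebraicGeometry Opposite
universe u
set_option backward.isDefEq.respectTransparency false
set_option backward.isDefEq.respectTransparency.types false

/-! Refinements of two charts of an algebraic stack; reducedness and local Noetherianity of stacks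
covered by the spectrum of a field. -/

namespace Groth.Agent.Lib.Helper24.GerbRes5
open Groth.Agent.Lib.Helper24.FibCatFpGen Groth.Agent.Lib.Helper24.FibGrpd
open Groth.Agent.Lib.Helper24.AlgStPts1 Groth.Agent.Lib.Helper24.AlgStPts3
open Groth.Agent.Lib.Helper24.AlgStPts5
open Groth.Agent.Lib.Helper24.AlgStCalc Groth.Agent.Lib.Helper24.AlgStDiag
open Groth.Agent.Lib.Helper24.AlgStAtlas Groth.Agent.Lib.Helper24.AlgStProps
open Groth.Agent.Lib.Helper24.AlgStFpAlg Groth.Agent.Lib.Helper24.FibCatOverMap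
open Groth.Agent.Lib.Helper24.AlgStSmooth Groth.Agent.Lib.Helper24.AlgStRep
open Groth.Agent.Lib.Helper24.AlgStRepS Groth.Agent.Lib.Helper24.AlgStSchLocal
open Groth.Agent.Lib.Helper24.AlgStSmLoc Groth.Agent.Lib.Helper24.AlgStDiagLft
open Groth.Agent.Lib.Helper24.AlgStCalc2 Groth.Agent.Lib.Helper24.AlgStBridge
open Groth.Agent.Lib.Helper24.GerbRes1 Groth.Agent.Lib.Helper24.AlgStBoot
open Groth.Agent.Lib.Helper24.AlgStGC
open CategoryTheory.Limits AlgSt

variable {S : Scheme.{u}}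

/-- two charts of `𝒳` have a common refinement by a scheme, whose legs inherit the properties of
the opposite chart -/
theorem exists_refinement {𝒳 : AlgSt.Cat S} (h𝒳 : FibCat.IsFibGrpd 𝒳.p)
    (hΔ : AlgSt.RepByAlgSp1 (FibCat.diag (FibCat.toSelf 𝒳))) {U U' : Over S}
    (x : FibCat.overCat U ⥤ᵇ 𝒳) (x' : FibCat.overCat U' ⥤ᵇ 𝒳) :
    ∃ (W : Over S) (g : W ⟶ U) (g' : W ⟶ U'),
      Nonempty (BasedFunctor.comp (AlgSt.overMap g) x ≅ BasedFunctor.comp (AlgSt.overMap g') x') ∧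
      (∀ Q : MorphismProperty Scheme.{u}, Good (AlgSp.LocP Q (S := S)) →
        StableComp (AlgSp.LocP Q (S := S)) → (@Smooth : MorphismProperty Scheme.{u}) ≤ Q →
        (AlgSt.RepByAlgSpWith (AlgSp.LocP Q) x' → Q g.left) ∧
          (AlgSt.RepByAlgSpWith (AlgSp.LocP Q) x → Q g'.left)) ∧
      (AlgSt.RepByAlgSpWith AlgSp.IsSurjectiveMor x' → Surjective g.left) ∧
      (AlgSt.RepByAlgSpWith AlgSp.IsSurjectiveMor x → Surjective g'.left) := by
  have hU : FibCat.IsFibGrpd (FibCat.overCat U).p :=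
    Groth.Agent.Lib.Helper24.StkFpCrit.isFibGrpd_overForget U
  have hU' : FibCat.IsFibGrpd (FibCat.overCat U').p :=
    Groth.Agent.Lib.Helper24.StkFpCrit.isFibGrpd_overForget U'
  have hF : AlgSt.RepByAlgSp (FibCat.fp x x') :=
    repByAlgSp1_of_diag h𝒳 hΔ hU hU' (repByAlgSp_overCat U) (repByAlgSp_overCat U') _ _
  have hFfib : FibCat.IsFibGrpd (FibCat.fp x x').p := isFibGrpd_fp _ _ hU hU' h𝒳
  obtain ⟨X, eX, heX⟩ := hF
  obtain ⟨W, p, hp, hp'⟩ := Groth.Agent.Lib.Helper24.AlgStAtlas.hasAtlas_smooth_ofSp X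
  have hW : FibCat.IsFibGrpd (FibCat.overCat W).p :=
    Groth.Agent.Lib.Helper24.StkFpCrit.isFibGrpd_overForget W
  obtain ⟨g, ⟨i⟩⟩ := exists_iso_overMapC
    (BasedFunctor.comp (BasedFunctor.comp p eX) (FibCat.fpFst x x'))
  obtain ⟨g', ⟨i'⟩⟩ := exists_iso_overMapC
    (BasedFunctor.comp (BasedFunctor.comp p eX) (FibCat.fpSnd x x'))
  refine ⟨W, g, g', ⟨?_⟩, ?_, ?_, ?_⟩
  · exact ((whiskerRightIso i x).symm.trans
      (whiskerLeftIso (BasedFunctor.comp p eX) (FibCat.fpIso x x'))).trans (whiskerRightIso i' x')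
  · intro Q hQ hQc hle
    have hpQ : AlgSt.RepByAlgSpWith (AlgSp.LocP Q) (BasedFunctor.comp p eX) :=
      repByAlgSpWith_locP_mono hle _ (repByAlgSpWith_comp_equiv _ p eX heX hp)
    refine ⟨fun hx' => ?_, fun hx => ?_⟩
    · have hc1 : AlgSt.RepByAlgSpWith (AlgSp.LocP Q)
          (BasedFunctor.comp (BasedFunctor.comp p eX) (FibCat.fpFst x x')) :=
        repByAlgSpWith_comp hW hFfib hU _ hQ.nice hQc _ _ hpQ (repByAlgSpWith_fpFst _ x' x hx')
      exact AlgSp.locP_yon_map ((repByAlgSpWith_overMap_iff _ hQ g).1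
        (repByAlgSpWith_of_iso _ i hc1))
    · have hc3 : AlgSt.RepByAlgSpWith (AlgSp.LocP Q)
          (BasedFunctor.comp (BasedFunctor.comp p eX) (FibCat.fpSnd x x')) :=
        repByAlgSpWith_comp hW hFfib hU' _ hQ.nice hQc _ _ hpQ (repByAlgSpWith_fpSnd _ x x' hx)
      exact AlgSp.locP_yon_map ((repByAlgSpWith_overMap_iff _ hQ g').1
        (repByAlgSpWith_of_iso _ i' hc3))
  · intro hx''
    have hc2 : AlgSt.RepByAlgSpWith AlgSp.IsSurjectiveMor
        (BasedFunctor.comp (BasedFunctor.comp p eX) (FibCat.fpFst x x')) :=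
      repByAlgSpWith_comp hW hFfib hU _ good_isSurjectiveMor.nice stableComp_isSurjectiveMor _ _
        (repByAlgSpWith_comp_equiv _ p eX heX hp') (repByAlgSpWith_fpFst _ x' x hx'')
    exact surjective_of_isSurjectiveMor_yon_map g
      ((repByAlgSpWith_overMap_iff _ good_isSurjectiveMor g).1 (repByAlgSpWith_of_iso _ i hc2))
  · intro hx''
    have hc2 : AlgSt.RepByAlgSpWith AlgSp.IsSurjectiveMor
        (BasedFunctor.comp (BasedFunctor.comp p eX) (FibCat.fpSnd x x')) :=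
      repByAlgSpWith_comp hW hFfib hU' _ good_isSurjectiveMor.nice stableComp_isSurjectiveMor _ _
        (repByAlgSpWith_comp_equiv _ p eX heX hp') (repByAlgSpWith_fpSnd _ x x' hx'')
    exact surjective_of_isSurjectiveMor_yon_map g'
      ((repByAlgSpWith_overMap_iff _ good_isSurjectiveMor g').1 (repByAlgSpWith_of_iso _ i' hc2))


section FieldPt
variable {𝒵 : AlgSt.Cat S} (h𝒵 : AlgSt.IsAlgStack Scheme.fppfPrecoverage 𝒵)
  {k : Type u} [Field k] {a : Spec (CommRingCat.of k) ⟶ S}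
  (z : FibCat.overCat (Over.mk a) ⥤ᵇ 𝒵)

include h𝒵 in
/-- a stack covered flatly by the spectrum of a field is reduced -/
theorem smoothLocally_isReduced_of_fieldPt
    (hzs : AlgSt.RepByAlgSpWith AlgSp.IsSurjectiveMor z)
    (hzf : AlgSt.RepByAlgSpWith (AlgSp.LocP @Flat) z) :
    AlgSt.SmoothLocally (fun T => IsReduced T) 𝒵 := by
  intro U x hx
  obtain ⟨W, g, g', -, hQ, hs, -⟩ := exists_refinement h𝒵.isStack.1 h𝒵.diag x z
  have hgf : Flat g.left := (hQ @Flat good_flat stableComp_flat smooth_le_flat).1 hzf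
  have hgs : Surjective g.left := hs hzs
  have hg' : Smooth g'.left := (hQ @Smooth good_smooth stableComp_smooth le_rfl).2 hx
  have h0 : IsReduced (Over.mk a).left := (inferInstance : IsReduced (Spec (CommRingCat.of k)))
  have h1 : IsReduced W.left := Groth.Agent.Lib.Helper14.isReduced_of_smooth_scheme g'.left
  exact Groth.Agent.Lib.Helper14.isReduced_of_flat_surjective g.left

include h𝒵 in
/-- a stack covered fppf by the spectrum of a field is locally Noetherian -/
theorem smoothLocally_isLocallyNoetherian_of_fieldPt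
    (hzs : AlgSt.RepByAlgSpWith AlgSp.IsSurjectiveMor z)
    (hzf : AlgSt.RepByAlgSpWith (AlgSp.LocP @Flat) z)
    (hzp : AlgSt.RepByAlgSpWith (AlgSp.LocP @LocallyOfFinitePresentation) z) :
    AlgSt.SmoothLocally (fun T => IsLocallyNoetherian T) 𝒵 := by
  intro U x hx
  obtain ⟨W, g, g', -, hQ, hs, -⟩ := exists_refinement h𝒵.isStack.1 h𝒵.diag x z
  have hgf : Flat g.left := (hQ @Flat good_flat stableComp_flat smooth_le_flat).1 hzf
  have hgp : LocallyOfFinitePresentation g.left :=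
    (hQ @LocallyOfFinitePresentation good_lfp stableComp_lfp smooth_le_lfp).1 hzp
  have hgs : Surjective g.left := hs hzs
  have hg' : Smooth g'.left := (hQ @Smooth good_smooth stableComp_smooth le_rfl).2 hx
  have h0 : IsLocallyNoetherian (Over.mk a).left :=
    (inferInstance : IsLocallyNoetherian (Spec (CommRingCat.of k)))
  have h1 : IsLocallyNoetherian W.left := LocallyOfFiniteType.isLocallyNoetherian g'.left
  exact Groth.Agent.Lib.Helper14.AS.isLocallyNoetherian_of_flat_surjective g.left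

end FieldPt


section Exists
variable {𝒵 : AlgSt.Cat S} (h𝒵 : AlgSt.IsAlgStack Scheme.fppfPrecoverage 𝒵)

include h𝒵 in
/-- an atlas of a nonempty stack is nonempty -/
theorem exists_atlas_nonempty (hne : Nonempty (Points 𝒵)) :
    ∃ (U : Over S) (x : FibCat.overCat U ⥤ᵇ 𝒵), AlgSt.RepByAlgSpWith (AlgSp.LocP @Smooth) x ∧
      AlgSt.RepByAlgSpWith AlgSp.IsSurjectiveMor x ∧ Nonempty U.left := by
  obtain ⟨U, x, hx, hx'⟩ := h𝒵.atlas
  refine ⟨U, x, hx, hx', ?_⟩
  obtain ⟨p⟩ := hne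
  obtain ⟨p', -⟩ := surjective_map_of_repByAlgSpWith h𝒵.isStack.1 x hx' p
  obtain ⟨t, -⟩ := (bijective_sch U).2 p'
  exact ⟨t⟩

/-- composing a chart with a morphism of schemes -/
theorem repByAlgSpWith_overMap_comp {Q : MorphismProperty Scheme.{u}}
    (hQ : Good (AlgSp.LocP Q (S := S))) (hQc : StableComp (AlgSp.LocP Q (S := S)))
    (hQe : Groth.Agent.Lib.Helper14.AS.EtLocal Q)
    (h𝒵f : FibCat.IsFibGrpd 𝒵.p) {U T : Over S} (h : T ⟶ U) (hh : Q h.left)
    (x : FibCat.overCat U ⥤ᵇ 𝒵) (hx : AlgSt.RepByAlgSpWith (AlgSp.LocP Q) x) :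
    AlgSt.RepByAlgSpWith (AlgSp.LocP Q) (BasedFunctor.comp (AlgSt.overMap h) x) :=
  repByAlgSpWith_comp (Groth.Agent.Lib.Helper24.StkFpCrit.isFibGrpd_overForget T)
    (Groth.Agent.Lib.Helper24.StkFpCrit.isFibGrpd_overForget U) h𝒵f _ hQ.nice hQc _ _
    ((repByAlgSpWith_overMap_iff _ hQ h).2
      (Groth.Agent.Lib.Helper24.AlgStLocQ6.locP_yon_map_of hQe hh)) hx

include h𝒵 in
/-- a nonempty reduced algebraic stack receives a flat morphism from the spectrum of a field -/
theorem exists_flat_fieldPt_of_reduced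
    (hred : AlgSt.SmoothLocally (fun T => IsReduced T) 𝒵) (hne : Nonempty (Points 𝒵)) :
    ∃ (k : Type u) (_ : Field k) (a : Spec (CommRingCat.of k) ⟶ S)
      (z : FibCat.overCat (Over.mk a) ⥤ᵇ 𝒵), AlgSt.RepByAlgSpWith (AlgSp.LocP @Flat) z := by
  obtain ⟨U, x, hx, hx', hU⟩ := exists_atlas_nonempty h𝒵 hne
  have hUr : IsReduced U.left := hred U x hx
  obtain ⟨ξ, hξ⟩ := Groth.Agent.Lib.Helper10.FlatPt.exists_isField_stalk U.left
  let _ : Field ↑(U.left.presheaf.stalk ξ) := hξ.toField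
  have hfl : Flat (U.left.fromSpecStalk ξ) := inferInstance
  let a : Spec (CommRingCat.of ↑(U.left.presheaf.stalk ξ)) ⟶ S := U.left.fromSpecStalk ξ ≫ U.hom
  let h : Over.mk a ⟶ U := Over.homMk (U.left.fromSpecStalk ξ) rfl
  refine ⟨↑(U.left.presheaf.stalk ξ), inferInstance, a, BasedFunctor.comp (AlgSt.overMap h) x, ?_⟩
  exact repByAlgSpWith_overMap_comp good_flat stableComp_flat
    Groth.Agent.Lib.Helper14.AS.etLocal_flat h𝒵.isStack.1 h hfl x
    (repByAlgSpWith_locP_mono smooth_le_flat _ hx)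

end Exists


/-- a nonempty scheme receives a locally finite type morphism from the spectrum of a field -/
theorem exists_lft_field_point (X : Scheme.{u}) [Nonempty X] :
    ∃ (k : Type u) (_ : Field k) (f : Spec (CommRingCat.of k) ⟶ X), LocallyOfFiniteType f := by
  obtain ⟨x⟩ := ‹Nonempty X›
  obtain ⟨_, ⟨V, hV, rfl⟩, hxV, -⟩ :=
    X.isBasis_affineOpens.exists_subset_of_mem_open (Set.mem_univ x) isOpen_univ
  have hnt : Nontrivial Γ(X, V) := by
    have : Nonempty (PrimeSpectrum Γ(X, V)) := ⟨hV.primeIdealOf ⟨x, hxV⟩⟩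
    exact (PrimeSpectrum.nonempty_iff_nontrivial).1 this
  obtain ⟨m, hm⟩ := Ideal.exists_maximal Γ(X, V)
  let _ : Field (Γ(X, V) ⧸ m) := Ideal.Quotient.field m
  have h1 : IsClosedImmersion (Spec.map (CommRingCat.ofHom (Ideal.Quotient.mk m))) :=
    IsClosedImmersion.spec_of_surjective _ Ideal.Quotient.mk_surjective
  exact ⟨Γ(X, V) ⧸ m, inferInstance,
    Spec.map (CommRingCat.ofHom (Ideal.Quotient.mk m)) ≫ hV.fromSpec, inferInstance⟩

section Exists2
variable {𝒵 : AlgSt.Cat S} (h𝒵 : AlgSt.IsAlgStack Scheme.fppfPrecoverage 𝒵)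

include h𝒵 in
/-- a nonempty algebraic stack receives a locally finite type morphism from the spectrum of a
field -/
theorem exists_lft_fieldPt (hne : Nonempty (Points 𝒵)) :
    ∃ (k : Type u) (_ : Field k) (a : Spec (CommRingCat.of k) ⟶ S)
      (z : FibCat.overCat (Over.mk a) ⥤ᵇ 𝒵),
      AlgSt.RepByAlgSpWith (AlgSp.LocP @LocallyOfFiniteType) z := by
  obtain ⟨U, x, hx, hx', hU⟩ := exists_atlas_nonempty h𝒵 hne
  obtain ⟨k, hk, f, hf⟩ := exists_lft_field_point U.left
  let a : Spec (CommRingCat.of k) ⟶ S := f ≫ U.hom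
  let h : Over.mk a ⟶ U := Over.homMk f rfl
  refine ⟨k, hk, a, BasedFunctor.comp (AlgSt.overMap h) x, ?_⟩
  exact repByAlgSpWith_overMap_comp good_lft stableComp_lft
    Groth.Agent.Lib.Helper14.AS.etLocal_lft h𝒵.isStack.1 h hf x
    (repByAlgSpWith_locP_mono smooth_le_lft _ hx)

end Exists2

end Groth.Agent.Lib.Helper24.GerbRes5
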