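import Groth.Agent.Lib.Helper24.GerbRes5
set_option autoImplicit false
open CategoryTheory AlgebraicGeometry Opposite
universe u
set_option backward.isDefEq.respectTransparency false
set_option backward.isDefEq.respectTransparency.types false

/-! Reduced, locally Noetherian one-point stacks and fppf field points (S16806). -/

namespace Groth.Agent.Lib.Helper24.GerbRes6
open Groth.Agent.Lib.Helper24.AlgStPts1
open Groth.Agent.Lib.Helper24.AlgStLocQ5 Groth.Agent.Lib.Helper24.AlgStLocQ6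
open Groth.Agent.Lib.Helper24.AlgStCalc Groth.Agent.Lib.Helper24.AlgStDiag
open Groth.Agent.Lib.Helper24.AlgStAtlas Groth.Agent.Lib.Helper24.AlgStProps
open Groth.Agent.Lib.Helper24.AlgStFpAlg
open Groth.Agent.Lib.Helper24.AlgSpSmLocal
open Groth.Agent.Lib.Helper24.GerbRes1 Groth.Agent.Lib.Helper24.GerbRes5
open CategoryTheory.Limits AlgSt

variable {S : Scheme.{u}}

section
variable {𝒵 : AlgSt.Cat S} (h𝒵 : AlgSt.IsAlgStack Scheme.fppfPrecoverage 𝒵)

include h𝒵 in
/-- over a locally Noetherian stack, a chart locally of finite type is locally of finite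
presentation -/
theorem lfp_of_lft_chart (hN : AlgSt.SmoothLocally (fun T => IsLocallyNoetherian T) 𝒵)
    {T : Over S} (z : FibCat.overCat T ⥤ᵇ 𝒵)
    (hz : AlgSt.RepByAlgSpWith (AlgSp.LocP @LocallyOfFiniteType) z) :
    AlgSt.RepByAlgSpWith (AlgSp.LocP @LocallyOfFinitePresentation) z := by
  have hT : AlgSt.IsAlgStack Scheme.fppfPrecoverage (FibCat.overCat T) :=
    isAlgStack_of_repByAlgSp (repByAlgSp_overCat _)
  have h1 := locQ_of_repByAlgSpWith hT h𝒵 z isSmoothLocalST_lft hz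
  have h2 := locQ_lfp_of_lft hT h𝒵 z hN h1
  exact repByAlgSpWith_of_locQ hT h𝒵 z isSmoothLocalST_lfp good_lfp.bc good_lfp.loc
    (repByAlgSp1_chart h𝒵 z) h2

include h𝒵 in
/-- S16806 -/
theorem reduced_noeth_singleton_iff :
    (AlgSt.SmoothLocally (fun T => IsReduced T) 𝒵 ∧
        AlgSt.SmoothLocally (fun T => IsLocallyNoetherian T) 𝒵 ∧
        Nonempty (AlgSt.Points 𝒵) ∧ Subsingleton (AlgSt.Points 𝒵)) ↔
      ∃ (k : Type u) (_ : Field k) (a : Spec (CommRingCat.of k) ⟶ S)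
        (z : FibCat.overCat (Over.mk a) ⥤ᵇ 𝒵),
        AlgSt.RepByAlgSpWith (AlgSp.LocP @LocallyOfFinitePresentation) z ∧
          AlgSt.RepByAlgSpWith AlgSp.IsSurjectiveMor z ∧
          AlgSt.RepByAlgSpWith (AlgSp.LocP @Flat) z := by
  constructor
  · rintro ⟨hred, hN, hne, hsub⟩
    obtain ⟨k, hk, a, z, hz⟩ := exists_flat_fieldPt_of_reduced h𝒵 hred hne
    have hzs := surjective_fieldPt_of_subsingleton h𝒵 z hsub
    obtain ⟨k', hk', a', z', hz'⟩ := exists_lft_fieldPt h𝒵 hne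
    have := fieldPt_surjective_flat h𝒵 z hzs hz z'
    exact ⟨k', hk', a', z', lfp_of_lft_chart h𝒵 hN z' hz', this.1, this.2⟩
  · rintro ⟨k, hk, a, z, hzp, hzs, hzf⟩
    exact ⟨smoothLocally_isReduced_of_fieldPt h𝒵 z hzs hzf,
      smoothLocally_isLocallyNoetherian_of_fieldPt h𝒵 z hzs hzf hzp,
      nonempty_points_of_fieldPt z, subsingleton_points_of_fieldPt h𝒵 z hzs⟩

end

end Groth.Agent.Lib.Helper24.GerbRes6
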