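import Groth.Agent.Lib.Helper24.GerbRes6
import Groth.Agent.Lib.Helper24.GerbRes4
set_option autoImplicit false
open CategoryTheory AlgebraicGeometry Opposite
universe u
set_option backward.isDefEq.respectTransparency false
set_option backward.isDefEq.respectTransparency.types false

/-! Functoriality of residual gerbes (S16814). -/

namespace Groth.Agent.Lib.Helper24.GerbRes7
open Groth.Agent.Lib.Helper24.GerbRes1 Groth.Agent.Lib.Helper24.GerbRes3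
open Groth.Agent.Lib.Helper24.GerbRes4 Groth.Agent.Lib.Helper24.GerbRes6
open Groth.Agent.Lib.Helper24.FibCatEquiv
open Groth.Agent.Lib.Helper24.AlgStPts1
open Groth.Agent.Lib.Helper24.AlgStFpAlg Groth.Agent.Lib.Helper24.AlgStBoot
open Groth.Agent.Lib.Helper24.AlgStGC
open CategoryTheory.Limits AlgSt

variable {S : Scheme.{u}}

/-- the residual gerbe at `x` maps into the residual gerbe at `f x` -/
theorem prop_map_of_isResGerbe {𝒳 𝒴 : AlgSt.Cat S}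
    (h𝒳 : AlgSt.IsAlgStack Scheme.fppfPrecoverage 𝒳)
    (h𝒴 : AlgSt.IsAlgStack Scheme.fppfPrecoverage 𝒴)
    (f : 𝒳 ⥤ᵇ 𝒴) (x : AlgSt.Points 𝒳)
    (Q : 𝒳.obj → Prop) (hQ : Gerb.IsResGerbe Scheme.fppfPrecoverage 𝒳 x Q)
    (Q' : 𝒴.obj → Prop)
    (hQ' : Gerb.IsResGerbe Scheme.fppfPrecoverage 𝒴 (AlgSt.Points.map f x) Q')
    (ξ : 𝒳.obj) (hξ : Q ξ) : Q' (f.toFunctor.obj ξ) := by
  obtain ⟨hcl, hZ, hred, hN, hne, hsub, hzx⟩ := hQ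
  obtain ⟨hcl', hZ', -, -, ⟨z'⟩, -, hzy⟩ := hQ'
  obtain ⟨k, hk, a, z, hzp, hzs, hzf⟩ :=
    (reduced_noeth_singleton_iff hZ).1 ⟨hred, hN, hne, hsub⟩
  let ψ : AlgSt.fullSub 𝒳 Q ⥤ᵇ 𝒴 := BasedFunctor.comp (AlgSt.subIncl 𝒳 Q) f
  have hmono' := isMono_subIncl h𝒴 Q' hZ'
  have hmono : AlgSt.IsMono (FibCat.fpFst ψ (AlgSt.subIncl 𝒴 Q')) :=
    repByAlgSpWith_fpFst _ (AlgSt.subIncl 𝒴 Q') ψ hmono'
  have hW : AlgSt.IsAlgStack Scheme.fppfPrecoverage (FibCat.fp ψ (AlgSt.subIncl 𝒴 Q')) :=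
    isAlgStack_fp h𝒴.isStack h𝒴.diag hZ hZ' ψ (AlgSt.subIncl 𝒴 Q')
  obtain ⟨z₀⟩ := hne
  have hpt : AlgSt.Points.map ψ z₀ = AlgSt.Points.map (AlgSt.subIncl 𝒴 Q') z' := by
    rw [map_comp, hzx, hzy]
  obtain ⟨w, -, -⟩ := Groth.Agent.Lib.Helper26.StackPoints.exists_points_fp hZ'.isStack.1
    h𝒴.isStack.1 hZ.isStack.1 (AlgSt.subIncl 𝒴 Q') ψ z₀ z' hpt
  have hfst : FibCat.IsEquivOver (FibCat.fpFst ψ (AlgSt.subIncl 𝒴 Q')) := by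
    rcases isEmpty_or_isEquivOver_of_isMono hW hZ _ hmono z hzp hzs hzf with h | h
    · exact (h.false w).elim
    · exact h
  obtain ⟨-, hess⟩ := props_of_isEquivOver _ hfst
  obtain ⟨η, θ, -⟩ := hess ⟨ξ, hξ⟩
  have e1 : f.toFunctor.obj η.obj.fst.obj ≅ f.toFunctor.obj ξ :=
    f.toFunctor.mapIso ((ObjectProperty.ι Q).mapIso θ)
  have e2 : f.toFunctor.obj η.obj.fst.obj ≅ η.obj.snd.obj := η.obj.iso
  exact ObjectProperty.prop_of_iso Q' (e2.symm ≪≫ e1) η.obj.snd.property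

/-- S16814 -/
theorem exists_map_of_isResGerbe {𝒳 𝒴 : AlgSt.Cat S}
    (h𝒳 : AlgSt.IsAlgStack Scheme.fppfPrecoverage 𝒳)
    (h𝒴 : AlgSt.IsAlgStack Scheme.fppfPrecoverage 𝒴)
    (f : 𝒳 ⥤ᵇ 𝒴) (x : AlgSt.Points 𝒳)
    (Q : 𝒳.obj → Prop) (hQ : Gerb.IsResGerbe Scheme.fppfPrecoverage 𝒳 x Q)
    (Q' : 𝒴.obj → Prop)
    (hQ' : Gerb.IsResGerbe Scheme.fppfPrecoverage 𝒴 (AlgSt.Points.map f x) Q') :
    ∃ g : AlgSt.fullSub 𝒳 Q ⥤ᵇ AlgSt.fullSub 𝒴 Q',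
      Nonempty (BasedFunctor.comp g (AlgSt.subIncl 𝒴 Q') ≅
        BasedFunctor.comp (AlgSt.subIncl 𝒳 Q) f) := by
  have hq : ∀ ζ : (AlgSt.fullSub 𝒳 Q).obj,
      Q' ((BasedFunctor.comp (AlgSt.subIncl 𝒳 Q) f).toFunctor.obj ζ) := fun ζ =>
    prop_map_of_isResGerbe h𝒳 h𝒴 f x Q hQ Q' hQ' ζ.obj ζ.property
  exact ⟨{ toFunctor := ObjectProperty.lift Q' (BasedFunctor.comp (AlgSt.subIncl 𝒳 Q) f).toFunctor hq
           w := (BasedFunctor.comp (AlgSt.subIncl 𝒳 Q) f).w }, ⟨Iso.refl _⟩⟩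

end Groth.Agent.Lib.Helper24.GerbRes7
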