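import Groth.Agent.Lib.Helper24.GerbRes6
import Groth.Agent.Lib.Helper18.SerreReg2
import Groth.Agent.S4991
set_option autoImplicit false
open CategoryTheory AlgebraicGeometry Opposite
universe u
set_option backward.isDefEq.respectTransparency false
set_option backward.isDefEq.respectTransparency.types false

/-! Regularity of reduced locally Noetherian one-point stacks (S16811). -/

namespace Groth.Agent.Lib.Helper24.GerbRes8
open Groth.Agent.Lib.Helper24.GerbRes1 Groth.Agent.Lib.Helper24.GerbRes5
open Groth.Agent.Lib.Helper24.GerbRes6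
open Groth.Agent.Lib.Helper24.AlgStProps Groth.Agent.Lib.Helper24.AlgStSmooth
open Groth.Agent.Lib.Helper24.AlgStDiagLft
open CategoryTheory.Limits AlgSt

variable {S : Scheme.{u}}

/-- the local rings of the spectrum of a field are regular -/
theorem isRegularLocalRing_stalk_spec_field (k : Type u) [Field k]
    (p : ↥(Spec (CommRingCat.of k))) :
    IsRegularLocalRing ((Spec (CommRingCat.of k)).presheaf.stalk p) := by
  let p' : PrimeSpectrum k := p
  let _ : Algebra k ((Spec (CommRingCat.of k)).presheaf.stalk p) :=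
    StructureSheaf.stalkAlgebra (R := k) p'
  have hloc : IsLocalization.AtPrime ((Spec (CommRingCat.of k)).presheaf.stalk p) p'.asIdeal :=
    StructureSheaf.IsLocalization.to_stalk (R := k) p'
  have hu : p'.asIdeal.primeCompl ≤ IsUnit.submonoid k := by
    intro x hx
    have : x ≠ 0 := fun h => hx (h ▸ p'.asIdeal.zero_mem)
    exact this.isUnit
  let e : k ≃ₐ[k] ((Spec (CommRingCat.of k)).presheaf.stalk p) :=
    IsLocalization.atUnits k p'.asIdeal.primeCompl hu
  exact IsRegularLocalRing.of_ringEquiv e.toRingEquiv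


/-- S16811 -/
theorem smoothLocally_regular {𝒵 : AlgSt.Cat S}
    (h𝒵 : AlgSt.IsAlgStack Scheme.fppfPrecoverage 𝒵)
    (hred : AlgSt.SmoothLocally (fun T => IsReduced T) 𝒵)
    (hnoeth : AlgSt.SmoothLocally (fun T => IsLocallyNoetherian T) 𝒵)
    (hne : Nonempty (AlgSt.Points 𝒵)) (hsub : Subsingleton (AlgSt.Points 𝒵)) :
    AlgSt.SmoothLocally (fun T => ∀ t : T, IsRegularLocalRing (T.presheaf.stalk t)) 𝒵 := by
  intro U x hx
  obtain ⟨k, hk, a, z, hzp, hzs, hzf⟩ :=
    (reduced_noeth_singleton_iff h𝒵).1 ⟨hred, hnoeth, hne, hsub⟩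
  obtain ⟨W, g, g', -, hQ, hs, -⟩ := exists_refinement h𝒵.isStack.1 h𝒵.diag x z
  have hgf : Flat g.left := (hQ @Flat good_flat stableComp_flat smooth_le_flat).1 hzf
  have hgs : Surjective g.left := hs hzs
  have hg' : Smooth g'.left := (hQ @Smooth good_smooth stableComp_smooth le_rfl).2 hx
  have hU : IsLocallyNoetherian U.left := hnoeth U x hx
  intro t
  obtain ⟨w, rfl⟩ := hgs.surj t
  have h0 : IsLocallyNoetherian (Over.mk a).left :=
    (inferInstance : IsLocallyNoetherian (Spec (CommRingCat.of k)))
  have hWreg : IsRegularLocalRing (W.left.presheaf.stalk w) :=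
    (Groth.Agent.S4991.result g'.left w ⟨⊤, trivial, inferInstance⟩).2
      (isRegularLocalRing_stalk_spec_field k _)
  have hfl : (g.left.stalkMap w).hom.Flat := Flat.stalkMap g.left w
  algebraize [(g.left.stalkMap w).hom]
  have hloc : IsLocalHom (algebraMap (U.left.presheaf.stalk (g.left w))
      (W.left.presheaf.stalk w)) := g.left.toLRSHom.prop w
  exact Groth.Agent.Lib.Helper18.SerreReg.isRegularLocalRing_of_flat_of_isLocalHom
    (U.left.presheaf.stalk (g.left w)) (W.left.presheaf.stalk w)

end Groth.Agent.Lib.Helper24.GerbRes8
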