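import Groth.Agent.Lib.Helper24.GerbRes6
import Groth.Agent.Lib.Helper24.AlgStSubImm
import Groth.Prelude.Def_StGerb
set_option autoImplicit false
open CategoryTheory AlgebraicGeometry Opposite
universe u
set_option backward.isDefEq.respectTransparency false
set_option backward.isDefEq.respectTransparency.types false

/-! The essential image of a monomorphism from a reduced locally Noetherian one-point stack is the
residual gerbe (S16812). -/

namespace Groth.Agent.Lib.Helper24.GerbRes9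
open Groth.Agent.Lib.Helper24.GerbRes1 Groth.Agent.Lib.Helper24.GerbRes6
open Groth.Agent.Lib.Helper24.AlgStSubImm Groth.Agent.Lib.Helper24.AlgStPts1
open Groth.Agent.Lib.Helper24.AlgStRep Groth.Agent.Lib.Helper24.FibCatEquiv
open CategoryTheory.Limits AlgSt

variable {S : Scheme.{u}}

/-- S16812 -/
theorem isResGerbe_essIm {𝒳 𝒵 : AlgSt.Cat S}
    (h𝒳 : AlgSt.IsAlgStack Scheme.fppfPrecoverage 𝒳) (x : AlgSt.Points 𝒳)
    (h𝒵 : AlgSt.IsAlgStack Scheme.fppfPrecoverage 𝒵)
    (hred : AlgSt.SmoothLocally (fun T => IsReduced T) 𝒵)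
    (hnoeth : AlgSt.SmoothLocally (fun T => IsLocallyNoetherian T) 𝒵)
    (hne : Nonempty (AlgSt.Points 𝒵)) (hsub : Subsingleton (AlgSt.Points 𝒵))
    (f : 𝒵 ⥤ᵇ 𝒳) (hf : AlgSt.IsMono f) (hfx : ∀ p : AlgSt.Points 𝒵, AlgSt.Points.map f p = x) :
    Gerb.IsResGerbe Scheme.fppfPrecoverage 𝒳 x (EssIm f) ∧
      FibCat.IsEquivOver (corestr f) := by
  obtain ⟨he, halg, -⟩ := substack_of_isMono h𝒵 h𝒳 f hf
  obtain ⟨k, hk, a, z, hzp, hzs, hzf⟩ :=
    (reduced_noeth_singleton_iff h𝒵).1 ⟨hred, hnoeth, hne, hsub⟩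
  have tr : ∀ P : MorphismProperty (AlgSp.Sp S), AlgSt.RepByAlgSpWith P z →
      AlgSt.RepByAlgSpWith P (BasedFunctor.comp z (corestr f)) := fun P h =>
    (repByAlgSpWith_iff_of_isEquivOver P (BasedFunctor.comp z (corestr f)) z
      (BasedFunctor.id (FibCat.overCat (Over.mk a))) (corestr f) (isEquivOver_id _) he
      (Iso.refl _)).2 h
  obtain ⟨h1, h2, h3, h4⟩ := (reduced_noeth_singleton_iff halg).2
    ⟨k, hk, a, BasedFunctor.comp z (corestr f), tr _ hzp, tr _ hzs, tr _ hzf⟩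
  refine ⟨⟨essIm_closed f, halg, h1, h2, h3, h4, fun z' => ?_⟩, he⟩
  obtain ⟨z'', rfl⟩ := (bijective_map_of_isEquivOver (corestr f) he).2 z'
  rw [← map_comp]
  exact hfx z''

end Groth.Agent.Lib.Helper24.GerbRes9
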