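import Groth.Agent.Lib.Helper24.GerbCompare
import Groth.Agent.Lib.Helper24.FibCatFpMap
import Groth.Agent.Lib.Helper24.FibCatInertiaEquiv

universe u v u₂ v₂ u₃ v₃ u₄ v₄ u₅ v₅ u₆ v₆

set_option autoImplicit false
set_option backward.isDefEq.respectTransparency false
set_option backward.isDefEq.respectTransparency.types false

open CategoryTheory CategoryTheory.Limits

/-! Formal lemmas on the functors `M`, `N` of the relative magic square. -/

namespace Groth.Agent.Lib.Helper24.GerbResMapA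
open Groth.Agent.Lib.Helper24.FibCatFpGen Groth.Agent.Lib.Helper24.FibCatEquiv
open Groth.Agent.Lib.Helper24.FibCatDiag Groth.Agent.Lib.Helper24.FibCatMagic
open Groth.Agent.Lib.Helper24.FibCatFpMap Groth.Agent.Lib.Helper24.FibCatInertiaEquiv

variable {C : Type u} [Category.{v} C]
variable {𝒜' : BasedCategory.{v₆, u₆} C} {𝒜 : BasedCategory.{v₂, u₂} C} {ℬ : BasedCategory.{v₃, u₃} C}
  {𝒳 : BasedCategory.{v₄, u₄} C} {𝒴 : BasedCategory.{v₅, u₅} C}

/-- `M` is compatible with composition -/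
theorem M_comp (c : 𝒜' ⥤ᵇ 𝒜) (a : 𝒜 ⥤ᵇ 𝒳) (j : 𝒳 ⥤ᵇ 𝒴) :
    M (BasedFunctor.comp c a) (BasedFunctor.comp c a) j =
      BasedFunctor.comp (M c c (BasedFunctor.comp a j)) (M a a j) := rfl

/-- `N` is an equivalence iff the base change of the diagonal along `M` is -/
theorem isEquivOver_N_iff (a : 𝒜 ⥤ᵇ 𝒳) (b : ℬ ⥤ᵇ 𝒳) (j : 𝒳 ⥤ᵇ 𝒴) :
    FibCat.IsEquivOver (N a b j) ↔ FibCat.IsEquivOver (FibCat.fpFst (M a b j) (FibCat.diag j)) := by
  constructor
  · intro h
    exact isEquivOver_of_comp_left (Ψ a b j) _ (isEquivOver_Ψ a b j) h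
  · intro h
    exact isEquivOver_comp (Ψ a b j) _ (isEquivOver_Ψ a b j) h

/-- the diagonal of a composite -/
def diagCompIso (i : 𝒜 ⥤ᵇ 𝒳) (j : 𝒳 ⥤ᵇ 𝒴) :
    FibCat.diag (BasedFunctor.comp i j) ≅ BasedFunctor.comp (FibCat.diag i) (N i i j) :=
  BasedNatIso.mkNatIso
    (NatIso.ofComponents (fun z => mkIso (F := BasedFunctor.comp i j) (G := BasedFunctor.comp i j)
        (x := (FibCat.diag (BasedFunctor.comp i j)).toFunctor.obj z)
        (y := (BasedFunctor.comp (FibCat.diag i) (N i i j)).toFunctor.obj z)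
        (Iso.refl _) (Iso.refl _) (by
          change (BasedFunctor.comp i j).toFunctor.map (𝟙 z) ≫ j.toFunctor.map (𝟙 (i.toFunctor.obj z)) =
            𝟙 ((BasedFunctor.comp i j).toFunctor.obj z) ≫ (BasedFunctor.comp i j).toFunctor.map (𝟙 z)
          have h1 : (BasedFunctor.comp i j).toFunctor.map (𝟙 z) = 𝟙 _ := CategoryTheory.Functor.map_id _ _
          have h2 : j.toFunctor.map (𝟙 (i.toFunctor.obj z)) = 𝟙 _ := CategoryTheory.Functor.map_id _ _
          rw [h1, h2]
          rfl))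
      (fun {z z'} φ => by
        apply hom_ext'
        · change φ ≫ 𝟙 _ = 𝟙 _ ≫ φ
          rw [Category.comp_id, Category.id_comp]
        · change φ ≫ 𝟙 _ = 𝟙 _ ≫ φ
          rw [Category.comp_id, Category.id_comp]))
    (fun z => by
      rw [isHomLift_iff_fst]
      change 𝒜.p.IsHomLift (𝟙 (𝒜.p.obj z)) (𝟙 z)
      infer_instance)

section Congr
variable {a a' : 𝒜 ⥤ᵇ 𝒳} {b b' : ℬ ⥤ᵇ 𝒳} (θ : a ≅ a') (ρ : b ≅ b') (j : 𝒳 ⥤ᵇ 𝒴)

/-- transport of the fibre product along isomorphisms of the legs -/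
def E₁ : FibCat.fp a b ⥤ᵇ FibCat.fp a' b' :=
  fpMap (BasedFunctor.id 𝒜) (BasedFunctor.id ℬ) (BasedFunctor.id 𝒳)
    (show BasedFunctor.comp a (BasedFunctor.id 𝒳) ≅ BasedFunctor.comp (BasedFunctor.id 𝒜) a' from θ)
    (show BasedFunctor.comp b (BasedFunctor.id 𝒳) ≅ BasedFunctor.comp (BasedFunctor.id ℬ) b' from ρ)

theorem isEquivOver_E₁ : FibCat.IsEquivOver (E₁ θ ρ) :=
  isEquivOver_fpMap _ _ _ _ _ (Groth.Agent.Lib.Helper24.AlgStRep.isEquivOver_id _) (Groth.Agent.Lib.Helper24.AlgStRep.isEquivOver_id _)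

/-- the square comparing `N` for isomorphic legs -/
def squareIso :
    BasedFunctor.comp (E₁ θ ρ) (N a' b' j) ≅
      BasedFunctor.comp (N a b j)
        (E₁ (Groth.Agent.Lib.Helper24.AlgStBridge.whiskerRightIso θ j)
          (Groth.Agent.Lib.Helper24.AlgStBridge.whiskerRightIso ρ j)) :=
  BasedNatIso.mkNatIso
    (NatIso.ofComponents (fun z => mkIso (F := BasedFunctor.comp a' j) (G := BasedFunctor.comp b' j)
        (x := (BasedFunctor.comp (E₁ θ ρ) (N a' b' j)).toFunctor.obj z)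
        (y := (BasedFunctor.comp (N a b j)
          (E₁ (Groth.Agent.Lib.Helper24.AlgStBridge.whiskerRightIso θ j)
          (Groth.Agent.Lib.Helper24.AlgStBridge.whiskerRightIso ρ j))).toFunctor.obj z)
        (Iso.refl _) (Iso.refl _) (by
          change j.toFunctor.map (a'.toFunctor.map (𝟙 z.obj.fst)) ≫ _ = _ ≫ j.toFunctor.map (b'.toFunctor.map (𝟙 z.obj.snd))
          rw [CategoryTheory.Functor.map_id, CategoryTheory.Functor.map_id, CategoryTheory.Functor.map_id, CategoryTheory.Functor.map_id, Category.id_comp, Category.comp_id]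
          change j.toFunctor.map (θ.inv.toNatTrans.app z.obj.fst) ≫
              (j.toFunctor.map z.obj.iso.hom) ≫ j.toFunctor.map (ρ.hom.toNatTrans.app z.obj.snd) =
            j.toFunctor.map ((θ.inv.toNatTrans.app z.obj.fst) ≫ z.obj.iso.hom ≫ ρ.hom.toNatTrans.app z.obj.snd)
          rw [Functor.map_comp, Functor.map_comp]))
      (fun {z z'} φ => by
        apply hom_ext'
        · change φ.hom.fst ≫ 𝟙 _ = 𝟙 _ ≫ φ.hom.fst
          rw [Category.comp_id, Category.id_comp]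
        · change φ.hom.snd ≫ 𝟙 _ = 𝟙 _ ≫ φ.hom.snd
          rw [Category.comp_id, Category.id_comp]))
    (fun z => by
      rw [isHomLift_iff_fst]
      change 𝒜.p.IsHomLift (𝟙 (𝒜.p.obj z.obj.fst)) (𝟙 z.obj.fst)
      infer_instance)

include θ ρ in
/-- being an equivalence, for `N`, only depends on the legs up to isomorphism -/
theorem isEquivOver_N_congr (h : FibCat.IsEquivOver (N a b j)) : FibCat.IsEquivOver (N a' b' j) := by
  have h1 : FibCat.IsEquivOver (BasedFunctor.comp (N a b j)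
      (E₁ (Groth.Agent.Lib.Helper24.AlgStBridge.whiskerRightIso θ j)
        (Groth.Agent.Lib.Helper24.AlgStBridge.whiskerRightIso ρ j))) :=
    isEquivOver_comp _ _ h (isEquivOver_E₁ _ _)
  have h2 : FibCat.IsEquivOver (BasedFunctor.comp (E₁ θ ρ) (N a' b' j)) :=
    isEquivOver_of_iso (squareIso θ ρ j).symm h1
  exact isEquivOver_of_comp_left _ _ (isEquivOver_E₁ θ ρ) h2

end Congr

end Groth.Agent.Lib.Helper24.GerbResMapA
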