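import Groth.Agent.Lib.Helper24.GerbResMapA
import Groth.Agent.Lib.Helper24.FpqcDescSt
import Groth.Agent.Lib.Helper24.GerbRes7
import Groth.Agent.Lib.Helper24.AlgStProd
import Groth.Agent.Lib.Helper24.AlgStProdAlg
import Groth.Agent.Lib.Helper24.AlgStSmooth
import Groth.Agent.Lib.Helper24.AlgStClosedSub
import Groth.Agent.Lib.Helper24.AlgStProps3

universe u

set_option autoImplicit false
set_option backward.isDefEq.respectTransparency false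
set_option backward.isDefEq.respectTransparency.types false

open CategoryTheory CategoryTheory.Limits AlgebraicGeometry Opposite

/-! The base change of the diagonal of `f` along `𝒜 ×_𝒴 𝒜 ⟶ 𝒳 ×_𝒴 𝒳`: base change and descent. -/

namespace Groth.Agent.Lib.Helper24.GerbResMapB
open Groth.Agent.Lib.Helper24.FibCatFpGen Groth.Agent.Lib.Helper24.FibCatEquiv
open Groth.Agent.Lib.Helper24.FibCatDiag Groth.Agent.Lib.Helper24.FibCatMagic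
open Groth.Agent.Lib.Helper24.FibCatFpMap Groth.Agent.Lib.Helper24.FibCatInertiaEquiv
open Groth.Agent.Lib.Helper24.GerbResMapA Groth.Agent.Lib.Helper24.AlgStEqv
open Groth.Agent.Lib.Helper24.AlgStProps Groth.Agent.Lib.Helper24.AlgStSmooth
open Groth.Agent.Lib.Helper24.AlgStClosedSub Groth.Agent.Lib.Helper24.AlgStFpAlg
open Groth.Agent.Lib.Helper24.AlgStSchLocal

variable {S : Scheme.{u}} {𝒳 𝒴 : AlgSt.Cat S}

/-- the base change of the diagonal of `f` to `𝒜 ×_𝒴 𝒜` is an isomorphism -/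
def HI (f : 𝒳 ⥤ᵇ 𝒴) {𝒜 : AlgSt.Cat S} (a : 𝒜 ⥤ᵇ 𝒳) : Prop :=
  AlgSt.RepByAlgSpWith (MorphismProperty.isomorphisms (AlgSp.Sp S))
    (FibCat.fpFst (M a a f) (FibCat.diag f))

variable (h𝒳 : FibCat.IsFibGrpd 𝒳.p) (h𝒴 : FibCat.IsFibGrpd 𝒴.p) (f : 𝒳 ⥤ᵇ 𝒴)

include h𝒳 h𝒴 in
theorem hI_iff {𝒜 : AlgSt.Cat S} (h𝒜 : FibCat.IsFibGrpd 𝒜.p) (a : 𝒜 ⥤ᵇ 𝒳) :
    HI f a ↔ FibCat.IsEquivOver (N a a f) := by
  rw [isEquivOver_N_iff]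
  constructor
  · intro h
    exact Groth.Agent.Lib.Helper24.GerbRes3.isEquivOver_of_repByAlgSpWith_iso
      (isFibGrpd_fp _ _ (isFibGrpd_fp _ _ h𝒜 h𝒜 h𝒴) h𝒳 (isFibGrpd_fp _ _ h𝒳 h𝒳 h𝒴))
      (isFibGrpd_fp _ _ h𝒜 h𝒜 h𝒴) _ h
  · intro h
    exact Groth.Agent.Lib.Helper24.AlgStProdAlg.repByAlgSpWith_of_isEquivOver _
      (fun _ _ e he => he) _ h

theorem hI_comp {𝒜' 𝒜 : AlgSt.Cat S} (c : 𝒜' ⥤ᵇ 𝒜) (a : 𝒜 ⥤ᵇ 𝒳) (h : HI f a) :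
    HI f (BasedFunctor.comp c a) := by
  have h1 : AlgSt.RepByAlgSpWith (MorphismProperty.isomorphisms (AlgSp.Sp S))
      (FibCat.fpFst (M c c (BasedFunctor.comp a f)) (FibCat.fpFst (M a a f) (FibCat.diag f))) :=
    Groth.Agent.Lib.Helper24.AlgStBoot.repByAlgSpWith_fpFst _ _ _ h
  exact Groth.Agent.Lib.Helper24.AlgStDiagBC.repByAlgSpWith_of_eqvOver _
    (eqvOver_P (FibCat.diag f) (M a a f) (M c c (BasedFunctor.comp a f))).symm h1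

include h𝒳 h𝒴 in
theorem hI_congr {𝒜 : AlgSt.Cat S} (h𝒜 : FibCat.IsFibGrpd 𝒜.p) {a a' : 𝒜 ⥤ᵇ 𝒳} (θ : a ≅ a')
    (h : HI f a) : HI f a' :=
  (hI_iff h𝒳 h𝒴 f h𝒜 a').2 (isEquivOver_N_congr θ θ f ((hI_iff h𝒳 h𝒴 f h𝒜 a).1 h))

include h𝒳 h𝒴 in
/-- if the base change of the diagonal of `f` to `𝒵 ×_𝒴 𝒵` is an isomorphism, for a fully faithful
`i : 𝒵 ⟶ 𝒳`, then `i ≫ f` is fully faithful -/
theorem full_faithful_of_hI {𝒵 : AlgSt.Cat S} (h𝒵 : FibCat.IsFibGrpd 𝒵.p) (i : 𝒵 ⥤ᵇ 𝒳)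
    [i.toFunctor.Full] [i.toFunctor.Faithful] (h : HI f i) :
    (BasedFunctor.comp i f).toFunctor.Full ∧ (BasedFunctor.comp i f).toFunctor.Faithful := by
  have h1 : FibCat.IsEquivOver (N i i f) := (hI_iff h𝒳 h𝒴 f h𝒵 i).1 h
  have h2 : FibCat.IsEquivOver (FibCat.diag i) :=
    (fullyFaithful_iff_isEquivOver_diag i h𝒵 h𝒳).1 ⟨inferInstance, inferInstance⟩
  have h3 : FibCat.IsEquivOver (FibCat.diag (BasedFunctor.comp i f)) :=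
    isEquivOver_of_iso (diagCompIso i f).symm (isEquivOver_comp _ _ h2 h1)
  exact (fullyFaithful_iff_isEquivOver_diag (BasedFunctor.comp i f) h𝒵 h𝒴).2 h3

variable (hf : AlgSt.RepByAlgSp1 (FibCat.diag f))

include h𝒳 h𝒴 hf in
theorem hI_of_comp_fppf {𝒜' 𝒜 : AlgSt.Cat S} (h𝒜' : FibCat.IsFibGrpd 𝒜'.p)
    (h𝒜 : FibCat.IsFibGrpd 𝒜.p) (c : 𝒜' ⥤ᵇ 𝒜) (a : 𝒜 ⥤ᵇ 𝒳)
    (hc₁ : AlgSt.RepByAlgSpWith (AlgSp.LocP @Flat) c)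
    (hc₂ : AlgSt.RepByAlgSpWith (AlgSp.LocP @LocallyOfFinitePresentation) c)
    (hc₃ : AlgSt.RepByAlgSpWith AlgSp.IsSurjectiveMor c)
    (h : HI f (BasedFunctor.comp c a)) : HI f a := by
  have h1 : AlgSt.RepByAlgSpWith (MorphismProperty.isomorphisms (AlgSp.Sp S))
      (FibCat.fpFst (M c c (BasedFunctor.comp a f)) (FibCat.fpFst (M a a f) (FibCat.diag f))) :=
    Groth.Agent.Lib.Helper24.AlgStDiagBC.repByAlgSpWith_of_eqvOver _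
      (eqvOver_P (FibCat.diag f) (M a a f) (M c c (BasedFunctor.comp a f))) h
  have hrep : AlgSt.RepByAlgSp1 (FibCat.fpFst (M a a f) (FibCat.diag f)) :=
    Groth.Agent.Lib.Helper24.AlgStBoot.repByAlgSp1_fpFst _ _ hf
  exact Groth.Agent.Lib.Helper24.AlgStDescent.repByAlgSpWith_of_fpFst_cover
    (isFibGrpd_fp _ _ (isFibGrpd_fp _ _ h𝒜 h𝒜 h𝒴) h𝒳 (isFibGrpd_fp _ _ h𝒳 h𝒳 h𝒴))
    (isFibGrpd_fp _ _ h𝒜 h𝒜 h𝒴) (isFibGrpd_fp _ _ h𝒜' h𝒜' h𝒴) _ good_iso.bc good_iso.loc _ hrep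
    (M c c (BasedFunctor.comp a f))
    (Groth.Agent.Lib.Helper24.AlgStProd.repByAlgSpWith_M h𝒜' h𝒜' h𝒜 h𝒴 _ good_flat.nice
      stableComp_flat c c _ hc₁ hc₁)
    (Groth.Agent.Lib.Helper24.AlgStProd.repByAlgSpWith_M h𝒜' h𝒜' h𝒜 h𝒴 _ good_lfp.nice
      stableComp_lfp c c _ hc₂ hc₂)
    (Groth.Agent.Lib.Helper24.AlgStProd.repByAlgSpWith_M h𝒜' h𝒜' h𝒜 h𝒴 _ good_isSurjectiveMor.nice
      stableComp_isSurjectiveMor c c _ hc₃ hc₃) h1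

include h𝒳 h𝒴 hf in
theorem hI_of_comp_fpqc {𝒜' 𝒜 : AlgSt.Cat S} (h𝒜' : FibCat.IsFibGrpd 𝒜'.p)
    (h𝒜 : FibCat.IsFibGrpd 𝒜.p) (c : 𝒜' ⥤ᵇ 𝒜) (a : 𝒜 ⥤ᵇ 𝒳)
    (hc₁ : AlgSt.RepByAlgSpWith (AlgSp.LocP @Flat) c)
    (hc₂ : AlgSt.RepByAlgSpWith AlgSp.IsQuasiCompactMor c)
    (hc₃ : AlgSt.RepByAlgSpWith AlgSp.IsSurjectiveMor c)
    (h : HI f (BasedFunctor.comp c a)) : HI f a := by
  have h1 : AlgSt.RepByAlgSpWith (MorphismProperty.isomorphisms (AlgSp.Sp S))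
      (FibCat.fpFst (M c c (BasedFunctor.comp a f)) (FibCat.fpFst (M a a f) (FibCat.diag f))) :=
    Groth.Agent.Lib.Helper24.AlgStDiagBC.repByAlgSpWith_of_eqvOver _
      (eqvOver_P (FibCat.diag f) (M a a f) (M c c (BasedFunctor.comp a f))) h
  have hrep : AlgSt.RepByAlgSp1 (FibCat.fpFst (M a a f) (FibCat.diag f)) :=
    Groth.Agent.Lib.Helper24.AlgStBoot.repByAlgSp1_fpFst _ _ hf
  exact Groth.Agent.Lib.Helper24.FpqcDescSt.repByAlgSpWith_of_fpFst_fpqc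
    (isFibGrpd_fp _ _ (isFibGrpd_fp _ _ h𝒜 h𝒜 h𝒴) h𝒳 (isFibGrpd_fp _ _ h𝒳 h𝒳 h𝒴))
    (isFibGrpd_fp _ _ h𝒜 h𝒜 h𝒴) (isFibGrpd_fp _ _ h𝒜' h𝒜' h𝒴) _ good_iso.bc
    Groth.Agent.Lib.Helper14.AS.isLocalOnBase_fpqc_isomorphisms _ hrep
    (M c c (BasedFunctor.comp a f))
    (Groth.Agent.Lib.Helper24.AlgStProd.repByAlgSpWith_M h𝒜' h𝒜' h𝒜 h𝒴 _ good_flat.nice
      stableComp_flat c c _ hc₁ hc₁)
    (Groth.Agent.Lib.Helper24.AlgStProd.repByAlgSpWith_M h𝒜' h𝒜' h𝒜 h𝒴 _ good_isQuasiCompactMor.nice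
      stableComp_isQuasiCompactMor c c _ hc₂ hc₂)
    (Groth.Agent.Lib.Helper24.AlgStProd.repByAlgSpWith_M h𝒜' h𝒜' h𝒜 h𝒴 _ good_isSurjectiveMor.nice
      stableComp_isSurjectiveMor c c _ hc₃ hc₃) h1

end Groth.Agent.Lib.Helper24.GerbResMapB
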