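import Groth.Agent.Lib.Helper24.GerbResMapB
import Groth.Agent.Lib.Helper24.GerbFlat
import Groth.Agent.Lib.Helper26.StackPoints
import Groth.Agent.Lib.Helper24.GerbRes2

universe u

set_option autoImplicit false
set_option backward.isDefEq.respectTransparency false
set_option backward.isDefEq.respectTransparency.types false

open CategoryTheory CategoryTheory.Limits AlgebraicGeometry Opposite

/-! Two field points with the same image have a common extension. -/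

namespace Groth.Agent.Lib.Helper24.GerbResMapC
open Groth.Agent.Lib.Helper24.FibCatFpGen Groth.Agent.Lib.Helper24.FibCatEquiv
open Groth.Agent.Lib.Helper24.GerbFormal Groth.Agent.Lib.Helper24.FibCatRepDiag

variable {S : Scheme.{u}} {𝒳 : AlgSt.Cat S}

/-- the value at the identity of a composite with `overMap` receives an isomorphism from any
object mapping to a value of the chart -/
theorem exists_iso_overMap (h𝒳 : FibCat.IsFibGrpd 𝒳.p) {U : Over S}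
    (p : FibCat.overCat U ⥤ᵇ 𝒳) (o : (FibCat.overCat U).obj) {R : Over S} (ρ : 𝒳.obj)
    (hρ : 𝒳.p.obj ρ = R) (m : ρ ⟶ p.toFunctor.obj o) :
    ∃ (c : R ⟶ U) (χ : ρ ≅ (BasedFunctor.comp (AlgSt.overMap c) p).toFunctor.obj (Over.mk (𝟙 R))),
      𝒳.p.IsHomLift (𝟙 R) χ.hom := by
  subst hρ
  have ho : 𝒳.p.obj (p.toFunctor.obj o) = o.left := p.w_obj o
  let c₁ : 𝒳.p.obj ρ ⟶ o.left := 𝒳.p.map m ≫ eqToHom ho
  have hm : 𝒳.p.IsHomLift c₁ m :=
    IsHomLift.of_fac 𝒳.p c₁ m rfl ho (by simp [c₁])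
  let c : 𝒳.p.obj ρ ⟶ U := c₁ ≫ o.hom
  let n₀ : (AlgSt.overMap c).toFunctor.obj (Over.mk (𝟙 (𝒳.p.obj ρ))) ⟶ o :=
    Over.homMk (U := (AlgSt.overMap c).toFunctor.obj (Over.mk (𝟙 (𝒳.p.obj ρ)))) (V := o) c₁ (by
      have h0 : ((AlgSt.overMap c).toFunctor.obj (Over.mk (𝟙 (𝒳.p.obj ρ)))).hom =
        𝟙 (𝒳.p.obj ρ) ≫ c := rfl
      rw [h0]
      simp [c])
  have hn₀ : (FibCat.overCat U).p.IsHomLift c₁ n₀ := over_lift_self n₀
  have hpn₀ : 𝒳.p.IsHomLift c₁ (p.toFunctor.map n₀) := inferInstance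
  obtain ⟨χ, hχl, -⟩ := exists_iso_factor h𝒳 c₁ m (p.toFunctor.map n₀) hm hpn₀
  exact ⟨c, χ, hχl⟩

/-- two charts whose values at two points agree in `|𝒳|` become isomorphic over a common field -/
theorem exists_common_ext (h𝒳 : FibCat.IsFibGrpd 𝒳.p) {U U' : Over S}
    (p : FibCat.overCat U ⥤ᵇ 𝒳) (q : FibCat.overCat U' ⥤ᵇ 𝒳) (t : ↥U.left) (t' : ↥U'.left)
    (h : AlgSt.Points.ofChart p t = AlgSt.Points.ofChart q t') :
    ∃ (K : Type u) (_ : Field K) (b : Spec (CommRingCat.of K) ⟶ S) (c : Over.mk b ⟶ U)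
      (c' : Over.mk b ⟶ U'),
      Nonempty (BasedFunctor.comp (AlgSt.overMap c) p ≅ BasedFunctor.comp (AlgSt.overMap c') q) := by
  have hrel := (Groth.Agent.Lib.Helper26.StackPoints.rel_equivalence 𝒳 h𝒳).eqvGen_iff.1
    (Quot.eqvGen_exact h)
  obtain ⟨r, m, m', -⟩ := hrel
  obtain ⟨c, χ, hχ⟩ := exists_iso_overMap h𝒳 p _ r.obj r.lies m
  obtain ⟨c', χ', hχ'⟩ := exists_iso_overMap h𝒳 q _ r.obj r.lies m'
  refine ⟨r.K, r.field, r.str, c, c', ?_⟩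
  have h1 : 𝒳.p.IsHomLift (𝟙 (Over.mk r.str)) χ.inv := inferInstance
  have h2 : 𝒳.p.IsHomLift (𝟙 (Over.mk r.str)) (χ.inv ≫ χ'.hom) := inferInstance
  exact Groth.Agent.Lib.Helper24.SpQ14.nonempty_iso_of_hom_at_id h𝒳 _ _ (χ.inv ≫ χ'.hom) h2

section Field
open Groth.Agent.Lib.Helper24.GerbRes1 Groth.Agent.Lib.Helper14.AS
open Groth.Agent.Lib.Helper24.AlgStLocQ6 Groth.Agent.Lib.Helper24.AlgStSmLoc
open Groth.Agent.Lib.Helper24.AlgStProps AlgSp

/-- a morphism between spectra of fields is flat, quasi-compact and surjective -/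
theorem overMap_field_props {K k : Type u} [Field K] [Field k]
    (b : Spec (CommRingCat.of K) ⟶ S) (a : Spec (CommRingCat.of k) ⟶ S)
    (c : Over.mk b ⟶ Over.mk a) :
    AlgSt.RepByAlgSpWith (AlgSp.LocP @Flat) (AlgSt.overMap c) ∧
      AlgSt.RepByAlgSpWith AlgSp.IsQuasiCompactMor (AlgSt.overMap c) ∧
      AlgSt.RepByAlgSpWith AlgSp.IsSurjectiveMor (AlgSt.overMap c) := by
  have hqc : IsQuasiCompactMor ((yon S).map c) := by
    apply isQuasiCompactMor_of_repWith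
    rw [repWith_yon_map_iff]
    have : IsAffineHom c.left := by
      change IsAffineHom (X := Spec (CommRingCat.of K)) (Y := Spec (CommRingCat.of k)) c.left
      infer_instance
    infer_instance
  have hflat : LocP @Flat ((yon S).map c) :=
    locP_yon_map_of etLocal_flat (flat_to_field k c.left)
  have hsurj : IsSurjectiveMor ((yon S).map c) := by
    apply isSurjectiveMor_yon_map_of_surjective
    have : Nonempty ↥(Over.mk b).left := Groth.Agent.Lib.Helper24.GerbRes1.nonempty_spec_field K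
    have : Subsingleton ↥(Over.mk a).left := Groth.Agent.Lib.Helper24.GerbRes1.subsingleton_spec_field k
    exact ⟨fun y => ⟨Classical.arbitrary _, Subsingleton.elim _ _⟩⟩
  exact ⟨(repByAlgSpWith_overMap_iff _ good_flat c).2 hflat,
    (repByAlgSpWith_overMap_iff _ good_isQuasiCompactMor c).2 hqc,
    (repByAlgSpWith_overMap_iff _ good_isSurjectiveMor c).2 hsurj⟩

end Field

section Main
open Groth.Agent.Lib.Helper24.GerbResMapB Groth.Agent.Lib.Helper24.FibCatMagic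
open Groth.Agent.Lib.Helper24.FibCatInertiaEquiv

variable {𝒴 : AlgSt.Cat S}

/-- S16815 -/
theorem isEquivOver_map_of_isResGerbe (h𝒳 : AlgSt.IsAlgStack Scheme.fppfPrecoverage 𝒳)
    (h𝒴 : AlgSt.IsAlgStack Scheme.fppfPrecoverage 𝒴)
    (f : 𝒳 ⥤ᵇ 𝒴) (x : AlgSt.Points 𝒳)
    (Q : 𝒳.obj → Prop) (hQ : Gerb.IsResGerbe Scheme.fppfPrecoverage 𝒳 x Q)
    (Q' : 𝒴.obj → Prop) (hQ' : Gerb.IsResGerbe Scheme.fppfPrecoverage 𝒴 (AlgSt.Points.map f x) Q')
    (k : Type u) [Field k] (a : Spec (CommRingCat.of k) ⟶ S)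
    (p : FibCat.overCat (Over.mk a) ⥤ᵇ 𝒳)
    (hp : ∀ t : ↥(Over.mk a).left, AlgSt.Points.ofChart p t = x)
    (e : BasedFunctor.comp (FibCat.fpFst p p) (BasedFunctor.comp p f) ≅
      BasedFunctor.comp (FibCat.fpSnd p p) (BasedFunctor.comp p f))
    (he : ∀ c, e.hom.toNatTrans.app c = f.map c.obj.iso.hom)
    (hiso : FibCat.IsEquivOver (FibCat.fpLift (FibCat.fpFst p p) (FibCat.fpSnd p p) e)) :
    ∃ g : AlgSt.fullSub 𝒳 Q ⥤ᵇ AlgSt.fullSub 𝒴 Q',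
      Nonempty (BasedFunctor.comp g (AlgSt.subIncl 𝒴 Q') ≅ BasedFunctor.comp (AlgSt.subIncl 𝒳 Q) f) ∧
      FibCat.IsEquivOver g := by
  obtain ⟨g, ⟨eg⟩⟩ := Groth.Agent.Lib.Helper24.GerbRes7.exists_map_of_isResGerbe h𝒳 h𝒴 f x Q hQ Q' hQ'
  refine ⟨g, ⟨eg⟩, ?_⟩
  obtain ⟨hcl, hZ, hred, hN, hne, hsub, hzx⟩ := hQ
  obtain ⟨hcl', hZ', hred', hN', hne', hsub', hzy⟩ := hQ'
  obtain ⟨k', hk', a', z, hzp, hzs, hzf⟩ :=
    (Groth.Agent.Lib.Helper24.GerbRes6.reduced_noeth_singleton_iff hZ).1 ⟨hred, hN, hne, hsub⟩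
  obtain ⟨k'', hk'', a'', z', hz'p, hz's, hz'f⟩ :=
    (Groth.Agent.Lib.Helper24.GerbRes6.reduced_noeth_singleton_iff hZ').1 ⟨hred', hN', hne', hsub'⟩
  have hfg𝒳 : FibCat.IsFibGrpd 𝒳.p := h𝒳.isStack.1
  have hfg𝒴 : FibCat.IsFibGrpd 𝒴.p := h𝒴.isStack.1
  have hfgZ : FibCat.IsFibGrpd (AlgSt.fullSub 𝒳 Q).p := hZ.isStack.1
  have hfgk : FibCat.IsFibGrpd (FibCat.overCat (Over.mk a)).p :=
    Groth.Agent.Lib.Helper24.StkFpCrit.isFibGrpd_overForget _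
  have hfgk' : FibCat.IsFibGrpd (FibCat.overCat (Over.mk a')).p :=
    Groth.Agent.Lib.Helper24.StkFpCrit.isFibGrpd_overForget _
  have hdiag : AlgSt.RepByAlgSp1 (FibCat.diag f) :=
    Groth.Agent.Lib.Helper24.AlgStSep2.repByAlgSp1_diag h𝒳 h𝒴 f
  -- the hypothesis
  have hN0 : FibCat.IsEquivOver (N p p f) :=
    isEquivOver_of_iso (Groth.Agent.Lib.Helper24.GerbCompare.compIso p p f e he) hiso
  have hI0 : HI f p := (hI_iff hfg𝒳 hfg𝒴 f hfgk p).2 hN0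
  -- common extension
  obtain ⟨t⟩ : Nonempty ↥(Over.mk a).left := Groth.Agent.Lib.Helper24.GerbRes1.nonempty_spec_field k
  obtain ⟨t'⟩ : Nonempty ↥(Over.mk a').left := Groth.Agent.Lib.Helper24.GerbRes1.nonempty_spec_field k'
  have hpt : AlgSt.Points.ofChart p t =
      AlgSt.Points.ofChart (BasedFunctor.comp z (AlgSt.subIncl 𝒳 Q)) t' :=
    (hp t).trans (hzx (AlgSt.Points.ofChart z t')).symm
  obtain ⟨K, hK, b, c, c', ⟨θ⟩⟩ := exists_common_ext hfg𝒳 p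
    (BasedFunctor.comp z (AlgSt.subIncl 𝒳 Q)) t t' hpt
  have hfgK : FibCat.IsFibGrpd (FibCat.overCat (Over.mk b)).p :=
    Groth.Agent.Lib.Helper24.StkFpCrit.isFibGrpd_overForget _
  have hI1 : HI f (BasedFunctor.comp (AlgSt.overMap c) p) := hI_comp f _ _ hI0
  have hI2 : HI f (BasedFunctor.comp (AlgSt.overMap c')
      (BasedFunctor.comp z (AlgSt.subIncl 𝒳 Q))) := hI_congr hfg𝒳 hfg𝒴 f hfgK θ hI1
  obtain ⟨hc1, hc2, hc3⟩ := overMap_field_props b a' c'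
  have hI3 : HI f (BasedFunctor.comp z (AlgSt.subIncl 𝒳 Q)) :=
    hI_of_comp_fpqc hfg𝒳 hfg𝒴 f hdiag hfgK hfgk' _ _ hc1 hc2 hc3 hI2
  have hI4 : HI f (AlgSt.subIncl 𝒳 Q) :=
    hI_of_comp_fppf hfg𝒳 hfg𝒴 f hdiag hfgk' hfgZ _ _ hzf hzp hzs hI3
  have hi1 : (AlgSt.subIncl 𝒳 Q).toFunctor.Faithful :=
    inferInstanceAs (ObjectProperty.ι Q).Faithful
  have hi2 : (AlgSt.subIncl 𝒳 Q).toFunctor.Full := inferInstanceAs (ObjectProperty.ι Q).Full
  have hi1' : (AlgSt.subIncl 𝒴 Q').toFunctor.Faithful :=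
    inferInstanceAs (ObjectProperty.ι Q').Faithful
  have hi2' : (AlgSt.subIncl 𝒴 Q').toFunctor.Full := inferInstanceAs (ObjectProperty.ι Q').Full
  obtain ⟨hfull, hfaith⟩ := full_faithful_of_hI hfg𝒳 hfg𝒴 f hfgZ (AlgSt.subIncl 𝒳 Q) hI4
  -- transfer to `g`
  let eg' : g.toFunctor ⋙ (AlgSt.subIncl 𝒴 Q').toFunctor ≅
      (BasedFunctor.comp (AlgSt.subIncl 𝒳 Q) f).toFunctor :=
    (BasedNatTrans.forgetful _ _).mapIso eg
  have hgf1 : (g.toFunctor ⋙ (AlgSt.subIncl 𝒴 Q').toFunctor).Full := Functor.Full.of_iso eg'.symm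
  have hgf2 : (g.toFunctor ⋙ (AlgSt.subIncl 𝒴 Q').toFunctor).Faithful :=
    Functor.Faithful.of_iso eg'.symm
  have hg1 : g.toFunctor.Full := Functor.Full.of_comp_faithful g.toFunctor (AlgSt.subIncl 𝒴 Q').toFunctor
  have hg2 : g.toFunctor.Faithful := Functor.Faithful.of_comp g.toFunctor (AlgSt.subIncl 𝒴 Q').toFunctor
  have hmono : AlgSt.IsMono g := Groth.Agent.Lib.Helper24.AlgStMono.isMono_of_full g
    (Groth.Agent.Lib.Helper24.AlgStFaithRep.repByAlgSp1_of_faithful hZ hZ' g)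
  rcases Groth.Agent.Lib.Helper24.GerbRes3.isEmpty_or_isEquivOver_of_isMono hZ hZ' g hmono z'
    hz'p hz's hz'f with h | h
  · exact (h.false hne.some).elim
  · exact h

end Main

end Groth.Agent.Lib.Helper24.GerbResMapC
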