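import Groth.Agent.Lib.Helper24.GerbNB
import Groth.Agent.Lib.Helper24.AlgStDescent
set_option autoImplicit false
universe u
set_option linter.style.haveILetI false
set_option linter.unusedSectionVars false
set_option linter.unusedVariables false
set_option backward.isDefEq.respectTransparency false
set_option backward.isDefEq.respectTransparency.types false
open CategoryTheory CategoryTheory.Limits AlgebraicGeometry Opposite

/-! A representable morphism `x : 𝒰 ⟶ 𝒳` has `P` as soon as a jointly locally surjective family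
`g i : 𝒲 i ⟶ 𝒰` has composites `g i ≫ x` with `P` (flat, locally of finite type/presentation). -/

namespace Groth.Agent.Lib.Helper24.GerbSect1
open AlgSp Groth.Agent.Lib.Helper24.GerbNB
open Groth.Agent.Lib.Helper24.AlgStRepS Groth.Agent.Lib.Helper24.AlgStEqv
open Groth.Agent.Lib.Helper24.FibCatEquiv Groth.Agent.Lib.Helper24.AlgStRep
open Groth.Agent.Lib.Helper24.AlgStBridge Groth.Agent.Lib.Helper24.FibCatFpMap
open Groth.Agent.Lib.Helper24.FibCatFpGen Groth.Agent.Lib.Helper24.GerbFormal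
open Groth.Agent.Lib.Helper24.AlgStDescent

variable {S : Scheme.{u}}

section
variable {𝒳 𝒰 𝒯 : AlgSt.Cat S} (h𝒳 : FibCat.IsFibGrpd 𝒳.p) (h𝒯 : FibCat.IsFibGrpd 𝒯.p)
  (x : 𝒰 ⥤ᵇ 𝒳) (y : 𝒯 ⥤ᵇ 𝒳)
  {ι : Type u} {𝒲 : ι → AlgSt.Cat S} (a : ∀ i, 𝒲 i ⥤ᵇ 𝒳) (g : ∀ i, 𝒲 i ⥤ᵇ 𝒰)
  (θ : ∀ i, a i ≅ BasedFunctor.comp (g i) x)

/-- the comparison functors `𝒯 ×_𝒳 𝒲 i ⟶ 𝒯 ×_𝒳 𝒰` -/
def ρ (i : ι) : FibCat.fp y (a i) ⥤ᵇ FibCat.fp y x :=
  fpMap (BasedFunctor.id 𝒯) (g i) (BasedFunctor.id 𝒳)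
    (Iso.refl _ : BasedFunctor.comp y (BasedFunctor.id 𝒳) ≅ BasedFunctor.comp (BasedFunctor.id 𝒯) y)
    (θ i : BasedFunctor.comp (a i) (BasedFunctor.id 𝒳) ≅ BasedFunctor.comp (g i) x)

lemma ρ_obj_iso_hom (i : ι) (z : (FibCat.fp y (a i)).obj) :
    ((ρ x y a g θ i).toFunctor.obj z).obj.iso.hom =
      𝟙 _ ≫ z.obj.iso.hom ≫ (appIso (θ i) z.obj.snd).hom := rfl

include h𝒳 h𝒯 in
theorem jointLocSurjObj_ρ (hg : JointLocSurjObj g) : JointLocSurjObj (ρ x y a g θ) := by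
  intro b
  have hu : 𝒰.p.obj b.obj.snd = (FibCat.fp y x).p.obj b := (p_eq y x b).symm
  apply exists_sieve_of_eq (AlgSp.J S) hu
  obtain ⟨R, hR, hloc⟩ := hg b.obj.snd
  refine ⟨R, hR, fun V k hk => ?_⟩
  obtain ⟨i, w, β, hβ⟩ := hloc k hk
  obtain ⟨t₂, α, hα⟩ := exists_lift' h𝒯 (k ≫ eqToHom hu) b.obj.fst rfl
  have hw : (𝒲 i).p.obj w = V := ((g i).w_obj w).symm.trans (IsHomLift.domain_eq 𝒰.p k β)
  have ht₂ : 𝒯.p.obj t₂ = V := IsHomLift.domain_eq 𝒯.p (k ≫ eqToHom hu) α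
  have hθ₀ : 𝒳.p.IsHomLift (𝟙 (𝒯.p.obj b.obj.fst)) b.obj.iso.hom := iso_isHomLift y x b
  have h1 : 𝒳.p.IsHomLift (k ≫ eqToHom hu) (y.toFunctor.map α) := inferInstance
  have hm : 𝒳.p.IsHomLift (k ≫ eqToHom hu) (y.toFunctor.map α ≫ b.obj.iso.hom) :=
    IsHomLift.comp_lift_id_right' (p := 𝒳.p) (k ≫ eqToHom hu) (y.toFunctor.map α)
      (𝒯.p.obj b.obj.fst) b.obj.iso.hom
  have h2 : 𝒳.p.IsHomLift (𝟙 V) (appIso (θ i) w).hom := appIso_hom_isHomLift (θ i) w hw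
  have h3 : 𝒳.p.IsHomLift k (x.toFunctor.map β) := inferInstance
  have h4 : 𝒳.p.IsHomLift k ((appIso (θ i) w).hom ≫ x.toFunctor.map β) :=
    IsHomLift.comp_lift_id_left' (p := 𝒳.p) V (appIso (θ i) w).hom k (x.toFunctor.map β)
  have hc : 𝒳.p.IsHomLift (k ≫ eqToHom hu) ((appIso (θ i) w).hom ≫ x.toFunctor.map β) :=
    (IsHomLift.lift_comp_eqToHom_iff _ _ _ _).mpr h4
  obtain ⟨χ, hχl, hχ⟩ := exists_iso_factor h𝒳 (k ≫ eqToHom hu)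
    (y.toFunctor.map α ≫ b.obj.iso.hom) ((appIso (θ i) w).hom ≫ x.toFunctor.map β) hm hc
  have hχl' : 𝒳.p.IsHomLift (𝟙 (𝒯.p.obj t₂)) χ.hom := by rw [ht₂]; exact hχl
  let z : (FibCat.fp y (a i)).obj := mkObj (F := y) (G := a i) t₂ w χ hχl'
  have hwz : y.toFunctor.map α ≫ b.obj.iso.hom =
      ((ρ x y a g θ i).toFunctor.obj z).obj.iso.hom ≫ x.toFunctor.map β := by
    rw [ρ_obj_iso_hom, Category.id_comp, Category.assoc]
    exact hχ.symm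
  let m : (ρ x y a g θ i).toFunctor.obj z ⟶ b :=
    mkHom (x := (ρ x y a g θ i).toFunctor.obj z) (y := b) α β hwz
  refine ⟨i, z, m, ?_⟩
  rw [isHomLift_iff_fst]
  exact hα

end

/-- Stacks 06NB in the form used for sections of gerbes -/
theorem repByAlgSpWith_of_factor_family {P : MorphismProperty (AlgSp.Sp S)} (hP : FamDesc P)
    {𝒳 𝒰 : AlgSt.Cat S} (h𝒳 : FibCat.IsFibGrpd 𝒳.p) (x : 𝒰 ⥤ᵇ 𝒳) (hx : AlgSt.RepByAlgSp1 x)
    {ι : Type u} {𝒲 : ι → AlgSt.Cat S} (a : ∀ i, 𝒲 i ⥤ᵇ 𝒳) (g : ∀ i, 𝒲 i ⥤ᵇ 𝒰)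
    (θ : ∀ i, a i ≅ BasedFunctor.comp (g i) x) (ha : ∀ i, AlgSt.RepByAlgSpWith P (a i))
    (hg : JointLocSurjObj g) : AlgSt.RepByAlgSpWith P x := by
  rw [repByAlgSpWith_iff_hasP]
  intro T y
  have hT : FibCat.IsFibGrpd (AlgSt.ofSp ((AlgSp.yon S).obj T)).p := Stk.isFibGrpd_ofPsh _
  refine hasP_of_family hP _ (repByAlgSp_fp_toOverCat x hx T y)
    (ρ x (BasedFunctor.comp (AlgSt.toOverCat T) y) a g θ)
    (jointLocSurjObj_ρ h𝒳 hT x _ a g θ hg) (fun i => ?_)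
  exact (repByAlgSpWith_iff_hasP (a i)).1 (ha i) T y

end Groth.Agent.Lib.Helper24.GerbSect1
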