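import Groth.Agent.Lib.Helper24.GerbSect1
import Groth.Agent.Lib.Helper24.GerbHomeo2
import Groth.Agent.Lib.Helper24.GerbFppf
import Groth.Agent.Lib.Helper24.AlgStLocQ13
import Groth.Agent.Lib.Helper14.AlgSpRedFactor2
set_option autoImplicit false
universe u
set_option linter.style.haveILetI false
set_option linter.unusedSectionVars false
set_option linter.unusedVariables false
set_option backward.isDefEq.respectTransparency false
set_option backward.isDefEq.respectTransparency.types false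
open CategoryTheory CategoryTheory.Limits AlgebraicGeometry Opposite

/-! A section of a gerbe is flat, locally of finite presentation and surjective. -/

namespace Groth.Agent.Lib.Helper24.GerbSect2
open AlgSp Groth.Agent.Lib.Helper24.GerbNB Groth.Agent.Lib.Helper24.GerbSect1
open Groth.Agent.Lib.Helper24.AlgStRepS Groth.Agent.Lib.Helper24.AlgStEqv
open Groth.Agent.Lib.Helper24.FibCatEquiv Groth.Agent.Lib.Helper24.AlgStRep
open Groth.Agent.Lib.Helper24.AlgStBridge Groth.Agent.Lib.Helper24.FibCatFpMap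
open Groth.Agent.Lib.Helper24.FibCatFpGen Groth.Agent.Lib.Helper24.GerbFormal
open Groth.Agent.Lib.Helper24.FibCatYoneda Groth.Agent.Lib.Helper24.FibCatRepDiag
open Groth.Agent.Lib.Helper14.AS

variable {S : Scheme.{u}} {𝒳 𝒰 : AlgSt.Cat S}

section
variable (h𝒳 : FibCat.IsFibGrpd 𝒳.p)
  (π : 𝒳 ⥤ᵇ 𝒰) (hπ : Gerb.LocSurjHom (AlgSp.J S) π)
  (x : 𝒰 ⥤ᵇ 𝒳) (e : BasedFunctor.comp x π ≅ BasedFunctor.id 𝒰)

include hπ e in
/-- every object of a gerbe with a section is locally isomorphic to a value of the section -/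
lemma exists_sieve_iso (ξ : 𝒳.obj) {W : Over S} (hξ : 𝒳.p.obj ξ = W) :
    ∃ R ∈ AlgSp.J S W, ∀ ⦃V : Over S⦄ (l : V ⟶ W), R l →
      ∃ (x₀ : 𝒳.obj) (φ : x₀ ⟶ ξ) (ψ : x₀ ⟶ x.toFunctor.obj (π.toFunctor.obj ξ)),
        𝒳.p.IsHomLift l φ ∧ 𝒳.p.IsHomLift l ψ := by
  have hπξ : 𝒰.p.obj (π.toFunctor.obj ξ) = W := (π.w_obj ξ).trans hξ
  have hb : 𝒰.p.IsHomLift (𝟙 W) (appIso e (π.toFunctor.obj ξ)).inv :=
    appIso_inv_isHomLift e _ hπξ
  obtain ⟨R, hR, hloc⟩ := locSurjHom_at (AlgSp.J S) hπ ξ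
    (x.toFunctor.obj (π.toFunctor.obj ξ)) hξ (appIso e (π.toFunctor.obj ξ)).inv hb
  refine ⟨R, hR, fun V l hl => ?_⟩
  obtain ⟨x₀, φ, ψ, hφ, hψ, -⟩ := hloc l hl
  exact ⟨x₀, φ, ψ, hφ, hψ⟩

include h𝒳 hπ e in
/-- a chart of a gerbe with a section factors through the section fppf locally -/
theorem exists_family {W : Over S} (a : FibCat.overCat W ⥤ᵇ 𝒳) :
    ∃ (Wv : ↥W.left → Over S) (wv : ∀ v, Wv v ⟶ W), (∀ v, Flat (wv v).left) ∧
      (∀ v, LocallyOfFinitePresentation (wv v).left) ∧ (∀ v, v ∈ Set.range (wv v).left) ∧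
      ∀ v, Nonempty (BasedFunctor.comp (AlgSt.overMap (wv v)) a ≅
        BasedFunctor.comp (BasedFunctor.comp (BasedFunctor.comp (AlgSt.overMap (wv v)) a) π) x) := by
  let ξ : 𝒳.obj := a.toFunctor.obj (Over.mk (𝟙 W))
  have hξ : 𝒳.p.obj ξ = W := a.w_obj _
  obtain ⟨R, hR, hloc⟩ := exists_sieve_iso π hπ x e ξ hξ
  obtain ⟨R', hR', hle⟩ := (mem_J_iff R).1 hR
  choose Wv wv hwR hfl hlfp hrange using fun v : ↥W.left => exists_of_mem_KS hR' v
  refine ⟨Wv, wv, hfl, hlfp, hrange, fun v => ?_⟩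
  obtain ⟨x₀, φ, ψ, hφ, hψ⟩ := hloc (wv v) (hle _ _ (hwR v))
  let ob : Over W := (AlgSt.overMap (wv v)).toFunctor.obj (Over.mk (𝟙 (Wv v)))
  have hob : ob.hom = wv v := Category.id_comp _
  have hτ : 𝒳.p.IsHomLift ob.hom (a.toFunctor.map (tOf ob)) := map_tOf_lift a ob
  rw [hob] at hτ
  obtain ⟨ζ, hζl, -⟩ := exists_iso_factor h𝒳 (wv v) (a.toFunctor.map (tOf ob)) φ hτ hφ
  have hπτ : 𝒰.p.IsHomLift (wv v) (π.toFunctor.map (a.toFunctor.map (tOf ob))) := inferInstance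
  have hxπτ : 𝒳.p.IsHomLift (wv v)
      (x.toFunctor.map (π.toFunctor.map (a.toFunctor.map (tOf ob)))) := inferInstance
  obtain ⟨χ, hχl, -⟩ := exists_iso_factor h𝒳 (wv v) ψ
    (x.toFunctor.map (π.toFunctor.map (a.toFunctor.map (tOf ob)))) hψ hxπτ
  have hl : 𝒳.p.IsHomLift (𝟙 (Wv v)) (ζ.hom ≫ χ.hom) := inferInstance
  exact Groth.Agent.Lib.Helper24.SpQ14.nonempty_iso_of_hom_at_id h𝒳
    (BasedFunctor.comp (AlgSt.overMap (wv v)) a)
    (BasedFunctor.comp (BasedFunctor.comp (BasedFunctor.comp (AlgSt.overMap (wv v)) a) π) x)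
    (ζ.hom ≫ χ.hom) hl

include e in
theorem jointLocSurjObj_g {W : Over S} (a : FibCat.overCat W ⥤ᵇ 𝒳)
    (ha : Gerb.LocSurjObj (AlgSp.J S) a) (Wv : ↥W.left → Over S) (wv : ∀ v, Wv v ⟶ W)
    (hcov : Sieve.generate (Presieve.ofArrows Wv wv) ∈ AlgSp.J S W) :
    JointLocSurjObj (fun v => BasedFunctor.comp (BasedFunctor.comp (AlgSt.overMap (wv v)) a) π) := by
  intro u
  have hxu : 𝒳.p.obj (x.toFunctor.obj u) = 𝒰.p.obj u := x.w_obj u
  refine bind_lemma (AlgSp.J S)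
    (fun V k => ∃ (s : Over W) (n : a.toFunctor.obj s ⟶ x.toFunctor.obj u), 𝒳.p.IsHomLift k n)
    (locSurjObj_at (AlgSp.J S) ha (x.toFunctor.obj u) hxu) ?_
  rintro V₁ k₁ ⟨s, n, hn⟩
  have hs : s.left = V₁ := (a.w_obj s).symm.trans (IsHomLift.domain_eq 𝒳.p k₁ n)
  subst hs
  refine ⟨(Sieve.generate (Presieve.ofArrows Wv wv)).pullback s.hom,
    (AlgSp.J S).pullback_stable s.hom hcov, ?_⟩
  intro V₂ l hl
  obtain ⟨Y, t'', g', ⟨v⟩, hfac⟩ := hl
  let w : Over (Wv v) := Over.mk t''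
  let mor : (AlgSt.overMap (wv v)).toFunctor.obj w ⟶ s := Over.homMk l hfac.symm
  have hmor : (FibCat.overCat W).p.IsHomLift l mor := over_lift_self mor
  have h1 : 𝒳.p.IsHomLift l (a.toFunctor.map mor) := map_lift a l mor hmor
  have h2 : 𝒳.p.IsHomLift (l ≫ k₁) (a.toFunctor.map mor ≫ n) := inferInstance
  have h3 : 𝒰.p.IsHomLift (l ≫ k₁) (π.toFunctor.map (a.toFunctor.map mor ≫ n)) := inferInstance
  have h4 : 𝒰.p.IsHomLift (𝟙 (𝒰.p.obj u)) (appIso e u).hom := appIso_hom_isHomLift e u rfl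
  refine ⟨v, w, π.toFunctor.map (a.toFunctor.map mor ≫ n) ≫ (appIso e u).hom, ?_⟩
  exact IsHomLift.comp_lift_id_right' (p := 𝒰.p) (l ≫ k₁)
    (π.toFunctor.map (a.toFunctor.map mor ≫ n)) (𝒰.p.obj u) (appIso e u).hom

end


section Main
open Groth.Agent.Lib.Helper24.AlgStSchLocal Groth.Agent.Lib.Helper24.AlgStProps
open Groth.Agent.Lib.Helper24.AlgStSmooth Groth.Agent.Lib.Helper24.AlgStSmLoc
open Groth.Agent.Lib.Helper24.AlgStDiagLft Groth.Agent.Lib.Helper24.AlgStLocQ5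
open Groth.Agent.Lib.Helper24.AlgStAtlas Groth.Agent.Lib.Helper24.AlgStCalc
open Groth.Agent.Lib.Helper24.AlgSpSmLocal Groth.Agent.Lib.Helper24.AlgStPts3

/-- a section of a morphism with locally liftable isomorphisms is flat and locally of finite
presentation -/
theorem flat_lfp_of_section (h𝒳 : AlgSt.IsAlgStack Scheme.fppfPrecoverage 𝒳)
    (π : 𝒳 ⥤ᵇ 𝒰) (hπ : Gerb.LocSurjHom (AlgSp.J S) π)
    (x : 𝒰 ⥤ᵇ 𝒳) (e : BasedFunctor.comp x π ≅ BasedFunctor.id 𝒰) (hx : AlgSt.RepByAlgSp1 x) :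
    AlgSt.RepByAlgSpWith (AlgSp.LocP @Flat) x ∧
      AlgSt.RepByAlgSpWith (AlgSp.LocP @LocallyOfFinitePresentation) x := by
  obtain ⟨W, a, ha, ha'⟩ := h𝒳.atlas
  have hfX := h𝒳.isStack.1
  have hfW : FibCat.IsFibGrpd (FibCat.overCat W).p :=
    Groth.Agent.Lib.Helper24.StkFpCrit.isFibGrpd_overForget W
  have hWalg : AlgSt.IsAlgStack Scheme.fppfPrecoverage (FibCat.overCat W) :=
    isAlgStack_of_repByAlgSp (repByAlgSp_overCat W)
  have hafl := repByAlgSpWith_locP_mono Groth.Agent.Lib.Helper24.AlgStDiagLft.smooth_le_flat a ha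
  have halfp := repByAlgSpWith_locP_mono Groth.Agent.Lib.Helper24.AlgStDiagLft.smooth_le_lfp a ha
  have haobj : Gerb.LocSurjObj (AlgSp.J S) a :=
    Groth.Agent.Lib.Helper24.GerbFppf.locSurjObj_of_fppf hWalg h𝒳 a
      (surjective_map_of_repByAlgSpWith hfX a ha')
      (locQ_of_repByAlgSpWith hWalg h𝒳 a isSmoothLocalST_flat hafl)
      (locQ_of_repByAlgSpWith hWalg h𝒳 a isSmoothLocalST_lfp halfp)
  obtain ⟨Wv, wv, hfl, hlfp, hrange, hθ⟩ := exists_family hfX π hπ x e a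
  have hcov : Sieve.generate (Presieve.ofArrows Wv wv) ∈ AlgSp.J S W :=
    (mem_J_iff _).2 ⟨_, ofArrows_mem_KS Wv wv (fun v => ⟨hfl v, hlfp v⟩)
      (fun v => ⟨v, hrange v⟩), Sieve.le_generate _⟩
  have hg := jointLocSurjObj_g π x e a haobj Wv wv hcov
  have hfWv : ∀ v, FibCat.IsFibGrpd (FibCat.overCat (Wv v)).p := fun v =>
    Groth.Agent.Lib.Helper24.StkFpCrit.isFibGrpd_overForget (Wv v)
  constructor
  · refine repByAlgSpWith_of_factor_family famDesc_flat hfX x hx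
      (fun v => BasedFunctor.comp (AlgSt.overMap (wv v)) a) _ (fun v => (hθ v).some) (fun v => ?_) hg
    exact repByAlgSpWith_comp (hfWv v) hfW hfX _ good_flat.nice stableComp_flat _ _
      ((repByAlgSpWith_overMap_iff _ good_flat (wv v)).2
        (Groth.Agent.Lib.Helper24.AlgStLocQ6.locP_yon_map_of etLocal_flat (hfl v))) hafl
  · refine repByAlgSpWith_of_factor_family famDesc_lfp hfX x hx
      (fun v => BasedFunctor.comp (AlgSt.overMap (wv v)) a) _ (fun v => (hθ v).some) (fun v => ?_) hg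
    exact repByAlgSpWith_comp (hfWv v) hfW hfX _ good_lfp.nice stableComp_lfp _ _
      ((repByAlgSpWith_overMap_iff _ good_lfp (wv v)).2
        (Groth.Agent.Lib.Helper24.AlgStLocQ6.locP_yon_map_of etLocal_lfp (hlfp v))) halfp


open Groth.Agent.Lib.Helper24.AlgStPts1 Groth.Agent.Lib.Helper24.AlgStPts5 in
/-- a section of a morphism with locally liftable isomorphisms is surjective -/
theorem surjective_of_section (h𝒳 : FibCat.IsFibGrpd 𝒳.p) (h𝒰 : FibCat.IsFibGrpd 𝒰.p)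
    (π : 𝒳 ⥤ᵇ 𝒰) (hπ : Gerb.LocSurjHom (AlgSp.J S) π)
    (x : 𝒰 ⥤ᵇ 𝒳) (e : BasedFunctor.comp x π ≅ BasedFunctor.id 𝒰) : AlgSt.IsSurjective x := by
  have hinj := Groth.Agent.Lib.Helper24.AlgStUniv2.injective_map_of_isSurjective_diag h𝒳 h𝒰 π
    (Groth.Agent.Lib.Helper24.GerbHomeo1.isSurjective_diag_of_locSurjHom h𝒳 h𝒰 π hπ)
  intro p
  refine ⟨AlgSt.Points.map π p, hinj ?_⟩
  rw [← map_comp, map_congr e, map_id]

/-- S16866 -/
theorem section_of_gerbe (h𝒳 : AlgSt.IsAlgStack Scheme.fppfPrecoverage 𝒳)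
    (U : AlgSp.Space S) (π : 𝒳 ⥤ᵇ AlgSt.ofSp U.obj)
    (hπ : Gerb.LocSurjHom (AlgSp.J S) π)
    (x : AlgSt.ofSp U.obj ⥤ᵇ 𝒳) (e : BasedFunctor.comp x π ≅ BasedFunctor.id (AlgSt.ofSp U.obj)) :
    AlgSt.RepByAlgSpWith (AlgSp.LocP @Flat) x ∧
      AlgSt.RepByAlgSpWith (AlgSp.LocP @LocallyOfFinitePresentation) x ∧
      AlgSt.RepByAlgSpWith AlgSp.IsSurjectiveMor x := by
  have hfU : FibCat.IsFibGrpd (AlgSt.ofSp U.obj).p := Stk.isFibGrpd_ofPsh _
  have hx : AlgSt.RepByAlgSp1 x := fun V y =>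
    Groth.Agent.Lib.Helper24.AlgStDiag.repByAlgSp1_of_diag h𝒳.isStack.1 h𝒳.diag
      (Groth.Agent.Lib.Helper24.StkFpCrit.isFibGrpd_overForget V) hfU (repByAlgSp_overCat V)
      ⟨U, BasedFunctor.id _, isEquivOver_id _⟩ y x
  obtain ⟨h1, h2⟩ := flat_lfp_of_section h𝒳 π hπ x e hx
  refine ⟨h1, h2, ?_⟩
  rw [← Groth.Agent.Lib.Helper24.AlgStPts5.isSurjective_iff_repByAlgSpWith hfU h𝒳.isStack.1 x hx]
  exact surjective_of_section h𝒳.isStack.1 hfU π hπ x e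

end Main

end Groth.Agent.Lib.Helper24.GerbSect2
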