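import Groth.Agent.Lib.Helper24.AlgStLocQ13
import Groth.Agent.Lib.Helper14.FppfDesc3
import Groth.Agent.Lib.Helper14.SmoothDesc1
import Groth.Agent.Lib.Helper24.SmSrcSmooth
set_option autoImplicit false
open CategoryTheory AlgebraicGeometry Opposite
universe w₁ v₁ w₂ v₂ w₃ v₃ w₄ v₄ u
set_option backward.isDefEq.respectTransparency false
set_option backward.isDefEq.respectTransparency.types false

/-! Descent of `LocQ` along fppf surjective morphisms of the source (S13001, S13007). -/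

namespace Groth.Agent.Lib.Helper24.LocQFppfSrc
open Groth.Agent.Lib.Helper24.FibCatFpMap
open Groth.Agent.Lib.Helper24.FibCatEquiv Groth.Agent.Lib.Helper24.FibCatFpGen
open Groth.Agent.Lib.Helper24.AlgStRep
open Groth.Agent.Lib.Helper24.AlgStBridge Groth.Agent.Lib.Helper24.AlgStBoot
open Groth.Agent.Lib.Helper24.AlgStRepS
open Groth.Agent.Lib.Helper24.AlgStSchLocal
open Groth.Agent.Lib.Helper24.AlgStGC
open Groth.Agent.Lib.Helper24.AlgStProps Groth.Agent.Lib.Helper24.AlgStSmooth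
open Groth.Agent.Lib.Helper24.AlgStFpAlg Groth.Agent.Lib.Helper24.AlgStSmLoc
open Groth.Agent.Lib.Helper24.AlgStEqv Groth.Agent.Lib.Helper24.PshBridge
open Groth.Agent.Lib.Helper24.AlgStLocQ1 Groth.Agent.Lib.Helper24.FibCatFpMapL
open Groth.Agent.Lib.Helper24.AlgStLocQ2 Groth.Agent.Lib.Helper24.FibCatFpLiftIso
open Groth.Agent.Lib.Helper24.AlgStLocQ3 Groth.Agent.Lib.Helper24.AlgStProdAlg
open Groth.Agent.Lib.Helper24.AlgStLocQ4 Groth.Agent.Lib.Helper24.AlgStLocQ5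
open Groth.Agent.Lib.Helper24.AlgStLocQ6 Groth.Agent.Lib.Helper24.AlgStLocQ7
open Groth.Agent.Lib.Helper24.AlgStLocQ8 Groth.Agent.Lib.Helper24.AlgStLocQ9
open Groth.Agent.Lib.Helper24.AlgStLocQ10 Groth.Agent.Lib.Helper24.AlgStLocQ12
open Groth.Agent.Lib.Helper24.AlgStLocQ13
open Groth.Agent.Lib.Helper24.AlgStCalc Groth.Agent.Lib.Helper24.AlgStDiag
open Groth.Agent.Lib.Helper24.AlgStCalc2 Groth.Agent.Lib.Helper24.AlgStDescent
open Groth.Agent.Lib.Helper24.FibCatOverMap Groth.Agent.Lib.Helper24.AlgStAtlas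
open Groth.Agent.Lib.Helper24.FibCatGraph Groth.Agent.Lib.Helper24.AlgStDiagLft
open Groth.Agent.Lib.Helper24.FibCatFpSwap Groth.Agent.Lib.Helper24.AlgStProd
open Groth.Agent.Lib.Helper24.AlgSpSmLocal
open Groth.Agent.Lib.Helper24.AlgStPts1 Groth.Agent.Lib.Helper24.AlgStPts3
open Groth.Agent.Lib.Helper24.AlgStPts4 Groth.Agent.Lib.Helper24.AlgStPts6
open Groth.Agent.Lib.Helper24.AlgStPts5 Groth.Agent.Lib.Helper24.AlgStPts7
open Groth.Agent.Lib.Helper26.StackPoints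
open CategoryTheory.Limits AlgSt


variable {S : Scheme.{u}}

section
variable {𝒳 𝒴 𝒵 : AlgSt.Cat S} (h𝒳 : AlgSt.IsAlgStack Scheme.fppfPrecoverage 𝒳)
  (h𝒴 : AlgSt.IsAlgStack Scheme.fppfPrecoverage 𝒴)
  (h𝒵 : AlgSt.IsAlgStack Scheme.fppfPrecoverage 𝒵) (f : 𝒳 ⥤ᵇ 𝒴) (g : 𝒴 ⥤ᵇ 𝒵)
open Groth.Agent.Lib.Helper14.AS

include h𝒳 h𝒴 h𝒵 in
/-- a property of morphisms of schemes which descends along fppf covers of the source descends
along flat, locally finitely presented, surjective morphisms of algebraic stacks -/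
theorem locQ_of_comp_fppf {Q : MorphismProperty Scheme.{u}} (hQ : EtLocal Q)
    (hST : AlgSp.IsSmoothLocalST (AlgSp.LocP Q (S := S)))
    (hdesc : ∀ {X Y T : Scheme.{u}} (p : X ⟶ Y) (q : Y ⟶ T), Surjective p → Flat p →
      LocallyOfFinitePresentation p → Q (p ≫ q) → Q q)
    (hf₁ : AlgSt.LocQ (AlgSp.LocP @Flat) f)
    (hf₂ : AlgSt.LocQ (AlgSp.LocP @LocallyOfFinitePresentation) f)
    (hf₃ : AlgSt.IsSurjective f)
    (H : AlgSt.LocQ (AlgSp.LocP Q) (BasedFunctor.comp f g)) :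
    AlgSt.LocQ (AlgSp.LocP Q) g := by
  obtain ⟨U, V, W, x, y, z, h, k, α, β, ⟨hx, hx'⟩, ⟨hy, hy'⟩, ⟨hz, -⟩, ⟨hℓf, hℓf'⟩, ⟨hℓg, -⟩⟩ :=
    exists_two_squares h𝒳 h𝒴 h𝒵 f g
  have hfU : FibCat.IsFibGrpd (FibCat.overCat U).p := StkFpCrit.isFibGrpd_overForget U
  have hfV : FibCat.IsFibGrpd (FibCat.overCat V).p := StkFpCrit.isFibGrpd_overForget V
  have h1 := P_comp_of_locQ h𝒳 h𝒴 h𝒵 f g hST H x y z h k α β hz hℓf hℓg
  have h2 : Q (h ≫ k).left := AlgSp.locP_yon_map h1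
  rw [Over.comp_left] at h2
  have h3 : Flat h.left := AlgSp.locP_yon_map
    ((locQ_iff_forall h𝒳 h𝒴 f isSmoothLocalST_flat).1 hf₁ U V x y h α hx hy hℓf)
  have h3' : LocallyOfFinitePresentation h.left := AlgSp.locP_yon_map
    ((locQ_iff_forall h𝒳 h𝒴 f isSmoothLocalST_lfp).1 hf₂ U V x y h α hx hy hℓf)
  have h4 : AlgSt.IsSurjective (AlgSt.overMap h) := by
    have hffp : FibCat.IsFibGrpd (FibCat.fp f y).p :=
      isFibGrpd_fp _ _ h𝒳.isStack.1 hfV h𝒴.isStack.1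
    have a1 : AlgSt.IsSurjective (FibCat.fpLift x (AlgSt.overMap h) α) :=
      Groth.Agent.Lib.Helper24.AlgStPts3.surjective_map_of_repByAlgSpWith hffp _ hℓf'
    have a2 : AlgSt.IsSurjective (FibCat.fpSnd f y) :=
      Groth.Agent.Lib.Helper24.AlgStPts7.isSurjective_fpSnd h𝒳.isStack.1 h𝒴.isStack.1 hfV f y hf₃
    intro v
    obtain ⟨w, hw⟩ := a2 v
    obtain ⟨τ, hτ⟩ := a1 w
    refine ⟨τ, ?_⟩
    have : AlgSt.overMap h = BasedFunctor.comp (FibCat.fpLift x (AlgSt.overMap h) α)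
        (FibCat.fpSnd f y) := rfl
    rw [this, Groth.Agent.Lib.Helper24.AlgStPts1.map_comp, hτ, hw]
  have hrep : AlgSt.RepByAlgSp1 (AlgSt.overMap h) := (repByAlgSp1_iff_with_top _).2
    (repByAlgSpWith_mono (fun _ _ _ _ => trivial) _
      ((repByAlgSpWith_overMap_iff _ good_flat h).2 (locP_yon_map_of etLocal_flat h3)))
  have h5 : Surjective h.left := surjective_of_isSurjectiveMor_yon_map h
    ((repByAlgSpWith_overMap_iff _ good_isSurjectiveMor h).1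
      ((Groth.Agent.Lib.Helper24.AlgStPts5.isSurjective_iff_repByAlgSpWith hfU hfV _ hrep).1 h4))
  have h6 : Q k.left := hdesc h.left k.left h5 h3 h3' h2
  exact ⟨V, W, y, z, k, β, hy, hy', hz, locP_yon_map_of hQ h6⟩

include h𝒳 h𝒴 h𝒵 in
/-- S13007 -/
theorem locQ_lfp_of_comp_fppf (hf₁ : AlgSt.LocQ (AlgSp.LocP @Flat) f)
    (hf₂ : AlgSt.LocQ (AlgSp.LocP @LocallyOfFinitePresentation) f)
    (hf₃ : AlgSt.IsSurjective f)
    (H : AlgSt.LocQ (AlgSp.LocP @LocallyOfFinitePresentation) (BasedFunctor.comp f g)) :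
    AlgSt.LocQ (AlgSp.LocP @LocallyOfFinitePresentation) g := by
  refine locQ_of_comp_fppf h𝒳 h𝒴 h𝒵 f g etLocal_lfp isSmoothLocalST_lfp ?_ hf₁ hf₂ hf₃ H
  intro X Y T p q hs hfl hfp hq
  exact lfp_of_forall_exists_fppf q (fun y => ⟨X, p, hfl, hfp, hq, hs.surj y⟩)

include h𝒳 h𝒴 h𝒵 in
/-- S13001, in `LocQ` form -/
theorem locQ_lft_of_comp_fppf (hf₁ : AlgSt.LocQ (AlgSp.LocP @Flat) f)
    (hf₂ : AlgSt.LocQ (AlgSp.LocP @LocallyOfFinitePresentation) f)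
    (hf₃ : AlgSt.IsSurjective f)
    (H : AlgSt.LocQ (AlgSp.LocP @LocallyOfFiniteType) (BasedFunctor.comp f g)) :
    AlgSt.LocQ (AlgSp.LocP @LocallyOfFiniteType) g := by
  refine locQ_of_comp_fppf h𝒳 h𝒴 h𝒵 f g etLocal_lft isSmoothLocalST_lft ?_ hf₁ hf₂ hf₃ H
  intro X Y T p q hs hfl hfp hq
  exact lft_of_forall_exists_fppf q (fun y => ⟨X, p, hfl, hfp, hq, hs.surj y⟩)

include h𝒳 h𝒴 h𝒵 in
/-- smoothness descends along fppf covers of the source -/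
theorem locQ_smooth_of_comp_fppf (hf₁ : AlgSt.LocQ (AlgSp.LocP @Flat) f)
    (hf₂ : AlgSt.LocQ (AlgSp.LocP @LocallyOfFinitePresentation) f)
    (hf₃ : AlgSt.IsSurjective f)
    (H : AlgSt.LocQ (AlgSp.LocP @Smooth) (BasedFunctor.comp f g)) :
    AlgSt.LocQ (AlgSp.LocP @Smooth) g := by
  refine locQ_of_comp_fppf h𝒳 h𝒴 h𝒵 f g etLocal_smooth isSmoothLocalST_smooth ?_ hf₁ hf₂ hf₃ H
  intro X Y T p q hs hfl hfp hq
  exact smooth_of_forall_exists_fppf q (fun y => ⟨X, p, hfl, hfp, hq, hs.surj y⟩)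

end

end Groth.Agent.Lib.Helper24.LocQFppfSrc
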