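import Groth.Agent.Lib.Helper24.GerbFlat
import Groth.Agent.Lib.Helper24.LocQFppfSrc

universe u

set_option autoImplicit false
set_option backward.isDefEq.respectTransparency false
set_option backward.isDefEq.respectTransparency.types false

open CategoryTheory CategoryTheory.Limits AlgebraicGeometry Opposite

/-! A gerbe morphism of algebraic stacks is smooth. -/

namespace Groth.Agent.Lib.Helper24.GerbSmooth
open Groth.Agent.Lib.Helper24.GerbFlat Groth.Agent.Lib.Helper24.GerbDiagFlat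
open Groth.Agent.Lib.Helper24.AlgSpSmLocal Groth.Agent.Lib.Helper24.AlgStProps
open Groth.Agent.Lib.Helper24.AlgStRep

variable {S : Scheme.{u}} {𝒳 𝒴 : AlgSt.Cat S}

/-- S16720 -/
theorem smooth_of_isGerbeOver (h𝒳 : AlgSt.IsAlgStack Scheme.fppfPrecoverage 𝒳)
    (h𝒴 : AlgSt.IsAlgStack Scheme.fppfPrecoverage 𝒴) (f : 𝒳 ⥤ᵇ 𝒴)
    (hf : Gerb.IsGerbeOver (AlgSp.J S) f) :
    AlgSt.IsSurjective f ∧ AlgSt.LocQ (AlgSp.LocP @Smooth) f := by
  obtain ⟨⟨hs, hfl, hlfp⟩, ⟨hs', hfl', hlfp'⟩⟩ := (isGerbeOver_iff h𝒳 h𝒴 f).1 hf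
  have hP := isAlgStack_fp_self h𝒳 h𝒴 f
  have hid : AlgSt.LocQ (AlgSp.LocP @Smooth)
      (BasedFunctor.comp (FibCat.diag f) (FibCat.fpFst f f)) :=
    Groth.Agent.Lib.Helper24.AlgStLocQ5.locQ_of_repByAlgSpWith h𝒳 h𝒳 _ isSmoothLocalST_smooth
      (Groth.Agent.Lib.Helper24.AlgStLocQ4.smooth_of_isEquivOver _ (isEquivOver_id 𝒳))
  have h1 := Groth.Agent.Lib.Helper24.LocQFppfSrc.locQ_smooth_of_comp_fppf h𝒳 hP h𝒳
    (FibCat.diag f) (FibCat.fpFst f f) hfl' hlfp' hs' hid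
  exact ⟨hs, Groth.Agent.Lib.Helper24.AlgStLocQ7.locQ_of_fpFst_fppf h𝒳 h𝒴 h𝒳 f f
    isSmoothLocalST_smooth Groth.Agent.Lib.Helper24.AlgStSmooth.good_smooth.loc hfl hlfp hs h1⟩

end Groth.Agent.Lib.Helper24.GerbSmooth
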