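import Groth.Prelude.Def_HMNum
import Groth.Agent.S18285
set_option autoImplicit false
universe u
open CategoryTheory CategoryTheory.Limits MonoidalCategory CartesianMonoidalCategory MonObj AlgebraicGeometry Opposite

/-! Limits under one-parameter subgroups: limit points are fixed, fixed points are their own limits,
limits are unique for separated targets. -/

namespace Groth.Agent.Lib.Helper24.HM1
open HMNum Magnet

variable {S : Scheme.{u}}

theorem isIso_AMon_bot_hom (R : Type u) [CommRing R] :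
    IsIso (Magnet.AMon R ↥(⊥ : AddSubmonoid ℤ)).hom := by
  haveI : Subsingleton (Multiplicative ↥(⊥ : AddSubmonoid ℤ)) := by
    refine ⟨fun x y => ?_⟩
    apply Multiplicative.toAdd.injective
    apply Subtype.ext
    have hx := (Multiplicative.toAdd x).2
    have hy := (Multiplicative.toAdd y).2
    rw [AddSubmonoid.mem_bot] at hx hy
    rw [hx, hy]
  have hb : Function.Bijective (algebraMap R (MonoidAlgebra R (Multiplicative ↥(⊥ : AddSubmonoid ℤ)))) := by
    constructor
    · intro r s h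
      have := congrArg (fun f => f.coeff 1) h
      simpa [MonoidAlgebra.coe_algebraMap] using this
    · intro f
      refine ⟨f.coeff 1, ?_⟩
      ext m
      have hm : m = 1 := Subsingleton.elim _ _
      subst hm
      simp [MonoidAlgebra.coe_algebraMap]
  have h1 : IsIso (CommRingCat.ofHom (algebraMap R (MonoidAlgebra R (Multiplicative ↥(⊥ : AddSubmonoid ℤ))))) :=
    (ConcreteCategory.isIso_iff_bijective _).2 hb
  change IsIso (Spec.map (CommRingCat.ofHom (algebraMap R _)))
  infer_instance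

theorem isIso_AMonS_bot_hom (S : Scheme.{u}) :
    IsIso (Magnet.AMonS S ↥(⊥ : AddSubmonoid ℤ)).hom := by
  have := isIso_AMon_bot_hom (ULift.{u} ℤ)
  change IsIso (pullback.snd (Magnet.AMon (ULift.{u} ℤ) ↥(⊥ : AddSubmonoid ℤ)).hom
    (Limits.IsTerminal.from specULiftZIsTerminal S))
  infer_instance

theorem hom_AMonS_bot_ext {T : Over S} (f g : T ⟶ Magnet.AMonS S ↥(⊥ : AddSubmonoid ℤ)) : f = g := by
  have := isIso_AMonS_bot_hom S
  apply Over.OverMorphism.ext
  rw [← cancel_mono (Magnet.AMonS S ↥(⊥ : AddSubmonoid ℤ)).hom, Over.w f, Over.w g]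

variable {G X : Over S} [GrpObj G] {a : AlgGrp.Action G X} {l : Red.Gm S ⟶ G} [IsMonHom l]

/-- the limit point of a point of the attractor is fixed -/
theorem isFixedBy_limitPt {T : Over S} (φ : (attrPlus a l).obj (op T)) :
    IsFixedBy a l (limitPt φ) := by
  intro T' t g
  have hψ := (Magnet.MonAct.mem_eqvHom_iff
    ((Magnet.attrFace (gmAct a l) isFace_bot).app (op T) φ).1).1
    ((Magnet.attrFace (gmAct a l) isFace_bot).app (op T) φ).2 T' g
    (toUnit T' ≫ η[Magnet.AMonS S ↥(⊥ : AddSubmonoid ℤ)]) t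
  have hb : lift g (toUnit T' ≫ η[Magnet.AMonS S ↥(⊥ : AddSubmonoid ℤ)]) ≫
      (Magnet.subAct S ℤ (⊥ : AddSubmonoid ℤ)).act =
      toUnit T' ≫ η[Magnet.AMonS S ↥(⊥ : AddSubmonoid ℤ)] := hom_AMonS_bot_ext _ _
  rw [hb] at hψ
  have ht : lift (toUnit T' ≫ η[Magnet.AMonS S ↥(⊥ : AddSubmonoid ℤ)]) t ≫
      ((Magnet.attrFace (gmAct a l) isFace_bot).app (op T) φ).1 = t ≫ limitPt φ := by
    have : lift (toUnit T' ≫ η[Magnet.AMonS S ↥(⊥ : AddSubmonoid ℤ)]) t =
        t ≫ lift (toUnit T ≫ η[Magnet.AMonS S ↥(⊥ : AddSubmonoid ℤ)]) (𝟙 T) := by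
      rw [comp_lift, Category.comp_id, ← Category.assoc, toUnit_unique (t ≫ toUnit T) (toUnit T')]
    rw [this, Category.assoc]
    rfl
  rw [ht] at hψ
  rw [Magnet.MonAct.lift_restrict_act, Magnet.MonAct.ofAction_act] at hψ
  exact hψ.symm

/-- a fixed point is the limit of itself -/
theorem isLimitPt_self_of_isFixedBy {T : Over S} (y : T ⟶ X) (hy : IsFixedBy a l y) :
    IsLimitPt a l y y := by
  have heq : Magnet.MonAct.IsEquivariant
      ((Magnet.subAct S ℤ plus).prod (Magnet.MonAct.trivial (Red.Gm S) T)) (gmAct a l)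
      (snd (A1 S) T ≫ y) := by
    rw [Magnet.MonAct.mem_eqvHom_iff]
    intro T' g b t
    rw [lift_snd_assoc, lift_snd_assoc, Magnet.MonAct.lift_restrict_act, Magnet.MonAct.ofAction_act]
    exact (hy T' t g).symm
  let φ₀ : (attrPlus a l).obj (op T) := ⟨snd (A1 S) T ≫ y, heq⟩
  refine ⟨φ₀, ?_, ?_⟩
  · change lift (toUnit T ≫ η[A1 S]) (𝟙 T) ≫ snd (A1 S) T ≫ y = y
    rw [lift_snd_assoc, Category.id_comp]
  · rw [limitPt_eq φ₀]
    change lift (toUnit T ≫ origin S) (𝟙 T) ≫ snd (A1 S) T ≫ y = y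
    rw [lift_snd_assoc, Category.id_comp]

/-- limits are unique when the target is separated -/
theorem isLimitPt_unique [IsSeparated X.hom] {T : Over S} {x y y' : T ⟶ X}
    (h : IsLimitPt a l x y) (h' : IsLimitPt a l x y') : y = y' := by
  obtain ⟨φ, h1, h2⟩ := h
  obtain ⟨φ', h1', h2'⟩ := h'
  have : φ = φ' := Groth.Agent.S18285.result S ℤ X (gmAct a l) plus T (h1.trans h1'.symm)
  subst this
  exact h2.symm.trans h2'

theorem isFixedBy_of_isLimitPt {T : Over S} {x y : T ⟶ X} (h : IsLimitPt a l x y) :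
    IsFixedBy a l y := by
  obtain ⟨φ, -, rfl⟩ := h
  exact isFixedBy_limitPt φ

/-- the numerical function takes the same values at a point and at its limit -/
theorem isMuOf_iff_of_isLimitPt [IsSeparated X.hom] {V : Over S} (π : V ⟶ X)
    (chart : ∀ U : X.left.Opens, Set (Γ(V.left, π.left ⁻¹ᵁ U))) (Φ : AlgGrp.Action G V)
    {T : Over S} {x y : T ⟶ X} (hy : IsLimitPt a l x y) (m : ℤ) :
    IsMuOf a π chart Φ l x m ↔ IsMuOf a π chart Φ l y m := by
  constructor
  · rintro ⟨y', hly', hw⟩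
    obtain rfl : y' = y := isLimitPt_unique hly' hy
    exact ⟨y', isLimitPt_self_of_isFixedBy y' hw.1, hw⟩
  · rintro ⟨y'', hly'', hw⟩
    have hfix : IsFixedBy a l y := isFixedBy_of_isLimitPt hy
    obtain rfl : y'' = y := isLimitPt_unique hly'' (isLimitPt_self_of_isFixedBy y hfix)
    exact ⟨y'', hy, hw⟩

end Groth.Agent.Lib.Helper24.HM1
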