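import Groth.Agent.Lib.Helper24.HM1
import Groth.Prelude.Def_ChGrp
set_option autoImplicit false
universe u
open CategoryTheory CategoryTheory.Limits MonoidalCategory CartesianMonoidalCategory MonObj AlgebraicGeometry Opposite

/-! Conjugating a one-parameter subgroup: limits. -/

namespace Groth.Agent.Lib.Helper24.HM2
open HMNum Magnet

variable {S : Scheme.{u}} {G X : Over S} [GrpObj G] {a : AlgGrp.Action G X}
  {l l' : Red.Gm S ⟶ G} [IsMonHom l] [IsMonHom l'] (g₀ : 𝟙_ (Over S) ⟶ G)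

/-- the conjugation identity on points -/
theorem comp_conj (hl' : l' = (toUnit _ ≫ g₀)⁻¹ * l * (toUnit _ ≫ g₀)) {T' : Over S}
    (g : T' ⟶ Red.Gm S) :
    (g ≫ l') * (toUnit T' ≫ g₀)⁻¹ = (toUnit T' ≫ g₀)⁻¹ * (g ≫ l) := by
  have h1 : g ≫ toUnit (Red.Gm S) ≫ g₀ = toUnit T' ≫ g₀ := by
    rw [← Category.assoc, toUnit_unique (g ≫ toUnit (Red.Gm S)) (toUnit T')]
  rw [hl', MonObj.comp_mul, MonObj.comp_mul, GrpObj.comp_inv, h1]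
  group

theorem toUnit_comp {T T' : Over S} (t : T' ⟶ T) : t ≫ toUnit T ≫ g₀ = toUnit T' ≫ g₀ := by
  rw [← Category.assoc, toUnit_unique (t ≫ toUnit T) (toUnit T')]

/-- translating an attractor point by `g₀⁻¹` -/
theorem isLimitPt_conj (hl' : l' = (toUnit _ ≫ g₀)⁻¹ * l * (toUnit _ ≫ g₀)) {T : Over S}
    (x y₀ : T ⟶ X) (h : IsLimitPt a l (lift (toUnit T ≫ g₀) x ≫ a.act) y₀) :
    IsLimitPt a l' x (lift (toUnit T ≫ g₀)⁻¹ y₀ ≫ a.act) := by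
  obtain ⟨φ, h1, h2⟩ := h
  have hφ := (Magnet.MonAct.mem_eqvHom_iff φ.1).1 φ.2
  have heq : Magnet.MonAct.IsEquivariant
      ((Magnet.subAct S ℤ plus).prod (Magnet.MonAct.trivial (Red.Gm S) T)) (gmAct a l')
      (lift (toUnit (A1 S ⊗ T) ≫ g₀)⁻¹ φ.1 ≫ a.act) := by
    rw [Magnet.MonAct.mem_eqvHom_iff]
    intro T' g b t
    rw [Magnet.MonAct.lift_restrict_act, Magnet.MonAct.ofAction_act]
    rw [comp_lift_assoc, comp_lift_assoc, GrpObj.comp_inv, GrpObj.comp_inv, toUnit_comp, toUnit_comp,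
      hφ T' g b t, Magnet.MonAct.lift_restrict_act, Magnet.MonAct.ofAction_act,
      ← AlgGrp.Action.lift_mul_act, ← AlgGrp.Action.lift_mul_act, comp_conj g₀ hl']
  let φ₀ : (attrPlus a l').obj (op T) := ⟨lift (toUnit (A1 S ⊗ T) ≫ g₀)⁻¹ φ.1 ≫ a.act, heq⟩
  refine ⟨φ₀, ?_, ?_⟩
  · change lift (toUnit T ≫ η[A1 S]) (𝟙 T) ≫ lift (toUnit (A1 S ⊗ T) ≫ g₀)⁻¹ φ.1 ≫ a.act = x
    have h1' : lift (toUnit T ≫ η[A1 S]) (𝟙 T) ≫ φ.1 = lift (toUnit T ≫ g₀) x ≫ a.act := h1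
    rw [comp_lift_assoc, GrpObj.comp_inv, toUnit_comp, h1', ← AlgGrp.Action.lift_mul_act,
      inv_mul_cancel, AlgGrp.Action.lift_one_act]
  · rw [limitPt_eq φ₀]
    change lift (toUnit T ≫ origin S) (𝟙 T) ≫ lift (toUnit (A1 S ⊗ T) ≫ g₀)⁻¹ φ.1 ≫ a.act = _
    rw [comp_lift_assoc, GrpObj.comp_inv, toUnit_comp, ← limitPt_eq φ, h2]

/-- fixed points of the conjugate -/
theorem isFixedBy_conj (hl' : l' = (toUnit _ ≫ g₀)⁻¹ * l * (toUnit _ ≫ g₀)) {T : Over S}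
    (y₀ : T ⟶ X) (h : IsFixedBy a l y₀) :
    IsFixedBy a l' (lift (toUnit T ≫ g₀)⁻¹ y₀ ≫ a.act) := by
  intro T' t g
  rw [comp_lift_assoc, GrpObj.comp_inv, toUnit_comp, ← AlgGrp.Action.lift_mul_act, comp_conj g₀ hl',
    AlgGrp.Action.lift_mul_act, h T' t g]

section Charts

theorem appLE_congr_hom {A B : Scheme.{u}} {f g : A ⟶ B} (e : f = g) (U : B.Opens) (W : A.Opens)
    (h₁ : W ≤ f ⁻¹ᵁ U) (h₂ : W ≤ g ⁻¹ᵁ U) : f.appLE U W h₁ = g.appLE U W h₂ := by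
  subst e
  rfl

theorem appLE_comp_apply {A B C : Scheme.{u}} (f : A ⟶ B) (g : B ⟶ C) (U : C.Opens)
    (W : B.Opens) (W' : A.Opens) (e₁ : W ≤ g ⁻¹ᵁ U) (e₂ : W' ≤ f ⁻¹ᵁ W) (e₃ : W' ≤ (f ≫ g) ⁻¹ᵁ U)
    (s : Γ(C, U)) : f.appLE W W' e₂ (g.appLE U W e₁ s) = (f ≫ g).appLE U W' e₃ s := by
  have := Scheme.Hom.appLE_comp_appLE f g U W W' e₁ e₂
  exact congrArg (fun t => t.hom s) this

variable {V : Over S} (π : V ⟶ X)

theorem evalFn_congr {U : X.left.Opens} (y : Γ(V.left, π.left ⁻¹ᵁ U)) {T' : Over S} {v v' : T' ⟶ V}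
    (e : v = v') (h : ⊤ ≤ v.left ⁻¹ᵁ (π.left ⁻¹ᵁ U)) (h' : ⊤ ≤ v'.left ⁻¹ᵁ (π.left ⁻¹ᵁ U)) :
    evalFn π y v h = evalFn π y v' h' := by
  subst e
  rfl

variable (Φ : AlgGrp.Action G V) (hπ : Φ.act ≫ π = (G ◁ π) ≫ a.act)

/-- evaluating the linearity identity of a lifted action at a pair of points -/
theorem key_linear {U U' : X.left.Opens} (y : Γ(V.left, π.left ⁻¹ᵁ U)) (y' : Γ(V.left, π.left ⁻¹ᵁ U'))
    (c : Γ((G ⊗ X).left, a.act.left ⁻¹ᵁ U' ⊓ (snd G X).left ⁻¹ᵁ U))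
    (hc : Φ.act.left.appLE (π.left ⁻¹ᵁ U') (GLinSh.liftOpen a π U U') (GLinSh.liftOpen_le_act a π Φ hπ) y' =
          (G ◁ π).left.appLE _ (GLinSh.liftOpen a π U U') (GLinSh.liftOpen_le_base a π) c *
            (snd G V).left.appLE (π.left ⁻¹ᵁ U) (GLinSh.liftOpen a π U U') (GLinSh.liftOpen_le_snd a π) y)
    {T' : Over S} (β : T' ⟶ G) (u : T' ⟶ V)
    (hu : ⊤ ≤ u.left ⁻¹ᵁ (π.left ⁻¹ᵁ U))
    (hβu : ⊤ ≤ (lift β u ≫ Φ.act).left ⁻¹ᵁ (π.left ⁻¹ᵁ U')) :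
    ∃ hbase : ⊤ ≤ (lift β (u ≫ π)).left ⁻¹ᵁ (a.act.left ⁻¹ᵁ U' ⊓ (snd G X).left ⁻¹ᵁ U),
      evalFn π y' (lift β u ≫ Φ.act) hβu =
        (lift β (u ≫ π)).left.appLE _ ⊤ hbase c * evalFn π y u hu := by
  have e1 : lift β u ≫ (G ◁ π) = lift β (u ≫ π) := lift_whiskerLeft _ _ _
  have e2 : lift β u ≫ snd G V = u := lift_snd _ _
  have e3 : lift β (u ≫ π) ≫ a.act = (lift β u ≫ Φ.act) ≫ π := by
    rw [Category.assoc, hπ, ← Category.assoc, e1]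
  have e4 : lift β (u ≫ π) ≫ snd G X = u ≫ π := lift_snd _ _
  have hbase : ⊤ ≤ (lift β (u ≫ π)).left ⁻¹ᵁ (a.act.left ⁻¹ᵁ U' ⊓ (snd G X).left ⁻¹ᵁ U) := by
    intro z _
    refine ⟨?_, ?_⟩
    · have h1 := hβu (Set.mem_univ z)
      change ((lift β (u ≫ π) ≫ a.act).left z) ∈ U'
      rw [e3]
      exact h1
    · have h1 := hu (Set.mem_univ z)
      change ((lift β (u ≫ π) ≫ snd G X).left z) ∈ U
      rw [e4]
      exact h1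
  have hp : ⊤ ≤ (lift β u).left ⁻¹ᵁ (GLinSh.liftOpen a π U U') := by
    intro z _
    have h1 := hbase (Set.mem_univ z)
    change ((lift β u ≫ (G ◁ π)).left z) ∈ (a.act.left ⁻¹ᵁ U' ⊓ (snd G X).left ⁻¹ᵁ U)
    rw [e1]
    exact h1
  refine ⟨hbase, ?_⟩
  have h0 := congrArg (fun s => (lift β u).left.appLE (GLinSh.liftOpen a π U U') ⊤ hp s) hc
  simp only [map_mul] at h0
  have hA : (⊤ : T'.left.Opens) ≤ ((lift β u).left ≫ Φ.act.left) ⁻¹ᵁ (π.left ⁻¹ᵁ U') := hβu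
  have hB : (⊤ : T'.left.Opens) ≤ ((lift β u).left ≫ (G ◁ π).left) ⁻¹ᵁ
      (a.act.left ⁻¹ᵁ U' ⊓ (snd G X).left ⁻¹ᵁ U) := by
    rw [← Over.comp_left, e1]; exact hbase
  have hC : (⊤ : T'.left.Opens) ≤ ((lift β u).left ≫ (snd G V).left) ⁻¹ᵁ (π.left ⁻¹ᵁ U) := by
    rw [← Over.comp_left, e2]; exact hu
  rw [appLE_comp_apply _ _ _ _ _ _ hp hA, appLE_comp_apply _ _ _ _ _ _ hp hB,
    appLE_comp_apply _ _ _ _ _ _ hp hC] at h0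
  have k1 : ((lift β u).left ≫ (G ◁ π).left).appLE _ ⊤ hB c =
      (lift β (u ≫ π)).left.appLE _ ⊤ hbase c :=
    congrArg (fun r => r.hom c) (appLE_congr_hom (by rw [← Over.comp_left, e1]) _ _ hB hbase)
  have k2 : ((lift β u).left ≫ (snd G V).left).appLE _ ⊤ hC y = u.left.appLE _ ⊤ hu y :=
    congrArg (fun r => r.hom y) (appLE_congr_hom (by rw [← Over.comp_left, e2]) _ _ hC hu)
  rw [k1, k2] at h0
  exact h0

end Charts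

section Weight

variable (B : GLinSh.LinBun G a)

/-- the weight at the translated fixed point for the conjugate one-parameter subgroup -/
theorem hasFibreWeight_conj (hl' : l' = (toUnit _ ≫ g₀)⁻¹ * l * (toUnit _ ≫ g₀)) {T : Over S}
    (y₀ : T ⟶ X) (w : ℤ) (h : HasFibreWeight B l y₀ w)
    (hchart : ∃ (U' : X.left.Opens) (y' : Γ(B.V.left, B.π.left ⁻¹ᵁ U')), y' ∈ B.atlas.chart U' ∧
      (lift (toUnit T ≫ g₀)⁻¹ y₀ ≫ a.act).left ⁻¹ᵁ U' = ⊤) :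
    HasFibreWeight B l' (lift (toUnit T ≫ g₀)⁻¹ y₀ ≫ a.act) w := by
  obtain ⟨hfix, U, y, hy, hU, hw⟩ := h
  obtain ⟨U', y', hy', hU'⟩ := hchart
  refine ⟨isFixedBy_conj g₀ hl' y₀ hfix, U', y', hy', hU', ?_⟩
  intro T' t g v' hv' hgv'
  obtain ⟨c, hc⟩ := B.lift_linear U U' y y' hy hy'
  -- the translated points
  have hπ := B.lift_π
  have F1 : (lift (toUnit T' ≫ g₀) v' ≫ B.lift.act) ≫ B.π = t ≫ y₀ := by
    rw [Category.assoc, hπ, lift_whiskerLeft_assoc, hv', comp_lift_assoc, GrpObj.comp_inv,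
      toUnit_comp, ← AlgGrp.Action.lift_mul_act, mul_inv_cancel, AlgGrp.Action.lift_one_act]
  have F2 : (lift (g ≫ l) (lift (toUnit T' ≫ g₀) v' ≫ B.lift.act) ≫ B.lift.act) ≫ B.π = t ≫ y₀ := by
    rw [Category.assoc, hπ, lift_whiskerLeft_assoc, F1]
    exact hfix T' t g
  have F3 : lift (toUnit T' ≫ g₀)⁻¹ (lift (toUnit T' ≫ g₀) v' ≫ B.lift.act) ≫ B.lift.act = v' := by
    rw [← AlgGrp.Action.lift_mul_act, inv_mul_cancel, AlgGrp.Action.lift_one_act]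
  have F4 : lift (toUnit T' ≫ g₀)⁻¹
      (lift (g ≫ l) (lift (toUnit T' ≫ g₀) v' ≫ B.lift.act) ≫ B.lift.act) ≫ B.lift.act =
      lift (g ≫ l') v' ≫ B.lift.act := by
    rw [← AlgGrp.Action.lift_mul_act, ← AlgGrp.Action.lift_mul_act]
    congr 2
    have := comp_conj g₀ hl' g
    rw [← this]
    group
  have hu1 := top_le_preimage B.π hU F1
  have hu2 := top_le_preimage B.π hU F2
  have hv1 : ⊤ ≤ (lift (toUnit T' ≫ g₀)⁻¹ (lift (toUnit T' ≫ g₀) v' ≫ B.lift.act) ≫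
      B.lift.act).left ⁻¹ᵁ (B.π.left ⁻¹ᵁ U') := by
    rw [F3]; exact top_le_preimage B.π hU' hv'
  have hv2 : ⊤ ≤ (lift (toUnit T' ≫ g₀)⁻¹
      (lift (g ≫ l) (lift (toUnit T' ≫ g₀) v' ≫ B.lift.act) ≫ B.lift.act) ≫
      B.lift.act).left ⁻¹ᵁ (B.π.left ⁻¹ᵁ U') := by
    rw [F4]; exact top_le_preimage B.π hU' hgv'
  obtain ⟨hb1, K1⟩ := key_linear B.π B.lift hπ y y' c hc (toUnit T' ≫ g₀)⁻¹ _ hu1 hv1
  obtain ⟨hb2, K2⟩ := key_linear B.π B.lift hπ y y' c hc (toUnit T' ≫ g₀)⁻¹ _ hu2 hv2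
  have W := hw T' t g _ F1 F2
  have hC : (lift (toUnit T' ≫ g₀)⁻¹ ((lift (g ≫ l) (lift (toUnit T' ≫ g₀) v' ≫ B.lift.act) ≫
      B.lift.act) ≫ B.π)).left.appLE _ ⊤ hb2 c =
      (lift (toUnit T' ≫ g₀)⁻¹ ((lift (toUnit T' ≫ g₀) v' ≫ B.lift.act) ≫ B.π)).left.appLE _ ⊤ hb1 c :=
    congrArg (fun r => r.hom c) (appLE_congr_hom (by rw [F1, F2]) _ _ hb2 hb1)
  have E1 : evalFn B.π y' (lift (g ≫ l') v' ≫ B.lift.act) (top_le_preimage B.π hU' hgv') =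
      evalFn B.π y' _ hv2 := evalFn_congr B.π y' F4.symm _ _
  have E3 : evalFn B.π y' _ hv1 = evalFn B.π y' v' (top_le_preimage B.π hU' hv') :=
    evalFn_congr B.π y' F3 _ _
  refine E1.trans (K2.trans ?_)
  rw [hC, W, ← E3, K1]
  ring

end Weight

section Main

variable (B : GLinSh.LinBun G a)

/-- a point with values in a one-point base lands in a chart domain -/
theorem exists_chart (s₀ : ↥S) (hS : ∀ s : ↥S, s = s₀) (y₁ : 𝟙_ (Over S) ⟶ X) :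
    ∃ (U' : X.left.Opens) (y' : Γ(B.V.left, B.π.left ⁻¹ᵁ U')), y' ∈ B.atlas.chart U' ∧
      y₁.left ⁻¹ᵁ U' = ⊤ := by
  obtain ⟨U', hpt, y', hy'⟩ := B.atlas.cover (y₁.left s₀)
  refine ⟨U', y', hy', ?_⟩
  ext z
  have hz : z = s₀ := hS z
  subst hz
  simp only [TopologicalSpace.Opens.coe_top, Set.mem_univ, iff_true]
  exact hpt

theorem toUnit_unit_comp : toUnit (𝟙_ (Over S)) ≫ g₀ = g₀ := by
  rw [toUnit_unique (toUnit (𝟙_ (Over S))) (𝟙 _), Category.id_comp]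

theorem isMu_conj_of (hl' : l' = (toUnit _ ≫ g₀)⁻¹ * l * (toUnit _ ≫ g₀))
    (s₀ : ↥S) (hS : ∀ s : ↥S, s = s₀) (x : 𝟙_ (Over S) ⟶ X) (m : ℤ)
    (h : IsMu B l (lift g₀ x ≫ a.act) m) : IsMu B l' x m := by
  obtain ⟨y₀, hlim, hw⟩ := h
  have e := toUnit_unit_comp g₀
  refine ⟨lift (toUnit _ ≫ g₀)⁻¹ y₀ ≫ a.act, isLimitPt_conj g₀ hl' x y₀ (by rwa [e]),
    hasFibreWeight_conj g₀ B hl' y₀ (-m) hw (exists_chart B s₀ hS _)⟩

theorem isMu_conj_iff (hl' : l' = (toUnit _ ≫ g₀)⁻¹ * l * (toUnit _ ≫ g₀))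
    (s₀ : ↥S) (hS : ∀ s : ↥S, s = s₀) (x : 𝟙_ (Over S) ⟶ X) (m : ℤ) :
    IsMu B l (lift g₀ x ≫ a.act) m ↔ IsMu B l' x m := by
  refine ⟨isMu_conj_of g₀ B hl' s₀ hS x m, fun h => ?_⟩
  have hl : l = (toUnit _ ≫ g₀⁻¹)⁻¹ * l' * (toUnit _ ≫ g₀⁻¹) := by
    rw [hl', GrpObj.comp_inv]
    group
  have hx : lift g₀⁻¹ (lift g₀ x ≫ a.act) ≫ a.act = x := by
    rw [← AlgGrp.Action.lift_mul_act, inv_mul_cancel, AlgGrp.Action.lift_one_act]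
  refine isMu_conj_of g₀⁻¹ B hl s₀ hS (lift g₀ x ≫ a.act) m ?_
  rw [hx]
  exact h

end Main

end Groth.Agent.Lib.Helper24.HM2
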