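import Groth.Agent.Lib.Helper24.HM2
import Mathlib.Data.Real.Basic
set_option autoImplicit false
universe u
open CategoryTheory CategoryTheory.Limits MonoidalCategory CartesianMonoidalCategory MonObj AlgebraicGeometry Opposite

/-! Conjugates of one-parameter subgroups are one-parameter subgroups; the normalised values. -/

namespace Groth.Agent.Lib.Helper24.HM3
open HMNum Magnet

variable {S : Scheme.{u}} {G X M : Over S} [GrpObj G] [MonObj M]

theorem toUnit_comp' {T T' : Over S} (t : T' ⟶ T) (g₀ : 𝟙_ (Over S) ⟶ G) :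
    t ≫ toUnit T ≫ g₀ = toUnit T' ≫ g₀ := by
  rw [← Category.assoc, toUnit_unique (t ≫ toUnit T) (toUnit T')]

theorem isMonHom_of_points {N : Over S} [MonObj N] (f : M ⟶ N)
    (h1 : (1 : 𝟙_ (Over S) ⟶ M) ≫ f = 1)
    (h2 : ∀ (T : Over S) (x y : T ⟶ M), (x * y) ≫ f = (x ≫ f) * (y ≫ f)) : IsMonHom f where
  one_hom := by
    rw [MonObj.one_eq_one, MonObj.one_eq_one]
    exact h1
  mul_hom := by
    have e1 : μ[M] = fst M M * snd M M := MonObj.mul_eq_mul M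
    have e2 : μ[N] = fst N N * snd N N := MonObj.mul_eq_mul N
    rw [e1, e2, h2, MonObj.comp_mul, tensorHom_fst, tensorHom_snd]

theorem isMonHom_conj (l : M ⟶ G) [IsMonHom l] (c : 𝟙_ (Over S) ⟶ G) :
    IsMonHom ((toUnit M ≫ c)⁻¹ * l * (toUnit M ≫ c)) := by
  apply isMonHom_of_points
  · rw [MonObj.comp_mul, MonObj.comp_mul, GrpObj.comp_inv, MonObj.one_comp l]
    group
  · intro T x y
    simp only [MonObj.comp_mul, GrpObj.comp_inv, toUnit_comp', MonObj.mul_comp]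
    group

theorem isMonHom_conj' (l : M ⟶ G) [IsMonHom l] (c : 𝟙_ (Over S) ⟶ G) :
    IsMonHom ((toUnit M ≫ c) * l * (toUnit M ≫ c)⁻¹) := by
  have := isMonHom_conj l c⁻¹
  rw [GrpObj.comp_inv, inv_inv] at this
  exact this

section Norm

variable {a : AlgGrp.Action G X} (B : GLinSh.LinBun G a)

/-- the normalised values of the numerical function at `g • x` and at `x` coincide -/
theorem normalisedValues_act_iff (s₀ : ↥S) (hS : ∀ s : ↥S, s = s₀)
    (nrm : (Red.Gm S ⟶ G) → ℝ)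
    (hnrm : ∀ (l : Red.Gm S ⟶ G) [IsMonHom l] (g : 𝟙_ (Over S) ⟶ G),
      nrm ((toUnit _ ≫ g) * l * (toUnit _ ≫ g)⁻¹) = nrm l)
    (x : 𝟙_ (Over S) ⟶ X) (g : 𝟙_ (Over S) ⟶ G) (q : ℝ) :
    (∃ (l : Red.Gm S ⟶ G) (_ : IsMonHom l) (m : ℤ),
        l ≠ 1 ∧ HMNum.IsMu B l (lift g x ≫ a.act) m ∧ q = (m : ℝ) / nrm l) ↔
      ∃ (l : Red.Gm S ⟶ G) (_ : IsMonHom l) (m : ℤ),
        l ≠ 1 ∧ HMNum.IsMu B l x m ∧ q = (m : ℝ) / nrm l := by
  constructor
  · rintro ⟨l, hl, m, hne, hmu, hq⟩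
    haveI := hl
    haveI := isMonHom_conj l g
    refine ⟨(toUnit _ ≫ g)⁻¹ * l * (toUnit _ ≫ g), isMonHom_conj l g, m, ?_, ?_, ?_⟩
    · intro h
      apply hne
      have : l = (toUnit _ ≫ g) * ((toUnit _ ≫ g)⁻¹ * l * (toUnit _ ≫ g)) * (toUnit _ ≫ g)⁻¹ := by
        group
      rw [this, h]
      group
    · exact (Groth.Agent.Lib.Helper24.HM2.isMu_conj_iff g B rfl s₀ hS x m).1 hmu
    · have h1 := hnrm ((toUnit _ ≫ g)⁻¹ * l * (toUnit _ ≫ g)) g
      have h2 : (toUnit _ ≫ g) * ((toUnit _ ≫ g)⁻¹ * l * (toUnit _ ≫ g)) * (toUnit _ ≫ g)⁻¹ = l := by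
        group
      rw [h2] at h1
      rw [← h1]
      exact hq
  · rintro ⟨l, hl, m, hne, hmu, hq⟩
    haveI := hl
    haveI := isMonHom_conj' l g
    refine ⟨(toUnit _ ≫ g) * l * (toUnit _ ≫ g)⁻¹, isMonHom_conj' l g, m, ?_, ?_, ?_⟩
    · intro h
      apply hne
      have : l = (toUnit _ ≫ g)⁻¹ * ((toUnit _ ≫ g) * l * (toUnit _ ≫ g)⁻¹) * (toUnit _ ≫ g) := by
        group
      rw [this, h]
      group
    · have hl' : l = (toUnit _ ≫ g)⁻¹ * ((toUnit _ ≫ g) * l * (toUnit _ ≫ g)⁻¹) * (toUnit _ ≫ g) := by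
        group
      exact (Groth.Agent.Lib.Helper24.HM2.isMu_conj_iff g B hl' s₀ hS x m).2 hmu
    · rw [hnrm l g]
      exact hq

end Norm

end Groth.Agent.Lib.Helper24.HM3
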