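import Groth.Agent.Lib.Helper24.HM3
set_option autoImplicit false
universe u
open CategoryTheory CategoryTheory.Limits MonoidalCategory CartesianMonoidalCategory MonObj AlgebraicGeometry Opposite

/-! The numerical function and the parabolic subgroup of a one-parameter subgroup. -/

namespace Groth.Agent.Lib.Helper24.HM4
open HMNum Magnet Groth.Agent.Lib.Helper24.HM1 Groth.Agent.Lib.Helper24.HM2 Groth.Agent.Lib.Helper24.HM3

variable {S : Scheme.{u}}

/-- the multiplicative group fixes the origin of the affine line -/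
theorem act_origin {T' : Over S} (g : T' ⟶ Red.Gm S) :
    lift g (toUnit T' ≫ origin S) ≫ (Magnet.subAct S ℤ plus).act = toUnit T' ≫ origin S := by
  have h := (Magnet.MonAct.isEquivariant_iff _ _ _).1 (Magnet.isEquivariant_faceMapS S isFace_bot)
    T' g (toUnit T' ≫ η[Magnet.AMonS S ↥(⊥ : AddSubmonoid ℤ)])
  have hb : lift g (toUnit T' ≫ η[Magnet.AMonS S ↥(⊥ : AddSubmonoid ℤ)]) ≫
      (Magnet.subAct S ℤ (⊥ : AddSubmonoid ℤ)).act =
      toUnit T' ≫ η[Magnet.AMonS S ↥(⊥ : AddSubmonoid ℤ)] := hom_AMonS_bot_ext _ _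
  rw [← Category.assoc, hb] at h
  unfold origin
  rw [← Category.assoc, ← h]

/-- the action of the multiplicative group on the affine line, on points -/
theorem act_incl {T' : Over S} (g h : T' ⟶ Red.Gm S) :
    lift g (h ≫ incl S) ≫ (Magnet.subAct S ℤ plus).act = (g * h) ≫ incl S := by
  unfold Magnet.subAct
  rw [Magnet.MonAct.lift_restrict_act, Magnet.MonAct.lift_regular_act, MonObj.mul_comp]

variable {G X : Over S} [GrpObj G] {l : Red.Gm S ⟶ G} [IsMonHom l] (g₀ : 𝟙_ (Over S) ⟶ G)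

/-- the extension to the affine line of `u ↦ l(u) γ l(u)⁻¹` is equivariant for conjugation -/
theorem extension_conj [IsSeparated G.hom] (f : A1 S ⟶ G)
    (hf : incl S ≫ f = l * (toUnit _ ≫ g₀) * l⁻¹) {T' : Over S} (g : T' ⟶ Red.Gm S)
    (b : T' ⟶ A1 S) :
    ((lift g b ≫ (Magnet.subAct S ℤ plus).act) ≫ f) * (g ≫ l) = (g ≫ l) * (b ≫ f) := by
  have key : ((lift (snd (A1 S) (Red.Gm S)) (fst (A1 S) (Red.Gm S)) ≫
        (Magnet.subAct S ℤ plus).act) ≫ f) * (snd (A1 S) (Red.Gm S) ≫ l) =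
      (snd (A1 S) (Red.Gm S) ≫ l) * (fst (A1 S) (Red.Gm S) ≫ f) := by
    apply Groth.Agent.Lib.Helper10.MagnetDom.hom_ext_of_whiskerRight_map S plus.subtype
      Subtype.val_injective (Red.Gm S) G
    apply Magnet.hom_ext_lift₂
    intro T'' h k
    have e0 : lift h k ≫ (Magnet.AMonS.map S plus.subtype ▷ Red.Gm S) = lift (h ≫ incl S) k :=
      lift_whiskerRight _ _ _
    rw [← Category.assoc, ← Category.assoc, e0, MonObj.comp_mul, MonObj.comp_mul]
    simp only [← Category.assoc, comp_lift, lift_fst, lift_snd]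
    rw [act_incl]
    simp only [Category.assoc, hf, MonObj.comp_mul, GrpObj.comp_inv, MonObj.mul_comp,
      toUnit_comp']
    rw [← MonObj.mul_comp, Category.assoc, hf]
    simp only [MonObj.comp_mul, GrpObj.comp_inv, MonObj.mul_comp, toUnit_comp']
    group
  have := congrArg (fun w => lift b g ≫ w) key
  simp only [MonObj.comp_mul] at this
  simp only [← Category.assoc, comp_lift, lift_fst, lift_snd] at this
  exact this

/-- the value at the origin commutes with the one-parameter subgroup -/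
theorem origin_comm [IsSeparated G.hom] (f : A1 S ⟶ G)
    (hf : incl S ≫ f = l * (toUnit _ ≫ g₀) * l⁻¹) {T' : Over S} (g : T' ⟶ Red.Gm S) :
    (toUnit T' ≫ origin S ≫ f) * (g ≫ l) = (g ≫ l) * (toUnit T' ≫ origin S ≫ f) := by
  have h := extension_conj g₀ f hf g (toUnit T' ≫ origin S)
  rw [act_origin] at h
  simpa only [Category.assoc] using h

/-- the value at the unit section of the extension -/
theorem unit_extension (f : A1 S ⟶ G) (hf : incl S ≫ f = l * (toUnit _ ≫ g₀) * l⁻¹) :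
    η[A1 S] ≫ f = g₀ := by
  have h1 : η[Red.Gm S] ≫ incl S = η[A1 S] := IsMonHom.one_hom (incl S)
  rw [← h1, Category.assoc, hf, MonObj.comp_mul, MonObj.comp_mul, GrpObj.comp_inv,
    IsMonHom.one_hom l, ← Category.assoc, toUnit_unique (η[Red.Gm S] ≫ toUnit _) (𝟙 _),
    Category.id_comp, MonObj.one_eq_one]
  group

variable {a : AlgGrp.Action G X}

/-- translating an attractor point by the extension: the limit of `γ • x` -/
theorem isLimitPt_parabolic [IsSeparated G.hom] (f : A1 S ⟶ G)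
    (hf : incl S ≫ f = l * (toUnit _ ≫ g₀) * l⁻¹) {T : Over S} (x y : T ⟶ X)
    (h : IsLimitPt a l x y) :
    IsLimitPt a l (lift (toUnit T ≫ g₀) x ≫ a.act) (lift (toUnit T ≫ origin S ≫ f) y ≫ a.act) := by
  obtain ⟨φ, h1, h2⟩ := h
  have hφ := (Magnet.MonAct.mem_eqvHom_iff φ.1).1 φ.2
  have heq : Magnet.MonAct.IsEquivariant
      ((Magnet.subAct S ℤ plus).prod (Magnet.MonAct.trivial (Red.Gm S) T)) (gmAct a l)
      (lift (fst (A1 S) T ≫ f) φ.1 ≫ a.act) := by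
    rw [Magnet.MonAct.mem_eqvHom_iff]
    intro T' g b t
    rw [Magnet.MonAct.lift_restrict_act, Magnet.MonAct.ofAction_act]
    rw [comp_lift_assoc, comp_lift_assoc, lift_fst_assoc, lift_fst_assoc,
      hφ T' g b t, Magnet.MonAct.lift_restrict_act, Magnet.MonAct.ofAction_act,
      ← AlgGrp.Action.lift_mul_act, ← AlgGrp.Action.lift_mul_act, extension_conj g₀ f hf]
  let φ₀ : (attrPlus a l).obj (op T) := ⟨lift (fst (A1 S) T ≫ f) φ.1 ≫ a.act, heq⟩
  refine ⟨φ₀, ?_, ?_⟩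
  · change lift (toUnit T ≫ η[A1 S]) (𝟙 T) ≫ lift (fst (A1 S) T ≫ f) φ.1 ≫ a.act = _
    have h1' : lift (toUnit T ≫ η[A1 S]) (𝟙 T) ≫ φ.1 = x := h1
    rw [comp_lift_assoc, lift_fst_assoc, h1', Category.assoc, unit_extension g₀ f hf]
  · rw [limitPt_eq φ₀]
    change lift (toUnit T ≫ origin S) (𝟙 T) ≫ lift (fst (A1 S) T ≫ f) φ.1 ≫ a.act = _
    rw [comp_lift_assoc, lift_fst_assoc, ← limitPt_eq φ, h2, Category.assoc]

section Main

variable (B : GLinSh.LinBun G a)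

theorem isMu_parabolic_of [IsSeparated G.hom] (f : A1 S ⟶ G)
    (hf : incl S ≫ f = l * (toUnit _ ≫ g₀) * l⁻¹)
    (s₀ : ↥S) (hS : ∀ s : ↥S, s = s₀) (x : 𝟙_ (Over S) ⟶ X) (m : ℤ)
    (h : IsMu B l x m) : IsMu B l (lift g₀ x ≫ a.act) m := by
  obtain ⟨y, hlim, hw⟩ := h
  have hcomm := origin_comm g₀ f hf (𝟙 (Red.Gm S))
  rw [Category.id_comp] at hcomm
  have hl' : l = (toUnit _ ≫ (origin S ≫ f)⁻¹)⁻¹ * l * (toUnit _ ≫ (origin S ≫ f)⁻¹) := by
    rw [GrpObj.comp_inv, inv_inv, hcomm]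
    group
  have hinv : (toUnit (𝟙_ (Over S)) ≫ (origin S ≫ f)⁻¹)⁻¹ = toUnit (𝟙_ (Over S)) ≫ origin S ≫ f := by
    rw [GrpObj.comp_inv, inv_inv]
  refine ⟨lift (toUnit _ ≫ origin S ≫ f) y ≫ a.act, ?_, ?_⟩
  · have := isLimitPt_parabolic g₀ f hf x y hlim
    rwa [toUnit_unit_comp g₀] at this
  · have := hasFibreWeight_conj (origin S ≫ f)⁻¹ B hl' y (-m) hw
      (by rw [hinv]; exact exists_chart B s₀ hS _)
    rwa [hinv] at this

theorem isMu_parabolic_iff [IsSeparated G.hom] (f : A1 S ⟶ G)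
    (hf : incl S ≫ f = l * (toUnit _ ≫ g₀) * l⁻¹)
    (s₀ : ↥S) (hS : ∀ s : ↥S, s = s₀) (x : 𝟙_ (Over S) ⟶ X) (m : ℤ) :
    IsMu B l x m ↔ IsMu B l (lift g₀ x ≫ a.act) m := by
  refine ⟨isMu_parabolic_of g₀ B f hf s₀ hS x m, fun h => ?_⟩
  have hf' : incl S ≫ f⁻¹ = l * (toUnit _ ≫ g₀⁻¹) * l⁻¹ := by
    rw [GrpObj.comp_inv, hf, GrpObj.comp_inv]
    group
  have hx : lift g₀⁻¹ (lift g₀ x ≫ a.act) ≫ a.act = x := by
    rw [← AlgGrp.Action.lift_mul_act, inv_mul_cancel, AlgGrp.Action.lift_one_act]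
  have := isMu_parabolic_of g₀⁻¹ B f⁻¹ hf' s₀ hS (lift g₀ x ≫ a.act) m h
  rwa [hx] at this

theorem isMu_iff_isMu_conj_of_mem_parabolic [IsSeparated G.hom] {l' : Red.Gm S ⟶ G} [IsMonHom l']
    (hg₀ : ∃ f : A1 S ⟶ G, incl S ≫ f = l * (toUnit _ ≫ g₀) * l⁻¹)
    (hl' : l' = (toUnit _ ≫ g₀)⁻¹ * l * (toUnit _ ≫ g₀))
    (s₀ : ↥S) (hS : ∀ s : ↥S, s = s₀) (x : 𝟙_ (Over S) ⟶ X) (m : ℤ) :
    IsMu B l x m ↔ IsMu B l' x m := by
  obtain ⟨f, hf⟩ := hg₀
  exact (isMu_parabolic_iff g₀ B f hf s₀ hS x m).trans (isMu_conj_iff g₀ B hl' s₀ hS x m)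

end Main

end Groth.Agent.Lib.Helper24.HM4
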