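import Groth.Agent.Lib.Helper24.ElemCofilt
import Groth.Agent.Lib.Helper4.EtNbhd3
import Groth.Agent.S2778
import Groth.Prelude.Def_Hensel
set_option autoImplicit false
set_option linter.unusedSectionVars false
set_option linter.unusedVariables false
universe u
open CategoryTheory CategoryTheory.Limits AlgebraicGeometry Opposite

/-! Independence of the henselization from the elementary etale neighbourhood. -/

namespace Groth.Agent.Lib.Helper24.HensIndep
open AlgSp Groth.Agent.Lib.Helper14.AS Groth.Agent.Lib.Helper24.ElemNbhd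
open Groth.Agent.Lib.Helper24.ElemCofilt IsLocalRing

theorem isHenselization_base {A A' R : Type u} [CommRing A] [IsLocalRing A] [CommRing A']
    [IsLocalRing A'] [Algebra A A'] [IsLocalHom (algebraMap A A')]
    (hA' : EGA4loc.IsStrictlyEssentiallyEtale A A')
    [CommRing R] [IsLocalRing R] [Algebra A' R] [IsLocalHom (algebraMap A' R)]
    [hR : Hensel.IsHenselization A' R] [Algebra A R] [IsScalarTower A A' R] :
    ∃ (_ : IsLocalHom (algebraMap A R)), Hensel.IsHenselization A R := by
  have hloc : IsLocalHom (algebraMap A R) := by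
    rw [IsScalarTower.algebraMap_eq A A' R]; exact RingHom.isLocalHom_comp _ _
  refine ⟨hloc, ⟨hR.henselian, fun T _ _ f hf => ?_⟩⟩
  haveI := hf
  obtain ⟨ψ', ⟨hψloc, hψ⟩, hψuniq⟩ := Groth.Agent.S2778.result A A' hA' T f
  obtain ⟨g, hg, hguniq⟩ := hR.universal T ψ' hψloc
  refine ⟨g, ?_, fun g' hg' => ?_⟩
  · change g.comp (algebraMap A R) = f
    rw [IsScalarTower.algebraMap_eq A A' R, ← RingHom.comp_assoc, hg, hψ]
  · have h1 : (g'.comp (algebraMap A' R)).comp (algebraMap A A') = f := by
      rw [RingHom.comp_assoc, ← IsScalarTower.algebraMap_eq A A' R]; exact hg'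
    have h2 : IsLocalHom (g'.comp (algebraMap A' R)) := by
      constructor
      intro x hx
      by_contra hnu
      have hxm : x ∈ maximalIdeal A' := (IsLocalRing.mem_maximalIdeal x).2 hnu
      rw [← Groth.Agent.Lib.Helper4.EssEtale.map_maximalIdeal hA'.1] at hxm
      have hle : (maximalIdeal A).map (algebraMap A A') ≤
          (maximalIdeal T).comap (g'.comp (algebraMap A' R)) := by
        rw [Ideal.map_le_iff_le_comap]
        intro a ha
        rw [Ideal.mem_comap, Ideal.mem_comap]
        have e : (g'.comp (algebraMap A' R)) (algebraMap A A' a) = f a := by rw [← h1]; rfl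
        rw [e]
        exact (IsLocalRing.mem_maximalIdeal _).2 fun h =>
          ((IsLocalRing.mem_maximalIdeal a).1 ha) (IsLocalHom.map_nonunit a h)
      exact (IsLocalRing.mem_maximalIdeal _).1 (hle hxm) hx
    have := hψuniq _ ⟨h2, h1⟩
    exact hguniq g' this

variable {S : Scheme.{u}}

set_option backward.isDefEq.respectTransparency.types false in
theorem surjective_residueFieldMap {X : Sp S} (hX : IsAlgSpace X) {U U' : Over S}
    (a : (yon S).obj U ⟶ X) (a' : (yon S).obj U' ⟶ X) (g : U' ⟶ U) (u' : ↥U'.left)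
    (hg : (yon S).map g ≫ a = a') (hm : Mono (FieldPt.ofPt a' u').toHom) :
    Function.Surjective (g.left.residueFieldMap u').hom := by
  have hq : Points.mk (FieldPt.ofPt a (g.left u')) = Points.mk (FieldPt.ofPt a' u') := by
    change Points.ofPt a (g.left u') = Points.ofPt a' u'
    rw [← hg, ofPt_yon_map_comp]
  have hrep' : Representable (FieldPt.ofPt a' u').toHom := repDiag_of_isAlgSpace hX _
  obtain ⟨j, hj⟩ := factors_through_mono_point (FieldPt.ofPt a' u') (FieldPt.ofPt a (g.left u'))
    hm hrep' hq
  let γ : (FieldPt.ofPt a' u').pt ⟶ (FieldPt.ofPt a (g.left u')).pt :=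
    Over.homMk (Spec.map (g.left.residueFieldMap u')) (by
      change Spec.map (g.left.residueFieldMap u') ≫ U.left.fromSpecResidueField (g.left u') ≫ U.hom =
        U'.left.fromSpecResidueField u' ≫ U'.hom
      rw [Scheme.Hom.SpecMap_residueFieldMap_fromSpecResidueField_assoc, Over.w g])
  have hγg : γ ≫ Over.homMk (U.left.fromSpecResidueField (g.left u')) rfl =
      (Over.homMk (U'.left.fromSpecResidueField u') rfl : (FieldPt.ofPt a' u').pt ⟶ U') ≫ g :=
    Over.OverMorphism.ext (Scheme.Hom.SpecMap_residueFieldMap_fromSpecResidueField g.left u')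
  have hγ : (yon S).map γ ≫ (FieldPt.ofPt a (g.left u')).toHom = (FieldPt.ofPt a' u').toHom := by
    rw [FieldPt.toHom_ofPt, FieldPt.toHom_ofPt, ← Category.assoc, ← Functor.map_comp, hγg,
      Functor.map_comp, Category.assoc, hg]
  have hγj : γ ≫ j = 𝟙 _ := by
    apply (yon S).map_injective
    rw [← cancel_mono (FieldPt.ofPt a' u').toHom, Functor.map_comp, Category.assoc, hj, hγ,
      CategoryTheory.Functor.map_id, Category.id_comp]
  obtain ⟨ψ, hψ⟩ : ∃ ψ : U'.left.residueField u' ⟶ U.left.residueField (g.left u'),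
      Spec.map ψ = j.left := ⟨Spec.preimage j.left, Spec.map_preimage _⟩
  have h1 : ψ ≫ g.left.residueFieldMap u' = 𝟙 _ := by
    apply Spec.map_injective
    rw [Spec.map_comp, hψ, Spec.map_id]
    exact congrArg (fun m => m.left) hγj
  intro y
  refine ⟨ψ.hom y, ?_⟩
  have := congrArg (fun m => m.hom y) h1
  exact this

set_option backward.isDefEq.respectTransparency.types false in
theorem strictlyEssEtale_of_elem {X : Sp S} (hX : IsAlgSpace X) {U U' : Over S}
    (a : (yon S).obj U ⟶ X) (a' : (yon S).obj U' ⟶ X) (g : U' ⟶ U) (u' : ↥U'.left)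
    (hg : (yon S).map g ≫ a = a') (hae : RepWith @Etale a) (hae' : RepWith @Etale a')
    (hm : Mono (FieldPt.ofPt a' u').toHom) :
    letI := (g.left.stalkMap u').hom.toAlgebra
    ∃ (_ : IsLocalHom (algebraMap ↥(U.left.presheaf.stalk (g.left u')) ↥(U'.left.presheaf.stalk u'))),
      EGA4loc.IsStrictlyEssentiallyEtale ↥(U.left.presheaf.stalk (g.left u'))
        ↥(U'.left.presheaf.stalk u') := by
  letI := (g.left.stalkMap u').hom.toAlgebra
  have hloc : IsLocalHom (algebraMap ↥(U.left.presheaf.stalk (g.left u')) ↥(U'.left.presheaf.stalk u')) :=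
    inferInstanceAs (IsLocalHom (g.left.stalkMap u').hom)
  have hge : RepWith @Etale ((yon S).map g) :=
    repWith_etale_of_comp ((yon S).map g) a hae (by rw [hg]; exact hae')
  have hEt : Etale g.left := (repWith_yon_map_iff _ _).1 hge
  have hess := Groth.Agent.Lib.Helper4.EtNbhd.essEtale_stalkMap g.left u'
  refine ⟨hloc, hess, RingHom.injective _, ?_⟩
  exact surjective_residueFieldMap hX a a' g u' hg hm

end Groth.Agent.Lib.Helper24.HensIndep
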