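import Mathlib
import Groth.Prelude.Def_FGA
import Groth.Agent.Lib.Helper1.AH17

set_option autoImplicit false
set_option backward.isDefEq.respectTransparency false
set_option backward.isDefEq.respectTransparency.types false

universe u

namespace Groth.Agent.Lib.Helper24.HilbBC

open CategoryTheory Limits AlgebraicGeometry
open Groth.Agent.Lib.Helper1.AH

/-- Transport of a property of `Z ⟶ T` along the comap of the ideal sheaf by an isomorphism. -/
lemma prop_comap_iso (P : MorphismProperty Scheme.{u}) [P.RespectsIso] {A B T : Scheme.{u}}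
    (e : A ≅ B) (I : A.IdealSheafData) (q : B ⟶ T) :
    P ((I.comap e.inv).subschemeι ≫ q) ↔ P (I.subschemeι ≫ e.hom ≫ q) := by
  have h1 : (I.comap e.inv).subschemeι =
      ((I.comapIso e.inv).hom ≫ pullback.snd e.inv I.subschemeι) ≫ I.subschemeι ≫ e.hom := by
    rw [← Scheme.IdealSheafData.comapIso_hom_fst]
    have : pullback.fst e.inv I.subschemeι =
        pullback.snd e.inv I.subschemeι ≫ I.subschemeι ≫ e.hom := by
      rw [← Category.assoc, ← pullback.condition, Category.assoc, Iso.inv_hom_id, Category.comp_id]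
    rw [this, Category.assoc]
  have h2 : (I.comap e.inv).subschemeι ≫ q =
      ((I.comapIso e.inv).hom ≫ pullback.snd e.inv I.subschemeι) ≫ (I.subschemeι ≫ e.hom ≫ q) := by
    rw [h1]; simp only [Category.assoc]
  rw [h2]
  exact P.cancel_left_of_respectsIso _ _


section

variable {X S S' : Scheme.{u}} (f : X ⟶ S) (h : S' ⟶ S) (H : Over S)

/-- the comparison map `X' ×_{S'} H' ⟶ X ×_S H` -/
noncomputable abbrev bigMap :
    PicF.XT (pullback.snd f h) (Over.mk (pullback.snd H.hom h)) ⟶ PicF.XT f H :=
  pullback.map (pullback.snd f h) (pullback.snd H.hom h) f H.hom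
    (pullback.fst f h) (pullback.fst H.hom h) h pullback.condition.symm pullback.condition.symm

/-- `X' ×_{S'} T' ≅ X ×_S T'` -/
noncomputable abbrev eIso (T' : Over S') :
    PicF.XT (pullback.snd f h) T' ≅ PicF.XT f (Over.mk (T'.hom ≫ h)) :=
  pullbackLeftPullbackSndIso f h T'.hom

/-- the `S`-morphism underlying an `S'`-morphism to `H'` -/
noncomputable abbrev toH {T' : Over S'} (g : T' ⟶ Over.mk (pullback.snd H.hom h)) :
    Over.mk (T'.hom ≫ h) ⟶ H :=
  Over.homMk (g.left ≫ pullback.fst H.hom h) (by
    have := Over.w g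
    dsimp at this ⊢
    rw [Category.assoc, pullback.condition, ← Category.assoc, this])

lemma key {T' : Over S'} (g : T' ⟶ Over.mk (pullback.snd H.hom h)) :
    PicF.XTmap (pullback.snd f h) g ≫ bigMap f h H =
      (eIso f h T').hom ≫ PicF.XTmap f (toH h H g) := by
  have a1 : PicF.XTmap (pullback.snd f h) g ≫
      pullback.fst (pullback.snd f h) (pullback.snd H.hom h) =
      pullback.fst (pullback.snd f h) T'.hom := FGA.XTmap_fst (pullback.snd f h) g
  have a2 : PicF.XTmap (pullback.snd f h) g ≫
      pullback.snd (pullback.snd f h) (pullback.snd H.hom h) =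
      pullback.snd (pullback.snd f h) T'.hom ≫ g.left := XTmap_snd (pullback.snd f h) g
  have b1 : PicF.XTmap f (toH h H g) ≫ pullback.fst f H.hom =
      pullback.fst f (T'.hom ≫ h) := FGA.XTmap_fst f (toH h H g)
  have b2 : PicF.XTmap f (toH h H g) ≫ pullback.snd f H.hom =
      pullback.snd f (T'.hom ≫ h) ≫ (g.left ≫ pullback.fst H.hom h) := XTmap_snd f (toH h H g)
  apply pullback.hom_ext
  · rw [Category.assoc, pullback.lift_fst, ← Category.assoc, a1, Category.assoc, b1,
      pullbackLeftPullbackSndIso_hom_fst]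
  · have l1 : (PicF.XTmap (pullback.snd f h) g ≫ bigMap f h H) ≫ pullback.snd f H.hom =
        pullback.snd (pullback.snd f h) T'.hom ≫ g.left ≫ pullback.fst H.hom h := by
      rw [Category.assoc, pullback.lift_snd, ← Category.assoc, a2, Category.assoc]
    have l2 : ((eIso f h T').hom ≫ PicF.XTmap f (toH h H g)) ≫ pullback.snd f H.hom =
        pullback.snd (pullback.snd f h) T'.hom ≫ g.left ≫ pullback.fst H.hom h := by
      rw [Category.assoc, b2, ← Category.assoc, pullbackLeftPullbackSndIso_hom_snd]
    rw [l1, l2]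

lemma hilbPull_iff {T' : Over S'} (g : T' ⟶ Over.mk (pullback.snd H.hom h))
    (I : (PicF.XT f H).IdealSheafData)
    (J : (PicF.XT (pullback.snd f h) T').IdealSheafData) :
    FGA.hilbPull (pullback.snd f h) g (I.comap (bigMap f h H)) = J ↔
      FGA.hilbPull f (toH h H g) I = J.comap (eIso f h T').inv := by
  rw [hilbPull_eq_comap, hilbPull_eq_comap, ← Scheme.IdealSheafData.comap_comp, key,
    Scheme.IdealSheafData.comap_comp]
  constructor
  · intro h1
    rw [← h1, ← Scheme.IdealSheafData.comap_comp, Iso.inv_hom_id,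
      Scheme.IdealSheafData.comap_id]
  · intro h1
    rw [h1, ← Scheme.IdealSheafData.comap_comp, Iso.hom_inv_id,
      Scheme.IdealSheafData.comap_id]

theorem hilbRepresentedBy_baseChange [IsNoetherian S] [IsNoetherian S']
    (Z : FGA.HilbSet f H) (hH : FGA.HilbRepresentedBy f H Z) [LocallyOfFiniteType H.hom]
    (Z' : FGA.HilbSet (pullback.snd f h) (Over.mk (pullback.snd H.hom h)))
    (hZ' : Z'.1 = Z.1.comap (bigMap f h H)) :
    FGA.HilbRepresentedBy (pullback.snd f h) (Over.mk (pullback.snd H.hom h)) Z' := by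
  refine ⟨?_, ?_⟩
  · exact LocallyOfFiniteType.isLocallyNoetherian (pullback.snd H.hom h)
  · intro T' _ Y'
    have hsnd : (eIso f h T').hom ≫ PicF.XTproj f (Over.mk (T'.hom ≫ h)) =
        PicF.XTproj (pullback.snd f h) T' := pullbackLeftPullbackSndIso_hom_snd _ _ _
    let Yt : FGA.HilbSet f (Over.mk (T'.hom ≫ h)) :=
      ⟨Y'.1.comap (eIso f h T').inv, by
        rw [prop_comap_iso @IsProper, hsnd]; exact Y'.2.1, by
        rw [prop_comap_iso @Flat, hsnd]; exact Y'.2.2⟩
    have : IsLocallyNoetherian (Over.mk (T'.hom ≫ h)).left := ‹IsLocallyNoetherian T'.left›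
    obtain ⟨g, hg, huniq⟩ := hH.2 (Over.mk (T'.hom ≫ h)) Yt
    have hw : g.left ≫ H.hom = T'.hom ≫ h := Over.w g
    let g' : T' ⟶ Over.mk (pullback.snd H.hom h) :=
      Over.homMk (pullback.lift g.left T'.hom hw) (by simp)
    have hg' : toH h H g' = g := by
      apply Over.OverMorphism.ext
      simp [toH, g']
    refine ⟨g', ?_, ?_⟩
    · show FGA.hilbPull _ g' Z'.1 = Y'.1
      rw [hZ', hilbPull_iff, hg']
      exact hg
    · intro g'' hg''
      have h1 : FGA.hilbPull _ g'' Z'.1 = Y'.1 := hg''
      rw [hZ', hilbPull_iff] at h1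
      have h2 : toH h H g'' = g := huniq _ h1
      apply Over.OverMorphism.ext
      apply pullback.hom_ext
      · have := congrArg (fun k => k.left) h2
        simpa [toH, g'] using this
      · have := Over.w g''
        simpa [g'] using this

end

end Groth.Agent.Lib.Helper24.HilbBC
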