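import Mathlib
import Groth.Prelude.Def_FGA
import Groth.Agent.Lib.Helper1.AH17

set_option autoImplicit false
set_option backward.isDefEq.respectTransparency false
set_option backward.isDefEq.respectTransparency.types false

universe u

namespace Groth.Agent.Lib.Helper24.HilbOpen

open CategoryTheory Limits AlgebraicGeometry
open Groth.Agent.Lib.Helper1.AH

/-- (K1) restricting the pushforward ideal along an open immersion gives back the ideal,
when the composite is a closed immersion. -/
lemma comap_map_of_isClosedImmersion {A₀ A : Scheme.{u}} (k : A₀ ⟶ A) [Mono k]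
    (I : A₀.IdealSheafData) [IsClosedImmersion (I.subschemeι ≫ k)] :
    (I.map k).comap k = I := by
  have sq : IsPullback I.subschemeι (𝟙 I.subscheme) k (I.subschemeι ≫ k) :=
    IsPullback.of_vert_isIso_mono ⟨by simp⟩
  have h1 : (I.map k) = (I.subschemeι ≫ k).ker := rfl
  rw [h1, ← Scheme.IdealSheafData.ker_fst_of_isClosedImmersion]
  have h2 : I.subschemeι = sq.isoPullback.hom ≫ pullback.fst k (I.subschemeι ≫ k) :=
    (sq.isoPullback_hom_fst).symm
  conv_rhs => rw [← I.ker_subschemeι, h2, Scheme.Hom.ker_comp_of_isIso]

/-- (K2) an ideal sheaf whose support lies in the open `k` is the pushforward of its restriction. -/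
lemma map_comap_of_support_subset {A₀ A : Scheme.{u}} (k : A₀ ⟶ A) [IsOpenImmersion k]
    (I : A.IdealSheafData) (h : (I.support : Set A) ⊆ Set.range k) :
    (I.comap k).map k = I := by
  have hsurj : Function.Surjective (pullback.snd k I.subschemeι) := by
    rw [← Set.range_eq_univ, Scheme.Pullback.range_snd]
    ext z
    simp only [Set.mem_preimage, Set.mem_univ, iff_true]
    apply h
    rw [← I.range_subschemeι]
    exact ⟨z, rfl⟩
  haveI : Epi (pullback.snd k I.subschemeι).base := (TopCat.epi_iff_surjective _).2 hsurj
  haveI : IsIso (pullback.snd k I.subschemeι) := IsOpenImmersion.isIso _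
  have h1 : (I.comap k).subschemeι ≫ k =
      ((I.comapIso k).hom ≫ pullback.snd k I.subschemeι) ≫ I.subschemeι := by
    rw [← Scheme.IdealSheafData.comapIso_hom_fst, Category.assoc, Category.assoc,
      pullback.condition]
  show ((I.comap k).subschemeι ≫ k).ker = I
  rw [h1, Scheme.Hom.ker_comp_of_isIso, I.ker_subschemeι]

end Groth.Agent.Lib.Helper24.HilbOpen
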