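import Groth.Agent.Lib.Helper24.HilbOpenA

set_option autoImplicit false
set_option backward.isDefEq.respectTransparency false
set_option backward.isDefEq.respectTransparency.types false

universe u

namespace Groth.Agent.Lib.Helper24.HilbOpen

open CategoryTheory Limits AlgebraicGeometry
open Groth.Agent.Lib.Helper1.AH

variable {X U S : Scheme.{u}} (f : X ⟶ S) (j : U ⟶ X) [IsOpenImmersion j] (H : Over S)
  (Z : FGA.HilbSet f H)

/-- the projection of the universal family to `H`. -/
noncomputable abbrev pZ : Z.1.subscheme ⟶ H.left := Z.1.subschemeι ≫ PicF.XTproj f H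

/-- the locus of the universal family outside `U`. -/
def bad : Set Z.1.subscheme :=
  {z | (pullback.fst f H.hom).base (Z.1.subschemeι.base z) ∉ Set.range j.base}

lemma isClosed_bad : IsClosed (bad f j H Z) := by
  have h1 : IsOpen (Set.range j.base) := j.isOpenEmbedding.isOpen_range
  have h2 : Continuous (fun z : Z.1.subscheme =>
      (pullback.fst f H.hom).base (Z.1.subschemeι.base z)) :=
    (pullback.fst f H.hom).continuous.comp Z.1.subschemeι.continuous
  exact (h1.preimage h2).isClosed_compl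

/-- the open locus of `H` over which the universal family lies in `U`. -/
noncomputable def H₀ : H.left.Opens :=
  ⟨((pZ f H Z).base '' bad f j H Z)ᶜ, by
    haveI : IsProper (pZ f H Z) := Z.2.1
    exact ((pZ f H Z).isClosedMap _ (isClosed_bad f j H Z)).isOpen_compl⟩

lemma mem_H₀ (h : H.left) :
    h ∈ H₀ f j H Z ↔ ∀ z : Z.1.subscheme, (pZ f H Z).base z = h →
      (pullback.fst f H.hom).base (Z.1.subschemeι.base z) ∈ Set.range j.base := by
  constructor
  · intro hh z hz
    by_contra hcon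
    exact hh ⟨z, hcon, hz⟩
  · rintro hh ⟨z, hz1, hz2⟩
    exact hz1 (hh z hz2)

/-- the comparison map `U ×_S H₀ ⟶ X ×_S H`. -/
noncomputable abbrev mm :
    pullback (j ≫ f) ((H₀ f j H Z).ι ≫ H.hom) ⟶ pullback f H.hom :=
  pullback.map (j ≫ f) ((H₀ f j H Z).ι ≫ H.hom) f H.hom j (H₀ f j H Z).ι (𝟙 S)
    (Category.comp_id _) (Category.comp_id _)

lemma range_eq :
    Set.range (pullback.snd (mm f j H Z) Z.1.subschemeι) =
      Set.range (pullback.fst (pZ f H Z) (H₀ f j H Z).ι) := by
  rw [Scheme.Pullback.range_snd, Scheme.Pullback.range_fst, Scheme.Pullback.range_map,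
    Scheme.Opens.range_ι]
  ext z
  simp only [Set.mem_preimage, Set.mem_inter_iff]
  constructor
  · rintro ⟨_, h2⟩
    exact h2
  · intro h
    refine ⟨?_, h⟩
    exact (mem_H₀ f j H Z _).1 h z rfl

/-- the restricted family is the preimage of `H₀`. -/
noncomputable def eIso :
    pullback (mm f j H Z) Z.1.subschemeι ≅ pullback (pZ f H Z) (H₀ f j H Z).ι :=
  IsOpenImmersion.isoOfRangeEq (pullback.snd (mm f j H Z) Z.1.subschemeι)
    (pullback.fst (pZ f H Z) (H₀ f j H Z).ι) (range_eq f j H Z)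

lemma eIso_hom_snd :
    (eIso f j H Z).hom ≫ pullback.snd (pZ f H Z) (H₀ f j H Z).ι =
      pullback.fst (mm f j H Z) Z.1.subschemeι ≫
        pullback.snd (j ≫ f) ((H₀ f j H Z).ι ≫ H.hom) := by
  rw [← cancel_mono (H₀ f j H Z).ι]
  have h1 : (eIso f j H Z).hom ≫ pullback.fst (pZ f H Z) (H₀ f j H Z).ι =
      pullback.snd (mm f j H Z) Z.1.subschemeι :=
    IsOpenImmersion.isoOfRangeEq_hom_fac _ _ _
  rw [Category.assoc, ← pullback.condition, ← Category.assoc, h1]
  have h2 : pullback.snd (j ≫ f) ((H₀ f j H Z).ι ≫ H.hom) ≫ (H₀ f j H Z).ι =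
      mm f j H Z ≫ pullback.snd f H.hom := (pullback.lift_snd _ _ _).symm
  have h3 : pullback.fst (mm f j H Z) Z.1.subschemeι ≫ mm f j H Z =
      pullback.snd (mm f j H Z) Z.1.subschemeι ≫ Z.1.subschemeι := pullback.condition
  calc pullback.snd (mm f j H Z) Z.1.subschemeι ≫ pZ f H Z
      = (pullback.snd (mm f j H Z) Z.1.subschemeι ≫ Z.1.subschemeι) ≫ pullback.snd f H.hom :=
        (Category.assoc _ _ _).symm
    _ = (pullback.fst (mm f j H Z) Z.1.subschemeι ≫ mm f j H Z) ≫ pullback.snd f H.hom := by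
        rw [h3]
    _ = pullback.fst (mm f j H Z) Z.1.subschemeι ≫
          (pullback.snd (j ≫ f) ((H₀ f j H Z).ι ≫ H.hom) ≫ (H₀ f j H Z).ι) := by
        rw [h2, Category.assoc]
    _ = _ := (Category.assoc _ _ _).symm

lemma prop_comap (P : MorphismProperty Scheme.{u}) [P.RespectsIso] [P.IsStableUnderBaseChange]
    (hP : P (pZ f H Z)) :
    P ((Z.1.comap (mm f j H Z)).subschemeι ≫
      PicF.XTproj (j ≫ f) (Over.mk ((H₀ f j H Z).ι ≫ H.hom))) := by
  have h1 : (Z.1.comap (mm f j H Z)).subschemeι ≫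
      PicF.XTproj (j ≫ f) (Over.mk ((H₀ f j H Z).ι ≫ H.hom)) =
      ((Z.1.comapIso (mm f j H Z)).hom ≫ (eIso f j H Z).hom) ≫
        pullback.snd (pZ f H Z) (H₀ f j H Z).ι := by
    rw [Category.assoc, eIso_hom_snd, ← Scheme.IdealSheafData.comapIso_hom_fst, Category.assoc]
    rfl
  rw [h1, P.cancel_left_of_respectsIso]
  exact P.pullback_snd _ _ hP

/-- the restricted universal family. -/
noncomputable def Z₀ : FGA.HilbSet (j ≫ f) (Over.mk ((H₀ f j H Z).ι ≫ H.hom)) :=
  ⟨Z.1.comap (mm f j H Z), prop_comap f j H Z @IsProper Z.2.1, prop_comap f j H Z @Flat Z.2.2⟩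

end Groth.Agent.Lib.Helper24.HilbOpen
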