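import Groth.Agent.Lib.Helper24.HilbOpenB

set_option autoImplicit false
set_option backward.isDefEq.respectTransparency false
set_option backward.isDefEq.respectTransparency.types false

universe u

namespace Groth.Agent.Lib.Helper24.HilbOpen

open CategoryTheory Limits AlgebraicGeometry
open Groth.Agent.Lib.Helper1.AH

variable {X U S : Scheme.{u}} (f : X ⟶ S) (j : U ⟶ X) [IsOpenImmersion j]

/-- `U ×_S T ⟶ X ×_S T`. -/
noncomputable abbrev jT (T : Over S) : PicF.XT (j ≫ f) T ⟶ PicF.XT f T :=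
  pullback.map (j ≫ f) T.hom f T.hom j (𝟙 T.left) (𝟙 S) (Category.comp_id _)
    ((Category.comp_id _).trans (Category.id_comp _).symm)

lemma jT_proj (T : Over S) : jT f j T ≫ PicF.XTproj f T = PicF.XTproj (j ≫ f) T := by
  have h : jT f j T ≫ pullback.snd f T.hom = pullback.snd (j ≫ f) T.hom ≫ 𝟙 T.left :=
    pullback.lift_snd _ _ _
  exact h.trans (Category.comp_id _)

lemma jT_fst (T : Over S) :
    jT f j T ≫ pullback.fst f T.hom = pullback.fst (j ≫ f) T.hom ≫ j :=
  pullback.lift_fst _ _ _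

lemma range_jT (T : Over S) :
    Set.range (jT f j T) = pullback.fst f T.hom ⁻¹' Set.range j := by
  rw [Scheme.Pullback.range_map]
  ext x
  simp

lemma XTmap_jT {T T' : Over S} (g : T' ⟶ T) :
    PicF.XTmap (j ≫ f) g ≫ jT f j T = jT f j T' ≫ PicF.XTmap f g := by
  apply pullback.hom_ext
  · rw [Category.assoc, jT_fst, ← Category.assoc, FGA.XTmap_fst, Category.assoc, FGA.XTmap_fst,
      jT_fst]
  · have h1 : jT f j T ≫ pullback.snd f T.hom = pullback.snd (j ≫ f) T.hom := jT_proj f j T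
    have h2 : jT f j T' ≫ pullback.snd f T'.hom = pullback.snd (j ≫ f) T'.hom := jT_proj f j T'
    rw [Category.assoc, h1, XTmap_snd, Category.assoc, XTmap_snd, ← Category.assoc, h2]

variable [IsSeparated f]

instance isClosedImmersion_comp_jT (T : Over S) (Y : FGA.HilbSet (j ≫ f) T) :
    IsClosedImmersion (Y.1.subschemeι ≫ jT f j T) := by
  haveI : IsImmersion (Y.1.subschemeι ≫ jT f j T) := inferInstance
  haveI : IsProper ((Y.1.subschemeι ≫ jT f j T) ≫ PicF.XTproj f T) := by
    rw [Category.assoc, jT_proj]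
    exact Y.2.1
  haveI : IsSeparated (PicF.XTproj f T) := inferInstanceAs (IsSeparated (pullback.snd f T.hom))
  haveI : IsProper (Y.1.subschemeι ≫ jT f j T) :=
    IsProper.of_comp _ (PicF.XTproj f T)
  exact IsClosedImmersion.of_isPreimmersion _
    (Y.1.subschemeι ≫ jT f j T).isClosedMap.isClosed_range

/-- transport of a property along `toImage` for a closed immersion. -/
lemma prop_map (P : MorphismProperty Scheme.{u}) [P.RespectsIso] (T : Over S)
    (Y : FGA.HilbSet (j ≫ f) T) (hP : P (Y.1.subschemeι ≫ PicF.XTproj (j ≫ f) T)) :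
    P ((Y.1.map (jT f j T)).subschemeι ≫ PicF.XTproj f T) := by
  have h1 : (Y.1.subschemeι ≫ jT f j T).toImage ≫
      ((Y.1.map (jT f j T)).subschemeι ≫ PicF.XTproj f T) =
      Y.1.subschemeι ≫ PicF.XTproj (j ≫ f) T := by
    have h2 : (Y.1.subschemeι ≫ jT f j T).toImage ≫ (Y.1.map (jT f j T)).subschemeι =
        Y.1.subschemeι ≫ jT f j T := (Y.1.subschemeι ≫ jT f j T).toImage_imageι
    rw [← Category.assoc, h2, Category.assoc, jT_proj]
  rw [← P.cancel_left_of_respectsIso (Y.1.subschemeι ≫ jT f j T).toImage, h1]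
  exact hP

/-- push a family in `U` to a family in `X`. -/
noncomputable def pushY (T : Over S) (Y : FGA.HilbSet (j ≫ f) T) : FGA.HilbSet f T :=
  ⟨Y.1.map (jT f j T), prop_map f j @IsProper T Y Y.2.1, prop_map f j @Flat T Y Y.2.2⟩

lemma support_pushY (T : Over S) (Y : FGA.HilbSet (j ≫ f) T) :
    ((Y.1.map (jT f j T)).support : Set (PicF.XT f T)) ⊆ Set.range (jT f j T) := by
  have h1 : (Y.1.map (jT f j T)) = (Y.1.subschemeι ≫ jT f j T).ker := rfl
  rw [h1, Scheme.Hom.support_ker]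
  have hc : IsClosed (Set.range (Y.1.subschemeι ≫ jT f j T)) :=
    (Y.1.subschemeι ≫ jT f j T).isClosedEmbedding.isClosed_range
  rw [hc.closure_eq]
  rintro _ ⟨w, rfl⟩
  exact ⟨Y.1.subschemeι w, rfl⟩

lemma exists_of_isPullback {P A B C : Scheme.{u}} {fst : P ⟶ A} {snd : P ⟶ B} {a : A ⟶ C}
    {b : B ⟶ C} (sq : IsPullback fst snd a b) (x : A) (y : B) (h : a x = b y) :
    ∃ p : P, fst p = x ∧ snd p = y := by
  obtain ⟨z, hz1, hz2⟩ := Scheme.Pullback.exists_preimage_pullback x y h
  refine ⟨sq.isoPullback.inv z, ?_, ?_⟩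
  · rw [← Scheme.Hom.comp_apply, sq.isoPullback_inv_fst]; exact hz1
  · rw [← Scheme.Hom.comp_apply, sq.isoPullback_inv_snd]; exact hz2

end Groth.Agent.Lib.Helper24.HilbOpen
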