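import Groth.Agent.Lib.Helper24.HilbOpenC

set_option autoImplicit false
set_option backward.isDefEq.respectTransparency false
set_option backward.isDefEq.respectTransparency.types false

universe u

namespace Groth.Agent.Lib.Helper24.HilbOpen

open CategoryTheory Limits AlgebraicGeometry
open Groth.Agent.Lib.Helper1.AH

variable {X U S : Scheme.{u}} (f : X ⟶ S) (j : U ⟶ X) [IsOpenImmersion j] (H : Over S)
  (Z : FGA.HilbSet f H)

/-- the inclusion `H₀ ⟶ H` over `S`. -/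
noncomputable abbrev incl : Over.mk ((H₀ f j H Z).ι ≫ H.hom) ⟶ H :=
  Over.homMk (H₀ f j H Z).ι rfl

lemma XTmap_mm {T : Over S} (g₀ : T ⟶ Over.mk ((H₀ f j H Z).ι ≫ H.hom)) :
    PicF.XTmap (j ≫ f) g₀ ≫ mm f j H Z = jT f j T ≫ PicF.XTmap f (g₀ ≫ incl f j H Z) := by
  have e1 : PicF.XTmap (j ≫ f) g₀ ≫ pullback.fst (j ≫ f) ((H₀ f j H Z).ι ≫ H.hom) =
      pullback.fst (j ≫ f) T.hom := FGA.XTmap_fst (j ≫ f) g₀
  have e2 : PicF.XTmap (j ≫ f) g₀ ≫ pullback.snd (j ≫ f) ((H₀ f j H Z).ι ≫ H.hom) =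
      pullback.snd (j ≫ f) T.hom ≫ g₀.left := XTmap_snd (j ≫ f) g₀
  have e3 : PicF.XTmap f (g₀ ≫ incl f j H Z) ≫ pullback.fst f H.hom = pullback.fst f T.hom :=
    FGA.XTmap_fst f (g₀ ≫ incl f j H Z)
  have e4 : PicF.XTmap f (g₀ ≫ incl f j H Z) ≫ pullback.snd f H.hom =
      pullback.snd f T.hom ≫ (g₀.left ≫ (H₀ f j H Z).ι) := XTmap_snd f (g₀ ≫ incl f j H Z)
  apply pullback.hom_ext
  · have h1 : mm f j H Z ≫ pullback.fst f H.hom =
        pullback.fst (j ≫ f) ((H₀ f j H Z).ι ≫ H.hom) ≫ j := pullback.lift_fst _ _ _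
    rw [Category.assoc, h1, ← Category.assoc, e1, Category.assoc, e3, jT_fst]
  · have h1 : mm f j H Z ≫ pullback.snd f H.hom =
        pullback.snd (j ≫ f) ((H₀ f j H Z).ι ≫ H.hom) ≫ (H₀ f j H Z).ι := pullback.lift_snd _ _ _
    have h2 : jT f j T ≫ pullback.snd f T.hom = pullback.snd (j ≫ f) T.hom := jT_proj f j T
    rw [Category.assoc, h1, ← Category.assoc, e2, Category.assoc, Category.assoc, e4,
      reassoc_of% h2]

lemma hilbPull_Z₀ {T : Over S} (g₀ : T ⟶ Over.mk ((H₀ f j H Z).ι ≫ H.hom)) :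
    FGA.hilbPull (j ≫ f) g₀ (Z₀ f j H Z).1 =
      (FGA.hilbPull f (g₀ ≫ incl f j H Z) Z.1).comap (jT f j T) := by
  rw [hilbPull_eq_comap, hilbPull_eq_comap]
  show (Z.1.comap (mm f j H Z)).comap _ = _
  rw [← Scheme.IdealSheafData.comap_comp, XTmap_mm, Scheme.IdealSheafData.comap_comp]

lemma support_subset {T : Over S} (g₀ : T ⟶ Over.mk ((H₀ f j H Z).ι ≫ H.hom)) :
    ((FGA.hilbPull f (g₀ ≫ incl f j H Z) Z.1).support : Set (PicF.XT f T)) ⊆
      Set.range (jT f j T) := by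
  rw [hilbPull_eq_comap, Scheme.IdealSheafData.support_comap, range_jT]
  intro x' hx'
  have hx : (PicF.XTmap f (g₀ ≫ incl f j H Z)) x' ∈ (Z.1.support : Set (PicF.XT f H)) := hx'
  rw [← Z.1.range_subschemeι] at hx
  obtain ⟨z, hz⟩ := hx
  -- pZ z lies in H₀
  have h1 : (pZ f H Z) z = (H₀ f j H Z).ι (g₀.left ((PicF.XTproj f T) x')) := by
    show (Z.1.subschemeι ≫ pullback.snd f H.hom) z = _
    rw [Scheme.Hom.comp_apply, hz, ← Scheme.Hom.comp_apply, XTmap_snd, Scheme.Hom.comp_apply]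
    rfl
  have h2 : (pZ f H Z) z ∈ H₀ f j H Z := by
    rw [h1]; exact (g₀.left ((PicF.XTproj f T) x')).2
  have h3 := (mem_H₀ f j H Z _).1 h2 z rfl
  show (pullback.fst f T.hom) x' ∈ Set.range j
  have h4 : (pullback.fst f H.hom) (Z.1.subschemeι z) = (pullback.fst f T.hom) x' := by
    rw [hz, ← Scheme.Hom.comp_apply, FGA.XTmap_fst]
  rw [← h4]
  exact h3

variable [IsSeparated f]

theorem represented (hH : FGA.HilbRepresentedBy f H Z) :
    FGA.HilbRepresentedBy (j ≫ f) (Over.mk ((H₀ f j H Z).ι ≫ H.hom)) (Z₀ f j H Z) := by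
  haveI : IsLocallyNoetherian H.left := hH.1
  refine ⟨inferInstanceAs (IsLocallyNoetherian ((H₀ f j H Z) : Scheme.{u})), ?_⟩
  intro T _ Y
  obtain ⟨g, hg, huniq⟩ := hH.2 T (pushY f j T Y)
  have hg' : FGA.hilbPull f g Z.1 = Y.1.map (jT f j T) := hg
  -- g factors through H₀
  have hrange : Set.range g.left ⊆ Set.range (H₀ f j H Z).ι := by
    rintro _ ⟨t, rfl⟩
    rw [Scheme.Opens.range_ι]
    show g.left t ∈ H₀ f j H Z
    rw [mem_H₀]
    intro z hz
    have hz' : (PicF.XTproj f H) (Z.1.subschemeι z) = g.left t := by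
      rw [← Scheme.Hom.comp_apply]; exact hz
    obtain ⟨x', hx1, hx2⟩ := exists_of_isPullback (isPullback_XTmap f g) (Z.1.subschemeι z) t hz'
    have hx3 : x' ∈ ((FGA.hilbPull f g Z.1).support : Set (PicF.XT f T)) := by
      rw [hilbPull_eq_comap, Scheme.IdealSheafData.support_comap]
      show (PicF.XTmap f g) x' ∈ (Z.1.support : Set (PicF.XT f H))
      rw [hx1, ← Z.1.range_subschemeι]
      exact ⟨z, rfl⟩
    rw [hg'] at hx3
    have hx4 := support_pushY f j T Y hx3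
    rw [range_jT] at hx4
    have hx5 : (pullback.fst f T.hom) x' ∈ Set.range j := hx4
    have hx6 : (pullback.fst f H.hom) (Z.1.subschemeι z) = (pullback.fst f T.hom) x' := by
      rw [← hx1, ← Scheme.Hom.comp_apply, FGA.XTmap_fst]
    rw [hx6]
    exact hx5
  let g₀ : T ⟶ Over.mk ((H₀ f j H Z).ι ≫ H.hom) :=
    Over.homMk (IsOpenImmersion.lift (H₀ f j H Z).ι g.left hrange) (by
      show IsOpenImmersion.lift (H₀ f j H Z).ι g.left hrange ≫ (H₀ f j H Z).ι ≫ H.hom = T.hom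
      rw [← Category.assoc, IsOpenImmersion.lift_fac]
      exact Over.w g)
  have hg₀ : g₀ ≫ incl f j H Z = g := by
    apply Over.OverMorphism.ext
    exact IsOpenImmersion.lift_fac _ _ _
  refine ⟨g₀, ?_, ?_⟩
  · show FGA.hilbPull (j ≫ f) g₀ (Z₀ f j H Z).1 = Y.1
    rw [hilbPull_Z₀, hg₀, hg']
    exact comap_map_of_isClosedImmersion (jT f j T) Y.1
  · intro g₁ hg₁
    have h1 : FGA.hilbPull (j ≫ f) g₁ (Z₀ f j H Z).1 = Y.1 := hg₁
    rw [hilbPull_Z₀] at h1
    have h2 : FGA.hilbPull f (g₁ ≫ incl f j H Z) Z.1 = Y.1.map (jT f j T) := by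
      rw [← h1]
      exact (map_comap_of_support_subset (jT f j T) _ (support_subset f j H Z g₁)).symm
    have h3 : g₁ ≫ incl f j H Z = g := huniq _ h2
    apply Over.OverMorphism.ext
    rw [← cancel_mono (H₀ f j H Z).ι]
    have h4 := congrArg (fun k => k.left) (h3.trans hg₀.symm)
    exact h4

end Groth.Agent.Lib.Helper24.HilbOpen
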