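import Mathlib
import Groth.Prelude.Def_Hyper
import Groth.Agent.Lib.Helper24.HyRefE
import Groth.Agent.Lib.Helper5.HyFC

set_option backward.isDefEq.respectTransparency false
set_option backward.isDefEq.respectTransparency.types false
set_option autoImplicit false

universe u

open CategoryTheory CategoryTheory.Limits Opposite Simplicial SimplexCategory

namespace Groth.Agent.Lib.Helper24.HyRef

open Groth.Agent.Lib.Helper5.HyFC

section

variable {D : Type u} [SmallCategory D] (J' : GrothendieckTopology D)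
  (K0 : FormalCoproduct.{u} D) (P : Dᵒᵖ ⥤ Type u) (u' : P ⟶ Sec.obj K0)

/-- The canonical sections. -/
def canSec (j : K0.I) : SecT K0 (K0.obj j) := ⟨j, 𝟙 _⟩

/-- Index type of the covering. -/
def ZI : Type u :=
  Σ (j : K0.I), Σ (V : D), {h : V ⟶ K0.obj j // (Presheaf.imageSieve u' (canSec K0 j)).arrows h}

/-- The covering refining the image. -/
def Zc : FormalCoproduct.{u} D := ⟨ZI K0 P u', fun i => i.2.1⟩

/-- The structure map. -/
def zc : Zc K0 P u' ⟶ K0 := ⟨fun i => i.1, fun i => i.2.2.1⟩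

theorem zc_cov [Presheaf.IsLocallySurjective J' u'] : Hyper.IsSRCovering J' (zc K0 P u') := by
  intro j
  refine J'.superset_covering ?_ (Presheaf.imageSieve_mem J' u' (U := op (K0.obj j)) (canSec K0 j))
  intro V h hh
  rw [Sieve.mem_ofArrows_iff]
  refine ⟨⟨⟨j, V, h, hh⟩, rfl⟩, 𝟙 _, ?_⟩
  simp [zc]

/-- The chosen preimages. -/
noncomputable def pre (i : ZI K0 P u') : P.obj (op i.2.1) := i.2.2.2.choose

theorem pre_spec (i : ZI K0 P u') :
    u'.app _ (pre K0 P u' i) = (Sec.obj K0).map i.2.2.1.op (canSec K0 i.1) := i.2.2.2.choose_spec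

/-- The map to `P`. -/
noncomputable def ρ : Sec.obj (Zc K0 P u') ⟶ P where
  app T := ↾(fun s : SecT (Zc K0 P u') T.unop => P.map s.2.op (pre K0 P u' s.1))
  naturality T T' h := by
    refine ConcreteCategory.hom_ext _ _ (fun s => ?_)
    change P.map (h.unop ≫ s.2).op (pre K0 P u' s.1) = P.map h (P.map s.2.op (pre K0 P u' s.1))
    rw [op_comp, Functor.map_comp]
    rfl

theorem ρ_comp : ρ K0 P u' ≫ u' = Sec.map (zc K0 P u') := by
  refine NatTrans.ext (funext fun T => ConcreteCategory.hom_ext _ _ (fun s => ?_))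
  change u'.app T (P.map s.2.op (pre K0 P u' s.1)) = _
  have h := congrArg (fun φ => φ (pre K0 P u' s.1)) (u'.naturality s.2.op)
  have h' : u'.app T (P.map s.2.op (pre K0 P u' s.1)) =
      (Sec.obj K0).map s.2.op (u'.app _ (pre K0 P u' s.1)) := h
  have h3 : u'.app _ (pre K0 P u' s.1) = (Sec.obj K0).map s.1.2.2.1.op (canSec K0 s.1.1) :=
    pre_spec K0 P u' s.1
  refine h'.trans ?_
  refine (congrArg (fun x => (Sec.obj K0).map s.2.op x) h3).trans ?_
  change (⟨s.1.1, s.2 ≫ s.1.2.2.1 ≫ 𝟙 _⟩ : SecT K0 T.unop) = ⟨s.1.1, s.2 ≫ s.1.2.2.1⟩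
  rw [Category.comp_id]

end

variable {C : Type u} [SmallCategory C] [HasPullbacks C]
    (J : GrothendieckTopology C) (X : C)
    [∀ (n : ℕ) (F : (SimplexCategory.Truncated n)ᵒᵖ ⥤ Limits.FormalCoproduct.{u} (Over X)),
      (SimplexCategory.Truncated.inclusion n).op.HasRightKanExtension F]

theorem exists_refinement_presheaf (K : SimplicialObject (FormalCoproduct.{u} (Over X)))
    (hK : Hyper.IsHypercovering J X K) (n : ℕ)
    (P : (Over X)ᵒᵖ ⥤ Type u)
    (u : P ⟶ FormalCoproduct.yoneda.obj (K.obj (op (SimplexCategory.mk n))))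
    (hu : Presheaf.IsLocallySurjective (J.over X) u) :
    ∃ (L : SimplicialObject (FormalCoproduct.{u} (Over X))) (f : L ⟶ K)
      (g : FormalCoproduct.yoneda.obj (L.obj (op (SimplexCategory.mk n))) ⟶ P),
      Hyper.IsHypercovering J X L ∧
        g ≫ u = FormalCoproduct.yoneda.map (f.app (op (SimplexCategory.mk n))) := by
  let K0 := K.obj (op (SimplexCategory.mk n))
  let u' : P ⟶ Sec.obj K0 := u ≫ (secIso K0).hom
  have : Presheaf.IsLocallySurjective (J.over X) u' := inferInstance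
  obtain ⟨L, f, g₀, hL, hg⟩ := exists_refinement J X K hK n (Zc K0 P u') (zc K0 P u')
    (zc_cov (J.over X) K0 P u')
  refine ⟨L, f, FormalCoproduct.yoneda.map g₀ ≫ (secIso (Zc K0 P u')).hom ≫ ρ K0 P u', hL, ?_⟩
  rw [← hg, Functor.map_comp]
  have h1 : ρ K0 P u' ≫ u ≫ (secIso K0).hom = Sec.map (zc K0 P u') := ρ_comp K0 P u'
  have h2 := secIso_naturality (zc K0 P u')
  rw [← cancel_mono (secIso K0).hom]
  simp only [Category.assoc]
  rw [h1, h2]

end Groth.Agent.Lib.Helper24.HyRef
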