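import Mathlib
import Groth.Prelude.Def_Hyper2
import Groth.Agent.Lib.Helper24.HyRefE

set_option backward.isDefEq.respectTransparency false
set_option backward.isDefEq.respectTransparency.types false
set_option autoImplicit false

universe u

open CategoryTheory CategoryTheory.Limits Opposite Simplicial SimplexCategory

namespace Groth.Agent.Lib.Helper24.HyRef

section

variable {C : Type u} [SmallCategory C] (J : GrothendieckTopology C)

theorem locally_zero (N : Cᵒᵖ ⥤ AddCommGrpCat.{u})
    (hN : IsZero ((presheafToSheaf J AddCommGrpCat.{u}).obj N)) (V : C) (t : N.obj (op V)) :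
    Presheaf.equalizerSieve (F := N) (X := op V) t 0 ∈ J V := by
  have hall : ∀ y : (sheafify J N).obj (op V), y = 0 := by
    intro y
    have h := hN.eq_of_src (𝟙 _) 0
    have h' := congrArg (fun φ => φ.hom.app (op V)) h
    have h'' := congrArg (fun ψ : (sheafify J N).obj (op V) ⟶ (sheafify J N).obj (op V) => ψ y) h'
    exact h''
  exact Presheaf.equalizerSieve_mem J (toSheafify J N) (X := op V) t 0
    ((hall _).trans (hall _).symm)

end

section

variable {C : Type u} [SmallCategory C] (X : C) (J : GrothendieckTopology C)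
  (N : Cᵒᵖ ⥤ AddCommGrpCat.{u}) (K0 : FormalCoproduct.{u} (Over X))
  (s : ((FormalCoproduct.evalOp.{u} (Over X) AddCommGrpCat.{u}).obj ((Over.forget X).op ⋙ N)).obj
    (op K0))

/-- The components of a cochain. -/
noncomputable def cmp (i : K0.I) : N.obj (op (K0.obj i).left) :=
  (Pi.π (fun i : K0.I => ((Over.forget X).op ⋙ N).obj (op (K0.obj i))) i) s

/-- Index type. -/
def KI : Type u :=
  Σ (i : K0.I), Σ (V : Over X), {h : V ⟶ K0.obj i // N.map h.left.op (cmp X N K0 s i) = 0}

/-- The covering killing the cochain. -/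
def Zk : FormalCoproduct.{u} (Over X) := ⟨KI X N K0 s, fun i => i.2.1⟩

/-- Its structure map. -/
def zk : Zk X N K0 s ⟶ K0 := ⟨fun i => i.1, fun i => i.2.2.1⟩

theorem zk_cov (hN : IsZero ((presheafToSheaf J AddCommGrpCat.{u}).obj N)) :
    Hyper.IsSRCovering (J.over X) (zk X N K0 s) := by
  intro i
  rw [GrothendieckTopology.mem_over_iff]
  refine J.superset_covering ?_ (locally_zero J N hN _ (cmp X N K0 s i))
  intro W g hg
  rw [Sieve.overEquiv_iff, Sieve.mem_ofArrows_iff]
  have hg' : N.map g.op (cmp X N K0 s i) = 0 := by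
    have : N.map g.op (cmp X N K0 s i) = N.map g.op 0 := hg
    rw [this, map_zero]
  refine ⟨⟨⟨i, Over.mk (g ≫ (K0.obj i).hom), Over.homMk g, hg'⟩, rfl⟩, 𝟙 _, ?_⟩
  simp [zk]

theorem zk_kill :
    ((FormalCoproduct.evalOp.{u} (Over X) AddCommGrpCat.{u}).obj ((Over.forget X).op ⋙ N)).map
      (zk X N K0 s).op s = 0 := by
  apply Concrete.limit_ext
  rintro ⟨j⟩
  rw [map_zero]
  have h1 : ((FormalCoproduct.evalOp.{u} (Over X) AddCommGrpCat.{u}).obj
      ((Over.forget X).op ⋙ N)).map (zk X N K0 s).op ≫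
      Pi.π (fun i : (Zk X N K0 s).I => ((Over.forget X).op ⋙ N).obj (op ((Zk X N K0 s).obj i))) j =
      Pi.π (fun i : K0.I => ((Over.forget X).op ⋙ N).obj (op (K0.obj i))) j.1 ≫
        N.map j.2.2.1.left.op := by
    simp [zk]
  have h2 := congrArg (fun ψ => ψ s) h1
  exact h2.trans j.2.2.2

end

section

variable {C : Type u} [SmallCategory C] [HasPullbacks C]
    (J : GrothendieckTopology C) (X : C)
    [∀ (n : ℕ) (F : (SimplexCategory.Truncated n)ᵒᵖ ⥤ Limits.FormalCoproduct.{u} (Over X)),
      (SimplexCategory.Truncated.inclusion n).op.HasRightKanExtension F]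

theorem exists_kill (K : SimplicialObject (FormalCoproduct.{u} (Over X)))
    (hK : Hyper.IsHypercovering J X K)
    (N : Cᵒᵖ ⥤ AddCommGrpCat.{u}) (hN : IsZero ((presheafToSheaf J AddCommGrpCat.{u}).obj N))
    (p : ℕ) (ξ : Hyper.cechH X K N p) :
    ∃ (L : SimplicialObject (FormalCoproduct.{u} (Over X))) (f : L ⟶ K),
      Hyper.IsHypercovering J X L ∧ Hyper.cechHMap X f N p ξ = 0 := by
  obtain ⟨c, hc⟩ := (AddCommGrpCat.epi_iff_surjective _).1
    (inferInstance : Epi ((Hyper.cechCx X K N).homologyπ p)) ξ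
  let s : ((FormalCoproduct.evalOp.{u} (Over X) AddCommGrpCat.{u}).obj
      ((Over.forget X).op ⋙ N)).obj (op (K.obj (op ⦋p⦌))) := (Hyper.cechCx X K N).iCycles p c
  obtain ⟨L, f, g₀, hL, hg⟩ := exists_refinement J X K hK p (Zk X N _ s) (zk X N _ s)
    (zk_cov X J N _ s hN)
  refine ⟨L, f, hL, ?_⟩
  change (HomologicalComplex.homologyMap (Hyper.cechMap X f N) p) ξ = 0
  rw [← hc]
  have h1 := congrArg (fun ψ => ψ c)
    (HomologicalComplex.homologyπ_naturality (Hyper.cechMap X f N) p)
  have h1' : (HomologicalComplex.homologyMap (Hyper.cechMap X f N) p)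
      ((Hyper.cechCx X K N).homologyπ p c) =
      (Hyper.cechCx X L N).homologyπ p (HomologicalComplex.cyclesMap (Hyper.cechMap X f N) p c) :=
    h1
  rw [h1']
  have h2 : HomologicalComplex.cyclesMap (Hyper.cechMap X f N) p c = 0 := by
    have hm : Mono ((Hyper.cechCx X L N).iCycles p) := inferInstance
    apply (AddCommGrpCat.mono_iff_injective _).1 hm
    rw [map_zero]
    have h3 := congrArg (fun ψ => ψ c)
      (HomologicalComplex.cyclesMap_i (Hyper.cechMap X f N) p)
    have h3' : (Hyper.cechCx X L N).iCycles p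
        (HomologicalComplex.cyclesMap (Hyper.cechMap X f N) p c) =
        (Hyper.cechMap X f N).f p s := h3
    rw [h3']
    have h4 : (Hyper.cechMap X f N).f p =
        ((FormalCoproduct.evalOp.{u} (Over X) AddCommGrpCat.{u}).obj
          ((Over.forget X).op ⋙ N)).map (f.app (op ⦋p⦌)).op := rfl
    rw [h4, ← hg, op_comp, Functor.map_comp]
    change ((FormalCoproduct.evalOp.{u} (Over X) AddCommGrpCat.{u}).obj
      ((Over.forget X).op ⋙ N)).map g₀.op
        (((FormalCoproduct.evalOp.{u} (Over X) AddCommGrpCat.{u}).obj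
          ((Over.forget X).op ⋙ N)).map (zk X N _ s).op s) = 0
    rw [zk_kill, map_zero]
  rw [h2, map_zero]

end

end Groth.Agent.Lib.Helper24.HyRef
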