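import Groth.Agent.Lib.Helper24.UnivBdd
import Groth.Agent.S7440
import Groth.Agent.S7441

/-!
# Universally bounded fibres, part 2: étale criteria (helper24)
-/

set_option autoImplicit false
universe u

open CategoryTheory CategoryTheory.Limits AlgebraicGeometry Opposite AlgSp
open Groth.Agent.Lib.Helper14.AS Groth.Agent.Lib.Helper6.BddFibLib

namespace Groth.Agent.Lib.Helper24.UnivBdd

variable {S : Scheme.{u}}

/-- Over a field, `FibreDegLE` of a morphism to `Spec K` gives `FiniteOfDegLE`. -/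
theorem finiteOfDegLE_of_fibreDegLE {K : Type u} [Field K] {T : Scheme.{u}}
    (p : T ⟶ Spec (CommRingCat.of K)) {n : ℕ} (h : BddFib.FibreDegLE p n) :
    BddFib.FiniteOfDegLE (CommRingCat.of K) p n := by
  have h1 := (Groth.Agent.S7433.result p n).1 h K (𝟙 _)
  refine finiteOfDegLE_of_iso _ _ p (pullback.fst p (𝟙 _)) ?_ n h1
  rw [pullback.condition, Category.comp_id]

/-- Scheme-level bound gives the sheaf-level bound for `h_f`. -/
theorem degFibresLE_yon_map_of_fibreDegLE {U V : Over S} (f : V ⟶ U) {n : ℕ}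
    (h : BddFib.FibreDegLE f.left n) : W4dec.DegFibresLE n ((yon S).map f) := by
  rw [degFibresLE_iff]
  intro q T c snd sq
  obtain ⟨snd', rfl⟩ := (yon S).map_surjective snd
  obtain ⟨q', hq'⟩ := (yon S).map_surjective q.toHom
  rw [← hq'] at sq
  have sqS := (IsPullback.of_map_of_faithful (yon S) sq).map (Over.forget S)
  have h1 := (Groth.Agent.S7433.result f.left n).1 h q.K q'.left
  have sqS' : IsPullback snd'.left c.left f.left q'.left := sqS.flip
  have hiso : IsIso sqS'.isoPullback.inv := inferInstance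
  exact finiteOfDegLE_of_iso _ _ c.left sqS'.isoPullback.inv sqS'.isoPullback_inv_snd n h1


set_option backward.isDefEq.respectTransparency.types false in
/-- For an étale `ψ : h_V ⟶ X`, a bound on the number of points of all field-fibres bounds the
degrees of the fibres. -/
theorem degFibresLE_of_etale_of_card {X : Sp S} {V : Over S} (ψ : (yon S).obj V ⟶ X)
    (hψ : RepWith @Etale ψ) (n : ℕ)
    (h : ∀ (q : FieldPt X) (T : Over S) (c : T ⟶ q.pt) (snd : (yon S).obj T ⟶ (yon S).obj V),
      IsPullback ((yon S).map c) snd q.toHom ψ → Finite ↥T.left ∧ Nat.card ↥T.left ≤ n) :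
    W4dec.DegFibresLE n ψ := by
  rw [degFibresLE_iff]
  intro q T c snd sq
  have hc : Etale c.left := hψ.property q.toHom snd c sq.flip
  apply finiteOfDegLE_of_fibreDegLE
  apply Groth.Agent.S7440.result c.left n
  intro k _ g
  let str := g ≫ q.str
  let gO : Over.mk str ⟶ q.pt := Over.homMk g rfl
  let qk : FieldPt X := fieldPtOfHom k str ((yon S).map gO ≫ q.toHom)
  have hqk : qk.toHom = (yon S).map gO ≫ q.toHom := fieldPtOfHom_toHom _ _ _
  let Tk : Over S := Over.mk (pullback.snd c.left g ≫ str)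
  let ck : Tk ⟶ qk.pt := Over.homMk (pullback.snd c.left g) rfl
  let a : Tk ⟶ T := Over.homMk (pullback.fst c.left g) (by
    have h1 := Over.w c
    change pullback.fst c.left g ≫ T.hom = pullback.snd c.left g ≫ g ≫ q.str
    rw [← h1, ← Category.assoc, pullback.condition, Category.assoc]
    rfl)
  have sqk : IsPullback a ck c gO :=
    IsPullback.of_map (Over.forget S) (by ext; exact pullback.condition)
      (IsPullback.of_hasPullback c.left g)
  have big : IsPullback ((yon S).map ck) ((yon S).map a ≫ snd) qk.toHom ψ := by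
    rw [hqk]
    exact (sqk.map (yon S)).flip.paste_vert sq
  exact h qk Tk ck _ big


/-- The fibre of `W ⟶ V ⟶ X` over a field point, as the scheme pullback of the fibre of `V ⟶ X`. -/
theorem finiteOfDegLE_pullback_of_comp {X : Sp S} {V W : Over S} (p : W ⟶ V)
    (ψ : (yon S).obj V ⟶ X) {N : ℕ} (hN : W4dec.DegFibresLE N ((yon S).map p ≫ ψ))
    (q : FieldPt X) (T : Over S) (c : T ⟶ q.pt) (snd' : T ⟶ V)
    (sq : IsPullback ((yon S).map c) ((yon S).map snd') q.toHom ψ) :
    BddFib.FiniteOfDegLE (CommRingCat.of q.K) (pullback.fst snd'.left p.left ≫ c.left) N := by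
  rw [degFibresLE_iff] at hN
  let TU : Over S := Over.mk (pullback.fst snd'.left p.left ≫ T.hom)
  let r : TU ⟶ T := Over.homMk (pullback.fst snd'.left p.left) rfl
  let sU : TU ⟶ W := Over.homMk (pullback.snd snd'.left p.left) (by
    have h1 := Over.w p
    have h2 := Over.w snd'
    change pullback.snd snd'.left p.left ≫ W.hom = pullback.fst snd'.left p.left ≫ T.hom
    rw [← h1, ← h2, ← Category.assoc, ← Category.assoc, pullback.condition])
  have sqS : IsPullback r sU snd' p :=
    IsPullback.of_map (Over.forget S) (by ext; exact pullback.condition)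
      (IsPullback.of_hasPullback snd'.left p.left)
  have big := (sqS.map (yon S)).paste_horiz sq
  rw [← Functor.map_comp] at big
  exact hN q TU (r ≫ c) _ big

/-- Finite jointly surjective family over `V`, each bounded over `X`; `ψ` étale. -/
theorem degFibresLE_of_etale_of_finite_cover {X : Sp S} {V : Over S} (ψ : (yon S).obj V ⟶ X)
    (hψ : RepWith @Etale ψ) {J : Type*} [Fintype J] (W : J → Over S) (p : ∀ j, W j ⟶ V)
    (N : J → ℕ) (hsurj : ∀ v : ↥V.left, ∃ j, v ∈ Set.range (p j).left)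
    (hN : ∀ j, W4dec.DegFibresLE (N j) ((yon S).map (p j) ≫ ψ)) :
    W4dec.DegFibresLE (∑ j, N j) ψ := by
  apply degFibresLE_of_etale_of_card ψ hψ
  intro q T c snd sq
  obtain ⟨snd', rfl⟩ := (yon S).map_surjective snd
  have hj : ∀ j, Finite ↥(pullback snd'.left (p j).left) ∧
      Nat.card ↥(pullback snd'.left (p j).left) ≤ N j := fun j =>
    finite_and_card_le_of_finiteOfDegLE (isField_of q.K) _ (N j)
      (finiteOfDegLE_pullback_of_comp (p j) ψ (hN j) q T c snd' sq)
  have hfin : ∀ j, Finite ↥(pullback snd'.left (p j).left) := fun j => (hj j).1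
  let Φ : (Σ j, ↥(pullback snd'.left (p j).left)) → ↥T.left :=
    fun z => pullback.fst snd'.left (p z.1).left z.2
  have hΦ : Function.Surjective Φ := by
    intro t
    obtain ⟨j, w, hw⟩ := hsurj (snd'.left t)
    obtain ⟨z, hz1, -⟩ := Scheme.Pullback.exists_preimage_pullback t w hw.symm
    exact ⟨⟨j, z⟩, hz1⟩
  have hT : Finite ↥T.left := Finite.of_surjective Φ hΦ
  refine ⟨hT, ?_⟩
  calc Nat.card ↥T.left ≤ Nat.card (Σ j, ↥(pullback snd'.left (p j).left)) :=
        Nat.card_le_card_of_surjective Φ hΦ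
    _ = ∑ j, Nat.card ↥(pullback snd'.left (p j).left) := Nat.card_sigma
    _ ≤ ∑ j, N j := Finset.sum_le_sum fun j _ => (hj j).2


/-- Étale morphisms are locally quasi-finite. -/
theorem locallyQuasiFinite_of_etale' {X Y : Scheme.{u}} (f : X ⟶ Y) [Etale f] :
    LocallyQuasiFinite f := by
  refine ⟨fun {U} hU {V} hV e => ?_⟩
  have h : (f.appLE U V e).hom.Etale :=
    HasRingHomProperty.appLE @Etale f inferInstance ⟨U, hU⟩ ⟨V, hV⟩ e
  algebraize [(f.appLE U V e).hom]
  haveI : Algebra.Etale Γ(Y, U) Γ(X, V) := h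
  show Algebra.QuasiFinite Γ(Y, U) Γ(X, V)
  infer_instance

set_option backward.isDefEq.respectTransparency.types false in
/-- Local data: around each point of `V` an affine étale piece bounded over `X`. -/
theorem exists_local_bdd {X : Sp S} (hX : IsAlgSpace X) {ι : Type*} (U : ι → Over S)
    (φ : ∀ i, (yon S).obj (U i) ⟶ X) (hφ : ∀ i, RepWith @Etale (φ i))
    (hsurj : ∀ x : Points X, ∃ (i : ι) (v : ↥(U i).left), Points.ofPt (φ i) v = x)
    (hb : ∀ i, W4dec.HasUnivBddFibres (φ i)) {V : Over S} (ψ : (yon S).obj V ⟶ X)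
    (hψ : RepWith @Etale ψ) (v : ↥V.left) :
    ∃ (W : Over S) (p : W ⟶ V) (N : ℕ), v ∈ Set.range p.left ∧ IsOpen (Set.range p.left) ∧
      W4dec.DegFibresLE N ((yon S).map p ≫ ψ) := by
  obtain ⟨i, u, hu⟩ := hsurj (Points.ofPt ψ v)
  obtain ⟨n, hn⟩ := hb i
  have hrep := (hφ i).rep
  have sqW := hrep.isPullback' ψ
  have hb' : Etale (hrep.snd ψ).left := (hφ i).property_snd ψ
  have ha' : Etale (hrep.fst' ψ).left := hψ.property (φ i) _ (hrep.fst' ψ) sqW.flip
  -- a point of the pullback over v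
  have e : Points.map (φ i) (Points.ofScheme (U i) u) = Points.map ψ (Points.ofScheme V v) := by
    rw [← Points.ofPt_eq_map_ofScheme, ← Points.ofPt_eq_map_ofScheme, hu]
  obtain ⟨z, -, hz2⟩ := points_exists_of_isPullback sqW _ _ e
  have hz : z = Points.ofScheme _ (Points.toScheme _ z) := (Points.ofScheme_toScheme _ z).symm
  rw [hz] at hz2
  have h2 := Points.toScheme_ofPt (hrep.snd ψ) (Points.toScheme _ z)
  rw [Points.ofPt_eq_map_ofScheme, hz2, Points.toScheme_ofScheme] at h2
  set w := Points.toScheme _ z with hw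
  obtain ⟨W', hW'aff, hwW', -⟩ :=
    exists_isAffineOpen_mem_and_subset (x := w) (U := (⊤ : (hrep.pullback ψ).left.Opens)) trivial
  let ιW : openSub (hrep.pullback ψ) W' ⟶ hrep.pullback ψ := openSubι _ W'
  have hιW : ιW.left = W'.ι := rfl
  have hcompact : CompactSpace ↥(openSub (hrep.pullback ψ) W').left := by
    change CompactSpace ↥(W' : Scheme)
    exact isCompact_iff_compactSpace.mp hW'aff.isCompact
  have hr : Etale (ιW ≫ hrep.fst' ψ).left := by
    change Etale (W'.ι ≫ (hrep.fst' ψ).left)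
    infer_instance
  have hp : Etale (ιW ≫ hrep.snd ψ).left := by
    change Etale (W'.ι ≫ (hrep.snd ψ).left)
    infer_instance
  have hlqf := locallyQuasiFinite_of_etale' (ιW ≫ hrep.fst' ψ).left
  obtain ⟨m, hm⟩ := Groth.Agent.S7441.result (ιW ≫ hrep.fst' ψ).left
  have h3 := degFibresLE_comp hX (ιW ≫ hrep.fst' ψ) (φ i)
    (degFibresLE_yon_map_of_fibreDegLE _ hm) hn
  refine ⟨openSub (hrep.pullback ψ) W', ιW ≫ hrep.snd ψ, m * n, ?_, ?_, ?_⟩
  · refine ⟨⟨w, hwW'⟩, ?_⟩
    change (W'.ι ≫ (hrep.snd ψ).left) ⟨w, hwW'⟩ = v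
    rw [Scheme.Hom.comp_apply]
    exact h2.symm
  · exact (ιW ≫ hrep.snd ψ).left.isOpenMap.isOpen_range
  · have : (yon S).map (ιW ≫ hrep.snd ψ) ≫ ψ = (yon S).map (ιW ≫ hrep.fst' ψ) ≫ φ i := by
      rw [Functor.map_comp, Functor.map_comp, Category.assoc, Category.assoc, sqW.w]
    rw [this]
    exact h3

/-- S10429. -/
theorem hasUnivBddFibres_of_etale_cover {X : Sp S} (hX : IsAlgSpace X) {ι : Type*} (U : ι → Over S)
    (φ : ∀ i, (yon S).obj (U i) ⟶ X) (hφ : ∀ i, RepWith @Etale (φ i))
    (hsurj : ∀ x : Points X, ∃ (i : ι) (v : ↥(U i).left), Points.ofPt (φ i) v = x)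
    (hb : ∀ i, W4dec.HasUnivBddFibres (φ i)) {V : Over S} [IsAffine V.left]
    (ψ : (yon S).obj V ⟶ X) (hψ : RepWith @Etale ψ) : W4dec.HasUnivBddFibres ψ := by
  choose W p N h1 h2 h3 using exists_local_bdd hX U φ hφ hsurj hb ψ hψ
  obtain ⟨t, ht⟩ := isCompact_univ.elim_finite_subcover (fun v => Set.range (p v).left) h2
    (fun v _ => Set.mem_iUnion.2 ⟨v, h1 v⟩)
  refine ⟨∑ j : ↥t, N j.1, degFibresLE_of_etale_of_finite_cover ψ hψ (fun j : ↥t => W j.1)
    (fun j => p j.1) (fun j => N j.1) ?_ (fun j => h3 j.1)⟩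
  intro v
  have := ht (Set.mem_univ v)
  simp only [Set.mem_iUnion] at this
  obtain ⟨j, hj, hv⟩ := this
  exact ⟨⟨j, hj⟩, hv⟩

end Groth.Agent.Lib.Helper24.UnivBdd
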