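import Groth.Agent.Lib.Helper24.IndSq
import Groth.Agent.S10419
set_option autoImplicit false
set_option linter.unusedSectionVars false
set_option linter.unusedVariables false
universe u
open CategoryTheory CategoryTheory.Limits AlgebraicGeometry Opposite

/-! Chains of elementary enlargements of open subsets of a quasi-compact quasi-separated space. -/

namespace Groth.Agent.Lib.Helper24.IndChain
open AlgSp Groth.Agent.Lib.Helper14.AS Groth.Agent.Lib.Helper24.Filt1 Groth.Agent.Lib.Helper24.ZarGlue
open Groth.Agent.Lib.Helper24.IndPt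

variable {S : Scheme.{u}}

/-- chains of enlargements by images of affine étale charts having exactly one rational point
over each new point -/
inductive Chain (Y : Sp S) (O : Set (Points Y)) : Set (Points Y) → Prop
  | refl : Chain Y O O
  | step {O' : Set (Points Y)} (V : Over S) (hV : IsAffine V.left) (g : (yon S).obj V ⟶ Y)
      (hg : RepWith @Etale g) (h : Chain Y O O')
      (hpt : ∀ x ∈ Set.range (Points.ofPt g), x ∉ O' → PtIso g x) :
      Chain Y O (O' ∪ Set.range (Points.ofPt g))

theorem Chain.of_eq {Y : Sp S} {O O' O'' : Set (Points Y)} (h : Chain Y O O') (e : O' = O'') :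
    Chain Y O O'' := e ▸ h

theorem range_ofPt_resOpen {Y : Sp S} {V : Over S} (f : (yon S).obj V ⟶ Y) (D : V.left.Opens) :
    Set.range (Points.ofPt ((yon S).map (resOpenι V D) ≫ f)) = Points.ofPt f '' (D : Set V.left) := by
  ext x
  constructor
  · rintro ⟨d, rfl⟩
    refine ⟨d.1, d.2, ?_⟩
    rw [ofPt_yon_map_comp (resOpenι V D) f d]
    rfl
  · rintro ⟨v, hv, rfl⟩
    refine ⟨⟨v, hv⟩, ?_⟩
    rw [ofPt_yon_map_comp (resOpenι V D) f ⟨v, hv⟩]
    rfl

set_option backward.isDefEq.respectTransparency.types false in
/-- enlarging by the image of a compact open of a chart -/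
theorem chain_union_image {Y : Sp S} {O₀ O : Set (Points Y)} (h : Chain Y O₀ O) {V : Over S}
    (f : (yon S).obj V ⟶ Y) (hf : RepWith @Etale f) (K : V.left.Opens)
    (hK : IsCompact (K : Set V.left)) :
    (∀ x ∈ Points.ofPt f '' (K : Set V.left), x ∉ O → PtIso f x) →
      Chain Y O₀ (O ∪ Points.ofPt f '' (K : Set V.left)) := by
  refine compact_open_induction_on (P := fun K : V.left.Opens =>
    (∀ x ∈ Points.ofPt f '' (K : Set V.left), x ∉ O → PtIso f x) →
      Chain Y O₀ (O ∪ Points.ofPt f '' (K : Set V.left))) K hK ?_ ?_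
  · intro _
    refine h.of_eq ?_
    simp
  · intro K' hK' D IH hpt
    have h1 := IH fun x hx hxO => hpt x (by
      obtain ⟨v, hv, rfl⟩ := hx
      exact ⟨v, Or.inl hv, rfl⟩) hxO
    have hDaff : IsAffine (resOpen V D.1).left := D.2
    have hge : RepWith @Etale ((yon S).map (resOpenι V D.1) ≫ f) :=
      repWith_comp _ ((repWith_yon_map_iff _ _).2 (inferInstanceAs (Etale D.1.ι))) hf
    have hrange := range_ofPt_resOpen f D.1
    have h2 := Chain.step (resOpen V D.1) hDaff _ hge h1 (by
      intro x hx hxO
      have hx' := hx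
      rw [hrange] at hx'
      have hmono : Mono (resOpenι V D.1).left := inferInstanceAs (Mono D.1.ι)
      refine (hpt x ?_ fun hxO' => hxO (Or.inl hxO')).comp_mono (resOpenι V D.1) hx
      obtain ⟨v, hv, rfl⟩ := hx'
      exact ⟨v, Or.inr hv, rfl⟩)
    refine h2.of_eq ?_
    rw [hrange, Set.union_assoc, ← Set.image_union]
    rfl

theorem Chain.subset {Y : Sp S} {O O' : Set (Points Y)} (h : Chain Y O O') : O ⊆ O' := by
  induction h with
  | refl => exact subset_rfl
  | step V hV g hg h hpt ih => exact ih.trans Set.subset_union_left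

theorem Chain.isOpen {Y : Sp S} {O O' : Set (Points Y)} (h : Chain Y O O') (hO : IsOpen O) :
    IsOpen O' := by
  induction h with
  | refl => exact hO
  | step V hV g hg h hpt ih => exact ih.union (isOpenMap_ofPt g hg).isOpen_range

theorem Chain.isCompact {Y : Sp S} {O O' : Set (Points Y)} (h : Chain Y O O') (hO : IsCompact O) :
    IsCompact O' := by
  induction h with
  | refl => exact hO
  | step V hV g hg h hpt ih =>
    have : CompactSpace ↥V.left := inferInstance
    exact ih.union (isCompact_range (Points.continuous_ofPt g))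

set_option backward.isDefEq.respectTransparency.types false in
/-- the whole of a quasi-compact quasi-separated space is reached by a chain from any subset -/
theorem chain_univ [QuasiSeparatedSpace ↥S] (Y : Space S) (hqc : IsQuasiCompactSp Y.obj)
    (hqs : IsQuasiSeparatedSp Y.obj) (O₀ : Set (Points Y.obj)) : Chain Y.obj O₀ Set.univ := by
  obtain ⟨n, Uo, j, k, T, i, hjo, hkj, hj1, hemp, hred, hV⟩ := Groth.Agent.S10419.result Y hqc hqs
  have hjm : ∀ p, Mono (j p).hom := fun p => mono_of_openImmersion (hjo p)
  have hjinj : ∀ p, Function.Injective (Points.map (j p).hom) := fun p =>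
    injective_of_openImmersion (hjo p)
  have hkj' : ∀ p, (k p).hom ≫ (j p).hom = (j (p + 1)).hom := fun p =>
    congrArg (fun m => m.hom) (hkj p)
  have hko : ∀ p, RepWith @IsOpenImmersion (k p).hom := by
    intro p
    have := hjm p
    have sq := isPullback_of_factor_mono (k p).hom (j p).hom
    rw [hkj' p] at sq
    exact repWith_of_isPullback _ sq (hjo (p + 1))
  have hsub : ∀ p, Set.range (Points.map (j (p + 1)).hom) ⊆ Set.range (Points.map (j p).hom) := by
    rintro p _ ⟨z, rfl⟩
    refine ⟨Points.map (k p).hom z, ?_⟩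
    rw [← Points.map_comp, hkj' p]
  have key : ∀ m, m ≤ n → Chain Y.obj O₀ (O₀ ∪ Set.range (Points.map (j (n + 1 - m)).hom)) := by
    intro m
    induction m with
    | zero =>
      intro _
      refine (Chain.refl (Y := Y.obj) (O := O₀)).of_eq ?_
      have : Set.range (Points.map (j (n + 1)).hom) = ∅ := Set.range_eq_empty_iff.2 hemp
      rw [Nat.sub_zero, this, Set.union_empty]
    | succ m IH =>
      intro hm
      have h1 := IH (by omega)
      obtain ⟨p, hp⟩ : ∃ p, n + 1 - (m + 1) = p := ⟨_, rfl⟩
      have hp1 : n + 1 - m = p + 1 := by omega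
      have hp0 : 1 ≤ p := by omega
      rw [hp]
      rw [hp1] at h1
      obtain ⟨V, f, hVsep, hVc, hfe, hfs, hiso⟩ := hV p hp0
      have hge : RepWith @Etale (f ≫ (j p).hom) :=
        repWith_comp _ hfe (repWith_mono isOpenImmersion_le_etale (hjo p))
      have himg : Points.ofPt (f ≫ (j p).hom) '' ((⊤ : V.left.Opens) : Set V.left) =
          Set.range (Points.map (j p).hom) := by
        ext x
        constructor
        · rintro ⟨v, -, rfl⟩
          exact ⟨Points.ofPt f v, Points.map_ofPt _ _ _⟩
        · rintro ⟨z, rfl⟩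
          obtain ⟨v, rfl⟩ := ofPt_surjective_of_repWith hfs z
          exact ⟨v, trivial, (Points.map_ofPt _ _ _).symm⟩
      have hC : IsClosed (Set.range (Points.map (k p).hom))ᶜ :=
        (Groth.Agent.Lib.Helper24.IndSq.isOpen_range_of_openImmersion (Uo p).property _
          (hko p)).isClosed_compl
      have h2 := chain_union_image h1 (f ≫ (j p).hom) hge ⊤ isCompact_univ (by
        rintro x ⟨v, -, rfl⟩ hxO
        refine ⟨⟨v, rfl⟩, ?_⟩
        have hx' : Points.ofPt f v ∈ (Set.range (Points.map (k p).hom))ᶜ := by
          rintro ⟨z, hz⟩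
          apply hxO
          right
          refine ⟨z, ?_⟩
          rw [← hkj' p, Points.map_comp, hz]
          exact Points.map_ofPt _ _ _
        have hul : UL f (Points.ofPt f v) :=
          ul_of_isIso_fst (Uo p).property (i p).hom (hred p).1 _ hC (hred p).2.1.ge f
            (hiso _ _ _ (IsPullback.of_hasPullback _ _)) _ hx'
        have := hjm p
        have h3 := UL.of_comp_mono f (j p).hom hul (hjinj p)
        rw [Points.map_ofPt] at h3
        exact h3)
      refine h2.of_eq ?_
      rw [himg, Set.union_assoc, Set.union_eq_self_of_subset_left (hsub p)]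
  have h := key n le_rfl
  refine h.of_eq ?_
  have : n + 1 - n = 1 := by omega
  rw [this]
  have : IsIso (j 1).hom := by
    have := hj1
    exact (inferInstance : IsIso ((ObjectProperty.ι _).map (j 1)))
  have hsurj : Function.Surjective (Points.map (j 1).hom) := fun y =>
    ⟨Points.map (inv (j 1).hom) y, by rw [← Points.map_comp, IsIso.inv_hom_id, Points.map_id]⟩
  rw [Set.range_eq_univ.2 hsurj, Set.union_univ]

end Groth.Agent.Lib.Helper24.IndChain
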