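import Mathlib
import Groth.Agent.Lib.Helper6.BddFibQF
set_option autoImplicit false
universe u
open CategoryTheory CategoryTheory.Limits AlgebraicGeometry Opposite

/-! A bound on the number of sheets of a morphism: no `n + 1` pairwise distinct lifts of a
field-valued point.  It drops by one on passing to the complement of the diagonal. -/

namespace Groth.Agent.Lib.Helper24.SlqfBd

/-- no `n + 1` pairwise distinct lifts of a field-valued point -/
def Bd (n : ℕ) {T' T : Scheme.{u}} (e : T' ⟶ T) : Prop :=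
  ∀ (Ω : Type u) [Field Ω] (σ : Fin (n + 1) → (Spec (.of Ω) ⟶ T')),
    (∀ i j, σ i ≫ e = σ j ≫ e) → ∃ i j, i ≠ j ∧ σ i = σ j

theorem isEmpty_of_bd_zero {T' T : Scheme.{u}} (e : T' ⟶ T) (h : Bd 0 e) : IsEmpty T' := by
  refine ⟨fun x => ?_⟩
  obtain ⟨i, j, hij, -⟩ := h (T'.residueField x) (fun _ => T'.fromSpecResidueField x)
    (fun _ _ => rfl)
  exact hij (Fin.ext (by have := i.2; have := j.2; omega))

set_option backward.isDefEq.respectTransparency.types false in
theorem bd_of_fibreDegLE {T' T : Scheme.{u}} (e : T' ⟶ T) (n : ℕ)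
    (h : BddFib.FibreDegLE e n) : Bd n e := by
  intro Ω _ σ hσ
  by_contra hne
  push Not at hne
  have hinj : Function.Injective σ := fun i j hij => by
    by_contra h'
    exact hne i j h' hij
  let z := σ 0 ≫ e
  let p := Scheme.SpecToEquivOfField Ω T z
  have hz : z = Spec.map p.2 ≫ T.fromSpecResidueField p.1 :=
    ((Scheme.SpecToEquivOfField Ω T).symm_apply_apply z).symm
  obtain ⟨haff, hfin, hrk⟩ := h p.1
  let _ : Algebra (T.residueField p.1) Γ(e.fiber p.1, ⊤) :=
    BddFib.secAlgebra _ (e.fiberToSpecResidueField p.1)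
  let _ : Algebra (T.residueField p.1) Ω := p.2.hom.toAlgebra
  let σ' : Fin (n + 1) → (Spec (.of Ω) ⟶ e.fiber p.1) := fun i =>
    pullback.lift (σ i) (Spec.map p.2) (by rw [hσ i 0, ← hz])
  have hσ'1 : ∀ i, σ' i ≫ e.fiberι p.1 = σ i := fun i => pullback.lift_fst _ _ _
  have hσ'2 : ∀ i, σ' i ≫ e.fiberToSpecResidueField p.1 = Spec.map p.2 :=
    fun i => pullback.lift_snd _ _ _
  let θ : Fin (n + 1) → (Γ(e.fiber p.1, ⊤) →ₐ[T.residueField p.1] Ω) := fun i =>
    { toRingHom := ((σ' i).appTop ≫ (Scheme.ΓSpecIso (.of Ω)).hom).hom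
      commutes' := by
        intro r
        change ((((Scheme.ΓSpecIso (T.residueField p.1)).inv ≫
          (e.fiberToSpecResidueField p.1).appTop) ≫ (σ' i).appTop ≫
          (Scheme.ΓSpecIso (.of Ω)).hom).hom r) = p.2.hom r
        congr 2
        rw [Category.assoc, ← Category.assoc _ (σ' i).appTop, ← Scheme.Hom.comp_appTop, hσ'2,
          Scheme.ΓSpecIso_naturality, Iso.inv_hom_id_assoc] }
  have hθ : Function.Injective θ := by
    intro i j hij
    apply hinj
    rw [← hσ'1 i, ← hσ'1 j]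
    congr 1
    apply ext_of_isAffine
    have h1 : ((σ' i).appTop ≫ (Scheme.ΓSpecIso (.of Ω)).hom).hom =
        ((σ' j).appTop ≫ (Scheme.ΓSpecIso (.of Ω)).hom).hom := congrArg (fun a => a.toRingHom) hij
    have h2 : (σ' i).appTop ≫ (Scheme.ΓSpecIso (.of Ω)).hom =
        (σ' j).appTop ≫ (Scheme.ΓSpecIso (.of Ω)).hom := CommRingCat.hom_ext h1
    exact (cancel_mono _).1 h2
  have hcard := card_algHom_le_finrank (T.residueField p.1) Γ(e.fiber p.1, ⊤) Ω
  have hfinite : Finite (Γ(e.fiber p.1, ⊤) →ₐ[T.residueField p.1] Ω) := inferInstance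
  have h3 : Nat.card (Fin (n + 1)) ≤ Nat.card (Γ(e.fiber p.1, ⊤) →ₐ[T.residueField p.1] Ω) :=
    Nat.card_le_card_of_injective θ hθ
  rw [Nat.card_fin] at h3
  omega

section Rest
variable {T' T : Scheme.{u}} (e : T' ⟶ T) [IsSeparated e]

/-- the open complement of the diagonal in `T' ×_T T'` -/
noncomputable def restOpen : (pullback e e).Opens :=
  ⟨(Set.range (pullback.diagonal e))ᶜ,
    (pullback.diagonal e).isClosedEmbedding.isClosed_range.isOpen_compl⟩

lemma mem_restOpen_iff (x : ↥(pullback e e)) :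
    x ∈ restOpen e ↔ x ∉ Set.range (pullback.diagonal e) := Iff.rfl

/-- the first projection from the complement of the diagonal -/
noncomputable def rest₀ : (restOpen e : Scheme.{u}) ⟶ T' := (restOpen e).ι ≫ pullback.fst e e

/-- the second projection from the complement of the diagonal -/
noncomputable def rest₁ : (restOpen e : Scheme.{u}) ⟶ T' := (restOpen e).ι ≫ pullback.snd e e

lemma rest_condition : rest₀ e ≫ e = rest₁ e ≫ e := by
  simp only [rest₀, rest₁, Category.assoc, pullback.condition]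

/-- a field-valued point of the complement of the diagonal has distinct projections -/
lemma rest₀_ne_rest₁ {Ω : Type u} [Field Ω] (σ : Spec (.of Ω) ⟶ (restOpen e : Scheme.{u})) :
    σ ≫ rest₀ e ≠ σ ≫ rest₁ e := by
  intro h
  have h1 : σ ≫ (restOpen e).ι = (σ ≫ rest₀ e) ≫ pullback.diagonal e := by
    apply pullback.hom_ext
    · simp [rest₀]
    · simp only [Category.assoc, pullback.diagonal_snd, Category.comp_id]
      exact h.symm
  let x : Spec (.of Ω) := IsLocalRing.closedPoint Ω
  have h2 : (σ ≫ (restOpen e).ι) x ∈ restOpen e := (σ x).2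
  rw [h1] at h2
  exact h2 ⟨(σ ≫ rest₀ e) x, rfl⟩

theorem bd_rest (n : ℕ) (h : Bd (n + 1) e) : Bd n (rest₀ e) := by
  intro Ω _ σ hσ
  let z : Spec (.of Ω) ⟶ T' := σ 0 ≫ rest₀ e
  let σ' : Fin (n + 1 + 1) → (Spec (.of Ω) ⟶ T') := Fin.cons z (fun i => σ i ≫ rest₁ e)
  have hz : ∀ i, σ i ≫ rest₀ e = z := fun i => hσ i 0
  have hσ' : ∀ a, σ' a ≫ e = z ≫ e := by
    intro a
    refine Fin.cases ?_ (fun i => ?_) a
    · rfl
    · change (σ i ≫ rest₁ e) ≫ e = z ≫ e
      rw [Category.assoc, ← rest_condition, ← Category.assoc, hz]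
  obtain ⟨a, b, hab, heq⟩ := h Ω σ' (fun a b => (hσ' a).trans (hσ' b).symm)
  revert hab heq
  refine Fin.cases ?_ (fun i => ?_) a <;> refine Fin.cases ?_ (fun j => ?_) b
  · intro hab; exact absurd rfl hab
  · intro _ heq
    exfalso
    change z = σ j ≫ rest₁ e at heq
    exact rest₀_ne_rest₁ e (σ j) ((hz j).trans heq)
  · intro _ heq
    exfalso
    change σ i ≫ rest₁ e = z at heq
    exact rest₀_ne_rest₁ e (σ i) ((hz i).trans heq.symm)
  · intro hab heq
    change σ i ≫ rest₁ e = σ j ≫ rest₁ e at heq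
    refine ⟨i, j, fun h => hab (congrArg Fin.succ h), ?_⟩
    have : Mono (restOpen e).ι := inferInstance
    rw [← cancel_mono (restOpen e).ι]
    apply pullback.hom_ext
    · simpa [rest₀] using hσ i j
    · simpa [rest₁] using heq

instance [Etale e] : Etale (rest₀ e) := by unfold rest₀; infer_instance
instance : IsSeparated (rest₀ e) := by unfold rest₀; infer_instance

/-- two lifts of a point agree on an open neighbourhood, or give a point of the complement of the
diagonal on an open neighbourhood -/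
theorem exists_decomp [Etale e] {Z : Scheme.{u}} (a b : Z ⟶ T') (h : a ≫ e = b ≫ e) (x : Z) :
    (∃ O : Z.Opens, x ∈ O ∧ O.ι ≫ a = O.ι ≫ b) ∨
      ∃ (O : Z.Opens) (c : (O : Scheme.{u}) ⟶ (restOpen e : Scheme.{u})), x ∈ O ∧
        c ≫ rest₀ e = O.ι ≫ a ∧ c ≫ rest₁ e = O.ι ≫ b := by
  let c₀ : Z ⟶ pullback e e := pullback.lift a b h
  have hc1 : c₀ ≫ pullback.fst e e = a := pullback.lift_fst _ _ _
  have hc2 : c₀ ≫ pullback.snd e e = b := pullback.lift_snd _ _ _
  by_cases hx : c₀ x ∈ Set.range (pullback.diagonal e)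
  · left
    let O : Z.Opens := c₀ ⁻¹ᵁ (pullback.diagonal e).opensRange
    have hr : Set.range (O.ι ≫ c₀) ⊆ Set.range (pullback.diagonal e) := by
      rintro _ ⟨s, rfl⟩
      exact s.2
    let l := IsOpenImmersion.lift (pullback.diagonal e) (O.ι ≫ c₀) hr
    have hl : l ≫ pullback.diagonal e = O.ι ≫ c₀ := IsOpenImmersion.lift_fac _ _ _
    refine ⟨O, hx, ?_⟩
    have h1 : O.ι ≫ a = l := by
      have := congrArg (· ≫ pullback.fst e e) hl
      simp only [Category.assoc, pullback.diagonal_fst, Category.comp_id, hc1] at this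
      exact this.symm
    have h2 : O.ι ≫ b = l := by
      have := congrArg (· ≫ pullback.snd e e) hl
      simp only [Category.assoc, pullback.diagonal_snd, Category.comp_id, hc2] at this
      exact this.symm
    rw [h1, h2]
  · right
    let O : Z.Opens := c₀ ⁻¹ᵁ restOpen e
    have hr : Set.range (O.ι ≫ c₀) ⊆ Set.range (restOpen e).ι := by
      rw [Scheme.Opens.range_ι]
      rintro _ ⟨s, rfl⟩
      exact s.2
    let c := IsOpenImmersion.lift (restOpen e).ι (O.ι ≫ c₀) hr
    have hc : c ≫ (restOpen e).ι = O.ι ≫ c₀ := IsOpenImmersion.lift_fac _ _ _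
    refine ⟨O, c, hx, ?_, ?_⟩
    · rw [rest₀, ← Category.assoc, hc, Category.assoc, hc1]
    · rw [rest₁, ← Category.assoc, hc, Category.assoc, hc2]

end Rest

theorem exists_bd {T' T : Scheme.{u}} (e : T' ⟶ T) [LocallyQuasiFinite e] [LocallyOfFiniteType e]
    [CompactSpace T'] : ∃ n, Bd n e := by
  obtain ⟨n, hn⟩ := Groth.Agent.Lib.Helper6.BddFibLib.univBounded_of_locallyQuasiFinite e
  exact ⟨n, bd_of_fibreDegLE e n hn⟩

end Groth.Agent.Lib.Helper24.SlqfBd
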