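import Groth.Agent.Lib.Helper24.SlqfGood
import Groth.Agent.Lib.Helper24.SlqfBd
set_option autoImplicit false
set_option linter.unusedSectionVars false
universe u
open CategoryTheory CategoryTheory.Limits AlgebraicGeometry Opposite

/-! Stacks 0417: for a separated locally quasi-finite map from an algebraic space `E` to a scheme
`T` and an étale separated `T' ⟶ T` with boundedly many sheets, the image in `E` of an open
subscheme of `E ×_T T'` is a representable open subfunctor. -/

namespace Groth.Agent.Lib.Helper24.Slqf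
open AlgSp Groth.Agent.Lib.Helper14.AS Groth.Agent.Lib.Helper24.ZarGlue
open Groth.Agent.Lib.Helper24.ZarGlueRep Groth.Agent.Lib.Helper24.DescSubsheaf
open Groth.Agent.Lib.Helper24.EtImage Groth.Agent.Lib.Helper24.CoprodSp

variable {S : Scheme.{u}}

section RestOver
variable {T T' : Over S} (e : T' ⟶ T) [IsSeparated e.left]

/-- the complement of the diagonal of `T' ×_T T'`, over `S` -/
noncomputable def restOver : Over S := Over.mk (SlqfBd.rest₀ e.left ≫ T'.hom)

/-- first projection -/
noncomputable def q₀ : restOver e ⟶ T' := Over.homMk (SlqfBd.rest₀ e.left) rfl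

/-- second projection -/
noncomputable def q₁ : restOver e ⟶ T' := Over.homMk (SlqfBd.rest₁ e.left) (by
  change SlqfBd.rest₁ e.left ≫ T'.hom = SlqfBd.rest₀ e.left ≫ T'.hom
  rw [← Over.w e, ← Category.assoc, ← SlqfBd.rest_condition, Category.assoc])

lemma q_condition : q₀ e ≫ e = q₁ e ≫ e := by
  ext1
  exact SlqfBd.rest_condition e.left

instance [Etale e.left] : Etale (q₀ e).left := inferInstanceAs (Etale (SlqfBd.rest₀ e.left))
instance : IsSeparated (q₀ e).left := inferInstanceAs (IsSeparated (SlqfBd.rest₀ e.left))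

theorem exists_decomp_over [Etale e.left] {Z : Over S} (a b : Z ⟶ T') (h : a ≫ e = b ≫ e)
    (x : Z.left) :
    (∃ O : Z.left.Opens, x ∈ O ∧ resOpenι Z O ≫ a = resOpenι Z O ≫ b) ∨
      ∃ (O : Z.left.Opens) (c : resOpen Z O ⟶ restOver e), x ∈ O ∧
        c ≫ q₀ e = resOpenι Z O ≫ a ∧ c ≫ q₁ e = resOpenι Z O ≫ b := by
  have h' : a.left ≫ e.left = b.left ≫ e.left := congrArg (fun f => f.left) h
  rcases SlqfBd.exists_decomp e.left a.left b.left h' x with ⟨O, hx, hO⟩ | ⟨O, c, hx, h0, h1⟩
  · left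
    refine ⟨O, hx, ?_⟩
    ext1
    exact hO
  · right
    refine ⟨O, Over.homMk c ?_, hx, ?_, ?_⟩
    · change c ≫ SlqfBd.rest₀ e.left ≫ T'.hom = O.ι ≫ Z.hom
      rw [← Category.assoc, h0, Category.assoc, Over.w a]
    · ext1
      exact h0
    · ext1
      exact h1

end RestOver

section General

/-- a pullback square over `f ≫ m`, `g ≫ m` with `m` mono is a pullback square over `f`, `g` -/
theorem isPullback_of_comp_mono {C : Type*} [Category C] {P X Y Z Z' : C} {a : P ⟶ X} {b : P ⟶ Y}
    {f : X ⟶ Z} {g : Y ⟶ Z} (m : Z ⟶ Z') [Mono m] (h : IsPullback a b (f ≫ m) (g ≫ m)) :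
    IsPullback a b f g := by
  refine isPullback_of_exists_unique ?_ (fun T₁ x y hxy => ?_) (fun T₁ z z' h1 h2 => ?_)
  · rw [← cancel_mono m, Category.assoc, Category.assoc, h.w]
  · exact ⟨h.lift x y (by rw [← Category.assoc, hxy, Category.assoc]), h.lift_fst _ _ _,
      h.lift_snd _ _ _⟩
  · exact h.hom_ext h1 h2

/-- a point that lifts to an open subfunctor on a neighbourhood (for any topology) lifts on an
open neighbourhood -/
lemma exists_open_lift {F : Sp S} {X : Over S} (f : (yon S).obj X ⟶ F)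
    (hf : RepWith @IsOpenImmersion f) {Z : Over S} (t : (yon S).obj Z ⟶ F) (x : Z.left)
    {W : Over S} (w : W ⟶ Z) (a : W ⟶ X) (hx : x ∈ Set.range w.left)
    (h : (yon S).map a ≫ f = (yon S).map w ≫ t) :
    ∃ (O : Z.left.Opens) (_ : x ∈ O) (l : resOpen Z O ⟶ X),
      (yon S).map l ≫ f = (yon S).map (resOpenι Z O) ≫ t := by
  have sq := hf.rep.isPullback t
  have hoi : IsOpenImmersion (hf.rep.snd t).left := hf.property_snd t
  let k : W ⟶ hf.rep.pullback t := (yon S).preimage (sq.lift ((yon S).map a) ((yon S).map w) h)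
  have hk : k ≫ hf.rep.snd t = w := by
    apply (yon S).map_injective
    rw [Functor.map_comp, Functor.map_preimage]
    exact sq.lift_snd _ _ _
  obtain ⟨ε, hε⟩ := exists_iso_resOpen (hf.rep.snd t)
  obtain ⟨y, rfl⟩ := hx
  refine ⟨(hf.rep.snd t).left.opensRange, ⟨k.left y, by rw [← hk]; rfl⟩,
    ε.hom ≫ (yon S).preimage (hf.rep.fst t), ?_⟩
  rw [Functor.map_comp, Functor.map_preimage, Category.assoc, sq.w, ← Functor.map_comp_assoc, hε]

/-- a sheaf receiving an epimorphism from a scheme whose structure map lands in an open lands in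
that open -/
lemma exists_factor_open {V' T : Over S} {E : Sp S} (ψ : (yon S).obj V' ⟶ E) (O : T.left.Opens)
    (φ : imgSh ψ ⟶ (yon S).obj T) (v : V' ⟶ resOpen T O)
    (h : toImg ψ ≫ φ = (yon S).map v ≫ (yon S).map (resOpenι T O)) :
    ∃ φ₀ : imgSh ψ ⟶ (yon S).obj (resOpen T O), φ₀ ≫ (yon S).map (resOpenι T O) = φ := by
  have hm : Mono (resOpenι T O) := by
    have : Mono ((Over.forget S).map (resOpenι T O)) := inferInstanceAs (Mono O.ι)
    exact (Over.forget S).mono_of_mono_map this
  have : Mono ((yon S).map (resOpenι T O)) := inferInstance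
  refine exists_lift_of_locally ((yon S).map (resOpenι T O)) φ fun T₁ x => ?_
  have hx : (img ψ).P (x ≫ (img ψ).ι) := ((img ψ).P_iff _).2 ⟨x, rfl⟩
  refine ⟨liftSieve ψ ⊤ (x ≫ (img ψ).ι), hx, fun W w hw => ?_⟩
  obtain ⟨a, -, ha⟩ := hw
  refine ⟨(yon S).map (a ≫ v), ?_⟩
  have h1 : (yon S).map a ≫ toImg ψ = (yon S).map w ≫ x := by
    rw [← cancel_mono (img ψ).ι, Category.assoc, toImg_ι, ha, Category.assoc]
  rw [Functor.map_comp, Category.assoc, ← h, ← Category.assoc, h1, Category.assoc]

set_option backward.isDefEq.respectTransparency.types false in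
/-- a representation of the image of an étale map from a scheme gives an open subscheme onto
which the scheme maps by a surjective étale morphism -/
lemma exists_open_of_iso_img {E : Sp S} {V' : Over S} (ψ : (yon S).obj V' ⟶ E)
    (hψ : RepWith @Etale ψ) {W : Over S} (ε : (yon S).obj W ≅ imgSh ψ) :
    ∃ (i : (yon S).obj W ⟶ E) (l : V' ⟶ W), RepWith @IsOpenImmersion i ∧
      (yon S).map l ≫ i = ψ ∧ Etale l.left ∧ Surjective l.left := by
  have hι : RepWith @IsOpenImmersion (img ψ).ι := repWith_isOpenImmersion_img_ι ψ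
    (repWith_mono (fun _ _ f (_ : Etale f) => (inferInstance : Flat f)) hψ)
    (repWith_mono (fun _ _ f (_ : Etale f) =>
      (inferInstance : LocallyOfFinitePresentation f)) hψ)
  have hi : RepWith @IsOpenImmersion (ε.hom ≫ (img ψ).ι) :=
    (MorphismProperty.cancel_left_of_respectsIso (RepWith @IsOpenImmersion) ε.hom _).2 hι
  have hmono : Mono (ε.hom ≫ (img ψ).ι) := inferInstance
  let l : V' ⟶ W := (yon S).preimage (toImg ψ ≫ ε.inv)
  have hl : (yon S).map l ≫ ε.hom ≫ (img ψ).ι = ψ := by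
    rw [Functor.map_preimage, Category.assoc, Iso.inv_hom_id_assoc, toImg_ι]
  refine ⟨ε.hom ≫ (img ψ).ι, l, hi, hl, ?_, ⟨fun w => ?_⟩⟩
  · have sq : IsPullback (𝟙 _) ((yon S).map l) ψ (ε.hom ≫ (img ψ).ι) := isPullback_id_of_mono hl
    exact hψ.property _ _ _ sq
  · have hP : (img ψ).P (ε.hom ≫ (img ψ).ι) := ((img ψ).P_iff _).2 ⟨ε.hom, rfl⟩
    obtain ⟨W₂, w₂, a, -, -, ⟨y, rfl⟩, ha⟩ := exists_lift_of_img_P ψ _ hP w
    have : a ≫ l = w₂ := by
      apply (yon S).map_injective
      rw [← cancel_mono (ε.hom ≫ (img ψ).ι), Functor.map_comp, Category.assoc, hl, ha]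
    exact ⟨a.left y, by rw [← this]; rfl⟩

end General

section Step
variable {T T' : Over S} (e : T' ⟶ T) [Etale e.left] [IsSeparated e.left]
  {E : Sp S} (π : E ⟶ (yon S).obj T) {V' : Over S}
  (ψ : (yon S).obj V' ⟶ E) (τ : V' ⟶ T') (hτ : ψ ≫ π = (yon S).map τ ≫ (yon S).map e)
  (hj : RepWith @IsOpenImmersion (pullback.lift ψ ((yon S).map τ) hτ))

include hj in
set_option backward.isDefEq.respectTransparency.types false in
lemma etale_ψ : RepWith @Etale ψ := by
  have h1 : RepWith @Etale (pullback.lift ψ ((yon S).map τ) hτ) :=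
    repWith_mono (fun _ _ f (_ : IsOpenImmersion f) => (inferInstance : Etale f)) hj
  have h2 : RepWith @Etale (pullback.fst π ((yon S).map e)) :=
    MorphismProperty.of_isPullback (P := RepWith @Etale)
      (IsPullback.of_hasPullback π ((yon S).map e)).flip
      ((repWith_yon_map_iff @Etale e).2 inferInstance)
  have := repWith_comp @Etale h1 h2
  rwa [pullback.lift_fst] at this

include hj in
/-- the open subscheme `V' ×_{T'} T''_rest` of `E' ×_{T'} T''_rest` -/
lemma exists_rest_data :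
    ∃ (Vr : Over S) (prV : Vr ⟶ V') (prT : Vr ⟶ restOver e)
      (ψr : (yon S).obj Vr ⟶ pullback π ((yon S).map e))
      (hτr : ψr ≫ pullback.snd π ((yon S).map e) = (yon S).map prT ≫ (yon S).map (q₀ e)),
      prV ≫ τ = prT ≫ q₁ e ∧
      ψr ≫ pullback.fst π ((yon S).map e) = (yon S).map prV ≫ ψ ∧
      RepWith @IsOpenImmersion (pullback.lift ψr ((yon S).map prT) hτr) ∧
      ∀ {Z : Over S} (v : Z ⟶ V') (c : Z ⟶ restOver e), v ≫ τ = c ≫ q₁ e →
        ∃ z : Z ⟶ Vr, z ≫ prV = v ∧ z ≫ prT = c := by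
  let fE := pullback.fst π ((yon S).map e)
  let π' := pullback.snd π ((yon S).map e)
  have hE' : fE ≫ π = π' ≫ (yon S).map e := pullback.condition
  let prV : pullback τ (q₁ e) ⟶ V' := pullback.fst τ (q₁ e)
  let prT : pullback τ (q₁ e) ⟶ restOver e := pullback.snd τ (q₁ e)
  have hpr : prV ≫ τ = prT ≫ q₁ e := pullback.condition
  have hψr : ((yon S).map prV ≫ ψ) ≫ π = (yon S).map (prT ≫ q₀ e) ≫ (yon S).map e := by
    rw [Category.assoc, hτ, ← Functor.map_comp_assoc, hpr, ← Functor.map_comp, ← Functor.map_comp,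
      Category.assoc, Category.assoc, q_condition]
  let ψr : (yon S).obj (pullback τ (q₁ e)) ⟶ pullback π ((yon S).map e) :=
    pullback.lift ((yon S).map prV ≫ ψ) ((yon S).map (prT ≫ q₀ e)) hψr
  have hψr1 : ψr ≫ fE = (yon S).map prV ≫ ψ := pullback.lift_fst _ _ _
  have hτr : ψr ≫ π' = (yon S).map prT ≫ (yon S).map (q₀ e) := by
    rw [← Functor.map_comp]
    exact pullback.lift_snd _ _ _
  refine ⟨pullback τ (q₁ e), prV, prT, ψr, hτr, hpr, hψr1, ?_, ?_⟩
  · -- base change of `j`
    let f'' := pullback.fst π' ((yon S).map (q₀ e))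
    let s'' := pullback.snd π' ((yon S).map (q₀ e))
    have hE'' : f'' ≫ π' = s'' ≫ (yon S).map (q₀ e) := pullback.condition
    have hm : (f'' ≫ fE) ≫ π = (s'' ≫ (yon S).map (q₁ e)) ≫ (yon S).map e := by
      rw [Category.assoc, hE', ← Category.assoc, hE'', Category.assoc, Category.assoc,
        ← Functor.map_comp, ← Functor.map_comp, q_condition]
    let m : pullback π' ((yon S).map (q₀ e)) ⟶ pullback π ((yon S).map e) :=
      pullback.lift (f'' ≫ fE) (s'' ≫ (yon S).map (q₁ e)) hm
    have hm1 : m ≫ fE = f'' ≫ fE := pullback.lift_fst _ _ _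
    have hm2 : m ≫ π' = s'' ≫ (yon S).map (q₁ e) := pullback.lift_snd _ _ _
    let j := pullback.lift ψ ((yon S).map τ) hτ
    have hj1 : j ≫ fE = ψ := pullback.lift_fst _ _ _
    have hj2 : j ≫ π' = (yon S).map τ := pullback.lift_snd _ _ _
    let jr := pullback.lift ψr ((yon S).map prT) hτr
    have hjr1 : jr ≫ f'' = ψr := pullback.lift_fst _ _ _
    have hjr2 : jr ≫ s'' = (yon S).map prT := pullback.lift_snd _ _ _
    have sq : IsPullback ((yon S).map prV) jr j m := by
      refine isPullback_iff_yon.2 ⟨?_, fun Z x y hxy => ?_⟩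
      · apply pullback.hom_ext
        · rw [Category.assoc, Category.assoc]
          change _ ≫ j ≫ fE = _ ≫ m ≫ fE
          rw [hj1, hm1, ← Category.assoc, hjr1, hψr1]
        · rw [Category.assoc, Category.assoc]
          change _ ≫ j ≫ π' = _ ≫ m ≫ π'
          rw [hj2, hm2, ← Category.assoc, hjr2, ← Functor.map_comp, ← Functor.map_comp, hpr]
      · obtain ⟨x₀, rfl⟩ := (yon S).map_surjective x
        obtain ⟨c, hc⟩ := (yon S).map_surjective (y ≫ s'')
        have hx1 : (yon S).map x₀ ≫ ψ = y ≫ f'' ≫ fE := by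
          have := congrArg (· ≫ fE) hxy
          simp only [Category.assoc] at this
          rw [hj1, hm1] at this
          exact this
        have hx2 : x₀ ≫ τ = c ≫ q₁ e := by
          apply (yon S).map_injective
          have := congrArg (· ≫ π') hxy
          simp only [Category.assoc] at this
          rw [hj2, hm2, ← Category.assoc, ← hc] at this
          rw [Functor.map_comp, Functor.map_comp]
          exact this
        let z₀ : Z ⟶ pullback τ (q₁ e) := pullback.lift x₀ c hx2
        have hz1 : z₀ ≫ prV = x₀ := pullback.lift_fst _ _ _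
        have hz2 : z₀ ≫ prT = c := pullback.lift_snd _ _ _
        refine ⟨(yon S).map z₀, ⟨?_, ?_⟩, ?_⟩
        · rw [← Functor.map_comp, hz1]
        · apply pullback.hom_ext
          · rw [Category.assoc]
            change _ ≫ jr ≫ f'' = y ≫ f''
            rw [hjr1]
            apply pullback.hom_ext
            · rw [Category.assoc, Category.assoc]
              change _ ≫ ψr ≫ fE = y ≫ f'' ≫ fE
              rw [hψr1, ← Functor.map_comp_assoc, hz1, hx1]
            · rw [Category.assoc, Category.assoc]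
              change _ ≫ ψr ≫ π' = y ≫ f'' ≫ π'
              rw [hτr, hE'', ← Category.assoc y, ← hc, ← Functor.map_comp_assoc, hz2]
          · rw [Category.assoc]
            change _ ≫ jr ≫ s'' = y ≫ s''
            rw [hjr2, ← Functor.map_comp, hz2, hc]
        · rintro z' ⟨h1, h2⟩
          obtain ⟨z'₀, rfl⟩ := (yon S).map_surjective z'
          congr 1
          apply pullback.hom_ext
          · change z'₀ ≫ prV = z₀ ≫ prV
            rw [hz1]
            apply (yon S).map_injective
            rw [Functor.map_comp, h1]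
          · change z'₀ ≫ prT = z₀ ≫ prT
            rw [hz2]
            apply (yon S).map_injective
            rw [Functor.map_comp, ← hjr2, ← Category.assoc, h2, hc]
    exact MorphismProperty.of_isPullback (P := RepWith @IsOpenImmersion) sq hj
  · intro Z v c hvc
    exact ⟨pullback.lift v c hvc, pullback.lift_fst _ _ _, pullback.lift_snd _ _ _⟩

include hj in
set_option backward.isDefEq.respectTransparency.types false in
set_option maxHeartbeats 1600000 in
/-- the inductive step of Stacks 0417 -/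
theorem step (hG : Good π)
    (IH : ∀ {Vr : Over S} (ψr : (yon S).obj Vr ⟶ pullback π ((yon S).map e))
      (τr : Vr ⟶ restOver e)
      (hτr : ψr ≫ pullback.snd π ((yon S).map e) = (yon S).map τr ≫ (yon S).map (q₀ e)),
      RepWith @IsOpenImmersion (pullback.lift ψr ((yon S).map τr) hτr) →
      ∃ (W : Over S) (i : (yon S).obj W ⟶ pullback π ((yon S).map e)) (l : Vr ⟶ W),
        RepWith @IsOpenImmersion i ∧ (yon S).map l ≫ i = ψr ∧ Etale l.left ∧ Surjective l.left) :
    ∃ (W : Over S) (i : (yon S).obj W ⟶ E) (l : V' ⟶ W), RepWith @IsOpenImmersion i ∧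
      (yon S).map l ≫ i = ψ ∧ Etale l.left ∧ Surjective l.left := by
  have hψe := etale_ψ e π ψ τ hτ hj
  obtain ⟨Vr, prV, prT, ψr, hτr, hpr, hψr1, hjr, hlift⟩ := exists_rest_data e π ψ τ hτ hj
  obtain ⟨Wr, ir, lr, hir, hlr, hlrE, hlrS⟩ := IH ψr prT hτr hjr
  -- notations
  let fE := pullback.fst π ((yon S).map e)
  let π' := pullback.snd π ((yon S).map e)
  have hE' : fE ≫ π = π' ≫ (yon S).map e := pullback.condition
  have hψr2 : ψr ≫ π' = (yon S).map prT ≫ (yon S).map (q₀ e) := hτr
  let ιU := (img ψ).ι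
  let πU := ιU ≫ π
  let fstU := pullback.fst πU ((yon S).map e)
  let sndU := pullback.snd πU ((yon S).map e)
  have hU' : fstU ≫ ιU ≫ π = sndU ≫ (yon S).map e := pullback.condition
  let κ : pullback πU ((yon S).map e) ⟶ pullback π ((yon S).map e) :=
    pullback.lift (fstU ≫ ιU) sndU (by rw [Category.assoc]; exact hU')
  have hκ1 : κ ≫ fE = fstU ≫ ιU := pullback.lift_fst _ _ _
  have hκ2 : κ ≫ π' = sndU := pullback.lift_snd _ _ _
  have sqκ : IsPullback κ fstU fE ιU := by
    refine IsPullback.of_right ?_ hκ1 (IsPullback.of_hasPullback π ((yon S).map e)).flip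
    rw [hκ2]
    exact (IsPullback.of_hasPullback πU ((yon S).map e)).flip
  have hιU : RepWith @IsOpenImmersion ιU := repWith_isOpenImmersion_img_ι ψ
    (repWith_mono (fun _ _ f (_ : Etale f) => (inferInstance : Flat f)) hψe)
    (repWith_mono (fun _ _ f (_ : Etale f) =>
      (inferInstance : LocallyOfFinitePresentation f)) hψe)
  have hκ : RepWith @IsOpenImmersion κ :=
    MorphismProperty.of_isPullback (P := RepWith @IsOpenImmersion) sqκ.flip hιU
  have hκm : Mono κ := mono_of_repWith_isOpenImmersion κ hκ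
  -- the first open
  let j := pullback.lift ψ ((yon S).map τ) hτ
  have hj1 : j ≫ fE = ψ := pullback.lift_fst _ _ _
  have hj2 : j ≫ π' = (yon S).map τ := pullback.lift_snd _ _ _
  let f₁ : (yon S).obj V' ⟶ pullback πU ((yon S).map e) :=
    pullback.lift (toImg ψ) ((yon S).map τ) (by
      change toImg ψ ≫ ιU ≫ π = _
      rw [← Category.assoc, toImg_ι]; exact hτ)
  have hf₁1 : f₁ ≫ fstU = toImg ψ := pullback.lift_fst _ _ _
  have hf₁2 : f₁ ≫ sndU = (yon S).map τ := pullback.lift_snd _ _ _
  have hf₁κ : f₁ ≫ κ = j := by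
    apply pullback.hom_ext
    · change (f₁ ≫ κ) ≫ fE = j ≫ fE
      rw [Category.assoc, hκ1, ← Category.assoc, hf₁1, toImg_ι, hj1]
    · change (f₁ ≫ κ) ≫ π' = j ≫ π'
      rw [Category.assoc, hκ2, hf₁2, hj2]
  have hf₁ : RepWith @IsOpenImmersion f₁ :=
    repWith_of_isPullback _ (isPullback_id_of_mono hf₁κ) hj
  -- the second open
  have hlrF : Flat lr.left := inferInstance
  have hlrL : LocallyOfFinitePresentation lr.left := inferInstance
  have hPir : (img ψ).P (ir ≫ fE) := img_P_of_lift ψ _ lr prV (by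
    rw [← Category.assoc, hlr, hψr1])
  obtain ⟨irU, hirU⟩ := ((img ψ).P_iff _).1 hPir
  let f₂ : (yon S).obj Wr ⟶ pullback πU ((yon S).map e) :=
    pullback.lift irU (ir ≫ π') (by
      change irU ≫ ιU ≫ π = _
      rw [← Category.assoc, hirU, Category.assoc, hE', Category.assoc])
  have hf₂1 : f₂ ≫ fstU = irU := pullback.lift_fst _ _ _
  have hf₂2 : f₂ ≫ sndU = ir ≫ π' := pullback.lift_snd _ _ _
  have hf₂κ : f₂ ≫ κ = ir := by
    apply pullback.hom_ext
    · change (f₂ ≫ κ) ≫ fE = ir ≫ fE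
      rw [Category.assoc, hκ1, ← Category.assoc, hf₂1, hirU]
    · change (f₂ ≫ κ) ≫ π' = ir ≫ π'
      rw [Category.assoc, hκ2, hf₂2]
  have hf₂ : RepWith @IsOpenImmersion f₂ :=
    repWith_of_isPullback _ (isPullback_id_of_mono hf₂κ) hir
  -- gluing
  let X : ULift.{u} Bool → Over S := fun b => cond b.down V' Wr
  let f : ∀ b, (yon S).obj (X b) ⟶ pullback πU ((yon S).map e) := fun b =>
    match b with
    | ⟨true⟩ => f₁
    | ⟨false⟩ => f₂
  have hf : ∀ b, RepWith @IsOpenImmersion (f b) := by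
    rintro ⟨_ | _⟩
    · exact hf₂
    · exact hf₁
  obtain ⟨W', ε', k, hk, hkε, -⟩ := exists_iso_yon_of_open_cover hf (by
    intro Z t x
    let g : (yon S).obj Z ⟶ E := t ≫ fstU ≫ ιU
    have hg : (img ψ).P g := ((img ψ).P_iff _).2 ⟨t ≫ fstU, by rw [Category.assoc]⟩
    obtain ⟨W, w, a, -, -, ⟨y, rfl⟩, ha⟩ := exists_lift_of_img_P ψ g hg x
    obtain ⟨τ₀, hτ₀⟩ := (yon S).map_surjective (t ≫ sndU)
    have hcomp : (w ≫ τ₀) ≫ e = (a ≫ τ) ≫ e := by
      apply (yon S).map_injective
      rw [Functor.map_comp, Functor.map_comp, Functor.map_comp, Functor.map_comp, hτ₀,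
        Category.assoc, Category.assoc, Category.assoc, ← hU', ← hτ, ← Category.assoc _ ψ, ha]
      simp only [g, Category.assoc]
    rcases exists_decomp_over e (w ≫ τ₀) (a ≫ τ) hcomp y with ⟨O, hy, hO⟩ | ⟨O, c, hy, hc0, hc1⟩
    · have key : (yon S).map (resOpenι W O ≫ a) ≫ f₁ = (yon S).map (resOpenι W O ≫ w) ≫ t := by
        apply pullback.hom_ext
        · change (_ ≫ f₁) ≫ fstU = (_ ≫ t) ≫ fstU
          rw [Category.assoc, hf₁1, ← cancel_mono ιU, Category.assoc, toImg_ι, Functor.map_comp,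
            Category.assoc, ha, Functor.map_comp]
          simp only [g, Category.assoc]
        · change (_ ≫ f₁) ≫ sndU = (_ ≫ t) ≫ sndU
          rw [Category.assoc, hf₁2, Category.assoc, ← hτ₀, ← Functor.map_comp, ← Functor.map_comp,
            Category.assoc, Category.assoc, hO]
      obtain ⟨O', hxO', l, hl⟩ := exists_open_lift f₁ hf₁ t (w.left y) (resOpenι W O ≫ w)
        (resOpenι W O ≫ a) ⟨⟨y, hy⟩, rfl⟩ key
      exact ⟨⟨true⟩, O', hxO', l, hl⟩
    · obtain ⟨z, hz1, hz2⟩ := hlift (resOpenι W O ≫ a) c (by rw [Category.assoc]; exact hc1.symm)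
      have key : (yon S).map (z ≫ lr) ≫ f₂ = (yon S).map (resOpenι W O ≫ w) ≫ t := by
        rw [← cancel_mono κ, Category.assoc, hf₂κ, Functor.map_comp, Category.assoc, hlr]
        apply pullback.hom_ext
        · change (_ ≫ ψr) ≫ fE = ((_ ≫ t) ≫ κ) ≫ fE
          rw [Category.assoc, hψr1, ← Functor.map_comp_assoc, hz1, Category.assoc, hκ1,
            Functor.map_comp, Category.assoc, ha, Functor.map_comp]
          simp only [g, Category.assoc]
        · change (_ ≫ ψr) ≫ π' = ((_ ≫ t) ≫ κ) ≫ π'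
          rw [Category.assoc, hψr2, ← Functor.map_comp_assoc, hz2, ← Functor.map_comp, hc0,
            Category.assoc, hκ2, Category.assoc, ← hτ₀, ← Functor.map_comp, Category.assoc]
      obtain ⟨O', hxO', l, hl⟩ := exists_open_lift f₂ hf₂ t (w.left y) (resOpenι W O ≫ w)
        (z ≫ lr) ⟨⟨y, hy⟩, rfl⟩ key
      exact ⟨⟨false⟩, O', hxO', l, hl⟩)
  -- the glued scheme over `T'`
  obtain ⟨ρ', hρ'⟩ := (yon S).map_surjective (ε'.hom ≫ sndU)
  have hG' : Good π' := hG.baseChange e (IsPullback.of_hasPullback π ((yon S).map e))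
  have hi'e : RepWith @Etale (ε'.hom ≫ κ) :=
    (MorphismProperty.cancel_left_of_respectsIso (RepWith @Etale) ε'.hom κ).2
      (repWith_mono (fun _ _ f (_ : IsOpenImmersion f) => (inferInstance : Etale f)) hκ)
  have hi'm : Mono (ε'.hom ≫ κ) := inferInstance
  obtain ⟨hsep, hlqf, hlft⟩ := hG'.of_open (ε'.hom ≫ κ) hi'e ρ' (by
    rw [Category.assoc, hκ2, hρ'])
  -- descent
  let Oe : T.left.Opens := ⟨Set.range e.left, e.left.isOpenMap.isOpen_range⟩
  have hre : Set.range e.left ⊆ Set.range Oe.ι := by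
    rw [Scheme.Opens.range_ι]
    exact subset_rfl
  let e₀l : T'.left ⟶ (Oe : Scheme.{u}) := IsOpenImmersion.lift Oe.ι e.left hre
  have he₀l : e₀l ≫ Oe.ι = e.left := IsOpenImmersion.lift_fac _ _ _
  let e₀ : T' ⟶ resOpen T Oe := Over.homMk e₀l (by
    change e₀l ≫ Oe.ι ≫ T.hom = T'.hom
    rw [← Category.assoc, he₀l, Over.w])
  have he₀ : e₀ ≫ resOpenι T Oe = e := by
    ext1
    exact he₀l
  have he₀F : Flat e₀.left := by
    have : Flat (e₀l ≫ Oe.ι) := by rw [he₀l]; infer_instance
    exact MorphismProperty.of_postcomp (W := @Flat) (W' := @IsOpenImmersion) e₀l Oe.ι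
      (inferInstanceAs (IsOpenImmersion Oe.ι)) this
  have he₀L : LocallyOfFinitePresentation e₀.left := by
    have : LocallyOfFinitePresentation (e₀l ≫ Oe.ι) := by rw [he₀l]; infer_instance
    exact MorphismProperty.of_postcomp (W := @LocallyOfFinitePresentation)
      (W' := @IsOpenImmersion) e₀l Oe.ι (inferInstanceAs (IsOpenImmersion Oe.ι)) this
  have he₀S : ∀ x : (resOpen T Oe).left, x ∈ Set.range e₀.left := by
    intro x
    have hx : Oe.ι x ∈ Set.range e.left := x.2
    obtain ⟨t', ht'⟩ := hx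
    refine ⟨t', ?_⟩
    apply Oe.ι.injective
    change (e₀l ≫ Oe.ι) t' = _
    rw [he₀l]
    exact ht'
  obtain ⟨π₀, hπ₀⟩ := exists_factor_open ψ Oe πU (τ ≫ e₀) (by
    change toImg ψ ≫ ιU ≫ π = _
    rw [← Category.assoc, toImg_ι, hτ, ← Functor.map_comp, ← Functor.map_comp, Category.assoc,
      he₀])
  have sq₀ : IsPullback (ε'.hom ≫ fstU) ((yon S).map ρ') π₀ ((yon S).map e₀) := by
    have h1 : IsPullback fstU sndU (π₀ ≫ (yon S).map (resOpenι T Oe))
        ((yon S).map e₀ ≫ (yon S).map (resOpenι T Oe)) := by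
      rw [hπ₀, ← Functor.map_comp, he₀]
      exact IsPullback.of_hasPullback πU ((yon S).map e)
    have hm : Mono (resOpenι T Oe) := by
      have : Mono ((Over.forget S).map (resOpenι T Oe)) := inferInstanceAs (Mono Oe.ι)
      exact (Over.forget S).mono_of_mono_map this
    have : Mono ((yon S).map (resOpenι T Oe)) := inferInstance
    have h2 := isPullback_of_comp_mono ((yon S).map (resOpenι T Oe)) h1
    rw [hρ']
    refine IsPullback.of_iso h2 ε'.symm (Iso.refl _) (Iso.refl _) (Iso.refl _) ?_ ?_ ?_ ?_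
    · simp
    · simp
    · simp
    · simp
  obtain ⟨W, ρ, ε₀, -⟩ := DescSL.exists_rep_of_chart π₀ (fun x =>
    ⟨T', W', e₀, ρ', ε'.hom ≫ fstU, sq₀, he₀F, he₀L, he₀S x, hsep, hlqf, hlft⟩)
  obtain ⟨i, l, h1, h2, h3, h4⟩ := exists_open_of_iso_img ψ hψe ε₀
  exact ⟨W, i, l, h1, h2, h3, h4⟩

end Step

section Induction

/-- a map from an empty scheme is a representable open immersion -/
theorem repWith_isOpenImmersion_of_isEmpty {E : Sp S} {V' : Over S} [IsEmpty V'.left]
    (ψ : (yon S).obj V' ⟶ E) : RepWith @IsOpenImmersion ψ := by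
  refine ⟨fun U g => ?_, fun {U V} g fst snd sq => ?_⟩
  · obtain ⟨fstV⟩ := nonempty_hom_of_isEmpty ((yon S).obj V') (emptyOver S)
    refine ⟨emptyOver S, emptyTo U, fstV, ?_⟩
    refine isPullback_iff_yon.2 ⟨Subsingleton.elim _ _, fun T' x y hxy => ?_⟩
    have hT' : IsEmpty T'.left := Function.isEmpty ((yon S).preimage x).left
    obtain ⟨z⟩ := nonempty_hom_of_isEmpty ((yon S).obj (emptyOver S)) T'
    exact ⟨z, ⟨Subsingleton.elim _ _, Subsingleton.elim _ _⟩, fun _ _ => Subsingleton.elim _ _⟩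
  · have hV : IsEmpty V.left := Function.isEmpty ((yon S).preimage fst).left
    change IsOpenImmersion snd.left
    infer_instance

set_option backward.isDefEq.respectTransparency.types false in
/-- Stacks 0417, by induction on the bound for the number of sheets of `e` -/
theorem exists_open_image : ∀ (n : ℕ) {T T' : Over S} (e : T' ⟶ T) [Etale e.left]
    [IsSeparated e.left] (_ : SlqfBd.Bd n e.left) {E : Sp S} (π : E ⟶ (yon S).obj T)
    (_ : Good π) {V' : Over S} (ψ : (yon S).obj V' ⟶ E) (τ : V' ⟶ T')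
    (hτ : ψ ≫ π = (yon S).map τ ≫ (yon S).map e)
    (_ : RepWith @IsOpenImmersion (pullback.lift ψ ((yon S).map τ) hτ)),
    ∃ (W : Over S) (i : (yon S).obj W ⟶ E) (l : V' ⟶ W), RepWith @IsOpenImmersion i ∧
      (yon S).map l ≫ i = ψ ∧ Etale l.left ∧ Surjective l.left := by
  intro n
  induction n with
  | zero =>
    intro T T' e _ _ hbd E π hG V' ψ τ hτ hj
    have hT' : IsEmpty T'.left := SlqfBd.isEmpty_of_bd_zero e.left hbd
    have hV' : IsEmpty V'.left := Function.isEmpty τ.left
    refine ⟨V', ψ, 𝟙 V', repWith_isOpenImmersion_of_isEmpty ψ, ?_, ?_, ?_⟩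
    · rw [CategoryTheory.Functor.map_id, Category.id_comp]
    · change Etale (𝟙 V'.left)
      infer_instance
    · change Surjective (𝟙 V'.left)
      infer_instance
  | succ n ih =>
    intro T T' e _ _ hbd E π hG V' ψ τ hτ hj
    have hG' : Good (pullback.snd π ((yon S).map e)) :=
      hG.baseChange e (IsPullback.of_hasPullback π ((yon S).map e))
    have hbd' : SlqfBd.Bd n (q₀ e).left := SlqfBd.bd_rest e.left n hbd
    exact step e π ψ τ hτ hj hG (fun ψr τr hτr hjr =>
      ih (q₀ e) hbd' (pullback.snd π ((yon S).map e)) hG' ψr τr hτr hjr)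

end Induction

end Groth.Agent.Lib.Helper24.Slqf
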