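import Groth.Agent.Lib.Helper24.IndReal
import Groth.Agent.Lib.Helper24.CoprodSp
import Groth.Agent.Lib.Helper24.SlqfInd
import Groth.Agent.Lib.Helper14.AlgSpQCMor
import Groth.Prelude.Def_AlgSpEt
set_option autoImplicit false
set_option linter.unusedSectionVars false
set_option linter.unusedVariables false
universe u
open CategoryTheory CategoryTheory.Limits AlgebraicGeometry Opposite

/-! Objects of the site of spaces étale over `X`. -/

namespace Groth.Agent.Lib.Helper24.IndEt
open AlgSp Groth.Agent.Lib.Helper14.AS Groth.Agent.Lib.Helper24.ZarGlue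

variable {S : Scheme.{u}} {X : Space S}

/-- objects of `EtSpOver X` from an étale map -/
def mkE (E : Space S) (e : E ⟶ X) (he : IsEtaleMor e.hom) : EtSpOver X := ⟨Over.mk e, he⟩

/-- morphisms between such objects -/
def mkHom {E E' : Space S} {e : E ⟶ X} {e' : E' ⟶ X} {he : IsEtaleMor e.hom}
    {he' : IsEtaleMor e'.hom} (φ : E ⟶ E') (h : φ ≫ e' = e) : mkE E e he ⟶ mkE E' e' he' :=
  ObjectProperty.homMk (Over.homMk φ h)

/-- morphisms to an arbitrary object -/
def mkHomTo {E : Space S} {e : E ⟶ X} {he : IsEtaleMor e.hom} (Wt : EtSpOver X)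
    (φ : E ⟶ Wt.obj.left) (h : φ ≫ Wt.obj.hom = e) : mkE E e he ⟶ Wt :=
  ObjectProperty.homMk (Over.homMk φ h)

theorem mkHom_hom {E E' : Space S} {e : E ⟶ X} {e' : E' ⟶ X} {he : IsEtaleMor e.hom}
    {he' : IsEtaleMor e'.hom} (φ : E ⟶ E') (h : φ ≫ e' = e) :
    (mkHom (he := he) (he' := he') φ h).hom.left = φ := rfl

theorem mkHomTo_hom {E : Space S} {e : E ⟶ X} {he : IsEtaleMor e.hom} (Wt : EtSpOver X)
    (φ : E ⟶ Wt.obj.left) (h : φ ≫ Wt.obj.hom = e) :
    (mkHomTo (he := he) Wt φ h).hom.left = φ := rfl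

/-- the space of a scheme -/
def ySp (V : Over S) : Space S := ⟨(yon S).obj V, IsAlgSpace.yon_obj V⟩

/-- objects from schemes étale over `X` -/
def mkY (V : Over S) (g : (yon S).obj V ⟶ X.obj) (hg : RepWith @Etale g) : EtSpOver X :=
  mkE (ySp V) (ObjectProperty.homMk g) (isEtaleMor_of_repWith_etale hg)

theorem mkY_congr (V : Over S) {g g' : (yon S).obj V ⟶ X.obj} (hg : RepWith @Etale g) (e : g = g') :
    mkY V g hg = mkY V g' (e ▸ hg) := by
  subst e; rfl

end Groth.Agent.Lib.Helper24.IndEt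

namespace Groth.Agent.Lib.Helper24.IndEt
open AlgSp Groth.Agent.Lib.Helper14.AS Groth.Agent.Lib.Helper24.ZarGlue
open Groth.Agent.Lib.Helper24.IndPt Groth.Agent.Lib.Helper24.IndSq Groth.Agent.Lib.Helper24.Filt1

variable {S : Scheme.{u}} {X : Space S}

/-- lifts through a monomorphism of schemes are unique at every point -/
theorem ul_yon_map_of_mono {V Q : Over S} (f : V ⟶ Q) [Mono f.left] (x : Points ((yon S).obj Q)) :
    UL ((yon S).map f) x := by
  intro T t u₁ u₂ he _
  have h1 : u₁ ≫ f = u₂ ≫ f := by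
    apply (yon S).map_injective
    rw [Functor.map_comp, Functor.map_comp, he]
  have h2 : u₁.left ≫ f.left = u₂.left ≫ f.left := congrArg (fun m => m.left) h1
  have h3 : u₁.left = u₂.left := by rwa [cancel_mono] at h2
  unfold EqAt
  rw [h3]

/-- the Zariski square lemma: two open subschemes covering a scheme -/
theorem isElemDistSq_zariski {Q K L : Over S} [IsAffine L.left] (j : K ⟶ Q) (f : L ⟶ Q)
    [IsOpenImmersion j.left] [IsOpenImmersion f.left]
    (hcov : ∀ z : Q.left, z ∈ Set.range j.left ∨ z ∈ Set.range f.left) :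
    IsElemDistSq ((yon S).map j) ((yon S).map f) := by
  have hje : RepWith @IsOpenImmersion ((yon S).map j) := (repWith_yon_map_iff _ _).2 inferInstance
  have hfe : RepWith @Etale ((yon S).map f) := (repWith_yon_map_iff _ _).2 inferInstance
  have hmono : Mono f.left := inferInstance
  refine isElemDistSq_of_ptIso (IsAlgSpace.yon_obj K) (IsAlgSpace.yon_obj Q) _ hje _ hfe fun x hx => ?_
  refine ⟨?_, ul_yon_map_of_mono f x⟩
  obtain ⟨z, rfl⟩ := (Points.schemeHomeo Q).surjective x
  rcases hcov z with ⟨k, rfl⟩ | ⟨l, rfl⟩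
  · exfalso
    apply hx
    refine ⟨Points.ofScheme K k, ?_⟩
    change Points.map ((yon S).map j) (Points.ofPt (𝟙 _) k) = Points.ofPt (𝟙 _) (j.left k)
    rw [Points.map_ofPt, Category.id_comp]
    have := ofPt_yon_map_comp j (𝟙 ((yon S).obj Q)) k
    rw [Category.comp_id] at this
    exact this
  · refine ⟨l, ?_⟩
    have := ofPt_yon_map_comp f (𝟙 ((yon S).obj Q)) l
    rw [Category.comp_id] at this
    exact this

end Groth.Agent.Lib.Helper24.IndEt
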