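import Groth.Agent.Lib.Helper24.IndEt
set_option autoImplicit false
set_option linter.unusedSectionVars false
set_option linter.unusedVariables false
universe u
open CategoryTheory CategoryTheory.Limits AlgebraicGeometry Opposite

namespace Groth.Agent.Lib.Helper24.IndEt
open AlgSp Groth.Agent.Lib.Helper14.AS Groth.Agent.Lib.Helper24.ZarGlue
open Groth.Agent.Lib.Helper24.IndPt Groth.Agent.Lib.Helper24.IndSq Groth.Agent.Lib.Helper24.Filt1

variable {S : Scheme.{u}} {X : Space S}

/-- lifting through an open immersion of schemes over `S` -/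
theorem exists_liftOver {A Q V : Over S} (σ : Q ⟶ V) [IsOpenImmersion σ.left] (α : A ⟶ V)
    (h : Set.range α.left ⊆ Set.range σ.left) : ∃ l : A ⟶ Q, l ≫ σ = α := by
  refine ⟨Over.homMk (IsOpenImmersion.lift σ.left α.left h) ?_, ?_⟩
  · rw [← Over.w σ, ← Category.assoc, IsOpenImmersion.lift_fac]
    exact Over.w α
  · ext1
    exact IsOpenImmersion.lift_fac _ _ _

theorem isOpenImmersion_of_comp_eq {A Q V : Over S} (σ : Q ⟶ V) [IsOpenImmersion σ.left] (α : A ⟶ V)
    [IsOpenImmersion α.left] (l : A ⟶ Q) (hl : l ≫ σ = α) : IsOpenImmersion l.left := by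
  have : IsOpenImmersion (l.left ≫ σ.left) := by
    rw [← Over.comp_left, hl]; infer_instance
  exact IsOpenImmersion.of_comp l.left σ.left

set_option backward.isDefEq.respectTransparency.types false in
theorem etale_comp_open {Q V : Over S} (σ : Q ⟶ V) [IsOpenImmersion σ.left]
    {g : (yon S).obj V ⟶ X.obj} (hg : RepWith @Etale g) : RepWith @Etale ((yon S).map σ ≫ g) :=
  repWith_comp _ ((repWith_yon_map_iff _ _).2 (inferInstance : Etale σ.left)) hg

theorem compactSpace_of_range_eq {Q V : Over S} (σ : Q ⟶ V) [IsOpenImmersion σ.left]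
    (hc : IsCompact (Set.range σ.left)) : CompactSpace ↥Q.left := by
  refine ⟨?_⟩
  rw [σ.left.isOpenEmbedding.isInducing.isCompact_iff, Set.image_univ]
  exact hc

theorem isCompact_biUnion_affineOpens {V : Scheme.{u}} (s : Finset V.affineOpens) :
    IsCompact (⋃ i ∈ s, ((i : V.Opens) : Set V)) :=
  s.finite_toSet.isCompact_biUnion fun i _ => i.2.isCompact

set_option backward.isDefEq.respectTransparency.types false in
/-- the intersection square of open subschemes -/
theorem isPullback_of_open_lifts {Q QK QL QKL V : Over S} (σ : Q ⟶ V) (σK : QK ⟶ V) (σL : QL ⟶ V)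
    (σKL : QKL ⟶ V) [IsOpenImmersion σ.left] [IsOpenImmersion σK.left] [IsOpenImmersion σL.left]
    [IsOpenImmersion σKL.left] (j₀ : QK ⟶ Q) (f₀ : QL ⟶ Q) (p₀ : QKL ⟶ QK) (q₀ : QKL ⟶ QL)
    (hj : j₀ ≫ σ = σK) (hf : f₀ ≫ σ = σL) (hp : p₀ ≫ σK = σKL) (hq : q₀ ≫ σL = σKL)
    (hrange : Set.range σKL.left = Set.range σK.left ∩ Set.range σL.left) :
    IsPullback ((yon S).map p₀) ((yon S).map q₀) ((yon S).map j₀) ((yon S).map f₀) := by
  have hqo : IsOpenImmersion q₀.left := isOpenImmersion_of_comp_eq σL σKL q₀ hq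
  have hjo : IsOpenImmersion j₀.left := isOpenImmersion_of_comp_eq σ σK j₀ hj
  have hcomm : p₀ ≫ j₀ = q₀ ≫ f₀ := by
    have : Mono σ.left := inferInstance
    have : Mono σ := (Over.forget S).mono_of_mono_map this
    rw [← cancel_mono σ, Category.assoc, Category.assoc, hj, hf, hp, hq]
  have H : q₀.left ≫ f₀.left = p₀.left ≫ j₀.left := by
    rw [← Over.comp_left, ← Over.comp_left, hcomm]
  have hσL : ∀ x, σL.left (q₀.left x) = σKL.left x := fun x => by
    rw [← Scheme.Hom.comp_apply, ← Over.comp_left, hq]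
  have hσ1 : ∀ l, σ.left (f₀.left l) = σL.left l := fun l => by
    rw [← Scheme.Hom.comp_apply, ← Over.comp_left, hf]
  have hσ2 : ∀ k, σ.left (j₀.left k) = σK.left k := fun k => by
    rw [← Scheme.Hom.comp_apply, ← Over.comp_left, hj]
  have H' : f₀.left ⁻¹ᵁ j₀.left.opensRange = q₀.left.opensRange := by
    ext l
    change f₀.left l ∈ Set.range j₀.left ↔ l ∈ Set.range q₀.left
    constructor
    · rintro ⟨k, hk⟩
      have h1 : σL.left l ∈ Set.range σKL.left := by
        rw [hrange]
        refine ⟨⟨k, ?_⟩, ⟨l, rfl⟩⟩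
        rw [← hσ2 k, hk, hσ1 l]
      obtain ⟨x, hx⟩ := h1
      refine ⟨x, σL.left.isOpenEmbedding.injective ?_⟩
      rw [hσL x, hx]
    · rintro ⟨x, rfl⟩
      refine ⟨p₀.left x, ?_⟩
      rw [← Scheme.Hom.comp_apply, ← H, Scheme.Hom.comp_apply]
  have sq := IsOpenImmersion.isPullback p₀.left q₀.left j₀.left f₀.left H H'
  have sq' : IsPullback p₀ q₀ j₀ f₀ := IsPullback.of_map (Over.forget S) hcomm sq
  exact sq'.map (yon S)

end Groth.Agent.Lib.Helper24.IndEt
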