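import Groth.Agent.Lib.Helper24.IndEt2
set_option autoImplicit false
set_option linter.unusedSectionVars false
set_option linter.unusedVariables false
universe u
open CategoryTheory CategoryTheory.Limits AlgebraicGeometry Opposite

namespace Groth.Agent.Lib.Helper24.IndEt
open AlgSp Groth.Agent.Lib.Helper14.AS Groth.Agent.Lib.Helper24.ZarGlue
open Groth.Agent.Lib.Helper24.IndPt Groth.Agent.Lib.Helper24.IndSq Groth.Agent.Lib.Helper24.Filt1

variable {S : Scheme.{u}} {X : Space S}

set_option backward.isDefEq.respectTransparency.types false in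
set_option maxHeartbeats 800000 in
/-- the property holds for quasi-compact open subschemes of affine schemes étale over `X` -/
theorem p6 (B P : EtSpOver X → Prop)
    (h2 : ∀ (W U : EtSpOver X) (j : U ⟶ W), B W → RepWith @IsOpenImmersion j.hom.left.hom →
      IsQuasiCompactSp U.obj.left.obj → B U)
    (h3 : ∀ (V : EtSpOver X) (T : Over S), IsAffine T.left →
      Nonempty ((yon S).obj T ≅ V.obj.left.obj) → B V ∧ P V)
    (h4 : ∀ (W U V UV : EtSpOver X) (j : U ⟶ W) (f : V ⟶ W) (p : UV ⟶ U) (q : UV ⟶ V),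
      B W → IsQuasiCompactSp U.obj.left.obj →
      (∃ T : Over S, IsAffine T.left ∧ Nonempty ((yon S).obj T ≅ V.obj.left.obj)) →
      IsElemDistSq j.hom.left.hom f.hom.left.hom →
      IsPullback p.hom.left.hom q.hom.left.hom j.hom.left.hom f.hom.left.hom →
      P U → P V → P UV → P W) :
    ∀ (n : ℕ) (V : Over S) (hV : IsAffine V.left) (g : (yon S).obj V ⟶ X.obj) (hg : RepWith @Etale g)
      (s : Finset V.left.affineOpens), s.card ≤ n → ∀ (Q : Over S) (σ : Q ⟶ V)
      (hσ : IsOpenImmersion σ.left),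
      Set.range σ.left = ⋃ i ∈ s, ((i : V.left.Opens) : Set V.left) →
      P (mkY Q ((yon S).map σ ≫ g) (etale_comp_open σ hg)) := by
  -- the empty case
  have hempty : ∀ (V : Over S) (g : (yon S).obj V ⟶ X.obj) (hg : RepWith @Etale g) (Q : Over S)
      (σ : Q ⟶ V) (hσ : IsOpenImmersion σ.left), Set.range σ.left = ∅ →
      P (mkY Q ((yon S).map σ ≫ g) (etale_comp_open σ hg)) := by
    intro V g hg Q σ hσ hr
    have : IsEmpty ↥Q.left := Set.range_eq_empty_iff.1 hr
    exact (h3 _ Q inferInstance ⟨Iso.refl _⟩).2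
  intro n
  induction n with
  | zero =>
    intro V hV g hg s hs Q σ hσ hr
    have : s = ∅ := Finset.card_eq_zero.1 (Nat.le_zero.1 hs)
    subst this
    exact hempty V g hg Q σ hσ (by simpa using hr)
  | succ n IH =>
    intro V hV g hg s hs Q σ hσ hr
    by_cases hse : s = ∅
    · subst hse
      exact hempty V g hg Q σ hσ (by simpa using hr)
    obtain ⟨a, ha⟩ := Finset.nonempty_iff_ne_empty.2 hse
    classical
    let s' : Finset V.left.affineOpens := s.erase a
    have hs' : s'.card ≤ n := by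
      have := Finset.card_erase_of_mem ha
      change s'.card = s.card - 1 at this
      omega
    let K : V.left.Opens := ⨆ i ∈ s', (i : V.left.Opens)
    let L : V.left.Opens := (a : V.left.Opens)
    have hKc : ((K : V.left.Opens) : Set V.left) = ⋃ i ∈ s', ((i : V.left.Opens) : Set V.left) := by
      simp [K]
    have hunion : (⋃ i ∈ s, ((i : V.left.Opens) : Set V.left)) = (K : Set V.left) ∪ (L : Set V.left) := by
      rw [hKc]
      ext z
      simp only [Set.mem_iUnion, Set.mem_union, s', Finset.mem_erase]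
      constructor
      · rintro ⟨i, hi, hz⟩
        by_cases hia : i = a
        · right; subst hia; exact hz
        · left; exact ⟨i, ⟨hia, hi⟩, hz⟩
      · rintro (⟨i, ⟨-, hi⟩, hz⟩ | hz)
        · exact ⟨i, hi, hz⟩
        · exact ⟨a, ha, hz⟩
    -- the open subschemes
    have hLaff : IsAffine (resOpen V L).left := a.2
    have hσK : IsOpenImmersion (resOpenι V K).left := inferInstanceAs (IsOpenImmersion K.ι)
    have hσL : IsOpenImmersion (resOpenι V L).left := inferInstanceAs (IsOpenImmersion L.ι)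
    have hσKL : IsOpenImmersion (resOpenι V (K ⊓ L)).left := inferInstanceAs (IsOpenImmersion (K ⊓ L).ι)
    have hrK : Set.range (resOpenι V K).left = (K : Set V.left) := Scheme.Opens.range_ι K
    have hrL : Set.range (resOpenι V L).left = (L : Set V.left) := Scheme.Opens.range_ι L
    have hrKL : Set.range (resOpenι V (K ⊓ L)).left = (K : Set V.left) ∩ (L : Set V.left) :=
      Scheme.Opens.range_ι (K ⊓ L)
    obtain ⟨j₀, hj₀⟩ := exists_liftOver σ (resOpenι V K) (by
      rw [hrK, hr, hunion]; exact Set.subset_union_left)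
    obtain ⟨f₀, hf₀⟩ := exists_liftOver σ (resOpenι V L) (by
      rw [hrL, hr, hunion]; exact Set.subset_union_right)
    obtain ⟨p₀, hp₀⟩ := exists_liftOver (resOpenι V K) (resOpenι V (K ⊓ L)) (by
      rw [hrK, hrKL]; exact Set.inter_subset_left)
    obtain ⟨q₀, hq₀⟩ := exists_liftOver (resOpenι V L) (resOpenι V (K ⊓ L)) (by
      rw [hrL, hrKL]; exact Set.inter_subset_right)
    have hjo : IsOpenImmersion j₀.left := isOpenImmersion_of_comp_eq σ _ j₀ hj₀
    have hfo : IsOpenImmersion f₀.left := isOpenImmersion_of_comp_eq σ _ f₀ hf₀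
    -- the objects
    let Wq : EtSpOver X := mkY Q ((yon S).map σ ≫ g) (etale_comp_open σ hg)
    let U : EtSpOver X := mkY (resOpen V K) ((yon S).map (resOpenι V K) ≫ g) (etale_comp_open _ hg)
    let Vd : EtSpOver X := mkY (resOpen V L) ((yon S).map (resOpenι V L) ≫ g) (etale_comp_open _ hg)
    let UV : EtSpOver X := mkY (resOpen V (K ⊓ L)) ((yon S).map (resOpenι V (K ⊓ L)) ≫ g)
      (etale_comp_open _ hg)
    let A : EtSpOver X := mkY V g hg
    let j : U ⟶ Wq := mkHom (ObjectProperty.homMk ((yon S).map j₀)) (by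
      ext1
      change (yon S).map j₀ ≫ (yon S).map σ ≫ g = (yon S).map (resOpenι V K) ≫ g
      rw [← Category.assoc, ← Functor.map_comp, hj₀])
    let f : Vd ⟶ Wq := mkHom (ObjectProperty.homMk ((yon S).map f₀)) (by
      ext1
      change (yon S).map f₀ ≫ (yon S).map σ ≫ g = (yon S).map (resOpenι V L) ≫ g
      rw [← Category.assoc, ← Functor.map_comp, hf₀])
    let p : UV ⟶ U := mkHom (ObjectProperty.homMk ((yon S).map p₀)) (by
      ext1
      change (yon S).map p₀ ≫ (yon S).map (resOpenι V K) ≫ g = (yon S).map (resOpenι V (K ⊓ L)) ≫ g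
      rw [← Category.assoc, ← Functor.map_comp, hp₀])
    let q : UV ⟶ Vd := mkHom (ObjectProperty.homMk ((yon S).map q₀)) (by
      ext1
      change (yon S).map q₀ ≫ (yon S).map (resOpenι V L) ≫ g = (yon S).map (resOpenι V (K ⊓ L)) ≫ g
      rw [← Category.assoc, ← Functor.map_comp, hq₀])
    let ε : Wq ⟶ A := mkHom (ObjectProperty.homMk ((yon S).map σ)) (by
      ext1
      rfl)
    -- compactness
    have hKcomp : IsCompact (K : Set V.left) := by rw [hKc]; exact isCompact_biUnion_affineOpens s'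
    have hQc : CompactSpace ↥Q.left :=
      compactSpace_of_range_eq σ (by rw [hr]; exact isCompact_biUnion_affineOpens s)
    have hUc : CompactSpace ↥(resOpen V K).left := isCompact_iff_compactSpace.1 hKcomp
    -- membership in `B`
    have hBA : B A := (h3 A V hV ⟨Iso.refl _⟩).1
    have hBW : B Wq := h2 A Wq ε hBA ((repWith_yon_map_iff _ _).2 hσ)
      ((isQuasiCompactSp_yon_iff Q).2 hQc)
    refine h4 Wq U Vd UV j f p q hBW ((isQuasiCompactSp_yon_iff _).2 hUc)
      ⟨resOpen V L, hLaff, ⟨Iso.refl _⟩⟩ ?_ ?_ ?_ ?_ ?_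
    · -- the square is elementary distinguished
      refine isElemDistSq_zariski j₀ f₀ fun z => ?_
      have hz : σ.left z ∈ (K : Set V.left) ∪ (L : Set V.left) := by
        rw [← hunion, ← hr]; exact ⟨z, rfl⟩
      rcases hz with hz | hz
      · left
        refine ⟨⟨σ.left z, hz⟩, σ.left.isOpenEmbedding.injective ?_⟩
        rw [← Scheme.Hom.comp_apply, ← Over.comp_left, hj₀]
        rfl
      · right
        refine ⟨⟨σ.left z, hz⟩, σ.left.isOpenEmbedding.injective ?_⟩
        rw [← Scheme.Hom.comp_apply, ← Over.comp_left, hf₀]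
        rfl
    · exact isPullback_of_open_lifts σ (resOpenι V K) (resOpenι V L) (resOpenι V (K ⊓ L)) j₀ f₀ p₀ q₀
        hj₀ hf₀ hp₀ hq₀ (by rw [hrKL, hrK, hrL])
    · exact IH V hV g hg s' hs' (resOpen V K) (resOpenι V K) hσK (by rw [hrK, hKc])
    · exact (h3 Vd (resOpen V L) hLaff ⟨Iso.refl _⟩).2
    · -- the intersection
      have haff : ∀ i : V.left.affineOpens, IsAffineOpen ((i : V.left.Opens) ⊓ L) := fun i =>
        i.2.inf a.2
      let s'' : Finset V.left.affineOpens :=
        s'.image fun i : V.left.affineOpens => ⟨i.1 ⊓ L, haff i⟩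
      have hs'' : s''.card ≤ n := Finset.card_image_le.trans hs'
      refine IH V hV g hg s'' hs'' (resOpen V (K ⊓ L)) (resOpenι V (K ⊓ L)) hσKL ?_
      rw [hrKL, hKc]
      ext z
      simp only [Set.mem_inter_iff, Set.mem_iUnion, s'', Finset.mem_image]
      constructor
      · rintro ⟨⟨i, hi, hz⟩, hzL⟩
        exact ⟨⟨i.1 ⊓ L, haff i⟩, ⟨i, hi, rfl⟩, ⟨hz, hzL⟩⟩
      · rintro ⟨_, ⟨i, hi, rfl⟩, hz⟩
        exact ⟨⟨i, hi, hz.1⟩, hz.2⟩

end Groth.Agent.Lib.Helper24.IndEt
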