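import Groth.Agent.Lib.Helper24.IndEt3
import Groth.Agent.Lib.Helper14.AlgSpQSDecent
import Groth.Agent.Lib.Helper14.Glue3
set_option autoImplicit false
set_option linter.unusedSectionVars false
set_option linter.unusedVariables false
universe u
open CategoryTheory CategoryTheory.Limits AlgebraicGeometry Opposite

namespace Groth.Agent.Lib.Helper24.IndEt
open AlgSp Groth.Agent.Lib.Helper14.AS Groth.Agent.Lib.Helper24.ZarGlue
open Groth.Agent.Lib.Helper24.IndPt Groth.Agent.Lib.Helper24.IndSq Groth.Agent.Lib.Helper24.Filt1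

variable {S : Scheme.{u}} {X : Space S}

theorem isEtaleMor_comp {A B C : Sp S} {a : A ⟶ B} {b : B ⟶ C} (ha : IsEtaleMor a)
    (hb : IsEtaleMor b) : IsEtaleMor (a ≫ b) := fun V φ hφ => by
  rw [← Category.assoc]
  exact hb _ (ha _ hφ)

theorem isEtaleMor_of_openImmersion {A B : Sp S} {a : A ⟶ B} (ha : RepWith @IsOpenImmersion a) :
    IsEtaleMor a :=
  isEtaleMor_of_repWith_etale (repWith_mono isOpenImmersion_le_etale ha)

set_option backward.isDefEq.respectTransparency.types false in
/-- the fibre product of a quasi-compact open subspace with an affine chart, over a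
quasi-separated space, is quasi-compact -/
theorem compactSpace_rep_pullback [QuasiSeparatedSpace ↥S] {W₁ W₂ : Sp S} (hW₂ : IsAlgSpace W₂)
    (hW₂s : IsQuasiSeparatedSp W₂) (k : W₁ ⟶ W₂) (hk : RepWith @IsOpenImmersion k)
    (hkc : IsCompact (Set.range (Points.map k))) {V : Over S} [IsAffine V.left]
    (f : (yon S).obj V ⟶ W₂) : CompactSpace ↥(hk.rep.pullback f).left := by
  have sq := hk.rep.isPullback f
  have hso : IsOpenImmersion (hk.rep.snd f).left := hk.property_snd f
  have hfr : Representable f := hW₂.representable_from_yon f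
  have hVqc : QuasiCompact V.hom := inferInstance
  have hfq : RepWith @QuasiCompact f := repWith_quasiCompact_of_isQuasiSeparatedSp hW₂s hVqc f hfr
  have hRo : IsOpen (Set.range (Points.map k)) := isOpen_range_of_openImmersion hW₂ k hk
  have hc := isCompact_preimage_of_isQuasiCompactMor hW₂ f (isQuasiCompactMor_of_repWith hfq) _ hRo hkc
  refine compactSpace_of_range_eq (hk.rep.snd f) ?_
  have hrange : Set.range (hk.rep.snd f).left =
      (Points.schemeHomeo V) ⁻¹' (Points.map f ⁻¹' Set.range (Points.map k)) := by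
    ext v
    simp only [Set.mem_preimage]
    constructor
    · rintro ⟨z, rfl⟩
      refine ⟨Points.ofPt (hk.rep.fst f) z, ?_⟩
      rw [Points.map_ofPt, sq.w]
      change _ = Points.map f (Points.ofPt (𝟙 _) _)
      rw [Points.map_ofPt, Category.id_comp, ofPt_yon_map_comp]
    · rintro ⟨x, hx⟩
      have e : Points.map k x = Points.ofPt f v := by
        rw [hx]
        change Points.map f (Points.ofPt (𝟙 _) v) = _
        rw [Points.map_ofPt, Category.id_comp]
      obtain ⟨z, -, hz⟩ := exists_point_of_isPullback_yon' sq x v e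
      exact ⟨z, hz⟩
  rw [hrange]
  exact (Points.schemeHomeo V).isCompact_preimage.2 hc

/-- the property holds for quasi-compact open subschemes of affine schemes étale over `X` -/
theorem p6' (B P : EtSpOver X → Prop)
    (h2 : ∀ (W U : EtSpOver X) (j : U ⟶ W), B W → RepWith @IsOpenImmersion j.hom.left.hom →
      IsQuasiCompactSp U.obj.left.obj → B U)
    (h3 : ∀ (V : EtSpOver X) (T : Over S), IsAffine T.left →
      Nonempty ((yon S).obj T ≅ V.obj.left.obj) → B V ∧ P V)
    (h4 : ∀ (W U V UV : EtSpOver X) (j : U ⟶ W) (f : V ⟶ W) (p : UV ⟶ U) (q : UV ⟶ V),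
      B W → IsQuasiCompactSp U.obj.left.obj →
      (∃ T : Over S, IsAffine T.left ∧ Nonempty ((yon S).obj T ≅ V.obj.left.obj)) →
      IsElemDistSq j.hom.left.hom f.hom.left.hom →
      IsPullback p.hom.left.hom q.hom.left.hom j.hom.left.hom f.hom.left.hom →
      P U → P V → P UV → P W)
    (V : Over S) (hV : IsAffine V.left) (g : (yon S).obj V ⟶ X.obj) (hg : RepWith @Etale g)
    (Q : Over S) (σ : Q ⟶ V) (hσ : IsOpenImmersion σ.left) (hQ : CompactSpace ↥Q.left) :
    P (mkY Q ((yon S).map σ ≫ g) (etale_comp_open σ hg)) := by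
  have hc : IsCompact (Set.range σ.left) := isCompact_range σ.left.continuous
  have ho : IsOpen (Set.range σ.left) := σ.left.isOpenEmbedding.isOpen_range
  obtain ⟨s, hs, e⟩ :=
    (isCompact_and_isOpen_iff_finite_and_eq_biUnion_affineOpens (X := V.left)).1 ⟨hc, ho⟩
  refine p6 B P h2 h3 h4 hs.toFinset.card V hV g hg hs.toFinset le_rfl Q σ hσ ?_
  rw [e]
  simp

end Groth.Agent.Lib.Helper24.IndEt
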