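import Groth.Agent.Lib.Helper24.IndPt
import Groth.Agent.Lib.Helper14.FpqcBase4
import Groth.Agent.Lib.Helper14.AlgSpYonSigma
import Groth.Agent.Lib.Helper14.AlgSpPoints2
set_option autoImplicit false
set_option linter.unusedSectionVars false
set_option linter.unusedVariables false
universe u
open CategoryTheory CategoryTheory.Limits AlgebraicGeometry Opposite

/-! The base change of an étale chart to a closed subspace over whose points the chart has exactly
one rational point is an isomorphism. -/

namespace Groth.Agent.Lib.Helper24.IndIso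
open AlgSp Groth.Agent.Lib.Helper14.AS Groth.Agent.Lib.Helper24.Filt1 Groth.Agent.Lib.Helper24.ZarGlue
open Groth.Agent.Lib.Helper24.IndPt

variable {S : Scheme.{u}}

set_option backward.isDefEq.respectTransparency.types false in
theorem isIso_of_ptIso {Y Z Pb : Sp S} (hY : IsAlgSpace Y) (hZ : IsAlgSpace Z) {V : Over S}
    (f : (yon S).obj V ⟶ Y) (hΔo : RepWith @IsOpenImmersion (pullback.diagonal f))
    (hΔc : RepWith @IsClosedImmersion (pullback.diagonal f)) (hfe : RepWith @Etale f)
    (i : Z ⟶ Y) (p₁ : Pb ⟶ Z) (p₂ : Pb ⟶ (yon S).obj V) (sq : IsPullback p₁ p₂ i f)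
    (hpt : ∀ z : Points Z, PtIso f (Points.map i z)) : IsIso p₁ := by
  have hPb : IsAlgSpace Pb :=
    isAlgSpace_of_isPullback (repDiag_of_isAlgSpace hY) hZ (IsAlgSpace.yon_obj V) sq
  -- mono
  have hmono : Mono p₁ := by
    refine mono_of_yon_test p₁ fun T a b h => ?_
    obtain ⟨ua, hua⟩ := (yon S).map_surjective (a ≫ p₂)
    obtain ⟨ub, hub⟩ := (yon S).map_surjective (b ≫ p₂)
    have hab : (yon S).map ua ≫ f = (yon S).map ub ≫ f := by
      rw [hua, hub, Category.assoc, Category.assoc, ← sq.w, ← Category.assoc, h, Category.assoc]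
    obtain ⟨E, -, hE, hEι⟩ := exists_eqLocus f hΔo hΔc ua ub hab
    have hall : ∀ t : T.left, t ∈ E := by
      intro t
      rw [hE]
      have hx : Points.ofPt ((yon S).map ua ≫ f) t = Points.map i (Points.ofPt (a ≫ p₁) t) := by
        rw [Points.map_ofPt, hua, Category.assoc, Category.assoc, sq.w]
      exact (hpt _).2 T t ua ub hab hx
    have hsurj : Function.Surjective E.ι := by
      intro t
      exact ⟨⟨t, hall t⟩, rfl⟩
    have hiso : IsIso E.ι :=
      (isIso_iff_isOpenImmersion_and_surjective E.ι).2 ⟨inferInstance, ⟨hsurj⟩⟩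
    have hu : ua = ub := by
      ext1
      rw [← cancel_epi E.ι]
      exact hEι
    apply sq.hom_ext h
    rw [← hua, ← hub, hu]
  -- epi
  have hpe : IsEtaleMor p₁ :=
    isEtaleMor_of_isPullback (IsAlgSpace.yon_obj V) hY hZ sq.flip (isEtaleMor_of_repWith_etale hfe)
  have hsurj : IsSurjectiveMor p₁ := by
    intro z
    obtain ⟨v, hv⟩ := (hpt z).1
    have e : Points.map i z = Points.map f (Points.ofScheme V v) := by
      rw [← hv, Points.ofPt_eq_map_ofScheme]
    obtain ⟨w, hw, -⟩ := points_exists_of_isPullback sq z _ e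
    exact ⟨w, hw⟩
  obtain ⟨A, a, hae, has⟩ := hPb.atlas
  have hcomp_e : RepWith @Etale (a ≫ p₁) := hpe a hae
  have hcomp_s : RepWith @Surjective (a ≫ p₁) := by
    refine repWith_surjective_of_isSurjectiveMor hcomp_e.rep ?_
    intro z
    obtain ⟨w, rfl⟩ := hsurj z
    obtain ⟨α, rfl⟩ := (ofPt_surjective_of_repWith has) w
    exact ⟨Points.ofScheme A α, by rw [← Points.ofPt_eq_map_ofScheme, Points.map_ofPt]⟩
  have hepi : Epi (a ≫ p₁) := epi_of_etale_surjective _ hcomp_e hcomp_s
  have : Epi p₁ := epi_of_epi a p₁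
  exact isIso_of_mono_of_epi p₁

end Groth.Agent.Lib.Helper24.IndIso
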