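import Groth.Agent.Lib.Helper24.OmSep2
import Groth.Agent.Lib.Helper14.RedInd2
set_option autoImplicit false
set_option linter.unusedSectionVars false
set_option linter.unusedVariables false
universe u
open CategoryTheory CategoryTheory.Limits AlgebraicGeometry Opposite

/-! Points over which an étale chart has exactly one rational point in the fibre. -/

namespace Groth.Agent.Lib.Helper24.IndPt
open AlgSp Groth.Agent.Lib.Helper14.AS Groth.Agent.Lib.Helper24.Filt1 Groth.Agent.Lib.Helper24.ZarGlue

variable {S : Scheme.{u}}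

/-- uniqueness of lifts at a point -/
def UL {Y : Sp S} {V : Over S} (f : (yon S).obj V ⟶ Y) (x : Points Y) : Prop :=
  ∀ (T : Over S) (t : T.left) (u₁ u₂ : T ⟶ V), (yon S).map u₁ ≫ f = (yon S).map u₂ ≫ f →
    Points.ofPt ((yon S).map u₁ ≫ f) t = x → EqAt u₁ u₂ t

/-- `x` has exactly one point in the fibre of `f`, with trivial residue field extension -/
def PtIso {Y : Sp S} {V : Over S} (f : (yon S).obj V ⟶ Y) (x : Points Y) : Prop :=
  x ∈ Set.range (Points.ofPt f) ∧ UL f x

theorem UL.comp_mono {Y : Sp S} {V V' : Over S} {f : (yon S).obj V ⟶ Y} {x : Points Y}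
    (h : UL f x) (incl : V' ⟶ V) [Mono incl.left] : UL ((yon S).map incl ≫ f) x := by
  intro T t u₁ u₂ he hx
  have h1 : (yon S).map (u₁ ≫ incl) ≫ f = (yon S).map (u₂ ≫ incl) ≫ f := by
    rw [Functor.map_comp, Functor.map_comp, Category.assoc, Category.assoc, he]
  have h2 : Points.ofPt ((yon S).map (u₁ ≫ incl) ≫ f) t = x := by
    rw [Functor.map_comp, Category.assoc]; exact hx
  have h3 := h T t (u₁ ≫ incl) (u₂ ≫ incl) h1 h2
  have h' : T.left.fromSpecResidueField t ≫ u₁.left ≫ incl.left =
      T.left.fromSpecResidueField t ≫ u₂.left ≫ incl.left := h3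
  rw [← Category.assoc, ← Category.assoc, cancel_mono] at h'
  exact h'

theorem PtIso.comp_mono {Y : Sp S} {V V' : Over S} {f : (yon S).obj V ⟶ Y} {x : Points Y}
    (h : PtIso f x) (incl : V' ⟶ V) [Mono incl.left]
    (hx : x ∈ Set.range (Points.ofPt ((yon S).map incl ≫ f))) :
    PtIso ((yon S).map incl ≫ f) x :=
  ⟨hx, h.2.comp_mono incl⟩

theorem UL.of_comp_mono {Y Y' : Sp S} {V : Over S} (f : (yon S).obj V ⟶ Y) (j : Y ⟶ Y') [Mono j]
    {x : Points Y} (h : UL f x) (hinj : Function.Injective (Points.map j)) :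
    UL (f ≫ j) (Points.map j x) := by
  intro T t u₁ u₂ he hx
  have he' : (yon S).map u₁ ≫ f = (yon S).map u₂ ≫ f := by
    rw [← cancel_mono j, Category.assoc, Category.assoc, he]
  refine h T t u₁ u₂ he' (hinj ?_)
  rw [Points.map_ofPt, Category.assoc]
  exact hx

set_option backward.isDefEq.respectTransparency.types false in
theorem isReducedSp_yon_pt (T : Over S) (t : T.left) : IsReducedSp ((yon S).obj (ptOver T t)) :=
  ⟨ptOver T t, 𝟙 _, repWith_id _ _, repWith_id _ _,
    inferInstanceAs (IsReduced (Spec (T.left.residueField t)))⟩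

/-- a field point landing in a closed set factors through any closed subspace containing it -/
theorem exists_factor_pt_of_closed {Y Z : Sp S} (hY : IsAlgSpace Y) (i : Z ⟶ Y)
    (hi : RepWith @IsClosedImmersion i) (C : Set (Points Y)) (hC : IsClosed C)
    (hCi : C ⊆ Set.range (Points.map i)) {T : Over S} (t : T.left) (b : (yon S).obj T ⟶ Y)
    (hx : Points.ofPt b t ∈ C) :
    ∃ l : (yon S).obj (ptOver T t) ⟶ Z, l ≫ i = (yon S).map (ptHom T t) ≫ b := by
  have hr : Set.range (Points.map ((yon S).map (ptHom T t) ≫ b)) ⊆ C := by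
    rintro _ ⟨z, rfl⟩
    obtain ⟨s, rfl⟩ := (Points.schemeHomeo (ptOver T t)).surjective z
    change Points.map _ (Points.ofPt (𝟙 _) s) ∈ C
    rw [Points.map_ofPt, Category.id_comp, ofPt_yon_map_comp]
    have : (ptHom T t).left s = t := Scheme.fromSpecResidueField_apply _ _
    rw [this]
    exact hx
  obtain ⟨f', hf'⟩ := factors_redFam_of_reduced (isReducedSp_yon_pt T t) _ C hC hr
  obtain ⟨k, hk⟩ := redFam_le_of_closed hY i hi C hC hCi
  exact ⟨f' ≫ k, by rw [Category.assoc, hk, hf']⟩

/-- if the base change of `f` to a closed subspace is an isomorphism, lifts are unique over it -/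
theorem ul_of_isIso_fst {Y Z : Sp S} (hY : IsAlgSpace Y) (i : Z ⟶ Y)
    (hi : RepWith @IsClosedImmersion i) (C : Set (Points Y)) (hC : IsClosed C)
    (hCi : C ⊆ Set.range (Points.map i)) {V : Over S} (f : (yon S).obj V ⟶ Y)
    (hiso : IsIso (pullback.fst i f)) (x : Points Y) (hx : x ∈ C) : UL f x := by
  intro T t u₁ u₂ he hxt
  obtain ⟨l, hl⟩ := exists_factor_pt_of_closed hY i hi C hC hCi t ((yon S).map u₁ ≫ f)
    (by rw [hxt]; exact hx)
  have c1 : l ≫ i = (yon S).map (ptHom T t ≫ u₁) ≫ f := by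
    rw [hl, Functor.map_comp, Category.assoc]
  have c2 : l ≫ i = (yon S).map (ptHom T t ≫ u₂) ≫ f := by
    rw [hl, Functor.map_comp, Category.assoc, he]
  have e : pullback.lift l _ c1 = pullback.lift l _ c2 := by
    rw [← cancel_mono (pullback.fst i f), pullback.lift_fst, pullback.lift_fst]
  have e2 := congrArg (· ≫ pullback.snd i f) e
  simp only [pullback.lift_snd] at e2
  rw [eqAt_iff_ptHom]
  exact (yon S).map_injective e2

end Groth.Agent.Lib.Helper24.IndPt
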