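import Groth.Agent.Lib.Helper24.IndChain
import Groth.Agent.Lib.Helper14.AlgSpQC
set_option autoImplicit false
set_option linter.unusedSectionVars false
set_option linter.unusedVariables false
universe u
open CategoryTheory CategoryTheory.Limits AlgebraicGeometry Opposite

/-! Open subspaces realising open subsets, and elementary distinguished squares between them. -/

namespace Groth.Agent.Lib.Helper24.IndReal
open AlgSp Groth.Agent.Lib.Helper14.AS Groth.Agent.Lib.Helper24.Filt1 Groth.Agent.Lib.Helper24.ZarGlue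
open Groth.Agent.Lib.Helper24.IndPt Groth.Agent.Lib.Helper24.IndChain Groth.Agent.Lib.Helper24.IndSq
open Groth.Agent.Lib.Helper24.OpenSubSp

variable {S : Scheme.{u}}

/-- an open subspace with quasi-compact image is quasi-compact -/
theorem isQuasiCompactSp_of_isCompact_range {W Y : Sp S} (hW : IsAlgSpace W) (hY : IsAlgSpace Y)
    (j : W ⟶ Y) (hj : RepWith @IsOpenImmersion j) (hc : IsCompact (Set.range (Points.map j))) :
    IsQuasiCompactSp W := by
  rw [isQuasiCompactSp_iff_compactSpace hW]
  have hom : IsOpenMap (Points.map j) :=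
    isOpenMap_points_of_repWith_universallyOpen hY
      (repWith_mono Groth.Agent.Lib.Helper24.Filt8.openImm_le_univOpen hj)
  have hemb : Topology.IsOpenEmbedding (Points.map j) :=
    Topology.IsOpenEmbedding.of_continuous_injective_isOpenMap (Points.continuous_map j)
      (injective_of_openImmersion hj) hom
  refine ⟨?_⟩
  rw [hemb.isInducing.isCompact_iff, Set.image_univ]
  exact hc

theorem PtIso.of_comp {Y Y' : Sp S} {V : Over S} (f : (yon S).obj V ⟶ Y) (j : Y ⟶ Y')
    (hinj : Function.Injective (Points.map j)) {x : Points Y}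
    (h : PtIso (f ≫ j) (Points.map j x)) : PtIso f x := by
  obtain ⟨⟨v, hv⟩, hul⟩ := h
  refine ⟨⟨v, hinj ?_⟩, ?_⟩
  · rw [Points.map_ofPt]; exact hv
  · intro T t u₁ u₂ he hx
    refine hul T t u₁ u₂ ?_ ?_
    · rw [← Category.assoc, he, Category.assoc]
    · rw [← Category.assoc, ← Points.map_ofPt, hx]

set_option backward.isDefEq.respectTransparency.types false in
/-- the square lemma for two realisations -/
theorem isElemDistSq_of_chain_step {Y W₁ W₂ : Sp S} (hY : IsAlgSpace Y) (hW₁ : IsAlgSpace W₁)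
    (hW₂ : IsAlgSpace W₂) (j₁ : W₁ ⟶ Y) (j₂ : W₂ ⟶ Y) (hj₁ : RepWith @IsOpenImmersion j₁)
    (hj₂ : RepWith @IsOpenImmersion j₂) (k : W₁ ⟶ W₂) (hk : k ≫ j₂ = j₁)
    {V : Over S} [IsAffine V.left] (g : (yon S).obj V ⟶ Y) (hg : RepWith @Etale g)
    (f : (yon S).obj V ⟶ W₂) (hf : f ≫ j₂ = g)
    (hcov : Set.range (Points.map j₂) ⊆ Set.range (Points.map j₁) ∪ Set.range (Points.ofPt g))
    (hpt : ∀ x ∈ Set.range (Points.ofPt g), x ∉ Set.range (Points.map j₁) → PtIso g x) :
    IsElemDistSq k f := by
  have hm₂ : Mono j₂ := mono_of_openImmersion hj₂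
  have hinj₂ := injective_of_openImmersion hj₂
  have hko : RepWith @IsOpenImmersion k := by
    have sq := isPullback_of_factor_mono k j₂
    rw [hk] at sq
    exact repWith_of_isPullback _ sq hj₁
  have hfe : RepWith @Etale f := by
    have sq := isPullback_of_factor_mono f j₂
    rw [hf] at sq
    exact repWith_of_isPullback _ sq hg
  refine isElemDistSq_of_ptIso hW₁ hW₂ k hko f hfe fun x hx => ?_
  have hx₁ : Points.map j₂ x ∉ Set.range (Points.map j₁) := by
    rintro ⟨z, hz⟩
    apply hx
    refine ⟨z, hinj₂ ?_⟩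
    rw [← Points.map_comp, hk, hz]
  have hx₂ : Points.map j₂ x ∈ Set.range (Points.ofPt g) := by
    rcases hcov ⟨x, rfl⟩ with h | h
    · exact absurd h hx₁
    · exact h
  have := hpt _ hx₂ hx₁
  rw [← hf] at this
  exact PtIso.of_comp f j₂ hinj₂ this

end Groth.Agent.Lib.Helper24.IndReal
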