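import Groth.Agent.Lib.Helper24.Filt8
import Groth.Agent.Lib.Helper24.AllTup2
import Groth.Agent.Lib.Helper24.SchLocus
import Groth.Agent.Lib.Helper14.FpqcBase4
set_option autoImplicit false
set_option linter.unusedSectionVars false
set_option linter.unusedVariables false
universe u
open CategoryTheory CategoryTheory.Limits AlgebraicGeometry Opposite

/-! Open subschemes of an étale chart mapping isomorphically onto open subspaces, and gluing
a sheaf covered by such. -/

namespace Groth.Agent.Lib.Helper24.IntCover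
open AlgSp Groth.Agent.Lib.Helper14.AS Groth.Agent.Lib.Helper24.Filt1 Groth.Agent.Lib.Helper24.ZarGlue
open Groth.Agent.Lib.Helper24.Filt2 Groth.Agent.Lib.Helper24.Filt8 Groth.Agent.Lib.Helper24.SchLocus

variable {S : Scheme.{u}}

set_option backward.isDefEq.respectTransparency.types false in
/-- an open subscheme of an étale chart on which the two projections of the fibre square agree
pointwise is an open subspace -/
theorem repWith_isOpenImmersion_resOpen_of_eqAt {N : Sp S} (hN : IsAlgSpace N) {E : Over S}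
    (κ : (yon S).obj E ⟶ N) (hκe : RepWith @Etale κ)
    (hΔo : RepWith @IsOpenImmersion (pullback.diagonal κ))
    (hΔc : RepWith @IsClosedImmersion (pullback.diagonal κ))
    {E₂ : Over S} (p₁ p₂ : E₂ ⟶ E) (sq₂ : IsPullback ((yon S).map p₁) ((yon S).map p₂) κ κ)
    (Sg : E.left.Opens)
    (hSg : ∀ c : E₂.left, p₁.left c ∈ Sg → p₂.left c ∈ Sg → EqAt p₁ p₂ c) :
    RepWith @IsOpenImmersion ((yon S).map (resOpenι E Sg) ≫ κ) := by
  have hm : Mono ((yon S).map (resOpenι E Sg) ≫ κ) := by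
    refine mono_of_yon_test _ fun T p p' hpp' => ?_
    obtain ⟨g₁, rfl⟩ := (yon S).map_surjective p
    obtain ⟨g₂, rfl⟩ := (yon S).map_surjective p'
    have hG : (yon S).map (g₁ ≫ resOpenι E Sg) ≫ κ = (yon S).map (g₂ ≫ resOpenι E Sg) ≫ κ := by
      rw [Functor.map_comp, Functor.map_comp, Category.assoc, Category.assoc]
      exact hpp'
    obtain ⟨L, -, hLmem, hLι⟩ := exists_eqLocus κ hΔo hΔc _ _ hG
    obtain ⟨l, hl⟩ := (yon S).map_surjective (sq₂.lift _ _ hG)
    have hl1 : l ≫ p₁ = g₁ ≫ resOpenι E Sg := by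
      apply (yon S).map_injective
      rw [Functor.map_comp, hl, sq₂.lift_fst]
    have hl2 : l ≫ p₂ = g₂ ≫ resOpenι E Sg := by
      apply (yon S).map_injective
      rw [Functor.map_comp, hl, sq₂.lift_snd]
    have hall : ∀ t : T.left, t ∈ L := by
      intro t
      rw [hLmem, ← hl1, ← hl2, eqAt_comp_iff]
      apply hSg
      · have : (l ≫ p₁).left t ∈ Sg := by
          rw [hl1]
          exact (g₁.left t).2
        exact this
      · have : (l ≫ p₂).left t ∈ Sg := by
          rw [hl2]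
          exact (g₂.left t).2
        exact this
    have hGG : g₁ ≫ resOpenι E Sg = g₂ ≫ resOpenι E Sg :=
      over_hom_ext_of_locally _ _ fun t => ⟨L, hall t, hLι⟩
    have hmm : Mono (resOpenι E Sg).left := inferInstanceAs (Mono Sg.ι)
    have : Mono (resOpenι E Sg) := Over.mono_of_mono_left _
    rw [(cancel_mono (resOpenι E Sg)).1 hGG]
  have het : RepWith @Etale ((yon S).map (resOpenι E Sg) ≫ κ) :=
    repWith_comp _ ((repWith_yon_map_iff _ _).2 (inferInstanceAs (Etale Sg.ι))) hκe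
  exact repWith_isOpenImmersion_of_mono_etale (IsAlgSpace.yon_obj _) hN _
    (isEtaleMor_of_repWith_etale het)

set_option backward.isDefEq.respectTransparency.types false in
/-- Zariski gluing along a jointly surjective family of open subspaces that are schemes -/
theorem exists_iso_yon_of_jointly_surjective {N : Sp S} {ι : Type u} {Xi : ι → Over S}
    {f : ∀ i, (yon S).obj (Xi i) ⟶ N} (hf : ∀ i, RepWith @IsOpenImmersion (f i))
    (hsurj : ∀ x : Points N, ∃ i, x ∈ Set.range (Points.ofPt (f i))) :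
    ∃ (Y : Over S) (e : (yon S).obj Y ≅ N) (j : ∀ i, Xi i ⟶ Y), (∀ i, IsOpenImmersion (j i).left) ∧
      (∀ i, (yon S).map (j i) ≫ e.hom = f i) ∧ ∀ y : Y.left, ∃ i, y ∈ Set.range (j i).left := by
  refine exists_iso_yon_of_open_cover hf ?_
  intro T t x
  obtain ⟨i, hi⟩ := hsurj (Points.ofPt t x)
  have hRo : IsOpen (Set.range (Points.ofPt (f i))) := isOpen_range_ofPt (f i) (hf i)
  let O : T.left.Opens := ⟨Points.ofPt t ⁻¹' Set.range (Points.ofPt (f i)),
    hRo.preimage (Points.continuous_ofPt _)⟩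
  have hrange : Set.range (Points.map ((yon S).map (resOpenι T O) ≫ t)) ⊆
      Set.range (Points.map (f i)) := by
    rw [Groth.Agent.Lib.Helper8.AlgSpPres.range_points_map_yon,
      Groth.Agent.Lib.Helper8.AlgSpPres.range_points_map_yon]
    rintro _ ⟨o, rfl⟩
    rw [ofPt_yon_map_comp]
    exact o.2
  obtain ⟨g, hg⟩ := Groth.Agent.Lib.Helper8.AlgSpOpen.exists_factor_of_range_subset (f i) (hf i)
    _ hrange
  exact ⟨i, O, hi, (yon S).preimage g, by rw [Functor.map_preimage, hg]⟩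

set_option backward.isDefEq.respectTransparency.types false in
/-- the density argument: over an open of the chart `E` whose preimage in `E°` is a
monomorphism over `B`, the two projections of `E ×_N E` agree pointwise -/
theorem eqAt_of_denseRange {N : Sp S} {E E' B E₂ : Over S} (κ : (yon S).obj E ⟶ N)
    (f' : (yon S).obj B ⟶ N) (fE : E' ⟶ E) (pr : E' ⟶ B)
    (sqS : IsPullback ((yon S).map fE) ((yon S).map pr) κ f')
    (hΔo : RepWith @IsOpenImmersion (pullback.diagonal κ))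
    (hΔc : RepWith @IsClosedImmersion (pullback.diagonal κ))
    (p₁ p₂ : E₂ ⟶ E) (sq₂ : IsPullback ((yon S).map p₁) ((yon S).map p₂) κ κ)
    (hp₁ : IsOpenMap p₁.left) (hd : DenseRange fE.left) (Sg : E.left.Opens)
    (hmono : ∀ (T : Over S) (g₁ g₂ : T ⟶ E'), (∀ t, fE.left (g₁.left t) ∈ Sg) →
      (∀ t, fE.left (g₂.left t) ∈ Sg) → g₁ ≫ pr = g₂ ≫ pr → g₁ = g₂) :
    ∀ c : E₂.left, p₁.left c ∈ Sg → p₂.left c ∈ Sg → EqAt p₁ p₂ c := by
  obtain ⟨L₂, hL₂c, hL₂mem, -⟩ := exists_eqLocus κ hΔo hΔc p₁ p₂ sq₂.w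
  intro c hc1 hc2
  by_contra hne
  let C : Set E₂.left := (p₁.left ⁻¹' (Sg : Set E.left) ∩ p₂.left ⁻¹' (Sg : Set E.left)) ∩
    (L₂ : Set E₂.left)ᶜ
  have hCo : IsOpen C :=
    ((Sg.2.preimage p₁.left.continuous).inter (Sg.2.preimage p₂.left.continuous)).inter
      hL₂c.isOpen_compl
  have hcC : c ∈ C := ⟨⟨hc1, hc2⟩, fun h => hne ((hL₂mem c).1 h)⟩
  obtain ⟨e', c', hc'C, hc'e⟩ := hd.exists_mem_open (hp₁ _ hCo) ⟨_, c, hcC, rfl⟩
  obtain ⟨P, r₁, r₂, z, hr, hz1, hz2⟩ :=
    AllTup.exists_over_pullback_point p₁ fE c' e' hc'e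
  have w : (yon S).map (r₁ ≫ p₂) ≫ κ = (yon S).map (r₂ ≫ pr) ≫ f' := by
    rw [Functor.map_comp, Category.assoc, ← sq₂.w, ← Category.assoc, ← Functor.map_comp, hr,
      Functor.map_comp, Category.assoc, sqS.w, Functor.map_comp, Category.assoc]
  obtain ⟨q₂, hq₂⟩ := (yon S).map_surjective (sqS.lift _ _ w)
  have hq₂1 : q₂ ≫ fE = r₁ ≫ p₂ := by
    apply (yon S).map_injective
    rw [Functor.map_comp, hq₂, sqS.lift_fst]
  have hq₂2 : q₂ ≫ pr = r₂ ≫ pr := by
    apply (yon S).map_injective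
    rw [Functor.map_comp, hq₂, sqS.lift_snd]
  let D' : P.left.Opens := (r₂.left ⁻¹ᵁ (fE.left ⁻¹ᵁ Sg)) ⊓ (q₂.left ⁻¹ᵁ (fE.left ⁻¹ᵁ Sg))
  have hzD' : z ∈ D' := by
    constructor
    · change (r₂ ≫ fE).left z ∈ Sg
      rw [← hr]
      change p₁.left (r₁.left z) ∈ Sg
      rw [hz1]
      exact hc'C.1.1
    · change (q₂ ≫ fE).left z ∈ Sg
      rw [hq₂1]
      change p₂.left (r₁.left z) ∈ Sg
      rw [hz1]
      exact hc'C.1.2
  have heq : resOpenι P D' ≫ r₂ = resOpenι P D' ≫ q₂ := by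
    refine hmono _ _ _ (fun t => ?_) (fun t => ?_) ?_
    · exact t.2.1
    · exact t.2.2
    · rw [Category.assoc, Category.assoc, hq₂2]
  have heq2 : (resOpenι P D' ≫ r₁) ≫ p₁ = (resOpenι P D' ≫ r₁) ≫ p₂ := by
    rw [Category.assoc, Category.assoc, hr, ← hq₂1, ← Category.assoc, heq, Category.assoc]
  have hE : EqAt ((resOpenι P D' ≫ r₁) ≫ p₁) ((resOpenι P D' ≫ r₁) ≫ p₂)
      (⟨z, hzD'⟩ : (resOpen P D').left) := by
    rw [heq2]
    exact EqAt.refl _ _
  rw [eqAt_comp_iff] at hE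
  have hzz : (resOpenι P D' ≫ r₁).left (⟨z, hzD'⟩ : (resOpen P D').left) = c' := hz1
  rw [hzz] at hE
  exact hc'C.2 ((hL₂mem c').2 hE)

end Groth.Agent.Lib.Helper24.IntCover
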