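import Groth.Agent.Lib.Helper14.Norm9
set_option autoImplicit false
set_option linter.unusedSectionVars false
set_option linter.unusedVariables false
universe u
open CategoryTheory CategoryTheory.Limits AlgebraicGeometry Opposite

/-! Open and closed subsets of the source of a quasi-compact quasi-separated morphism extend to
open and closed subsets of the relative normalization. -/

namespace Groth.Agent.Lib.Helper24.NormClopen
open AlgSp Groth.Agent.Lib.Helper14.AS

theorem exists_clopen_normalization {P Q : Scheme.{u}} (f : P ⟶ Q) [QuasiCompact f]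
    [QuasiSeparated f] (D : P.Opens) (hD : IsClosed (D : Set P)) :
    ∃ Sg : f.normalization.Opens, IsClosed (Sg : Set f.normalization) ∧
      f.toNormalization ⁻¹ᵁ Sg = D := by
  let Dc : P.Opens := ⟨(D : Set P)ᶜ, hD.isOpen_compl⟩
  have hcompl : IsCompl D.ι.opensRange Dc.ι.opensRange := by
    rw [Scheme.Opens.opensRange_ι, Scheme.Opens.opensRange_ι]
    constructor
    · rw [disjoint_iff]
      ext x
      simp [Dc]
    · rw [codisjoint_iff]
      ext x
      simp [Dc]
  have h1 : IsClosedImmersion D.ι := IsClosedImmersion.of_isPreimmersion _ (by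
    rw [Scheme.Opens.range_ι]; exact hD)
  have h2 : IsClosedImmersion Dc.ι := IsClosedImmersion.of_isPreimmersion _ (by
    rw [Scheme.Opens.range_ι]; exact D.2.isClosed_compl)
  have e := (nonempty_isColimit_binaryCofanMk_of_isCompl D.ι Dc.ι hcompl).some
  let iso := f.normalizationCoprodIso e
  let j₁ : (D.ι ≫ f).normalization ⟶ f.normalization := coprod.inl ≫ iso.hom
  let j₂ : (Dc.ι ≫ f).normalization ⟶ f.normalization := coprod.inr ≫ iso.hom
  have hdisj : Disjoint (Set.range j₁) (Set.range j₂) := by
    rw [Set.disjoint_iff_forall_ne]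
    rintro _ ⟨x, rfl⟩ _ ⟨y, rfl⟩ hxy
    have hinj : Function.Injective iso.hom := (iso.hom.homeomorph).injective
    have : (coprod.inl : (D.ι ≫ f).normalization ⟶ _ ⨿ (Dc.ι ≫ f).normalization) x =
        (coprod.inr : (Dc.ι ≫ f).normalization ⟶ (D.ι ≫ f).normalization ⨿ _) y := hinj hxy
    have hd := (isCompl_range_inl_inr (D.ι ≫ f).normalization (Dc.ι ≫ f).normalization).1
    exact Set.disjoint_iff_forall_ne.1 hd ⟨x, rfl⟩ ⟨y, rfl⟩ this
  have hcov : Set.range j₁ ∪ Set.range j₂ = Set.univ := by
    refine Set.eq_univ_of_forall fun z => ?_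
    obtain ⟨w, rfl⟩ := (iso.hom.homeomorph).surjective z
    have hc := (isCompl_range_inl_inr (D.ι ≫ f).normalization (Dc.ι ≫ f).normalization).2
    have : w ∈ Set.range (coprod.inl : (D.ι ≫ f).normalization ⟶ _ ⨿ (Dc.ι ≫ f).normalization) ∪
        Set.range (coprod.inr : (Dc.ι ≫ f).normalization ⟶ (D.ι ≫ f).normalization ⨿ _) := by
      have := codisjoint_iff.1 hc
      change _ ∪ _ = Set.univ at this
      rw [this]; trivial
    rcases this with ⟨x, rfl⟩ | ⟨y, rfl⟩
    · exact Or.inl ⟨x, rfl⟩
    · exact Or.inr ⟨y, rfl⟩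
  have hw1 : D.ι ≫ f.toNormalization = (D.ι ≫ f).toNormalization ≫ j₁ :=
    (f.toNormalization_inl_normalizationCoprodIso_hom e).symm
  have hw2 : Dc.ι ≫ f.toNormalization = (Dc.ι ≫ f).toNormalization ≫ j₂ :=
    (f.toNormalization_inr_normalizationCoprodIso_hom e).symm
  refine ⟨j₁.opensRange, ?_, ?_⟩
  · have : (j₁.opensRange : Set f.normalization) = (Set.range j₂)ᶜ := by
      change Set.range j₁ = _
      ext z
      constructor
      · intro hz hz'
        exact Set.disjoint_iff.1 hdisj ⟨hz, hz'⟩
      · intro hz
        have : z ∈ Set.range j₁ ∪ Set.range j₂ := by rw [hcov]; trivial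
        rcases this with h | h
        · exact h
        · exact absurd h hz
    rw [this]
    exact j₂.isOpenEmbedding.isOpen_range.isClosed_compl
  · ext p
    change f.toNormalization p ∈ Set.range j₁ ↔ p ∈ D
    constructor
    · intro hp
      by_contra hpD
      have : f.toNormalization p ∈ Set.range j₂ := by
        have := congrArg (fun k : (Dc : Scheme) ⟶ f.normalization => k (⟨p, hpD⟩ : Dc)) hw2
        exact ⟨_, this.symm⟩
      exact Set.disjoint_iff.1 hdisj ⟨hp, this⟩
    · intro hp
      have := congrArg (fun k : (D : Scheme) ⟶ f.normalization => k (⟨p, hp⟩ : D)) hw1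
      exact ⟨_, this.symm⟩

variable {S : Scheme.{u}}

set_option backward.isDefEq.respectTransparency.types false in
/-- for a sheaf-theoretic relative normalization of schemes, the canonical morphism is dominant
and open-closed subsets of the source extend -/
theorem exists_clopen_of_isRelNormalization {T XV N : Over S} (fV : XV ⟶ T)
    [QuasiCompact fV.left] [QuasiSeparated fV.left] (i : N ⟶ T) (η₀ : XV ⟶ N)
    (hn : IsRelNormalization ((yon S).map fV) ((yon S).map i) ((yon S).map η₀)) :
    DenseRange η₀.left ∧ ∀ D : XV.left.Opens, IsClosed (D : Set XV.left) →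
      ∃ Sg : N.left.Opens, IsClosed (Sg : Set N.left) ∧ η₀.left ⁻¹ᵁ Sg = D := by
  let N' : Over S := Over.mk (fV.left.fromNormalization ≫ T.hom)
  let f'' : XV ⟶ N' := Over.homMk fV.left.toNormalization (by
    show fV.left.toNormalization ≫ fV.left.fromNormalization ≫ T.hom = XV.hom
    rw [← Category.assoc, fV.left.toNormalization_fromNormalization, Over.w])
  let ν' : N' ⟶ T := Over.homMk fV.left.fromNormalization rfl
  have hn' := Groth.Agent.S10298.result fV f'' ν' (Iso.refl _) (Category.comp_id _)
    (Category.id_comp _)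
  obtain ⟨e, he1, he2⟩ := isRelNormalization_iso (IsAlgSpace.yon_obj N) (IsAlgSpace.yon_obj N')
    hn hn'
  let e₀ : N ≅ N' := (yon S).preimageIso e
  have h1 : η₀ ≫ e₀.hom = f'' := by
    apply (yon S).map_injective
    rw [Functor.map_comp]
    simp only [e₀, Functor.preimageIso_hom, Functor.map_preimage]
    exact he1
  have h2 : η₀ = f'' ≫ e₀.inv := by rw [← h1, Category.assoc, Iso.hom_inv_id, Category.comp_id]
  have h3 : η₀.left = fV.left.toNormalization ≫ e₀.inv.left := by
    rw [h2]; rfl
  have hiso : IsIso e₀.inv.left := inferInstanceAs (IsIso ((Over.forget S).map e₀.inv))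
  constructor
  · rw [h3]
    have hd : DenseRange fV.left.toNormalization := fV.left.toNormalization.denseRange
    have hs : Function.Surjective e₀.inv.left := (e₀.inv.left.homeomorph).surjective
    have := hs.denseRange.comp hd e₀.inv.left.continuous
    exact this
  · intro D hD
    obtain ⟨Sg, hSg, hpre⟩ := exists_clopen_normalization fV.left D hD
    have hiso' : IsIso e₀.hom.left := inferInstanceAs (IsIso ((Over.forget S).map e₀.hom))
    refine ⟨e₀.hom.left ⁻¹ᵁ Sg, ?_, ?_⟩
    · exact hSg.preimage e₀.hom.left.continuous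
    · have h4 : η₀.left ≫ e₀.hom.left = fV.left.toNormalization := congrArg CommaMorphism.left h1
      rw [← Scheme.Hom.comp_preimage, h4, hpre]

end Groth.Agent.Lib.Helper24.NormClopen
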