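import Groth.Agent.Lib.Helper24.IntCover1
import Groth.Agent.Lib.Helper24.NormClopen
import Groth.Agent.Lib.Helper14.Norm10
import Groth.Agent.Lib.Helper14.AlgSpQCMor
set_option autoImplicit false
set_option linter.unusedSectionVars false
set_option linter.unusedVariables false
universe u
open CategoryTheory CategoryTheory.Limits AlgebraicGeometry Opposite

/-! The relative normalization of an algebraic space in a scheme with a covering family of lifts
along an affine étale chart is a scheme, Zariski locally lifting to the chart. -/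

namespace Groth.Agent.Lib.Helper24.IntCover
open AlgSp Groth.Agent.Lib.Helper14.AS Groth.Agent.Lib.Helper24.Filt1 Groth.Agent.Lib.Helper24.ZarGlue
open Groth.Agent.Lib.Helper24.Filt2 Groth.Agent.Lib.Helper24.Filt8 Groth.Agent.Lib.Helper24.SchLocus
open Groth.Agent.Lib.Helper24.NormClopen

variable {S : Scheme.{u}}

set_option backward.isDefEq.respectTransparency.types false in
set_option maxHeartbeats 1600000 in
theorem exists_scheme_of_covering_lifts {X : Sp S} (hX : IsAlgSpace X) {U : Over S}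
    [IsAffine U.left] (a : (yon S).obj U ⟶ X) (hae : RepWith @Etale a)
    (has : RepWith @Surjective a) {B : Over S} (h : (yon S).obj B ⟶ X)
    (hqc : IsQuasiCompactMor h) (hqs : IsQuasiSeparatedMor h)
    {ι : Type u} [Finite ι] (σ : ι → (B ⟶ U)) (hσ : ∀ i, (yon S).map (σ i) ≫ a = h)
    (hcov : ∀ (T : Over S) (u : T ⟶ U) (g : T ⟶ B), (yon S).map u ≫ a = (yon S).map g ≫ h →
      ∀ t : T.left, ∃ i, EqAt (g ≫ σ i) u t)
    {N : Sp S} (hN : IsAlgSpace N) (ν : N ⟶ X) (f' : (yon S).obj B ⟶ N)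
    (hn : IsRelNormalization h ν f') :
    ∃ (Y : Over S) (e : (yon S).obj Y ≅ N), ∀ y : Y.left, ∃ (W : Y.left.Opens)
      (c : Over.mk (W.ι ≫ Y.hom) ⟶ U), y ∈ W ∧
      (yon S).map c ≫ a =
        (yon S).map (Over.homMk W.ι rfl : Over.mk (W.ι ≫ Y.hom) ⟶ Y) ≫ e.hom ≫ ν := by
  have hUaff : IsAffine U.left := inferInstance
  have hUU : IsAlgSpace (pullback a a) :=
    isAlgSpace_of_isPullback (repDiag_of_isAlgSpace hX) (IsAlgSpace.yon_obj U)
      (IsAlgSpace.yon_obj U) (IsPullback.of_hasPullback a a)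
  have hΔo : RepWith @IsOpenImmersion (pullback.diagonal a) :=
    repWith_isOpenImmersion_of_mono_etale (IsAlgSpace.yon_obj U) hUU _
      (isEtaleMor_of_repWith_etale (repWith_etale_diagonal hae))
  have hΔc : RepWith @IsClosedImmersion (pullback.diagonal a) :=
    repWith_isClosedImmersion_diagonal_of_isAffine
  -- the chart of `N`
  obtain ⟨E, iE, κ, sqN, hEaff, hiEint⟩ := hn.2.1 hUaff a
  have hκe : RepWith @Etale κ := repWith_of_isPullback _ sqN.flip hae
  have hκs : RepWith @Surjective κ := repWith_of_isPullback _ sqN.flip has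
  have hEE : IsAlgSpace (pullback κ κ) :=
    isAlgSpace_of_isPullback (repDiag_of_isAlgSpace hN) (IsAlgSpace.yon_obj E)
      (IsAlgSpace.yon_obj E) (IsPullback.of_hasPullback κ κ)
  have hΔoκ : RepWith @IsOpenImmersion (pullback.diagonal κ) :=
    repWith_isOpenImmersion_of_mono_etale (IsAlgSpace.yon_obj E) hEE _
      (isEtaleMor_of_repWith_etale (repWith_etale_diagonal hκe))
  have hΔcκ : RepWith @IsClosedImmersion (pullback.diagonal κ) :=
    repWith_isClosedImmersion_diagonal_of_isAffine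
  -- the base change of `B`
  have har := hae.rep
  have sqB := har.isPullback' h
  have hcE : ((yon S).map (har.snd h) ≫ f') ≫ ν = (yon S).map (har.fst' h) ≫ a := by
    rw [Category.assoc, hn.1]
    exact sqB.w.symm
  obtain ⟨fE, hfE⟩ := (yon S).map_surjective (sqN.lift _ _ hcE)
  have hfE1 : (yon S).map fE ≫ κ = (yon S).map (har.snd h) ≫ f' := by
    rw [hfE, sqN.lift_fst]
  have hfE2' : (yon S).map fE ≫ (yon S).map iE = (yon S).map (har.fst' h) := by
    rw [hfE, sqN.lift_snd]
  have hfE2 : fE ≫ iE = har.fst' h := by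
    apply (yon S).map_injective
    rw [Functor.map_comp, hfE2']
  have hnE : IsRelNormalization ((yon S).map (har.fst' h)) ((yon S).map iE) ((yon S).map fE) :=
    isRelNormalization_etale_baseChange_sp (IsAlgSpace.yon_obj B) hX hN (IsAlgSpace.yon_obj U)
      (IsAlgSpace.yon_obj _) (IsAlgSpace.yon_obj E) h hqc hqs ν f' hn a
      (isEtaleMor_of_repWith_etale hae) ((yon S).map (har.snd h)) ((yon S).map (har.fst' h))
      sqB.flip κ ((yon S).map iE) sqN ((yon S).map fE) hfE2' hfE1
  have hqcq : QuasiCompact (har.fst' h).left := by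
    rw [HasAffineProperty.iff_of_isAffine (P := @QuasiCompact)]
    refine (isQuasiCompactSp_yon_iff _).1 ?_
    exact hqc (IsAlgSpace.yon_obj U) ((isQuasiCompactSp_yon_iff _).2 inferInstance) a _ _ sqB.flip
  have hqsq : QuasiSeparated (har.fst' h).left :=
    (isQuasiSeparatedMor_yon_map_iff _).1 (isQuasiSeparatedMor_of_isPullback sqB.flip hqs)
  obtain ⟨hdense, hclopen⟩ := exists_clopen_of_isRelNormalization (har.fst' h) iE fE hnE
  -- the pieces
  have hcompat : ∀ i, (yon S).map (har.fst' h) ≫ a = (yon S).map (har.snd h ≫ σ i) ≫ a := by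
    intro i
    rw [Functor.map_comp, Category.assoc, hσ i]
    exact sqB.w
  choose D hDc hDmem hDι using fun i =>
    exists_eqLocus a hΔo hΔc (har.fst' h) (har.snd h ≫ σ i) (hcompat i)
  choose Sg hSgc hSgpre using fun i => hclopen (D i) (hDc i)
  have hcovE' : ∀ t : (har.pullback h).left, ∃ i, t ∈ D i := by
    intro t
    obtain ⟨i, hi⟩ := hcov _ (har.fst' h) (har.snd h) sqB.w t
    exact ⟨i, (hDmem i t).2 hi.symm⟩
  have hcovE : ∀ e : E.left, ∃ i, e ∈ Sg i := by
    intro e
    by_contra hcon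
    rw [not_exists] at hcon
    have hOo : IsOpen (⋂ i, ((Sg i : Set E.left))ᶜ) :=
      isOpen_iInter_of_finite fun i => (hSgc i).isOpen_compl
    have heO : e ∈ ⋂ i, ((Sg i : Set E.left))ᶜ := Set.mem_iInter.2 fun i => hcon i
    obtain ⟨t, ht⟩ := hdense.exists_mem_open hOo ⟨e, heO⟩
    obtain ⟨i, hi⟩ := hcovE' t
    have h1 : t ∈ fE.left ⁻¹ᵁ Sg i := by rw [hSgpre i]; exact hi
    exact Set.mem_iInter.1 ht i h1
  have hmono : ∀ i (T : Over S) (g₁ g₂ : T ⟶ har.pullback h),
      (∀ t, fE.left (g₁.left t) ∈ Sg i) → (∀ t, fE.left (g₂.left t) ∈ Sg i) →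
      g₁ ≫ har.snd h = g₂ ≫ har.snd h → g₁ = g₂ := by
    intro i T g₁ g₂ h1 h2 h12
    have key : ∀ g : T ⟶ har.pullback h, (∀ t, fE.left (g.left t) ∈ Sg i) →
        g ≫ har.fst' h = g ≫ har.snd h ≫ σ i := by
      intro g hg
      have hgD : ∀ t, g.left t ∈ D i := fun t => by
        rw [← hSgpre i]
        exact hg t
      obtain ⟨l, hl⟩ := exists_lift_resOpen g (D i) hgD
      rw [← hl, Category.assoc, Category.assoc]
      congr 1
      ext1
      exact hDι i
    apply har.hom_ext'
    · rw [key g₁ h1, key g₂ h2, ← Category.assoc, h12, Category.assoc]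
    · exact h12
  -- the fibre square of the chart of `N`
  have hκr := hκe.rep
  have sq₂ := (hκr.isPullback' κ).flip
  have hp₁ : Etale (hκr.snd κ).left := hκe.property_snd κ
  have sqS : IsPullback ((yon S).map fE) ((yon S).map (har.snd h)) κ f' := by
    refine IsPullback.of_right ?_ hfE1 sqN.flip
    rw [hfE2', hn.1]
    exact sqB
  have hSgE : ∀ i (c : (hκr.pullback κ).left), (hκr.snd κ).left c ∈ Sg i →
      (hκr.fst' κ).left c ∈ Sg i → EqAt (hκr.snd κ) (hκr.fst' κ) c := fun i =>
    eqAt_of_denseRange κ f' fE (har.snd h) sqS hΔoκ hΔcκ (hκr.snd κ) (hκr.fst' κ) sq₂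
      (hκr.snd κ).left.isOpenMap hdense (Sg i) (hmono i)
  have hoi : ∀ i, RepWith @IsOpenImmersion ((yon S).map (resOpenι E (Sg i)) ≫ κ) := fun i =>
    repWith_isOpenImmersion_resOpen_of_eqAt hN κ hκe hΔoκ hΔcκ (hκr.snd κ) (hκr.fst' κ) sq₂
      (Sg i) (hSgE i)
  -- gluing
  obtain ⟨Y, e, j, hjo, hje, hjcov⟩ := exists_iso_yon_of_jointly_surjective hoi (by
    intro x
    obtain ⟨e₀, rfl⟩ := ofPt_surjective_of_repWith hκs x
    obtain ⟨i, hi⟩ := hcovE e₀
    exact ⟨i, ⟨e₀, hi⟩, ofPt_yon_map_comp _ _ _⟩)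
  refine ⟨Y, e, fun y => ?_⟩
  obtain ⟨i, hi⟩ := hjcov y
  have := hjo i
  have hr : Set.range ((j i).left.opensRange).ι ⊆ Set.range (j i).left := by
    rw [Scheme.Opens.range_ι]
    rfl
  let m : resOpen Y (j i).left.opensRange ⟶ resOpen E (Sg i) :=
    Over.homMk (IsOpenImmersion.lift (j i).left ((j i).left.opensRange).ι hr) (by
      change IsOpenImmersion.lift (j i).left ((j i).left.opensRange).ι hr ≫ (resOpen E (Sg i)).hom =
        ((j i).left.opensRange).ι ≫ Y.hom
      rw [← Over.w (j i), ← Category.assoc, IsOpenImmersion.lift_fac])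
  have hm : m ≫ j i = resOpenι Y (j i).left.opensRange := by
    ext1
    exact IsOpenImmersion.lift_fac _ _ _
  refine ⟨(j i).left.opensRange, m ≫ resOpenι E (Sg i) ≫ iE, hi, ?_⟩
  change _ = (yon S).map (resOpenι Y (j i).left.opensRange) ≫ e.hom ≫ ν
  have e1 : (yon S).map (resOpenι Y (j i).left.opensRange) ≫ e.hom ≫ ν =
      (yon S).map m ≫ (yon S).map (resOpenι E (Sg i)) ≫ κ ≫ ν := by
    rw [← hm, Functor.map_comp, Category.assoc, ← Category.assoc ((yon S).map (j i)), hje i,
      Category.assoc]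
  rw [e1, sqN.w]
  simp only [Functor.map_comp, Category.assoc]

end Groth.Agent.Lib.Helper24.IntCover
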