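import Mathlib
set_option autoImplicit false
open Topology

namespace Groth.Agent.Lib.Helper24.IrrComp

variable {O Y : Type*} [TopologicalSpace O] [TopologicalSpace Y]

/-- irreducible components of an open subspace are traces of irreducible components -/
theorem irreducibleComponents_subset_preimage {e : O → Y} (he : IsOpenEmbedding e) :
    irreducibleComponents O ⊆ (fun T => e ⁻¹' T) '' irreducibleComponents Y := by
  intro Z hZ
  have hZirr : IsIrreducible Z := hZ.1
  have hZcl : IsClosed Z := isClosed_of_mem_irreducibleComponents Z hZ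
  have hpre : e ⁻¹' closure (e '' Z) = Z := by
    rw [← he.isInducing.closure_eq_preimage_closure_image, hZcl.closure_eq]
  refine ⟨closure (e '' Z), ⟨(hZirr.image e he.continuous.continuousOn).closure, ?_⟩, hpre⟩
  intro T hT hle
  have hZ'pre : IsPreirreducible (e ⁻¹' T) := hT.2.preimage he
  have hZsub : Z ⊆ e ⁻¹' T := by
    rw [← hpre]
    exact Set.preimage_mono hle
  have hZ'irr : IsIrreducible (e ⁻¹' T) := ⟨hZirr.1.mono hZsub, hZ'pre⟩
  have hZ'Z : e ⁻¹' T ⊆ Z := hZ.2 hZ'irr hZsub
  have hne : (T ∩ Set.range e).Nonempty := by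
    obtain ⟨z, hz⟩ := hZirr.1
    exact ⟨e z, hZsub hz, z, rfl⟩
  have h1 := subset_closure_inter_of_isPreirreducible_of_isOpen hT.2 he.isOpen_range hne
  refine h1.trans (closure_mono ?_)
  rintro _ ⟨hyT, z, rfl⟩
  exact ⟨z, hZ'Z hyT, rfl⟩

theorem finite_irreducibleComponents_of_isOpenEmbedding {e : O → Y} (he : IsOpenEmbedding e)
    (h : (irreducibleComponents Y).Finite) : (irreducibleComponents O).Finite :=
  (h.image _).subset (irreducibleComponents_subset_preimage he)

/-- a space with a dense continuous image of a space with finitely many irreducible components has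
finitely many irreducible components -/
theorem finite_irreducibleComponents_of_denseRange {e : O → Y} (he : Continuous e)
    (hd : DenseRange e) (h : (irreducibleComponents O).Finite) :
    (irreducibleComponents Y).Finite := by
  refine (h.image (fun Z => closure (e '' Z))).subset ?_
  intro T hT
  have huniv : (Set.univ : Set Y) = ⋃ Z ∈ irreducibleComponents O, closure (e '' Z) := by
    rw [← h.closure_biUnion, ← Set.image_iUnion₂, ← Set.sUnion_eq_biUnion,
      sUnion_irreducibleComponents, Set.image_univ, hd.closure_range]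
  classical
  have hcov : T ⊆ ⋃₀ ↑(h.toFinset.image (fun Z => closure (e '' Z))) := by
    intro y _
    have hy : y ∈ ⋃ Z ∈ irreducibleComponents O, closure (e '' Z) := huniv ▸ Set.mem_univ y
    simp only [Set.mem_iUnion] at hy
    obtain ⟨Z, hZ, hyZ⟩ := hy
    refine ⟨closure (e '' Z), ?_, hyZ⟩
    simp only [Finset.coe_image, Set.Finite.coe_toFinset]
    exact ⟨Z, hZ, rfl⟩
  obtain ⟨W, hW, hTW⟩ := isIrreducible_iff_sUnion_isClosed.1 hT.1 _ (by
    intro z hz
    simp only [Finset.mem_image, Set.Finite.mem_toFinset] at hz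
    obtain ⟨Z, -, rfl⟩ := hz
    exact isClosed_closure) hcov
  simp only [Finset.mem_image, Set.Finite.mem_toFinset] at hW
  obtain ⟨Z, hZ, rfl⟩ := hW
  refine ⟨Z, hZ, ?_⟩
  have hirr : IsIrreducible (closure (e '' Z)) := (hZ.1.image e he.continuousOn).closure
  exact Set.Subset.antisymm (hT.2 hirr hTW) hTW

end Groth.Agent.Lib.Helper24.IrrComp
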