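import Groth.Agent.Lib.Helper24.IsoNatTop
import Groth.Agent.Lib.Helper24.AlgStOpenSub2
import Groth.Agent.Lib.Helper26.StackPoints
set_option autoImplicit false
set_option linter.unusedSectionVars false
set_option linter.unusedVariables false
universe u
set_option backward.isDefEq.respectTransparency false
set_option backward.isDefEq.respectTransparency.types false

/-! Open subfunctors of the presheaf of isomorphism classes give open substacks. -/

namespace Groth.Agent.Lib.Helper24.IsoNatOpen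
open CategoryTheory AlgebraicGeometry AlgSt
open Groth.Agent.Lib.Helper26.IsoNatPts Groth.Agent.Lib.Helper24.CatPbA
open Groth.Agent.Lib.Helper24.FibCatYoneda
open Groth.Agent.Lib.Helper24.AlgStPts1 Groth.Agent.Lib.Helper24.AlgStOpenSub2

variable {S : Scheme.{u}} {𝒴 : AlgSt.Cat S}
  (W : ∀ T : Over S, Set (IsoNat.IsoCl 𝒴 T))

/-- the objects whose class lies in `W` -/
def QQ : 𝒴.obj → Prop :=
  fun η => IsoNat.cls (⟨η, rfl⟩ : 𝒴.p.Fiber (𝒴.p.obj η)) ∈ W (𝒴.p.obj η)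

lemma qq_iff {T : Over S} (x : 𝒴.p.Fiber T) : QQ W x.1 ↔ IsoNat.cls x ∈ W T := by
  obtain ⟨x, rfl⟩ := x
  rfl

/-- factoring through an open subscheme, for a one-point source -/
lemma exists_lift_iff_mem {X : Scheme.{u}} (V : X.Opens) (t : ↥X) :
    (∃ g' : Spec (X.residueField t) ⟶ ↑V, g' ≫ V.ι = X.fromSpecResidueField t) ↔ t ∈ V := by
  constructor
  · rintro ⟨g', hg'⟩
    have h1 : (X.fromSpecResidueField t) (IsLocalRing.closedPoint _) = t :=
      Scheme.fromSpecResidueField_apply t _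
    rw [← h1, ← hg', Scheme.Hom.comp_apply]
    exact (g' (IsLocalRing.closedPoint _)).2
  · intro ht
    have hr : Set.range (X.fromSpecResidueField t) ⊆ Set.range V.ι := by
      rw [Scheme.range_fromSpecResidueField, Scheme.Opens.range_ι]
      simpa using ht
    exact ⟨IsOpenImmersion.lift V.ι (X.fromSpecResidueField t) hr,
      IsOpenImmersion.lift_fac _ _ _⟩

section Main
variable (h𝒴 : AlgSt.IsAlgStack Scheme.fppfPrecoverage 𝒴)
  (hWpull : ∀ (T' T : Over S) (g : T' ⟶ T) (x' : 𝒴.p.Fiber T') (x : 𝒴.p.Fiber T) (a : x'.1 ⟶ x.1),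
    𝒴.p.IsHomLift g a → IsoNat.cls x ∈ W T → IsoNat.cls x' ∈ W T')
  (hWopen : ∀ (T : Over S) (x : 𝒴.p.Fiber T), ∃ V : T.left.Opens,
    ∀ (T' : Over S) (g : T' ⟶ T) (x' : 𝒴.p.Fiber T') (a : x'.1 ⟶ x.1), 𝒴.p.IsHomLift g a →
      (IsoNat.cls x' ∈ W T' ↔ ∃ g' : T'.left ⟶ ↑V, g' ≫ V.ι = g.left))

include hWpull in
lemma qq_of_hom {y' y : 𝒴.obj} (m : y' ⟶ y) (hy : QQ W y) : QQ W y' :=
  hWpull (𝒴.p.obj y') (𝒴.p.obj y) (𝒴.p.map m) ⟨y', rfl⟩ ⟨y, rfl⟩ m (IsHomLift.map 𝒴.p m) hy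

include hWopen in
/-- descent of membership along a field extension -/
lemma qq_of_field_hom {p q : FPt 𝒴} (m : p.obj ⟶ q.obj) (hp : QQ W p.obj) : QQ W q.obj := by
  let T : Over S := Over.mk q.str
  let x : 𝒴.p.Fiber T := ⟨q.obj, q.lies⟩
  obtain ⟨V, hV⟩ := hWopen T x
  let g : (Over.mk p.str : Over S) ⟶ T := eqToHom p.lies.symm ≫ 𝒴.p.map m ≫ eqToHom q.lies
  have hm : 𝒴.p.IsHomLift g m := IsHomLift.of_fac _ _ _ p.lies q.lies rfl
  have h1 := (hV (Over.mk p.str) g ⟨p.obj, p.lies⟩ m hm).1 ((qq_iff W ⟨p.obj, p.lies⟩).1 hp)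
  obtain ⟨g', hg'⟩ := h1
  -- `V` is everything
  have hVtop : V = ⊤ := by
    apply TopologicalSpace.Opens.ext
    ext t
    simp only [TopologicalSpace.Opens.coe_top, Set.mem_univ, iff_true]
    have hne : Nonempty ↥(Spec (CommRingCat.of p.K)) := inferInstance
    obtain ⟨s⟩ := hne
    have hs : (V.ι (g' s)) ∈ V := (g' s).2
    have hsub : Subsingleton ↥(Spec (CommRingCat.of q.K)) := inferInstance
    have : t = V.ι (g' s) := hsub.elim _ _
    rw [this]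
    exact hs
  have h2 : ∃ g'' : T.left ⟶ ↑V, g'' ≫ V.ι = (𝟙 T : T ⟶ T).left := by
    subst hVtop
    exact ⟨(Scheme.topIso T.left).inv, by simp⟩
  have h3 := (hV T (𝟙 T) x (𝟙 x.1) (IsHomLift.id x.2)).2 h2
  exact (qq_iff W x).2 h3

/-- the set of points of the subfunctor -/
def Wp : Set (Points 𝒴) := {z | ∃ p : FPt 𝒴, Points.mk p = z ∧ QQ W p.obj}

include h𝒴 hWpull hWopen in
lemma mk_mem_Wp_iff (p : FPt 𝒴) : Points.mk p ∈ Wp W ↔ QQ W p.obj := by
  constructor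
  · rintro ⟨q, hq, hQ⟩
    have hrel : FPt.Rel q p :=
      (Groth.Agent.Lib.Helper26.StackPoints.rel_equivalence 𝒴 h𝒴.isStack.1).eqvGen_iff.1
        (Quot.eqvGen_exact hq)
    obtain ⟨r, a, b, -⟩ := hrel
    exact qq_of_field_hom W hWopen b (qq_of_hom W hWpull a hQ)
  · intro h
    exact ⟨p, rfl, h⟩

include h𝒴 hWpull hWopen in
lemma ofChart_mem_Wp_iff {U : Over S} (x : FibCat.overCat U ⥤ᵇ 𝒴) (V : U.left.Opens)
    (hV : ∀ (T' : Over S) (g : T' ⟶ U) (x' : 𝒴.p.Fiber T')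
      (a : x'.1 ⟶ x.obj (Over.mk (𝟙 U))), 𝒴.p.IsHomLift g a →
      (IsoNat.cls x' ∈ W T' ↔ ∃ g' : T'.left ⟶ ↑V, g' ≫ V.ι = g.left)) (t : ↥U.left) :
    Points.ofChart x t ∈ Wp W ↔ t ∈ V := by
  let j : Over U := Over.mk (Over.homMk (U.left.fromSpecResidueField t) rfl :
    Over.mk (U.left.fromSpecResidueField t ≫ U.hom) ⟶ U)
  let p : FPt 𝒴 := { K := ↥(U.left.residueField t), str := U.left.fromSpecResidueField t ≫ U.hom,
                     obj := x.obj j, lies := x.w_obj _ }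
  change Points.mk p ∈ Wp W ↔ t ∈ V
  rw [mk_mem_Wp_iff W h𝒴 hWpull hWopen p]
  have ha : 𝒴.p.IsHomLift j.hom (x.toFunctor.map (tOf j)) := map_tOf_lift x j
  have h1 := hV j.left j.hom ⟨x.obj j, x.w_obj _⟩ (x.toFunctor.map (tOf j)) ha
  rw [← exists_lift_iff_mem V t]
  exact (qq_iff W ⟨x.obj j, x.w_obj _⟩).trans h1

include h𝒴 hWpull hWopen in
theorem isOpen_Wp : IsOpen (Wp W) := by
  intro U x _
  obtain ⟨V, hV⟩ := hWopen U ⟨x.obj (Over.mk (𝟙 U)), x.w_obj _⟩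
  have e : Points.ofChart x ⁻¹' Wp W = (V : Set ↥U.left) := by
    ext t
    exact ofChart_mem_Wp_iff W h𝒴 hWpull hWopen x V hV t
  rw [e]
  exact V.2

include h𝒴 hWpull hWopen in
theorem qq_eq_qW : QQ W = QW (Wp W) := by
  funext η
  apply propext
  constructor
  · rintro hη p ⟨m⟩
    exact ⟨p, rfl, qq_of_hom W hWpull m hη⟩
  · intro hη
    let T : Over S := 𝒴.p.obj η
    obtain ⟨V, hV⟩ := hWopen T ⟨η, rfl⟩
    have hVtop : V = ⊤ := by
      apply TopologicalSpace.Opens.ext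
      ext t
      simp only [TopologicalSpace.Opens.coe_top, Set.mem_univ, iff_true]
      let T' : Over S := Over.mk (T.left.fromSpecResidueField t ≫ T.hom)
      let j : T' ⟶ T := Over.homMk (T.left.fromSpecResidueField t) rfl
      obtain ⟨ηt, m, hm⟩ := h𝒴.isStack.1.exists_lift (x := η) j
      have hηt : 𝒴.p.obj ηt = T' := IsHomLift.domain_eq 𝒴.p j m
      let p : FPt 𝒴 := { K := ↥(T.left.residueField t), str := T.left.fromSpecResidueField t ≫ T.hom,
                         obj := ηt, lies := hηt }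
      have h1 : Points.mk p ∈ Wp W := hη p ⟨m⟩
      rw [mk_mem_Wp_iff W h𝒴 hWpull hWopen p] at h1
      have h2 := (hV T' j ⟨ηt, hηt⟩ m hm).1 ((qq_iff W ⟨ηt, hηt⟩).1 h1)
      exact (exists_lift_iff_mem V t).1 h2
    have h2 : ∃ g'' : T.left ⟶ ↑V, g'' ≫ V.ι = (𝟙 T : T ⟶ T).left := by
      subst hVtop
      exact ⟨(Scheme.topIso T.left).inv, by simp⟩
    exact (hV T (𝟙 T) ⟨η, rfl⟩ (𝟙 η) (IsHomLift.id rfl)).2 h2

include h𝒴 hWpull hWopen in
theorem isOpenSubstack_qq : AlgSt.IsOpenSubstack 𝒴 (QQ W) Scheme.fppfPrecoverage := by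
  rw [qq_eq_qW W h𝒴 hWpull hWopen]
  exact isOpenSubstack_qW h𝒴 (isOpen_Wp W h𝒴 hWpull hWopen)

end Main

end Groth.Agent.Lib.Helper24.IsoNatOpen
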