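import Groth.Agent.Lib.Helper24.IsoNatOpen
import Groth.Agent.Lib.Helper24.AlgStPts7
import Groth.Agent.Lib.Helper24.AlgStOpenSub3
import Groth.Agent.Lib.Helper24.AlgStQCProd
import Groth.Agent.Lib.Helper24.AlgStSubImm
import Groth.Agent.Lib.Helper24.FibCatDiag
import Groth.Agent.Lib.Helper24.FibCatFpSwap
import Groth.Agent.Lib.Helper24.FibCatFpPaste
import Groth.Agent.Lib.Helper24.AlgStProps5
set_option autoImplicit false
set_option linter.unusedSectionVars false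
set_option linter.unusedVariables false
universe u
set_option backward.isDefEq.respectTransparency false
set_option backward.isDefEq.respectTransparency.types false

/-! Quasi-compact morphisms of algebraic stacks are detected on quasi-compact open substacks. -/

namespace Groth.Agent.Lib.Helper24.IsoNatQC
open CategoryTheory AlgebraicGeometry AlgSt
open Groth.Agent.Lib.Helper24.CatPbA
open Groth.Agent.Lib.Helper24.AlgStPts1 Groth.Agent.Lib.Helper24.AlgStPts4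
open Groth.Agent.Lib.Helper24.AlgStPts5 Groth.Agent.Lib.Helper24.AlgStPts6
open Groth.Agent.Lib.Helper24.AlgStPts7
open Groth.Agent.Lib.Helper24.AlgStOpenSub2 Groth.Agent.Lib.Helper24.AlgStOpenSub3
open Groth.Agent.Lib.Helper24.AlgStDiagLft

variable {S : Scheme.{u}}

section Range
variable {𝒵 𝒴 : AlgSt.Cat S}

/-- a field-valued point with a morphism to a value of `g` lies in the image of `|g|` -/
theorem mk_mem_range_map (h𝒵 : FibCat.IsFibGrpd 𝒵.p) (h𝒴 : FibCat.IsFibGrpd 𝒴.p) (g : 𝒵 ⥤ᵇ 𝒴)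
    (z : 𝒵.obj) (p : FPt 𝒴) (m : p.obj ⟶ g.obj z) :
    Points.mk p ∈ Set.range (Points.map g) := by
  let β : (Over.mk p.str : Over S) ⟶ 𝒵.p.obj z :=
    eqToHom p.lies.symm ≫ 𝒴.p.map m ≫ eqToHom (g.w_obj z)
  obtain ⟨z', n, hn⟩ := h𝒵.exists_lift (x := z) β
  have hz' : 𝒵.p.obj z' = Over.mk p.str := IsHomLift.domain_eq 𝒵.p β n
  let q : FPt 𝒵 := { K := p.K, str := p.str, obj := z', lies := hz' }
  have hgn : 𝒴.p.IsHomLift β (g.map n) := inferInstance
  have e1 : 𝒴.p.map (g.map n) = eqToHom ((g.w_obj z').trans hz') ≫ β ≫ eqToHom (g.w_obj z).symm :=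
    IsHomLift.fac' 𝒴.p β (g.map n)
  have hg : eqToHom (p.lies.trans ((g.w_obj z').trans hz').symm) ≫ 𝒴.p.map (g.map n) =
      𝒴.p.map m := by
    rw [e1]
    simp [β]
  let χ : p.obj ⟶ g.obj z' := lft h𝒴 (g.map n) m _ hg
  refine ⟨Points.mk q, ?_⟩
  rw [Points.map_mk]
  exact (Points.sound ⟨p, 𝟙 _, χ, trivial⟩).symm

end Range

section Compact
variable {𝒴 : AlgSt.Cat S} (h𝒴 : AlgSt.IsAlgStack Scheme.fppfPrecoverage 𝒴)

include h𝒴 in
/-- every quasi-compact subset of `|𝒴|` lies in a quasi-compact open subset -/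
theorem exists_compact_open_superset (K : Set (Points 𝒴)) (hK : IsCompact K) :
    ∃ V : Set (Points 𝒴), IsOpen V ∧ IsCompact V ∧ K ⊆ V := by
  choose Vz hVo hVc hzV _ using fun z : Points 𝒴 =>
    exists_compact_open_nhds h𝒴 z Set.univ isOpen_univ (Set.mem_univ z)
  obtain ⟨t, -, ht⟩ := hK.elim_nhds_subcover Vz (fun z _ => (hVo z).mem_nhds (hzV z))
  exact ⟨⋃ z ∈ t, Vz z, isOpen_biUnion fun z _ => hVo z, t.isCompact_biUnion fun z _ => hVc z, ht⟩

variable {V : Set (Points 𝒴)} (hVo : IsOpen V)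

include h𝒴 hVo in
theorem isMono_subIncl_qW : AlgSt.IsMono (AlgSt.subIncl 𝒴 (QW V)) :=
  Groth.Agent.Lib.Helper24.AlgStSchLocal.repByAlgSpWith_mono
    (fun _ _ _ h => Groth.Agent.Lib.Helper14.AS.mono_of_repWith_mono
      (Groth.Agent.Lib.Helper14.AS.repWith_mono
        (fun _ _ g (hg : IsOpenImmersion g) => (inferInstance : Mono g)) h)) _
    (isOpenImm_subIncl_qW h𝒴 hVo)

include h𝒴 hVo in
/-- the open substack on a quasi-compact open set of points is quasi-compact -/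
theorem isQuasiCompact_fullSub_qW (hVc : IsCompact V) :
    AlgSt.IsQuasiCompact (AlgSt.fullSub 𝒴 (QW V)) := by
  have halg := isAlgStack_fullSub_qW h𝒴 hVo
  rw [isQuasiCompact_iff_compactSpace halg]
  have himm := isOpenImm_subIncl_qW h𝒴 hVo
  have hsm := smooth_of_isOpenImm _ himm
  have hopen : IsOpenMap (Points.map (AlgSt.subIncl 𝒴 (QW V))) :=
    isOpenMap_map_of_repByAlgSpWith halg h𝒴 _ (repByAlgSpWith_locP_mono smooth_le_flat _ hsm)
      (repByAlgSpWith_locP_mono smooth_le_lfp _ hsm)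
  have hinj : Function.Injective (Points.map (AlgSt.subIncl 𝒴 (QW V))) :=
    injective_map_of_isMono halg.isStack.1 h𝒴.isStack.1 _ (isMono_subIncl_qW h𝒴 hVo)
  have hcont : Continuous (Points.map (AlgSt.subIncl 𝒴 (QW V))) := continuous_map h𝒴 _
  have hemb : Topology.IsOpenEmbedding (Points.map (AlgSt.subIncl 𝒴 (QW V))) :=
    Topology.IsOpenEmbedding.of_continuous_injective_isOpenMap hcont hinj hopen
  constructor
  rw [hemb.isInducing.isCompact_iff, Set.image_univ, range_map_subIncl_qW]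
  exact hVc

include h𝒴 hVo in
/-- an open substack of a quasi-separated stack is quasi-separated -/
theorem isQuasiSeparatedOver_fullSub_qW (hs : AlgSt.IsQuasiSeparatedOver 𝒴) :
    AlgSt.IsQuasiSeparatedOver (AlgSt.fullSub 𝒴 (QW V)) := by
  have halg := isAlgStack_fullSub_qW h𝒴 hVo
  obtain ⟨hfull, hfaith⟩ := Groth.Agent.Lib.Helper24.AlgStMonoFull.full_faithful_of_isMono
    halg.isStack.1 h𝒴.isStack.1 _ (isMono_subIncl_qW h𝒴 hVo)
  have hdiag : FibCat.IsEquivOver (FibCat.diag (AlgSt.subIncl 𝒴 (QW V))) :=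
    (Groth.Agent.Lib.Helper24.FibCatDiag.fullyFaithful_iff_isEquivOver_diag _ halg.isStack.1
      h𝒴.isStack.1).1 ⟨hfull, hfaith⟩
  have h1 : AlgSt.IsQuasiSeparatedMor (AlgSt.subIncl 𝒴 (QW V)) :=
    Groth.Agent.Lib.Helper24.AlgStProdAlg.repByAlgSpWith_of_isEquivOver _
      Groth.Agent.Lib.Helper24.AlgStProps.hasIsos_qcqs _ hdiag
  have h2 : AlgSt.IsQuasiSeparatedMor
      (BasedFunctor.comp (AlgSt.subIncl 𝒴 (QW V)) (FibCat.toSelf 𝒴)) :=
    Groth.Agent.Lib.Helper24.AlgStDiagComp.repByAlgSpWith_diag_comp halg.isStack.1 h𝒴.isStack.1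
      Groth.Agent.Lib.Helper24.FibCatInertia.isFibGrpd_selfOver _
      Groth.Agent.Lib.Helper24.AlgStProps.good_qcqs.nice
      Groth.Agent.Lib.Helper24.AlgStProps.stableComp_qcqs _ _ h1 hs
  have : BasedFunctor.comp (AlgSt.subIncl 𝒴 (QW V)) (FibCat.toSelf 𝒴) =
      FibCat.toSelf (AlgSt.fullSub 𝒴 (QW V)) :=
    Groth.Agent.Lib.Helper24.StkSelf.eq_of_selfOver _ _
  rw [this] at h2
  exact h2

end Compact

section Main
open Groth.Agent.Lib.Helper24.FibCatFpSwap Groth.Agent.Lib.Helper24.FibCatFpPaste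
open Groth.Agent.Lib.Helper24.AlgStQCMor Groth.Agent.Lib.Helper24.AlgStQCProd
open Groth.Agent.Lib.Helper24.AlgStFpAlg

theorem isQuasiCompactMor_of_forall_openImm [QuasiSeparatedSpace ↥S] {𝒳 𝒴 : AlgSt.Cat S}
    (h𝒳 : AlgSt.IsAlgStack Scheme.fppfPrecoverage 𝒳)
    (h𝒴 : AlgSt.IsAlgStack Scheme.fppfPrecoverage 𝒴) (hs : AlgSt.IsQuasiSeparatedOver 𝒴)
    (f : 𝒳 ⥤ᵇ 𝒴)
    (H : ∀ (𝒴' : AlgSt.Cat S), AlgSt.IsAlgStack Scheme.fppfPrecoverage 𝒴' →
      AlgSt.IsQuasiCompact 𝒴' → ∀ (j : 𝒴' ⥤ᵇ 𝒴), AlgSt.IsOpenImm j →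
        AlgSt.IsQuasiCompact (FibCat.fp j f)) :
    AlgSt.IsQuasiCompactMor Scheme.fppfPrecoverage f := by
  intro 𝒵 h𝒵 hq g
  have hcs := (isQuasiCompact_iff_compactSpace h𝒵).1 hq
  have hK : IsCompact (Set.range (Points.map g)) := isCompact_range (continuous_map h𝒴 g)
  obtain ⟨V, hVo, hVc, hKV⟩ := exists_compact_open_superset h𝒴 _ hK
  have halg := isAlgStack_fullSub_qW h𝒴 hVo
  have hqV := isQuasiCompact_fullSub_qW h𝒴 hVo hVc
  have hsV := isQuasiSeparatedOver_fullSub_qW h𝒴 hVo hs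
  have hg : ∀ z, QW V (g.obj z) := fun z p ⟨m⟩ =>
    hKV (mk_mem_range_map h𝒵.isStack.1 h𝒴.isStack.1 g z p m)
  let g' : 𝒵 ⥤ᵇ AlgSt.fullSub 𝒴 (QW V) :=
    { toFunctor := ObjectProperty.lift (QW V) g.toFunctor hg, w := g.w }
  have hgg : BasedFunctor.comp g' (AlgSt.subIncl 𝒴 (QW V)) = g := rfl
  have h1 : AlgSt.IsQuasiCompact (FibCat.fp (AlgSt.subIncl 𝒴 (QW V)) f) :=
    H _ halg hqV _ (isOpenImm_subIncl_qW h𝒴 hVo)
  have h1' : AlgSt.IsQuasiCompact (FibCat.fp f (AlgSt.subIncl 𝒴 (QW V))) :=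
    isQuasiCompact_of_isEquivOver (swap _ _) (isEquivOver_swap _ _) h1
  have halg1 : AlgSt.IsAlgStack Scheme.fppfPrecoverage (FibCat.fp f (AlgSt.subIncl 𝒴 (QW V))) :=
    isAlgStack_fp h𝒴.isStack h𝒴.diag h𝒳 halg f _
  have hg'qc : AlgSt.IsQuasiCompactMor Scheme.fppfPrecoverage g' :=
    isQuasiCompactMor_of_isQuasiSeparatedOver h𝒵 halg g' hq hsV
  have h2 : AlgSt.IsQuasiCompact
      (FibCat.fp (FibCat.fpSnd f (AlgSt.subIncl 𝒴 (QW V))) g') :=
    hg'qc _ halg1 h1' _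
  have h3 : AlgSt.IsQuasiCompact
      (FibCat.fp f (BasedFunctor.comp g' (AlgSt.subIncl 𝒴 (QW V)))) :=
    isQuasiCompact_of_isEquivOver (Q g' (AlgSt.subIncl 𝒴 (QW V)) f)
      (isEquivOver_Q (f := g') (g := AlgSt.subIncl 𝒴 (QW V)) (G := f)) h2
  rw [hgg] at h3
  exact isQuasiCompact_of_isEquivOver (swap f g) (isEquivOver_swap f g) h3

end Main

end Groth.Agent.Lib.Helper24.IsoNatQC
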