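import Groth.Agent.Lib.Helper24.IsoNatQC
import Groth.Agent.Lib.Helper24.AlgStGC
set_option autoImplicit false
set_option linter.unusedSectionVars false
set_option linter.unusedVariables false
universe u
set_option backward.isDefEq.respectTransparency false
set_option backward.isDefEq.respectTransparency.types false

/-! Quasi-compact morphisms of algebraic stacks, topologically; transfer along isomorphisms of
presheaves of isomorphism classes. -/

namespace Groth.Agent.Lib.Helper24.IsoNatQC2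
open CategoryTheory AlgebraicGeometry AlgSt
open Groth.Agent.Lib.Helper24.AlgStPts1 Groth.Agent.Lib.Helper24.AlgStPts4
open Groth.Agent.Lib.Helper24.AlgStPts5 Groth.Agent.Lib.Helper24.AlgStPts6
open Groth.Agent.Lib.Helper24.AlgStPts7
open Groth.Agent.Lib.Helper24.AlgStOpenSub2 Groth.Agent.Lib.Helper24.AlgStOpenSub3
open Groth.Agent.Lib.Helper24.AlgStDiagLft Groth.Agent.Lib.Helper24.IsoNatQC
open Groth.Agent.Lib.Helper24.IsoNatTop Groth.Agent.Lib.Helper26.IsoNatPts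
open Groth.Agent.Lib.Helper24.AlgStFpAlg Groth.Agent.Lib.Helper24.AlgStGC

variable {S : Scheme.{u}}

section OpenEmb
variable {𝒜 ℬ : AlgSt.Cat S}

theorem isMono_of_isOpenImm (i : 𝒜 ⥤ᵇ ℬ) (hi : AlgSt.IsOpenImm i) : AlgSt.IsMono i :=
  Groth.Agent.Lib.Helper24.AlgStSchLocal.repByAlgSpWith_mono
    (fun _ _ _ h => Groth.Agent.Lib.Helper14.AS.mono_of_repWith_mono
      (Groth.Agent.Lib.Helper14.AS.repWith_mono
        (fun _ _ g (hg : IsOpenImmersion g) => (inferInstance : Mono g)) h)) _ hi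

/-- open immersions are open embeddings on points -/
theorem isOpenEmbedding_map_of_isOpenImm (h𝒜 : AlgSt.IsAlgStack Scheme.fppfPrecoverage 𝒜)
    (hℬ : AlgSt.IsAlgStack Scheme.fppfPrecoverage ℬ) (i : 𝒜 ⥤ᵇ ℬ) (hi : AlgSt.IsOpenImm i) :
    Topology.IsOpenEmbedding (Points.map i) := by
  have hsm := smooth_of_isOpenImm _ hi
  have hopen : IsOpenMap (Points.map i) :=
    isOpenMap_map_of_repByAlgSpWith h𝒜 hℬ _ (repByAlgSpWith_locP_mono smooth_le_flat _ hsm)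
      (repByAlgSpWith_locP_mono smooth_le_lfp _ hsm)
  have hinj : Function.Injective (Points.map i) :=
    injective_map_of_isMono h𝒜.isStack.1 hℬ.isStack.1 _ (isMono_of_isOpenImm i hi)
  exact Topology.IsOpenEmbedding.of_continuous_injective_isOpenMap (continuous_map hℬ _) hinj hopen

/-- the source of an open immersion with quasi-compact image is quasi-compact -/
theorem isQuasiCompact_of_isOpenImm_of_isCompact_range
    (h𝒜 : AlgSt.IsAlgStack Scheme.fppfPrecoverage 𝒜)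
    (hℬ : AlgSt.IsAlgStack Scheme.fppfPrecoverage ℬ) (i : 𝒜 ⥤ᵇ ℬ) (hi : AlgSt.IsOpenImm i)
    (hc : IsCompact (Set.range (Points.map i))) : AlgSt.IsQuasiCompact 𝒜 := by
  rw [isQuasiCompact_iff_compactSpace h𝒜]
  constructor
  rw [(isOpenEmbedding_map_of_isOpenImm h𝒜 hℬ i hi).isInducing.isCompact_iff, Set.image_univ]
  exact hc

end OpenEmb

section Range
variable {𝒳 𝒴 𝒵 : AlgSt.Cat S}

theorem range_map_fpSnd (h𝒳 : FibCat.IsFibGrpd 𝒳.p) (h𝒴 : FibCat.IsFibGrpd 𝒴.p)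
    (h𝒵 : FibCat.IsFibGrpd 𝒵.p) (j : 𝒵 ⥤ᵇ 𝒴) (f : 𝒳 ⥤ᵇ 𝒴) :
    Set.range (Points.map (FibCat.fpSnd j f)) = Points.map f ⁻¹' Set.range (Points.map j) := by
  apply Set.Subset.antisymm
  · rintro _ ⟨w, rfl⟩
    refine ⟨Points.map (FibCat.fpFst j f) w, ?_⟩
    rw [← map_comp, ← map_comp, map_congr (FibCat.fpIso j f)]
  · rintro x ⟨z, hz⟩
    obtain ⟨w, -, h2⟩ :=
      Groth.Agent.Lib.Helper26.StackPoints.exists_points_fp h𝒳 h𝒴 h𝒵 f j z x hz
    exact ⟨w, h2⟩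

end Range

section Top
variable {𝒳 𝒴 : AlgSt.Cat S}

/-- quasi-compact morphisms, topologically -/
theorem isQuasiCompactMor_iff_preimage_compact [QuasiSeparatedSpace ↥S]
    (h𝒳 : AlgSt.IsAlgStack Scheme.fppfPrecoverage 𝒳)
    (h𝒴 : AlgSt.IsAlgStack Scheme.fppfPrecoverage 𝒴) (hs : AlgSt.IsQuasiSeparatedOver 𝒴)
    (f : 𝒳 ⥤ᵇ 𝒴) :
    AlgSt.IsQuasiCompactMor Scheme.fppfPrecoverage f ↔
      ∀ V : Set (Points 𝒴), IsOpen V → IsCompact V → IsCompact (Points.map f ⁻¹' V) := by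
  constructor
  · intro hf V hVo hVc
    have halg := isAlgStack_fullSub_qW h𝒴 hVo
    have hqV := isQuasiCompact_fullSub_qW h𝒴 hVo hVc
    have h1 : AlgSt.IsQuasiCompact (FibCat.fp (AlgSt.subIncl 𝒴 (QW V)) f) :=
      hf _ halg hqV _
    have halg1 : AlgSt.IsAlgStack Scheme.fppfPrecoverage (FibCat.fp (AlgSt.subIncl 𝒴 (QW V)) f) :=
      isAlgStack_fp h𝒴.isStack h𝒴.diag halg h𝒳 _ f
    have hcs := (isQuasiCompact_iff_compactSpace halg1).1 h1
    have h2 : IsCompact (Set.range (Points.map (FibCat.fpSnd (AlgSt.subIncl 𝒴 (QW V)) f))) :=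
      isCompact_range (continuous_map h𝒳 _)
    rwa [range_map_fpSnd h𝒳.isStack.1 h𝒴.isStack.1 halg.isStack.1, range_map_subIncl_qW] at h2
  · intro H
    apply isQuasiCompactMor_of_forall_openImm h𝒳 h𝒴 hs f
    intro 𝒴' h𝒴' hq j hj
    have hcs := (isQuasiCompact_iff_compactSpace h𝒴').1 hq
    have hemb := isOpenEmbedding_map_of_isOpenImm h𝒴' h𝒴 j hj
    have hc := H _ hemb.isOpen_range (isCompact_range (continuous_map h𝒴 j))
    have halg1 : AlgSt.IsAlgStack Scheme.fppfPrecoverage (FibCat.fp j f) :=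
      isAlgStack_fp h𝒴.isStack h𝒴.diag h𝒴' h𝒳 j f
    apply isQuasiCompact_of_isOpenImm_of_isCompact_range halg1 h𝒳 (FibCat.fpSnd j f)
      (repByAlgSpWith_fpSnd _ j f hj)
    rwa [range_map_fpSnd h𝒳.isStack.1 h𝒴.isStack.1 h𝒴'.isStack.1]

end Top

section Transfer
variable {𝒳 𝒴 𝒳' 𝒴' : AlgSt.Cat S}

theorem map_ptsMap_comm (f : 𝒳 ⥤ᵇ 𝒴) (f' : 𝒳' ⥤ᵇ 𝒴') (φ : IsoNat.FIsoSq f f')
    (z : Points 𝒳) :
    Points.map f' (ptsMap φ.src z) = ptsMap φ.tgt (Points.map f z) := by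
  obtain ⟨p, rfl⟩ := Points.mk_surjective z
  rw [ptsMap_mk, Points.map_mk, Points.map_mk]
  have h : φ.tgt.toEquiv (Over.mk p.str)
      (IsoNat.mapCls f (Over.mk p.str) (IsoNat.cls (fibObj p))) =
      IsoNat.mapCls f' (Over.mk p.str) (IsoNat.cls (rep φ.src p)) := by
    rw [φ.comm, cls_rep]
  exact (ptsMap_eq_mk φ.tgt (p.map f) (fibObj ((tr φ.src p).map f')) h).symm

theorem isQuasiCompactMor_of_fIsoSq [QuasiSeparatedSpace ↥S]
    (h𝒳 : AlgSt.IsAlgStack Scheme.fppfPrecoverage 𝒳)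
    (h𝒴 : AlgSt.IsAlgStack Scheme.fppfPrecoverage 𝒴)
    (h𝒳' : AlgSt.IsAlgStack Scheme.fppfPrecoverage 𝒳')
    (h𝒴' : AlgSt.IsAlgStack Scheme.fppfPrecoverage 𝒴')
    (hs : AlgSt.IsQuasiSeparatedOver 𝒴) (hs' : AlgSt.IsQuasiSeparatedOver 𝒴')
    (f : 𝒳 ⥤ᵇ 𝒴) (f' : 𝒳' ⥤ᵇ 𝒴') (φ : IsoNat.FIsoSq f f')
    (hf : AlgSt.IsQuasiCompactMor Scheme.fppfPrecoverage f) :
    AlgSt.IsQuasiCompactMor Scheme.fppfPrecoverage f' := by
  rw [isQuasiCompactMor_iff_preimage_compact h𝒳' h𝒴' hs']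
  rw [isQuasiCompactMor_iff_preimage_compact h𝒳 h𝒴 hs] at hf
  intro V' hVo hVc
  let Φs := ptsHomeo h𝒳 h𝒳' φ.src
  let Φt := ptsHomeo h𝒴 h𝒴' φ.tgt
  have h1 : IsCompact (Points.map f ⁻¹' (Φt ⁻¹' V')) :=
    hf _ (hVo.preimage Φt.continuous) (Φt.isCompact_preimage.2 hVc)
  have h2 : Points.map f' ⁻¹' V' = Φs '' (Points.map f ⁻¹' (Φt ⁻¹' V')) := by
    ext x'
    constructor
    · intro hx'
      refine ⟨Φs.symm x', ?_, Φs.apply_symm_apply x'⟩
      change Φt (Points.map f (Φs.symm x')) ∈ V'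
      have := map_ptsMap_comm f f' φ (Φs.symm x')
      change Points.map f' (Φs (Φs.symm x')) = Φt (Points.map f (Φs.symm x')) at this
      rw [← this, Φs.apply_symm_apply]
      exact hx'
    · rintro ⟨x, hx, rfl⟩
      change Points.map f' (ptsMap φ.src x) ∈ V'
      rw [map_ptsMap_comm f f' φ x]
      exact hx
  rw [h2]
  exact h1.image Φs.continuous

end Transfer

end Groth.Agent.Lib.Helper24.IsoNatQC2
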