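import Groth.Agent.Lib.Helper26.IsoNatPts
import Groth.Agent.Lib.Helper24.AlgStPts6
import Groth.Agent.Lib.Helper24.CatModQuot2
import Groth.Agent.Lib.Helper24.CatPbA
set_option autoImplicit false
set_option linter.unusedSectionVars false
set_option linter.unusedVariables false
universe u
set_option backward.isDefEq.respectTransparency false
set_option backward.isDefEq.respectTransparency.types false

/-! The presheaf of isomorphism classes determines the space of points. -/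

noncomputable section

namespace Groth.Agent.Lib.Helper24.IsoNatTop
open CategoryTheory AlgebraicGeometry AlgSt
open Groth.Agent.Lib.Helper26.IsoNatPts Groth.Agent.Lib.Helper24.CatPbA
open Groth.Agent.Lib.Helper24.CatModQuot2 Groth.Agent.Lib.Helper24.FibCatYoneda
open Groth.Agent.Lib.Helper24.AlgStPts1 Groth.Agent.Lib.Helper24.AlgStPts4
open Groth.Agent.Lib.Helper24.AlgStPts6

variable {S : Scheme.{u}}

section Lifts
variable {𝒴 : AlgSt.Cat S}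

/-- pullbacks of isomorphic objects along the same morphism are isomorphic -/
lemma cls_eq_of_lifts (h𝒴 : FibCat.IsFibGrpd 𝒴.p) {T' T : Over S} (g : T' ⟶ T)
    (y' y'' : 𝒴.p.Fiber T') (y₁ y₂ : 𝒴.p.Fiber T) (b : y'.1 ⟶ y₁.1) (b₂ : y''.1 ⟶ y₂.1)
    (hb : 𝒴.p.IsHomLift g b) (hb₂ : 𝒴.p.IsHomLift g b₂) (h : IsoNat.cls y₁ = IsoNat.cls y₂) :
    IsoNat.cls y' = IsoNat.cls y'' := by
  obtain ⟨e⟩ := Quotient.exact h
  obtain ⟨y', hy'⟩ := y'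
  obtain ⟨y'', hy''⟩ := y''
  obtain ⟨y₁, hy₁⟩ := y₁
  obtain ⟨y₂, hy₂⟩ := y₂
  dsimp only at b b₂ hb hb₂
  have he : 𝒴.p.IsHomLift (𝟙 T) e.hom.1 := e.hom.2
  have m1 : 𝒴.p.map b = eqToHom hy' ≫ g ≫ eqToHom hy₁.symm := IsHomLift.fac' 𝒴.p g b
  have m2 : 𝒴.p.map b₂ = eqToHom hy'' ≫ g ≫ eqToHom hy₂.symm := IsHomLift.fac' 𝒴.p g b₂
  have m3 : 𝒴.p.map e.hom.1 = eqToHom hy₁ ≫ 𝟙 T ≫ eqToHom hy₂.symm :=
    IsHomLift.fac' 𝒴.p (𝟙 T) e.hom.1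
  have hg : eqToHom (hy'.trans hy''.symm) ≫ 𝒴.p.map b₂ = 𝒴.p.map (b ≫ e.hom.1) := by
    rw [Functor.map_comp, m1, m2, m3]
    simp
  let χ : y' ⟶ y'' := lft h𝒴 b₂ (b ≫ e.hom.1) (eqToHom (hy'.trans hy''.symm)) hg
  have hχ : 𝒴.p.map χ = eqToHom (hy'.trans hy''.symm) := lft_map h𝒴 _ _ _ hg
  have hiso : IsIso χ := by
    apply isIso_of_map_isIso h𝒴
    rw [hχ]
    infer_instance
  have hl : 𝒴.p.IsHomLift (𝟙 T') χ := by
    apply IsHomLift.of_fac' _ _ _ hy' hy''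
    rw [hχ]
    simp
  obtain ⟨i⟩ := fiberIso_of_isIso hy' hy'' χ hl
  exact Quotient.sound ⟨i⟩

end Lifts

section Symm
variable {𝒳 𝒴 : AlgSt.Cat S}

/-- the inverse of an isomorphism of presheaves of isomorphism classes -/
def fsymm (h𝒳 : FibCat.IsFibGrpd 𝒳.p) (h𝒴 : FibCat.IsFibGrpd 𝒴.p) (φ : IsoNat.FIso 𝒳 𝒴) :
    IsoNat.FIso 𝒴 𝒳 where
  toEquiv T := (φ.toEquiv T).symm
  natural := by
    intro T' T g y' y b hb
    obtain ⟨x, hx⟩ := Quotient.exists_rep ((φ.toEquiv T).symm (IsoNat.cls y))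
    obtain ⟨x, rfl⟩ := x
    obtain ⟨x'', a, ha⟩ := h𝒳.exists_lift (x := x) g
    have hx'' : 𝒳.p.obj x'' = T' := IsHomLift.domain_eq 𝒳.p g a
    obtain ⟨yt', yt, bt, hbt, h1, h2⟩ := φ.natural g ⟨x'', hx''⟩ ⟨x, rfl⟩ a ha
    have h3 : IsoNat.cls yt = IsoNat.cls y := by
      rw [← h2]
      have : IsoNat.cls (⟨x, rfl⟩ : 𝒳.p.Fiber (𝒳.p.obj x)) =
          (φ.toEquiv (𝒳.p.obj x)).symm (IsoNat.cls y) := hx
      rw [this, Equiv.apply_symm_apply]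
    have h4 : IsoNat.cls yt' = IsoNat.cls y' := cls_eq_of_lifts h𝒴 g yt' y' yt y bt b hbt hb h3
    refine ⟨⟨x'', hx''⟩, ⟨x, rfl⟩, a, ha, ?_, ?_⟩
    · rw [← h4, ← h1, Equiv.symm_apply_apply]
    · exact hx.symm

end Symm

section Pts
variable {𝒳 𝒴 : AlgSt.Cat S}

lemma ptsMap_eq_mk (φ : IsoNat.FIso 𝒳 𝒴) (p : FPt 𝒳) (y : 𝒴.p.Fiber (Over.mk p.str))
    (h : φ.toEquiv _ (IsoNat.cls (fibObj p)) = IsoNat.cls y) :
    ptsMap φ (Points.mk p) = Points.mk (ofFib p.K p.str y) := by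
  rw [ptsMap_mk]
  apply Points.sound
  exact rel_of_iso p.K p.str _ _ ((cls_rep φ p).symm.trans h)

theorem ptsMap_fsymm_ptsMap (h𝒳 : FibCat.IsFibGrpd 𝒳.p) (h𝒴 : FibCat.IsFibGrpd 𝒴.p)
    (φ : IsoNat.FIso 𝒳 𝒴) (z : Points 𝒳) : ptsMap (fsymm h𝒳 h𝒴 φ) (ptsMap φ z) = z := by
  obtain ⟨p, rfl⟩ := Points.mk_surjective z
  rw [ptsMap_mk]
  have h : (fsymm h𝒳 h𝒴 φ).toEquiv _ (IsoNat.cls (fibObj (tr φ p))) = IsoNat.cls (fibObj p) := by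
    change (φ.toEquiv _).symm (IsoNat.cls (rep φ p)) = _
    rw [← cls_rep, Equiv.symm_apply_apply]
  exact ptsMap_eq_mk (fsymm h𝒳 h𝒴 φ) (tr φ p) (fibObj p) h

theorem ptsMap_ptsMap_fsymm (h𝒳 : FibCat.IsFibGrpd 𝒳.p) (h𝒴 : FibCat.IsFibGrpd 𝒴.p)
    (φ : IsoNat.FIso 𝒳 𝒴) (z : Points 𝒴) : ptsMap φ (ptsMap (fsymm h𝒳 h𝒴 φ) z) = z := by
  obtain ⟨p, rfl⟩ := Points.mk_surjective z
  rw [ptsMap_mk]
  have h : φ.toEquiv _ (IsoNat.cls (fibObj (tr (fsymm h𝒳 h𝒴 φ) p))) = IsoNat.cls (fibObj p) := by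
    change φ.toEquiv _ (IsoNat.cls (rep (fsymm h𝒳 h𝒴 φ) p)) = _
    rw [← cls_rep]
    exact Equiv.apply_symm_apply _ _
  exact ptsMap_eq_mk φ (tr (fsymm h𝒳 h𝒴 φ) p) (fibObj p) h

/-- the bijection on points induced by an isomorphism of presheaves of isomorphism classes -/
def ptsEquiv (h𝒳 : FibCat.IsFibGrpd 𝒳.p) (h𝒴 : FibCat.IsFibGrpd 𝒴.p) (φ : IsoNat.FIso 𝒳 𝒴) :
    Points 𝒳 ≃ Points 𝒴 where
  toFun := ptsMap φ
  invFun := ptsMap (fsymm h𝒳 h𝒴 φ)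
  left_inv := ptsMap_fsymm_ptsMap h𝒳 h𝒴 φ
  right_inv := ptsMap_ptsMap_fsymm h𝒳 h𝒴 φ

/-- compatibility with charts -/
theorem ptsMap_ofChart (h𝒴 : FibCat.IsFibGrpd 𝒴.p) (φ : IsoNat.FIso 𝒳 𝒴) {U : Over S}
    (x : FibCat.overCat U ⥤ᵇ 𝒳) (y : FibCat.overCat U ⥤ᵇ 𝒴)
    (h : φ.toEquiv U (IsoNat.objCls x) = IsoNat.objCls y) (t : ↥U.left) :
    ptsMap φ (Points.ofChart x t) = Points.ofChart y t := by
  let j : Over U := Over.mk (Over.homMk (U.left.fromSpecResidueField t) rfl :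
    Over.mk (U.left.fromSpecResidueField t ≫ U.hom) ⟶ U)
  let p : FPt 𝒳 := { K := ↥(U.left.residueField t), str := U.left.fromSpecResidueField t ≫ U.hom,
                     obj := x.obj j, lies := x.w_obj _ }
  let q : FPt 𝒴 := { K := ↥(U.left.residueField t), str := U.left.fromSpecResidueField t ≫ U.hom,
                     obj := y.obj j, lies := y.w_obj _ }
  change ptsMap φ (Points.mk p) = Points.mk q
  have ha : 𝒳.p.IsHomLift j.hom (x.toFunctor.map (tOf j)) := map_tOf_lift x j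
  obtain ⟨y', y₁, b, hb, h1, h2⟩ := φ.natural j.hom (fibObj p)
    ⟨x.obj (Over.mk (𝟙 U)), x.w_obj _⟩ (x.toFunctor.map (tOf j)) ha
  have hb₂ : 𝒴.p.IsHomLift j.hom (y.toFunctor.map (tOf j)) := map_tOf_lift y j
  have h3 : IsoNat.cls y₁ = IsoNat.cls (⟨y.obj (Over.mk (𝟙 U)), y.w_obj _⟩ : 𝒴.p.Fiber U) :=
    h2.symm.trans h
  have h4 : IsoNat.cls y' = IsoNat.cls (fibObj q) :=
    cls_eq_of_lifts h𝒴 j.hom y' (fibObj q) y₁ ⟨y.obj (Over.mk (𝟙 U)), y.w_obj _⟩ b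
      (y.toFunctor.map (tOf j)) hb hb₂ h3
  exact ptsMap_eq_mk φ p (fibObj q) (h1.trans h4)

/-- every class over `U` is the class of a chart -/
theorem exists_chart_objCls (h𝒴 : FibCat.IsFibGrpd 𝒴.p) {U : Over S} (c : IsoNat.IsoCl 𝒴 U) :
    ∃ y : FibCat.overCat U ⥤ᵇ 𝒴, IsoNat.objCls y = c := by
  have : 𝒴.p.IsFibered := Groth.Agent.Lib.Helper24.FibGrpd.isFibered_of_isFibGrpd 𝒴.p h𝒴
  obtain ⟨y₀, rfl⟩ := Quotient.exists_rep c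
  exact ⟨pbBased y₀.2, Quotient.sound ⟨evalIso y₀⟩⟩

theorem continuous_ptsMap (h𝒳 : AlgSt.IsAlgStack Scheme.fppfPrecoverage 𝒳)
    (h𝒴 : AlgSt.IsAlgStack Scheme.fppfPrecoverage 𝒴) (φ : IsoNat.FIso 𝒳 𝒴) :
    Continuous (ptsMap φ) := by
  rw [continuous_def]
  intro W hW U x _
  obtain ⟨y, hy⟩ := exists_chart_objCls h𝒴.isStack.1 (φ.toEquiv U (IsoNat.objCls x))
  have e : Points.ofChart x ⁻¹' (ptsMap φ ⁻¹' W) = Points.ofChart y ⁻¹' W := by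
    ext t
    simp only [Set.mem_preimage]
    rw [ptsMap_ofChart h𝒴.isStack.1 φ x y hy.symm t]
  rw [e]
  exact hW.preimage (continuous_ofChart h𝒴 y)

/-- the homeomorphism of spaces of points induced by an isomorphism of presheaves of isomorphism
classes -/
def ptsHomeo (h𝒳 : AlgSt.IsAlgStack Scheme.fppfPrecoverage 𝒳)
    (h𝒴 : AlgSt.IsAlgStack Scheme.fppfPrecoverage 𝒴) (φ : IsoNat.FIso 𝒳 𝒴) :
    Points 𝒳 ≃ₜ Points 𝒴 where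
  toEquiv := ptsEquiv h𝒳.isStack.1 h𝒴.isStack.1 φ
  continuous_toFun := continuous_ptsMap h𝒳 h𝒴 φ
  continuous_invFun := continuous_ptsMap h𝒴 h𝒳 (fsymm h𝒳.isStack.1 h𝒴.isStack.1 φ)

theorem isQuasiCompact_of_fIso (h𝒳 : AlgSt.IsAlgStack Scheme.fppfPrecoverage 𝒳)
    (h𝒴 : AlgSt.IsAlgStack Scheme.fppfPrecoverage 𝒴) (φ : IsoNat.FIso 𝒳 𝒴)
    (hqc : AlgSt.IsQuasiCompact 𝒳) : AlgSt.IsQuasiCompact 𝒴 := by
  rw [isQuasiCompact_iff_compactSpace h𝒳] at hqc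
  rw [isQuasiCompact_iff_compactSpace h𝒴]
  exact (ptsHomeo h𝒳 h𝒴 φ).compactSpace

end Pts

end Groth.Agent.Lib.Helper24.IsoNatTop
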