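import Mathlib.RingTheory.LaurentSeries
import Mathlib.RingTheory.Idempotents
import Mathlib.RingTheory.PowerSeries.Inverse

set_option autoImplicit false

namespace Groth.Agent.Lib.Helper24

universe u

open HahnSeries

section
variable {R : Type u} [CommRing R]

/-- coefficientwise map of Laurent series as a ring hom -/
noncomputable def lsMap {S : Type*} [CommRing S] (f : R →+* S) : LaurentSeries R →+* LaurentSeries S where
  toFun x := x.map f
  map_one' := HahnSeries.map_one f.toMonoidWithZeroHom
  map_mul' x y := HahnSeries.map_mul (f : R →ₙ+* S)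
  map_zero' := by ext; simp
  map_add' x y := by ext; simp

lemma lsMap_apply {S : Type*} [CommRing S] (f : R →+* S) (x : LaurentSeries R) :
    lsMap f x = x.map f := rfl

@[simp] lemma lsMap_coeff {S : Type*} [CommRing S] (f : R →+* S) (x : LaurentSeries R) (n : ℤ) :
    (lsMap f x).coeff n = f (x.coeff n) := by
  rw [lsMap_apply, HahnSeries.map_coeff]

lemma lsMap_C {S : Type*} [CommRing S] (f : R →+* S) (r : R) :
    lsMap f (HahnSeries.C r) = HahnSeries.C (f r) := by
  rw [lsMap_apply, HahnSeries.map_C]

lemma coeff_mul_mem (I J : Ideal R) (x y : LaurentSeries R) (hx : ∀ n, x.coeff n ∈ I)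
    (hy : ∀ n, y.coeff n ∈ J) (n : ℤ) : (x * y).coeff n ∈ I * J := by
  rw [HahnSeries.coeff_mul]
  exact Ideal.sum_mem _ (fun ij _ => Ideal.mul_mem_mul (hx _) (hy _))

lemma coeff_pow_mem (I : Ideal R) (x : LaurentSeries R) (hx : ∀ n, x.coeff n ∈ I) (m : ℕ) :
    ∀ n, (x ^ m).coeff n ∈ I ^ m := by
  induction m with
  | zero => intro n; simp
  | succ m ih =>
    intro n
    rw [pow_succ, pow_succ]
    exact coeff_mul_mem _ _ _ _ ih hx n

/-- a Laurent series without negative coefficients is a power series -/
lemma exists_powerSeries_of_nonneg (x : LaurentSeries R) (hx : ∀ n < 0, x.coeff n = 0) :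
    ∃ p : PowerSeries R, HahnSeries.ofPowerSeries ℤ R p = x := by
  refine ⟨PowerSeries.mk (fun n => x.coeff n), ?_⟩
  ext n
  have := PowerSeries.coeff_coe (PowerSeries.mk (fun n => x.coeff (n : ℤ))) n
  rw [this]
  split_ifs with h
  · exact (hx n h).symm
  · rw [PowerSeries.coeff_mk]
    congr 1
    push Not at h
    exact Int.natAbs_of_nonneg h

/-- idempotent power series are constant -/
lemma powerSeries_idem (p : PowerSeries R) (hp : IsIdempotentElem p) :
    p = PowerSeries.C (PowerSeries.constantCoeff p) := by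
  set c := PowerSeries.constantCoeff p
  have hc : IsIdempotentElem c := hp.map PowerSeries.constantCoeff
  have hC : IsIdempotentElem (PowerSeries.C c : PowerSeries R) := hc.map (PowerSeries.C)
  set q := p - PowerSeries.C c with hq
  have hq3 : q ^ 3 = q := by
    have h1 : p * p = p := hp
    have h2 : (PowerSeries.C c : PowerSeries R) * PowerSeries.C c = PowerSeries.C c := hC
    rw [hq]
    have : (p - PowerSeries.C c) ^ 3 = p * p * p - 3 * (p * p) * PowerSeries.C c +
        3 * p * (PowerSeries.C c * PowerSeries.C c) - PowerSeries.C c * PowerSeries.C c * PowerSeries.C c := by ring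
    rw [this, h1, h1, h2, h2]
    ring
  have hq0 : PowerSeries.constantCoeff q = 0 := by
    rw [hq, map_sub, PowerSeries.constantCoeff_C]; exact sub_self _
  have hu : IsUnit (1 - q ^ 2) := by
    rw [PowerSeries.isUnit_iff_constantCoeff]
    simp [hq0]
  have hz : q * (1 - q ^ 2) = 0 := by
    have : q * (1 - q ^ 2) = q - q ^ 3 := by ring
    rw [this, hq3, sub_self]
  have : q = 0 := by
    have := congrArg (· * (hu.unit⁻¹ : (PowerSeries R)ˣ).val) hz
    simpa [mul_assoc] using this
  rw [hq, sub_eq_zero] at this
  exact this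

lemma nonneg_idem (x : LaurentSeries R) (hx : ∀ n < 0, x.coeff n = 0) (hi : IsIdempotentElem x) :
    x = HahnSeries.C (x.coeff 0) ∧ IsIdempotentElem (x.coeff 0) := by
  obtain ⟨p, rfl⟩ := exists_powerSeries_of_nonneg x hx
  have hp : IsIdempotentElem p := by
    apply HahnSeries.ofPowerSeries_injective (Γ := ℤ)
    rw [map_mul]; exact hi
  have h0 : (HahnSeries.ofPowerSeries ℤ R p).coeff 0 = PowerSeries.constantCoeff p := by
    have := PowerSeries.coeff_coe p 0
    simpa using this
  rw [h0]
  refine ⟨?_, hp.map PowerSeries.constantCoeff⟩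
  conv_lhs => rw [powerSeries_idem p hp]
  exact HahnSeries.ofPowerSeries_C _
end

end Groth.Agent.Lib.Helper24
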