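import Groth.Agent.Lib.Helper24.AlgSpSmLocal
import Groth.Agent.Helper19.AlgSpLci1
set_option autoImplicit false

/-!
# `AlgSp.IsLCIMor` is smooth local on source-and-target (helper24)
-/

universe u
open CategoryTheory CategoryTheory.Limits AlgebraicGeometry Opposite Topology

namespace Groth.Agent.Lib.Helper24.LciSmLocal

open AlgSp Groth.Agent.Lib.Helper14.ESL Groth.Agent.Lib.Helper14.AS
open Groth.Agent.Lib.Helper24.SmSrc Groth.Agent.Lib.Helper24.AlgSpSmLocal
open Groth.Agent.Helper19.AlgSpLci Groth.Agent.Lib.Helper16.KzComp Groth.Agent.Helper19.LciMor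

variable {S : Scheme.{u}}

/-- stability under smooth base change, for morphisms of schemes -/
def StableSmBC (P : MorphismProperty Scheme.{u}) : Prop :=
  ∀ ⦃A B A' B' : Scheme.{u}⦄ (f : A ⟶ B) (g : B' ⟶ B) (f' : A' ⟶ B') (g' : A' ⟶ A),
    IsPullback g' f' f g → Smooth g → P f → P f'

set_option backward.isDefEq.respectTransparency.types false in
/-- `LocP P` is stable under smooth base change (for `P` etale local and stable under smooth base
change). -/
theorem locP_baseChange_smooth {P : MorphismProperty Scheme.{u}} (hP : EtLocal P)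
    (hPsm : StableSmBC P) {X Y Y' X' : Sp S} (hX : IsAlgSpace X) (hY : IsAlgSpace Y)
    (hY' : IsAlgSpace Y') (f : X ⟶ Y) (g : Y' ⟶ Y) (fst : X' ⟶ X) (f' : X' ⟶ Y')
    (sq : IsPullback fst f' f g) (hg : LocP @Smooth g) (hf : LocP P f) : LocP P f' := by
  obtain ⟨V, b, hbe, hbs⟩ := hY.atlas
  obtain ⟨U, a, h, hae, has, comm⟩ := exists_chart_diagram hX f b hbe hbs
  have hh : P h.left := hf a b h hae hbe comm
  obtain ⟨V'₀, b'₀, hb'e, hb's⟩ := hY'.atlas
  have sqV := hbe.rep.isPullback (b'₀ ≫ g)
  have hv'e : Etale (hbe.rep.snd (b'₀ ≫ g)).left := hbe.property_snd _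
  obtain ⟨w, hw⟩ := (yon S).map_surjective (hbe.rep.fst (b'₀ ≫ g))
  rw [← hw] at sqV
  have hb' : RepWith @Etale ((yon S).map (hbe.rep.snd (b'₀ ≫ g)) ≫ b'₀) :=
    repWith_comp _ ((repWith_yon_map_iff _ _).2 hv'e) hb'e
  have hwsm : Smooth w.left := hg _ b w hb' hbe (by rw [Category.assoc]; exact sqV.w.symm)
  have sqU := IsPullback.of_hasPullback h w
  have hh' : P (pullback.snd h w).left :=
    hPsm h.left w.left (pullback.snd h w).left (pullback.fst h w).left
      (sqU.map (Over.forget S)) hwsm hh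
  have big := (sqU.map (yon S)).flip.paste_horiz sqV.flip
  rw [← comm] at big
  have sqM := IsPullback.of_hasPullback f' b'₀
  have R := sqM.paste_horiz sq
  have hc : ((yon S).map (pullback.fst h w) ≫ a) ≫ f =
      ((yon S).map (pullback.snd h w) ≫ (yon S).map (hbe.rep.snd (b'₀ ≫ g))) ≫ b'₀ ≫ g := by
    rw [Category.assoc]; exact big.w.symm
  have hμ2 : R.lift _ _ hc ≫ pullback.snd f' b'₀ =
      (yon S).map (pullback.snd h w) ≫ (yon S).map (hbe.rep.snd (b'₀ ≫ g)) := R.lift_snd _ _ _
  have hμ1 : R.lift _ _ hc ≫ pullback.fst f' b'₀ ≫ fst = (yon S).map (pullback.fst h w) ≫ a :=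
    R.lift_fst _ _ _
  have left : IsPullback (R.lift _ _ hc) ((yon S).map (pullback.fst h w))
      (pullback.fst f' b'₀ ≫ fst) a := by
    refine IsPullback.of_right ?_ hμ1 R.flip
    rw [hμ2]
    exact big
  have hμe : RepWith @Etale (R.lift _ _ hc) :=
    MorphismProperty.of_isPullback (P := RepWith @Etale) left.flip hae
  have hμs : RepWith @Surjective (R.lift _ _ hc) :=
    MorphismProperty.of_isPullback (P := RepWith @Surjective) left.flip has
  have hm1e : RepWith @Etale (pullback.fst f' b'₀) :=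
    MorphismProperty.of_isPullback (P := RepWith @Etale) sqM.flip hb'e
  have hm1s : RepWith @Surjective (pullback.fst f' b'₀) :=
    MorphismProperty.of_isPullback (P := RepWith @Surjective) sqM.flip hb's
  refine locP_of_chart hP f' (R.lift _ _ hc ≫ pullback.fst f' b'₀)
    ((yon S).map (hbe.rep.snd (b'₀ ≫ g)) ≫ b'₀) (pullback.snd h w)
    (repWith_comp _ hμe hm1e) (repWith_comp _ hμs hm1s) hb' ?_ hh'
  rw [Category.assoc, sqM.w, ← Category.assoc, hμ2, Category.assoc]

/-- `LocP Q` is smooth local on source-and-target, for `Q` stable under smooth base change -/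
theorem isSmoothLocalST_locP' {Q : MorphismProperty Scheme.{u}} (hQ : SmLocal Q)
    [Q.IsStableUnderComposition] [IsZariskiLocalAtSource Q] (hQsm : StableSmBC Q) :
    IsSmoothLocalST (LocP Q (S := S)) where
  precomp X Y Z hX hY hZ f g hf hg := locP_comp hQ.etl hX hY hZ f g (locP_mono hQ.le hf) hg
  baseChange X Y X' Y' hX hY hX' hY' f g f' g' sq hg hf :=
    locP_baseChange_smooth hQ.etl hQsm hX hY hY' f g g' f' sq hg hf
  locality X Y hX hY f := by
    refine ⟨fun hf x => ⟨X, Y, 𝟙 X, 𝟙 Y, f, x, hX, hY, locP_smooth_id X, locP_smooth_id Y,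
      by simp, Points.map_id _, hf⟩, locP_of_smooth_squares hQ hX hY f⟩

theorem lci_eq : (AlgSp.lci : MorphismProperty Scheme.{u}) = LCIMor.{u} := by
  ext X Y f
  exact lci_iff f

instance : (AlgSp.lci : MorphismProperty Scheme.{u}).IsStableUnderComposition := by
  rw [lci_eq]; infer_instance

instance : IsZariskiLocalAtSource (AlgSp.lci : MorphismProperty Scheme.{u}) := by
  rw [lci_eq]; infer_instance

theorem smLocal_lci : SmLocal AlgSp.lci.{u} where
  etl := etLocal_lci
  src := fun _ _ _ p h hp hs hph => lci_of_smooth_comp p h hp hs hph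
  le := fun _ _ f hf => by
    have : Smooth f := hf
    exact lci_of_smooth f

theorem stableSmBC_lci : StableSmBC AlgSp.lci.{u} := by
  intro A B A' B' f g f' g' sq hg hf
  have hg' : Smooth g' := MorphismProperty.of_isPullback (P := @Smooth) sq.flip hg
  have h1 : AlgSp.lci (g' ≫ f) := lci_comp g' f (lci_of_smooth g') hf
  rw [sq.w] at h1
  exact lci_of_comp_smooth f' g h1 hg

theorem isSmoothLocalST_isLCIMor : IsSmoothLocalST (AlgSp.IsLCIMor (S := S)) :=
  isSmoothLocalST_locP' smLocal_lci stableSmBC_lci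

end Groth.Agent.Lib.Helper24.LciSmLocal
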