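import Groth.Prelude.Def_W4stk3spdivLocPr
import Groth.Prelude.Def_AlgSp3
import Groth.Agent.Lib.Helper14.FinDimFun
import Groth.Agent.S8853
import Groth.Agent.S0082

/-!
# The complement of a locally principal closed subspace is affine over the space (helper24)
-/

set_option autoImplicit false
universe u

open CategoryTheory CategoryTheory.Limits AlgebraicGeometry Opposite AlgSp
open Groth.Agent.Lib.Helper14.AS

namespace Groth.Agent.Lib.Helper24.LocPrincAff

variable {S : Scheme.{u}}

/-- The range of the projection of a pullback to a scheme chart, in terms of points. -/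
theorem range_snd_of_isPullback {F G : Sp S} {T W : Over S}
    {fst : (yon S).obj W ⟶ F} {snd : W ⟶ T} {f : F ⟶ G} {g : (yon S).obj T ⟶ G}
    (sq : IsPullback fst ((yon S).map snd) f g) :
    Set.range snd.left = {t | Points.ofPt g t ∈ Set.range (Points.map f)} := by
  ext t
  constructor
  · rintro ⟨w, rfl⟩
    refine ⟨Points.ofPt fst w, ?_⟩
    rw [Points.map_ofPt, sq.w, ofPt_yon_map_comp]
  · rintro ⟨x, hx⟩
    obtain ⟨w, -, hw⟩ := exists_point_of_isPullback_yon_right sq x t hx
    exact ⟨w, hw⟩

set_option backward.isDefEq.respectTransparency.types false in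
theorem isAffineMor_compl {X Z U : Sp S} (i : Z ⟶ X) (hZ : IsLocPrincipalSub i) (j : U ⟶ X)
    (hj : RepWith @IsOpenImmersion j)
    (hU : Set.range (Points.map j) = (Set.range (Points.map i))ᶜ) : IsAffineMor j := by
  obtain ⟨hi, V, φ, I, fstI, hφe, hφs, sqI, hI⟩ := hZ
  intro T hT g
  have hjrep := hj.rep
  have sqW := hjrep.isPullback g
  refine ⟨hjrep.pullback g, hjrep.snd g, hjrep.fst g, sqW, ?_⟩
  have hopen : IsOpenImmersion (hjrep.snd g).left := hj.property_snd g
  suffices h : IsAffineHom (hjrep.snd g).left from isAffine_of_isAffineHom (hjrep.snd g).left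
  -- the étale cover T' of T
  have hφrep := hφe.rep
  have sqT := hφrep.isPullback' g
  have hbe : Etale (hφrep.snd g).left := hφe.property_snd g
  have hbs : Surjective (hφrep.snd g).left := hφs.property_snd g
  set a := hφrep.fst' g with ha
  set b := hφrep.snd g with hb
  set i' := hjrep.snd g with hi'
  haveI := Groth.Agent.S0082.result.{u}
  refine MorphismProperty.of_isPullback_of_descendsAlong (P := @IsAffineHom)
    (Q := (@Surjective ⊓ @Flat ⊓ @LocallyOfFinitePresentation : MorphismProperty Scheme.{u}))
    (IsPullback.of_hasPullback i'.left b.left).flip ⟨⟨hbs, inferInstance⟩, inferInstance⟩ ?_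
  -- the base change is the complement of the pulled-back ideal
  have hrange : Set.range (pullback.snd i'.left b.left) =
      ((a.left ⁻¹ᵁ I.support.compl : (hφrep.pullback g).left.Opens) : Set _) := by
    rw [Scheme.Pullback.range_snd, range_snd_of_isPullback sqW]
    ext t'
    have e1 : Points.ofPt g (b.left t') = Points.ofPt φ (a.left t') := by
      rw [← ofPt_yon_map_comp, ← ofPt_yon_map_comp, sqT.w]
    have e2 := range_snd_of_isPullback sqI
    have e3 : a.left t' ∈ I.support ↔ Points.ofPt φ (a.left t') ∈ Set.range (Points.map i) := by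
      have e4 : (I.support : Set V.left) = {t | Points.ofPt φ t ∈ Set.range (Points.map i)} := by
        rw [← Scheme.IdealSheafData.range_subschemeι]
        exact e2
      change a.left t' ∈ (I.support : Set V.left) ↔ _
      rw [e4]
      rfl
    simp only [Set.mem_preimage, Set.mem_ofPred_eq, hU, Set.mem_compl_iff, e1]
    change _ ↔ a.left t' ∉ I.support
    rw [e3]
  have haff0 : IsAffineHom (Scheme.Opens.ι I.support.compl) := Groth.Agent.S8853.result I hI
  have haff1 : IsAffineHom (a.left ⁻¹ᵁ I.support.compl).ι :=
    MorphismProperty.of_isPullback (P := @IsAffineHom)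
      (isPullback_morphismRestrict a.left I.support.compl) haff0
  have hr2 : Set.range (pullback.snd i'.left b.left) =
      Set.range (a.left ⁻¹ᵁ I.support.compl).ι := by
    rw [hrange, Scheme.Opens.range_ι]
  have hfac := IsOpenImmersion.isoOfRangeEq_hom_fac (pullback.snd i'.left b.left)
    (a.left ⁻¹ᵁ I.support.compl).ι hr2
  rw [← hfac]
  exact (MorphismProperty.cancel_left_of_respectsIso (P := @IsAffineHom) _ _).2 haff1

end Groth.Agent.Lib.Helper24.LocPrincAff
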