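import Mathlib
set_option autoImplicit false
universe w v u
open CategoryTheory Opposite

/-! A presheaf of sets which is a sheaf for a coarser topology `Jz` and is covered, locally for a
finer topology `JJ`, by subpresheaves that are `JJ`-sheaves, is a `JJ`-sheaf, provided membership
in the subpresheaves descends along `JJ`-coverings and `JJ`-coverings by unions of sieves are
`Jz`-locally refined by a single member. -/

namespace Groth.Agent.Lib.Helper24.LocSubsheaf

variable {C : Type u} [Category.{v} C] (Jz JJ : GrothendieckTopology C)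
variable (F : Cᵒᵖ ⥤ Type w) {ι : Type*} (Fi : ι → Cᵒᵖ ⥤ Type w) (m : ∀ i, Fi i ⟶ F)

/-- the sieve of arrows along which `x` restricts into `F_i` -/
def memSieve {T : C} (x : F.obj (op T)) (i : ι) : Sieve T where
  arrows V e := F.map e.op x ∈ Set.range ((m i).app (op V))
  downward_closed := by
    rintro V V' e ⟨a, ha⟩ k
    refine ⟨(Fi i).map k.op a, ?_⟩
    rw [NatTrans.naturality_apply, ha, op_comp, Functor.map_comp_apply]

/-- union of a family of sieves -/
def unionSieve {T : C} (Ri : ι → Sieve T) : Sieve T where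
  arrows V e := ∃ i, Ri i e
  downward_closed := by
    rintro V V' e ⟨i, hi⟩ k
    exact ⟨i, (Ri i).downward_closed hi k⟩

/-- arrows along which some single member of the family becomes covering -/
def locSieve {T : C} (Ri : ι → Sieve T) : Sieve T where
  arrows V e := ∃ i, (Ri i).pullback e ∈ JJ V
  downward_closed := by
    rintro V V' e ⟨i, hi⟩ k
    refine ⟨i, ?_⟩
    rw [Sieve.pullback_comp]
    exact JJ.pullback_stable k hi

structure Hyp : Prop where
  hle : Jz ≤ JJ
  sheafF : Presieve.IsSheaf Jz F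
  inj : ∀ i T, Function.Injective ((m i).app T)
  sheafFi : ∀ i, Presieve.IsSheaf JJ (Fi i)
  desc : ∀ i {T : C} (x : F.obj (op T)) (R : Sieve T), R ∈ JJ T → R ≤ memSieve F Fi m x i →
    x ∈ Set.range ((m i).app (op T))
  geo : ∀ {T : C} (Ri : ι → Sieve T), unionSieve Ri ∈ JJ T → locSieve JJ Ri ∈ Jz T
  loc : ∀ {T : C} (x : F.obj (op T)), unionSieve (memSieve F Fi m x) ∈ JJ T

/-- members of a compatible family lying in `F_i` -/
def famSieve {T : C} (R : Sieve T) (x : Presieve.FamilyOfElements F R.arrows)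
    (hx : x.SieveCompatible) (i : ι) : Sieve T where
  arrows W c := ∃ hc : R c, x c hc ∈ Set.range ((m i).app (op W))
  downward_closed := by
    rintro W W' c ⟨hc, a, ha⟩ g
    refine ⟨R.downward_closed hc g, (Fi i).map g.op a, ?_⟩
    rw [NatTrans.naturality_apply, ha, hx c g hc]

variable {Jz JJ F Fi m}

lemma fam_congr {T : C} {R : Presieve T} (x : Presieve.FamilyOfElements F R) {V : C}
    {f f' : V ⟶ T} (h : f = f') (hf : R f) : x f hf = x f' (h ▸ hf) := by
  subst h; rfl

/-- Zariski-local membership -/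
theorem zmem (H : Hyp Jz JJ F Fi m) {T : C} (x : F.obj (op T)) :
    unionSieve (memSieve F Fi m x) ∈ Jz T := by
  refine Jz.superset_covering ?_ (H.geo _ (H.loc x))
  rintro V e ⟨i, hi⟩
  refine ⟨i, ?_⟩
  refine H.desc i (F.map e.op x) _ hi ?_
  intro W d hd
  change F.map d.op (F.map e.op x) ∈ _
  rw [← Functor.map_comp_apply, ← op_comp]
  exact hd

/-- separatedness for the fine topology -/
theorem sep (H : Hyp Jz JJ F Fi m) {T : C} (R : Sieve T) (hR : R ∈ JJ T) (x y : F.obj (op T))
    (h : ∀ ⦃W : C⦄ (c : W ⟶ T), R c → F.map c.op x = F.map c.op y) : x = y := by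
  refine ((H.sheafF _ (zmem H x)).isSeparatedFor).ext ?_
  rintro V e ⟨i, a, ha⟩
  have key : ∀ ⦃W : C⦄ (d : W ⟶ V), R (d ≫ e) →
      F.map d.op (F.map e.op x) = F.map d.op (F.map e.op y) := by
    intro W d hd
    rw [← Functor.map_comp_apply, ← Functor.map_comp_apply, ← op_comp]
    exact h _ hd
  have hy : F.map e.op y ∈ Set.range ((m i).app (op V)) := by
    refine H.desc i _ (R.pullback e) (JJ.pullback_stable e hR) ?_
    intro W d hd
    refine ⟨(Fi i).map d.op a, ?_⟩
    rw [NatTrans.naturality_apply, ha]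
    exact key d hd
  obtain ⟨b, hb⟩ := hy
  have hab : a = b := by
    refine ((H.sheafFi i _ (JJ.pullback_stable e hR)).isSeparatedFor).ext ?_
    intro W d hd
    apply H.inj i
    rw [NatTrans.naturality_apply, NatTrans.naturality_apply, ha, hb]
    exact key d hd
  rw [← ha, ← hb, hab]

section Amalg
variable (H : Hyp Jz JJ F Fi m) {T : C} (R : Sieve T) (hR : R ∈ JJ T)
  (x : Presieve.FamilyOfElements F R.arrows) (hx : x.SieveCompatible)

include H hR in
lemma union_famSieve_mem : unionSieve (famSieve F Fi m R x hx) ∈ JJ T := by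
  refine JJ.superset_covering ?_ (JJ.bind_covering hR
    (R := fun W c hc => unionSieve (memSieve F Fi m (x c hc))) fun W c hc => H.loc (x c hc))
  rintro W h ⟨Y, g, c, hc, ⟨i, hi⟩, rfl⟩
  refine ⟨i, R.downward_closed hc g, ?_⟩
  rw [hx c g hc]
  exact hi

/-- arrows over which the family is glued -/
def glueSieve : Sieve T where
  arrows V e := ∃ y : F.obj (op V), ∀ ⦃V' : C⦄ (h : V' ⟶ V) (hh : R (h ≫ e)),
    F.map h.op y = x (h ≫ e) hh
  downward_closed := by
    rintro V V'' e ⟨y, hy⟩ k
    refine ⟨F.map k.op y, fun V' h hh => ?_⟩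
    rw [← Functor.map_comp_apply, ← op_comp]
    have hh' : R ((h ≫ k) ≫ e) := by rw [Category.assoc]; exact hh
    rw [hy (h ≫ k) hh']
    exact fam_congr x (Category.assoc _ _ _) hh'

include H hR hx in
lemma glueSieve_mem : glueSieve R x ∈ Jz T := by
  refine Jz.superset_covering ?_ (H.geo _ (union_famSieve_mem H R hR x hx))
  rintro V e ⟨i, hSc⟩
  -- the family in `F_i`
  let Sc : Sieve V := (famSieve F Fi m R x hx i).pullback e
  have hSc' : Sc ∈ JJ V := hSc
  have hmem : ∀ ⦃W : C⦄ (d : W ⟶ V) (hd : Sc d), ∃ a : (Fi i).obj (op W),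
      (m i).app (op W) a = x (d ≫ e) hd.1 := fun W d hd => hd.2
  choose fam hfam using hmem
  let famE : Presieve.FamilyOfElements (Fi i) Sc.arrows := fun W d hd => fam d hd
  have hcompat : famE.Compatible := by
    refine (Presieve.compatible_iff_sieveCompatible famE).2 ?_
    intro W W' f g hf
    apply H.inj i
    change (m i).app _ (fam (g ≫ f) _) = (m i).app _ ((Fi i).map g.op (fam f hf))
    rw [hfam, NatTrans.naturality_apply, hfam, ← hx (f ≫ e) g hf.1]
    exact fam_congr x (Category.assoc _ _ _) _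
  let σ := (H.sheafFi i Sc hSc').amalgamate famE hcompat
  have hσ : ∀ ⦃W : C⦄ (d : W ⟶ V) (hd : Sc d), (Fi i).map d.op σ = fam d hd :=
    fun W d hd => (H.sheafFi i Sc hSc').valid_glue hcompat d hd
  refine ⟨(m i).app (op V) σ, fun V' h hh => ?_⟩
  refine sep H (Sc.pullback h) (JJ.pullback_stable h hSc') _ _ ?_
  intro W k hk
  have hk' : Sc (k ≫ h) := hk
  rw [← Functor.map_comp_apply, ← op_comp, ← NatTrans.naturality_apply, hσ (k ≫ h) hk',
    hfam (k ≫ h) hk', ← hx (h ≫ e) k hh]
  exact fam_congr x (Category.assoc _ _ _) _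

include H hR in
lemma glue_unique {V : C} (e : V ⟶ T) (y y' : F.obj (op V))
    (hy : ∀ ⦃V' : C⦄ (h : V' ⟶ V) (hh : R (h ≫ e)), F.map h.op y = x (h ≫ e) hh)
    (hy' : ∀ ⦃V' : C⦄ (h : V' ⟶ V) (hh : R (h ≫ e)), F.map h.op y' = x (h ≫ e) hh) : y = y' := by
  refine sep H (R.pullback e) (JJ.pullback_stable e hR) y y' ?_
  intro W h hh
  rw [hy h hh, hy' h hh]

include H hR hx in
theorem exists_amalgamation : ∃ s, x.IsAmalgamation s := by
  have hZ := glueSieve_mem H R hR x hx
  have hspec : ∀ ⦃V : C⦄ (e : V ⟶ T) (he : glueSieve R x e), ∃ y : F.obj (op V),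
      ∀ ⦃V' : C⦄ (h : V' ⟶ V) (hh : R (h ≫ e)), F.map h.op y = x (h ≫ e) hh := fun V e he => he
  choose yfam hyfam using hspec
  let yE : Presieve.FamilyOfElements F (glueSieve R x).arrows := fun V e he => yfam e he
  have hcompat : yE.Compatible := by
    refine (Presieve.compatible_iff_sieveCompatible yE).2 ?_
    intro V V'' e k he
    change yfam (k ≫ e) _ = F.map k.op (yfam e he)
    refine glue_unique H R hR x (k ≫ e) _ _ (hyfam (k ≫ e) _) ?_
    intro V' h hh
    rw [← Functor.map_comp_apply, ← op_comp]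
    have hh' : R ((h ≫ k) ≫ e) := by rw [Category.assoc]; exact hh
    rw [hyfam e he (h ≫ k) hh']
    exact fam_congr x (Category.assoc _ _ _) hh'
  let s := (H.sheafF _ hZ).amalgamate yE hcompat
  have hs : ∀ ⦃V : C⦄ (e : V ⟶ T) (he : glueSieve R x e), F.map e.op s = yfam e he :=
    fun V e he => (H.sheafF _ hZ).valid_glue hcompat e he
  refine ⟨s, fun W c hc => ?_⟩
  refine sep H ((glueSieve R x).pullback c) (H.hle _ (Jz.pullback_stable c hZ)) _ _ ?_
  intro V h hh
  rw [← Functor.map_comp_apply, ← op_comp, hs (h ≫ c) hh, ← hx c h hc]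
  have h1 := hyfam (h ≫ c) hh (𝟙 V) (by rw [Category.id_comp]; exact R.downward_closed hc h)
  rw [op_id, Functor.map_id_apply] at h1
  rw [h1]
  exact fam_congr x (Category.id_comp _) _

end Amalg

/-- the main abstract statement -/
theorem isSheaf (H : Hyp Jz JJ F Fi m) : Presieve.IsSheaf JJ F := by
  intro T R hR
  rw [← Presieve.isSeparatedFor_and_exists_isAmalgamation_iff_isSheafFor]
  constructor
  · intro fam t₁ t₂ h₁ h₂
    refine sep H R hR t₁ t₂ fun W c hc => ?_
    rw [h₁ c hc, h₂ c hc]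
  · intro x hx
    exact exists_amalgamation H R hR x ((Presieve.compatible_iff_sieveCompatible x).1 hx)

end Groth.Agent.Lib.Helper24.LocSubsheaf
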