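import Mathlib

set_option backward.isDefEq.respectTransparency false
set_option backward.isDefEq.respectTransparency.types false
set_option autoImplicit false

universe v u

open CategoryTheory CategoryTheory.Limits Opposite Simplicial SimplexCategory

namespace Groth.Agent.Lib.Helper24.MatchObj

/-- If two factorizations through faces `k < l` agree, they come from a common map. -/
theorem exists_common {n : ℕ} {a : SimplexCategory} (φ' φ'' : a ⟶ ⦋n + 1⦌) (i j : Fin (n + 2))
    (hij : i ≤ j) (h : φ' ≫ δ i.castSucc = φ'' ≫ δ j.succ) :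
    ∃ ζ : a ⟶ ⦋n⦌, φ' = ζ ≫ δ j ∧ φ'' = ζ ≫ δ i := by
  have hmiss : ∀ x, φ'.toOrderHom x ≠ j := by
    intro x hx
    have h1 := congrArg (fun θ => θ.toOrderHom x) h
    have h2 : (i.castSucc).succAbove (φ'.toOrderHom x) = (j.succ).succAbove (φ''.toOrderHom x) := h1
    rw [hx] at h2
    have h3 : (i.castSucc).succAbove j = j.succ := by
      apply Fin.succAbove_of_le_castSucc
      exact Fin.castSucc_le_castSucc_iff.2 hij
    rw [h3] at h2
    exact Fin.succAbove_ne _ _ h2.symm
  obtain ⟨ζ, hζ⟩ := eq_comp_δ_of_not_surjective' φ' j hmiss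
  refine ⟨ζ, hζ, ?_⟩
  have : Mono (δ j.succ) := inferInstance
  rw [← cancel_mono (δ j.succ), ← h, hζ, Category.assoc, Category.assoc, δ_comp_δ hij]

section

variable {C : Type u} [Category.{v} C] (n : ℕ) (U : (SimplexCategory.Truncated (n + 1))ᵒᵖ ⥤ C)
  (T : C)
  (π : Fin (n + 3) → (T ⟶ U.obj (op ⟨SimplexCategory.mk (n + 1), (SimplexCategory.len_mk (n + 1)).le⟩)))
  (hπ : ∀ i j : Fin (n + 2), i ≤ j → π (Fin.castSucc i) ≫ U.map (SimplexCategory.Truncated.δ (n + 1) j ((SimplexCategory.len_mk n).trans_le (Nat.le_succ n)) (SimplexCategory.len_mk (n + 1)).le).op = π j.succ ≫ U.map (SimplexCategory.Truncated.δ (n + 1) i ((SimplexCategory.len_mk n).trans_le (Nat.le_succ n)) (SimplexCategory.len_mk (n + 1)).le).op)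

/-- The candidate leg associated to a factorization. -/
def pl {a : SimplexCategory} (ha : a.len ≤ n + 1) (k : Fin (n + 3)) (φ' : a ⟶ ⦋n + 1⦌) :
    T ⟶ U.obj (op ⟨a, ha⟩) :=
  π k ≫ U.map (SimplexCategory.Truncated.Hom.tr φ' ha (SimplexCategory.len_mk (n + 1)).le).op

include hπ in
theorem pl_wd_lt {a : SimplexCategory} (ha : a.len ≤ n + 1) (φ' φ'' : a ⟶ ⦋n + 1⦌)
    (i j : Fin (n + 2)) (hij : i ≤ j) (h : φ' ≫ δ i.castSucc = φ'' ≫ δ j.succ) :
    pl n U T π ha i.castSucc φ' = pl n U T π ha j.succ φ'' := by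
  obtain ⟨ζ, h1, h2⟩ := exists_common φ' φ'' i j hij h
  subst h1 h2
  unfold pl
  have hn : (⦋n⦌ : SimplexCategory).len ≤ n + 1 := (SimplexCategory.len_mk n).trans_le (Nat.le_succ n)
  have e1 : SimplexCategory.Truncated.Hom.tr (ζ ≫ δ j) ha (SimplexCategory.len_mk (n + 1)).le =
      SimplexCategory.Truncated.Hom.tr ζ ha hn ≫
        SimplexCategory.Truncated.δ (n + 1) j hn (SimplexCategory.len_mk (n + 1)).le := rfl
  have e2 : SimplexCategory.Truncated.Hom.tr (ζ ≫ δ i) ha (SimplexCategory.len_mk (n + 1)).le =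
      SimplexCategory.Truncated.Hom.tr ζ ha hn ≫
        SimplexCategory.Truncated.δ (n + 1) i hn (SimplexCategory.len_mk (n + 1)).le := rfl
  rw [e1, e2, op_comp, op_comp, Functor.map_comp, Functor.map_comp, ← Category.assoc,
    ← Category.assoc, hπ i j hij]

include hπ in
theorem pl_wd {a : SimplexCategory} (ha : a.len ≤ n + 1) (φ' φ'' : a ⟶ ⦋n + 1⦌)
    (k l : Fin (n + 3)) (h : φ' ≫ δ k = φ'' ≫ δ l) :
    pl n U T π ha k φ' = pl n U T π ha l φ'' := by
  have key : ∀ (k l : Fin (n + 3)) (φ' φ'' : a ⟶ ⦋n + 1⦌), k < l → φ' ≫ δ k = φ'' ≫ δ l →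
      pl n U T π ha k φ' = pl n U T π ha l φ'' := by
    intro k l φ' φ'' hkl h
    have hk : k.val < n + 2 := by
      have := l.isLt
      have : k.val < l.val := hkl
      omega
    have hl : 0 < l.val := by
      have : k.val < l.val := hkl
      omega
    have ek : k = (⟨k.val, hk⟩ : Fin (n + 2)).castSucc := by
      ext; rfl
    have el : l = (⟨l.val - 1, by have := l.isLt; omega⟩ : Fin (n + 2)).succ := by
      ext
      simp only [Fin.val_succ]
      omega
    rw [ek, el] at h ⊢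
    apply pl_wd_lt n U T π hπ ha φ' φ'' _ _ _ h
    rw [Fin.le_def]
    have : k.val < l.val := hkl
    simp only
    omega
  rcases lt_trichotomy k l with hkl | hkl | hkl
  · exact key k l φ' φ'' hkl h
  · subst hkl
    have : Mono (δ k) := inferInstance
    rw [cancel_mono] at h
    rw [h]
  · exact (key l k φ'' φ' hkl h.symm).symm

end

end Groth.Agent.Lib.Helper24.MatchObj
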