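import Mathlib
import Groth.Agent.Lib.Helper24.MatchA

set_option backward.isDefEq.respectTransparency false
set_option backward.isDefEq.respectTransparency.types false
set_option autoImplicit false

universe v u

open CategoryTheory CategoryTheory.Limits Opposite Simplicial SimplexCategory

namespace Groth.Agent.Lib.Helper24.MatchObj

variable {C : Type u} [Category.{v} C] (n : ℕ) (U : (SimplexCategory.Truncated (n + 1))ᵒᵖ ⥤ C)
  (T : C)
  (π : Fin (n + 3) → (T ⟶ U.obj (op ⟨SimplexCategory.mk (n + 1), (SimplexCategory.len_mk (n + 1)).le⟩)))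
  (hπ : ∀ i j : Fin (n + 2), i ≤ j → π (Fin.castSucc i) ≫ U.map (SimplexCategory.Truncated.δ (n + 1) j ((SimplexCategory.len_mk n).trans_le (Nat.le_succ n)) (SimplexCategory.len_mk (n + 1)).le).op = π j.succ ≫ U.map (SimplexCategory.Truncated.δ (n + 1) i ((SimplexCategory.len_mk n).trans_le (Nat.le_succ n)) (SimplexCategory.len_mk (n + 1)).le).op)

/-- The inclusion functor (opposite). -/
abbrev LL : (SimplexCategory.Truncated (n + 1))ᵒᵖ ⥤ (SimplexCategory.Truncated (n + 2))ᵒᵖ :=
  (SimplexCategory.Truncated.incl (n + 1) (n + 2) (Nat.le_succ _)).op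

/-- The top object. -/
abbrev Ytop : (SimplexCategory.Truncated (n + 2))ᵒᵖ :=
  op ⟨SimplexCategory.mk (n + 2), (SimplexCategory.len_mk (n + 2)).le⟩

/-- Structured arrows from maps. -/
abbrev sa {a : SimplexCategory} (ha : a.len ≤ n + 1) (φ : a ⟶ ⦋n + 2⦌) :
    StructuredArrow (Ytop n) (LL n) :=
  StructuredArrow.mk (Y := op ⟨a, ha⟩)
    (SimplexCategory.Truncated.Hom.tr φ (ha.trans (Nat.le_succ _)) (SimplexCategory.len_mk (n + 2)).le).op

theorem sa_eta (g : StructuredArrow (Ytop n) (LL n)) :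
    g = sa n g.right.unop.property g.hom.unop.hom := rfl

theorem not_surj {a : SimplexCategory} (ha : a.len ≤ n + 1) (φ : a ⟶ ⦋n + 2⦌) :
    ¬ Function.Surjective φ.toOrderHom := by
  intro h
  have h2 := Fintype.card_le_of_surjective _ h
  simp only [Fintype.card_fin] at h2
  have : (⦋n + 2⦌ : SimplexCategory).len = n + 2 := rfl
  omega

/-- Chosen face. -/
noncomputable def fk {a : SimplexCategory} (ha : a.len ≤ n + 1) (φ : a ⟶ ⦋n + 2⦌) : Fin (n + 3) :=
  (eq_comp_δ_of_not_surjective φ (not_surj n ha φ)).choose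

/-- Chosen factorization. -/
noncomputable def fφ {a : SimplexCategory} (ha : a.len ≤ n + 1) (φ : a ⟶ ⦋n + 2⦌) : a ⟶ ⦋n + 1⦌ :=
  (eq_comp_δ_of_not_surjective φ (not_surj n ha φ)).choose_spec.choose

theorem fspec {a : SimplexCategory} (ha : a.len ≤ n + 1) (φ : a ⟶ ⦋n + 2⦌) :
    φ = fφ n ha φ ≫ δ (fk n ha φ) :=
  (eq_comp_δ_of_not_surjective φ (not_surj n ha φ)).choose_spec.choose_spec

/-- The leg. -/
noncomputable def leg {a : SimplexCategory} (ha : a.len ≤ n + 1) (φ : a ⟶ ⦋n + 2⦌) :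
    T ⟶ U.obj (op ⟨a, ha⟩) :=
  pl n U T π ha (fk n ha φ) (fφ n ha φ)

include hπ in
theorem leg_eq {a : SimplexCategory} (ha : a.len ≤ n + 1) (φ : a ⟶ ⦋n + 2⦌) (k : Fin (n + 3))
    (φ' : a ⟶ ⦋n + 1⦌) (h : φ = φ' ≫ δ k) : leg n U T π ha φ = pl n U T π ha k φ' := by
  unfold leg
  apply pl_wd n U T π hπ
  rw [← fspec, h]

include hπ in
theorem leg_δ (k : Fin (n + 3)) :
    leg n U T π (SimplexCategory.len_mk (n + 1)).le (δ k) = π k := by
  rw [leg_eq n U T π hπ _ (δ k) k (𝟙 _) (Category.id_comp _).symm]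
  unfold pl
  have : SimplexCategory.Truncated.Hom.tr (𝟙 (⦋n + 1⦌ : SimplexCategory))
      (SimplexCategory.len_mk (n + 1)).le (SimplexCategory.len_mk (n + 1)).le = 𝟙 _ := rfl
  rw [this, op_id, CategoryTheory.Functor.map_id, Category.comp_id]

include hπ in
theorem leg_comp {a b : SimplexCategory} (ha : a.len ≤ n + 1) (hb : b.len ≤ n + 1)
    (φ : a ⟶ ⦋n + 2⦌) (ψ : b ⟶ a) :
    leg n U T π ha φ ≫ U.map (SimplexCategory.Truncated.Hom.tr ψ hb ha).op =
      leg n U T π hb (ψ ≫ φ) := by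
  rw [leg_eq n U T π hπ hb (ψ ≫ φ) (fk n ha φ) (ψ ≫ fφ n ha φ)
    (by rw [Category.assoc, ← fspec])]
  unfold leg pl
  rw [Category.assoc, ← Functor.map_comp, ← op_comp]
  rfl

/-- The cone at the top object. -/
noncomputable def topCone : Cone (StructuredArrow.proj (Ytop n) (LL n) ⋙ U) where
  pt := T
  π :=
    { app := fun g => leg n U T π g.right.unop.property g.hom.unop.hom
      naturality := fun g g' w => by
        have hw := StructuredArrow.w w
        have e : g'.hom.unop.hom = w.right.unop.hom ≫ g.hom.unop.hom := by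
          rw [← hw]; rfl
        have h := leg_comp n U T π hπ g.right.unop.property g'.right.unop.property
          g.hom.unop.hom w.right.unop.hom
        rw [← e] at h
        erw [Category.id_comp]
        exact h.symm }

end Groth.Agent.Lib.Helper24.MatchObj
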