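import Mathlib
import Groth.Agent.Lib.Helper24.MatchB

set_option backward.isDefEq.respectTransparency false
set_option backward.isDefEq.respectTransparency.types false
set_option autoImplicit false

universe v u

open CategoryTheory CategoryTheory.Limits Opposite Simplicial SimplexCategory

namespace Groth.Agent.Lib.Helper24.MatchObj

variable {C : Type u} [Category.{v} C] (n : ℕ) (U : (SimplexCategory.Truncated (n + 1))ᵒᵖ ⥤ C)
  (T : C)
  (π : Fin (n + 3) → (T ⟶ U.obj (op ⟨SimplexCategory.mk (n + 1), (SimplexCategory.len_mk (n + 1)).le⟩)))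
  (hπ : ∀ i j : Fin (n + 2), i ≤ j → π (Fin.castSucc i) ≫ U.map (SimplexCategory.Truncated.δ (n + 1) j ((SimplexCategory.len_mk n).trans_le (Nat.le_succ n)) (SimplexCategory.len_mk (n + 1)).le).op = π j.succ ≫ U.map (SimplexCategory.Truncated.δ (n + 1) i ((SimplexCategory.len_mk n).trans_le (Nat.le_succ n)) (SimplexCategory.len_mk (n + 1)).le).op)
  (huniv : ∀ (S : C) (g : Fin (n + 3) → (S ⟶ U.obj (op ⟨SimplexCategory.mk (n + 1), (SimplexCategory.len_mk (n + 1)).le⟩))), (∀ i j : Fin (n + 2), i ≤ j → g (Fin.castSucc i) ≫ U.map (SimplexCategory.Truncated.δ (n + 1) j ((SimplexCategory.len_mk n).trans_le (Nat.le_succ n)) (SimplexCategory.len_mk (n + 1)).le).op = g j.succ ≫ U.map (SimplexCategory.Truncated.δ (n + 1) i ((SimplexCategory.len_mk n).trans_le (Nat.le_succ n)) (SimplexCategory.len_mk (n + 1)).le).op) → ∃! t : S ⟶ T, ∀ k : Fin (n + 3), t ≫ π k = g k)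

/-- Cone legs along composition. -/
theorem cone_comp (s : Cone (StructuredArrow.proj (Ytop n) (LL n) ⋙ U))
    {a b : SimplexCategory} (ha : a.len ≤ n + 1) (hb : b.len ≤ n + 1)
    (φ : a ⟶ ⦋n + 2⦌) (ψ : b ⟶ a) :
    s.π.app (sa n ha φ) ≫ U.map (SimplexCategory.Truncated.Hom.tr ψ hb ha).op =
      s.π.app (sa n hb (ψ ≫ φ)) := by
  let w : sa n ha φ ⟶ sa n hb (ψ ≫ φ) :=
    StructuredArrow.homMk (SimplexCategory.Truncated.Hom.tr ψ hb ha).op rfl
  exact s.w w

/-- The face legs of a cone. -/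
noncomputable abbrev cg (s : Cone (StructuredArrow.proj (Ytop n) (LL n) ⋙ U)) (k : Fin (n + 3)) :
    s.pt ⟶ U.obj (op ⟨SimplexCategory.mk (n + 1), (SimplexCategory.len_mk (n + 1)).le⟩) :=
  s.π.app (sa n (SimplexCategory.len_mk (n + 1)).le (δ k))

theorem cg_rel (s : Cone (StructuredArrow.proj (Ytop n) (LL n) ⋙ U)) (i j : Fin (n + 2))
    (hij : i ≤ j) :
    cg n U s (Fin.castSucc i) ≫ U.map (SimplexCategory.Truncated.δ (n + 1) j ((SimplexCategory.len_mk n).trans_le (Nat.le_succ n)) (SimplexCategory.len_mk (n + 1)).le).op = cg n U s j.succ ≫ U.map (SimplexCategory.Truncated.δ (n + 1) i ((SimplexCategory.len_mk n).trans_le (Nat.le_succ n)) (SimplexCategory.len_mk (n + 1)).le).op := by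
  have hn : (⦋n⦌ : SimplexCategory).len ≤ n + 1 := (SimplexCategory.len_mk n).trans_le (Nat.le_succ n)
  have h1 := cone_comp n U s (SimplexCategory.len_mk (n + 1)).le hn (δ i.castSucc) (δ j)
  have h2 := cone_comp n U s (SimplexCategory.len_mk (n + 1)).le hn (δ j.succ) (δ i)
  have e : (δ j : ⦋n⦌ ⟶ ⦋n + 1⦌) ≫ δ i.castSucc = δ i ≫ δ j.succ := (δ_comp_δ hij).symm
  refine h1.trans ?_
  rw [e]
  exact h2.symm


theorem cone_dep (s : Cone (StructuredArrow.proj (Ytop n) (LL n) ⋙ U))
    {a : SimplexCategory} (ha : a.len ≤ n + 1) (φ φ' : a ⟶ ⦋n + 2⦌) (h : φ = φ') :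
    s.π.app (sa n ha φ) = s.π.app (sa n ha φ') := by
  subst h; rfl

include hπ huniv in
/-- The top cone is a limit. -/
noncomputable def topConeIsLimit : IsLimit (topCone n U T π hπ) where
  lift s := (huniv s.pt (cg n U s) (cg_rel n U s)).exists.choose
  fac s g := by
    have hl := (huniv s.pt (cg n U s) (cg_rel n U s)).exists.choose_spec
    have ha := g.right.unop.property
    change _ ≫ leg n U T π ha g.hom.unop.hom = s.π.app (sa n ha g.hom.unop.hom)
    unfold leg pl
    rw [← Category.assoc, hl]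
    have := cone_comp n U s (SimplexCategory.len_mk (n + 1)).le ha (δ (fk n ha g.hom.unop.hom))
      (fφ n ha g.hom.unop.hom)
    refine this.trans ?_
    exact cone_dep n U s ha _ _ (fspec n ha g.hom.unop.hom).symm
  uniq s m hm := by
    apply (huniv s.pt (cg n U s) (cg_rel n U s)).unique _
      (huniv s.pt (cg n U s) (cg_rel n U s)).exists.choose_spec
    intro k
    have := hm (sa n (SimplexCategory.len_mk (n + 1)).le (δ k))
    refine Eq.trans ?_ this
    change m ≫ π k = m ≫ leg n U T π _ (δ k)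
    rw [leg_δ n U T π hπ k]

end Groth.Agent.Lib.Helper24.MatchObj
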