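import Mathlib
import Groth.Agent.Lib.Helper24.MatchC

set_option backward.isDefEq.respectTransparency false
set_option backward.isDefEq.respectTransparency.types false
set_option autoImplicit false

universe v u

open CategoryTheory CategoryTheory.Limits Opposite Simplicial SimplexCategory

namespace Groth.Agent.Lib.Helper24.MatchObj

variable {C : Type u} [Category.{v} C] (n : ℕ) (U : (SimplexCategory.Truncated (n + 1))ᵒᵖ ⥤ C)
  (T : C)
  (π : Fin (n + 3) → (T ⟶ U.obj (op ⟨SimplexCategory.mk (n + 1), (SimplexCategory.len_mk (n + 1)).le⟩)))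
  (hπ : ∀ i j : Fin (n + 2), i ≤ j → π (Fin.castSucc i) ≫ U.map (SimplexCategory.Truncated.δ (n + 1) j ((SimplexCategory.len_mk n).trans_le (Nat.le_succ n)) (SimplexCategory.len_mk (n + 1)).le).op = π j.succ ≫ U.map (SimplexCategory.Truncated.δ (n + 1) i ((SimplexCategory.len_mk n).trans_le (Nat.le_succ n)) (SimplexCategory.len_mk (n + 1)).le).op)
  (huniv : ∀ (S : C) (g : Fin (n + 3) → (S ⟶ U.obj (op ⟨SimplexCategory.mk (n + 1), (SimplexCategory.len_mk (n + 1)).le⟩))), (∀ i j : Fin (n + 2), i ≤ j → g (Fin.castSucc i) ≫ U.map (SimplexCategory.Truncated.δ (n + 1) j ((SimplexCategory.len_mk n).trans_le (Nat.le_succ n)) (SimplexCategory.len_mk (n + 1)).le).op = g j.succ ≫ U.map (SimplexCategory.Truncated.δ (n + 1) i ((SimplexCategory.len_mk n).trans_le (Nat.le_succ n)) (SimplexCategory.len_mk (n + 1)).le).op) → ∃! t : S ⟶ T, ∀ k : Fin (n + 3), t ≫ π k = g k)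

include hπ huniv in
theorem hasPointwise : (LL n).HasPointwiseRightKanExtension U := by
  intro Y
  obtain ⟨⟨a, ha⟩⟩ := Y
  by_cases h : a.len ≤ n + 1
  · change HasLimit (StructuredArrow.proj ((LL n).obj (op ⟨a, h⟩)) (LL n) ⋙ U)
    haveI : HasInitial (StructuredArrow ((LL n).obj (op ⟨a, h⟩)) (LL n)) :=
      StructuredArrow.mkIdInitial.hasInitial
    infer_instance
  · have ha' : a.len ≤ n + 2 := ha
    have e : a = ⦋n + 2⦌ := by
      ext
      change a.len = n + 2
      omega
    subst e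
    exact ⟨⟨⟨topCone n U T π hπ, topConeIsLimit n U T π hπ huniv⟩⟩⟩

include hπ huniv in
theorem isIso_top (V : (SimplexCategory.Truncated (n + 2))ᵒᵖ ⥤ C)
    (α : (SimplexCategory.Truncated.incl (n + 1) (n + 2) (Nat.le_succ _)).op ⋙ V ⟶ U)
    [V.IsRightKanExtension α]
    (t : V.obj (op ⟨SimplexCategory.mk (n + 2), (SimplexCategory.len_mk (n + 2)).le⟩) ⟶ T)
    (ht : ∀ k : Fin (n + 3), t ≫ π k = V.map (SimplexCategory.Truncated.δ (n + 2) k ((SimplexCategory.len_mk (n + 1)).trans_le (Nat.le_succ (n + 1))) (SimplexCategory.len_mk (n + 2)).le).op ≫ α.app (op ⟨SimplexCategory.mk (n + 1), (SimplexCategory.len_mk (n + 1)).le⟩)) :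
    IsIso t := by
  haveI := hasPointwise n U T π hπ huniv
  have hV : IsLimit ((Functor.RightExtension.mk V α).coneAt (Ytop n)) :=
    Functor.isPointwiseRightKanExtensionOfIsRightKanExtension V α (Ytop n)
  let c := IsLimit.conePointUniqueUpToIso hV (topConeIsLimit n U T π hπ huniv)
  have hc : ∀ k : Fin (n + 3), c.hom ≫ π k = t ≫ π k := by
    intro k
    have h1 := IsLimit.conePointUniqueUpToIso_hom_comp hV (topConeIsLimit n U T π hπ huniv)
      (sa n (SimplexCategory.len_mk (n + 1)).le (δ k))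
    rw [ht k]
    refine Eq.trans ?_ h1
    change c.hom ≫ π k = c.hom ≫ leg n U T π _ (δ k)
    rw [leg_δ n U T π hπ k]
  have hrel : ∀ i j : Fin (n + 2), i ≤ j → (c.hom ≫ π (Fin.castSucc i)) ≫ U.map (SimplexCategory.Truncated.δ (n + 1) j ((SimplexCategory.len_mk n).trans_le (Nat.le_succ n)) (SimplexCategory.len_mk (n + 1)).le).op = (c.hom ≫ π j.succ) ≫ U.map (SimplexCategory.Truncated.δ (n + 1) i ((SimplexCategory.len_mk n).trans_le (Nat.le_succ n)) (SimplexCategory.len_mk (n + 1)).le).op := by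
    intro i j hij
    rw [Category.assoc, Category.assoc, hπ i j hij]
  have hu := huniv _ (fun k => c.hom ≫ π k) hrel
  have : t = c.hom := hu.unique (fun k => (hc k).symm) (fun k => rfl)
  rw [this]
  infer_instance

end Groth.Agent.Lib.Helper24.MatchObj
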