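import Mathlib
import Groth.Prelude.Def_Flatn

set_option backward.isDefEq.respectTransparency false
set_option backward.isDefEq.respectTransparency.types false
set_option autoImplicit false

universe u

open CategoryTheory CategoryTheory.Limits AlgebraicGeometry Opposite

namespace Groth.Agent.Lib.Helper24.MorOpen

variable {X Y U S : Scheme.{u}} (gX : X ⟶ S) (gY : Y ⟶ S)

/-- The base change of a morphism of `S`-schemes. -/
noncomputable abbrev bc {T T' : Over S} (φ : T' ⟶ T) : pullback T'.hom gX ⟶ pullback T.hom gX :=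
  ((Over.map gX).map ((Over.pullback gX).map φ)).left

theorem bc_fst {T T' : Over S} (φ : T' ⟶ T) :
    bc gX φ ≫ pullback.fst T.hom gX = pullback.fst T'.hom gX ≫ φ.left := by
  simp [bc]

theorem bc_snd {T T' : Over S} (φ : T' ⟶ T) :
    bc gX φ ≫ pullback.snd T.hom gX = pullback.snd T'.hom gX := by
  simp [bc]

theorem isPullback_bc {T T' : Over S} (φ : T' ⟶ T) :
    IsPullback (bc gX φ) (pullback.fst T'.hom gX) (pullback.fst T.hom gX) φ.left := by
  refine IsPullback.of_right ?_ (bc_fst gX φ) (IsPullback.of_hasPullback T.hom gX).flip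
  rw [bc_snd, Over.w φ]
  exact (IsPullback.of_hasPullback T'.hom gX).flip

variable {gX gY} {M : Over S} (e : (Flatn.morS gX gY).RepresentableBy M)

theorem homEquiv_left {T : Over S} (φ : T ⟶ M) :
    (e.homEquiv φ : (Over.map gX).obj ((Over.pullback gX).obj T) ⟶ Over.mk gY).left =
      bc gX φ ≫ (e.homEquiv (𝟙 M) : (Over.map gX).obj ((Over.pullback gX).obj M) ⟶ Over.mk gY).left := by
  have h := e.homEquiv_comp φ (𝟙 M)
  rw [Category.comp_id] at h
  rw [h]
  rfl

variable (j : U ⟶ Y) [IsOpenImmersion j]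

/-- The universal morphism. -/
noncomputable abbrev ev : pullback M.hom gX ⟶ Y :=
  (e.homEquiv (𝟙 M) : (Over.map gX).obj ((Over.pullback gX).obj M) ⟶ Over.mk gY).left

/-- The bad locus in the base. -/
def badSet : Set M.left := (pullback.fst M.hom gX).base '' ((ev e).base ⁻¹' (Set.range j.base)ᶜ)

theorem isClosed_badSet [IsProper gX] : IsClosed (badSet e j) := by
  have : IsProper (pullback.fst M.hom gX) := inferInstance
  refine (pullback.fst M.hom gX).isClosedMap _ ?_
  exact (j.isOpenEmbedding.isOpen_range.isClosed_compl).preimage (ev e).continuous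

/-- The open subscheme of the base over which the universal morphism lands in `U`. -/
def M₀ [IsProper gX] : M.left.Opens := ⟨(badSet e j)ᶜ, (isClosed_badSet e j).isOpen_compl⟩

theorem range_subset_iff [IsProper gX] {T : Over S} (φ : T ⟶ M) :
    Set.range ((e.homEquiv φ : (Over.map gX).obj ((Over.pullback gX).obj T) ⟶ Over.mk gY).left).base ⊆
      Set.range j.base ↔ Set.range φ.left.base ⊆ (M₀ e j : Set M.left) := by
  rw [homEquiv_left]
  constructor
  · rintro h _ ⟨t, rfl⟩
    intro hbad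
    obtain ⟨z, hz, hzt⟩ := hbad
    obtain ⟨w, hw1, hw2⟩ := Scheme.exists_preimage_of_isPullback (isPullback_bc gX φ) z t hzt
    apply hz
    rw [← hw1]
    exact h ⟨w, rfl⟩
  · rintro h _ ⟨w, rfl⟩
    by_contra hw
    have h1 : (pullback.fst M.hom gX).base ((bc gX φ).base w) ∈ badSet e j := ⟨_, hw, rfl⟩
    have h2 : (pullback.fst M.hom gX).base ((bc gX φ).base w) =
        φ.left.base ((pullback.fst T.hom gX).base w) := by
      rw [← Scheme.Hom.comp_apply, ← Scheme.Hom.comp_apply, bc_fst]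
    rw [h2] at h1
    exact h ⟨_, rfl⟩ h1

variable [IsProper gX]

/-- The open subscheme as an `S`-scheme. -/
noncomputable abbrev M₀Ov : Over S := Over.mk ((M₀ e j).ι ≫ M.hom)

/-- The inclusion of the open subscheme. -/
noncomputable abbrev ι₀ : M₀Ov e j ⟶ M := Over.homMk (M₀ e j).ι rfl

/-- The morphism induced by `j`. -/
abbrev jj : Over.mk (j ≫ gY) ⟶ Over.mk gY := Over.homMk j rfl

instance : Mono (ι₀ e j) := by
  have : Mono ((Over.forget S).map (ι₀ e j)) := by
    change Mono (M₀ e j).ι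
    infer_instance
  exact (Over.forget S).mono_of_mono_map this

instance : Mono (jj (gY := gY) j) := by
  have : Mono ((Over.forget S).map (jj (gY := gY) j)) := by
    change Mono j
    infer_instance
  exact (Over.forget S).mono_of_mono_map this

theorem fwd_range {T : Over S} (φ : T ⟶ M₀Ov e j) :
    Set.range ((e.homEquiv (φ ≫ ι₀ e j) :
      (Over.map gX).obj ((Over.pullback gX).obj T) ⟶ Over.mk gY).left).base ⊆ Set.range j.base := by
  rw [range_subset_iff]
  rintro _ ⟨t, rfl⟩
  change ((φ.left ≫ (M₀ e j).ι).base t) ∈ (M₀ e j : Set M.left)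
  rw [Scheme.Hom.comp_apply]
  exact (φ.left.base t).2

/-- The forward map of the representing structure. -/
noncomputable def fwd {T : Over S} (φ : T ⟶ M₀Ov e j) : (Flatn.morS gX (j ≫ gY)).obj (op T) :=
  (Over.homMk (IsOpenImmersion.lift j _ (fwd_range e j φ)) (by
    change IsOpenImmersion.lift j _ (fwd_range e j φ) ≫ j ≫ gY = _
    rw [← Category.assoc, IsOpenImmersion.lift_fac]
    exact Over.w (e.homEquiv (φ ≫ ι₀ e j) :
      (Over.map gX).obj ((Over.pullback gX).obj T) ⟶ Over.mk gY)) :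
    (Over.map gX).obj ((Over.pullback gX).obj T) ⟶ Over.mk (j ≫ gY))

theorem fwd_jj {T : Over S} (φ : T ⟶ M₀Ov e j) :
    (fwd e j φ : (Over.map gX).obj ((Over.pullback gX).obj T) ⟶ Over.mk (j ≫ gY)) ≫ jj j =
      e.homEquiv (φ ≫ ι₀ e j) := by
  ext
  exact IsOpenImmersion.lift_fac j _ (fwd_range e j φ)

theorem bwd_range {T : Over S}
    (b : (Over.map gX).obj ((Over.pullback gX).obj T) ⟶ Over.mk (j ≫ gY)) :
    Set.range (e.homEquiv.symm (b ≫ jj j) : T ⟶ M).left.base ⊆
      Set.range (M₀ e j).ι.base := by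
  rw [Scheme.Opens.range_ι]
  rw [← range_subset_iff, Equiv.apply_symm_apply]
  rintro _ ⟨w, rfl⟩
  exact ⟨b.left.base w, rfl⟩

/-- The backward map of the representing structure. -/
noncomputable def bwd {T : Over S}
    (b : (Over.map gX).obj ((Over.pullback gX).obj T) ⟶ Over.mk (j ≫ gY)) : T ⟶ M₀Ov e j :=
  Over.homMk (IsOpenImmersion.lift (M₀ e j).ι _ (bwd_range e j b)) (by
    change IsOpenImmersion.lift (M₀ e j).ι _ (bwd_range e j b) ≫ (M₀ e j).ι ≫ M.hom = _
    rw [← Category.assoc, IsOpenImmersion.lift_fac]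
    exact Over.w (e.homEquiv.symm (b ≫ jj j) : T ⟶ M))

theorem bwd_ι {T : Over S}
    (b : (Over.map gX).obj ((Over.pullback gX).obj T) ⟶ Over.mk (j ≫ gY)) :
    bwd e j b ≫ ι₀ e j = e.homEquiv.symm (b ≫ jj j) := by
  ext
  exact IsOpenImmersion.lift_fac (M₀ e j).ι _ (bwd_range e j b)

/-- The representing structure on the open subscheme. -/
noncomputable def rep₀ : (Flatn.morS gX (j ≫ gY)).RepresentableBy (M₀Ov e j) where
  homEquiv {T} :=
    { toFun := fun φ => fwd e j φ
      invFun := fun b => bwd e j b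
      left_inv := fun φ => by
        rw [← cancel_mono (ι₀ e j), bwd_ι, fwd_jj, Equiv.symm_apply_apply]
      right_inv := fun b => by
        change (fwd e j (bwd e j b) :
          (Over.map gX).obj ((Over.pullback gX).obj T) ⟶ Over.mk (j ≫ gY)) = b
        rw [← cancel_mono (jj (gY := gY) j), fwd_jj, bwd_ι, Equiv.apply_symm_apply] }
  homEquiv_comp {T T'} ψ φ := by
    change (fwd e j (ψ ≫ φ) : (Over.map gX).obj ((Over.pullback gX).obj T) ⟶ Over.mk (j ≫ gY)) =
      (Over.map gX).map ((Over.pullback gX).map ψ) ≫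
        (fwd e j φ : (Over.map gX).obj ((Over.pullback gX).obj T') ⟶ Over.mk (j ≫ gY))
    rw [← cancel_mono (jj (gY := gY) j), fwd_jj, Category.assoc, Category.assoc, fwd_jj,
      e.homEquiv_comp]
    rfl

theorem exists_rep (gX : X ⟶ S) [IsProper gX] (gY : Y ⟶ S)
    (j : U ⟶ Y) [IsOpenImmersion j] (M : Over S) (e : (Flatn.morS gX gY).RepresentableBy M) :
    ∃ (M₀ : M.left.Opens)
      (e₀ : (Flatn.morS gX (j ≫ gY)).RepresentableBy (Over.mk (M₀.ι ≫ M.hom))),
      ∀ (T : Over S) (φ : T ⟶ Over.mk (M₀.ι ≫ M.hom)),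
        (e.homEquiv (φ ≫ Over.homMk M₀.ι rfl) :
            (Over.map gX).obj ((Over.pullback gX).obj T) ⟶ Over.mk gY) =
          (e₀.homEquiv φ : (Over.map gX).obj ((Over.pullback gX).obj T) ⟶ Over.mk (j ≫ gY)) ≫
            (Over.homMk j rfl : Over.mk (j ≫ gY) ⟶ Over.mk gY) :=
  ⟨M₀ e j, rep₀ e j, fun T φ => (fwd_jj e j φ).symm⟩

end Groth.Agent.Lib.Helper24.MorOpen
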