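import Groth.Prelude.Def_W4c2modmodulilectNerve
import Mathlib.CategoryTheory.Adjunction.Whiskering
import Mathlib.CategoryTheory.Adjunction.Comma
import Mathlib.CategoryTheory.Groupoid
import Mathlib.CategoryTheory.FiberedCategory.Fiber
import Mathlib.CategoryTheory.FiberedCategory.Fibered
set_option autoImplicit false
set_option linter.unusedSectionVars false
open CategoryTheory CategoryTheory.Limits
universe w₁ w₂ v₁ v₂ u₁ u₂

/-!
# Contractible nerve (tested against groupoids): transfer along adjunctions; fibres vs comma categories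
-/

namespace Groth.Agent.Lib.Helper24.NerveAdj

variable {J : Type u₁} [Category.{v₁} J] {J' : Type u₂} [Category.{v₂} J']

/-- contractibility of the nerve (tested against groupoids) transfers along an adjunction -/
theorem hasContractibleNerve_of_adjunction {L : J ⥤ J'} {R : J' ⥤ J} (adj : L ⊣ R)
    (hJ : W4c2modmodulilect.HasContractibleNerve.{w₁, w₂} J) :
    W4c2modmodulilect.HasContractibleNerve.{w₁, w₂} J' := by
  obtain ⟨⟨j₀⟩, h⟩ := hJ
  refine ⟨⟨L.obj j₀⟩, ?_⟩
  intro G _
  have hE := h G
  let adjW := adj.whiskerLeft G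
  have h1 : ∀ X : J ⥤ G, IsIso (adjW.unit.app X) := fun X => by
    have : ∀ j, IsIso ((adjW.unit.app X).app j) := fun j => inferInstance
    exact NatIso.isIso_of_isIso_app _
  have h2 : ∀ X : J' ⥤ G, IsIso (adjW.counit.app X) := fun X => by
    have : ∀ j, IsIso ((adjW.counit.app X).app j) := fun j => inferInstance
    exact NatIso.isIso_of_isIso_app _
  let E := adjW.toEquivalence
  have hL : ((Functor.whiskeringLeft J J' G).obj L).IsEquivalence := E.isEquivalence_inverse
  let iso : (Functor.const J' : G ⥤ J' ⥤ G) ⋙ (Functor.whiskeringLeft J J' G).obj L ≅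
      (Functor.const J : G ⥤ J ⥤ G) :=
    NatIso.ofComponents (fun g => NatIso.ofComponents (fun j => Iso.refl _))
  have hc : ((Functor.const J' : G ⥤ J' ⥤ G) ⋙ (Functor.whiskeringLeft J J' G).obj L).IsEquivalence :=
    Functor.isEquivalence_of_iso iso.symm
  exact Functor.isEquivalence_of_comp_right _ ((Functor.whiskeringLeft J J' G).obj L)

section Fib
variable {C : Type u₁} [Category.{v₁} C] {D : Type u₂} [Category.{v₂} D] (f : C ⥤ D) (Y : D)

/-- the inclusion of the fibre into the comma category -/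
def L : f.Fiber Y ⥤ StructuredArrow Y f where
  obj X := StructuredArrow.mk (eqToHom X.2.symm : Y ⟶ f.obj X.1)
  map {X X'} m := StructuredArrow.homMk m.1 (by
    have := m.2
    have h := IsHomLift.fac' f (𝟙 Y) m.1
    simp [h])
  map_id X := by ext; rfl
  map_comp m n := by ext; rfl

@[simp] lemma L_obj_right (X : f.Fiber Y) : ((L f Y).obj X).right = X.1 := rfl
@[simp] lemma L_obj_hom (X : f.Fiber Y) : ((L f Y).obj X).hom = eqToHom X.2.symm := rfl
@[simp] lemma L_map_right {X X' : f.Fiber Y} (m : X ⟶ X') : ((L f Y).map m).right = m.1 := rfl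

variable [f.IsFibered] (A : StructuredArrow Y f)

noncomputable def P : C := Functor.IsPreFibered.pullbackObj (p := f) (rfl : f.obj A.right = _) A.hom
noncomputable def π : P f Y A ⟶ A.right := Functor.IsPreFibered.pullbackMap (p := f) rfl A.hom

instance : f.IsCartesian A.hom (π f Y A) :=
  Functor.IsPreFibered.pullbackMap.IsCartesian (p := f) rfl A.hom

lemma P_proj : f.obj (P f Y A) = Y := IsHomLift.domain_eq f A.hom (π f Y A)

noncomputable def XP : f.Fiber Y := ⟨P f Y A, P_proj f Y A⟩

lemma eps_aux : eqToHom (P_proj f Y A).symm ≫ f.map (π f Y A) = A.hom := by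
  have h := IsHomLift.fac' f A.hom (π f Y A)
  rw [h]; simp

noncomputable def εA : (L f Y).obj (XP f Y A) ⟶ A :=
  StructuredArrow.homMk (π f Y A) (eps_aux f Y A)

noncomputable def T : CostructuredArrow (L f Y) A := CostructuredArrow.mk (εA f Y A)

section
variable (W : CostructuredArrow (L f Y) A)

/-- the underlying morphism of `C` -/
def Wr : W.left.1 ⟶ A.right := W.hom.right

lemma W_lift : f.IsHomLift A.hom (Wr f Y A W) := by
  apply IsHomLift.of_fac f A.hom (Wr f Y A W) W.left.2 rfl
  have := StructuredArrow.w W.hom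
  simp only [L_obj_hom] at this
  rw [← this]
  simp [Wr]

noncomputable def χ : W.left.1 ⟶ P f Y A :=
  have := W_lift f Y A W
  Functor.IsStronglyCartesian.map f A.hom (π f Y A) (show A.hom = 𝟙 Y ≫ A.hom by simp) (Wr f Y A W)

instance χ_lift : f.IsHomLift (𝟙 Y) (χ f Y A W) := by
  have := W_lift f Y A W
  exact Functor.IsStronglyCartesian.map_isHomLift f A.hom (π f Y A)
    (show A.hom = 𝟙 Y ≫ A.hom by simp) (Wr f Y A W)

lemma χ_fac : χ f Y A W ≫ π f Y A = Wr f Y A W := by
  have := W_lift f Y A W
  exact Functor.IsStronglyCartesian.fac f A.hom (π f Y A)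
    (show A.hom = 𝟙 Y ≫ A.hom by simp) (Wr f Y A W)

lemma χ_uniq (ψ : W.left.1 ⟶ P f Y A) (hψ : f.IsHomLift (𝟙 Y) ψ) (h : ψ ≫ π f Y A = Wr f Y A W) :
    ψ = χ f Y A W := by
  have := W_lift f Y A W
  exact Functor.IsStronglyCartesian.map_uniq f A.hom (π f Y A)
    (show A.hom = 𝟙 Y ≫ A.hom by simp) (Wr f Y A W) ψ h

noncomputable def toT : W ⟶ T f Y A :=
  CostructuredArrow.homMk (⟨χ f Y A W, χ_lift f Y A W⟩ : W.left ⟶ XP f Y A) (by
    ext
    exact χ_fac f Y A W)

lemma toT_uniq (u : W ⟶ T f Y A) : u = toT f Y A W := by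
  have hu := CostructuredArrow.w u
  have h1 : u.left.1 ≫ π f Y A = Wr f Y A W := congrArg (fun m => m.right) hu
  have h2 := χ_uniq f Y A W u.left.1 u.left.2 h1
  ext
  exact h2

end

noncomputable def isTerminalT : IsTerminal (T f Y A) :=
  IsTerminal.ofUniqueHom (fun W => toT f Y A W) (fun W u => toT_uniq f Y A W u)

instance : HasTerminal (CostructuredArrow (L f Y) A) := (isTerminalT f Y A).hasTerminal


/-- for a fibred category, contractibility of the fibre over `Y` gives contractibility of `Y/f` -/
theorem hasContractibleNerve_structuredArrow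
    (h : W4c2modmodulilect.HasContractibleNerve.{w₁, w₂} (f.Fiber Y)) :
    W4c2modmodulilect.HasContractibleNerve.{w₁, w₂} (StructuredArrow Y f) := by
  have : (L f Y).IsLeftAdjoint := isLeftAdjoint_of_costructuredArrowTerminals (L f Y)
  exact hasContractibleNerve_of_adjunction (Adjunction.ofIsLeftAdjoint (L f Y)) h

end Fib

end Groth.Agent.Lib.Helper24.NerveAdj
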