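import Groth.Agent.Lib.Helper24.NoethQCTop
import Groth.Agent.Lib.Helper14.AlgSpQCMor
import Groth.Agent.Lib.Helper14.LimW
set_option autoImplicit false
universe u
open CategoryTheory CategoryTheory.Limits AlgebraicGeometry Opposite Topology TopologicalSpace

namespace Groth.Agent.Lib.Helper24.NoethQCSp
open Groth.Agent.Lib.Helper14.AS Groth.Agent.Lib.Helper24.NoethQCTop
open AlgSp

variable {S : Scheme.{u}}

/-- Noetherian induction for quasi-compactness of the source of a monomorphism to a Noetherian
scheme, given sections over a nonempty relatively open part of every irreducible closed subset in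
which the image is dense. -/
theorem isQuasiCompactSp_of_mono_noeth {F : Sp S} (hF : IsAlgSpace F) {W : Over S}
    [NoetherianSpace ↥W.left] (g : F ⟶ (yon S).obj W) [Mono g]
    (H : ∀ Z : Closeds ↥W.left, IsIrreducible (Z : Set ↥W.left) →
      (Z : Set ↥W.left) ⊆ closure ((Z : Set ↥W.left) ∩
        Set.range (fun y => Points.toScheme W (Points.map g y))) →
      ∃ (T : Over S) (c : T ⟶ W) (s : (yon S).obj T ⟶ F) (Z' : Closeds ↥W.left),
        CompactSpace ↥T.left ∧ s ≫ g = (yon S).map c ∧ Z' < Z ∧
          Set.range c.left = (Z : Set ↥W.left) \ (Z' : Set ↥W.left)) :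
    IsQuasiCompactSp F := by
  rw [isQuasiCompactSp_iff_compactSpace hF]
  constructor
  have key := isCompact_preimage_closeds (fun y => Points.toScheme W (Points.map g y)) ?_ ⊤
  · simpa using key
  intro Z hirr hd
  obtain ⟨T, c, s, Z', hT, hs, hlt, hr⟩ := H Z hirr hd
  refine ⟨Z', hlt, ?_⟩
  have hφ : ∀ t : ↥T.left, Points.toScheme W (Points.map g (Points.ofPt s t)) = c.left t := by
    intro t
    rw [Points.map_ofPt, hs, Points.toScheme_ofPt]
  have hinj : Function.Injective (fun y => Points.toScheme W (Points.map g y)) :=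
    (Points.schemeEquiv W).symm.injective.comp (points_map_injective_of_mono g)
  have : (fun y => Points.toScheme W (Points.map g y)) ⁻¹' ((Z : Set ↥W.left) \ (Z' : Set ↥W.left)) =
      Set.range (Points.ofPt s) := by
    rw [← hr]
    apply Set.Subset.antisymm
    · rintro y ⟨t, ht⟩
      refine ⟨t, hinj ?_⟩
      change Points.toScheme W (Points.map g (Points.ofPt s t)) = _
      rw [hφ t, ht]
    · rintro _ ⟨t, rfl⟩
      exact ⟨t, (hφ t).symm⟩
  rw [this]
  exact isCompact_range (Points.continuous_ofPt s)

/-- A morphism from a quasi-compact algebraic space to an affine scheme is quasi-compact. -/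
theorem isQuasiCompactMor_of_isQuasiCompactSp_of_isAffine {F : Sp S} (hF : IsAlgSpace F)
    {W : Over S} [IsAffine W.left] (g : F ⟶ (yon S).obj W) (h : IsQuasiCompactSp F) :
    IsQuasiCompactMor g := by
  obtain ⟨U, a, hU, hae, has⟩ := isQuasiCompactSp_iff_exists_affine_chart.1 h
  refine isQuasiCompactMor_of_surjective_triangle hF
    (repDiag_of_isAlgSpace (IsAlgSpace.yon_obj W)) a g (points_map_surjective_of_repWith has) ?_
  apply isQuasiCompactMor_of_repWith
  have e : a ≫ g = (yon S).map ((yon S).preimage (a ≫ g)) := ((yon S).map_preimage _).symm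
  rw [e]
  refine (repWith_yon_map_iff _ _).2 ?_
  have : IsAffineHom ((yon S).preimage (a ≫ g)).left := inferInstance
  infer_instance

end Groth.Agent.Lib.Helper24.NoethQCSp
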