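import Mathlib
set_option autoImplicit false
open TopologicalSpace Topology

namespace Groth.Agent.Lib.Helper24.NoethQCTop2

/-- an irreducible closed subset of a prime spectrum is the homeomorphic image of the spectrum of a
quotient domain; transport of density and of open subsets -/
theorem prime_step {R : Type*} [CommRing R] {Y : Type*} (φ : Y → PrimeSpectrum R)
    (Z : Closeds (PrimeSpectrum R)) (hirr : IsIrreducible (Z : Set (PrimeSpectrum R)))
    (hd : (Z : Set (PrimeSpectrum R)) ⊆ closure ((Z : Set (PrimeSpectrum R)) ∩ Set.range φ)) :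
    ∃ (𝔭 : Ideal R) (_ : 𝔭.IsPrime),
      Dense ((PrimeSpectrum.comap (Ideal.Quotient.mk 𝔭)) ⁻¹' (Set.range φ)) ∧
      ∀ V : Opens (PrimeSpectrum (R ⧸ 𝔭)), (V : Set (PrimeSpectrum (R ⧸ 𝔭))).Nonempty →
        ∃ Z' : Closeds (PrimeSpectrum R), Z' < Z ∧
          (Z : Set (PrimeSpectrum R)) \ (Z' : Set (PrimeSpectrum R)) =
            (PrimeSpectrum.comap (Ideal.Quotient.mk 𝔭)) '' (V : Set (PrimeSpectrum (R ⧸ 𝔭))) := by
  have hprime : (PrimeSpectrum.vanishingIdeal (Z : Set (PrimeSpectrum R))).IsPrime :=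
    PrimeSpectrum.isIrreducible_iff_vanishingIdeal_isPrime.1 hirr
  obtain ⟨𝔭, h𝔭⟩ : ∃ 𝔭 : Ideal R, 𝔭 = PrimeSpectrum.vanishingIdeal (Z : Set (PrimeSpectrum R)) :=
    ⟨_, rfl⟩
  have h𝔭' : 𝔭.IsPrime := h𝔭 ▸ hprime
  have hZ : PrimeSpectrum.zeroLocus (𝔭 : Set R) = (Z : Set (PrimeSpectrum R)) := by
    rw [h𝔭, PrimeSpectrum.zeroLocus_vanishingIdeal_eq_closure, Z.isClosed.closure_eq]
  obtain ⟨q, hq⟩ : ∃ q : PrimeSpectrum (R ⧸ 𝔭) → PrimeSpectrum R,
      q = PrimeSpectrum.comap (Ideal.Quotient.mk 𝔭) := ⟨_, rfl⟩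
  have hemb : IsClosedEmbedding q := by
    rw [hq]
    exact PrimeSpectrum.isClosedEmbedding_comap_of_surjective _ _ Ideal.Quotient.mk_surjective
  have hrange : Set.range q = (Z : Set (PrimeSpectrum R)) := by
    rw [hq, _root_.range_comap_of_surjective _ _ Ideal.Quotient.mk_surjective,
      Ideal.mk_ker, hZ]
  refine ⟨𝔭, h𝔭', ?_, ?_⟩
  · rw [← hq]
    intro p
    rw [hemb.isInducing.closure_eq_preimage_closure_image, Set.image_preimage_eq_inter_range,
      hrange, Set.inter_comm]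
    apply hd
    rw [← hrange]
    exact ⟨p, rfl⟩
  · rw [← hq]
    intro V hV
    let Z' : Closeds (PrimeSpectrum R) :=
      ⟨q '' ((V : Set (PrimeSpectrum (R ⧸ 𝔭)))ᶜ), hemb.isClosedMap _ V.isOpen.isClosed_compl⟩
    have hle : (Z' : Set (PrimeSpectrum R)) ⊆ (Z : Set (PrimeSpectrum R)) := by
      rw [← hrange]
      exact Set.image_subset_range _ _
    refine ⟨Z', ?_, ?_⟩
    · refine lt_of_le_of_ne (SetLike.coe_subset_coe.1 hle) ?_
      intro h
      obtain ⟨v, hv⟩ := hV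
      have h1 : q v ∈ (Z' : Set (PrimeSpectrum R)) := by
        rw [h, ← hrange]
        exact ⟨v, rfl⟩
      obtain ⟨v', hv', hvv⟩ := h1
      exact hv' (hemb.injective hvv ▸ hv)
    · change (Z : Set (PrimeSpectrum R)) \ (q '' ((V : Set (PrimeSpectrum (R ⧸ 𝔭)))ᶜ)) = _
      rw [Set.image_compl_eq_range_sdiff_image hemb.injective, hrange,
        sdiff_sdiff_eq_self]
      rw [← hrange]
      exact Set.image_subset_range _ _

end Groth.Agent.Lib.Helper24.NoethQCTop2
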