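import Groth.Agent.Lib.Helper24.NoethQCSp
import Groth.Agent.Lib.Helper24.NoethQCTop2
import Groth.Agent.Lib.Helper24.AlgStProps
import Groth.Agent.Lib.Helper24.AlgStLocQ6
set_option autoImplicit false
universe u
open CategoryTheory CategoryTheory.Limits AlgebraicGeometry Opposite Topology TopologicalSpace

namespace Groth.Agent.Lib.Helper24.NoethQCSp2
open Groth.Agent.Lib.Helper14.AS Groth.Agent.Lib.Helper24.NoethQCTop
open Groth.Agent.Lib.Helper24.NoethQCSp Groth.Agent.Lib.Helper24.AlgStProps
open Groth.Agent.Lib.Helper24.NoethQCTop2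
open Groth.Agent.Lib.Helper24.AlgStLocQ6
open AlgSp

variable {S : Scheme.{u}}

/-- the affine scheme of an affine open, as a scheme over `S` -/
noncomputable abbrev affOver (U : Over S) (W : U.left.affineOpens) : Over S :=
  Over.mk (W.2.fromSpec ≫ U.hom)

/-- its open immersion into `U` -/
noncomputable abbrev affOverι (U : Over S) (W : U.left.affineOpens) : affOver U W ⟶ U :=
  Over.homMk W.2.fromSpec rfl

theorem isFppfCover_affOver (U : Over S) :
    IsFppfCover (fun W : U.left.affineOpens => (yon S).obj (affOver U W))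
      (fun W => (yon S).map (affOverι U W)) := by
  refine ⟨fun W => ⟨?_, ?_⟩, fun x => ?_⟩
  · have : IsOpenImmersion (affOverι U W).left := IsAffineOpen.isOpenImmersion_fromSpec W.2
    exact locP_yon_map_of etLocal_flat (inferInstanceAs (Flat (affOverι U W).left))
  · have : IsOpenImmersion (affOverι U W).left := IsAffineOpen.isOpenImmersion_fromSpec W.2
    exact locP_yon_map_of etLocal_lfp
      (inferInstanceAs (LocallyOfFinitePresentation (affOverι U W).left))
  · obtain ⟨t, rfl⟩ := (Points.schemeHomeo U).surjective x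
    obtain ⟨W, hW, htW, -⟩ := exists_isAffineOpen_mem_and_subset (x := t) (U := ⊤) trivial
    refine ⟨⟨W, hW⟩, Points.schemeHomeo _ (hW.primeIdealOf ⟨t, htW⟩), ?_⟩
    exact (Points.map_yon_map_apply (affOverι U ⟨W, hW⟩) _).trans
      (congrArg _ (hW.fromSpec_primeIdealOf ⟨t, htW⟩))

/-- ring-level Noetherian induction: the source of a monomorphism to the spectrum of a Noetherian
ring is quasi-compact, given sections over nonempty opens of the integral closed subschemes in which
the image is dense -/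
theorem isQuasiCompactSp_of_mono_spec {F : Sp S} (hF : IsAlgSpace F) (R : CommRingCat.{u})
    [IsNoetherianRing R] (sR : Spec R ⟶ S) (g : F ⟶ (yon S).obj (Over.mk sR)) [Mono g]
    (H : ∀ (𝔭 : Ideal R) [𝔭.IsPrime],
      Dense {p : ↥(Spec (CommRingCat.of (R ⧸ 𝔭))) |
        Points.schemeHomeo (Over.mk sR) ((Spec.map (CommRingCat.ofHom (Ideal.Quotient.mk 𝔭))) p) ∈
          Set.range (Points.map g)} →
      ∃ (T : Over S) (c : T ⟶ Over.mk sR) (s : (yon S).obj T ⟶ F)
        (V : (Spec (CommRingCat.of (R ⧸ 𝔭))).Opens),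
        CompactSpace ↥T.left ∧ s ≫ g = (yon S).map c ∧
          (V : Set ↥(Spec (CommRingCat.of (R ⧸ 𝔭)))).Nonempty ∧
          Set.range c.left = (Spec.map (CommRingCat.ofHom (Ideal.Quotient.mk 𝔭))) ''
            (V : Set ↥(Spec (CommRingCat.of (R ⧸ 𝔭))))) :
    IsQuasiCompactSp F := by
  have : NoetherianSpace ↥(Over.mk sR).left :=
    (inferInstance : NoetherianSpace (PrimeSpectrum R))
  apply isQuasiCompactSp_of_mono_noeth hF g
  intro Z hirr hd
  obtain ⟨𝔭, h𝔭, hdense, hV⟩ := prime_step (R := R)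
    (fun y => Points.toScheme (Over.mk sR) (Points.map g y)) Z hirr hd
  have hqfun : ∀ p : ↥(Spec (CommRingCat.of (R ⧸ 𝔭))),
      (Spec.map (CommRingCat.ofHom (Ideal.Quotient.mk 𝔭))) p =
        PrimeSpectrum.comap (Ideal.Quotient.mk 𝔭) p := fun p => rfl
  have hdense' : Dense {p : ↥(Spec (CommRingCat.of (R ⧸ 𝔭))) |
        Points.schemeHomeo (Over.mk sR) ((Spec.map (CommRingCat.ofHom (Ideal.Quotient.mk 𝔭))) p) ∈
          Set.range (Points.map g)} := by
    refine Dense.mono ?_ hdense
    rintro p ⟨y, hy⟩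
    refine ⟨y, ?_⟩
    change Points.map g y = Points.ofScheme (Over.mk sR) _
    rw [hqfun p, ← hy]
    exact (Points.ofScheme_toScheme _ _).symm
  obtain ⟨T, c, s, V, hT, hs, hVne, hr⟩ := H 𝔭 hdense'
  obtain ⟨Z', hlt, hdiff⟩ := hV V hVne
  refine ⟨T, c, s, Z', hT, hs, hlt, ?_⟩
  rw [hr]
  exact hdiff.symm

/-- A monomorphism from an algebraic space to a locally Noetherian scheme is quasi-compact, given
sections over nonempty opens of the integral affine Noetherian schemes over the target in which the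
image is dense. -/
theorem isQuasiCompactMor_of_mono_locNoeth {Y : Sp S} (hY : IsAlgSpace Y) {U : Over S}
    [IsLocallyNoetherian U.left] (g : Y ⟶ (yon S).obj U) [Mono g]
    (H : ∀ (A : Type u) [CommRing A] [IsDomain A] [IsNoetherianRing A]
        (cA : Spec (CommRingCat.of A) ⟶ U.left),
        Dense {p : ↥(Spec (CommRingCat.of A)) |
          Points.schemeHomeo U (cA p) ∈ Set.range (Points.map g)} →
        ∃ (T : Over S) (c : T ⟶ U) (s : (yon S).obj T ⟶ Y) (V : (Spec (CommRingCat.of A)).Opens),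
          CompactSpace ↥T.left ∧ s ≫ g = (yon S).map c ∧
            (V : Set ↥(Spec (CommRingCat.of A))).Nonempty ∧
            Set.range c.left = cA '' (V : Set ↥(Spec (CommRingCat.of A)))) :
    IsQuasiCompactMor g := by
  have hcov := isFppfCover_affOver U
  have sq := fun W : U.left.affineOpens =>
    IsPullback.of_hasPullback g ((yon S).map (affOverι U W))
  have hX : ∀ W : U.left.affineOpens, IsAlgSpace (pullback g ((yon S).map (affOverι U W))) :=
    fun W => isAlgSpace_of_isPullback (repDiag_of_isAlgSpace (IsAlgSpace.yon_obj U)) hY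
      (IsAlgSpace.yon_obj _) (sq W)
  refine (good_isQuasiCompactMor.loc _ _ (IsAlgSpace.yon_obj U) (fun W => IsAlgSpace.yon_obj _)
    hcov g hY (fun W => pullback g ((yon S).map (affOverι U W))) (fun W => pullback.snd _ _)
    (fun W => pullback.fst _ _) hX sq).2 ?_
  intro W
  have : IsAffine (affOver U W).left := (inferInstance : IsAffine (Spec Γ(U.left, W.1)))
  apply isQuasiCompactMor_of_isQuasiCompactSp_of_isAffine (hX W)
  have : IsNoetherianRing Γ(U.left, W.1) := IsLocallyNoetherian.component_noetherian W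
  have : Mono (pullback.snd g ((yon S).map (affOverι U W))) := inferInstance
  have hjo : IsOpenImmersion W.2.fromSpec := IsAffineOpen.isOpenImmersion_fromSpec W.2
  refine isQuasiCompactSp_of_mono_spec (hX W) Γ(U.left, W.1) (W.2.fromSpec ≫ U.hom)
    (pullback.snd g _) ?_
  intro 𝔭 _ hdense
  have hA : IsNoetherianRing (Γ(U.left, W.1) ⧸ 𝔭) := inferInstance
  have hdom : IsDomain (Γ(U.left, W.1) ⧸ 𝔭) := Ideal.Quotient.isDomain 𝔭
  obtain ⟨q, hq⟩ : ∃ q : Spec (CommRingCat.of (Γ(U.left, W.1) ⧸ 𝔭)) ⟶ Spec Γ(U.left, W.1),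
      q = Spec.map (CommRingCat.ofHom (Ideal.Quotient.mk 𝔭)) := ⟨_, rfl⟩
  rw [← hq] at hdense ⊢
  have hdense' : Dense {p : ↥(Spec (CommRingCat.of (Γ(U.left, W.1) ⧸ 𝔭))) |
      Points.schemeHomeo U ((q ≫ W.2.fromSpec) p) ∈ Set.range (Points.map g)} := by
    refine Dense.mono ?_ hdense
    rintro p ⟨x, hx⟩
    refine ⟨Points.map (pullback.fst g ((yon S).map (affOverι U W))) x, ?_⟩
    rw [← Points.map_comp, (sq W).w, Points.map_comp, hx]
    exact Points.map_yon_map_apply (affOverι U W) (q p)
  obtain ⟨T, c, s, V, hT, hs, hV, hr⟩ := H (Γ(U.left, W.1) ⧸ 𝔭) (q ≫ W.2.fromSpec) hdense'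
  have hsub : Set.range c.left ⊆ Set.range W.2.fromSpec := by
    rw [hr]
    rintro _ ⟨v, -, rfl⟩
    exact ⟨q v, rfl⟩
  let l : T.left ⟶ Spec Γ(U.left, W.1) := IsOpenImmersion.lift W.2.fromSpec c.left hsub
  have hl : l ≫ W.2.fromSpec = c.left := IsOpenImmersion.lift_fac _ _ _
  let c' : T ⟶ affOver U W := Over.homMk l (by
    change l ≫ W.2.fromSpec ≫ U.hom = T.hom
    rw [← Category.assoc, hl]
    exact Over.w c)
  have hc' : c' ≫ affOverι U W = c := Over.OverMorphism.ext hl
  refine ⟨T, c', pullback.lift s ((yon S).map c') (by rw [hs, ← Functor.map_comp, hc']), V, hT,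
    pullback.lift_snd _ _ _, hV, ?_⟩
  have hinj : Function.Injective W.2.fromSpec := W.2.fromSpec.isOpenEmbedding.injective
  apply (Set.image_injective.2 hinj)
  have h1 : W.2.fromSpec '' Set.range c'.left = Set.range c.left := by
    rw [← Set.range_comp, ← hl]
    rfl
  rw [h1, hr, Set.image_image]
  rfl

end Groth.Agent.Lib.Helper24.NoethQCSp2
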