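import Groth.Agent.Lib.Helper24.NoethQCSp2
import Groth.Agent.Lib.Helper14.AlgSpPoints2
set_option autoImplicit false
universe u
open CategoryTheory CategoryTheory.Limits AlgebraicGeometry Opposite Topology TopologicalSpace

/-! Noetherian induction for quasi-compactness of a morphism to a locally Noetherian scheme, given
quasi-compactness of its base change to a nonempty open of every integral closed subscheme in
which the image is dense. -/

namespace Groth.Agent.Lib.Helper24.NoethQCSp3
open Groth.Agent.Lib.Helper14.AS Groth.Agent.Lib.Helper24.NoethQCTop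
open Groth.Agent.Lib.Helper24.NoethQCSp Groth.Agent.Lib.Helper24.AlgStProps
open Groth.Agent.Lib.Helper24.NoethQCTop2 Groth.Agent.Lib.Helper24.NoethQCSp2
open Groth.Agent.Lib.Helper24.AlgStLocQ6
open AlgSp

variable {S : Scheme.{u}}

/-- all base changes of `g` along `h_c` are quasi-compact sheaves -/
def QCBaseChange {F : Sp S} {W T : Over S} (g : F ⟶ (yon S).obj W) (c : T ⟶ W) : Prop :=
  ∀ ⦃P : Sp S⦄ (fst : P ⟶ F) (snd : P ⟶ (yon S).obj T),
    IsPullback fst snd g ((yon S).map c) → IsQuasiCompactSp P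

theorem isQuasiCompactSp_of_noeth {F : Sp S} (hF : IsAlgSpace F) {W : Over S}
    [NoetherianSpace ↥W.left] (g : F ⟶ (yon S).obj W)
    (H : ∀ Z : Closeds ↥W.left, IsIrreducible (Z : Set ↥W.left) →
      (Z : Set ↥W.left) ⊆ closure ((Z : Set ↥W.left) ∩
        Set.range (fun y => Points.toScheme W (Points.map g y))) →
      ∃ (T : Over S) (c : T ⟶ W) (Z' : Closeds ↥W.left),
        QCBaseChange g c ∧ Z' < Z ∧
          Set.range c.left = (Z : Set ↥W.left) \ (Z' : Set ↥W.left)) :
    IsQuasiCompactSp F := by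
  rw [isQuasiCompactSp_iff_compactSpace hF]
  constructor
  have key := isCompact_preimage_closeds (fun y => Points.toScheme W (Points.map g y)) ?_ ⊤
  · simpa using key
  intro Z hirr hd
  obtain ⟨T, c, Z', hqc, hlt, hr⟩ := H Z hirr hd
  refine ⟨Z', hlt, ?_⟩
  have sq := IsPullback.of_hasPullback g ((yon S).map c)
  have hP := hqc _ _ sq
  have := compactSpace_points_of_isQuasiCompactSp hP
  have : (fun y => Points.toScheme W (Points.map g y)) ⁻¹'
      ((Z : Set ↥W.left) \ (Z' : Set ↥W.left)) =
      Points.map (pullback.fst g ((yon S).map c)) '' Set.univ := by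
    rw [← hr]
    have h1 : (fun y => Points.toScheme W (Points.map g y)) ⁻¹' Set.range c.left =
        Points.map g ⁻¹' (Points.map ((yon S).map c) '' Set.univ) := by
      ext y
      simp only [Set.mem_preimage, Set.mem_range, Set.image_univ]
      constructor
      · rintro ⟨t, ht⟩
        refine ⟨Points.schemeHomeo T t, ?_⟩
        rw [Points.map_yon_map_apply, ht]
        exact Points.ofScheme_toScheme W _
      · rintro ⟨x, hx⟩
        obtain ⟨t, rfl⟩ := (Points.schemeHomeo T).surjective x
        refine ⟨t, ?_⟩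
        rw [← hx, Points.map_yon_map_apply]
        exact (Points.toScheme_ofScheme W _).symm
    rw [h1, points_preimage_image_eq sq.flip, Set.preimage_univ]
  rw [this]
  exact isCompact_univ.image (Points.continuous_map _)

theorem isQuasiCompactSp_of_spec {F : Sp S} (hF : IsAlgSpace F) (R : CommRingCat.{u})
    [IsNoetherianRing R] (sR : Spec R ⟶ S) (g : F ⟶ (yon S).obj (Over.mk sR))
    (H : ∀ (𝔭 : Ideal R) [𝔭.IsPrime],
      Dense {p : ↥(Spec (CommRingCat.of (R ⧸ 𝔭))) |
        Points.schemeHomeo (Over.mk sR) ((Spec.map (CommRingCat.ofHom (Ideal.Quotient.mk 𝔭))) p) ∈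
          Set.range (Points.map g)} →
      ∃ (T : Over S) (c : T ⟶ Over.mk sR) (V : (Spec (CommRingCat.of (R ⧸ 𝔭))).Opens),
        QCBaseChange g c ∧ (V : Set ↥(Spec (CommRingCat.of (R ⧸ 𝔭)))).Nonempty ∧
          Set.range c.left = (Spec.map (CommRingCat.ofHom (Ideal.Quotient.mk 𝔭))) ''
            (V : Set ↥(Spec (CommRingCat.of (R ⧸ 𝔭))))) :
    IsQuasiCompactSp F := by
  have : NoetherianSpace ↥(Over.mk sR).left :=
    (inferInstance : NoetherianSpace (PrimeSpectrum R))
  apply isQuasiCompactSp_of_noeth hF g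
  intro Z hirr hd
  obtain ⟨𝔭, h𝔭, hdense, hV⟩ := prime_step (R := R)
    (fun y => Points.toScheme (Over.mk sR) (Points.map g y)) Z hirr hd
  have hqfun : ∀ p : ↥(Spec (CommRingCat.of (R ⧸ 𝔭))),
      (Spec.map (CommRingCat.ofHom (Ideal.Quotient.mk 𝔭))) p =
        PrimeSpectrum.comap (Ideal.Quotient.mk 𝔭) p := fun p => rfl
  have hdense' : Dense {p : ↥(Spec (CommRingCat.of (R ⧸ 𝔭))) |
        Points.schemeHomeo (Over.mk sR) ((Spec.map (CommRingCat.ofHom (Ideal.Quotient.mk 𝔭))) p) ∈
          Set.range (Points.map g)} := by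
    refine Dense.mono ?_ hdense
    rintro p ⟨y, hy⟩
    refine ⟨y, ?_⟩
    change Points.map g y = Points.ofScheme (Over.mk sR) _
    rw [hqfun p, ← hy]
    exact (Points.ofScheme_toScheme _ _).symm
  obtain ⟨T, c, V, hqc, hVne, hr⟩ := H 𝔭 hdense'
  obtain ⟨Z', hlt, hdiff⟩ := hV V hVne
  refine ⟨T, c, Z', hqc, hlt, ?_⟩
  rw [hr]
  exact hdiff.symm

/-- A morphism from an algebraic space to a locally Noetherian scheme is quasi-compact, given
quasi-compactness of its base change to a nonempty open of every integral affine Noetherian scheme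
over the target in which the image is dense. -/
theorem isQuasiCompactMor_of_locNoeth {Y : Sp S} (hY : IsAlgSpace Y) {U : Over S}
    [IsLocallyNoetherian U.left] (g : Y ⟶ (yon S).obj U)
    (H : ∀ (A : Type u) [CommRing A] [IsDomain A] [IsNoetherianRing A]
        (cA : Spec (CommRingCat.of A) ⟶ U.left),
        Dense {p : ↥(Spec (CommRingCat.of A)) |
          Points.schemeHomeo U (cA p) ∈ Set.range (Points.map g)} →
        ∃ (T : Over S) (c : T ⟶ U) (V : (Spec (CommRingCat.of A)).Opens),
          QCBaseChange g c ∧ (V : Set ↥(Spec (CommRingCat.of A))).Nonempty ∧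
            Set.range c.left = cA '' (V : Set ↥(Spec (CommRingCat.of A)))) :
    IsQuasiCompactMor g := by
  have hcov := isFppfCover_affOver U
  have sq := fun W : U.left.affineOpens =>
    IsPullback.of_hasPullback g ((yon S).map (affOverι U W))
  have hX : ∀ W : U.left.affineOpens, IsAlgSpace (pullback g ((yon S).map (affOverι U W))) :=
    fun W => isAlgSpace_of_isPullback (repDiag_of_isAlgSpace (IsAlgSpace.yon_obj U)) hY
      (IsAlgSpace.yon_obj _) (sq W)
  refine (good_isQuasiCompactMor.loc _ _ (IsAlgSpace.yon_obj U) (fun W => IsAlgSpace.yon_obj _)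
    hcov g hY (fun W => pullback g ((yon S).map (affOverι U W))) (fun W => pullback.snd _ _)
    (fun W => pullback.fst _ _) hX sq).2 ?_
  intro W
  have : IsAffine (affOver U W).left := (inferInstance : IsAffine (Spec Γ(U.left, W.1)))
  apply isQuasiCompactMor_of_isQuasiCompactSp_of_isAffine (hX W)
  have : IsNoetherianRing Γ(U.left, W.1) := IsLocallyNoetherian.component_noetherian W
  have hjo : IsOpenImmersion W.2.fromSpec := IsAffineOpen.isOpenImmersion_fromSpec W.2
  refine isQuasiCompactSp_of_spec (hX W) Γ(U.left, W.1) (W.2.fromSpec ≫ U.hom)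
    (pullback.snd g _) ?_
  intro 𝔭 _ hdense
  have hA : IsNoetherianRing (Γ(U.left, W.1) ⧸ 𝔭) := inferInstance
  have hdom : IsDomain (Γ(U.left, W.1) ⧸ 𝔭) := Ideal.Quotient.isDomain 𝔭
  obtain ⟨q, hq⟩ : ∃ q : Spec (CommRingCat.of (Γ(U.left, W.1) ⧸ 𝔭)) ⟶ Spec Γ(U.left, W.1),
      q = Spec.map (CommRingCat.ofHom (Ideal.Quotient.mk 𝔭)) := ⟨_, rfl⟩
  rw [← hq] at hdense ⊢
  have hdense' : Dense {p : ↥(Spec (CommRingCat.of (Γ(U.left, W.1) ⧸ 𝔭))) |
      Points.schemeHomeo U ((q ≫ W.2.fromSpec) p) ∈ Set.range (Points.map g)} := by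
    refine Dense.mono ?_ hdense
    rintro p ⟨x, hx⟩
    refine ⟨Points.map (pullback.fst g ((yon S).map (affOverι U W))) x, ?_⟩
    rw [← Points.map_comp, (sq W).w, Points.map_comp, hx]
    exact Points.map_yon_map_apply (affOverι U W) (q p)
  obtain ⟨T, c, V, hqc, hV, hr⟩ := H (Γ(U.left, W.1) ⧸ 𝔭) (q ≫ W.2.fromSpec) hdense'
  have hsub : Set.range c.left ⊆ Set.range W.2.fromSpec := by
    rw [hr]
    rintro _ ⟨v, -, rfl⟩
    exact ⟨q v, rfl⟩
  let l : T.left ⟶ Spec Γ(U.left, W.1) := IsOpenImmersion.lift W.2.fromSpec c.left hsub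
  have hl : l ≫ W.2.fromSpec = c.left := IsOpenImmersion.lift_fac _ _ _
  let c' : T ⟶ affOver U W := Over.homMk l (by
    change l ≫ W.2.fromSpec ≫ U.hom = T.hom
    rw [← Category.assoc, hl]
    exact Over.w c)
  have hc' : c' ≫ affOverι U W = c := Over.OverMorphism.ext hl
  refine ⟨T, c', V, ?_, hV, ?_⟩
  · intro P fst snd sqP
    have big := sqP.paste_horiz (sq W)
    rw [← Functor.map_comp, hc'] at big
    exact hqc _ _ big
  · have hinj : Function.Injective W.2.fromSpec := W.2.fromSpec.isOpenEmbedding.injective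
    apply (Set.image_injective.2 hinj)
    have h1 : W.2.fromSpec '' Set.range c'.left = Set.range c.left := by
      rw [← Set.range_comp, ← hl]
      rfl
    rw [h1, hr, Set.image_image]
    rfl

end Groth.Agent.Lib.Helper24.NoethQCSp3
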