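import Mathlib
set_option autoImplicit false
open TopologicalSpace Topology

namespace Groth.Agent.Lib.Helper24.NoethQCTop

/-- Noetherian induction for compactness of preimages: if over every irreducible closed subset in
which the image is dense the preimage of some nonempty relatively open part is compact, then the
preimage of every closed set is compact. -/
theorem isCompact_preimage_closeds {X Y : Type*} [TopologicalSpace X] [TopologicalSpace Y]
    [NoetherianSpace X] (φ : Y → X)
    (H : ∀ Z : Closeds X, IsIrreducible (Z : Set X) →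
      (Z : Set X) ⊆ closure ((Z : Set X) ∩ Set.range φ) →
      ∃ Z' : Closeds X, Z' < Z ∧ IsCompact (φ ⁻¹' ((Z : Set X) \ (Z' : Set X)))) :
    ∀ Z : Closeds X, IsCompact (φ ⁻¹' (Z : Set X)) := by
  intro Z
  apply wellFounded_lt.induction Z; clear Z
  intro Z IH
  rcases eq_or_ne Z ⊥ with rfl | h₀
  · simp
  by_cases h₁ : IsPreirreducible (Z : Set X)
  · have hirr : IsIrreducible (Z : Set X) := ⟨Closeds.coe_nonempty.2 h₀, h₁⟩
    by_cases hd : (Z : Set X) ⊆ closure ((Z : Set X) ∩ Set.range φ)
    · obtain ⟨Z', hlt, hc⟩ := H Z hirr hd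
      have hle : (Z' : Set X) ⊆ (Z : Set X) := SetLike.coe_subset_coe.2 hlt.le
      have : φ ⁻¹' (Z : Set X) = φ ⁻¹' ((Z : Set X) \ (Z' : Set X)) ∪ φ ⁻¹' (Z' : Set X) := by
        rw [← Set.preimage_union, Set.sdiff_union_of_subset hle]
      rw [this]
      exact hc.union (IH Z' hlt)
    · let Z'' : Closeds X := ⟨closure ((Z : Set X) ∩ Set.range φ), isClosed_closure⟩
      have hle : (Z'' : Set X) ⊆ (Z : Set X) :=
        closure_minimal Set.inter_subset_left Z.isClosed
      have hlt : Z'' < Z := by
        refine lt_of_le_of_ne (SetLike.coe_subset_coe.1 hle) ?_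
        intro h
        apply hd
        intro x hx
        have hx' : x ∈ (Z'' : Set X) := by rw [h]; exact hx
        exact hx'
      have : φ ⁻¹' (Z : Set X) = φ ⁻¹' (Z'' : Set X) := by
        apply Set.Subset.antisymm
        · intro y hy
          exact subset_closure ⟨hy, y, rfl⟩
        · exact Set.preimage_mono hle
      rw [this]
      exact IH Z'' hlt
  · simp only [isPreirreducible_iff_isClosed_union_isClosed, not_forall, not_or] at h₁
    obtain ⟨z₁, z₂, hz₁, hz₂, h, hz₁', hz₂'⟩ := h₁
    lift z₁ to Closeds X using hz₁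
    lift z₂ to Closeds X using hz₂
    have h1 := IH (Z ⊓ z₁) (inf_lt_left.2 hz₁')
    have h2 := IH (Z ⊓ z₂) (inf_lt_left.2 hz₂')
    have : φ ⁻¹' (Z : Set X) = φ ⁻¹' ((Z ⊓ z₁ : Closeds X) : Set X) ∪
        φ ⁻¹' ((Z ⊓ z₂ : Closeds X) : Set X) := by
      rw [← Set.preimage_union, Closeds.coe_inf, Closeds.coe_inf, ← Set.inter_union_distrib_left,
        Set.inter_eq_left.2 h]
    rw [this]
    exact h1.union h2

end Groth.Agent.Lib.Helper24.NoethQCTop
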