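import Mathlib.FieldTheory.IsSepClosed
import Mathlib.FieldTheory.IsAlgClosed.AlgebraicClosure
import Mathlib.FieldTheory.Perfect
import Mathlib.RingTheory.Henselian
import Mathlib.RingTheory.Valuation.LocalSubring
import Mathlib.RingTheory.Valuation.ValuationSubring
import Mathlib.RingTheory.IntegralClosure.IntegrallyClosed
import Mathlib.RingTheory.LocalRing.ResidueField.Ideal
import Mathlib.RingTheory.Localization.AtPrime.Basic

/-!
# Integrally closed local domains with separably closed fraction field

Such a ring is strictly henselian; its residue field is algebraically closed when the ring is not a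
field.
-/

set_option autoImplicit false
set_option linter.unusedSectionVars false
universe u

namespace Groth.Agent.Lib.Helper24.NSC
open Polynomial

section
variable (A : Type u) [CommRing A] [IsDomain A] [IsLocalRing A]
  (K : Type u) [Field K] [Algebra A K] [IsFractionRing A K]

/-- a valuation on the algebraic closure of `K` dominating the local ring `A` -/
lemma exists_dominating_valuation :
    ∃ V : ValuationSubring (AlgebraicClosure K),
      (∀ a : A, V.valuation (algebraMap A (AlgebraicClosure K) a) ≤ 1) ∧
      (∀ a : A, a ∈ IsLocalRing.maximalIdeal A →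
        V.valuation (algebraMap A (AlgebraicClosure K) a) < 1) ∧
      (∀ a : A, IsUnit a → V.valuation (algebraMap A (AlgebraicClosure K) a) = 1) ∧
      (∀ x : AlgebraicClosure K, IsIntegral A x → V.valuation x ≤ 1) := by
  obtain ⟨V, hV, hloc⟩ := IsLocalRing.exists_factor_valuationRing
    (algebraMap A (AlgebraicClosure K))
  have h1 : ∀ a : A, V.valuation (algebraMap A (AlgebraicClosure K) a) ≤ 1 := fun a =>
    (V.valuation_le_one_iff _).mpr (hV a)
  have h3 : ∀ a : A, IsUnit a → V.valuation (algebraMap A (AlgebraicClosure K) a) = 1 := by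
    intro a ha
    have hu : IsUnit (V.valuation (algebraMap A (AlgebraicClosure K) a)) := by
      exact (ha.map (algebraMap A (AlgebraicClosure K))).map V.valuation
    obtain ⟨b, hb⟩ := ha.exists_right_inv
    have h4 : V.valuation (algebraMap A (AlgebraicClosure K) a) *
        V.valuation (algebraMap A (AlgebraicClosure K) b) = 1 := by
      rw [← map_mul, ← map_mul, hb, map_one, map_one]
    apply le_antisymm (h1 a)
    by_contra hlt
    push Not at hlt
    have : V.valuation (algebraMap A (AlgebraicClosure K) a) *
        V.valuation (algebraMap A (AlgebraicClosure K) b) < 1 := by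
      calc _ ≤ V.valuation (algebraMap A (AlgebraicClosure K) a) * 1 := by
            gcongr; exact h1 b
        _ < 1 := by rwa [mul_one]
    exact absurd h4 this.ne
  refine ⟨V, h1, ?_, h3, ?_⟩
  · intro a ha
    have hmem : (⟨algebraMap A (AlgebraicClosure K) a, hV a⟩ : V) ∈ IsLocalRing.maximalIdeal V := by
      rw [IsLocalRing.mem_maximalIdeal, mem_nonunits_iff]
      intro hu
      have := hloc.map_nonunit a hu
      exact ha this
    exact (V.valuation_lt_one_iff _).mp hmem
  · intro x hx
    rw [V.valuation_le_one_iff]
    obtain ⟨p, hp, hpx⟩ := hx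
    -- integral over V via the subring
    have hint : IsIntegral V x := by
      refine ⟨p.map ((algebraMap A (AlgebraicClosure K)).codRestrict V.toSubring hV), hp.map _, ?_⟩
      rw [eval₂_map]
      exact hpx
    obtain ⟨y, hy⟩ := (IsIntegrallyClosed.isIntegral_iff (R := V) (K := AlgebraicClosure K)).mp hint
    rw [← hy]
    exact y.2
end

end Groth.Agent.Lib.Helper24.NSC

namespace Groth.Agent.Lib.Helper24.NSC
open Polynomial

section
variable (A : Type u) [CommRing A] [IsDomain A] [IsIntegrallyClosed A]
  (K : Type u) [Field K] [Algebra A K] [IsFractionRing A K] [IsSepClosed K]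

/-- an integral element of the algebraic closure which is a simple root of a polynomial over `K`
comes from `A` -/
lemma exists_algebraMap_eq_of_simple_root (x : AlgebraicClosure K) (hx : IsIntegral A x)
    (f : K[X]) (hf : aeval x f = 0) (hf' : aeval x (derivative f) ≠ 0) :
    ∃ a : A, algebraMap A (AlgebraicClosure K) a = x := by
  have hxK : IsIntegral K x := hx.tower_top
  set μ := minpoly K x with hμ
  have hirr : Irreducible μ := minpoly.irreducible hxK
  obtain ⟨q, hq⟩ := minpoly.dvd K x hf
  have hμ' : derivative μ ≠ 0 := by
    intro h0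
    apply hf'
    rw [hq, derivative_mul, h0, zero_mul, zero_add, map_mul, minpoly.aeval, zero_mul]
  have hsep : μ.Separable := (separable_iff_derivative_ne_zero hirr).mpr hμ'
  have hdeg : μ.degree ≠ 0 := (minpoly.degree_pos hxK).ne'
  obtain ⟨k, hk⟩ := IsSepClosed.exists_root μ hdeg hsep
  have hdeg1 : μ.degree = 1 := degree_eq_one_of_irreducible_of_root hirr hk
  obtain ⟨k', hk'⟩ := minpoly.mem_range_of_degree_eq_one K x hdeg1
  have hk'int : IsIntegral A k' := by
    rw [← isIntegral_algebraMap_iff (B := AlgebraicClosure K) (algebraMap K (AlgebraicClosure K)).injective,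
      hk']
    exact hx
  obtain ⟨a, ha⟩ := (IsIntegrallyClosed.isIntegral_iff (R := A) (K := K)).mp hk'int
  refine ⟨a, ?_⟩
  rw [IsScalarTower.algebraMap_apply A K (AlgebraicClosure K), ha, hk']
end

end Groth.Agent.Lib.Helper24.NSC

namespace Groth.Agent.Lib.Helper24.NSC
open Polynomial

section
variable {A : Type u} [CommRing A] {L : Type u} [Field L]

/-- For a polynomial with coefficients landing in a valuation subring `V`, and points of `V`,
`v (g x - g y) ≤ v (x - y)`. -/
lemma val_eval₂_sub_le (V : ValuationSubring L) (φ : A →+* L) (hφ : ∀ a, φ a ∈ V) (g : A[X])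
    (x y : L) (hx : x ∈ V) (hy : y ∈ V) :
    V.valuation (g.eval₂ φ x - g.eval₂ φ y) ≤ V.valuation (x - y) := by
  set φV : A →+* V := φ.codRestrict V.toSubring hφ with hφV
  obtain ⟨c, hc⟩ := Polynomial.sub_dvd_eval_sub (⟨x, hx⟩ : V) (⟨y, hy⟩ : V) (g.map φV)
  have hcomp : (V.subtype).comp φV = φ := by
    ext a; rfl
  have h1 : ∀ z : V, ((eval z (g.map φV) : V) : L) = g.eval₂ φ (z : L) := by
    intro z
    rw [eval_map]
    have := Polynomial.hom_eval₂ g φV V.subtype z
    rw [hcomp] at this
    exact this
  have h2 : g.eval₂ φ x - g.eval₂ φ y = (x - y) * (c : L) := by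
    have := congrArg (fun z : V => (z : L)) hc
    rw [← h1 ⟨x, hx⟩, ← h1 ⟨y, hy⟩]
    push_cast at this ⊢
    exact this
  rw [h2, map_mul]
  calc V.valuation (x - y) * V.valuation (c : L) ≤ V.valuation (x - y) * 1 := by
        gcongr
        exact (V.valuation_le_one_iff _).mpr c.2
    _ = _ := mul_one _

/-- a polynomial with coefficients of valuation `< 1` evaluated at a point of valuation `≤ 1` has
valuation `< 1`. -/
lemma val_eval₂_lt_one (V : ValuationSubring L) (φ : A →+* L) (h : A[X])
    (hh : ∀ i, V.valuation (φ (h.coeff i)) < 1)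
    (x : L) (hx : V.valuation x ≤ 1) :
    V.valuation (h.eval₂ φ x) < 1 := by
  rw [eval₂_eq_sum_range]
  apply Valuation.map_sum_lt _ one_ne_zero
  intro i _
  rw [map_mul, map_pow]
  calc V.valuation (φ (h.coeff i)) * V.valuation x ^ i ≤ V.valuation (φ (h.coeff i)) * 1 := by
        gcongr
        exact pow_le_one' hx i
    _ < 1 := by rw [mul_one]; exact hh i

end

section
theorem henselian (A : Type u) [CommRing A] [IsDomain A] [IsLocalRing A] [IsIntegrallyClosed A]
    (K : Type u) [Field K] [Algebra A K] [IsFractionRing A K] [IsSepClosed K] :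
    HenselianLocalRing A := by
  obtain ⟨V, hV1, hVm, hVu, hVint⟩ := exists_dominating_valuation A K
  set L := AlgebraicClosure K with hL
  set φ : A →+* L := algebraMap A L with hφ
  have hφinj : Function.Injective φ := by
    rw [hφ, IsScalarTower.algebraMap_eq A K L]
    exact (algebraMap K L).injective.comp (IsFractionRing.injective A K)
  refine ⟨fun f hf a₀ h₀ h₀' => ?_⟩
  -- f splits in L
  have hsplit : (f.map φ).Splits := IsAlgClosed.splits _
  have hev := hsplit.eval_eq_prod_roots_of_monic (hf.map φ) (φ a₀)
  rw [eval_map, eval₂_at_apply] at hev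
  have hlt : V.valuation (φ (f.eval a₀)) < 1 := hVm _ h₀
  -- every root is integral, hence has valuation ≤ 1
  have hroot_int : ∀ α ∈ (f.map φ).roots, IsIntegral A α := by
    intro α hα
    refine ⟨f, hf, ?_⟩
    have := (mem_roots (hf.map φ).ne_zero).mp hα
    rwa [IsRoot, eval_map] at this
  -- some root is close to a₀
  have hex : ∃ α ∈ (f.map φ).roots, V.valuation (φ a₀ - α) < 1 := by
    by_contra hcon
    push Not at hcon
    have hall : ∀ α ∈ (f.map φ).roots, V.valuation (φ a₀ - α) = 1 := by
      intro α hα
      apply le_antisymm _ (hcon α hα)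
      calc V.valuation (φ a₀ - α) ≤ max (V.valuation (φ a₀)) (V.valuation α) :=
            Valuation.map_sub _ _ _
        _ ≤ 1 := max_le (hV1 a₀) (hVint α (hroot_int α hα))
    have : V.valuation (φ (f.eval a₀)) = 1 := by
      rw [hev, map_multiset_prod, Multiset.map_map]
      apply Multiset.prod_eq_one
      intro x hx
      rw [Multiset.mem_map] at hx
      obtain ⟨α, hα, rfl⟩ := hx
      exact hall α hα
    rw [this] at hlt
    exact lt_irrefl _ hlt
  obtain ⟨α, hα, hαlt⟩ := hex
  have hαint := hroot_int α hα
  have hαroot : f.eval₂ φ α = 0 := by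
    have := (mem_roots (hf.map φ).ne_zero).mp hα
    rwa [IsRoot, eval_map] at this
  -- the derivative at α has valuation one
  have hder : V.valuation (f.derivative.eval₂ φ α) = 1 := by
    have h1 := val_eval₂_sub_le V φ (fun a => (V.valuation_le_one_iff _).mp (hV1 a)) f.derivative
      α (φ a₀) ((V.valuation_le_one_iff _).mp (hVint α hαint))
      ((V.valuation_le_one_iff _).mp (hV1 a₀))
    have h2 : V.valuation (α - φ a₀) < 1 := by
      rw [← neg_sub, Valuation.map_neg]; exact hαlt
    have h3 : V.valuation (f.derivative.eval₂ φ (φ a₀)) = 1 := by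
      rw [eval₂_at_apply]; exact hVu _ h₀'
    have h4 : f.derivative.eval₂ φ α =
        f.derivative.eval₂ φ (φ a₀) + (f.derivative.eval₂ φ α - f.derivative.eval₂ φ (φ a₀)) := by
      ring
    rw [h4, Valuation.map_add_eq_of_lt_left, h3]
    rw [h3]
    exact lt_of_le_of_lt h1 h2
  -- α comes from A
  obtain ⟨a, ha⟩ := exists_algebraMap_eq_of_simple_root A K α hαint (f.map (algebraMap A K))
    (by
      rw [aeval_def, eval₂_map, ← IsScalarTower.algebraMap_eq]
      exact hαroot)
    (by
      rw [derivative_map, aeval_def, eval₂_map, ← IsScalarTower.algebraMap_eq]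
      intro h0
      have h0' : f.derivative.eval₂ φ α = 0 := h0
      rw [h0', map_zero] at hder
      exact zero_ne_one hder)
  refine ⟨a, ?_, ?_⟩
  · apply hφinj
    rw [map_zero, ← hαroot, ← ha, eval₂_at_apply]
  · by_contra hnm
    have hu : IsUnit (a - a₀) := by
      by_contra hnu
      exact hnm ((IsLocalRing.mem_maximalIdeal _).mpr hnu)
    have := hVu _ hu
    have ha' : φ a = α := ha
    rw [map_sub, ha', ← neg_sub, Valuation.map_neg] at this
    rw [this] at hαlt
    exact lt_irrefl _ hαlt

theorem residueField_isSepClosed (A : Type u) [CommRing A] [IsDomain A] [IsLocalRing A]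
    [IsIntegrallyClosed A]
    (K : Type u) [Field K] [Algebra A K] [IsFractionRing A K] [IsSepClosed K] :
    IsSepClosed (IsLocalRing.ResidueField A) := by
  obtain ⟨V, hV1, hVm, hVu, hVint⟩ := exists_dominating_valuation A K
  set L := AlgebraicClosure K with hL
  set φ : A →+* L := algebraMap A L with hφ
  have hφinj : Function.Injective φ := by
    rw [hφ, IsScalarTower.algebraMap_eq A K L]
    exact (algebraMap K L).injective.comp (IsFractionRing.injective A K)
  apply IsSepClosed.of_exists_root
  intro gbar hgm hgirr hgsep
  set res := IsLocalRing.residue A with hres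
  have hsurj : Function.Surjective res := IsLocalRing.residue_surjective
  -- lift to a monic polynomial
  obtain ⟨g, hg, hgdeg, hgmon⟩ := Polynomial.lifts_and_degree_eq_and_monic
    ((Polynomial.mem_lifts gbar).mpr (Polynomial.map_surjective res hsurj gbar)) hgm
  obtain ⟨ubar, vbar, huv⟩ := hgsep
  obtain ⟨u, rfl⟩ := Polynomial.map_surjective res hsurj ubar
  obtain ⟨w, rfl⟩ := Polynomial.map_surjective res hsurj vbar
  set h := u * g + w * derivative g - 1 with hh
  have hh0 : h.map res = 0 := by
    rw [hh, Polynomial.map_sub, Polynomial.map_add, Polynomial.map_mul, Polynomial.map_mul,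
      Polynomial.map_one, ← derivative_map, hg, huv, sub_self]
  have hhcoeff : ∀ i, V.valuation (φ (h.coeff i)) < 1 := by
    intro i
    apply hVm
    have := congrArg (fun p => p.coeff i) hh0
    simp only [coeff_map, coeff_zero] at this
    rw [hres, IsLocalRing.residue_eq_zero_iff] at this
    exact this
  -- a root of g in L
  have hgdeg' : (g.map φ).degree ≠ 0 := by
    rw [degree_map_eq_of_injective hφinj, hgdeg]
    exact (degree_pos_of_irreducible hgirr).ne'
  obtain ⟨α, hα⟩ := IsAlgClosed.exists_root (g.map φ) hgdeg'
  rw [IsRoot, eval_map] at hα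
  have hαint : IsIntegral A α := ⟨g, hgmon, hα⟩
  have hder : g.derivative.eval₂ φ α ≠ 0 := by
    intro h0
    have h1 : h.eval₂ φ α = -1 := by
      rw [hh, eval₂_sub, eval₂_add, eval₂_mul, eval₂_mul, hα, h0, eval₂_one]
      ring
    have h2 := val_eval₂_lt_one V φ h hhcoeff α (hVint α hαint)
    rw [h1, Valuation.map_neg, map_one] at h2
    exact lt_irrefl _ h2
  obtain ⟨a, ha⟩ := exists_algebraMap_eq_of_simple_root A K α hαint (g.map (algebraMap A K))
    (by
      rw [aeval_def, eval₂_map, ← IsScalarTower.algebraMap_eq]
      exact hα)
    (by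
      rw [derivative_map, aeval_def, eval₂_map, ← IsScalarTower.algebraMap_eq]
      exact hder)
  refine ⟨res a, ?_⟩
  rw [← hg, eval_map, eval₂_at_apply]
  have : g.eval a = 0 := by
    apply hφinj
    rw [map_zero, ← hα, ← ha, eval₂_at_apply]
  rw [this, map_zero]

end
end Groth.Agent.Lib.Helper24.NSC

namespace Groth.Agent.Lib.Helper24.NSC
open Polynomial

/-- a monic nonconstant polynomial over an integrally closed domain with separably closed fraction
field all of whose geometric roots are simple has a root -/
theorem exists_root_of_simple (B : Type u) [CommRing B] [IsDomain B] [IsIntegrallyClosed B]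
    (K : Type u) [Field K] [Algebra B K] [IsFractionRing B K] [IsSepClosed K]
    (F : B[X]) (hF : F.Monic) (hdeg : F.degree ≠ 0)
    (h : ∀ β : AlgebraicClosure K, F.eval₂ (algebraMap B (AlgebraicClosure K)) β = 0 →
      F.derivative.eval₂ (algebraMap B (AlgebraicClosure K)) β ≠ 0) :
    ∃ b : B, F.eval b = 0 := by
  set L := AlgebraicClosure K with hL
  set φ : B →+* L := algebraMap B L with hφ
  have hφinj : Function.Injective φ := by
    rw [hφ, IsScalarTower.algebraMap_eq B K L]
    exact (algebraMap K L).injective.comp (IsFractionRing.injective B K)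
  have hdeg' : (F.map φ).degree ≠ 0 := by
    rwa [degree_map_eq_of_injective hφinj]
  obtain ⟨α, hα⟩ := IsAlgClosed.exists_root (F.map φ) hdeg'
  rw [IsRoot, eval_map] at hα
  have hαint : IsIntegral B α := ⟨F, hF, hα⟩
  obtain ⟨a, ha⟩ := exists_algebraMap_eq_of_simple_root B K α hαint (F.map (algebraMap B K))
    (by
      rw [aeval_def, eval₂_map, ← IsScalarTower.algebraMap_eq]
      exact hα)
    (by
      rw [derivative_map, aeval_def, eval₂_map, ← IsScalarTower.algebraMap_eq]
      exact h α hα)
  refine ⟨a, ?_⟩
  apply hφinj
  have ha' : φ a = α := ha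
  rw [map_zero, ← hα, ← ha', eval₂_at_apply]

/-- a local integrally closed domain, not a field, with separably closed fraction field has
perfect residue field -/
theorem residueField_perfect (B : Type u) [CommRing B] [IsDomain B] [IsLocalRing B]
    [IsIntegrallyClosed B]
    (K : Type u) [Field K] [Algebra B K] [IsFractionRing B K] [IsSepClosed K]
    (π : B) (hπ : π ∈ IsLocalRing.maximalIdeal B) (hπ0 : π ≠ 0) :
    PerfectField (IsLocalRing.ResidueField B) := by
  set L := AlgebraicClosure K with hL
  set φ : B →+* L := algebraMap B L with hφ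
  have hφinj : Function.Injective φ := by
    rw [hφ, IsScalarTower.algebraMap_eq B K L]
    exact (algebraMap K L).injective.comp (IsFractionRing.injective B K)
  set κ := IsLocalRing.ResidueField B with hκ
  set res := IsLocalRing.residue B with hres
  have hsurj : Function.Surjective res := IsLocalRing.residue_surjective
  obtain ⟨q, hq⟩ := CharP.exists κ
  rcases CharP.char_is_prime_or_zero κ q with hqp | hq0
  · have : Fact q.Prime := ⟨hqp⟩
    have : ExpChar κ q := ExpChar.prime hqp
    have : PerfectRing κ q := by
      apply PerfectRing.ofSurjective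
      intro abar
      obtain ⟨a, rfl⟩ := hsurj abar
      -- key: find b with b^q - a ∈ m
      suffices h : ∃ b : B, b ^ q - a ∈ IsLocalRing.maximalIdeal B by
        obtain ⟨b, hb⟩ := h
        refine ⟨res b, ?_⟩
        rw [frobenius_def, ← map_pow, ← sub_eq_zero, ← map_sub, hres,
          IsLocalRing.residue_eq_zero_iff]
        exact hb
      by_cases hqK : (q : B) = 0
      · -- equal characteristic: X^q - π X - a
        set F : B[X] := X ^ q - (C π * X + C a) with hF
        have hlin : (C π * X + C a : B[X]).degree < q := by
          calc (C π * X + C a : B[X]).degree ≤ 1 := degree_linear_le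
            _ < q := by exact_mod_cast hqp.one_lt
        have hFmon : F.Monic := monic_X_pow_sub hlin
        have hFdeg : F.degree ≠ 0 := by
          rw [hF, degree_sub_eq_left_of_degree_lt (by rwa [degree_X_pow]), degree_X_pow]
          exact_mod_cast hqp.ne_zero
        have hFder : derivative F = - C π := by
          rw [hF, derivative_sub, derivative_X_pow, derivative_add, derivative_C, add_zero,
            derivative_C_mul, derivative_X, mul_one, hqK, C_0, zero_mul, zero_sub]
        obtain ⟨b, hb⟩ := exists_root_of_simple B K F hFmon hFdeg (by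
          intro β _
          rw [hFder, eval₂_neg, eval₂_C, neg_ne_zero]
          intro h0
          exact hπ0 (hφinj (by rw [h0, map_zero])))
        refine ⟨b, ?_⟩
        rw [hF, eval_sub, eval_pow, eval_X, eval_add, eval_mul, eval_C, eval_X, eval_C] at hb
        have : b ^ q - a = π * b := by linear_combination hb
        rw [this]
        exact Ideal.mul_mem_right _ _ hπ
      · by_cases ha0 : a = 0
        · refine ⟨0, ?_⟩
          rw [ha0, zero_pow hqp.ne_zero, sub_zero]
          exact Ideal.zero_mem _
        set F : B[X] := X ^ q - C a with hF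
        have hlin : (C a : B[X]).degree < q := by
          calc (C a : B[X]).degree ≤ 0 := degree_C_le
            _ < q := by exact_mod_cast hqp.pos
        have hFmon : F.Monic := monic_X_pow_sub hlin
        have hFdeg : F.degree ≠ 0 := by
          rw [hF, degree_sub_eq_left_of_degree_lt (by rwa [degree_X_pow]), degree_X_pow]
          exact_mod_cast hqp.ne_zero
        have hFder : derivative F = C (q : B) * X ^ (q - 1) := by
          rw [hF, derivative_sub, derivative_X_pow, derivative_C, sub_zero]
        obtain ⟨b, hb⟩ := exists_root_of_simple B K F hFmon hFdeg (by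
          intro β hβ
          rw [hFder, eval₂_mul, eval₂_C, eval₂_pow, eval₂_X]
          rw [hF, eval₂_sub, eval₂_pow, eval₂_X, eval₂_C] at hβ
          have hβ0 : β ≠ 0 := by
            rintro rfl
            rw [zero_pow hqp.ne_zero, zero_sub, neg_eq_zero] at hβ
            exact ha0 (hφinj (by rw [hβ, map_zero]))
          apply mul_ne_zero
          · intro h0
            exact hqK (hφinj (by rw [h0, map_zero]))
          · exact pow_ne_zero _ hβ0)
        refine ⟨b, ?_⟩
        rw [hF, eval_sub, eval_pow, eval_X, eval_C] at hb
        rw [hb]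
        exact Ideal.zero_mem _
    exact PerfectRing.toPerfectField κ q
  · subst hq0
    have := CharP.charP_to_charZero κ
    infer_instance

/-- the residue field of a non-field local integrally closed domain with separably closed fraction
field is algebraically closed -/
theorem residueField_isAlgClosed (B : Type u) [CommRing B] [IsDomain B] [IsLocalRing B]
    [IsIntegrallyClosed B]
    (K : Type u) [Field K] [Algebra B K] [IsFractionRing B K] [IsSepClosed K]
    (π : B) (hπ : π ∈ IsLocalRing.maximalIdeal B) (hπ0 : π ≠ 0) :
    IsAlgClosed (IsLocalRing.ResidueField B) := by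
  have := residueField_isSepClosed B K
  have := residueField_perfect B K π hπ hπ0
  infer_instance

/-- residue fields at nonzero primes of an integrally closed domain with separably closed fraction
field are algebraically closed -/
theorem residueField_isAlgClosed_of_prime (A : Type u) [CommRing A] [IsDomain A]
    [IsIntegrallyClosed A] [IsSepClosed (FractionRing A)]
    (p : Ideal A) [p.IsPrime] (hp : p ≠ ⊥) : IsAlgClosed p.ResidueField := by
  have : IsIntegrallyClosed (Localization.AtPrime p) :=
    isIntegrallyClosed_of_isLocalization (Localization.AtPrime p) p.primeCompl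
      p.primeCompl_le_nonZeroDivisors
  obtain ⟨x, hx, hx0⟩ := Submodule.exists_mem_ne_zero_of_ne_bot hp
  refine residueField_isAlgClosed (Localization.AtPrime p) (FractionRing A)
    (algebraMap A (Localization.AtPrime p) x) ?_ ?_
  · rw [← Localization.AtPrime.map_eq_maximalIdeal]
    exact Ideal.mem_map_of_mem _ hx
  · intro h0
    apply hx0
    apply IsLocalization.injective (Localization.AtPrime p) p.primeCompl_le_nonZeroDivisors
    rw [h0, map_zero]

end Groth.Agent.Lib.Helper24.NSC
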