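import Groth.Agent.Lib.Helper24.Filt9
import Groth.Agent.Lib.Helper24.DecentFin
set_option autoImplicit false
set_option linter.unusedSectionVars false
set_option linter.unusedVariables false
universe u
open CategoryTheory CategoryTheory.Limits AlgebraicGeometry Opposite

/-! Fibre-cardinality strata of a separated étale morphism of schemes. -/

namespace Groth.Agent.Lib.Helper24.OmSep
open AlgSp Groth.Agent.Lib.Helper14.AS Groth.Agent.Lib.Helper24.Filt1 Groth.Agent.Lib.Helper24.ZarGlue
open Groth.Agent.Lib.Helper24.Filt2 Groth.Agent.Lib.Helper24.Filt3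

variable {S : Scheme.{u}}

/-- the locus of points of `U` over which `g` has at least `n+1` geometric points -/
def omS {R U : Over S} (g : R ⟶ U) (n : ℕ) : Set U.left :=
  {u | Points.ofScheme U u ∈ Om ((yon S).map g) (Idx n)}

theorem mem_omS_iff {R U : Over S} (g : R ⟶ U) (n : ℕ) (u : U.left) :
    u ∈ omS g n ↔ ∃ (T : Over S) (t : T.left) (τ : Tup ((yon S).map g) (Idx n) T),
      (τ.u default ≫ g).left t = u := by
  constructor
  · rintro ⟨T, t, τ, h⟩
    refine ⟨T, t, τ, ?_⟩
    have h1 : Points.ofPt τ.base t = Points.ofScheme U ((τ.u default ≫ g).left t) := by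
      change Points.ofPt ((yon S).map (τ.u default) ≫ (yon S).map g) t = _
      rw [← Functor.map_comp]
      have := ofPt_yon_map_comp (τ.u default ≫ g) (𝟙 ((yon S).obj U)) t
      rw [Category.comp_id] at this
      exact this
    rw [h1] at h
    exact (Points.schemeEquiv U).injective h
  · rintro ⟨T, t, τ, rfl⟩
    refine ⟨T, t, τ, ?_⟩
    change Points.ofPt ((yon S).map (τ.u default) ≫ (yon S).map g) t = _
    rw [← Functor.map_comp]
    have := ofPt_yon_map_comp (τ.u default ≫ g) (𝟙 ((yon S).obj U)) t
    rw [Category.comp_id] at this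
    exact this

set_option backward.isDefEq.respectTransparency.types false in
theorem isOpen_om_of_sep {X : Sp S} {U : Over S} (a : (yon S).obj U ⟶ X)
    (hΔo : RepWith @IsOpenImmersion (pullback.diagonal a))
    (hΔc : RepWith @IsClosedImmersion (pullback.diagonal a)) (hae : RepWith @Etale a) (n : ℕ) :
    IsOpen (Om a (Idx n)) := by
  obtain ⟨W, υ, hrep, ⟨i₀, hie, his⟩, -⟩ := exists_rep hΔo hΔc hae n
  have hbase_et : RepWith @Etale υ.base := by
    rw [υ.base_eq i₀]
    exact repWith_comp _ ((repWith_yon_map_iff _ _).2 hie) hae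
  rw [← range_ofPt_base hrep]
  exact (isOpenMap_ofPt _ hbase_et).isOpen_range

theorem diag_props_yon {R U : Over S} (g : R ⟶ U) [Etale g.left] [IsSeparated g.left] :
    RepWith @IsOpenImmersion (pullback.diagonal ((yon S).map g)) ∧
      RepWith @IsClosedImmersion (pullback.diagonal ((yon S).map g)) ∧
      RepWith @Etale ((yon S).map g) :=
  ⟨(repWith_diagonal_yon_map_iff @IsOpenImmersion g).2 inferInstance,
    (isSeparatedMor_yon_map_iff g).2 inferInstance, (repWith_yon_map_iff _ _).2 inferInstance⟩

theorem isOpen_omS {R U : Over S} (g : R ⟶ U) [Etale g.left] [IsSeparated g.left] (n : ℕ) :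
    IsOpen (omS g n) := by
  obtain ⟨h1, h2, h3⟩ := diag_props_yon g
  exact (isOpen_om_of_sep _ h1 h2 h3 n).preimage (Points.continuous_ofPt _)

theorem omS_mono {R U : Over S} (g : R ⟶ U) {n m : ℕ} (h : n ≤ m) : omS g m ⊆ omS g n :=
  fun u hu => Groth.Agent.Lib.Helper24.DecentFin.om_mono _ h hu

end Groth.Agent.Lib.Helper24.OmSep
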