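import Groth.Agent.Lib.Helper24.OmSep
set_option autoImplicit false
set_option linter.unusedSectionVars false
set_option linter.unusedVariables false
universe u
open CategoryTheory CategoryTheory.Limits AlgebraicGeometry Opposite

namespace Groth.Agent.Lib.Helper24.OmSep
open AlgSp Groth.Agent.Lib.Helper14.AS Groth.Agent.Lib.Helper24.Filt1 Groth.Agent.Lib.Helper24.ZarGlue
open Groth.Agent.Lib.Helper24.Filt2 Groth.Agent.Lib.Helper24.Filt3

variable {S : Scheme.{u}}

theorem eqAt_apply {T U : Over S} {v v' : T ⟶ U} {t : T.left} (h : EqAt v v' t) :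
    v.left t = v'.left t := by
  let pt : ↥(Spec (T.left.residueField t)) := IsLocalRing.closedPoint (T.left.residueField t)
  have h1 : (T.left.fromSpecResidueField t ≫ v.left) pt =
      (T.left.fromSpecResidueField t ≫ v'.left) pt := by
    rw [show T.left.fromSpecResidueField t ≫ v.left = T.left.fromSpecResidueField t ≫ v'.left from h]
  rw [Scheme.Hom.comp_apply, Scheme.Hom.comp_apply, Scheme.fromSpecResidueField_apply] at h1
  exact h1

/-- pushing a tuple forward along a monomorphism of charts -/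
def pushTup {X : Sp S} {U V : Over S} (a : (yon S).obj U ⟶ X) (incl : V ⟶ U) [Mono incl.left]
    {ι : Type} {T : Over S} (τ : Tup ((yon S).map incl ≫ a) ι T) : Tup a ι T where
  u := fun i => τ.u i ≫ incl
  compat := fun i j => by
    rw [Functor.map_comp, Functor.map_comp, Category.assoc, Category.assoc]
    exact τ.compat i j
  apart := fun i j hij t' h => by
    apply τ.apart i j hij t'
    have h' : T.left.fromSpecResidueField t' ≫ (τ.u i).left ≫ incl.left =
        T.left.fromSpecResidueField t' ≫ (τ.u j).left ≫ incl.left := h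
    rw [← Category.assoc, ← Category.assoc, cancel_mono] at h'
    exact h'

theorem comp_eq_of_compat {R U : Over S} (g : R ⟶ U) {ι : Type} {T : Over S}
    (τ : Tup ((yon S).map g) ι T) (i j : ι) : τ.u i ≫ g = τ.u j ≫ g := by
  apply (yon S).map_injective
  rw [Functor.map_comp, Functor.map_comp]
  exact τ.compat i j

/-- shrinking: if the whole fibre over `u` lies in the open `R'`, tuples over `u` restrict. -/
theorem mem_omS_restrict {R U : Over S} (g : R ⟶ U) (R' : R.left.Opens) (n : ℕ) (u : U.left)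
    (hu : u ∈ omS g n) (hfib : g.left ⁻¹' {u} ⊆ (R' : Set R.left)) :
    u ∈ omS (resOpenι R R' ≫ g) n := by
  rw [mem_omS_iff] at hu ⊢
  obtain ⟨T, t, τ, rfl⟩ := hu
  have := instFiniteIdx n
  have hmem : ∀ i, (τ.u i).left t ∈ R' := by
    intro i
    apply hfib
    change g.left ((τ.u i).left t) = _
    rw [← Scheme.Hom.comp_apply, ← Over.comp_left, comp_eq_of_compat g τ i default]
  let T' : T.left.Opens := ⟨⋂ i, (τ.u i).left ⁻¹' (R' : Set R.left),
    isOpen_iInter_of_finite fun i => R'.2.preimage (τ.u i).left.continuous⟩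
  have ht : t ∈ T' := Set.mem_iInter.2 hmem
  have hl : ∀ i, ∃ u' : resOpen T T' ⟶ resOpen R R', u' ≫ resOpenι R R' = resOpenι T T' ≫ τ.u i := by
    intro i
    refine exists_lift_resOpen (resOpenι T T' ≫ τ.u i) R' ?_
    intro t'
    exact Set.mem_iInter.1 t'.2 i
  choose u' hu' using hl
  let τ' : Tup ((yon S).map (resOpenι R R' ≫ g)) (Idx n) (resOpen T T') :=
    { u := u'
      compat := fun i j => by
        rw [← Functor.map_comp, ← Functor.map_comp, ← Category.assoc, ← Category.assoc, hu' i, hu' j,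
          Category.assoc, Category.assoc, comp_eq_of_compat g τ i j]
      apart := fun i j hij t' h => by
        have h2 : EqAt (u' i ≫ resOpenι R R') (u' j ≫ resOpenι R R') t' := by
          unfold EqAt at h ⊢
          rw [Over.comp_left, Over.comp_left, ← Category.assoc, ← Category.assoc, h]
        rw [hu' i, hu' j, eqAt_comp_iff] at h2
        exact τ.apart i j hij _ h2 }
  refine ⟨resOpen T T', ⟨t, ht⟩, τ', ?_⟩
  change (u' default ≫ resOpenι R R' ≫ g).left _ = _
  rw [← Category.assoc, hu' default]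
  rfl

end Groth.Agent.Lib.Helper24.OmSep

namespace Groth.Agent.Lib.Helper24.OmSep
open AlgSp Groth.Agent.Lib.Helper14.AS Groth.Agent.Lib.Helper24.Filt1 Groth.Agent.Lib.Helper24.ZarGlue
open Groth.Agent.Lib.Helper24.Filt2 Groth.Agent.Lib.Helper24.Filt3

variable {S : Scheme.{u}}

/-- an extra point of the fibre outside `R'` increases the count. -/
theorem mem_omS_succ_of_extra {R U : Over S} (g : R ⟶ U) (R' : R.left.Opens) (n : ℕ) (u : U.left)
    (hu : u ∈ omS (resOpenι R R' ≫ g) n) (r : R.left) (hr : g.left r = u) (hrR : r ∉ R') :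
    u ∈ omS g (n + 1) := by
  rw [mem_omS_iff] at hu ⊢
  obtain ⟨T, t, τ', hτ'⟩ := hu
  let b : T ⟶ U := τ'.u default ≫ resOpenι R R' ≫ g
  have hbt : b.left t = g.left r := by rw [hr]; exact hτ'
  -- a point of the fibre product over `t` and `r`
  obtain ⟨w, hw1, hw2⟩ := Scheme.Pullback.exists_preimage_pullback t r hbt
  let Z : Over S := Over.mk (pullback.fst b.left g.left ≫ T.hom)
  let p1 : Z ⟶ T := Over.homMk (pullback.fst b.left g.left) rfl
  let p2 : Z ⟶ R := Over.homMk (pullback.snd b.left g.left) (by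
    change pullback.snd b.left g.left ≫ R.hom = pullback.fst b.left g.left ≫ T.hom
    rw [← Over.w g, ← Category.assoc, ← pullback.condition, Category.assoc, Over.w b])
  have hp : p1 ≫ b = p2 ≫ g := by
    ext1
    exact pullback.condition
  let T'' : Over S := ptOver Z w
  let h1 : T'' ⟶ T := ptHom Z w ≫ p1
  let h2 : T'' ⟶ R := ptHom Z w ≫ p2
  have hh : h1 ≫ b = h2 ≫ g := by
    change (ptHom Z w ≫ p1) ≫ b = (ptHom Z w ≫ p2) ≫ g
    rw [Category.assoc, Category.assoc, hp]
  have hpt : ∀ x : T''.left, (ptHom Z w).left x = w := fun x =>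
    Scheme.fromSpecResidueField_apply _ _
  let τ₀ : Tup ((yon S).map g) (Idx n) T'' :=
    pushTup ((yon S).map g) (resOpenι R R') (τ'.map h1 : Tup ((yon S).map (resOpenι R R') ≫ (yon S).map g) (Idx n) T'')
  have hτ₀u : ∀ i, τ₀.u i = h1 ≫ τ'.u i ≫ resOpenι R R' := fun i => Category.assoc _ _ _
  have hv : ∀ i, (yon S).map h2 ≫ (yon S).map g = (yon S).map (τ₀.u i) ≫ (yon S).map g := by
    intro i
    rw [← Functor.map_comp, ← Functor.map_comp, ← hh, hτ₀u i]
    congr 1
    change h1 ≫ τ'.u default ≫ resOpenι R R' ≫ g = (h1 ≫ τ'.u i ≫ resOpenι R R') ≫ g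
    have := comp_eq_of_compat (resOpenι R R' ≫ g) τ' default i
    rw [Category.assoc, Category.assoc, this]
    simp only [Category.assoc, h1]
  have hap : ∀ i (x : T''.left), ¬ EqAt h2 (τ₀.u i) x := by
    intro i x h
    have e := eqAt_apply h
    have e2 : h2.left x = r := by
      change (pullback.snd b.left g.left) ((ptHom Z w).left x) = r
      rw [hpt x]
      exact hw2
    rw [e2, hτ₀u i] at e
    apply hrR
    rw [e]
    change (R'.ι.base ((h1 ≫ τ'.u i).left x) : R.left) ∈ R'
    exact ((h1 ≫ τ'.u i).left x).2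
  let τ₁ : Tup ((yon S).map g) (Option (Idx n)) T'' := τ₀.cons h2 hv hap
  refine ⟨T'', IsLocalRing.closedPoint _, τ₁, ?_⟩
  change (h2 ≫ g).left _ = u
  rw [← hr]
  change g.left (h2.left _) = g.left r
  congr 1
  exact (congrArg (pullback.snd b.left g.left) (hpt _)).trans hw2

end Groth.Agent.Lib.Helper24.OmSep

namespace Groth.Agent.Lib.Helper24.OmSep
open AlgSp Groth.Agent.Lib.Helper14.AS Groth.Agent.Lib.Helper24.Filt1 Groth.Agent.Lib.Helper24.ZarGlue
open Groth.Agent.Lib.Helper24.Filt2 Groth.Agent.Lib.Helper24.Filt3 TopologicalSpace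

variable {S : Scheme.{u}}

theorem mem_omS_zero {R U : Over S} (g : R ⟶ U) (r : R.left) : g.left r ∈ omS g 0 := by
  rw [mem_omS_iff]
  exact ⟨R, r, unitTup ((yon S).map g), by
    change (𝟙 R ≫ g).left r = _
    rw [Category.id_comp]⟩

theorem exists_compact_open_of_finite {R : Scheme.{u}} (F : Set R) (hF : F.Finite) :
    ∃ R' : R.Opens, IsCompact (R' : Set R) ∧ F ⊆ R' := by
  have h : ∀ r : R, ∃ O : R.Opens, IsAffineOpen O ∧ r ∈ O := fun r => by
    obtain ⟨O, hO, hr, -⟩ := exists_isAffineOpen_mem_and_subset (x := r) (U := ⊤) trivial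
    exact ⟨O, hO, hr⟩
  choose O hO hr using h
  refine ⟨⨆ r ∈ F, O r, ?_, ?_⟩
  · have : ((⨆ r ∈ F, O r : R.Opens) : Set R) = ⋃ r ∈ F, (O r : Set R) := by
      simp [Opens.coe_iSup]
    rw [this]
    exact hF.isCompact_biUnion fun r _ => (hO r).isCompact
  · intro r hrF
    exact Opens.mem_iSup.2 ⟨r, Opens.mem_iSup.2 ⟨hrF, hr r⟩⟩

theorem finite_fibre_of_not_mem_omS {R U : Over S} (g : R ⟶ U) (u : U.left) {N : ℕ}
    (hN : u ∉ omS g N) : (g.left ⁻¹' {u}).Finite := by
  have h := Groth.Agent.Lib.Helper24.DecentFin.finite_fibre_of_not_mem_om (IsAlgSpace.yon_obj U)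
    ((yon S).map g) (Points.ofScheme U u) hN
  refine h.subset ?_
  rintro r hr
  rw [Set.mem_preimage, Set.mem_singleton_iff] at hr ⊢
  rw [← hr]
  have := ofPt_yon_map_comp g (𝟙 ((yon S).obj U)) r
  rw [Category.comp_id] at this
  exact this

end Groth.Agent.Lib.Helper24.OmSep
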