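import Groth.Agent.Lib.Helper24.OmSep2
set_option autoImplicit false
set_option linter.unusedSectionVars false
set_option linter.unusedVariables false
universe u
open CategoryTheory CategoryTheory.Limits AlgebraicGeometry Opposite

namespace Groth.Agent.Lib.Helper24.OmSep
open AlgSp Groth.Agent.Lib.Helper14.AS Groth.Agent.Lib.Helper24.Filt1 Groth.Agent.Lib.Helper24.ZarGlue
open Groth.Agent.Lib.Helper24.Filt2 Groth.Agent.Lib.Helper24.Filt3 TopologicalSpace

variable {S : Scheme.{u}}

/-- the irreducible step -/
theorem isCompact_preimage_irreducible {R U : Over S} (g : R ⟶ U) [Etale g.left] [IsSeparated g.left]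
    [IsNoetherian U.left] (hb : ∀ u : U.left, ∃ N, u ∉ omS g N)
    (Z : Closeds U.left) (hZ : IsIrreducible (Z : Set U.left))
    (IH : ∀ Z' : Closeds U.left, Z' < Z → IsCompact (g.left ⁻¹' (Z' : Set U.left))) :
    IsCompact (g.left ⁻¹' (Z : Set U.left)) := by
  classical
  let η : U.left := hZ.genericPoint
  have hη : IsGenericPoint η (Z : Set U.left) := by
    have := hZ.isGenericPoint_genericPoint_closure
    rwa [Z.isClosed.closure_eq] at this
  have hηZ : η ∈ (Z : Set U.left) := hη.mem
  let m := Nat.find (hb η)
  have hm : η ∉ omS g m := Nat.find_spec (hb η)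
  have hA : ∀ v ∈ (Z : Set U.left), v ∉ omS g m := by
    intro v hv hvm
    exact hm ((hη.specializes hv).mem_open (isOpen_omS g m) hvm)
  rcases Nat.eq_zero_or_pos m with h0 | hpos
  · -- empty preimage
    have : g.left ⁻¹' (Z : Set U.left) = ∅ := by
      ext r
      simp only [Set.mem_preimage, Set.mem_empty_iff_false, iff_false]
      intro hr
      apply hA _ hr
      change g.left r ∈ omS g (Nat.find (hb η))
      rw [show Nat.find (hb η) = 0 from h0]
      exact mem_omS_zero g r
    rw [this]
    exact isCompact_empty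
  · obtain ⟨k, hk⟩ : ∃ k, m = k + 1 := ⟨m - 1, by omega⟩
    have hηk : η ∈ omS g k := by
      by_contra hcon
      have := Nat.find_min' (hb η) hcon
      change m ≤ k at this
      omega
    have hfin : (g.left ⁻¹' {η}).Finite := finite_fibre_of_not_mem_omS g η hm
    obtain ⟨R', hR'c, hR'F⟩ := exists_compact_open_of_finite _ hfin
    let g' : resOpen R R' ⟶ U := resOpenι R R' ≫ g
    have : Etale g'.left := inferInstanceAs (Etale (R'.ι ≫ g.left))
    have : IsSeparated g'.left := inferInstanceAs (IsSeparated (R'.ι ≫ g.left))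
    have hηk' : η ∈ omS g' k := mem_omS_restrict g R' k η hηk hR'F
    have hO' : IsOpen (omS g' k) := isOpen_omS g' k
    have hB : ∀ v ∈ omS g' k ∩ (Z : Set U.left), g.left ⁻¹' {v} ⊆ (R' : Set R.left) := by
      rintro v ⟨hv1, hv2⟩ r hr
      by_contra hrR
      have := mem_omS_succ_of_extra g R' k v hv1 r hr hrR
      rw [← hk] at this
      exact hA v hv2 this
    -- the smaller closed set
    let Z' : Closeds U.left := Z ⊓ ⟨(omS g' k)ᶜ, hO'.isClosed_compl⟩
    have hZ'lt : Z' < Z := by
      refine lt_of_le_of_ne inf_le_left ?_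
      intro h
      have : η ∈ (Z' : Set U.left) := by rw [h]; exact hηZ
      exact this.2 hηk'
    have hc2 := IH Z' hZ'lt
    -- the part over O'
    have : CompactSpace ↥(resOpen R R').left := isCompact_iff_compactSpace.1 hR'c
    have hqc : QuasiCompact g'.left := inferInstance
    have hOc : IsCompact (omS g' k) := NoetherianSpace.isCompact _
    have hc1' : IsCompact (g'.left ⁻¹' (omS g' k) ∩ g'.left ⁻¹' (Z : Set U.left)) :=
      (hqc.isCompact_preimage _ hO' hOc).inter_right (Z.isClosed.preimage g'.left.continuous)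
    have hc1 : IsCompact (R'.ι '' (g'.left ⁻¹' (omS g' k) ∩ g'.left ⁻¹' (Z : Set U.left))) :=
      hc1'.image R'.ι.continuous
    have hunion : g.left ⁻¹' (Z : Set U.left) =
        R'.ι '' (g'.left ⁻¹' (omS g' k) ∩ g'.left ⁻¹' (Z : Set U.left)) ∪
          g.left ⁻¹' (Z' : Set U.left) := by
      ext r
      constructor
      · intro hr
        by_cases hrO : g.left r ∈ omS g' k
        · left
          have hrR' : r ∈ R' := hB (g.left r) ⟨hrO, hr⟩ rfl
          exact ⟨⟨r, hrR'⟩, ⟨hrO, hr⟩, rfl⟩
        · right
          exact ⟨hr, hrO⟩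
      · rintro (⟨r', ⟨-, hr'⟩, rfl⟩ | hr)
        · exact hr'
        · exact hr.1
    rw [hunion]
    exact hc1.union hc2

/-- A separated étale morphism to a Noetherian scheme with pointwise finite fibre degree
has quasi-compact source. -/
theorem compactSpace_of_forall_not_mem_omS {R U : Over S} (g : R ⟶ U) [Etale g.left]
    [IsSeparated g.left] [IsNoetherian U.left] (hb : ∀ u : U.left, ∃ N, u ∉ omS g N) :
    CompactSpace ↥R.left := by
  have key : ∀ Z : Closeds U.left, IsCompact (g.left ⁻¹' (Z : Set U.left)) := by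
    intro Z
    apply wellFounded_lt.induction Z; clear Z
    intro s H
    rcases eq_or_ne s ⊥ with rfl | h₀
    · simp
    · by_cases h₁ : IsPreirreducible (s : Set U.left)
      · exact isCompact_preimage_irreducible g hb s ⟨Closeds.coe_nonempty.2 h₀, h₁⟩ H
      · simp only [isPreirreducible_iff_isClosed_union_isClosed, not_forall, not_or] at h₁
        obtain ⟨z₁, z₂, hz₁, hz₂, h, hz₁', hz₂'⟩ := h₁
        lift z₁ to Closeds U.left using hz₁
        lift z₂ to Closeds U.left using hz₂
        have c1 := H (s ⊓ z₁) (inf_lt_left.2 hz₁')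
        have c2 := H (s ⊓ z₂) (inf_lt_left.2 hz₂')
        have : g.left ⁻¹' (s : Set U.left) =
            g.left ⁻¹' ((s ⊓ z₁ : Closeds U.left) : Set U.left) ∪
              g.left ⁻¹' ((s ⊓ z₂ : Closeds U.left) : Set U.left) := by
          ext r
          simp only [Set.mem_preimage, Set.mem_union, Closeds.coe_inf, Set.mem_inter_iff]
          constructor
          · intro hr
            rcases h hr with h1 | h2
            · exact Or.inl ⟨hr, h1⟩
            · exact Or.inr ⟨hr, h2⟩
          · rintro (⟨hr, -⟩ | ⟨hr, -⟩) <;> exact hr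
        rw [this]
        exact c1.union c2
  have := key ⊤
  rw [Closeds.coe_top, Set.preimage_univ] at this
  exact isCompact_univ_iff.1 this

end Groth.Agent.Lib.Helper24.OmSep
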