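import Groth.Agent.Lib.Helper14.AlgSpBasic2
import Groth.Agent.Lib.Helper14.AlgSpImm
set_option autoImplicit false
universe u
open CategoryTheory CategoryTheory.Limits AlgebraicGeometry Opposite

/-! An open subspace of a scheme is an open subscheme. -/

namespace Groth.Agent.Lib.Helper24.OpenInYon
open AlgSp Groth.Agent.Lib.Helper14.AS

variable {S : Scheme.{u}}

theorem exists_open_subscheme {F : Sp S} {U : Over S} (c : F ⟶ (yon S).obj U)
    (hc : RepWith @IsOpenImmersion c) :
    ∃ (U' : Over S) (i : U' ⟶ U) (ε : (yon S).obj U' ≅ F),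
      IsOpenImmersion i.left ∧ ε.hom ≫ c = (yon S).map i := by
  have hcr := hc.rep
  have sqc := hcr.isPullback (𝟙 ((yon S).obj U))
  have hio : IsOpenImmersion (hcr.snd (𝟙 ((yon S).obj U))).left := hc.property_snd _
  have hεiso : IsIso (hcr.fst (𝟙 ((yon S).obj U))) := IsPullback.isIso_snd_of_isIso sqc.flip
  refine ⟨hcr.pullback (𝟙 ((yon S).obj U)), hcr.snd _, asIso (hcr.fst _), hio, ?_⟩
  rw [asIso_hom, sqc.w, Category.comp_id]

/-- precomposing with an isomorphism keeps a pullback square -/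
theorem isPullback_iso_comp {A A' B C D : Sp S} {fst : A ⟶ B} {snd : A ⟶ C} {f : B ⟶ D} {g : C ⟶ D}
    (sq : IsPullback fst snd f g) (ε : A' ≅ A) : IsPullback (ε.hom ≫ fst) (ε.hom ≫ snd) f g :=
  IsPullback.of_iso sq ε.symm (Iso.refl _) (Iso.refl _) (Iso.refl _) (by simp) (by simp)
    (by simp) (by simp)

end Groth.Agent.Lib.Helper24.OpenInYon
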