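import Mathlib
import Groth.Prelude.Def_EtOpen
import Groth.Prelude.Def_EtShriek2
import Groth.Agent.Lib.Helper24.FlcN

set_option autoImplicit false
set_option backward.isDefEq.respectTransparency false
set_option backward.isDefEq.respectTransparency.types false

/-!
# Sheaves over the subterminal sheaf of an open are sheaves on the open (helper24)
-/

namespace Groth.Agent.Lib.Helper24.OpenLoc

open AlgebraicGeometry CategoryTheory Limits Opposite
open Groth.Agent.Lib.Helper24.Flc

universe u

variable {X : Scheme.{u}} (U : X.Opens)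

/-- `V ↦ (V → U → X)`. -/
noncomputable abbrev L : (U : Scheme.{u}).Etale ⥤ X.Etale := EtShriek.compEtale U.ι

/-- The adjunction between composition with and base change along the open immersion. -/
noncomputable def adjLR : L U ⊣ EtCoh.bc U.ι :=
  MorphismProperty.Over.mapPullbackAdj EtCoh.etaleMP.{u} ⊤ U.ι inferInstance trivial

/-- Restriction of sheaves to the open. -/
noncomputable abbrev Res : EtDesc.Sh X ⥤ EtDesc.Sh (U : Scheme.{u}) :=
  (L U).sheafPushforwardContinuous (Type (u + 1)) (U : Scheme.{u}).smallEtaleTopology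
    X.smallEtaleTopology

noncomputable def adjRes : Res U ⊣ EtDesc.pushSh U.ι :=
  (adjLR U).sheafPushforwardContinuous (E := Type (u + 1)) (U : Scheme.{u}).smallEtaleTopology
    X.smallEtaleTopology

noncomputable def isoRes : EtDesc.pullSh U.ι ≅ Res U :=
  (EtDesc.adjSh U.ι).leftAdjointUniq (adjRes U)

/-- The representable sheaf of the open. -/
noncomputable abbrev hU : EtDesc.Sh X := (hS X).obj (EtDesc.ofOpen U)

instance subsingleton_hom (T : X.Etale) : Subsingleton (T ⟶ EtDesc.ofOpen U) := by
  constructor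
  intro a b
  apply MorphismProperty.Over.Hom.ext
  have ha : a.left ≫ U.ι = T.hom := MorphismProperty.Over.w a
  have hb : b.left ≫ U.ι = T.hom := MorphismProperty.Over.w b
  exact (cancel_mono U.ι).1 (ha.trans hb.symm)

instance subsingleton_hU (T : X.Etale) : Subsingleton ((hU U).obj.obj (op T)) := by
  constructor
  intro a b
  apply ULift.ext
  exact Subsingleton.elim (α := T ⟶ EtDesc.ofOpen U) _ _

/-- An object of the small étale site of `X` mapping to `U`, seen over `U`. -/
noncomputable def lft (T : X.Etale) (t : T ⟶ EtDesc.ofOpen U) : (U : Scheme.{u}).Etale :=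
  MorphismProperty.Over.mk ⊤ (t.left : T.left ⟶ (U : Scheme.{u})) (by
    have h1 : EtCoh.etaleMP.{u} (t.left ≫ U.ι) := by
      have : t.left ≫ U.ι = T.hom := MorphismProperty.Over.w t
      rw [this]
      exact T.prop
    exact EtCoh.etaleMP.of_postcomp (W' := EtCoh.etaleMP) t.left U.ι inferInstance h1)

noncomputable def lftIso (T : X.Etale) (t : T ⟶ EtDesc.ofOpen U) : (L U).obj (lft U T t) ≅ T :=
  MorphismProperty.Over.isoMk (Iso.refl _) (by
    have : t.left ≫ U.ι = T.hom := MorphismProperty.Over.w t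
    simpa [lft] using this.symm)

noncomputable def lftMap {T₁ T : X.Etale} (f : T₁ ⟶ T) (t : T ⟶ EtDesc.ofOpen U)
    (t₁ : T₁ ⟶ EtDesc.ofOpen U) : lft U T₁ t₁ ⟶ lft U T t :=
  MorphismProperty.Over.homMk f.left (by
    have : t₁ = f ≫ t := Subsingleton.elim _ _
    rw [this]
    rfl)

lemma lftIso_naturality {T₁ T : X.Etale} (f : T₁ ⟶ T) (t : T ⟶ EtDesc.ofOpen U)
    (t₁ : T₁ ⟶ EtDesc.ofOpen U) :
    (lftIso U T₁ t₁).hom ≫ f = (L U).map (lftMap U f t t₁) ≫ (lftIso U T t).hom := by
  apply MorphismProperty.Over.Hom.ext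
  change 𝟙 _ ≫ f.left = f.left ≫ 𝟙 _
  rw [Category.id_comp, Category.comp_id]

/-- The canonical morphism `L V ⟶ U`. -/
noncomputable def toU (V : (U : Scheme.{u}).Etale) : (L U).obj V ⟶ EtDesc.ofOpen U :=
  MorphismProperty.Over.homMk V.hom rfl

end Groth.Agent.Lib.Helper24.OpenLoc
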