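import Mathlib
import Groth.Prelude.Def_EtOpen
import Groth.Prelude.Def_EtShriek2
import Groth.Agent.Lib.Helper24.OpenLocA

set_option autoImplicit false
set_option backward.isDefEq.respectTransparency false
set_option backward.isDefEq.respectTransparency.types false

/-!
# Restriction from sheaves over `h_U` to sheaves on `U` is fully faithful (helper24)
-/

namespace Groth.Agent.Lib.Helper24.OpenLoc

open AlgebraicGeometry CategoryTheory Limits Opposite
open Groth.Agent.Lib.Helper24.Flc

universe u

variable {X : Scheme.{u}} (U : X.Opens)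

/-- Restriction from sheaves over `h_U`. -/
noncomputable abbrev Ψ : Over (hU U) ⥤ EtDesc.Sh (U : Scheme.{u}) := Over.forget (hU U) ⋙ Res U

variable {U}

/-- The point of `U` under a section of a sheaf over `h_U`. -/
noncomputable def pt (A : Over (hU U)) (T : X.Etale) (s : A.left.obj.obj (op T)) :
    T ⟶ EtDesc.ofOpen U :=
  (A.hom.hom.app (op T) s).down

variable {A B : Over (hU U)}

/-- Extension of a morphism between restrictions. -/
noncomputable def ext (γ : (Ψ U).obj A ⟶ (Ψ U).obj B) (T : X.Etale) (t : T ⟶ EtDesc.ofOpen U)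
    (s : A.left.obj.obj (op T)) : B.left.obj.obj (op T) :=
  B.left.obj.map (lftIso U T t).inv.op
    (γ.hom.app (op (lft U T t)) (A.left.obj.map (lftIso U T t).hom.op s))

lemma ext_natural (γ : (Ψ U).obj A ⟶ (Ψ U).obj B) {T₁ T : X.Etale} (f : T₁ ⟶ T)
    (t : T ⟶ EtDesc.ofOpen U) (t₁ : T₁ ⟶ EtDesc.ofOpen U) (s : A.left.obj.obj (op T)) :
    ext γ T₁ t₁ (A.left.obj.map f.op s) = B.left.obj.map f.op (ext γ T t s) := by
  unfold ext
  have h1 := lftIso_naturality U f t t₁
  have h2 : f ≫ (lftIso U T t).inv = (lftIso U T₁ t₁).inv ≫ (L U).map (lftMap U f t t₁) := by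
    rw [Iso.eq_inv_comp, ← Category.assoc, h1, Category.assoc, Iso.hom_inv_id, Category.comp_id]
  have e1 : A.left.obj.map (lftIso U T₁ t₁).hom.op (A.left.obj.map f.op s) =
      A.left.obj.map ((L U).map (lftMap U f t t₁)).op
        (A.left.obj.map (lftIso U T t).hom.op s) := by
    rw [← Functor.map_comp_apply, ← Functor.map_comp_apply, ← op_comp, ← op_comp,
      h1]
  rw [e1]
  have e2 := NatTrans.naturality_apply γ.hom (lftMap U f t t₁).op
    (A.left.obj.map (lftIso U T t).hom.op s)
  have e2' : γ.hom.app (op (lft U T₁ t₁))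
      (A.left.obj.map ((L U).map (lftMap U f t t₁)).op
        (A.left.obj.map (lftIso U T t).hom.op s)) =
      B.left.obj.map ((L U).map (lftMap U f t t₁)).op
        (γ.hom.app (op (lft U T t)) (A.left.obj.map (lftIso U T t).hom.op s)) := e2
  rw [e2', ← Functor.map_comp_apply, ← Functor.map_comp_apply, ← op_comp,
    ← op_comp, h2]

/-- The extended morphism of sheaves. -/
noncomputable def extHom (γ : (Ψ U).obj A ⟶ (Ψ U).obj B) : A.left ⟶ B.left :=
  ⟨{ app := fun T => ↾fun s => ext γ T.unop (pt A T.unop s) s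
     naturality := fun T T₁ f => by
      ext s
      exact ext_natural γ f.unop (pt A T.unop s) _ s }⟩

lemma extHom_app (γ : (Ψ U).obj A ⟶ (Ψ U).obj B) (T : X.Etale) (s : A.left.obj.obj (op T)) :
    (extHom γ).hom.app (op T) s = ext γ T (pt A T s) s := rfl

/-- `lft` of an object coming from `U`. -/
noncomputable def lftL (V : (U : Scheme.{u}).Etale) (t : (L U).obj V ⟶ EtDesc.ofOpen U) :
    lft U ((L U).obj V) t ≅ V :=
  MorphismProperty.Over.isoMk (Iso.refl _) (by
    have h1 : t.left ≫ U.ι = V.hom ≫ U.ι := MorphismProperty.Over.w t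
    have h2 : t.left = V.hom := (cancel_mono U.ι).1 h1
    change 𝟙 _ ≫ V.hom = t.left
    rw [Category.id_comp, h2])

lemma map_lftL (V : (U : Scheme.{u}).Etale) (t : (L U).obj V ⟶ EtDesc.ofOpen U) :
    (L U).map (lftL V t).hom = (lftIso U ((L U).obj V) t).hom := by
  apply MorphismProperty.Over.Hom.ext
  rfl

lemma ext_L (γ : (Ψ U).obj A ⟶ (Ψ U).obj B) (V : (U : Scheme.{u}).Etale)
    (t : (L U).obj V ⟶ EtDesc.ofOpen U) (s : A.left.obj.obj (op ((L U).obj V))) :
    ext γ ((L U).obj V) t s = γ.hom.app (op V) s := by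
  unfold ext
  have e2 := NatTrans.naturality_apply γ.hom (lftL V t).hom.op s
  have e2' : γ.hom.app (op (lft U ((L U).obj V) t))
      (A.left.obj.map ((L U).map (lftL V t).hom).op s) =
      B.left.obj.map ((L U).map (lftL V t).hom).op (γ.hom.app (op V) s) := e2
  rw [← map_lftL, e2', ← Functor.map_comp_apply, ← op_comp, map_lftL, Iso.inv_hom_id, op_id,
    B.left.obj.map_id]
  rfl

instance Ψ_full : (Ψ U).Full where
  map_surjective {A B} γ := by
    refine ⟨Over.homMk (extHom γ) ?_, ?_⟩
    · apply Sheaf.hom_ext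
      ext T s
      obtain ⟨T⟩ := T
      exact Subsingleton.elim (α := (hU U).obj.obj (op T)) _ _
    · apply Sheaf.hom_ext
      ext V s
      exact ext_L γ V.unop _ s

instance Ψ_faithful : (Ψ U).Faithful where
  map_injective {A B} α β h := by
    apply Over.OverMorphism.ext
    apply Sheaf.hom_ext
    ext T s
    obtain ⟨T⟩ := T
    let t := pt A T s
    let e := lftIso U T t
    have hα : α.left.hom.app (op T) s =
        B.left.obj.map e.inv.op (α.left.hom.app (op ((L U).obj (lft U T t)))
          (A.left.obj.map e.hom.op s)) := by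
      rw [NatTrans.naturality_apply α.left.hom e.hom.op s, ← Functor.map_comp_apply, ← op_comp,
        Iso.inv_hom_id, op_id, B.left.obj.map_id]
      rfl
    have hβ : β.left.hom.app (op T) s =
        B.left.obj.map e.inv.op (β.left.hom.app (op ((L U).obj (lft U T t)))
          (A.left.obj.map e.hom.op s)) := by
      rw [NatTrans.naturality_apply β.left.hom e.hom.op s, ← Functor.map_comp_apply, ← op_comp,
        Iso.inv_hom_id, op_id, B.left.obj.map_id]
      rfl
    have h1 : α.left.hom.app (op ((L U).obj (lft U T t))) =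
        β.left.hom.app (op ((L U).obj (lft U T t))) :=
      congrArg (fun k => k.hom.app (op (lft U T t))) h
    refine hα.trans (Eq.trans ?_ hβ.symm)
    rw [h1]

end Groth.Agent.Lib.Helper24.OpenLoc
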