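import Mathlib
import Groth.Prelude.Def_EtOpen
import Groth.Prelude.Def_EtShriek2
import Groth.Agent.Lib.Helper24.OpenLocB

set_option autoImplicit false
set_option backward.isDefEq.respectTransparency false
set_option backward.isDefEq.respectTransparency.types false

/-!
# Restriction from sheaves over `h_U` to sheaves on `U` is an equivalence (helper24)
-/

namespace Groth.Agent.Lib.Helper24.OpenLoc

open AlgebraicGeometry CategoryTheory Limits Opposite
open Groth.Agent.Lib.Helper24.Flc

universe u

variable {X : Scheme.{u}} (U : X.Opens)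

instance unit_isIso (V : (U : Scheme.{u}).Etale) : IsIso ((adjLR U).unit.app V) :=
  inferInstance

instance counit_isIso (G : EtDesc.Sh (U : Scheme.{u})) : IsIso ((adjRes U).counit.app G) := by
  have h : IsIso ((adjRes U).counit.app G).hom := by
    apply (config := { allowSynthFailures := true }) NatIso.isIso_of_isIso_app
    intro V
    obtain ⟨V⟩ := V
    have : ((adjRes U).counit.app G).hom.app (op V) = G.obj.map ((adjLR U).unit.app V).op := by
      simp [adjRes]
    rw [this]
    infer_instance
  exact (isIso_iff_of_reflects_iso _ (sheafToPresheaf _ _)).1 h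

noncomputable instance unique_resHU (V : (U : Scheme.{u}).Etale) :
    Unique (((Res U).obj (hU U)).obj.obj (op V)) where
  default := ULift.up (toU U V)
  uniq a := Subsingleton.elim (α := (hU U).obj.obj (op ((L U).obj V))) _ _

/-- The restriction of `h_U` to `U` is terminal. -/
noncomputable def isTerminalRes : IsTerminal ((Res U).obj (hU U)) :=
  IsTerminal.ofUniqueHom
    (fun A => ⟨{ app := fun V => ↾fun _ => ULift.up (toU U V.unop)
                 naturality := fun V W f => by
                  ext s
                  exact Subsingleton.elim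
                    (α := (hU U).obj.obj (op ((L U).obj W.unop))) _ _ }⟩)
    (fun A m => by
      apply Sheaf.hom_ext
      ext V s
      obtain ⟨V⟩ := V
      exact Subsingleton.elim (α := (hU U).obj.obj (op ((L U).obj V))) _ _)

instance res_isRightAdjoint : (Res U).IsRightAdjoint :=
  ((L U).sheafAdjunctionContinuous (Type (u + 1)) (U : Scheme.{u}).smallEtaleTopology
    X.smallEtaleTopology).isRightAdjoint

instance Ψ_essSurj : (Ψ U).EssSurj where
  mem_essImage G := by
    let F : EtDesc.Sh X := (EtDesc.pushSh U.ι).obj G ⨯ hU U
    let A : Over (hU U) := Over.mk (prod.snd : F ⟶ hU U)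
    refine ⟨A, ⟨?_⟩⟩
    let e1 : (Res U).obj F ≅ (Res U).obj ((EtDesc.pushSh U.ι).obj G) ⨯ (Res U).obj (hU U) :=
      PreservesLimitPair.iso (Res U) _ _
    let e2 : (Res U).obj (hU U) ≅ ⊤_ (EtDesc.Sh (U : Scheme.{u})) :=
      (isTerminalRes U).uniqueUpToIso terminalIsTerminal
    let e3 : (Res U).obj ((EtDesc.pushSh U.ι).obj G) ≅ G := asIso ((adjRes U).counit.app G)
    exact e1 ≪≫ prod.mapIso e3 e2 ≪≫ prod.rightUnitor G

instance Ψ_isEquivalence : (Ψ U).IsEquivalence where

end Groth.Agent.Lib.Helper24.OpenLoc
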