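import Mathlib
import Groth.Prelude.Def_EtOpen
import Groth.Prelude.Def_EtShriek2
import Groth.Agent.Lib.Helper24.OpenLocC

set_option autoImplicit false
set_option backward.isDefEq.respectTransparency false
set_option backward.isDefEq.respectTransparency.types false

namespace Groth.Agent.Lib.Helper24.OpenLoc

open AlgebraicGeometry CategoryTheory Limits Opposite
open Groth.Agent.Lib.Helper24.Flc

universe u

variable (X : Scheme.{u}) (U : X.Opens)

/-- The sheafified representable is the representable sheaf. -/
noncomputable def repIso : EtDesc.repSh (EtDesc.ofOpen U) ≅ hU U :=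
  (sheafificationIso (hU U)).symm

theorem pullSh_over_open_isEquivalence :
    (Over.forget (EtDesc.repSh (EtDesc.ofOpen U)) ⋙ EtDesc.pullSh U.ι).IsEquivalence := by
  let E : Over (EtDesc.repSh (EtDesc.ofOpen U)) ≌ Over (hU U) := Over.mapIso (repIso X U)
  have h1 : (E.functor ⋙ Ψ U).IsEquivalence := inferInstance
  let i : E.functor ⋙ Ψ U ≅ Over.forget (EtDesc.repSh (EtDesc.ofOpen U)) ⋙ EtDesc.pullSh U.ι :=
    (Functor.associator _ _ _).symm ≪≫
      Functor.isoWhiskerRight (Over.mapForget (repIso X U).hom) (Res U) ≪≫
      Functor.isoWhiskerLeft _ (isoRes U).symm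
  exact Functor.isEquivalence_of_iso i

end Groth.Agent.Lib.Helper24.OpenLoc
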