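import Groth.Prelude.Def_ParBun

/-! # Parabolic extensions: the short exact sequence of pieces -/

set_option autoImplicit false
set_option backward.isDefEq.respectTransparency false
set_option backward.isDefEq.respectTransparency.types false

universe v u
open CategoryTheory CategoryTheory.Limits

namespace Groth.Agent.Lib.Helper24.ParHilb

variable {C : Type u} [Category.{v} C] [Abelian C]

section

variable {F E G : C} (i : F ⟶ E) (p : E ⟶ G) (w : i ≫ p = 0) (A : Subobject E)

/-- `0 → A ∩ F → A → p(A) → 0`. -/
noncomputable def subSeq : ShortComplex C :=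
  ShortComplex.mk (Subobject.pullbackπ i A) (factorThruImageSubobject (A.arrow ≫ p)) (by
    rw [← cancel_mono (imageSubobject (A.arrow ≫ p)).arrow, Category.assoc,
      imageSubobject_arrow_comp, zero_comp]
    have h := (Subobject.isPullback i A).w
    rw [← Category.assoc, h, Category.assoc, w, comp_zero])

variable (hS : (ShortComplex.mk i p w).ShortExact)

include hS in
theorem subSeq_shortExact : (subSeq i p w A).ShortExact := by
  have : Mono i := hS.mono_f
  have : Mono (Subobject.pullbackπ i A) := by
    have := (Subobject.isPullback i A)
    exact this.mono_fst_of_mono  -- ?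
  refine
    { exact := ?_
      mono_f := by dsimp [subSeq]; infer_instance
      epi_g := by dsimp [subSeq]; infer_instance }
  apply ShortComplex.exact_of_f_is_kernel
  dsimp [subSeq]
  refine KernelFork.IsLimit.ofι' _ _ (fun {T} t ht => ?_)
  have ht' : (t ≫ A.arrow) ≫ p = 0 := by
    have := ht =≫ (imageSubobject (A.arrow ≫ p)).arrow
    simpa using this
  have hl : hS.fIsKernel.lift (KernelFork.ofι _ ht') ≫ i = t ≫ A.arrow :=
    hS.fIsKernel.fac _ WalkingParallelPair.zero
  exact ⟨(Subobject.isPullback i A).lift t _ hl.symm, (Subobject.isPullback i A).lift_fst _ _ _⟩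

end

end Groth.Agent.Lib.Helper24.ParHilb
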