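import Groth.Prelude.Def_ParBun

/-! # Parabolic sums: algebraic identities -/

set_option autoImplicit false
set_option backward.isDefEq.respectTransparency false
set_option backward.isDefEq.respectTransparency.types false

universe v u
open CategoryTheory CategoryTheory.Limits

namespace Groth.Agent.Lib.Helper24.ParHilb

open ParSh

section Generic

variable {C : Type u} [Category.{v} C]

/-- `parSum` in terms of the extended pieces. -/
theorem parSum_eq_pieceX {E : C} (𝓔 : Str E) (f : C → ℝ) :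
    𝓔.parSum f = f (𝓔.pieceX (Fin.last (𝓔.l + 1)) : C) +
      ∑ j : Fin (𝓔.l + 1), 𝓔.wtX j.castSucc *
        (f (𝓔.pieceX j.castSucc : C) - f (𝓔.pieceX j.succ : C)) := by
  unfold Str.parSum
  simp only [Str.pieceX_last, Str.pieceX_castSucc, Str.wtX_castSucc]

/-- Abel summation for a parabolic sum, when `f(F_j) = p - h_j` with `h_0 = 0`. -/
theorem parSum_eq_of_sub {E : C} (𝓔 : Str E) (f : C → ℝ) (p : ℝ) (h : Fin (𝓔.l + 2) → ℝ)
    (hf : ∀ j, f (𝓔.pieceX j : C) = p - h j) (h0 : h 0 = 0) :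
    𝓔.parSum f =
      p - ∑ j : Fin (𝓔.l + 1), (𝓔.wtX j.succ - 𝓔.wtX j.castSucc) * h j.succ := by
  rw [parSum_eq_pieceX]
  simp only [hf]
  have key : ∑ j : Fin (𝓔.l + 1), 𝓔.wtX j.succ * h j.succ =
      ∑ j : Fin (𝓔.l + 1), 𝓔.wtX j.castSucc * h j.castSucc + h (Fin.last (𝓔.l + 1)) := by
    have h1 := Fin.sum_univ_succ (fun i : Fin (𝓔.l + 2) => 𝓔.wtX i * h i)
    have h2 := Fin.sum_univ_castSucc (fun i : Fin (𝓔.l + 2) => 𝓔.wtX i * h i)
    simp only [h0, mul_zero, zero_add, Str.wtX_last, one_mul] at h1 h2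
    rw [← h1, h2]
  simp only [sub_mul, Finset.sum_sub_distrib, mul_sub]
  rw [key]
  have e1 : ∑ j : Fin (𝓔.l + 1), 𝓔.wtX j.castSucc * (p - h j.castSucc - (p - h j.succ)) =
      ∑ j : Fin (𝓔.l + 1), 𝓔.wtX j.castSucc * h j.succ -
        ∑ j : Fin (𝓔.l + 1), 𝓔.wtX j.castSucc * h j.castSucc := by
    rw [← Finset.sum_sub_distrib]
    refine Finset.sum_congr rfl fun j _ => ?_
    ring
  simp only [mul_sub, Finset.sum_sub_distrib] at e1 ⊢
  linarith

end Generic

section Ext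

variable {C : Type u} [Category.{v} C] [Abelian C]

theorem pieceX_induced {F E : C} (i : F ⟶ E) (𝓔 : Str E) (j : Fin (𝓔.l + 2)) :
    (𝓔.induced i).pieceX j = (Subobject.pullback i).obj (𝓔.pieceX j) := by
  induction j using Fin.lastCases with
  | last => exact ((𝓔.induced i).pieceX_last).trans (by rw [𝓔.pieceX_last]; rfl)
  | cast j => exact ((𝓔.induced i).pieceX_castSucc j).trans (by rw [𝓔.pieceX_castSucc]; rfl)

theorem pieceX_coinduced {E G : C} (p : E ⟶ G) [Epi p] (𝓔 : Str E) (j : Fin (𝓔.l + 2)) :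
    (𝓔.coinduced p).pieceX j = imageSubobject ((𝓔.pieceX j).arrow ≫ p) := by
  induction j using Fin.lastCases with
  | last => exact ((𝓔.coinduced p).pieceX_last).trans (by rw [𝓔.pieceX_last]; rfl)
  | cast j => exact ((𝓔.coinduced p).pieceX_castSucc j).trans (by rw [𝓔.pieceX_castSucc]; rfl)

theorem parSum_induced {F E : C} (i : F ⟶ E) (𝓔 : Str E) (f : C → ℝ) :
    (𝓔.induced i).parSum f =
      f ((Subobject.pullback i).obj (𝓔.pieceX (Fin.last (𝓔.l + 1))) : C) +
      ∑ j : Fin (𝓔.l + 1), 𝓔.wtX j.castSucc *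
        (f ((Subobject.pullback i).obj (𝓔.pieceX j.castSucc) : C) -
          f ((Subobject.pullback i).obj (𝓔.pieceX j.succ) : C)) := by
  refine (parSum_eq_pieceX _ f).trans ?_
  simp only [pieceX_induced]
  rfl

theorem parSum_coinduced {E G : C} (p : E ⟶ G) [Epi p] (𝓔 : Str E) (f : C → ℝ) :
    (𝓔.coinduced p).parSum f =
      f (imageSubobject ((𝓔.pieceX (Fin.last (𝓔.l + 1))).arrow ≫ p) : C) +
      ∑ j : Fin (𝓔.l + 1), 𝓔.wtX j.castSucc *
        (f (imageSubobject ((𝓔.pieceX j.castSucc).arrow ≫ p) : C) -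
          f (imageSubobject ((𝓔.pieceX j.succ).arrow ≫ p) : C)) := by
  refine (parSum_eq_pieceX _ f).trans ?_
  simp only [pieceX_coinduced]
  rfl

theorem parSum_induced_add_coinduced {F E G : C} (i : F ⟶ E) (p : E ⟶ G) [Epi p] (𝓔 : Str E)
    (f : C → ℝ)
    (hf : ∀ j : Fin (𝓔.l + 2), f ((Subobject.pullback i).obj (𝓔.pieceX j) : C) +
      f (imageSubobject ((𝓔.pieceX j).arrow ≫ p) : C) = f (𝓔.pieceX j : C)) :
    (𝓔.induced i).parSum f + (𝓔.coinduced p).parSum f = 𝓔.parSum f := by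
  rw [parSum_induced, parSum_coinduced, parSum_eq_pieceX]
  simp only [← hf]
  simp only [mul_sub, mul_add, Finset.sum_sub_distrib, Finset.sum_add_distrib]
  ring

end Ext

end Groth.Agent.Lib.Helper24.ParHilb
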