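import Groth.Agent.S1524
import Groth.Agent.Lib.Lead.TwistExact
import Groth.Agent.Lib.Helper29.SerreA
import Groth.Agent.Lib.Helper12.Fin13
import Groth.Agent.Lib.Helper12.Dev2
import Groth.Agent.Lib.Lead.LinLES.Biprod
import Groth.Prelude.Def_ParBun

/-! # Additivity of twisted Euler characteristics (for parabolic Hilbert functions) -/

set_option autoImplicit false
set_option backward.isDefEq.respectTransparency false
set_option backward.isDefEq.respectTransparency.types false

universe u
open CategoryTheory CategoryTheory.Limits AlgebraicGeometry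

namespace Groth.Agent.Lib.Helper24.ParHilb

open Groth.Agent.Lib.Lead.TwistExact Groth.Agent.Lib.Helper29.QCoh

section Basic

variable {X : Scheme.{u}}

theorem isCoh_of_isInvertible {L : X.Modules} (hL : PicF.IsInvertible L) : Coh.IsCoh L :=
  ⟨isQuasicoherent_of_isInvertible hL, isFiniteType_of_isInvertible hL⟩

theorem isCoh_twist {L : X.Modules} (hL : PicF.IsInvertible L) {G : X.Modules}
    (hG : Coh.IsCoh G) (m : ℕ) : Coh.IsCoh (ShStab.twist X L G m) :=
  Groth.Agent.Lib.Helper12.H12Fin.isCoh_tensorMod' hG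
    (isCoh_of_isInvertible (isInvertible_tensorPow hL m))

theorem isZero_twist {L G : X.Modules} (h : IsZero G) (m : ℕ) :
    IsZero (ShStab.twist X L G m) :=
  (tensorRight (CohB1.tensorPow L m)).map_isZero h

end Basic

theorem subsingleton_HH_of_isZero (k : Type u) [Field k] (X : Scheme.{u})
    [X.Over (Spec (CommRingCat.of k))] {M : X.Modules} (h : IsZero M) (q : ℕ) :
    Subsingleton (Coh.HH X M q) := by
  refine subsingleton_of_forall_eq 0 fun x => ?_
  have hz : Canon.HHlin k (0 : M ⟶ M) q x = 0 := by
    have h1 := Groth.Agent.Lib.Lead.LinLES.HHlin_sum k (∅ : Finset (Fin 1))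
      (fun _ => (0 : M ⟶ M)) q x
    rw [Finset.sum_empty, Finset.sum_empty] at h1
    exact h1
  rw [← Groth.Agent.Lib.Lead.LinLES.HHlin_id k M q x, h.eq_of_src (𝟙 M) 0, hz]

/-- Euler characteristic of a zero module is zero. -/
theorem euler_eq_zero_of_isZero (k : Type u) [Field k] (X : Scheme.{u})
    [X.Over (Spec (CommRingCat.of k))] {M : X.Modules} (h : IsZero M) :
    Curv2.euler k X M = 0 := by
  unfold Curv2.euler
  have : ∀ i : ℕ, (-1 : ℤ) ^ i * (Module.finrank k (Coh.HH X M i) : ℤ) = 0 := by
    intro i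
    have hsub := subsingleton_HH_of_isZero k X h i
    rw [Module.finrank_zero_of_subsingleton]
    simp
  simp only [this]
  exact finsum_zero

/-- Twisted Euler characteristics are additive on short exact sequences of coherent modules. -/
theorem euler_twist_add (k : Type u) [Field k] (X : Scheme.{u})
    [X.Over (Spec (CommRingCat.of k))] [IsProper (X ↘ Spec (CommRingCat.of k))]
    {L : X.Modules} (hL : PicF.IsInvertible L)
    (S : ShortComplex X.Modules) (hS : S.ShortExact)
    (h₁ : Coh.IsCoh S.X₁) (h₂ : Coh.IsCoh S.X₂) (h₃ : Coh.IsCoh S.X₃) (m : ℕ) :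
    Curv2.euler k X (ShStab.twist X L S.X₂ m) =
      Curv2.euler k X (ShStab.twist X L S.X₁ m) + Curv2.euler k X (ShStab.twist X L S.X₃ m) := by
  have hflat := isFlat_of_isInvertible (isInvertible_tensorPow hL m)
  have hS' := shortExact_map_tensorRight hflat S hS
  have c₁ : Coh.IsCoh (S.map (tensorRight (CohB1.tensorPow L m))).X₁ := isCoh_twist hL h₁ m
  have c₂ : Coh.IsCoh (S.map (tensorRight (CohB1.tensorPow L m))).X₂ := isCoh_twist hL h₂ m
  have c₃ : Coh.IsCoh (S.map (tensorRight (CohB1.tensorPow L m))).X₃ := isCoh_twist hL h₃ m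
  have key := Groth.Agent.S1524.result k X (S.map (tensorRight (CohB1.tensorPow L m))) hS' c₁ c₂ c₃
  exact key

theorem isLocallyNoetherian (k : Type u) [Field k] (X : Scheme.{u})
    [X.Over (Spec (CommRingCat.of k))] [IsProper (X ↘ Spec (CommRingCat.of k))] :
    IsLocallyNoetherian X :=
  LocallyOfFiniteType.isLocallyNoetherian (X ↘ Spec (CommRingCat.of k))

/-- For a coherent subobject `A` of a coherent `E`: `χ(E(m)) = χ(A(m)) + χ((E/A)(m))`. -/
theorem euler_twist_sub (k : Type u) [Field k] (X : Scheme.{u})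
    [X.Over (Spec (CommRingCat.of k))] [IsProper (X ↘ Spec (CommRingCat.of k))]
    {L : X.Modules} (hL : PicF.IsInvertible L) {E : X.Modules}
    (hE : Coh.IsCoh E) (A : Subobject E) (hA : Coh.IsCoh (A : X.Modules)) (m : ℕ) :
    Curv2.euler k X (ShStab.twist X L E m) =
      Curv2.euler k X (ShStab.twist X L (A : X.Modules) m) +
        Curv2.euler k X (ShStab.twist X L (cokernel A.arrow) m) := by
  have := isLocallyNoetherian k X
  have hS : (ShortComplex.mk A.arrow (cokernel.π A.arrow) (cokernel.condition _)).ShortExact :=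
    { exact := ShortComplex.exact_cokernel A.arrow }
  exact euler_twist_add k X hL _ hS hA hE
    (Groth.Agent.Lib.Helper12.H12Dev.isCoh_cokernel _ hA hE) m

end Groth.Agent.Lib.Helper24.ParHilb
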