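import Groth.Agent.Lib.Helper24.ParHilbA
import Groth.Agent.Lib.Helper24.ParExtB

/-! # Parabolic Hilbert function in terms of Hilbert polynomials of quotients -/

set_option autoImplicit false
set_option backward.isDefEq.respectTransparency false
set_option backward.isDefEq.respectTransparency.types false

universe u
open CategoryTheory CategoryTheory.Limits AlgebraicGeometry Polynomial

namespace Groth.Agent.Lib.Helper24.ParHilb

open ParSh

theorem isZero_cokernel_pieceX_zero {C : Type*} [Category C] [Abelian C] {E : C} (𝓔 : ParSh.Str E) :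
    IsZero (cokernel (𝓔.pieceX 0).arrow) := by
  have h : 𝓔.pieceX 0 = ⊤ := by
    have := 𝓔.pieceX_castSucc 0
    rw [Fin.castSucc_zero] at this
    rw [this, 𝓔.piece_zero]
  have : IsIso (𝓔.pieceX 0).arrow := by
    rw [h]; infer_instance
  exact isZero_cokernel_of_epi _

theorem parHilb_eq (k : Type u) [Field k] (X : Scheme.{u})
    [X.Over (Spec (CommRingCat.of k))] [IsProper (X ↘ Spec (CommRingCat.of k))]
    (L : X.Modules) (hL : CohB1.IsAmple L) (E : X.Modules) (hE : Coh.IsCoh E) (𝓔 : ParSh.Str E)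
    (hcoh : ∀ j, Coh.IsCoh ((𝓔.pieceX j : Subobject E) : X.Modules))
    (P : ℚ[X]) (hP : ShStab.IsHilbPoly k X L E P) (H : Fin (𝓔.l + 2) → ℚ[X])
    (hH : ∀ j, ShStab.IsHilbPoly k X L (cokernel (𝓔.pieceX j).arrow) (H j)) (m : ℕ) :
    𝓔.parHilb k X L m =
      ((P.eval (m : ℚ) : ℚ) : ℝ) -
        ∑ j : Fin (𝓔.l + 1), (𝓔.wtX j.succ - 𝓔.wtX j.castSucc) *
          (((H j.succ).eval (m : ℚ) : ℚ) : ℝ) := by
  unfold ParSh.Str.parHilb
  refine parSum_eq_of_sub 𝓔 _ _ (fun j => (((H j).eval (m : ℚ) : ℚ) : ℝ)) (fun j => ?_) ?_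
  · have h1 := euler_twist_sub k X hL.1 hE (𝓔.pieceX j) (hcoh j) m
    have h2 := hP m
    have h3 := hH j m
    have h4 : (Curv2.euler k X (ShStab.twist X L ((𝓔.pieceX j : Subobject E) : X.Modules) m) : ℚ) =
        P.eval (m : ℚ) - (H j).eval (m : ℚ) := by
      rw [← h2, ← h3, h1]; push_cast; ring
    have h5 := congrArg (fun q : ℚ => (q : ℝ)) h4
    simpa using h5
  · have h3 := hH 0 m
    rw [euler_eq_zero_of_isZero k X (isZero_twist (isZero_cokernel_pieceX_zero 𝓔) m)] at h3
    have h5 := congrArg (fun q : ℚ => (q : ℝ)) h3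
    simpa using h5.symm

end Groth.Agent.Lib.Helper24.ParHilb
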