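import Groth.Agent.Lib.Helper24.ParHilbA
import Groth.Agent.Lib.Helper24.ParExtA
import Groth.Agent.Lib.Helper24.ParExtB

/-! # Additivity of the parabolic Hilbert function in parabolic extensions -/

set_option autoImplicit false
set_option backward.isDefEq.respectTransparency false
set_option backward.isDefEq.respectTransparency.types false

universe u
open CategoryTheory CategoryTheory.Limits AlgebraicGeometry

namespace Groth.Agent.Lib.Helper24.ParHilb

open ParSh Groth.Agent.Lib.Helper12.H12Dev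

theorem isCoh_imageSubobject {X : Scheme.{u}} [IsLocallyNoetherian X] {A B : X.Modules}
    (u : A ⟶ B) (hA : Coh.IsCoh A) (hB : Coh.IsCoh B) :
    Coh.IsCoh ((imageSubobject u : Subobject B) : X.Modules) :=
  isCoh_of_iso ((Abelian.imageIsoImage u) ≪≫ (imageSubobjectIso u).symm) (isCoh_image u hA hB)

theorem parHilb_add (k : Type u) [Field k] (X : Scheme.{u})
    [X.Over (Spec (CommRingCat.of k))] [IsProper (X ↘ Spec (CommRingCat.of k))]
    (L : X.Modules) (hL : CohB1.IsAmple L) {F E G : X.Modules}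
    (hG : Coh.IsCoh G)
    (i : F ⟶ E) (p : E ⟶ G) [Epi p] (𝓕 : ParSh.Str F) (𝓔 : ParSh.Str E) (𝓖 : ParSh.Str G)
    (hext : ParSh.IsParExt i p 𝓕 𝓔 𝓖)
    (hcoh : ∀ j, Coh.IsCoh ((𝓔.piece j : Subobject E) : X.Modules))
    (hbot : Coh.IsCoh ((𝓔.bot : Subobject E) : X.Modules)) (m : ℕ) :
    𝓕.parHilb k X L m + 𝓖.parHilb k X L m = 𝓔.parHilb k X L m := by
  obtain ⟨w, hS, rfl, rfl⟩ := hext
  have := isLocallyNoetherian k X
  unfold ParSh.Str.parHilb
  refine parSum_induced_add_coinduced i p 𝓔 _ (fun j => ?_)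
  have hA : Coh.IsCoh ((𝓔.pieceX j : Subobject E) : X.Modules) := by
    induction j using Fin.lastCases with
    | last => rw [𝓔.pieceX_last]; exact hbot
    | cast j => rw [𝓔.pieceX_castSucc]; exact hcoh j
  have hSA := subSeq_shortExact i p w (𝓔.pieceX j) hS
  have h3 : Coh.IsCoh (subSeq i p w (𝓔.pieceX j)).X₃ :=
    isCoh_imageSubobject _ hA hG
  have h1 : Coh.IsCoh (subSeq i p w (𝓔.pieceX j)).X₁ := by
    have e := IsLimit.conePointUniqueUpToIso (kernelIsKernel (subSeq i p w (𝓔.pieceX j)).g)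
      hSA.fIsKernel
    exact isCoh_of_iso e (isCoh_kernel _ hA h3)
  have key := euler_twist_add k X hL.1 (subSeq i p w (𝓔.pieceX j)) hSA h1 hA h3 m
  have key' := congrArg (fun z : ℤ => (z : ℝ)) key
  simp only [Int.cast_add] at key'
  exact key'.symm

end Groth.Agent.Lib.Helper24.ParHilb
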