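import Mathlib
import Groth.Agent.Lib.Helper24.CoskHtpyB

set_option backward.isDefEq.respectTransparency false
set_option backward.isDefEq.respectTransparency.types false
set_option autoImplicit false

universe v u

open CategoryTheory CategoryTheory.Limits Opposite Simplicial SimplexCategory

namespace Groth.Agent.Lib.Helper24.PowHtpy

open Groth.Agent.Lib.Helper24.CoskHtpy

/-- Data exhibiting a simplicial object `Y` as the "power" simplicial object of `V`: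
`Y_m = V^{m+1}` compatibly with the simplicial structure. -/
structure PowData {D : Type u} [Category.{v} D] (Y : SimplicialObject D) (V : D) where
  p : ∀ {m : ℕ} (_ : (⦋0⦌ : SimplexCategory) ⟶ ⦋m⦌), Y.obj (op ⦋m⦌) ⟶ V
  p_map : ∀ {k m : ℕ} (θ : (⦋k⦌ : SimplexCategory) ⟶ ⦋m⦌) (φ : (⦋0⦌ : SimplexCategory) ⟶ ⦋k⦌),
    Y.map θ.op ≫ p φ = p (φ ≫ θ)
  ext : ∀ {m : ℕ} {Z : D} (s t : Z ⟶ Y.obj (op ⦋m⦌)),
    (∀ φ : (⦋0⦌ : SimplexCategory) ⟶ ⦋m⦌, s ≫ p φ = t ≫ p φ) → s = t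
  lift : ∀ {m : ℕ} {Z : D} (_ : ((⦋0⦌ : SimplexCategory) ⟶ ⦋m⦌) → (Z ⟶ V)), Z ⟶ Y.obj (op ⦋m⦌)
  lift_p : ∀ {m : ℕ} {Z : D} (q : ((⦋0⦌ : SimplexCategory) ⟶ ⦋m⦌) → (Z ⟶ V))
    (φ : (⦋0⦌ : SimplexCategory) ⟶ ⦋m⦌), lift q ≫ p φ = q φ

variable {D : Type u} [Category.{v} D] {X Y : SimplicialObject D} {V : D} (P : PowData Y V)
  (f g : X ⟶ Y)

/-- The components of a map into the power object. -/
def comp' {m : ℕ} (φ : (⦋0⦌ : SimplexCategory) ⟶ ⦋m⦌) : X.obj (op ⦋m⦌) ⟶ V :=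
  f.app (op ⦋m⦌) ≫ P.p φ

theorem comp'_map {k m : ℕ} (θ : (⦋k⦌ : SimplexCategory) ⟶ ⦋m⦌)
    (φ : (⦋0⦌ : SimplexCategory) ⟶ ⦋k⦌) :
    X.map θ.op ≫ comp' P f φ = comp' P f (φ ≫ θ) := by
  unfold comp'
  rw [← Category.assoc, f.naturality, Category.assoc, P.p_map]

/-- The choice between `f` and `g`. -/
def ch {m m' : ℕ} (i : Fin (m + 1)) (φ : (⦋0⦌ : SimplexCategory) ⟶ ⦋m + 1⦌)
    (ψ : (⦋0⦌ : SimplexCategory) ⟶ ⦋m'⦌) : X.obj (op ⦋m'⦌) ⟶ V :=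
  if i.castSucc < φ.toOrderHom 0 then comp' P g ψ else comp' P f ψ

theorem ch_congr {m m' k : ℕ} (i : Fin (m + 1)) (φ : (⦋0⦌ : SimplexCategory) ⟶ ⦋m + 1⦌)
    (i' : Fin (m' + 1)) (φ' : (⦋0⦌ : SimplexCategory) ⟶ ⦋m' + 1⦌)
    (ψ : (⦋0⦌ : SimplexCategory) ⟶ ⦋k⦌)
    (h : i.castSucc < φ.toOrderHom 0 ↔ i'.castSucc < φ'.toOrderHom 0) :
    ch P f g i φ ψ = ch P f g i' φ' ψ := by
  unfold ch
  by_cases h1 : i.castSucc < φ.toOrderHom 0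
  · rw [if_pos h1, if_pos (h.1 h1)]
  · rw [if_neg h1, if_neg (fun h2 => h1 (h.2 h2))]

theorem ch_map {m k k' : ℕ} (i : Fin (m + 1)) (φ : (⦋0⦌ : SimplexCategory) ⟶ ⦋m + 1⦌)
    (θ : (⦋k⦌ : SimplexCategory) ⟶ ⦋k'⦌) (ψ : (⦋0⦌ : SimplexCategory) ⟶ ⦋k⦌) :
    X.map θ.op ≫ ch P f g i φ ψ = ch P f g i φ (ψ ≫ θ) := by
  unfold ch
  split_ifs
  · exact comp'_map P g θ ψ
  · exact comp'_map P f θ ψ

/-- The homotopy operators. -/
noncomputable def hh {m : ℕ} (i : Fin (m + 1)) : X.obj (op ⦋m⦌) ⟶ Y.obj (op ⦋m + 1⦌) :=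
  P.lift (fun φ => ch P f g i φ (φ ≫ σ i))

theorem hh_p {m : ℕ} (i : Fin (m + 1)) (φ : (⦋0⦌ : SimplexCategory) ⟶ ⦋m + 1⦌) :
    hh P f g i ≫ P.p φ = ch P f g i φ (φ ≫ σ i) :=
  P.lift_p _ φ

theorem δ_p {m : ℕ} (j : Fin (m + 2)) (φ : (⦋0⦌ : SimplexCategory) ⟶ ⦋m⦌) :
    Y.δ j ≫ P.p φ = P.p (φ ≫ δ j) :=
  P.p_map (δ j) φ

theorem σ_p {m : ℕ} (j : Fin (m + 1)) (φ : (⦋0⦌ : SimplexCategory) ⟶ ⦋m + 1⦌) :
    Y.σ j ≫ P.p φ = P.p (φ ≫ σ j) :=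
  P.p_map (σ j) φ

theorem L_δ {m : ℕ} (i' : Fin (m + 2)) (j' : Fin (m + 3)) (φ : (⦋0⦌ : SimplexCategory) ⟶ ⦋m + 1⦌) :
    (hh P f g i' ≫ Y.δ j') ≫ P.p φ = ch P f g i' (φ ≫ δ j') ((φ ≫ δ j') ≫ σ i') := by
  rw [Category.assoc, δ_p, hh_p]

theorem L_σ {m : ℕ} (i' : Fin (m + 1)) (j' : Fin (m + 2)) (φ : (⦋0⦌ : SimplexCategory) ⟶ ⦋m + 2⦌) :
    (hh P f g i' ≫ Y.σ j') ≫ P.p φ = ch P f g i' (φ ≫ σ j') ((φ ≫ σ j') ≫ σ i') := by
  rw [Category.assoc, σ_p, hh_p]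

theorem R_δ {m : ℕ} (i' : Fin (m + 2)) (j' : Fin (m + 1)) (φ : (⦋0⦌ : SimplexCategory) ⟶ ⦋m + 1⦌) :
    (X.δ i' ≫ hh P f g j') ≫ P.p φ = ch P f g j' φ ((φ ≫ σ j') ≫ δ i') := by
  rw [Category.assoc, hh_p]
  exact ch_map P f g j' φ (δ i') (φ ≫ σ j')

theorem R_σ {m : ℕ} (i' : Fin (m + 1)) (j' : Fin (m + 2)) (φ : (⦋0⦌ : SimplexCategory) ⟶ ⦋m + 2⦌) :
    (X.σ i' ≫ hh P f g j') ≫ P.p φ = ch P f g j' φ ((φ ≫ σ j') ≫ σ i') := by
  rw [Category.assoc, hh_p]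
  exact ch_map P f g j' φ (σ i') (φ ≫ σ j')

/-- Any two maps into a power simplicial object are homotopic. -/
noncomputable def homotopy : SimplicialObject.Homotopy f g where
  h i := hh P f g i
  h_zero_comp_δ_zero m := by
    apply P.ext
    intro φ
    rw [Category.assoc, δ_p, hh_p]
    have e1 : (φ ≫ δ 0) ≫ σ 0 = φ := by
      rw [Category.assoc, δ_comp_σ_self' (by rfl), Category.comp_id]
    rw [e1]
    unfold ch
    rw [if_pos]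
    · rfl
    · rw [toOrderHom_comp_δ]
      exact big1 _
  h_last_comp_δ_last m := by
    apply P.ext
    intro φ
    rw [Category.assoc, δ_p, hh_p]
    have e1 : (φ ≫ δ (Fin.last (m + 1))) ≫ σ (Fin.last m) = φ := by
      rw [Category.assoc, δ_comp_σ_succ' (by rfl), Category.comp_id]
    rw [e1]
    unfold ch
    rw [if_neg]
    · rfl
    · rw [toOrderHom_comp_δ]
      exact big2 _
  h_succ_comp_δ_castSucc_of_lt {m} i j hij := by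
    apply P.ext
    intro φ
    rw [L_δ, R_δ]
    have e1 : (φ ≫ δ i.castSucc) ≫ σ j.succ = (φ ≫ σ j) ≫ δ i := by
      rw [Category.assoc, Category.assoc, δ_comp_σ_of_le hij]
    rw [e1]
    apply ch_congr
    rw [toOrderHom_comp_δ]
    exact big3 i j hij _
  h_succ_comp_δ_castSucc_succ {m} j := by
    apply P.ext
    intro φ
    rw [L_δ, L_δ]
    have e1 : (φ ≫ δ j.castSucc.succ) ≫ σ j.succ = (φ ≫ δ j.castSucc.succ) ≫ σ j.castSucc := by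
      rw [Category.assoc, Category.assoc, δ_comp_σ_self' (by rfl), δ_comp_σ_succ' (by rfl)]
    rw [e1]
    apply ch_congr
    rw [toOrderHom_comp_δ]
    exact big4 j _
  h_castSucc_comp_δ_succ_of_lt {m} i j hji := by
    apply P.ext
    intro φ
    rw [L_δ, R_δ]
    have e1 : (φ ≫ δ i.succ) ≫ σ j.castSucc = (φ ≫ σ j) ≫ δ i := by
      rw [Category.assoc, Category.assoc, δ_comp_σ_of_gt hji]
    rw [e1]
    apply ch_congr
    rw [toOrderHom_comp_δ]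
    exact big5 i j hji _
  h_comp_σ_castSucc_of_le {m} i j hij := by
    apply P.ext
    intro φ
    rw [L_σ, R_σ]
    have e1 : (φ ≫ σ i.castSucc) ≫ σ j = (φ ≫ σ j.succ) ≫ σ i := by
      rw [Category.assoc, Category.assoc, σ_comp_σ hij]
    rw [e1]
    apply ch_congr
    rw [toOrderHom_comp_σ]
    exact big6 i j hij _
  h_comp_σ_succ_of_lt {m} i j hji := by
    apply P.ext
    intro φ
    rw [L_σ, R_σ]
    have e1 : (φ ≫ σ i.succ) ≫ σ j = (φ ≫ σ j.castSucc) ≫ σ i := by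
      rw [Category.assoc, Category.assoc, ← σ_comp_σ hji]
    rw [e1]
    apply ch_congr
    rw [toOrderHom_comp_σ]
    exact big7 i j hji _

end Groth.Agent.Lib.Helper24.PowHtpy
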