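import Mathlib

set_option backward.isDefEq.respectTransparency false
set_option backward.isDefEq.respectTransparency.types false
set_option autoImplicit false

universe w v u

open CategoryTheory CategoryTheory.Limits Opposite Simplicial SimplexCategory AlgebraicTopology

namespace Groth.Agent.Lib.Helper24.PowHtpy

variable {D : Type u} [Category.{v} D] {A : Type*} [Category A] [Preadditive A]

theorem coface_d_eq (Z : CosimplicialObject A) (i : ℕ) :
    ((alternatingCofaceMapComplex A).obj Z).d i (i + 1) =
      ∑ j : Fin (i + 2), (-1 : ℤ) ^ (j : ℕ) • Z.δ j := by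
  exact CochainComplex.of_d (V := A) (fun n => Z.obj ⦋n⦌) (AlternatingCofaceMapComplex.objD Z) i

/-- Comparison iso between the unop of the alternating face map complex and the alternating
coface map complex. -/
noncomputable def compIso (X : SimplicialObject D) (E : Dᵒᵖ ⥤ A) :
    ((alternatingFaceMapComplex Aᵒᵖ).obj
      (((SimplicialObject.whiskering D Aᵒᵖ).obj E.rightOp).obj X)).unop ≅
      (alternatingCofaceMapComplex A).obj (X.rightOp ⋙ E) :=
  HomologicalComplex.Hom.isoOfComponents (fun n => Iso.refl _) (by
    intro i j hij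
    have hij' : i + 1 = j := hij
    subst hij'
    dsimp
    rw [Category.id_comp, Category.comp_id]
    rw [HomologicalComplex.unop_d, alternatingFaceMapComplex_obj_d,
      AlternatingFaceMapComplex.objD]
    refine (coface_d_eq _ i).trans ?_
    simp only [unop_sum, unop_zsmul]
    rfl)

theorem compIso_hom_f (X : SimplicialObject D) (E : Dᵒᵖ ⥤ A) (n : ℕ) :
    (compIso X E).hom.f n = 𝟙 _ := rfl

theorem compIso_inv_f (X : SimplicialObject D) (E : Dᵒᵖ ⥤ A) (n : ℕ) :
    (compIso X E).inv.f n = 𝟙 _ := rfl

variable {X Y : SimplicialObject D} {f g : X ⟶ Y}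

theorem map_eq (f : X ⟶ Y) (E : Dᵒᵖ ⥤ A) :
    (alternatingCofaceMapComplex A).map
      (((Functor.whiskeringLeft _ _ _).map (NatTrans.rightOp f)).app E) =
    (compIso Y E).inv ≫ (HomologicalComplex.unopFunctor A (ComplexShape.down ℕ)).map
      ((alternatingFaceMapComplex Aᵒᵖ).map
        (((SimplicialObject.whiskering D Aᵒᵖ).obj E.rightOp).map f)).op ≫ (compIso X E).hom := by
  ext n
  rw [HomologicalComplex.comp_f, HomologicalComplex.comp_f, compIso_inv_f, compIso_hom_f]
  erw [Category.id_comp, Category.comp_id]
  rfl

theorem homologyMap_eq [CategoryWithHomology A] [CategoryWithHomology Aᵒᵖ] (H : SimplicialObject.Homotopy f g) (E : Dᵒᵖ ⥤ A) (q : ℕ) :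
    HomologicalComplex.homologyMap ((alternatingCofaceMapComplex A).map
      (((Functor.whiskeringLeft _ _ _).map (NatTrans.rightOp f)).app E)) q =
    HomologicalComplex.homologyMap ((alternatingCofaceMapComplex A).map
      (((Functor.whiskeringLeft _ _ _).map (NatTrans.rightOp g)).app E)) q := by
  rw [map_eq f E, map_eq g E]
  rw [HomologicalComplex.homologyMap_comp, HomologicalComplex.homologyMap_comp,
    HomologicalComplex.homologyMap_comp, HomologicalComplex.homologyMap_comp]
  congr 2
  exact ((H.whiskerRight E.rightOp).toChainHomotopy).unop.homologyMap_eq q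

end Groth.Agent.Lib.Helper24.PowHtpy
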