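import Mathlib
import Groth.Agent.Lib.Helper24.PowHtpyA
import Groth.Agent.Lib.Helper24.PowHtpyB

set_option backward.isDefEq.respectTransparency false
set_option backward.isDefEq.respectTransparency.types false
set_option autoImplicit false

universe w v u

open CategoryTheory CategoryTheory.Limits Opposite Simplicial SimplexCategory AlgebraicTopology

namespace Groth.Agent.Lib.Helper24.PowHtpy

variable {C : Type u} [Category.{v} C] [HasFiniteProducts C]

/-- The Cech object of a formal coproduct is a power simplicial object. -/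
noncomputable def cechPowData (U : FormalCoproduct.{w} C) : PowData U.cech U where
  p {m} φ := U.powerπ (α := Fin (m + 1)) (φ.toOrderHom 0)
  p_map {k m} θ φ := by
    exact FormalCoproduct.mapPower_π U (α := Fin (k + 1)) (β := Fin (m + 1)) θ.toOrderHom.toFun
      (φ.toOrderHom 0)
  ext {m Z} s t h := by
    apply Fan.IsLimit.hom_ext (U.isLimitPowerFan (Fin (m + 1)))
    intro a
    have := h (SimplexCategory.const ⦋0⦌ ⦋m⦌ a)
    simpa using this
  lift {m Z} q := Fan.IsLimit.lift (U.isLimitPowerFan (Fin (m + 1)))
    (fun a => q (SimplexCategory.const ⦋0⦌ ⦋m⦌ a))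
  lift_p {m Z} q φ := by
    have h1 := Fan.IsLimit.fac (U.isLimitPowerFan (Fin (m + 1)))
      (fun a => q (SimplexCategory.const ⦋0⦌ ⦋m⦌ a)) (φ.toOrderHom 0)
    have h2 : SimplexCategory.const ⦋0⦌ ⦋m⦌ (φ.toOrderHom 0) = φ :=
      (SimplexCategory.eq_const_of_zero φ).symm
    rw [h2] at h1
    exact h1

/-- Two refinement morphisms induce homotopic maps of Cech objects. -/
noncomputable def cechHomotopy {U V : FormalCoproduct.{w} C} (f g : U ⟶ V) :
    SimplicialObject.Homotopy (FormalCoproduct.cechFunctor.map f)
      (FormalCoproduct.cechFunctor.map g) :=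
  homotopy (cechPowData V) _ _

theorem cech_homologyMap_eq {A : Type*} [Category A] [Preadditive A] [CategoryWithHomology A]
    [CategoryWithHomology Aᵒᵖ] {U V : FormalCoproduct.{w} C} (f g : U ⟶ V)
    (E : (FormalCoproduct.{w} C)ᵒᵖ ⥤ A) (q : ℕ) :
    HomologicalComplex.homologyMap ((alternatingCofaceMapComplex A).map
      (((Functor.whiskeringLeft _ _ _).map
        (NatTrans.rightOp (FormalCoproduct.cechFunctor.map f))).app E)) q =
    HomologicalComplex.homologyMap ((alternatingCofaceMapComplex A).map
      (((Functor.whiskeringLeft _ _ _).map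
        (NatTrans.rightOp (FormalCoproduct.cechFunctor.map g))).app E)) q :=
  homologyMap_eq (cechHomotopy f g) E q

end Groth.Agent.Lib.Helper24.PowHtpy
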