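import Mathlib.Topology.Algebra.Category.ProfiniteGrp.Completion
import Mathlib.Topology.Algebra.ClopenNhdofOne

set_option autoImplicit false

namespace Groth.Agent.Lib.Helper24

universe u
open CategoryTheory ProfiniteGrp ProfiniteGrp.ProfiniteCompletion

/-- naturality of `eta` for the completion functor, elementwise -/
lemma map_etaFn {G G' : GrpCat.{u}} (φ : G ⟶ G') (g : G) :
    (profiniteCompletion.map φ).hom (etaFn G g) = etaFn G' (φ.hom g) := by
  have h := lift_eta (φ ≫ eta G')
  exact ConcreteCategory.congr_hom h g

/-- two continuous maps out of the completion agreeing on the image of `G` are equal -/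
lemma completion_ext {G : GrpCat.{u}} {Y : Type*} [TopologicalSpace Y] [T2Space Y]
    {f g : completion G → Y} (hf : Continuous f) (hg : Continuous g)
    (h : ∀ a : G, f (etaFn G a) = g (etaFn G a)) : f = g :=
  (denseRange (G := G)).equalizer hf hg (funext h)

lemma etaFn_mul (G : GrpCat.{u}) (a b : G) : etaFn G (a * b) = etaFn G a * etaFn G b :=
  map_mul (eta G).hom a b

lemma completion_comm (A : Type u) [CommGroup A] (x y : completion (GrpCat.of A)) :
    x * y = y * x := by
  have h1 : ∀ (a : A) (z : completion (GrpCat.of A)),
      etaFn (GrpCat.of A) a * z = z * etaFn (GrpCat.of A) a := by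
    intro a
    have := completion_ext (G := GrpCat.of A)
      (f := fun z => etaFn (GrpCat.of A) a * z) (g := fun z => z * etaFn (GrpCat.of A) a)
      (continuous_const.mul continuous_id) (continuous_id.mul continuous_const)
      (fun b => by
        show etaFn (GrpCat.of A) a * etaFn (GrpCat.of A) b = etaFn (GrpCat.of A) b * etaFn (GrpCat.of A) a
        rw [← etaFn_mul, ← etaFn_mul]
        congr 1
        exact mul_comm (G := A) a b)
    exact fun z => congr_fun this z
  have := completion_ext (G := GrpCat.of A)
      (f := fun z => z * y) (g := fun z => y * z)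
      (continuous_id.mul continuous_const) (continuous_const.mul continuous_id)
      (fun b => h1 b y)
  exact congr_fun this x

lemma coord_continuous (G : GrpCat.{u}) (H : FiniteIndexNormalSubgroup G) :
    Continuous (fun y : completion G => y.val H) :=
  map_continuous ((limitCone (diagram G)).π.app H).hom

lemma coord_etaFn (G : GrpCat.{u}) (H : FiniteIndexNormalSubgroup G) (g : G) :
    (etaFn G g).val H = QuotientGroup.mk g := rfl

lemma diagram_discrete (G : GrpCat.{u}) (H : FiniteIndexNormalSubgroup G) :
    DiscreteTopology ((diagram G).obj H) :=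
  ⟨rfl⟩


/-- coordinates of the image under the completion functor -/
lemma coord_map {G G' : GrpCat.{u}} (φ : G ⟶ G') (H : FiniteIndexNormalSubgroup G')
    (y : completion G) :
    ((profiniteCompletion.map φ).hom y).val H =
      (QuotientGroup.map (H.comap φ.hom).toSubgroup H.toSubgroup φ.hom (fun _ h => h) :
        G ⧸ (H.comap φ.hom).toSubgroup →* G' ⧸ H.toSubgroup) (y.val (H.comap φ.hom)) := by
  let ι : (diagram G).obj (H.comap φ.hom) → (diagram G').obj H :=
    (QuotientGroup.map (H.comap φ.hom).toSubgroup H.toSubgroup φ.hom (fun _ h => h) :
        G ⧸ (H.comap φ.hom).toSubgroup →* G' ⧸ H.toSubgroup)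
  have := diagram_discrete G (H.comap φ.hom)
  have hι : Continuous ι := continuous_of_discreteTopology
  have := completion_ext (G := G) (Y := (diagram G').obj H)
    (f := fun y => ((profiniteCompletion.map φ).hom y).val H)
    (g := fun y => ι (y.val (H.comap φ.hom)))
    ((coord_continuous G' H).comp (map_continuous (profiniteCompletion.map φ).hom))
    (hι.comp (coord_continuous G _))
    (fun a => by
      show ((profiniteCompletion.map φ).hom (etaFn G a)).val H = ι ((etaFn G a).val (H.comap φ.hom))
      rw [map_etaFn, coord_etaFn, coord_etaFn]
      rfl)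
  exact congr_fun this y

end Groth.Agent.Lib.Helper24
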