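import Mathlib
import Groth.Agent.Lib.Helper24.PropImg
import Groth.Agent.Lib.Helper14.AlgSpUCQC
import Groth.Agent.Lib.Helper14.AlgSpPoints

/-!
# Finite unions of closed subspaces proper over the base (helper24)
-/

set_option autoImplicit false
universe u

open CategoryTheory CategoryTheory.Limits AlgebraicGeometry Opposite AlgSp
open Groth.Agent.Lib.Helper14.AS Groth.Agent.Lib.Helper24.PropImg

namespace Groth.Agent.Lib.Helper24.PropUnion

variable {S : Scheme.{u}}

/-- A morphism is universally closed as soon as its composites with a finite jointly surjective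
family are. -/
theorem isUnivClosedMor_of_family {W T : Sp S} (q : W ⟶ T) {ι : Type*} [Finite ι]
    (Zs : ι → Sp S) (g : ∀ k, Zs k ⟶ W)
    (hsurj : ∀ w : Points W, ∃ k z, Points.map (g k) z = w)
    (h : ∀ k, IsUnivClosedMor (g k ≫ q)) : IsUnivClosedMor q := by
  intro T' P hT' t a b sq C hC
  have key : Points.map b '' C = ⋃ k, Points.map (pullback.snd (g k) a ≫ b) ''
      (Points.map (pullback.snd (g k) a) ⁻¹' C) := by
    ext y
    simp only [Set.mem_image, Set.mem_iUnion, Set.mem_preimage]
    constructor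
    · rintro ⟨c, hc, rfl⟩
      obtain ⟨k, z, hz⟩ := hsurj (Points.map a c)
      obtain ⟨p, -, hp2⟩ := points_exists_of_isPullback (IsPullback.of_hasPullback (g k) a) z c hz
      exact ⟨k, p, by rw [hp2]; exact hc, by rw [Points.map_comp, hp2]⟩
    · rintro ⟨k, p, hp, rfl⟩
      exact ⟨_, hp, (Points.map_comp _ _ p).symm⟩
  rw [key]
  refine isClosed_iUnion_of_finite fun k => ?_
  have big := (IsPullback.of_hasPullback (g k) a).paste_vert sq
  exact h k hT' t _ _ big _ (hC.preimage (Points.continuous_map _))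

set_option backward.isDefEq.respectTransparency false in
/-- The map `X ×_B X ⟶ Y ×_B Y` induced by a universally closed `f : X ⟶ Y` over `B` is
universally closed. -/
theorem isUnivClosedMor_fibreSquare_map {X Y B : Sp S} (hX : IsAlgSpace X) (hY : IsAlgSpace Y)
    (hB : IsAlgSpace B) (f : X ⟶ Y) (q : Y ⟶ B) (hc : IsUnivClosedMor f) :
    IsUnivClosedMor (pullback.map (f ≫ q) (f ≫ q) q q f f (𝟙 B) (by simp) (by simp)) := by
  have hBd := repDiag_of_isAlgSpace hB
  have e : pullback.map (f ≫ q) (f ≫ q) q q f f (𝟙 B) (by simp) (by simp) =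
      pullback.map (f ≫ q) (f ≫ q) (f ≫ q) q (𝟙 X) f (𝟙 B) (by simp) (by simp) ≫
      pullback.map (f ≫ q) q q q f (𝟙 Y) (𝟙 B) (by simp) (by simp) := by
    apply pullback.hom_ext <;> simp
  have sq1 := isPullback_map_snd f q (f ≫ q)
  have sq2 := isPullback_map_fst f q q
  have hM : IsAlgSpace (pullback (f ≫ q) q) :=
    isAlgSpace_of_isPullback hBd hX hY (IsPullback.of_hasPullback _ _)
  have hYY : IsAlgSpace (pullback q q) :=
    isAlgSpace_of_isPullback hBd hY hY (IsPullback.of_hasPullback _ _)
  rw [e]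
  exact isUnivClosedMor_comp hM (repDiag_of_isAlgSpace hYY) (univSp_of_isPullback _ sq1.flip hc)
    (univSp_of_isPullback _ sq2.flip hc)

set_option backward.isDefEq.respectTransparency.types false in
set_option maxHeartbeats 800000 in
/-- A finite union of closed subspaces proper over `Y` is (the support of a closed subspace)
proper over `Y`. -/
theorem exists_union_proper {X Y : AlgSp.Space S}
    (f : X ⟶ Y) (hf : AlgSp.LocP @LocallyOfFiniteType f.hom)
    {ι : Type} [Finite ι] (Z : ι → AlgSp.Space S) (i : ∀ k, Z k ⟶ X)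
    (hi : ∀ k, AlgSp.RepWith @IsClosedImmersion (i k).hom)
    (hZ : ∀ k, AlgSp.IsProperMor (i k ≫ f).hom) :
    ∃ (W : AlgSp.Space S) (j : W ⟶ X), AlgSp.RepWith @IsClosedImmersion j.hom ∧
      Set.range (AlgSp.Points.map j.hom) = ⋃ k, Set.range (AlgSp.Points.map (i k).hom) ∧
      AlgSp.IsProperMor (j ≫ f).hom := by
  have hTk : ∀ k, IsClosed (Set.range (Points.map (i k).hom)) := fun k =>
    isClosed_range_of_closedImmersion X.property (hi k)
  have hT : IsClosed (⋃ k, Set.range (Points.map (i k).hom)) := isClosed_iUnion_of_finite hTk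
  obtain ⟨W, j, hjc, hjr, hWred⟩ := Groth.Agent.S10192.result X _ hT
  refine ⟨W, j, hjc, hjr, ?_⟩
  -- reduced structures
  choose Z₀ i₀ hi₀ using fun k => Groth.Agent.S10192.result X _ (hTk k)
  have hi₀c : ∀ k, RepWith @IsClosedImmersion (i₀ k).hom := fun k => (hi₀ k).1
  have hi₀r : ∀ k, Set.range (Points.map (i₀ k).hom) = Set.range (Points.map (i k).hom) :=
    fun k => (hi₀ k).2.1
  have hZ₀red : ∀ k, IsReducedSp (Z₀ k).obj := fun k => (hi₀ k).2.2
  have hZ₀ : ∀ k, IsProperMor (i₀ k ≫ f).hom := fun k =>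
    Groth.Agent.S10760.result f hf (i k) (i₀ k) (hi k) (hi₀c k) (hi₀r k).symm (hZ k)
  -- factorizations
  have hfac : ∀ k, ∃ g : Z₀ k ⟶ W, g ≫ j = i₀ k := fun k =>
    (Groth.Agent.S10193.result j hjc (hZ₀red k) (i₀ k)).2 (by
      rw [hjr, hi₀r k]
      exact Set.subset_iUnion (fun k => Set.range (Points.map (i k).hom)) k)
  choose g hg using hfac
  have hg' : ∀ k, (g k).hom ≫ j.hom = (i₀ k).hom := fun k => congrArg (·.hom) (hg k)
  have hsurj : ∀ w : Points W.obj, ∃ k z, Points.map (g k).hom z = w := by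
    intro w
    have hw : Points.map j.hom w ∈ ⋃ k, Set.range (Points.map (i k).hom) := by
      rw [← hjr]; exact ⟨w, rfl⟩
    obtain ⟨k, hk⟩ := Set.mem_iUnion.1 hw
    rw [← hi₀r k] at hk
    obtain ⟨z, hz⟩ := hk
    refine ⟨k, z, injective_points_of_closedImmersion hjc ?_⟩
    rw [← Points.map_comp, hg']
    exact hz
  have hguc : ∀ k, IsUnivClosedMor (g k).hom := by
    intro k
    refine (univClosed_proper_over_separated (Z₀ k).property W.property X.property (g k).hom
      j.hom (isSeparatedMor_of_repWith_isClosedImmersion hjc)).1 ?_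
    rw [hg']
    exact (isProperMor_of_repWith_isClosedImmersion (hi₀c k)).2.2
  have hcomp : ∀ k, (g k).hom ≫ (j ≫ f).hom = (i₀ k ≫ f).hom := by
    intro k
    change (g k).hom ≫ j.hom ≫ f.hom = (i₀ k).hom ≫ f.hom
    rw [← Category.assoc, hg']
  have hquc : IsUnivClosedMor (j ≫ f).hom :=
    isUnivClosedMor_of_family _ (fun k => (Z₀ k).obj) (fun k => (g k).hom) hsurj
      (fun k => by rw [hcomp]; exact (hZ₀ k).2.2)
  refine ⟨?_, ⟨?_, ?_⟩, hquc⟩
  · -- separated
    apply isSeparatedMor_of_isUnivClosedMor_diagonal W.property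
    refine isUnivClosedMor_of_family _ (fun k => (Z₀ k).obj) (fun k => (g k).hom) hsurj
      (fun k => ?_)
    rw [← diagonal_comp_map]
    have hYd := repDiag_of_isAlgSpace Y.property
    have hXX : IsAlgSpace (pullback ((g k).hom ≫ (j ≫ f).hom) ((g k).hom ≫ (j ≫ f).hom)) :=
      isAlgSpace_of_isPullback hYd (Z₀ k).property (Z₀ k).property (IsPullback.of_hasPullback _ _)
    have hWW : IsAlgSpace (pullback (j ≫ f).hom (j ≫ f).hom) :=
      isAlgSpace_of_isPullback hYd W.property W.property (IsPullback.of_hasPullback _ _)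
    refine isUnivClosedMor_comp hXX (repDiag_of_isAlgSpace hWW) ?_
      (isUnivClosedMor_fibreSquare_map (Z₀ k).property W.property Y.property _ _ (hguc k))
    have hsep : IsSeparatedMor ((g k).hom ≫ (j ≫ f).hom) := by
      rw [hcomp]; exact (hZ₀ k).1
    exact (isProperMor_of_repWith_isClosedImmersion hsep).2.2
  · exact locP_comp etLocal_lft W.property X.property Y.property j.hom f.hom
      (locP_of_repWith etale_le_lft (repWith_mono isClosedImmersion_le_lft hjc)) hf
  · exact Groth.Agent.S9925.result (j ≫ f) hquc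

end Groth.Agent.Lib.Helper24.PropUnion
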