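import Groth.Agent.Lib.Helper24.PshBridge
set_option autoImplicit false
open CategoryTheory Opposite
universe w v u v₂ u₂
set_option backward.isDefEq.respectTransparency false
set_option backward.isDefEq.respectTransparency.types false

/-! A full functor over `C` between categories of elements comes from an injective map of
presheaves. -/

namespace Groth.Agent.Lib.Helper24.PshMono
open Groth.Agent.Lib.Helper24.PshFun Groth.Agent.Lib.Helper24.PshBridge

variable {C : Type u} [Category.{v} C] {P Q : Cᵒᵖ ⥤ Type w}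

lemma map_eqToHom_op_apply {X Y Z : C} (e₁ : X = Y) (e₂ : Y = Z) (s : Q.obj (op Z)) :
    Q.map (eqToHom e₁).op (Q.map (eqToHom e₂).op s) = Q.map (eqToHom (e₁.trans e₂)).op s := by
  subst e₁ e₂; simp

lemma map_eqToHom_op_inj {X Y : C} (e : X = Y) {s s' : Q.obj (op Y)}
    (h : Q.map (eqToHom e).op s = Q.map (eqToHom e).op s') : s = s' := by
  subst e; simpa using h

lemma pshMapOf_injective_of_full (Φ : Stk.ofPsh P ⥤ᵇ Stk.ofPsh Q) [Φ.toFunctor.Full] (T : Cᵒᵖ) :
    Function.Injective ((pshMapOf Φ).app T) := by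
  intro x x' hxx'
  let a : (Stk.ofPsh P).obj := ⟨T.unop, x⟩
  let a' : (Stk.ofPsh P).obj := ⟨T.unop, x'⟩
  have h : sec Φ a = sec Φ a' := hxx'
  have e : (Φ.toFunctor.obj a).base = T.unop := base_eq Φ a
  have e' : (Φ.toFunctor.obj a').base = T.unop := base_eq Φ a'
  have hs : Q.map (eqToHom (e.trans e'.symm)).op (Φ.toFunctor.obj a').sec =
      (Φ.toFunctor.obj a).sec := by
    have h' : Q.map (eqToHom e.symm).op (Φ.toFunctor.obj a).sec =
        Q.map (eqToHom e'.symm).op (Φ.toFunctor.obj a').sec := h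
    apply map_eqToHom_op_inj e.symm
    rw [map_eqToHom_op_apply, h']
  let n : Φ.toFunctor.obj a ⟶ Φ.toFunctor.obj a' := ⟨eqToHom (e.trans e'.symm), hs⟩
  obtain ⟨m, hm⟩ := Φ.toFunctor.map_surjective n
  have hmh : m.hom = 𝟙 T.unop := by
    have h1 := map_hom Φ m
    rw [hm] at h1
    change eqToHom (e.trans e'.symm) = eqToHom e ≫ m.hom ≫ eqToHom e'.symm at h1
    have h2 : eqToHom e ≫ m.hom ≫ eqToHom e'.symm = eqToHom e ≫ 𝟙 _ ≫ eqToHom e'.symm := by
      rw [← h1]; simp
    have h3 := (cancel_epi _).1 h2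
    exact (cancel_mono _).1 h3
  have hsec := m.map_sec
  change P.map m.hom.op x' = x at hsec
  rw [hmh] at hsec
  rw [← hsec]
  exact Functor.map_id_apply P T x'

end Groth.Agent.Lib.Helper24.PshMono
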