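import Groth.Agent.Lib.Helper24.PureFlat
set_option autoImplicit false
universe u
open TensorProduct

namespace Groth.Agent.Lib.Helper24.PureFlat

/-- A ring-level criterion for purity, phrased through test rings. -/
theorem isPure_of_test {A C : Type u} [CommRing A] [CommRing C] [Algebra A C]
    (H : ∀ (A' : Type u) [CommRing A'] (ι : A →+* A') (s : A'),
      (∀ (D : Type u) [CommRing D] (ψ : A' →+* D) (ε : C →+* D),
        ε.comp (algebraMap A C) = ψ.comp ι → ψ s = 0) → s = 0) :
    IsPure A C := by
  intro N _ _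
  rw [injective_iff_map_eq_zero]
  intro x hx
  letI : Module Aᵐᵒᵖ N := Module.compHom _ ((RingHom.id A).fromOpposite mul_comm)
  haveI : IsCentralScalar A N := ⟨fun r m => rfl⟩
  have key := H (TrivSqZeroExt A N) (TrivSqZeroExt.inlHom A N) (TrivSqZeroExt.inr x) ?_
  · exact TrivSqZeroExt.inr_injective (by rw [key, TrivSqZeroExt.inr_zero])
  intro D _ ψ ε hcomp
  letI : Algebra A D := (ε.comp (algebraMap A C)).toAlgebra
  letI : Algebra C D := ε.toAlgebra
  haveI : IsScalarTower A C D := IsScalarTower.of_algebraMap_eq (fun _ => rfl)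
  -- the A-linear map N → D
  let l : N →ₗ[A] D :=
    { toFun := fun n => ψ (TrivSqZeroExt.inr n)
      map_add' := fun n n' => by rw [TrivSqZeroExt.inr_add, map_add]
      map_smul' := fun a n => by
        have e : (TrivSqZeroExt.inr (a • n) : TrivSqZeroExt A N) =
            TrivSqZeroExt.inl a * TrivSqZeroExt.inr n := by
          rw [TrivSqZeroExt.inl_mul_inr]
        rw [e, map_mul]
        have e2 : ψ (TrivSqZeroExt.inl a) = algebraMap A D a := by
          change ψ (TrivSqZeroExt.inlHom A N a) = (ε.comp (algebraMap A C)) a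
          rw [hcomp]
          rfl
        rw [e2, RingHom.id_apply, Algebra.smul_def] }
  have h1 : (LinearMap.liftBaseChange C l) ((1 : C) ⊗ₜ[A] x) = ψ (TrivSqZeroExt.inr x) := by
    rw [LinearMap.liftBaseChange_tmul, one_smul]
    rfl
  rw [← h1]
  have : (1 : C) ⊗ₜ[A] x = 0 := hx
  rw [this, map_zero]

end Groth.Agent.Lib.Helper24.PureFlat
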