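import Mathlib
set_option autoImplicit false
universe u
open TensorProduct

/-! # Descent of flatness along universally injective ring maps -/

namespace Groth.Agent.Lib.Helper24.PureFlat

/-- `R → S` is universally injective (pure), tested on `R`-modules in the universe of `R`. -/
def IsPure (R S : Type u) [CommRing R] [CommRing S] [Algebra R S] : Prop :=
  ∀ (N : Type u) [AddCommGroup N] [Module R N], Function.Injective (TensorProduct.mk R S N 1)

variable {R S : Type u} [CommRing R] [CommRing S] [Algebra R S]

/-- evaluation `R → C(C(R))`. -/
noncomputable def ev : R →ₗ[R] CharacterModule (CharacterModule R) where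
  toFun r :=
    { toFun := fun c => c r
      map_zero' := rfl
      map_add' := fun _ _ => rfl }
  map_add' r r' := by
    ext c
    exact c.map_add r r'
  map_smul' r r' := by
    ext c
    rfl

theorem exists_tau (hpure : IsPure R S) :
    ∃ τ : CharacterModule R →ₗ[R] CharacterModule S,
      ∀ (c : CharacterModule R) (r : R), τ c (algebraMap R S r) = c r := by
  have hinj : Function.Injective ((Algebra.linearMap R S).rTensor (CharacterModule R)) := by
    have h := hpure (CharacterModule R)
    have e : ((Algebra.linearMap R S).rTensor (CharacterModule R)) ∘ₗ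
        (TensorProduct.lid R (CharacterModule R)).symm.toLinearMap =
        TensorProduct.mk R S (CharacterModule R) 1 := by
      ext c
      simp
    have h2 : Function.Injective (((Algebra.linearMap R S).rTensor (CharacterModule R)) ∘ₗ
        (TensorProduct.lid R (CharacterModule R)).symm.toLinearMap) := by rw [e]; exact h
    intro x y hxy
    have := h2 (a₁ := TensorProduct.lid R _ x) (a₂ := TensorProduct.lid R _ y) (by simpa using hxy)
    exact (TensorProduct.lid R _).injective this
  rw [rTensor_injective_iff_lcomp_surjective] at hinj
  obtain ⟨ψ, hψ⟩ := hinj ev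
  refine ⟨{ toFun := fun c =>
              { toFun := fun s => ψ s c
                map_zero' := by rw [map_zero]; rfl
                map_add' := fun s s' => by rw [map_add]; rfl }
            map_add' := fun c c' => by
              ext s
              exact (ψ s).map_add c c'
            map_smul' := fun r c => by
              ext s
              change ψ s (r • c) = ψ (r • s) c
              rw [ψ.map_smul]
              rfl }, fun c r => ?_⟩
  change ψ (algebraMap R S r) c = c r
  have := congrArg (fun L => L r c) hψ
  exact this


section Sigma
variable (τ : CharacterModule R →ₗ[R] CharacterModule S)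

/-- the character `r ↦ c (r • m)` of `R` attached to a character `c` of `M` and `m : M`. -/
noncomputable def cm (M : Type u) [AddCommGroup M] [Module R M] :
    CharacterModule M →ₗ[R] (M →ₗ[R] CharacterModule R) :=
  CharacterModule.curry ∘ₗ CharacterModule.dual (TensorProduct.rid R M).toLinearMap

lemma cm_apply (M : Type u) [AddCommGroup M] [Module R M] (c : CharacterModule M) (m : M) (r : R) :
    cm M c m r = c (r • m) := by
  change c ((TensorProduct.rid R M) (m ⊗ₜ[R] r)) = _
  rw [TensorProduct.rid_tmul]

/-- the natural section `C(M) → C(S ⊗ M)` -/
noncomputable def sigma (M : Type u) [AddCommGroup M] [Module R M] :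
    CharacterModule M →ₗ[R] CharacterModule (S ⊗[R] M) :=
  CharacterModule.dual (TensorProduct.comm R S M).toLinearMap ∘ₗ
    CharacterModule.uncurry ∘ₗ (LinearMap.compRight R τ) ∘ₗ cm M

lemma sigma_tmul (M : Type u) [AddCommGroup M] [Module R M] (c : CharacterModule M) (s : S)
    (m : M) : sigma τ M c (s ⊗ₜ[R] m) = τ (cm M c m) s := by
  rfl

lemma dual_mk_sigma (hτ : ∀ (c : CharacterModule R) (r : R), τ c (algebraMap R S r) = c r)
    (M : Type u) [AddCommGroup M] [Module R M] (c : CharacterModule M) :
    CharacterModule.dual (TensorProduct.mk R S M 1) (sigma τ M c) = c := by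
  ext m
  change sigma τ M c ((1 : S) ⊗ₜ[R] m) = c m
  rw [sigma_tmul, ← map_one (algebraMap R S), hτ, cm_apply, one_smul]

lemma sigma_natural {F M : Type u} [AddCommGroup F] [Module R F] [AddCommGroup M] [Module R M]
    (π : F →ₗ[R] M) (c : CharacterModule M) :
    sigma τ F (CharacterModule.dual π c) = CharacterModule.dual (π.lTensor S) (sigma τ M c) := by
  ext x
  induction x using TensorProduct.induction_on with
  | zero => rw [map_zero, map_zero]
  | add x y hx hy => rw [map_add, map_add, hx, hy]
  | tmul s x =>
    change sigma τ F (CharacterModule.dual π c) (s ⊗ₜ[R] x) = sigma τ M c (s ⊗ₜ[R] π x)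
    rw [sigma_tmul, sigma_tmul]
    congr 2
    ext r
    rw [cm_apply, cm_apply]
    change c (π (r • x)) = c (r • π x)
    rw [map_smul]

end Sigma


/-- **Descent of flatness along universally injective ring maps.** -/
theorem flat_of_pure (hpure : IsPure R S) (M : Type u) [AddCommGroup M] [Module R M]
    [hM : Module.Flat S (S ⊗[R] M)] : Module.Flat R M := by
  obtain ⟨τ, hτ⟩ := exists_tau hpure
  -- free cover
  let F : Type u := M →₀ R
  let π : F →ₗ[R] M := Finsupp.linearCombination R id
  have hπ : Function.Surjective π := Finsupp.linearCombination_id_surjective R M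
  let πS : S ⊗[R] F →ₗ[S] S ⊗[R] M := π.baseChange S
  have hπS : Function.Surjective πS := LinearMap.lTensor_surjective S hπ
  have hdinj : Function.Injective (CharacterModule.dual πS) :=
    CharacterModule.dual_injective_of_surjective πS hπS
  have hBS : Module.Baer S (CharacterModule (S ⊗[R] M)) :=
    Module.Flat.iff_characterModule_baer.1 hM
  obtain ⟨r, hr⟩ := hBS.extension_property (CharacterModule.dual πS) hdinj LinearMap.id
  have hBF : Module.Baer R (CharacterModule F) := Module.Flat.iff_characterModule_baer.1 inferInstance
  rw [Module.Flat.iff_characterModule_baer]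
  have hr' : ∀ d, r (CharacterModule.dual πS d) = d := fun d => by
    have := congrArg (fun L => L d) hr
    exact this
  have hrsmul : ∀ (x : R) (d : CharacterModule (S ⊗[R] F)), r (x • d) = x • r d := by
    intro x d
    have e1 : x • d = (algebraMap R S x) • d := by
      ext t
      change d (x • t) = d ((algebraMap R S x) • t)
      rw [algebraMap_smul]
    have e2 : x • r d = (algebraMap R S x) • r d := by
      ext t
      change (r d) (x • t) = (r d) ((algebraMap R S x) • t)
      rw [algebraMap_smul]
    rw [e1, e2, map_smul]
  -- the retraction
  let ρ : CharacterModule F →ₗ[R] CharacterModule M :=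
    { toFun := fun d => CharacterModule.dual (TensorProduct.mk R S M 1) (r (sigma τ F d))
      map_add' := fun d d' => by rw [map_add, map_add, map_add]
      map_smul' := fun x d => by
        rw [map_smul, hrsmul, map_smul]
        rfl }
  have hρ : ∀ c, ρ (CharacterModule.dual π c) = c := by
    intro c
    change CharacterModule.dual (TensorProduct.mk R S M 1)
      (r (sigma τ F (CharacterModule.dual π c))) = c
    rw [sigma_natural]
    have : CharacterModule.dual (π.lTensor S) (sigma τ M c) =
        CharacterModule.dual πS (sigma τ M c) := rfl
    rw [this, hr', dual_mk_sigma τ hτ]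
  intro I g
  obtain ⟨g₁, hg₁⟩ := hBF I (CharacterModule.dual π ∘ₗ g)
  refine ⟨ρ ∘ₗ g₁, fun x mem => ?_⟩
  change ρ (g₁ x) = _
  rw [hg₁ x mem]
  exact hρ _


theorem faithfullyFlat_of_pure (hpure : IsPure R S) [Module.Flat R S] :
    Module.FaithfullyFlat R S := by
  rw [Module.FaithfullyFlat.iff_flat_and_lTensor_reflects_triviality]
  refine ⟨inferInstance, fun N _ _ h => ?_⟩
  exact (hpure N).subsingleton

/-- a universally injective ring map whose self base change is flat is faithfully flat. -/
theorem faithfullyFlat_of_pure_of_flat_tensor (hpure : IsPure R S)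
    [Module.Flat S (S ⊗[R] S)] : Module.FaithfullyFlat R S := by
  have : Module.Flat R S := flat_of_pure hpure S
  exact faithfullyFlat_of_pure hpure

end Groth.Agent.Lib.Helper24.PureFlat
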