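import Groth.Agent.Lib.Helper24.QAffLocal
import Groth.Agent.Lib.Helper24.AlgStAffLoc
import Groth.Agent.Lib.Helper24.AlgStQCProd
import Groth.Agent.Lib.Helper24.FibCatOverMap
import Groth.Agent.Lib.Helper24.AlgStSmLoc
import Groth.Agent.Lib.Helper24.AlgStCalc2
import Groth.Agent.Lib.Helper24.AlgStBridge
set_option autoImplicit false
set_option linter.unusedSectionVars false
set_option linter.style.haveILetI false
universe u
open CategoryTheory CategoryTheory.Limits AlgebraicGeometry Opposite
set_option backward.isDefEq.respectTransparency false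
set_option backward.isDefEq.respectTransparency.types false

/-! Cancellation for quasi-affine morphisms against morphisms whose diagonal is a quasi-compact
immersion. -/

namespace Groth.Agent.Lib.Helper24.QAffCancel
open AlgSp Groth.Agent.Lib.Helper14.AS
open Groth.Agent.Lib.Helper24.AlgStProps Groth.Agent.Lib.Helper24.AlgStRepS
open Groth.Agent.Lib.Helper24.AlgStSchLocal Groth.Agent.Lib.Helper24.AlgStDiagLC
open Groth.Agent.Lib.Helper24.QAffLocal

variable {S : Scheme.{u}}

/-- the diagonal is (representable and) a quasi-compact immersion -/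
def DiagQcImm : MorphismProperty (Sp S) :=
  fun _ _ f => RepWith (@IsImmersion ⊓ @QuasiCompact) (pullback.diagonal f)

/-- a property of the diagonal can be tested after base change to schemes -/
theorem schLocal_diag (Q : MorphismProperty Scheme.{u}) :
    SchLocal (fun _ _ f => RepWith Q (pullback.diagonal f) : MorphismProperty (Sp S)) := by
  intro X Y hX hY φ H
  refine ⟨representable_diagonal φ hX.diag, fun T W z a0 b0 sq0 => ?_⟩
  change Q b0.left
  let g₀ : (yon S).obj T ⟶ Y := z ≫ pullback.fst φ φ ≫ φ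
  have sq := IsPullback.of_hasPullback φ g₀
  have hPc := H g₀ (pullback.fst φ g₀) (pullback.snd φ g₀) sq
  have sqD := isPullback_diagonal_of_isPullback sq
  let x₁ : (yon S).obj T ⟶ pullback φ g₀ :=
    pullback.lift (z ≫ pullback.fst φ φ) (𝟙 _) (by simp [g₀])
  let x₂ : (yon S).obj T ⟶ pullback φ g₀ :=
    pullback.lift (z ≫ pullback.snd φ φ) (𝟙 _) (by simp [g₀, pullback.condition])
  let z' : (yon S).obj T ⟶ pullback (pullback.snd φ g₀) (pullback.snd φ g₀) :=
    pullback.lift x₁ x₂ (by simp [x₁, x₂])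
  have hz' : z' ≫ pullback.map (pullback.snd φ g₀) (pullback.snd φ g₀) φ φ (pullback.fst φ g₀)
      (pullback.fst φ g₀) g₀ sq.w.symm sq.w.symm = z := by
    apply pullback.hom_ext <;> simp [z', x₁, x₂]
  have hcomm : a0 ≫ pullback.diagonal φ = ((yon S).map b0 ≫ z') ≫ pullback.map
      (pullback.snd φ g₀) (pullback.snd φ g₀) φ φ (pullback.fst φ g₀)
      (pullback.fst φ g₀) g₀ sq.w.symm sq.w.symm := by
    rw [Category.assoc, hz']
    exact sq0.w
  have left : IsPullback (sqD.lift a0 ((yon S).map b0 ≫ z') hcomm) ((yon S).map b0)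
      (pullback.diagonal (pullback.snd φ g₀)) z' := by
    refine IsPullback.of_right ?_ (sqD.lift_snd _ _ _) sqD
    rw [sqD.lift_fst, hz']
    exact sq0
  exact hPc.property z' _ b0 left

theorem nice_diagQcImm : Nice (DiagQcImm (S := S)) :=
  ⟨stableBC_of_bcStable (bcStable_diagonal _), schLocal_diag _⟩

/-- a quasi-affine morphism after a representable quasi-compact immersion is quasi-affine -/
theorem isQuasiAffineMor_qcImm_comp {F G H : Sp S} {f : F ⟶ G} {g : G ⟶ H}
    (hf : RepWith (@IsImmersion ⊓ @QuasiCompact) f) (hg : IsQuasiAffineMor g) :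
    IsQuasiAffineMor (f ≫ g) := by
  intro Z hZ z
  obtain ⟨W, i, a, sqW, hW⟩ := hg hZ z
  have sq := hf.rep.isPullback a
  have h1 : (@IsImmersion ⊓ @QuasiCompact : MorphismProperty Scheme.{u}) (hf.rep.snd a).left :=
    hf.property_snd a
  refine ⟨hf.rep.pullback a, hf.rep.snd a ≫ i, hf.rep.fst a, ?_, ?_⟩
  · rw [Functor.map_comp]
    exact sq.paste_vert sqW
  · haveI : W.left.IsQuasiAffine := hW
    haveI : IsImmersion (hf.rep.snd a).left := h1.1
    haveI : QuasiCompact (hf.rep.snd a).left := h1.2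
    haveI : CompactSpace (hf.rep.pullback a).left :=
      QuasiCompact.compactSpace_of_compactSpace (hf.rep.snd a).left
    exact Scheme.IsQuasiAffine.of_isImmersion (hf.rep.snd a).left

/-- If `g ≫ q` is quasi-affine and the diagonal of `q` is a quasi-compact immersion, then `g` is
quasi-affine. -/
theorem isQuasiAffineMor_of_comp' {X Y B : Sp S} (g : X ⟶ Y) (q : Y ⟶ B)
    (hp : IsQuasiAffineMor (g ≫ q)) (hq : DiagQcImm q) : IsQuasiAffineMor g := by
  have sqG := isPullback_graph g q
  have hΓ : RepWith (@IsImmersion ⊓ @QuasiCompact)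
      (pullback.lift (𝟙 X) g (by simp) : X ⟶ pullback (g ≫ q) q) :=
    repWith_of_isPullback _ sqG.flip hq
  have hpr : IsQuasiAffineMor (pullback.snd (g ≫ q) q) :=
    isQuasiAffineMor_of_isPullback (IsPullback.of_hasPullback (g ≫ q) q) hp
  have := isQuasiAffineMor_qcImm_comp hΓ hpr
  rwa [pullback.lift_snd] at this

theorem leftCancel_isQuasiAffineMor' : LeftCancel (IsQuasiAffineMor (S := S)) DiagQcImm :=
  fun _ _ _ _ _ _ a b hab hb => isQuasiAffineMor_of_comp' a b hab hb

theorem isQuasiAffineMor_of_isAffineMor {F G : Sp S} {f : F ⟶ G} (h : IsAffineMor f) :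
    IsQuasiAffineMor f := by
  intro Z hZ z
  obtain ⟨W, i, a, sqW, hW⟩ := h hZ z
  haveI : IsAffine W.left := hW
  exact ⟨W, i, a, sqW, inferInstance⟩

/-- the structure functor of a scheme quasi-separated over `S` -/
theorem repByAlgSpWith_diagQcImm_to_selfOver {X : Over S} [QuasiSeparated X.hom]
    (t : FibCat.overCat X ⥤ᵇ FibCat.selfOver (Over S)) :
    AlgSt.RepByAlgSpWith DiagQcImm t := by
  rw [Groth.Agent.Lib.Helper24.AlgStLC.repByAlgSpWith_conj DiagQcImm t (BasedFunctor.id _)
    (Groth.Agent.Lib.Helper24.StkSlice.P₁ (U := S))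
    (Groth.Agent.Lib.Helper24.AlgStRep.isEquivOver_id _)
    (Groth.Agent.Lib.Helper24.AlgStQCProd.isEquivOver_P₁ S)]
  obtain ⟨g, ⟨i⟩⟩ := Groth.Agent.Lib.Helper24.FibCatOverMap.exists_iso_overMapC
    (BasedFunctor.comp (BasedFunctor.id _)
      (BasedFunctor.comp t (Groth.Agent.Lib.Helper24.StkSlice.P₁ (U := S))))
  apply Groth.Agent.Lib.Helper24.AlgStGC.repByAlgSpWith_of_iso DiagQcImm i.symm
  change AlgSt.RepByAlgSpWith DiagQcImm (AlgSt.overMap g)
  have hg : g.left = X.hom := by
    have := Over.w g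
    simpa using this
  have hP : DiagQcImm ((AlgSp.yon S).map g) := by
    change AlgSp.RepWith (@IsImmersion ⊓ @QuasiCompact) (pullback.diagonal ((AlgSp.yon S).map g))
    rw [AlgSp.repWith_diagonal_yon_map_iff, hg]
    exact ⟨inferInstance, QuasiSeparated.quasiCompact_diagonal⟩
  have h1 := Groth.Agent.Lib.Helper24.AlgStCalc2.repByAlgSpWith_ofSpMap DiagQcImm
    nice_diagQcImm.bc
    (V := ⟨(AlgSp.yon S).obj X, AlgSp.IsAlgSpace.yon_obj X⟩)
    (W := ⟨(AlgSp.yon S).obj _, AlgSp.IsAlgSpace.yon_obj _⟩) _ hP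
  exact (Groth.Agent.Lib.Helper24.AlgStRep.repByAlgSpWith_iff_of_isEquivOver DiagQcImm
    (AlgSt.overMap g) (AlgSt.ofSpMap ((AlgSp.yon S).map g))
    (AlgSt.toOverCat _) (AlgSt.toOverCat _)
    (Groth.Agent.Lib.Helper24.AlgStBridge.isEquivOver_toOverCat _)
    (Groth.Agent.Lib.Helper24.AlgStBridge.isEquivOver_toOverCat _)
    (Groth.Agent.Lib.Helper24.AlgStSmLoc.overMapIso g).symm).2 h1

end Groth.Agent.Lib.Helper24.QAffCancel
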