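import Groth.Agent.Lib.Helper24.QuotSt17
import Groth.Agent.Lib.Helper24.AlgStLocQ6
import Groth.Agent.Lib.Helper24.AlgStSmLoc
import Groth.Agent.Lib.Helper24.AlgStAffLoc
import Groth.Agent.Lib.Helper24.AlgStQCProd
import Groth.Agent.Lib.Helper24.FibCatOverMap
import Groth.Agent.Lib.Helper24.AlgStFppfCover
import Groth.Agent.Lib.Helper24.QAffCancel
import Groth.Agent.S12836
set_option autoImplicit false
set_option linter.unusedSectionVars false
universe u
open CategoryTheory CategoryTheory.Limits AlgebraicGeometry Opposite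
set_option backward.isDefEq.respectTransparency false
set_option backward.isDefEq.respectTransparency.types false

/-! The quotient stack `[X/G]` for an affine flat lfp group has quasi-affine diagonal. -/

namespace Groth.Agent.Lib.Helper24.QAffQuot
open AlgSt
open Groth.Agent.Lib.Helper24.QuotSt6 Groth.Agent.Lib.Helper24.QuotSt5
open Groth.Agent.Lib.Helper24.QuotSt17 Groth.Agent.Lib.Helper24.EtSheaf
open Groth.Agent.Lib.Helper24.AlgStAffLoc Groth.Agent.Lib.Helper24.AlgStProps
open Groth.Agent.Lib.Helper24.QAffCancel Groth.Agent.Lib.Helper24.AlgStRepS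
open Groth.Agent.Lib.Helper24.AlgStSchLocal

theorem repByAlgSpWith_qaff_diag_quotSt (S : Scheme.{u}) (G : Over S) [GrpObj G]
    [IsAffineHom G.hom] [Flat G.hom] [LocallyOfFinitePresentation G.hom]
    (X : Over S) [QuasiSeparated X.hom] (aX : AlgGrp.Action G X) :
    AlgSt.RepByAlgSpWith AlgSp.IsQuasiAffineMor
      (FibCat.diag (FibCat.toSelf (AlgSt.QuotSt Scheme.fppfPrecoverage G aX))) := by
  have hfl : ∀ (U : Over S)
      (y : FibCat.overCat U ⥤ᵇ AlgSt.QuotSt Scheme.fppfPrecoverage G aX), Flat (piU y).left :=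
    fun U y => piU_left_prop @Flat y
      (torsor_prop_of_le le_rfl @Flat inferInstance (tors y))
  have hlfp : ∀ (U : Over S)
      (y : FibCat.overCat U ⥤ᵇ AlgSt.QuotSt Scheme.fppfPrecoverage G aX),
      LocallyOfFinitePresentation (piU y).left :=
    fun U y => piU_left_prop @LocallyOfFinitePresentation y
      (torsor_prop_of_le le_rfl @LocallyOfFinitePresentation inferInstance (tors y))
  have hsurj : ∀ (U : Over S)
      (y : FibCat.overCat U ⥤ᵇ AlgSt.QuotSt Scheme.fppfPrecoverage G aX),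
      Surjective (piU y).left :=
    fun U y => piU_left_prop @Surjective y
      (torsor_prop_of_le le_rfl @Surjective surjective_hom_of_grpObj (tors y))
  have haff : ∀ (U : Over S)
      (y : FibCat.overCat U ⥤ᵇ AlgSt.QuotSt Scheme.fppfPrecoverage G aX),
      IsAffineHom (piU y).left :=
    fun U y => piU_left_prop @IsAffineHom y (isAffineHom_π le_rfl (tors y))
  have h1a : AlgSt.RepByAlgSpWith (AlgSp.LocP @Flat)
      (BasedFunctor.comp (AlgSt.ofOverCat X) (AlgSt.quotMap Scheme.fppfPrecoverage G aX)) :=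
    repByAlgSpWith_quotMap _ fun U y =>
      Groth.Agent.Lib.Helper24.AlgStLocQ6.locP_yon_map_of
        Groth.Agent.Lib.Helper14.AS.etLocal_flat (hfl U y)
  have h1b : AlgSt.RepByAlgSpWith (AlgSp.LocP @LocallyOfFinitePresentation)
      (BasedFunctor.comp (AlgSt.ofOverCat X) (AlgSt.quotMap Scheme.fppfPrecoverage G aX)) :=
    repByAlgSpWith_quotMap _ fun U y =>
      Groth.Agent.Lib.Helper24.AlgStLocQ6.locP_yon_map_of
        Groth.Agent.Lib.Helper14.AS.etLocal_lfp (hlfp U y)
  have h2 : AlgSt.RepByAlgSpWith AlgSp.IsSurjectiveMor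
      (BasedFunctor.comp (AlgSt.ofOverCat X) (AlgSt.quotMap Scheme.fppfPrecoverage G aX)) :=
    repByAlgSpWith_quotMap _ fun U y =>
      Groth.Agent.Lib.Helper24.AlgStSmLoc.isSurjectiveMor_yon_map_of_surjective _ (hsurj U y)
  have h3 : AlgSt.RepByAlgSpWith AlgSp.IsAffineMor
      (BasedFunctor.comp (AlgSt.ofOverCat X) (AlgSt.quotMap Scheme.fppfPrecoverage G aX)) :=
    repByAlgSpWith_quotMap _ fun U y =>
      Groth.Agent.Lib.Helper14.AS.isAffineMor_of_repWith
        ((AlgSp.repWith_yon_map_iff @IsAffineHom (piU y)).2 (haff U y))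
  have hU : AlgSt.RepByAlgSp (FibCat.overCat X) :=
    Groth.Agent.Lib.Helper24.AlgStCalc.repByAlgSp_overCat X
  have hstack := Groth.Agent.S12836.result S G X aX
  have hu1 := repByAlgSp1_of_repByAlgSpWith _ _ h3
  have hΔ : AlgSt.RepByAlgSp1
      (FibCat.diag (FibCat.toSelf (AlgSt.QuotSt Scheme.fppfPrecoverage G aX))) :=
    Groth.Agent.Lib.Helper24.AlgStFppfCover.repByAlgSp1_diag_of_fppf_cover
      (Groth.Agent.Lib.Helper24.StkFpCrit.isFibGrpd_overForget X) hstack hU _ hu1 h1a h1b h2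
  have hxP : AlgSt.RepByAlgSpWith AlgSp.IsQuasiAffineMor
      (BasedFunctor.comp (AlgSt.ofOverCat X) (AlgSt.quotMap Scheme.fppfPrecoverage G aX)) :=
    repByAlgSpWith_mono (fun _ _ a h => isQuasiAffineMor_of_isAffineMor h) _ h3
  exact repByAlgSpWith_diag_of_chart' (Groth.Agent.Lib.Helper24.StkFpCrit.isFibGrpd_overForget X)
    Groth.Agent.Lib.Helper24.QuotSt8.isFibGrpd
    Groth.Agent.Lib.Helper24.FibCatInertia.isFibGrpd_selfOver
    AlgSp.IsQuasiAffineMor DiagQcImm Groth.Agent.Lib.Helper24.QAffLocal.good_isQuasiAffineMor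
    nice_diagQcImm leftCancel_isQuasiAffineMor'
    (FibCat.toSelf _) hΔ _ hU
    (Groth.Agent.Lib.Helper24.AlgStDiag.repByAlgSp_fp_comp_toSelf hU hU _ _)
    (Groth.Agent.Lib.Helper24.AlgStBoot.repByAlgSpWith_fpFst DiagQcImm _ _
      (repByAlgSpWith_diagQcImm_to_selfOver _))
    h1a h1b h2 hxP

end Groth.Agent.Lib.Helper24.QAffQuot
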