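import Mathlib
set_option autoImplicit false
set_option backward.isDefEq.respectTransparency false
set_option backward.isDefEq.respectTransparency.types false
universe u
open CategoryTheory CategoryTheory.Limits AlgebraicGeometry Opposite TensorProduct

noncomputable section

namespace Groth.Agent.Lib.Helper24.QCMonoIso

/-- a morphism from an affine scheme to `Spec A₀` factors through its ring map. -/
theorem fac_isoSpec {A₀ : CommRingCat.{u}} {V : Scheme.{u}} [IsAffine V] (h : V ⟶ Spec A₀) :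
    h = V.isoSpec.hom ≫ Spec.map ((Scheme.ΓSpecIso A₀).inv ≫ h.appTop) := by
  have h1 := Scheme.toSpecΓ_naturality h
  have h2 : (Spec A₀).toSpecΓ = Spec.map (Scheme.ΓSpecIso A₀).hom := (SpecMap_ΓSpecIso_hom A₀).symm
  rw [Spec.map_comp]
  change h = V.toSpecΓ ≫ _
  rw [← reassoc_of% h1, h2, ← Spec.map_comp, Iso.inv_hom_id, Spec.map_id, Category.comp_id]

/-- flatness of the self base change, at ring level. -/
theorem flat_tensor_of_isPullback {A₀ : CommRingCat.{u}} {V Z : Scheme.{u}} [IsAffine V]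
    (h : V ⟶ Spec A₀) (a b : Z ⟶ V) (sq : IsPullback a b h h) [Flat a] :
    letI : Algebra A₀ Γ(V, ⊤) := ((Scheme.ΓSpecIso A₀).inv ≫ h.appTop).hom.toAlgebra
    Module.Flat Γ(V, ⊤) (Γ(V, ⊤) ⊗[A₀] Γ(V, ⊤)) := by
  letI : Algebra A₀ Γ(V, ⊤) := ((Scheme.ΓSpecIso A₀).inv ≫ h.appTop).hom.toAlgebra
  have hfac := fac_isoSpec h
  have hφ : CommRingCat.ofHom (algebraMap A₀ Γ(V, ⊤)) = (Scheme.ΓSpecIso A₀).inv ≫ h.appTop := rfl
  have sq' : IsPullback (a ≫ V.isoSpec.hom) (b ≫ V.isoSpec.hom)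
      (Spec.map (CommRingCat.ofHom (algebraMap A₀ Γ(V, ⊤))))
      (Spec.map (CommRingCat.ofHom (algebraMap A₀ Γ(V, ⊤)))) := by
    refine IsPullback.of_iso sq (Iso.refl _) V.isoSpec V.isoSpec (Iso.refl _) ?_ ?_ ?_ ?_
    · simp
    · simp
    · rw [hφ, ← hfac]; simp
    · rw [hφ, ← hfac]; simp
  have h1 : Spec.map (CommRingCat.ofHom (algebraMap Γ(V, ⊤) (Γ(V, ⊤) ⊗[A₀] Γ(V, ⊤)))) =
      (pullbackSpecIso A₀ Γ(V, ⊤) Γ(V, ⊤)).inv ≫ sq'.isoPullback.inv ≫ (a ≫ V.isoSpec.hom) := by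
    rw [IsPullback.isoPullback_inv_fst, pullbackSpecIso_inv_fst']
  have h2 : Flat (Spec.map (CommRingCat.ofHom
      (algebraMap Γ(V, ⊤) (Γ(V, ⊤) ⊗[A₀] Γ(V, ⊤))))) := by
    rw [h1]
    infer_instance
  rw [HasRingHomProperty.Spec_iff (P := @Flat)] at h2
  exact RingHom.flat_algebraMap_iff.1 h2

end Groth.Agent.Lib.Helper24.QCMonoIso
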