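import Groth.Agent.Lib.Helper24.PureCrit
import Groth.Agent.Lib.Helper24.QCMonoIso2
import Groth.Agent.Lib.Helper14.FpqcCover1
import Groth.Agent.Lib.Helper10.FpqcDesc1
set_option autoImplicit false
set_option backward.isDefEq.respectTransparency false
set_option backward.isDefEq.respectTransparency.types false
universe u
open CategoryTheory CategoryTheory.Limits AlgebraicGeometry Opposite AlgSp
open Groth.Agent.Lib.Helper14.AS Groth.Agent.Lib.Helper24.PureFlat

noncomputable section

namespace Groth.Agent.Lib.Helper24.QCMonoIso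

variable {S : Scheme.{u}}

/-- the section-injectivity hypothesis on a map of sheaves -/
def SecInj {X Y : Sp S} (f : X ⟶ Y) : Prop :=
  ∀ (T : Over S) (g : (yon S).obj T ⟶ Y) (P : Sp S) (fst : P ⟶ X)
    (snd : P ⟶ (yon S).obj T), IsPullback fst snd f g →
    ∀ s : Γ(T.left, ⊤),
      (∀ (W : Over S) (a : (yon S).obj W ⟶ P) (c : W ⟶ T),
        a ≫ snd = (yon S).map c → c.left.appTop s = 0) → s = 0

variable {X Y : Sp S} (f : X ⟶ Y)

theorem pure_of_secInj (hSI : SecInj f) {A₀ : CommRingCat.{u}} (t : Spec A₀ ⟶ S)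
    (g : (yon S).obj (Over.mk t) ⟶ Y) {P : Sp S} (fst : P ⟶ X)
    (snd : P ⟶ (yon S).obj (Over.mk t)) (sq : IsPullback fst snd f g) {U : Over S}
    (p : (yon S).obj U ⟶ P) (hpe : RepWith @Etale p) (hps : RepWith @Surjective p)
    (c : U ⟶ Over.mk t) (hc : (yon S).map c = p ≫ snd) :
    letI : Algebra A₀ Γ(U.left, ⊤) := ((Scheme.ΓSpecIso A₀).inv ≫ c.left.appTop).hom.toAlgebra
    IsPure A₀ Γ(U.left, ⊤) := by
  letI : Algebra A₀ Γ(U.left, ⊤) := ((Scheme.ΓSpecIso A₀).inv ≫ c.left.appTop).hom.toAlgebra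
  apply isPure_of_test
  intro A' _ ι s hs
  let A'c : CommRingCat.{u} := CommRingCat.of A'
  let ιc : A₀ ⟶ A'c := CommRingCat.ofHom ι
  let T' : Over S := Over.mk (Spec.map ιc ≫ t)
  let m : T' ⟶ Over.mk t := Over.homMk (Spec.map ιc) rfl
  let g' : (yon S).obj T' ⟶ Y := (yon S).map m ≫ g
  have sq' := IsPullback.of_hasPullback f g'
  let s' : Γ(T'.left, ⊤) := (Scheme.ΓSpecIso A'c).inv s
  have key : s' = 0 := by
    refine hSI T' g' _ _ _ sq' s' ?_
    intro W a c' hac
    -- map to P
    let κ : pullback f g' ⟶ P := sq.lift (pullback.fst f g') (pullback.snd f g' ≫ (yon S).map m)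
      (by rw [Category.assoc]; exact pullback.condition)
    have hκ2 : κ ≫ snd = pullback.snd f g' ≫ (yon S).map m := sq.lift_snd _ _ _
    let a₁ : (yon S).obj W ⟶ P := a ≫ κ
    have ha₁ : a₁ ≫ snd = (yon S).map (c' ≫ m) := by
      rw [Category.assoc, hκ2, ← Category.assoc, hac, ← Functor.map_comp]
    let e := hpe.rep.fst' a₁
    let d := hpe.rep.snd a₁
    have sqW : IsPullback ((yon S).map e) ((yon S).map d) p a₁ := hpe.rep.isPullback' a₁
    have hde : Etale d.left := hpe.property_snd a₁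
    have hds : Surjective d.left := hps.property _ _ _ (hpe.rep.isPullback a₁)
    have hcomm : e ≫ c = d ≫ c' ≫ m := by
      apply (yon S).map_injective
      rw [Functor.map_comp, hc, ← Category.assoc, sqW.w, Category.assoc, ha₁, ← Functor.map_comp]
    have hepi : Epi d.left := Flat.epi_of_flat_of_surjective d.left
    have hinj := Groth.Agent.Lib.Helper10.FpqcDesc.appTop_injective_of_epi d.left
    apply hinj
    rw [map_zero]
    -- ring maps
    let ψ : A' →+* Γ((hpe.rep.pullback a₁).left, ⊤) :=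
      ((Scheme.ΓSpecIso A'c).inv ≫ c'.left.appTop ≫ d.left.appTop).hom
    let ε : Γ(U.left, ⊤) →+* Γ((hpe.rep.pullback a₁).left, ⊤) := e.left.appTop.hom
    have hcompat : ε.comp (algebraMap A₀ Γ(U.left, ⊤)) = ψ.comp ι := by
      have h1 : ((Scheme.ΓSpecIso A₀).inv ≫ c.left.appTop) ≫ e.left.appTop =
          ιc ≫ (Scheme.ΓSpecIso A'c).inv ≫ c'.left.appTop ≫ d.left.appTop := by
        rw [Scheme.ΓSpecIso_inv_naturality_assoc, Category.assoc]
        congr 1
        rw [← Scheme.Hom.comp_appTop, ← Over.comp_left, hcomm]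
        rw [Over.comp_left, Over.comp_left, Scheme.Hom.comp_appTop, Scheme.Hom.comp_appTop]
        rfl
      exact congrArg (fun φ => φ.hom) h1
    have := hs _ ψ ε hcompat
    exact this
  have : s = (Scheme.ΓSpecIso A'c).hom s' := by
    change s = (Scheme.ΓSpecIso A'c).hom ((Scheme.ΓSpecIso A'c).inv s)
    exact (congrArg (fun φ => φ.hom s) (Scheme.ΓSpecIso A'c).inv_hom_id).symm
  rw [this, key, map_zero]


/-- composing both legs of a pullback square with a monomorphism -/
theorem isPullback_comp_mono₀ {C : Type*} [Category C] {P X Y Z Z' : C} {a : P ⟶ X} {b : P ⟶ Y}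
    {f : X ⟶ Z} {g : Y ⟶ Z} (m : Z ⟶ Z') [Mono m] (h : IsPullback a b f g) :
    IsPullback a b (f ≫ m) (g ≫ m) := by
  refine ⟨⟨by rw [← Category.assoc, h.w, Category.assoc]⟩, ⟨PullbackCone.IsLimit.mk _
    (fun s => h.lift s.fst s.snd (by
      rw [← cancel_mono m, Category.assoc, Category.assoc]; exact s.condition))
    (fun s => h.lift_fst _ _ _) (fun s => h.lift_snd _ _ _)
    (fun s l h1 h2 => h.hom_ext (by rw [h1, h.lift_fst]) (by rw [h2, h.lift_snd]))⟩⟩

theorem etale_surjective_of_secInj (hSI : SecInj f) [Mono f] {A₀ : CommRingCat.{u}}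
    (t : Spec A₀ ⟶ S)
    (g : (yon S).obj (Over.mk t) ⟶ Y) {P : Sp S} (fst : P ⟶ X)
    (snd : P ⟶ (yon S).obj (Over.mk t)) (sq : IsPullback fst snd f g) {U : Over S}
    [IsAffine U.left]
    (p : (yon S).obj U ⟶ P) (hpe : RepWith @Etale p) (hps : RepWith @Surjective p)
    (c : U ⟶ Over.mk t) (hc : (yon S).map c = p ≫ snd) :
    Etale c.left ∧ Surjective c.left := by
  letI : Algebra A₀ Γ(U.left, ⊤) := ((Scheme.ΓSpecIso A₀).inv ≫ c.left.appTop).hom.toAlgebra
  have hpure : IsPure A₀ Γ(U.left, ⊤) := pure_of_secInj f hSI t g fst snd sq p hpe hps c hc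
  let e₁ := hpe.rep.fst' p
  let e₂ := hpe.rep.snd p
  have sqUU : IsPullback ((yon S).map e₁) ((yon S).map e₂) p p := hpe.rep.isPullback' p
  have he₁ : Etale e₁.left := by
    have : RepWith @Etale ((yon S).map e₁) :=
      MorphismProperty.of_isPullback (P := RepWith @Etale) sqUU.flip hpe
    exact (repWith_yon_map_iff _ _).1 this
  have hmono : Mono snd := sq.mono_snd_of_mono
  have sqT : IsPullback ((yon S).map e₁) ((yon S).map e₂) ((yon S).map c) ((yon S).map c) := by
    rw [hc]
    exact isPullback_comp_mono₀ snd sqUU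
  have sqO : IsPullback e₁ e₂ c c := IsPullback.of_map (yon S)
    ((yon S).map_injective (by rw [Functor.map_comp, Functor.map_comp, sqT.w])) sqT
  have sqS : IsPullback e₁.left e₂.left c.left c.left := sqO.map (Over.forget S)
  have hflat : Flat e₁.left := inferInstance
  have hft : Module.Flat Γ(U.left, ⊤) (TensorProduct A₀ Γ(U.left, ⊤) Γ(U.left, ⊤)) :=
    flat_tensor_of_isPullback c.left e₁.left e₂.left sqS
  have hff : Module.FaithfullyFlat A₀ Γ(U.left, ⊤) := faithfullyFlat_of_pure_of_flat_tensor hpure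
  have hfs : Flat (Spec.map ((Scheme.ΓSpecIso A₀).inv ≫ c.left.appTop)) ∧
      Surjective (Spec.map ((Scheme.ΓSpecIso A₀).inv ≫ c.left.appTop)) := by
    rw [AlgebraicGeometry.flat_and_surjective_SpecMap_iff]
    exact (RingHom.faithfullyFlat_algebraMap_iff).2 hff
  have hfac := fac_isoSpec c.left
  have hcf : Flat c.left := by
    rw [hfac]
    have := hfs.1
    infer_instance
  have hcs : Surjective c.left := by
    rw [hfac]
    have := hfs.2
    infer_instance
  haveI : IsAffine (Over.mk t).left := inferInstanceAs (IsAffine (Spec A₀))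
  have hcq : QuasiCompact c.left := inferInstance
  refine ⟨?_, hcs⟩
  exact MorphismProperty.of_isPullback_of_descendsAlong (P := @Etale)
    (Q := @Surjective ⊓ @Flat ⊓ @QuasiCompact) sqS ⟨⟨hcs, hcf⟩, hcq⟩ he₁

end Groth.Agent.Lib.Helper24.QCMonoIso
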