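import Groth.Agent.Lib.Helper24.QCMonoIso1
import Groth.Agent.Lib.Helper14.AlgSpProper
set_option autoImplicit false
set_option backward.isDefEq.respectTransparency false
set_option backward.isDefEq.respectTransparency.types false
universe u
open CategoryTheory CategoryTheory.Limits AlgebraicGeometry Opposite AlgSp
open Groth.Agent.Lib.Helper14.AS Groth.Agent.Lib.Helper24.PureFlat

noncomputable section

namespace Groth.Agent.Lib.Helper24.QCMonoIso

variable {S : Scheme.{u}} {X Y : Sp S} (f : X ⟶ Y)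

/-- local data over one affine piece of an atlas of the target -/
theorem exists_local_chart (hX : IsAlgSpace X) (hY : IsAlgSpace Y) (hqc : IsQuasiCompactMor f)
    [Mono f] (hSI : SecInj f) {A₀ : CommRingCat.{u}} (t : Spec A₀ ⟶ S)
    (g : (yon S).obj (Over.mk t) ⟶ Y) (hg : RepWith @Etale g) :
    ∃ (U : Over S) (a : (yon S).obj U ⟶ X) (c : U ⟶ Over.mk t),
      RepWith @Etale a ∧ Etale c.left ∧ Surjective c.left ∧ a ≫ f = (yon S).map c ≫ g ∧
      ∀ (x : Points X) (v : Spec A₀), Points.map f x = Points.ofPt g v →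
        ∃ u : U.left, Points.ofPt a u = x := by
  have sq := IsPullback.of_hasPullback f g
  have hP : IsAlgSpace (pullback f g) :=
    isAlgSpace_of_isPullback (repDiag_of_isAlgSpace hY) hX (IsAlgSpace.yon_obj _) sq
  haveI : IsAffine (Over.mk t).left := inferInstanceAs (IsAffine (Spec A₀))
  have hZqc : IsQuasiCompactSp ((yon S).obj (Over.mk t)) :=
    (isQuasiCompactSp_yon_iff _).2 inferInstance
  have hPqc : IsQuasiCompactSp (pullback f g) := hqc (IsAlgSpace.yon_obj _) hZqc g _ _ sq
  obtain ⟨U, p, hU, hpe, hps⟩ := isQuasiCompactSp_iff_exists_affine_chart.1 hPqc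
  obtain ⟨c, hc⟩ := (yon S).map_surjective (p ≫ pullback.snd f g)
  obtain ⟨hce, hcs⟩ := etale_surjective_of_secInj f hSI t g _ _ sq p hpe hps c hc
  have hfst : RepWith @Etale (pullback.fst f g) :=
    MorphismProperty.of_isPullback (P := RepWith @Etale) sq.flip hg
  refine ⟨U, p ≫ pullback.fst f g, c, repWith_comp _ hpe hfst, hce, hcs, ?_, ?_⟩
  · rw [Category.assoc, pullback.condition, ← Category.assoc, hc]
  · intro x v hxv
    have e : Points.map f x = Points.map g (Points.ofPt (𝟙 _) v) := by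
      rw [hxv, Points.map_ofPt, Category.id_comp]
    obtain ⟨w, hw1, -⟩ := points_exists_of_isPullback sq x _ e
    obtain ⟨u, rfl⟩ := ofPt_surjective_of_repWith hps w
    exact ⟨u, by rw [← hw1, Points.map_ofPt]⟩

theorem isIso_of_secInj (hX : IsAlgSpace X) (hY : IsAlgSpace Y) (hqc : IsQuasiCompactMor f)
    [Mono f] (hSI : SecInj f) : IsIso f := by
  obtain ⟨V₀, b, hbe, hbs⟩ := hY.atlas
  let 𝒰 := V₀.left.affineOpenCover
  let T : 𝒰.I₀ → Over S := fun i => Over.mk (𝒰.f i ≫ V₀.hom)
  let j : ∀ i, T i ⟶ V₀ := fun i => Over.homMk (𝒰.f i) rfl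
  let bi : ∀ i, (yon S).obj (T i) ⟶ Y := fun i => (yon S).map (j i) ≫ b
  have hbi : ∀ i, RepWith @Etale (bi i) := fun i =>
    repWith_comp _ ((repWith_yon_map_iff _ _).2 (inferInstance : Etale (𝒰.f i))) hbe
  choose U a c hae hce hcs hcomm hpts using fun i =>
    exists_local_chart f hX hY hqc hSI (𝒰.f i ≫ V₀.hom) (bi i) (hbi i)
  -- every point of Y comes from some affine piece
  have hYpt : ∀ y : Points Y, ∃ (i : 𝒰.I₀) (v : Spec (𝒰.X i)), Points.ofPt (bi i) v = y := by
    intro y
    obtain ⟨v, rfl⟩ := ofPt_surjective_of_repWith hbs y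
    obtain ⟨v', hv'⟩ := 𝒰.covers v
    exact ⟨𝒰.idx v, v', by
      change Points.ofPt ((yon S).map (j _) ≫ b) v' = _
      rw [ofPt_yon_map_comp]
      exact congrArg _ hv'⟩
  have hsurj : IsSurjectiveMor f := by
    intro y
    obtain ⟨i, v, rfl⟩ := hYpt y
    obtain ⟨u, rfl⟩ := (hcs i).surj v
    refine ⟨Points.ofPt (a i) u, ?_⟩
    rw [Points.map_ofPt, hcomm i, ofPt_yon_map_comp]
  have hflat : LocP @Flat f := by
    refine locP_of_etCover etLocal_flat (fun i => (yon S).obj (U i)) a
      (fun i => IsAlgSpace.yon_obj _) (fun i W φ hφ => repWith_comp _ hφ (hae i)) ?_ f ?_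
    · intro x
      obtain ⟨i, v, hv⟩ := hYpt (Points.map f x)
      obtain ⟨u, hu⟩ := hpts i x v hv.symm
      exact ⟨i, Points.ofPt (𝟙 _) u, by rw [Points.map_ofPt, Category.id_comp, hu]⟩
    · intro i
      rw [hcomm i]
      have h1 : RepWith @Etale ((yon S).map (c i) ≫ bi i) :=
        repWith_comp _ ((repWith_yon_map_iff _ _).2 (hce i)) (hbi i)
      have h2 : IsEtaleMor ((yon S).map (c i) ≫ bi i) := fun W φ hφ => repWith_comp _ hφ h1
      exact locP_mono etale_le_flat (locP_etale_of_isEtaleMor h2)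
  exact isIso_of_qc_flat_surjective_mono hX hY f hqc hflat hsurj

end Groth.Agent.Lib.Helper24.QCMonoIso
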