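import Groth.Agent.Lib.Helper24.QuotSt17
import Groth.Agent.Lib.Helper24.QuotSt8
import Groth.Agent.Lib.Helper24.CB3
import Groth.Agent.Lib.Helper24.FibGrpd
set_option autoImplicit false
set_option linter.unusedSimpArgs false
set_option linter.unusedSectionVars false
set_option linter.style.haveILetI false
universe u
set_option backward.isDefEq.respectTransparency false
set_option backward.isDefEq.respectTransparency.types false

/-! Objects of a quotient stack over an algebraically closed point: sections exist, and the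
isomorphism classes are the orbits. -/

namespace Groth.Agent.Lib.Helper24.QP1
open CategoryTheory CategoryTheory.Limits MonoidalCategory CartesianMonoidalCategory MonObj GrpObj
open AlgebraicGeometry Opposite AlgSt
open Groth.Agent.Lib.Helper24.QuotSt1
open Groth.Agent.Lib.Helper24.QuotSt3 Groth.Agent.Lib.Helper24.QuotSt5
open Groth.Agent.Lib.Helper24.QuotSt6 Groth.Agent.Lib.Helper24.QuotSt17

variable {S : Scheme.{u}} {K : Precoverage Scheme.{u}} [K.HasIsos] [K.IsStableUnderBaseChange]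
  {G : Over S} [GrpObj G] {X : Over S} {aX : AlgGrp.Action G X}

/-- sections of a torsor under a smooth group over an algebraically closed point -/
lemma exists_sec (hK : K ≤ Scheme.fppfPrecoverage) [Smooth G.hom]
    (A : AlgSt.QuotObj K G aX) {Ω : Type u} [Field Ω]
    [IsAlgClosed Ω] (str : Spec (CommRingCat.of Ω) ⟶ S) (t : Over.mk str ⟶ A.base) :
    ∃ s : Over.mk str ⟶ A.P, s ≫ A.π = t := by
  haveI hsm : Smooth A.π.left := torsor_prop_of_le hK @Smooth ‹Smooth G.hom› A
  haveI hsu : Surjective A.π.left :=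
    torsor_prop_of_le hK @Surjective surjective_hom_of_grpObj A
  haveI : LocallyOfFiniteType A.π.left := inferInstance
  obtain ⟨s, hs⟩ := Groth.Agent.Lib.Helper24.CB3.exists_lift_of_isAlgClosed A.π.left t.left
  refine ⟨Over.homMk s ?_, Over.OverMorphism.ext hs⟩
  have h1 := Over.w A.π
  have h2 := Over.w t
  change s ≫ A.P.hom = str
  rw [← h1, ← Category.assoc, hs]
  exact h2

lemma triv_φ {T : Over S} (x : T ⟶ X) : (triv K G aX x).φ = (G ◁ x) ≫ aX.act := rfl

lemma unitSec_triv_φ {T : Over S} (x : T ⟶ X) : unitSec G T ≫ (triv K G aX x).φ = x := by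
  rw [triv_φ]
  have h3 : unitSec G T ≫ (G ◁ x) = lift (1 : T ⟶ G) x := by
    apply CartesianMonoidalCategory.hom_ext
    · simp only [Category.assoc, lift_fst, whiskerLeft_fst, unitSec_fst]
    · simp only [Category.assoc, lift_snd, whiskerLeft_snd, unitSec_snd_assoc]
  rw [← Category.assoc, h3, one_act' G aX]

/-- a morphism over an `eqToHom` gives a morphism in the fibre -/
lemma isHomLift_of_base_eq {T : Over S} {A B : AlgSt.QuotObj K G aX} (hA : A.base = T)
    (hB : B.base = T) (f : A ⟶ B) (hf : f.base = eqToHom (hA.trans hB.symm)) :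
    (AlgSt.QuotObj.forget K G aX).IsHomLift (𝟙 T) f := by
  refine IsHomLift.of_fac' _ _ _ hA hB ?_
  change f.base = _
  rw [hf]
  simp

theorem nonempty_iso_iff {T : Over S} (A B : (AlgSt.QuotObj.forget K G aX).Fiber T)
    (tA : T ⟶ A.1.P) (tB : T ⟶ B.1.P)
    (hA : tA ≫ A.1.π = eqToHom A.2.symm) (hB : tB ≫ B.1.π = eqToHom B.2.symm) :
    Nonempty (A ≅ B) ↔ ∃ g : T ⟶ G, lift g (tA ≫ A.1.φ) ≫ aX.act = tB ≫ B.1.φ := by
  haveI : IsGroupoid ((AlgSt.QuotObj.forget K G aX).Fiber T) :=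
    Groth.Agent.Lib.Helper24.FibGrpd.isGroupoid_fiber_of_isFibGrpd _
      (Groth.Agent.Lib.Helper24.QuotSt8.isFibGrpd (K := K) (G := G) (aX := aX)) T
  let TA : (AlgSt.QuotObj.forget K G aX).Fiber T := ⟨triv K G aX (tA ≫ A.1.φ), rfl⟩
  let TB : (AlgSt.QuotObj.forget K G aX).Fiber T := ⟨triv K G aX (tB ≫ B.1.φ), rfl⟩
  let fa : TA ⟶ A := ⟨homOfSec A.1 tA rfl, isHomLift_of_base_eq rfl A.2 _ hA⟩
  let fb : TB ⟶ B := ⟨homOfSec B.1 tB rfl, isHomLift_of_base_eq rfl B.2 _ hB⟩
  constructor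
  · rintro ⟨e⟩
    let m : TB ⟶ TA := fb ≫ e.inv ≫ inv fa
    have hm : (AlgSt.QuotObj.forget K G aX).IsHomLift (𝟙 T) m.1 := m.2
    have hbase : m.1.base = 𝟙 T := by
      have := IsHomLift.fac' (AlgSt.QuotObj.forget K G aX) (𝟙 T) m.1
      simp at this
      exact this
    obtain ⟨g, h, -⟩ := eq_trivHom K G aX m.1
    rw [hbase, Category.id_comp] at h
    exact ⟨g, h⟩
  · rintro ⟨g, hg⟩
    let j : TB ⟶ TA := ⟨trivHom K G aX (𝟙 T) g (by rw [Category.id_comp]; exact hg),
      isHomLift_of_base_eq (T := T) (A := triv K G aX (tB ≫ B.1.φ))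
        (B := triv K G aX (tA ≫ A.1.φ)) rfl rfl _ rfl⟩
    exact ⟨(asIso fa).symm ≪≫ (asIso j).symm ≪≫ asIso fb⟩

theorem exists_obj_of_point {T : Over S} (x : T ⟶ X) :
    ∃ (A : (AlgSt.QuotObj.forget K G aX).Fiber T) (t : T ⟶ A.1.P),
      t ≫ A.1.π = eqToHom A.2.symm ∧ t ≫ A.1.φ = x :=
  ⟨⟨triv K G aX x, rfl⟩, unitSec G T, unitSec_snd G T, unitSec_triv_φ x⟩

end Groth.Agent.Lib.Helper24.QP1
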