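import Groth.Agent.Lib.Helper24.OmSep3
import Groth.Agent.Lib.Helper14.AlgSpNoethChart
set_option autoImplicit false
set_option linter.unusedSectionVars false
set_option linter.unusedVariables false
universe u
open CategoryTheory CategoryTheory.Limits AlgebraicGeometry Opposite

/-! Locally Noetherian decent spaces: fibre products of affine étale charts are quasi-compact. -/

namespace Groth.Agent.Lib.Helper24.QSNoeth
open AlgSp Groth.Agent.Lib.Helper14.AS Groth.Agent.Lib.Helper24.Filt1 Groth.Agent.Lib.Helper24.ZarGlue
open Groth.Agent.Lib.Helper24.Filt2 Groth.Agent.Lib.Helper24.Filt3 Groth.Agent.Lib.Helper24.OmSep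
open Groth.Agent.Lib.Helper24.Filt7 Groth.Agent.Lib.Helper24.Filt8

variable {S : Scheme.{u}}

theorem ofPt_mem_om_of_mem_omS {X : Sp S} {U V P : Over S} (a : (yon S).obj U ⟶ X)
    (b : (yon S).obj V ⟶ X) (g : P ⟶ V) (snd : P ⟶ U)
    (sq : IsPullback ((yon S).map g) ((yon S).map snd) b a) (n : ℕ) (v : V.left)
    (hv : v ∈ omS g n) : Points.ofPt b v ∈ Om a (Idx n) := by
  rw [mem_omS_iff] at hv
  obtain ⟨T, t, τ, rfl⟩ := hv
  let τ' : Tup a (Idx n) T :=
    { u := fun i => τ.u i ≫ snd
      compat := fun i j => by
        rw [Functor.map_comp, Functor.map_comp, Category.assoc, Category.assoc, ← sq.w,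
          ← Category.assoc, ← Category.assoc, τ.compat i j]
      apart := fun i j hij t' h => by
        apply τ.apart i j hij t'
        rw [eqAt_iff_ptHom] at h ⊢
        apply (yon S).map_injective
        apply sq.hom_ext
        · rw [← Functor.map_comp, ← Functor.map_comp, Category.assoc, Category.assoc,
            comp_eq_of_compat g τ i j]
        · rw [← Functor.map_comp, ← Functor.map_comp, Category.assoc, Category.assoc]
          exact congrArg _ h }
  refine ⟨T, t, τ', ?_⟩
  change Points.ofPt ((yon S).map (τ.u default ≫ snd) ≫ a) t = _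
  rw [Functor.map_comp, Category.assoc, ← sq.w, ← Category.assoc, ← Functor.map_comp,
    ofPt_yon_map_comp]

set_option backward.isDefEq.respectTransparency.types false in
theorem compactSpace_pullback_of_decent (X : Space S) (hN : IsLocNoethSp X.obj)
    (hX : IsDecent X.obj) {U V P : Over S} [IsAffine U.left] [IsAffine V.left]
    (a : (yon S).obj U ⟶ X.obj) (b : (yon S).obj V ⟶ X.obj) (hae : RepWith @Etale a)
    (hbe : RepWith @Etale b) (g : P ⟶ V) (snd : P ⟶ U)
    (sq : IsPullback ((yon S).map g) ((yon S).map snd) b a) : CompactSpace ↥P.left := by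
  have hVN : IsLocallyNoetherian V.left := isLocallyNoetherian_of_etale_over hN b hbe
  have : IsNoetherian V.left := { }
  have hge : Etale g.left := hae.property b _ _ sq.flip
  have hgs : IsSeparated g.left :=
    isSeparated_of_isPullback (repWith_isClosedImmersion_diagonal_of_isAffine (a := a)) sq.flip
  refine compactSpace_of_forall_not_mem_omS g fun v => ?_
  obtain ⟨p, hp, -, hq⟩ := hX (Points.ofPt b v)
  obtain ⟨N, hN'⟩ := exists_not_mem_om hae p hq
  refine ⟨N, fun hv => hN' ?_⟩
  rw [hp]
  exact ofPt_mem_om_of_mem_omS a b g snd sq N v hv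

end Groth.Agent.Lib.Helper24.QSNoeth
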