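import Groth.Agent.Lib.Helper14.AlgSpQSepCharts
import Groth.Agent.Lib.Helper14.AlgSpAffine
import Groth.Agent.Lib.Helper14.AlgSpQCMor
import Groth.Agent.Lib.Helper14.LimX
set_option autoImplicit false
set_option linter.unusedSectionVars false
set_option linter.unusedVariables false
universe u
open CategoryTheory CategoryTheory.Limits AlgebraicGeometry Opposite

/-! Quasi-separated spaces and quasi-compact affine charts. -/

namespace Groth.Agent.Lib.Helper24.ZarQS
open AlgSp Groth.Agent.Lib.Helper14.AS

variable {S : Scheme.{u}}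

theorem compactSpace_pullback_of_factor {U T S : Scheme.{u}} (f : U ⟶ S) (g : T ⟶ S)
    [CompactSpace U] [CompactSpace T] (W : S.Opens) (hW : IsAffineOpen W)
    (hf : ∀ x, f x ∈ W) (hg : ∀ x, g x ∈ W) : CompactSpace ↥(pullback f g) := by
  have hfr : Set.range f ⊆ Set.range W.ι := by
    rw [Scheme.Opens.range_ι]; rintro _ ⟨x, rfl⟩; exact hf x
  have hgr : Set.range g ⊆ Set.range W.ι := by
    rw [Scheme.Opens.range_ι]; rintro _ ⟨x, rfl⟩; exact hg x
  obtain ⟨f', ef⟩ : ∃ f' : U ⟶ W.toScheme, f' ≫ W.ι = f := ⟨_, IsOpenImmersion.lift_fac _ _ hfr⟩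
  obtain ⟨g', eg⟩ : ∃ g' : T ⟶ W.toScheme, g' ≫ W.ι = g := ⟨_, IsOpenImmersion.lift_fac _ _ hgr⟩
  subst ef eg
  have : IsAffine W.toScheme := hW
  have hc : CompactSpace ↥(pullback f' g') := inferInstance
  let φ : pullback f' g' ⟶ pullback (f' ≫ W.ι) (g' ≫ W.ι) :=
    pullback.lift (pullback.fst _ _) (pullback.snd _ _)
      (by rw [← Category.assoc, pullback.condition, Category.assoc])
  let ψ : pullback (f' ≫ W.ι) (g' ≫ W.ι) ⟶ pullback f' g' :=
    pullback.lift (pullback.fst _ _) (pullback.snd _ _)
      (by rw [← cancel_mono W.ι, Category.assoc, Category.assoc, pullback.condition])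
  have hφψ : ψ ≫ φ = 𝟙 _ := by
    apply pullback.hom_ext
    · rw [Category.assoc, Category.id_comp]
      change _ ≫ pullback.lift _ _ _ ≫ pullback.fst _ _ = _
      rw [pullback.lift_fst, pullback.lift_fst]
    · rw [Category.assoc, Category.id_comp]
      change _ ≫ pullback.lift _ _ _ ≫ pullback.snd _ _ = _
      rw [pullback.lift_snd, pullback.lift_snd]
  have hs : Function.Surjective φ := fun z =>
    ⟨ψ z, by rw [← Scheme.Hom.comp_apply, hφψ]; rfl⟩
  refine ⟨?_⟩
  rw [← Set.range_eq_univ.2 hs]
  exact isCompact_range φ.continuous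

set_option backward.isDefEq.respectTransparency.types false in
/-- Over a space quasi-separated over `S`, a surjective chart from an affine scheme lying over an
affine open of `S` is quasi-compact. -/
theorem repWith_quasiCompact_of_affine_over_affine {Y : Sp S} (hqs : IsQuasiSeparatedSp Y)
    {U : Over S} [IsAffine U.left] (p : (yon S).obj U ⟶ Y) (hps : RepWith @Surjective p)
    (W : S.Opens) (hW : IsAffineOpen W) (hUW : ∀ v : U.left, U.hom v ∈ W) :
    RepWith @QuasiCompact p := by
  refine repWith_of_affine hps.rep fun T hT z P a b sq => ?_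
  obtain ⟨fst, rfl⟩ := (yon S).map_surjective a
  have hbs : Surjective b.left := hps.property z ((yon S).map fst) b sq
  have hTW : ∀ t : T.left, T.hom t ∈ W := by
    intro t
    obtain ⟨z', rfl⟩ := hbs.surj t
    have : T.hom (b.left z') = U.hom (fst.left z') := by
      rw [← Scheme.Hom.comp_apply, ← Scheme.Hom.comp_apply, Over.w b, Over.w fst]
    rw [this]
    exact hUW _
  have sq' := isPullback_diag_prodChart₂ sq
  have hqc : QuasiCompact (prod.lift fst b).left := hqs.property _ _ _ sq'
  have hprod : CompactSpace ↥(U ⨯ T).left := by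
    have e : (U ⨯ T).left ≅ pullback U.hom T.hom := Over.prodLeftIsoPullback U T
    have := compactSpace_pullback_of_factor U.hom T.hom W hW hUW hTW
    exact (Scheme.homeoOfIso e).symm.compactSpace
  have hPc : CompactSpace ↥P.left :=
    QuasiCompact.compactSpace_of_compactSpace (prod.lift fst b).left
  exact inferInstanceAs (QuasiCompact b.left)

set_option backward.isDefEq.respectTransparency.types false in
/-- A space with a quasi-compact surjective chart from an affine scheme is quasi-separated
over `S`. -/
theorem isQuasiSeparatedSp_of_qc_surjective_affine_chart {Y : Sp S} (hY : IsAlgSpace Y)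
    {U : Over S} [IsAffine U.left] (p : (yon S).obj U ⟶ Y) (hpq : RepWith @QuasiCompact p)
    (hps : RepWith @Surjective p) : IsQuasiSeparatedSp Y := by
  refine isQuasiSeparatedSp_of_affine_pullback_compact hY fun T T' P t t' fst snd hT hT' sq => ?_
  have hr := hps.rep
  have sqA := hr.isPullback' t
  have sqA' := hr.isPullback' t'
  have hAq : QuasiCompact (hr.snd t).left := hpq.property t _ _ sqA
  have hAc : CompactSpace ↥(hr.pullback t).left :=
    QuasiCompact.compactSpace_of_compactSpace (hr.snd t).left
  have hA'q : QuasiCompact (hr.snd t').left := hpq.property t' _ _ sqA'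
  have hA'c : CompactSpace ↥(hr.pullback t').left :=
    QuasiCompact.compactSpace_of_compactSpace (hr.snd t').left
  have sqQ := (IsPullback.of_hasPullback (hr.fst' t) (hr.fst' t')).map (yon S)
  have hQc : CompactSpace ↥(pullback (hr.fst' t) (hr.fst' t')).left := by
    have h := (IsPullback.of_hasPullback (hr.fst' t) (hr.fst' t')).map (Over.forget S)
    have e := h.isoPullback
    have : CompactSpace ↥(pullback ((Over.forget S).map (hr.fst' t))
        ((Over.forget S).map (hr.fst' t'))) :=
      inferInstanceAs (CompactSpace ↥(pullback (hr.fst' t).left (hr.fst' t').left))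
    exact (Scheme.homeoOfIso e).symm.compactSpace
  have s1 := sqQ.paste_vert sqA'
  rw [sqA.w] at s1
  have hcond : ((yon S).map (pullback.fst (hr.fst' t) (hr.fst' t')) ≫ (yon S).map (hr.snd t)) ≫ t =
      ((yon S).map (pullback.snd (hr.fst' t) (hr.fst' t')) ≫ (yon S).map (hr.snd t')) ≫ t' := by
    rw [Category.assoc, Category.assoc, ← sqA.w, ← sqA'.w, ← Category.assoc, ← Category.assoc, sqQ.w]
  have hm1 := sq.lift_fst _ _ hcond
  have hm2 := sq.lift_snd _ _ hcond
  rw [← hm2] at s1
  have s2 := IsPullback.of_bot s1 hm1.symm sq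
  have s3 := s2.paste_horiz sqA
  obtain ⟨m₀, hm₀⟩ := (yon S).map_surjective (sq.lift _ _ hcond)
  rw [← hm₀] at s3
  have hsurj : Surjective m₀.left := hps.property _ _ m₀ s3
  refine ⟨?_⟩
  rw [← Set.range_eq_univ.2 hsurj.surj]
  exact isCompact_range m₀.left.continuous

end Groth.Agent.Lib.Helper24.ZarQS
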