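import Groth.Agent.Lib.Helper24.QSNoeth
import Groth.Agent.Lib.Helper24.ZarQS
set_option autoImplicit false
set_option linter.unusedSectionVars false
set_option linter.unusedVariables false
universe u
open CategoryTheory CategoryTheory.Limits AlgebraicGeometry Opposite

namespace Groth.Agent.Lib.Helper24.QSNoeth
open AlgSp Groth.Agent.Lib.Helper14.AS Groth.Agent.Lib.Helper24.Filt1 Groth.Agent.Lib.Helper24.ZarGlue
open Groth.Agent.Lib.Helper24.Filt2

variable {S : Scheme.{u}}

set_option backward.isDefEq.respectTransparency.types false in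
/-- one piece: the preimage in `P'` of the image of an affine étale piece `B` of `T'` factoring
through an affine étale chart of `X` is covered by a compact scheme. -/
theorem exists_compact_cover_piece {X : Sp S} {T : Over S} (t : (yon S).obj T ⟶ X)
    (hT : ∀ (V P : Over S) (b : (yon S).obj V ⟶ X) (fst : P ⟶ T) (snd : P ⟶ V), IsAffine V.left →
      RepWith @Etale b → IsPullback ((yon S).map fst) ((yon S).map snd) t b → CompactSpace ↥P.left)
    {T' P' : Over S} (t' : (yon S).obj T' ⟶ X) (fst : P' ⟶ T) (snd : P' ⟶ T')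
    (sq : IsPullback ((yon S).map fst) ((yon S).map snd) t t')
    {V B : Over S} [IsAffine V.left] [IsAffine B.left] (b : (yon S).obj V ⟶ X) (hbe : RepWith @Etale b)
    (cB : B ⟶ V) (eB : B ⟶ T') (hcomm : (yon S).map cB ≫ b = (yon S).map eB ≫ t') :
    ∃ (Z : Over S) (m : Z ⟶ P'), CompactSpace ↥Z.left ∧
      ∀ z : P'.left, snd.left z ∈ Set.range eB.left → z ∈ Set.range m.left := by
  have hr := hbe.rep
  have sqP := (hr.isPullback' t).flip
  have hPc : CompactSpace ↥(hr.pullback t).left := hT V _ b (hr.snd t) (hr.fst' t) inferInstance hbe sqP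
  have sqZ := IsPullback.of_hasPullback (hr.fst' t) cB
  have hZc : CompactSpace ↥(pullback (hr.fst' t) cB).left := by
    have h := sqZ.map (Over.forget S)
    have e := h.isoPullback
    have : CompactSpace ↥(pullback ((Over.forget S).map (hr.fst' t)) ((Over.forget S).map cB)) :=
      inferInstanceAs (CompactSpace ↥(pullback (hr.fst' t).left cB.left))
    exact (Scheme.homeoOfIso e).symm.compactSpace
  have big := (sqZ.map (yon S)).paste_horiz sqP
  rw [hcomm] at big
  have hcond : ((yon S).map (pullback.fst (hr.fst' t) cB) ≫ (yon S).map (hr.snd t)) ≫ t =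
      ((yon S).map (pullback.snd (hr.fst' t) cB) ≫ (yon S).map eB) ≫ t' := by
    rw [big.w, Category.assoc]
  obtain ⟨m, hm⟩ := (yon S).map_surjective (sq.lift _ _ hcond)
  have hm1 : (yon S).map m ≫ (yon S).map fst =
      (yon S).map (pullback.fst (hr.fst' t) cB) ≫ (yon S).map (hr.snd t) := by
    rw [hm]; exact sq.lift_fst _ _ hcond
  have hm2 : (yon S).map m ≫ (yon S).map snd =
      (yon S).map (pullback.snd (hr.fst' t) cB) ≫ (yon S).map eB := by
    rw [hm]; exact sq.lift_snd _ _ hcond
  rw [← hm1] at big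
  have left := IsPullback.of_right big hm2 sq
  refine ⟨pullback (hr.fst' t) cB, m, hZc, ?_⟩
  rintro z ⟨β, hβ⟩
  have hpt : Points.ofPt ((yon S).map snd) z = Points.ofPt ((yon S).map eB) β := by
    have h1 := ofPt_yon_map_comp snd (𝟙 ((yon S).obj T')) z
    have h2 := ofPt_yon_map_comp eB (𝟙 ((yon S).obj T')) β
    rw [Category.comp_id] at h1 h2
    rw [h1, h2, hβ]
  obtain ⟨w, hw1, -⟩ := exists_point_of_isPullback_yon left z β hpt
  exact ⟨w, hw1⟩

set_option backward.isDefEq.respectTransparency.types false in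
/-- If `T ×_X V` is quasi-compact for all affine étale charts `V`, then `T ×_X T'` is quasi-compact
for every affine scheme `T'` over `X`. -/
theorem compactSpace_pullback_of_charts {X : Sp S} (hX : IsAlgSpace X) {T : Over S}
    (t : (yon S).obj T ⟶ X)
    (hT : ∀ (V P : Over S) (b : (yon S).obj V ⟶ X) (fst : P ⟶ T) (snd : P ⟶ V), IsAffine V.left →
      RepWith @Etale b → IsPullback ((yon S).map fst) ((yon S).map snd) t b → CompactSpace ↥P.left)
    {T' P' : Over S} [CompactSpace ↥T'.left] (t' : (yon S).obj T' ⟶ X) (fst : P' ⟶ T) (snd : P' ⟶ T')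
    (sq : IsPullback ((yon S).map fst) ((yon S).map snd) t t') : CompactSpace ↥P'.left := by
  obtain ⟨A, p, hpe, hps⟩ := hX.atlas
  have hr := hps.rep
  have sqA := hr.isPullback' t'
  have hee : Etale (hr.snd t').left := hpe.property t' _ _ sqA
  have hes : Surjective (hr.snd t').left := hps.property t' _ _ sqA
  -- local data at each point of `T'`
  have hloc : ∀ τ : T'.left, ∃ (VO : A.left.Opens) (BO : (hr.pullback t').left.Opens),
      IsAffineOpen VO ∧ IsAffineOpen BO ∧ τ ∈ (hr.snd t').left '' (BO : Set (hr.pullback t').left) ∧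
        ∀ x ∈ BO, (hr.fst' t').left x ∈ VO := by
    intro τ
    obtain ⟨α, rfl⟩ := hes.surj τ
    obtain ⟨VO, hVO, hαV, -⟩ :=
      exists_isAffineOpen_mem_and_subset (x := (hr.fst' t').left α) (U := ⊤) trivial
    obtain ⟨BO, hBO, hαB, hBsub⟩ :=
      exists_isAffineOpen_mem_and_subset (x := α) (U := (hr.fst' t').left ⁻¹ᵁ VO) hαV
    exact ⟨VO, BO, hVO, hBO, ⟨α, hαB, rfl⟩, fun x hx => hBsub hx⟩
  choose VO BO hVO hBO hτ hsub using hloc
  have hopen : ∀ τ, IsOpen ((hr.snd t').left '' (BO τ : Set (hr.pullback t').left)) := fun τ =>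
    (hr.snd t').left.isOpenMap _ (BO τ).2
  obtain ⟨s, hs⟩ := isCompact_univ.elim_finite_subcover _ hopen
    (fun τ _ => Set.mem_iUnion.2 ⟨τ, hτ τ⟩)
  -- the pieces
  have hpiece : ∀ τ : T'.left, ∃ (Z : Over S) (m : Z ⟶ P'), CompactSpace ↥Z.left ∧
      ∀ z : P'.left, snd.left z ∈ (hr.snd t').left '' (BO τ : Set (hr.pullback t').left) →
        z ∈ Set.range m.left := by
    intro τ
    have hVaff : IsAffine (resOpen A (VO τ)).left := hVO τ
    have hBaff : IsAffine (resOpen (hr.pullback t') (BO τ)).left := hBO τ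
    obtain ⟨cB, hcB⟩ := exists_lift_resOpen (resOpenι (hr.pullback t') (BO τ) ≫ hr.fst' t') (VO τ)
      (fun x => hsub τ _ x.2)
    have hbe : RepWith @Etale ((yon S).map (resOpenι A (VO τ)) ≫ p) :=
      repWith_comp _ ((repWith_yon_map_iff _ _).2
        (inferInstanceAs (Etale (VO τ).ι))) hpe
    have hcomm : (yon S).map cB ≫ (yon S).map (resOpenι A (VO τ)) ≫ p =
        (yon S).map (resOpenι (hr.pullback t') (BO τ) ≫ hr.snd t') ≫ t' := by
      rw [← Category.assoc, ← Functor.map_comp, hcB, Functor.map_comp, Functor.map_comp,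
        Category.assoc, Category.assoc, sqA.w]
    obtain ⟨Z, m, hZ, hm⟩ := exists_compact_cover_piece t hT t' fst snd sq
      ((yon S).map (resOpenι A (VO τ)) ≫ p) hbe cB
      (resOpenι (hr.pullback t') (BO τ) ≫ hr.snd t') hcomm
    refine ⟨Z, m, hZ, fun z hz => hm z ?_⟩
    obtain ⟨x, hx, hxz⟩ := hz
    exact ⟨⟨x, hx⟩, hxz⟩
  choose Z m hZ hm using hpiece
  refine ⟨?_⟩
  have : (Set.univ : Set P'.left) = ⋃ τ ∈ s, Set.range (m τ).left := by
    apply Set.Subset.antisymm
    · intro z _
      have hz := hs (Set.mem_univ (snd.left z))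
      simp only [Set.mem_iUnion] at hz ⊢
      obtain ⟨τ, hτs, hzτ⟩ := hz
      exact ⟨τ, hτs, hm τ z hzτ⟩
    · exact Set.subset_univ _
  rw [this]
  exact s.finite_toSet.isCompact_biUnion fun τ _ => isCompact_range (m τ).left.continuous

end Groth.Agent.Lib.Helper24.QSNoeth
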