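import Groth.Agent.S2080
import Groth.Agent.Lib.Helper21.CoheightOne
import Groth.Agent.Lib.Helper14.QfAt2
set_option autoImplicit false
universe u
open CategoryTheory CategoryTheory.Limits AlgebraicGeometry Opposite TopologicalSpace

/-! Scheme-level: a morphism of finite type which is quasi-finite at every point over a point of
codimension zero is finite over an affine open neighbourhood of that point. -/

namespace Groth.Agent.Lib.Helper24.QfFin1

/-- a point whose local ring has dimension zero is the generic point of an irreducible component -/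
theorem closure_mem_irreducibleComponents_of_stalkDim_zero {V : Scheme.{u}} {v : ↥V}
    (hv : ringKrullDim (V.presheaf.stalk v) = 0) :
    closure {v} ∈ irreducibleComponents (V : Type u) := by
  letI := specializationPreorder V
  apply Groth.Agent.Lib.Helper21.closure_singleton_mem_irreducibleComponents_of_isMax
  intro b hb
  change b ⤳ v at hb
  change v ⤳ b
  rw [Groth.Agent.Lib.Helper14.AS.eq_of_specializes_of_stalkDim_zero hv hb]

/-- the fibre of a quasi-compact morphism over `v` is finite as soon as the morphism is locally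
quasi-finite near every point of the fibre -/
theorem finite_fibre_of_qfAt {U V : Scheme.{u}} (g : U ⟶ V) [QuasiCompact g] (v : ↥V)
    (hq : ∀ u : ↥U, g u = v → ∃ W : U.Opens, u ∈ W ∧ LocallyQuasiFinite (W.ι ≫ g)) :
    (g ⁻¹' {v}).Finite := by
  refine (g.isCompact_preimage_singleton v).finite ?_
  rw [isDiscrete_iff_forall_mem_exists_isOpen]
  intro u hu
  obtain ⟨W, huW, hW⟩ := hq u hu
  have hd : _root_.IsDiscrete ((W.ι ≫ g) ⁻¹' {v}) := (W.ι ≫ g).isDiscrete_preimage_singleton v
  rw [isDiscrete_iff_forall_mem_exists_isOpen] at hd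
  obtain ⟨uW, huW'⟩ : ∃ uW : W.toScheme, W.ι uW = u := ⟨⟨u, huW⟩, rfl⟩
  have hcomp : ∀ w : W.toScheme, (W.ι ≫ g) w = g (W.ι w) := fun w => rfl
  have hu' : uW ∈ (W.ι ≫ g) ⁻¹' {v} := by
    change (W.ι ≫ g) uW = v
    rw [hcomp, huW']
    exact hu
  obtain ⟨A, hA, hAeq⟩ := hd uW hu'
  refine ⟨W.ι '' A, W.ι.isOpenEmbedding.isOpenMap _ hA, ?_⟩
  ext z
  constructor
  · rintro ⟨⟨w, hwA, rfl⟩, hz⟩
    have hw : w ∈ A ∩ (W.ι ≫ g) ⁻¹' {v} := by
      refine ⟨hwA, ?_⟩
      change (W.ι ≫ g) w = v
      rw [hcomp]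
      exact hz
    rw [hAeq] at hw
    have hw' : w = uW := hw
    rw [hw', huW']
    rfl
  · intro hz
    have hz' : z = u := hz
    subst hz'
    have hmem : uW ∈ A ∩ (W.ι ≫ g) ⁻¹' {v} := by
      rw [hAeq]; rfl
    exact ⟨⟨uW, hmem.1, huW'⟩, hu⟩

/-- **finite over an affine open neighbourhood of a point of codimension zero** -/
theorem exists_affineOpen_finite {U V : Scheme.{u}} (g : U ⟶ V) [LocallyOfFiniteType g]
    [QuasiCompact g] [QuasiSeparated g] (v : ↥V) (hv : ringKrullDim (V.presheaf.stalk v) = 0)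
    (hq : ∀ u : ↥U, g u = v → ∃ W : U.Opens, u ∈ W ∧ LocallyQuasiFinite (W.ι ≫ g)) :
    ∃ O : V.Opens, IsAffineOpen O ∧ v ∈ O ∧ IsFinite (g ∣_ O) :=
  (Groth.Agent.S2080.result g v (closure_mem_irreducibleComponents_of_stalkDim_zero hv)).1
    (finite_fibre_of_qfAt g v hq)

end Groth.Agent.Lib.Helper24.QfFin1
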