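import Groth.Agent.Lib.Helper14.AlgSpDecent2
import Groth.Agent.Lib.Helper14.HasAtMorChart
set_option autoImplicit false
universe u
open CategoryTheory CategoryTheory.Limits AlgebraicGeometry Opposite

/-! The relation `R = U ×_X U` of an étale chart `U ⟶ X` of a sheaf over a scheme `V`, as a scheme
over `U ×_V U`. -/

namespace Groth.Agent.Lib.Helper24.QfFin2
open AlgSp Groth.Agent.Lib.Helper14.AS

variable {S : Scheme.{u}} {X : Sp S} {U V : Over S} (f : X ⟶ (yon S).obj V)
  (a : (yon S).obj U ⟶ X) (g : U ⟶ V) (hae : RepWith @Etale a)
  (comm : a ≫ f = (yon S).map g)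

/-- the relation -/
noncomputable def R : Over S := hae.rep.pullback a

noncomputable def s : R a hae ⟶ U := hae.rep.fst' a

noncomputable def t : R a hae ⟶ U := hae.rep.snd a

lemma sqR : IsPullback ((yon S).map (s a hae)) ((yon S).map (t a hae)) a a :=
  hae.rep.isPullback' a

include comm in
lemma s_g : s a hae ≫ g = t a hae ≫ g := by
  apply (yon S).map_injective
  rw [Functor.map_comp, Functor.map_comp, ← comm, ← Category.assoc, ← Category.assoc,
    (sqR a hae).w]

/-- the comparison with the fibre product over `V` -/
noncomputable def j : R a hae ⟶ pullback g g :=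
  pullback.lift (s a hae) (t a hae) (s_g f a g hae comm)

lemma j_fst : j f a g hae comm ≫ pullback.fst g g = s a hae := pullback.lift_fst _ _ _

lemma j_snd : j f a g hae comm ≫ pullback.snd g g = t a hae := pullback.lift_snd _ _ _

lemma etale_s : Etale (s a hae).left := by
  have h : RepWith @Etale ((yon S).map (s a hae)) :=
    repWith_of_isPullback _ (sqR a hae).flip hae
  exact (repWith_yon_map_iff _ _).1 h

lemma etale_t : Etale (t a hae).left := hae.property_snd a

/-- the map into the fibre square of `f` -/
noncomputable def k : (yon S).obj (pullback g g) ⟶ pullback f f :=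
  pullback.lift ((yon S).map (pullback.fst g g) ≫ a) ((yon S).map (pullback.snd g g) ≫ a) (by
    rw [Category.assoc, Category.assoc, comm, ← Functor.map_comp, ← Functor.map_comp,
      pullback.condition])

/-- the magic square -/
lemma magic : IsPullback ((yon S).map (s a hae) ≫ a) ((yon S).map (j f a g hae comm))
    (pullback.diagonal f) (k f a g comm) := by
  have sqQ : IsPullback ((yon S).map (pullback.fst g g)) ((yon S).map (pullback.snd g g))
      (a ≫ f) (a ≫ f) := by
    rw [comm]
    exact (IsPullback.of_hasPullback g g).map (yon S)
  refine isPullback_diagonal_rel_of_isPullback (sqR a hae) f sqQ _ ?_ ?_ _ ?_ ?_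
  · rw [← Functor.map_comp, j_fst]
  · rw [← Functor.map_comp, j_snd]
  · exact pullback.lift_fst _ _ _
  · exact pullback.lift_snd _ _ _

lemma mono_j : Mono (j f a g hae comm).left := by
  have h1 : Mono ((yon S).map (j f a g hae comm)) := by
    have hm : (MorphismProperty.monomorphisms (Sp S)) (pullback.diagonal f) :=
      MorphismProperty.monomorphisms.infer_property _
    exact MorphismProperty.of_isPullback (P := MorphismProperty.monomorphisms (Sp S))
      (magic f a g hae comm) hm
  have h2 : Mono (j f a g hae comm) := (yon S).mono_of_mono_map h1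
  infer_instance

lemma quasiCompact_j (hqs : IsQuasiSeparatedMor f) : QuasiCompact (j f a g hae comm).left := by
  have h : RepWith @QuasiCompact ((yon S).map (j f a g hae comm)) :=
    repWith_of_isPullback _ (magic f a g hae comm) hqs
  exact (repWith_yon_map_iff _ _).1 h

end Groth.Agent.Lib.Helper24.QfFin2
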