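import Groth.Agent.Lib.Helper24.QfFin2
import Groth.Agent.Lib.Helper24.ThickFinite
import Groth.Agent.Lib.Helper14.AlgSpSepDescent
import Groth.Agent.Lib.Helper14.RelDim0
import Groth.Agent.Lib.Helper14.LqfDim0
import Groth.Agent.S10268
set_option autoImplicit false
universe u
open CategoryTheory CategoryTheory.Limits AlgebraicGeometry Opposite

/-! A sheaf over a scheme `V` with a finite étale chart whose relation is finite over `V` is finite
over `V`. -/

namespace Groth.Agent.Lib.Helper24.QfFin3
open AlgSp Groth.Agent.Lib.Helper14.AS Groth.Agent.Lib.Helper24.QfFin2 Groth.Agent.Lib.Helper24.ThickSq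

variable {S : Scheme.{u}}

theorem isFiniteMor_of_finite_chart {X : Sp S} (hX : IsAlgSpace X) {U V : Over S}
    (f : X ⟶ (yon S).obj V) (a : (yon S).obj U ⟶ X) (g : U ⟶ V) (hae : RepWith @Etale a)
    (has : RepWith @Surjective a) (comm : a ≫ f = (yon S).map g)
    (hft : IsFiniteTypeMor f)
    (hg : IsFinite g.left) (hh : IsFinite (s a hae ≫ g).left) :
    IsFiniteMor f := by
  have hU := IsAlgSpace.yon_obj U
  have hV := IsAlgSpace.yon_obj V
  have hR := IsAlgSpace.yon_obj (R a hae)
  let XS : Space S := ⟨X, hX⟩
  let US : Space S := ⟨(yon S).obj U, hU⟩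
  let VS : Space S := ⟨(yon S).obj V, hV⟩
  let RS : Space S := ⟨(yon S).obj (R a hae), hR⟩
  let fS : XS ⟶ VS := ObjectProperty.homMk f
  let aS : US ⟶ XS := ObjectProperty.homMk a
  let sS : RS ⟶ US := ObjectProperty.homMk ((yon S).map (s a hae))
  -- s is finite
  have hs : IsFinite (s a hae).left := by
    have h1 : IsFinite ((s a hae).left ≫ g.left) := hh
    exact IsFinite.of_comp (s a hae).left g.left
  have hsF : IsFiniteMor ((yon S).map (s a hae)) :=
    (integral_finite_iff_repWith sS).2.2 ((repWith_yon_map_iff _ _).2 hs)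
  -- a is finite
  have haF : IsFiniteMor a :=
    (Groth.Agent.S10268.result aS U a hae has _ _ (sqR a hae).flip).2 hsF
  have haR : RepWith @IsFinite a := (integral_finite_iff_repWith aS).2.1 haF
  have hauc : IsUnivClosedMor a :=
    (repWith_universallyClosed_iff_isUnivClosedMor haR.rep).1
      (repWith_mono (fun _ _ k hk => by have : IsFinite k := hk; infer_instance) haR)
  have hasurj : IsSurjectiveMor a := points_map_surjective_of_repWith has
  -- separated
  have hsep : IsSeparatedMor f := by
    refine (separation_of_surjective_univClosed hU hX hV a f hasurj hauc).2 ?_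
    rw [comm, isSeparatedMor_yon_map_iff]
    infer_instance
  -- universally closed
  have huc : IsUnivClosedMor f := by
    refine isUnivClosedMor_of_comp_surjective hasurj ?_
    rw [comm]
    refine (repWith_universallyClosed_iff_isUnivClosedMor (representable_yon_map g)).1 ?_
    refine (repWith_yon_map_iff _ _).2 ?_
    infer_instance
  -- locally quasi-finite
  have hlqf : LocP (@LocallyQuasiFinite ⊓ @LocallyOfFiniteType) f := by
    rw [locP_lqf_iff_relDim_zero hX hV f hft.1]
    intro x
    obtain ⟨u, rfl⟩ := ofPt_surjective_of_repWith has x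
    have hbe : RepWith @Etale (𝟙 ((yon S).obj V)) := by
      rw [← (yon S).map_id]
      exact (repWith_yon_map_iff _ _).2 (inferInstanceAs (Etale (𝟙 V.left)))
    refine ⟨U, V, a, 𝟙 _, g, u, hae, hbe, by rw [comm, Category.comp_id], rfl, ?_⟩
    have : LocallyQuasiFinite g.left := inferInstance
    exact (locallyQuasiFinite_iff_fibreDimAt_eq_zero g.left).1 this u
  exact (isFiniteMor_iff_isProperMor_and_lqf fS).2 ⟨⟨hsep, hft, huc⟩, hlqf⟩

end Groth.Agent.Lib.Helper24.QfFin3
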