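import Groth.Agent.Lib.Helper24.QfFin3
import Groth.Agent.Lib.Helper24.ZarGlue
import Groth.Agent.Lib.Helper14.AlgSpProper
set_option autoImplicit false
universe u
open CategoryTheory CategoryTheory.Limits AlgebraicGeometry Opposite

namespace Groth.Agent.Lib.Helper24.QfFin4

section Cat
variable {C : Type*} [Category C]

/-- base change of a relation `R = A ×_X A` along `B' ⟶ B` -/
theorem exists_isPullback_rel {X B A R B' X' A' R' : C} (f : X ⟶ B) (a : A ⟶ X) (i : B' ⟶ B)
    {s t : R ⟶ A} (sqR : IsPullback s t a a)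
    {x' : X' ⟶ X} {f' : X' ⟶ B'} (sqX : IsPullback x' f' f i)
    {a'' : A' ⟶ A} {g' : A' ⟶ B'} (sqA : IsPullback a'' g' (a ≫ f) i)
    (a' : A' ⟶ X') (h1 : a' ≫ x' = a'' ≫ a) (h2 : a' ≫ f' = g')
    {s' t' : R' ⟶ A'} (sqR' : IsPullback s' t' a' a') :
    ∃ ρ : R' ⟶ R, IsPullback ρ (s' ≫ g') (s ≫ a ≫ f) i := by
  subst h2
  have sq1 : IsPullback a'' a' a x' := IsPullback.of_bot sqA h1.symm sqX
  have sq2 : IsPullback (s' ≫ a'') t' a (a'' ≫ a) := by
    have := sqR'.paste_horiz sq1
    rwa [h1] at this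
  have hw : (s' ≫ a'') ≫ a = (t' ≫ a'') ≫ a := by
    rw [Category.assoc, Category.assoc, ← h1, ← Category.assoc, ← Category.assoc, sqR'.w]
  let ρ : R' ⟶ R := sqR.lift (s' ≫ a'') (t' ≫ a'') hw
  have hρs : ρ ≫ s = s' ≫ a'' := sqR.lift_fst _ _ _
  have hρt : ρ ≫ t = t' ≫ a'' := sqR.lift_snd _ _ _
  have sq3 : IsPullback ρ t' t a'' := by
    rw [← hρs] at sq2
    exact IsPullback.of_right sq2 hρt sqR
  have sq4 := sq3.paste_vert sqA
  refine ⟨ρ, ?_⟩
  have e1 : t' ≫ a' ≫ f' = s' ≫ a' ≫ f' := by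
    rw [← Category.assoc, ← Category.assoc, sqR'.w]
  have e2 : t ≫ a ≫ f = s ≫ a ≫ f := by
    rw [← Category.assoc, ← Category.assoc, sqR.w]
  rw [e1, e2] at sq4
  exact sq4

end Cat

open AlgSp Groth.Agent.Lib.Helper14.AS Groth.Agent.Lib.Helper24.QfFin2
  Groth.Agent.Lib.Helper24.QfFin3 Groth.Agent.Lib.Helper24.ZarGlue

variable {S : Scheme.{u}}

/-- the restriction of a morphism over `S` to an open of the target -/
noncomputable def resHom {U V : Over S} (g : U ⟶ V) (O : V.left.Opens) :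
    resOpen U (g.left ⁻¹ᵁ O) ⟶ resOpen V O :=
  Over.homMk (g.left ∣_ O) (by
    change (g.left ∣_ O) ≫ O.ι ≫ V.hom = (g.left ⁻¹ᵁ O).ι ≫ U.hom
    rw [← Category.assoc, morphismRestrict_ι, Category.assoc, Over.w])

lemma isPullback_resHom {U V : Over S} (g : U ⟶ V) (O : V.left.Opens) :
    IsPullback (resOpenι U (g.left ⁻¹ᵁ O)) (resHom g O) g (resOpenι V O) := by
  apply IsPullback.of_map (Over.forget S)
  · ext1
    exact (morphismRestrict_ι g.left O).symm
  · exact (isPullback_morphismRestrict g.left O).flip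

/-- a morphism is finite when it is a base change along an open immersion of a morphism which is
finite over that open -/
lemma isFinite_of_isPullback_opens {P X Y : Scheme.{u}} (h : X ⟶ Y) (O : Y.Opens)
    [IsFinite (h ∣_ O)] {p : P ⟶ X} {k : P ⟶ O.toScheme} (sq : IsPullback p k h O.ι) :
    IsFinite k := by
  have sq' := (isPullback_morphismRestrict h O).flip
  have e : (sq.isoIsPullback _ _ sq').hom ≫ (h ∣_ O) = k := sq.isoIsPullback_hom_snd _ _ sq'
  rw [← e]
  infer_instance

theorem isFiniteMor_over_opens {X : Sp S} (hX : IsAlgSpace X) {U V : Over S}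
    (f : X ⟶ (yon S).obj V) (a : (yon S).obj U ⟶ X) (g : U ⟶ V) (hae : RepWith @Etale a)
    (has : RepWith @Surjective a) (comm : a ≫ f = (yon S).map g)
    (hft : IsFiniteTypeMor f) (O : V.left.Opens)
    (hg : IsFinite (g.left ∣_ O)) (hh : IsFinite ((s a hae ≫ g).left ∣_ O)) :
    IsFiniteMor (pullback.snd f ((yon S).map (resOpenι V O))) := by
  have hV := IsAlgSpace.yon_obj V
  have hVO := IsAlgSpace.yon_obj (resOpen V O)
  have sqX := IsPullback.of_hasPullback f ((yon S).map (resOpenι V O))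
  have hX' : IsAlgSpace (pullback f ((yon S).map (resOpenι V O))) :=
    isAlgSpace_of_isPullback (repDiag_of_isAlgSpace hV) hX hVO sqX
  have sqA : IsPullback ((yon S).map (resOpenι U (g.left ⁻¹ᵁ O))) ((yon S).map (resHom g O))
      (a ≫ f) ((yon S).map (resOpenι V O)) := by
    rw [comm]
    exact (isPullback_resHom g O).map (yon S)
  let a' : (yon S).obj (resOpen U (g.left ⁻¹ᵁ O)) ⟶ pullback f ((yon S).map (resOpenι V O)) :=
    pullback.lift ((yon S).map (resOpenι U (g.left ⁻¹ᵁ O)) ≫ a) ((yon S).map (resHom g O)) (by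
      rw [Category.assoc]; exact sqA.w)
  have h1 : a' ≫ pullback.fst f ((yon S).map (resOpenι V O)) =
      (yon S).map (resOpenι U (g.left ⁻¹ᵁ O)) ≫ a := pullback.lift_fst _ _ _
  have h2 : a' ≫ pullback.snd f ((yon S).map (resOpenι V O)) = (yon S).map (resHom g O) :=
    pullback.lift_snd _ _ _
  have sq1 : IsPullback ((yon S).map (resOpenι U (g.left ⁻¹ᵁ O))) a' a
      (pullback.fst f ((yon S).map (resOpenι V O))) := by
    refine IsPullback.of_bot ?_ h1.symm sqX
    rw [h2]
    exact sqA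
  have hae' : RepWith @Etale a' := repWith_of_isPullback _ sq1 hae
  have has' : RepWith @Surjective a' := repWith_of_isPullback _ sq1 has
  obtain ⟨ρ, hρ⟩ := exists_isPullback_rel f a ((yon S).map (resOpenι V O)) (sqR a hae) sqX sqA
    a' h1 h2 (sqR a' hae')
  obtain ⟨ρ₀, rfl⟩ := (yon S).map_surjective ρ
  rw [comm, ← Functor.map_comp, ← Functor.map_comp] at hρ
  have sqO := (IsPullback.of_map_of_faithful (yon S) hρ).map (Over.forget S)
  have hft' : IsFiniteTypeMor (pullback.snd f ((yon S).map (resOpenι V O))) :=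
    ⟨locP_baseChange etLocal_lft hX hV hVO f _ _ _ sqX hft.1,
      isQuasiCompactMor_of_isPullback sqX hft.2⟩
  refine isFiniteMor_of_finite_chart hX' _ a' (resHom g O) hae' has' h2 hft' hg ?_
  exact isFinite_of_isPullback_opens (s a hae ≫ g).left O sqO

end Groth.Agent.Lib.Helper24.QfFin4
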