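import Groth.Agent.Lib.Helper24.QfFin4
import Groth.Agent.Lib.Helper24.QfFin1
import Groth.Agent.Lib.Helper14.QfAt
set_option autoImplicit false
universe u
open CategoryTheory CategoryTheory.Limits AlgebraicGeometry Opposite

namespace Groth.Agent.Lib.Helper24.QfFin5

open AlgSp Groth.Agent.Lib.Helper14.AS Groth.Agent.Lib.Helper24.QfFin2
  Groth.Agent.Lib.Helper24.QfFin3 Groth.Agent.Lib.Helper24.QfFin4 Groth.Agent.Lib.Helper24.ZarGlue
  Groth.Agent.Lib.Helper24.QfFin1

/-- finiteness over an open passes to smaller opens -/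
lemma isFinite_restrict_of_le {X Y : Scheme.{u}} (h : X ⟶ Y) {O O' : Y.Opens} (hle : O' ≤ O)
    [IsFinite (h ∣_ O)] : IsFinite (h ∣_ O') := by
  have hle' : h ⁻¹ᵁ O' ≤ h ⁻¹ᵁ O := fun x hx => hle hx
  have e1 : X.homOfLE hle' ≫ (h ⁻¹ᵁ O).ι = (h ⁻¹ᵁ O').ι := X.homOfLE_ι hle'
  have e2 : Y.homOfLE hle ≫ O.ι = O'.ι := Y.homOfLE_ι hle
  have e3 : X.homOfLE hle' ≫ (h ∣_ O) = (h ∣_ O') ≫ Y.homOfLE hle := by
    rw [← cancel_mono O.ι, Category.assoc, Category.assoc, morphismRestrict_ι, e2,
      morphismRestrict_ι, ← Category.assoc, e1]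
  have sq' := (isPullback_morphismRestrict h O').flip
  rw [← e1, ← e2] at sq'
  have sq := IsPullback.of_right sq' e3 (isPullback_morphismRestrict h O).flip
  exact MorphismProperty.of_isPullback (P := @IsFinite) sq inferInstance

variable {S : Scheme.{u}}

theorem exists_opens_isFiniteMor {X : Sp S} (hX : IsAlgSpace X) {U V : Over S}
    [IsAffine U.left] [IsAffine V.left]
    (f : X ⟶ (yon S).obj V) (a : (yon S).obj U ⟶ X) (g : U ⟶ V) (hae : RepWith @Etale a)
    (has : RepWith @Surjective a) (comm : a ≫ f = (yon S).map g)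
    (hqs : IsQuasiSeparatedMor f) (hft : IsFiniteTypeMor f) (v : ↥V.left)
    (hv : ringKrullDim (V.left.presheaf.stalk v) = 0)
    (hfd : ∀ u : ↥U.left, g.left u = v → FlatMor.fibreDimAt g.left u = 0) :
    ∃ O : V.left.Opens, v ∈ O ∧ IsFiniteMor (pullback.snd f ((yon S).map (resOpenι V O))) := by
  have hbe : RepWith @Etale (𝟙 ((yon S).obj V)) := by
    rw [← (yon S).map_id]
    exact (repWith_yon_map_iff _ _).2 (inferInstanceAs (Etale (𝟙 V.left)))
  have hlft : LocallyOfFiniteType g.left :=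
    hft.1 a (𝟙 _) g hae hbe (by rw [comm, Category.comp_id])
  -- finiteness of `g` near `v`
  obtain ⟨O₁, -, hvO₁, hO₁⟩ := exists_affineOpen_finite g.left v hv (fun u hu => by
    obtain ⟨W, huW, h1, -⟩ := (qfAt_iff_fibreDimAt_eq_zero g.left u).2 (hfd u hu)
    exact ⟨W, huW, h1⟩)
  -- properties of `h = s ≫ g`
  have hse : Etale (s a hae).left := etale_s a hae
  have hlfth : LocallyOfFiniteType (s a hae ≫ g).left := by
    change LocallyOfFiniteType ((s a hae).left ≫ g.left)
    infer_instance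
  have hjm : Mono (j f a g hae comm).left := mono_j f a g hae comm
  have hjqc : QuasiCompact (j f a g hae comm).left := quasiCompact_j f a g hae comm hqs
  have hpb : IsAffineHom (pullback.fst g g).left := by
    have sq := (IsPullback.of_hasPullback g g).map (Over.forget S)
    have hga : IsAffineHom ((Over.forget S).map g) := inferInstanceAs (IsAffineHom g.left)
    exact MorphismProperty.of_isPullback (P := @IsAffineHom) sq.flip hga
  have hdecomp : (s a hae ≫ g).left =
      (j f a g hae comm).left ≫ (pullback.fst g g).left ≫ g.left := by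
    rw [← j_fst f a g hae comm]
    rfl
  have hqch : QuasiCompact (s a hae ≫ g).left := by
    rw [hdecomp]; infer_instance
  have hqsh : QuasiSeparated (s a hae ≫ g).left := by
    rw [hdecomp]; infer_instance
  obtain ⟨O₂, -, hvO₂, hO₂⟩ := exists_affineOpen_finite (s a hae ≫ g).left v hv (fun r hr => by
    have hr' : g.left ((s a hae).left r) = v := hr
    have e := Groth.Agent.Lib.Helper6.EtaleSq.fibreDimAt_etale_square g.left (s a hae ≫ g).left
      (s a hae).left (𝟙 V.left) (by rw [Category.comp_id]; rfl) r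
    obtain ⟨W, hrW, h1, -⟩ := (qfAt_iff_fibreDimAt_eq_zero (s a hae ≫ g).left r).2
      (e.symm.trans (hfd _ hr'))
    exact ⟨W, hrW, h1⟩)
  refine ⟨O₁ ⊓ O₂, ⟨hvO₁, hvO₂⟩, ?_⟩
  have h1 : IsFinite (g.left ∣_ (O₁ ⊓ O₂)) := isFinite_restrict_of_le g.left inf_le_left
  have h2 : IsFinite ((s a hae ≫ g).left ∣_ (O₁ ⊓ O₂)) :=
    isFinite_restrict_of_le (s a hae ≫ g).left inf_le_right
  exact isFiniteMor_over_opens hX f a g hae has comm hft (O₁ ⊓ O₂) h1 h2

end Groth.Agent.Lib.Helper24.QfFin5
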