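import Groth.Agent.Lib.Helper24.RepLocal
import Groth.Agent.Lib.Helper24.QuotAtlas
import Groth.Agent.Lib.Helper24.QuotBridge
set_option autoImplicit false
set_option linter.unusedSectionVars false
universe u
open CategoryTheory CategoryTheory.Limits AlgebraicGeometry Opposite

/-! The map of quotient sheaves induced by restricting an fppf equivalence relation along a flat,
locally finitely presented morphism is representable by open immersions. -/

namespace Groth.Agent.Lib.Helper24.QuotRestrict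
open AlgSp Groth.Agent.Lib.Helper14.AS Groth.Agent.Lib.Helper24.ZarGlue
open Groth.Agent.Lib.Helper24.ZarGlueRep Groth.Agent.Lib.Helper24.DescSL
open Groth.Agent.Lib.Helper24.QuotAtlas Groth.Agent.Lib.Helper24.DescBridge

variable {S : Scheme.{u}}

/-- a point factors through a monomorphism of sheaves if it does so after an fppf cover -/
lemma factors_of_cover {Q' Q : Sp S} (φ : Q' ⟶ Q) [Mono φ] {T W : Over S}
    (g₀ : (yon S).obj T ⟶ Q) (c : W ⟶ T) [Flat c.left] [Surjective c.left]
    [LocallyOfFinitePresentation c.left] (ξW : (yon S).obj W ⟶ Q')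
    (h : ξW ≫ φ = (yon S).map c ≫ g₀) : ∃ ξ : (yon S).obj T ⟶ Q', ξ ≫ φ = g₀ := by
  obtain ⟨d, hd, -⟩ := existsUnique_desc_of_cover (F := Q') (W := T) (ι := PUnit.{u + 1})
    (fun _ => W) (fun _ => c)
    (ofArrows_mem_KS _ _ (fun _ => ⟨inferInstance, inferInstance⟩)
      (fun x => ⟨PUnit.unit, (inferInstance : Surjective c.left).surj x⟩))
    (fun _ => ξW) (by
      intro _ _ Z a b hab
      rw [← cancel_mono φ, Category.assoc, Category.assoc, h, ← Functor.map_comp_assoc,
        ← Functor.map_comp_assoc, hab])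
  refine ⟨d, ?_⟩
  have hc : Epi ((yon S).map c) := epi_yon_map_of_fppf c
  rw [← cancel_epi ((yon S).map c), ← Category.assoc, hd PUnit.unit, h]

variable {R U R' U' : Over S} {s t : R ⟶ U} {g : U' ⟶ U} {s' t' : R' ⟶ U'}

section
variable (s t g)
variable [Flat t.left] [LocallyOfFinitePresentation t.left]
  [Flat g.left] [LocallyOfFinitePresentation g.left]

/-- the saturation of the image of `U'` -/
noncomputable def satOpen : U.left.Opens :=
  ⟨t.left '' (s.left ⁻¹' Set.range g.left), by
    have h1 : IsOpenMap g.left := g.left.isOpenMap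
    have h2 : IsOpenMap t.left := t.left.isOpenMap
    exact h2 _ (h1.isOpen_range.preimage s.left.continuous)⟩

end

variable [Flat t.left] [LocallyOfFinitePresentation t.left]
  [Flat g.left] [LocallyOfFinitePresentation g.left]
  {φ : Qs s' t' ⟶ Qs s t} (hφ : ps s' t' ≫ φ = (yon S).map g ≫ ps s t)

include hφ in
/-- points of the saturation lift to the restricted quotient -/
lemma exists_lift_of_range_subset [Mono φ] {W' : Over S} (ω : W' ⟶ U)
    (hω : Set.range ω.left ⊆ (satOpen s t g : Set U.left)) :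
    ∃ ξ : (yon S).obj W' ⟶ Qs s' t', ξ ≫ φ = (yon S).map ω ≫ ps s t := by
  -- the cover `W' ×_U R ×_U U'`
  let P₁ : Scheme.{u} := pullback ω.left t.left
  let P₂ : Scheme.{u} := pullback (pullback.snd ω.left t.left ≫ s.left) g.left
  let c₀ : P₂ ⟶ W'.left := pullback.fst _ _ ≫ pullback.fst ω.left t.left
  let W₂ : Over S := Over.mk (c₀ ≫ W'.hom)
  let c : W₂ ⟶ W' := Over.homMk c₀ rfl
  let ρ : W₂ ⟶ R := Over.homMk (pullback.fst _ _ ≫ pullback.snd ω.left t.left) (by
    change (pullback.fst _ _ ≫ pullback.snd ω.left t.left) ≫ R.hom = c₀ ≫ W'.hom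
    rw [← Over.w t, Category.assoc, ← Category.assoc (pullback.snd ω.left t.left),
      ← pullback.condition, Category.assoc, Over.w ω, Category.assoc])
  let u₂ : W₂ ⟶ U' := Over.homMk (pullback.snd _ _) (by
    change pullback.snd _ _ ≫ U'.hom = c₀ ≫ W'.hom
    rw [← Over.w g, ← Category.assoc, ← pullback.condition, Category.assoc, Category.assoc,
      Over.w s, ← Over.w t, ← Category.assoc (pullback.snd ω.left t.left), ← pullback.condition,
      Category.assoc, Over.w ω, Category.assoc])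
  have hρt : ρ ≫ t = c ≫ ω := by
    ext1
    change (pullback.fst _ _ ≫ pullback.snd ω.left t.left) ≫ t.left = c₀ ≫ ω.left
    rw [Category.assoc, ← pullback.condition, Category.assoc]
  have hρs : ρ ≫ s = u₂ ≫ g := by
    ext1
    change (pullback.fst _ _ ≫ pullback.snd ω.left t.left) ≫ s.left = pullback.snd _ _ ≫ g.left
    rw [Category.assoc, pullback.condition]
  have hcF : Flat c.left := by
    change Flat (pullback.fst _ _ ≫ pullback.fst ω.left t.left)
    infer_instance
  have hcL : LocallyOfFinitePresentation c.left := by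
    change LocallyOfFinitePresentation (pullback.fst _ _ ≫ pullback.fst ω.left t.left)
    infer_instance
  have hcS : Surjective c.left := by
    refine ⟨fun w' => ?_⟩
    obtain ⟨r₀, ⟨u', hu'⟩, hr₀⟩ := hω ⟨w', rfl⟩
    obtain ⟨y₁, hy₁1, hy₁2⟩ := Scheme.Pullback.exists_preimage_pullback (f := ω.left)
      (g := t.left) w' r₀ hr₀.symm
    obtain ⟨y₂, hy₂1, -⟩ := Scheme.Pullback.exists_preimage_pullback
      (f := pullback.snd ω.left t.left ≫ s.left) (g := g.left) y₁ u' (by
        rw [Scheme.Hom.comp_apply, hy₁2, hu'])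
    refine ⟨y₂, ?_⟩
    change (pullback.fst _ _ ≫ pullback.fst ω.left t.left) y₂ = w'
    rw [Scheme.Hom.comp_apply, hy₂1, hy₁1]
  refine factors_of_cover φ _ c ((yon S).map u₂ ≫ ps s' t') ?_
  rw [Category.assoc, hφ, ← Functor.map_comp_assoc, ← hρs, Functor.map_comp_assoc,
    quotSp_condition, ← Functor.map_comp_assoc, hρt, Functor.map_comp_assoc]


include hφ in
/-- points lifting to the restricted quotient lie in the saturation -/
lemma range_subset_of_lift (hpre : IsPreEqvRelSp ((yon S).map s) ((yon S).map t)) {W' : Over S}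
    (ω : W' ⟶ U) (ξ : (yon S).obj W' ⟶ Qs s' t') (hξ : ξ ≫ φ = (yon S).map ω ≫ ps s t) :
    Set.range ω.left ⊆ (satOpen s t g : Set U.left) := by
  rintro _ ⟨w', rfl⟩
  have hp' : Epi (ps s' t') := epi_quotSpπ _ _
  have hls' : Sheaf.IsLocallySurjective (ps s' t') := (Sheaf.isLocallySurjective_iff_epi _).2 hp'
  obtain ⟨Rv, hRv, hl⟩ := exists_cover_lift (ps s' t') ξ
  obtain ⟨W₁, w₁, hw₁, y₁, hy₁⟩ := DescSubsheaf.exists_mem_range_of_mem_KS Rv hRv w'
  obtain ⟨l, hl'⟩ := hl w₁ hw₁
  obtain ⟨u₁, rfl⟩ := (yon S).map_surjective l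
  have hrel : (yon S).map (w₁ ≫ ω) ≫ ps s t = (yon S).map (u₁ ≫ g) ≫ ps s t := by
    rw [Functor.map_comp, Category.assoc, ← hξ, ← Category.assoc, ← hl', Category.assoc, hφ,
      Functor.map_comp, Category.assoc]
  obtain ⟨Sv, hSv, hlw⟩ := exists_cover_rel _ _ hpre _ _ hrel
  obtain ⟨Rv₂, hRv₂, hle⟩ := (mem_J_iff _).1 hSv
  obtain ⟨W₂, w₂, hw₂, y₂, hy₂⟩ := DescSubsheaf.exists_mem_range_of_mem_KS Rv₂ hRv₂ y₁
  obtain ⟨r, h1, h2⟩ := hlw w₂ (hle _ _ hw₂)
  obtain ⟨ρ, rfl⟩ := (yon S).map_surjective r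
  have e1 : ρ ≫ t = w₂ ≫ w₁ ≫ ω := by
    apply (yon S).map_injective
    rw [Functor.map_comp, h1, ← Functor.map_comp]
  have e2 : ρ ≫ s = w₂ ≫ u₁ ≫ g := by
    apply (yon S).map_injective
    rw [Functor.map_comp, h2, ← Functor.map_comp]
  refine ⟨ρ.left y₂, ⟨(w₂ ≫ u₁).left y₂, ?_⟩, ?_⟩
  · have := congrArg (fun f => f.left y₂) e2
    simp only [Over.comp_left, Scheme.Hom.comp_apply] at this ⊢
    exact this.symm
  · have := congrArg (fun f => f.left y₂) e1
    simp only [Over.comp_left, Scheme.Hom.comp_apply] at this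
    rw [this, hy₂, hy₁]

include hφ in
/-- the base change of the restricted quotient to `U` is the saturation of the image of `U'` -/
theorem exists_isPullback_satOpen [Mono φ]
    (hpre : IsPreEqvRelSp ((yon S).map s) ((yon S).map t)) :
    ∃ k : (yon S).obj (resOpen U (satOpen s t g)) ⟶ Qs s' t',
      IsPullback k ((yon S).map (resOpenι U (satOpen s t g))) φ (ps s t) := by
  obtain ⟨k, hk⟩ := exists_lift_of_range_subset hφ (resOpenι U (satOpen s t g)) (by
    rintro _ ⟨y, rfl⟩
    exact y.2)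
  refine ⟨k, isPullback_iff_yon.2 ⟨hk, fun W' x y hxy => ?_⟩⟩
  obtain ⟨ω, rfl⟩ := (yon S).map_surjective y
  have hr := range_subset_of_lift hφ hpre ω x hxy
  have hr' : Set.range ω.left ⊆ Set.range (satOpen s t g).ι := by
    rw [Scheme.Opens.range_ι]
    exact hr
  let ω' : W' ⟶ resOpen U (satOpen s t g) :=
    Over.homMk (IsOpenImmersion.lift (satOpen s t g).ι ω.left hr') (by
      change IsOpenImmersion.lift (satOpen s t g).ι ω.left hr' ≫ (satOpen s t g).ι ≫ U.hom = W'.hom
      rw [← Category.assoc, IsOpenImmersion.lift_fac, Over.w])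
  have hω' : ω' ≫ resOpenι U (satOpen s t g) = ω := by
    ext1
    exact IsOpenImmersion.lift_fac _ _ _
  refine ⟨(yon S).map ω', ⟨?_, ?_⟩, ?_⟩
  · rw [← cancel_mono φ, Category.assoc, hk, ← Functor.map_comp_assoc, hω', hxy]
  · rw [← Functor.map_comp, hω']
  · rintro z ⟨-, hz⟩
    have : Mono (resOpenι U (satOpen s t g)) := by
      have : Mono ((Over.forget S).map (resOpenι U (satOpen s t g))) :=
        inferInstanceAs (Mono (satOpen s t g).ι)
      exact (Over.forget S).mono_of_mono_map this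
    have : Mono ((yon S).map (resOpenι U (satOpen s t g))) := inferInstance
    rw [← cancel_mono ((yon S).map (resOpenι U (satOpen s t g))), hz, ← Functor.map_comp, hω']


include hφ in
set_option backward.isDefEq.respectTransparency.types false in
/-- **The restricted quotient is an open subsheaf of the quotient.** -/
theorem repWith_isOpenImmersion_quot_map [Mono φ]
    (hpre : IsPreEqvRelSp ((yon S).map s) ((yon S).map t)) : RepWith @IsOpenImmersion φ := by
  obtain ⟨k, sqk⟩ := exists_isPullback_satOpen hφ hpre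
  have hp : Epi (ps s t) := epi_quotSpπ _ _
  have hls : Sheaf.IsLocallySurjective (ps s t) := (Sheaf.isLocallySurjective_iff_epi _).2 hp
  refine RepLocal.repWith_of_locally @IsOpenImmersion
    (fun X Y f hf => ⟨inferInstance, inferInstance, inferInstance⟩) φ ?_
  intro T g₀ x
  obtain ⟨Rv, hRv, hl⟩ := exists_cover_lift (ps s t) g₀
  obtain ⟨W, w, hw, hxw⟩ := DescSubsheaf.exists_mem_range_of_mem_KS Rv hRv x
  obtain ⟨hwF, hwL⟩ := prop_of_mem_KS Rv hRv w hw
  obtain ⟨l, hl'⟩ := hl w hw
  obtain ⟨u, rfl⟩ := (yon S).map_surjective l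
  have sq := ((isPullback_resMap u (satOpen s t g)).flip.map (yon S)).paste_horiz sqk
  rw [hl'] at sq
  exact ⟨W, _, w, resOpenι W (u.left ⁻¹ᵁ satOpen s t g), _, sq, hwF, hwL, hxw,
    inferInstanceAs (IsOpenImmersion (u.left ⁻¹ᵁ satOpen s t g).ι)⟩

end Groth.Agent.Lib.Helper24.QuotRestrict
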