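import Groth.Agent.Lib.Helper24.QuotRestrict
import Groth.Prelude.Def_Grpd
set_option autoImplicit false
set_option linter.unusedSectionVars false
universe u
open CategoryTheory CategoryTheory.Limits AlgebraicGeometry Opposite

/-! Generic criterion: a monomorphism of quotient sheaves whose base change to the atlas is an
open subscheme is representable by open immersions; application to groupoid schemes. -/

namespace Groth.Agent.Lib.Helper24.QuotRestrict2
open AlgSp Groth.Agent.Lib.Helper14.AS Groth.Agent.Lib.Helper24.ZarGlue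
open Groth.Agent.Lib.Helper24.ZarGlueRep Groth.Agent.Lib.Helper24.DescSL
open Groth.Agent.Lib.Helper24.QuotAtlas Groth.Agent.Lib.Helper24.DescBridge
open Groth.Agent.Lib.Helper24.QuotRestrict

variable {S : Scheme.{u}}

/-- a point factors through a monomorphism of sheaves if it does so on a covering family -/
lemma factors_of_presieve {Q' Q : Sp S} (φ : Q' ⟶ Q) [Mono φ] {T : Over S}
    (g₀ : (yon S).obj T ⟶ Q) (Rv : Presieve T) (hRv : Rv ∈ KS S T)
    (h : ∀ ⦃W : Over S⦄ (w : W ⟶ T), Rv w →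
      ∃ ξW : (yon S).obj W ⟶ Q', ξW ≫ φ = (yon S).map w ≫ g₀) :
    ∃ ξ : (yon S).obj T ⟶ Q', ξ ≫ φ = g₀ := by
  choose W w hw hxw using fun x : T.left => DescSubsheaf.exists_mem_range_of_mem_KS Rv hRv x
  choose ξW hξW using fun x : T.left => h (w x) (hw x)
  have hcov : Presieve.ofArrows W w ∈ KS S T :=
    ofArrows_mem_KS W w (fun x => prop_of_mem_KS Rv hRv (w x) (hw x)) (fun x => ⟨x, hxw x⟩)
  obtain ⟨d, hd, -⟩ := existsUnique_desc_of_cover (F := Q') W w hcov ξW (by
    intro i j Z a b hab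
    rw [← cancel_mono φ, Category.assoc, Category.assoc, hξW, hξW, ← Functor.map_comp_assoc,
      ← Functor.map_comp_assoc, hab])
  refine ⟨d, ?_⟩
  have hJ : Sieve.generate (Presieve.ofArrows W w) ∈ AlgSp.J S T :=
    (mem_J_iff _).2 ⟨_, hcov, Sieve.le_generate _⟩
  refine yon_hom_ext_of_cover _ _ _ hJ ?_
  rintro Z f ⟨Y, a, b, ⟨x⟩, rfl⟩
  rw [Functor.map_comp, Category.assoc, Category.assoc, ← Category.assoc _ d, hd x, hξW]

variable {R U R' U' : Over S} {s t : R ⟶ U} {g : U' ⟶ U} {s' t' : R' ⟶ U'}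
  {φ : Qs s' t' ⟶ Qs s t}

/-- the base change of a subquotient to the atlas is the open `O` -/
theorem exists_isPullback_of_open [Mono φ] (O : U.left.Opens)
    (hA : ∀ ⦃W' : Over S⦄ (ω : W' ⟶ U), Set.range ω.left ⊆ (O : Set U.left) →
      ∃ ξ : (yon S).obj W' ⟶ Qs s' t', ξ ≫ φ = (yon S).map ω ≫ ps s t)
    (hB : ∀ ⦃W' : Over S⦄ (ω : W' ⟶ U) (ξ : (yon S).obj W' ⟶ Qs s' t'),
      ξ ≫ φ = (yon S).map ω ≫ ps s t → Set.range ω.left ⊆ (O : Set U.left)) :
    ∃ k : (yon S).obj (resOpen U O) ⟶ Qs s' t',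
      IsPullback k ((yon S).map (resOpenι U O)) φ (ps s t) := by
  obtain ⟨k, hk⟩ := hA (resOpenι U O) (by
    rintro _ ⟨y, rfl⟩
    exact y.2)
  refine ⟨k, isPullback_iff_yon.2 ⟨hk, fun W' x y hxy => ?_⟩⟩
  obtain ⟨ω, rfl⟩ := (yon S).map_surjective y
  have hr := hB ω x hxy
  have hr' : Set.range ω.left ⊆ Set.range O.ι := by
    rw [Scheme.Opens.range_ι]
    exact hr
  let ω' : W' ⟶ resOpen U O :=
    Over.homMk (IsOpenImmersion.lift O.ι ω.left hr') (by
      change IsOpenImmersion.lift O.ι ω.left hr' ≫ O.ι ≫ U.hom = W'.hom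
      rw [← Category.assoc, IsOpenImmersion.lift_fac, Over.w])
  have hω' : ω' ≫ resOpenι U O = ω := by
    ext1
    exact IsOpenImmersion.lift_fac _ _ _
  refine ⟨(yon S).map ω', ⟨?_, ?_⟩, ?_⟩
  · rw [← cancel_mono φ, Category.assoc, hk, ← Functor.map_comp_assoc, hω', hxy]
  · rw [← Functor.map_comp, hω']
  · rintro z ⟨-, hz⟩
    have : Mono (resOpenι U O) := by
      have : Mono ((Over.forget S).map (resOpenι U O)) := inferInstanceAs (Mono O.ι)
      exact (Over.forget S).mono_of_mono_map this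
    have : Mono ((yon S).map (resOpenι U O)) := inferInstance
    rw [← cancel_mono ((yon S).map (resOpenι U O)), hz, ← Functor.map_comp, hω']

set_option backward.isDefEq.respectTransparency.types false in
theorem repWith_isOpenImmersion_of_open [Mono φ] (O : U.left.Opens)
    (hA : ∀ ⦃W' : Over S⦄ (ω : W' ⟶ U), Set.range ω.left ⊆ (O : Set U.left) →
      ∃ ξ : (yon S).obj W' ⟶ Qs s' t', ξ ≫ φ = (yon S).map ω ≫ ps s t)
    (hB : ∀ ⦃W' : Over S⦄ (ω : W' ⟶ U) (ξ : (yon S).obj W' ⟶ Qs s' t'),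
      ξ ≫ φ = (yon S).map ω ≫ ps s t → Set.range ω.left ⊆ (O : Set U.left)) :
    RepWith @IsOpenImmersion φ := by
  obtain ⟨k, sqk⟩ := exists_isPullback_of_open O hA hB
  have hp : Epi (ps s t) := epi_quotSpπ _ _
  have hls : Sheaf.IsLocallySurjective (ps s t) := (Sheaf.isLocallySurjective_iff_epi _).2 hp
  refine RepLocal.repWith_of_locally @IsOpenImmersion
    (fun X Y f hf => ⟨inferInstance, inferInstance, inferInstance⟩) φ ?_
  intro T g₀ x
  obtain ⟨Rv, hRv, hl⟩ := exists_cover_lift (ps s t) g₀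
  obtain ⟨W, w, hw, hxw⟩ := DescSubsheaf.exists_mem_range_of_mem_KS Rv hRv x
  obtain ⟨hwF, hwL⟩ := prop_of_mem_KS Rv hRv w hw
  obtain ⟨l, hl'⟩ := hl w hw
  obtain ⟨u, rfl⟩ := (yon S).map_surjective l
  have sq := ((isPullback_resMap u O).flip.map (yon S)).paste_horiz sqk
  rw [hl'] at sq
  exact ⟨W, _, w, resOpenι W (u.left ⁻¹ᵁ O), _, sq, hwF, hwL, hxw,
    inferInstanceAs (IsOpenImmersion (u.left ⁻¹ᵁ O).ι)⟩


lemma isPreEqvRelSp_of_equivalence
    (he : ∀ T : Over S, _root_.Equivalence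
      (fun a b : T ⟶ U => ∃ r : T ⟶ R, r ≫ t = a ∧ r ≫ s = b)) :
    IsPreEqvRelSp ((yon S).map s) ((yon S).map t) := by
  intro T
  have key : ∀ a b : (yon S).obj T ⟶ (yon S).obj U,
      (∃ r : (yon S).obj T ⟶ (yon S).obj R, r ≫ (yon S).map t = a ∧ r ≫ (yon S).map s = b) ↔
        ∃ r₀ : T ⟶ R, r₀ ≫ t = (yon S).preimage a ∧ r₀ ≫ s = (yon S).preimage b := by
    intro a b
    constructor
    · rintro ⟨r, rfl, rfl⟩
      refine ⟨(yon S).preimage r, (yon S).map_injective ?_, (yon S).map_injective ?_⟩ <;> simp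
    · rintro ⟨r₀, h1, h2⟩
      refine ⟨(yon S).map r₀, ?_, ?_⟩
      · rw [← Functor.map_comp, h1, Functor.map_preimage]
      · rw [← Functor.map_comp, h2, Functor.map_preimage]
  have he := he T
  refine ⟨fun a => (key a a).2 (he.refl _), fun {a b} hab => (key b a).2 (he.symm ((key a b).1 hab)),
    fun {a b c} hab hbc => (key a c).2 (he.trans ((key a b).1 hab) ((key b c).1 hbc))⟩

section Gpd
variable (G : Grpd.GroupoidScheme S)

/-- objects of a groupoid scheme, over `S` -/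
abbrev Uo : Over S := Over.mk G.pU
/-- arrows of a groupoid scheme, over `S` -/
abbrev Ro : Over S := Over.mk G.pR
/-- source -/
abbrev sG : Ro G ⟶ Uo G := Over.homMk G.s G.s_over
/-- target -/
abbrev tG : Ro G ⟶ Uo G := Over.homMk G.t G.t_over

lemma gpd_equivalence (T : Over S) : _root_.Equivalence
    (fun a b : T ⟶ Uo G => ∃ r : T ⟶ Ro G, r ≫ tG G = a ∧ r ≫ sG G = b) := by
  refine ⟨fun a => ?_, ?_, ?_⟩
  · refine ⟨Over.homMk (a.left ≫ G.e) ?_, ?_, ?_⟩
    · change (a.left ≫ G.e) ≫ G.pR = T.hom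
      rw [← G.s_over, Category.assoc, ← Category.assoc G.e, G.e_s, Category.id_comp]
      exact Over.w a
    · ext1
      change (a.left ≫ G.e) ≫ G.t = a.left
      rw [Category.assoc, G.e_t]
      exact Category.comp_id _
    · ext1
      change (a.left ≫ G.e) ≫ G.s = a.left
      rw [Category.assoc, G.e_s]
      exact Category.comp_id _
  · rintro a b ⟨r, rfl, rfl⟩
    refine ⟨Over.homMk (r.left ≫ G.i) ?_, ?_, ?_⟩
    · change (r.left ≫ G.i) ≫ G.pR = T.hom
      rw [← G.s_over, Category.assoc, ← Category.assoc G.i, G.i_s, G.t_over]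
      exact Over.w r
    · ext1
      change (r.left ≫ G.i) ≫ G.t = r.left ≫ G.s
      rw [Category.assoc, G.i_t]
    · ext1
      change (r.left ≫ G.i) ≫ G.s = r.left ≫ G.t
      rw [Category.assoc, G.i_s]
  · rintro a b c ⟨r₁, rfl, rfl⟩ ⟨r₂, h1, rfl⟩
    have h : r₁.left ≫ G.s = r₂.left ≫ G.t := (congrArg (fun f => f.left) h1).symm
    refine ⟨Over.homMk (pullback.lift r₁.left r₂.left h ≫ G.c) ?_, ?_, ?_⟩
    · change (pullback.lift r₁.left r₂.left h ≫ G.c) ≫ G.pR = T.hom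
      rw [← G.s_over, ← Category.assoc, G.comp_s, Category.assoc, G.s_over]
      exact Over.w r₂
    · ext1
      exact G.comp_t _ _ h
    · ext1
      exact G.comp_s _ _ h

lemma gpd_isPreEqvRelSp : IsPreEqvRelSp ((yon S).map (sG G)) ((yon S).map (tG G)) :=
  isPreEqvRelSp_of_equivalence (gpd_equivalence G)

end Gpd

end Groth.Agent.Lib.Helper24.QuotRestrict2
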