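import Groth.Agent.Lib.Helper24.QuotSt10
import Groth.Prelude.Def_DescFam
set_option autoImplicit false
set_option linter.unusedSimpArgs false
universe u
set_option backward.isDefEq.respectTransparency false
set_option backward.isDefEq.respectTransparency.types false

/-! Cartesian systems without a vertex, and their scheme-level descent data. -/

namespace Groth.Agent.Lib.Helper24.QuotSt11
open CategoryTheory CategoryTheory.Limits MonoidalCategory CartesianMonoidalCategory Opposite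
open AlgebraicGeometry MonObj GrpObj Groth.Agent.Lib.Helper24.QuotSt9
open Groth.Agent.Lib.Helper24.StkCone Groth.Agent.Lib.Helper24.StkRefine

variable {S : Scheme.{u}} {U : Over S}

/-- a system of objects over the arrows of a sieve with cartesian transition maps -/
structure PreSys (R : Sieve U) where
  Q : (Stk.sieveCat R).obj → Over S
  p : ∀ a : (Stk.sieveCat R).obj, Q a ⟶ a.obj.left
  t : ∀ {a b : (Stk.sieveCat R).obj} (_ : a ⟶ b), Q a ⟶ Q b
  cart : ∀ {a b : (Stk.sieveCat R).obj} (m : a ⟶ b), IsPullback (t m) (p a) (p b) m.hom.left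
  t_id : ∀ a : (Stk.sieveCat R).obj, t (𝟙 a) = 𝟙 (Q a)
  t_comp : ∀ {a b c : (Stk.sieveCat R).obj} (m : a ⟶ b) (n : b ⟶ c), t (m ≫ n) = t m ≫ t n

/-- a vertex of a system: an object over `U` from which the system is pulled back -/
structure Vertex {R : Sieve U} (σ : PreSys R) where
  N : Over S
  πN : N ⟶ U
  q : ∀ a, σ.Q a ⟶ N
  cart : ∀ a : (Stk.sieveCat R).obj, IsPullback (q a) (σ.p a) πN a.obj.hom
  t_q : ∀ {a b : (Stk.sieveCat R).obj} (m : a ⟶ b), σ.t m ≫ q b = q a

/-- the cartesian system of a vertex -/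
def Vertex.toCartSys {R : Sieve U} {σ : PreSys R} (vx : Vertex σ) : CartSys R where
  N := vx.N
  πN := vx.πN
  Q := σ.Q
  q := vx.q
  p := σ.p
  cart := vx.cart
  t := σ.t
  t_q := vx.t_q
  t_p m := (σ.cart m).w

section OfSection
variable {K : Precoverage Scheme.{u}} {G : Over S} [GrpObj G] {X : Over S}
  {aX : AlgGrp.Action G X} {R : Sieve U} (Ψ : Stk.sieveCat R ⥤ᵇ AlgSt.QuotSt K G aX)

/-- the system of total spaces of a section of `[X/G]` over a sieve -/
noncomputable def preOf : PreSys R where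
  Q a := (Ψ.toFunctor.obj a).P
  p a := (Ψ.toFunctor.obj a).π ≫ eqToHom (Ψ.w_obj a)
  t m := (Ψ.toFunctor.map m).top
  cart {a b} m := isPullback_eqToHom (Ψ.toFunctor.map m).cart (Ψ.w_obj a) (Ψ.w_obj b) m.hom.left
    (map_base m)
  t_id a := by rw [Ψ.toFunctor.map_id]; rfl
  t_comp m n := by rw [Ψ.toFunctor.map_comp]; rfl

end OfSection

section DD
variable {R : Sieve U} (σ : PreSys R) {I : Type u} {V : I → Over S} (f : ∀ i, V i ⟶ U)
  (hf : ∀ i, R (f i))

/-- the object over `S` of a scheme-valued point of `U` -/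
abbrev ovr {T : Scheme.{u}} (t : T ⟶ U.left) : Over S := Over.mk (t ≫ U.hom)

/-- a scheme-valued point of `U` as a morphism over `S` -/
abbrev arr {T : Scheme.{u}} (t : T ⟶ U.left) : ovr t ⟶ U := Over.homMk t rfl

/-- the object of the sieve of a scheme-valued point -/
def aT {T : Scheme.{u}} (t : T ⟶ U.left) (h : R (arr t)) : (Stk.sieveCat R).obj :=
  ⟨Over.mk (arr t), h⟩

/-- the objects of the sieve of the covering family -/
def ai (i : I) : (Stk.sieveCat R).obj := ⟨Over.mk (f i), hf i⟩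

/-- the morphism over `S` of a point of a member of the family -/
def ptHom {T : Scheme.{u}} {t : T ⟶ U.left} {i : I} (x : T ⟶ (V i).left)
    (hx : x ≫ (f i).left = t) : ovr t ⟶ V i :=
  Over.homMk x (by
    change x ≫ (V i).hom = t ≫ U.hom
    rw [← hx, Category.assoc, Over.w (f i)])

lemma ptHom_comp {T : Scheme.{u}} {t : T ⟶ U.left} {i : I} (x : T ⟶ (V i).left)
    (hx : x ≫ (f i).left = t) : ptHom f x hx ≫ f i = arr t := by
  ext1
  exact hx

include hf in
lemma mem_arr {T : Scheme.{u}} {t : T ⟶ U.left} {i : I} (x : T ⟶ (V i).left)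
    (hx : x ≫ (f i).left = t) : R (arr t) := by
  rw [← ptHom_comp f x hx]
  exact R.downward_closed (hf i) _

/-- the morphism of the sieve of a point of a member of the family -/
def mT {T : Scheme.{u}} {t : T ⟶ U.left} (h : R (arr t)) {i : I} (x : T ⟶ (V i).left)
    (hx : x ≫ (f i).left = t) : aT t h ⟶ ai f hf i :=
  ObjectProperty.homMk (Over.homMk (ptHom f x hx) (ptHom_comp f x hx))

/-- the morphism of the sieve of a morphism of points -/
def nT {T T' : Scheme.{u}} {t : T ⟶ U.left} {t' : T' ⟶ U.left} (h : R (arr t)) (h' : R (arr t'))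
    (g : T' ⟶ T) (hg : g ≫ t = t') : aT t' h' ⟶ aT t h :=
  ObjectProperty.homMk (Over.homMk (Over.homMk g (by
    change g ≫ t ≫ U.hom = t' ≫ U.hom
    rw [← hg, Category.assoc])) (by
    ext1
    exact hg))

lemma nT_comp_mT {T T' : Scheme.{u}} {t : T ⟶ U.left} {t' : T' ⟶ U.left} (h : R (arr t))
    (h' : R (arr t')) (g : T' ⟶ T) (hg : g ≫ t = t') {i : I} (x : T ⟶ (V i).left)
    (hx : x ≫ (f i).left = t) (x' : T' ⟶ (V i).left) (hx' : x' ≫ (f i).left = t')
    (hxx : g ≫ x = x') : nT h h' g hg ≫ mT f hf h x hx = mT f hf h' x' hx' := by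
  apply sieveCat_hom_ext
  ext1
  exact hxx

/-- sections of the member of the system over a scheme-valued point -/
abbrev Sec0 {T : Scheme.{u}} (t : T ⟶ U.left) (h : R (arr t)) : Type u :=
  {s : T ⟶ (σ.Q (aT t h)).left // s ≫ (σ.p (aT t h)).left = 𝟙 T}

/-- the scheme-level cartesian squares -/
lemma cartl {a b : (Stk.sieveCat R).obj} (m : a ⟶ b) :
    IsPullback (σ.t m).left (σ.p a).left (σ.p b).left m.hom.left.left :=
  (σ.cart m).map (Over.forget S)

/-- sections over `T` are the points of the member of the family over a point -/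
noncomputable def liftEquiv {T : Scheme.{u}} (t : T ⟶ U.left) (h : R (arr t)) {i : I}
    (x : T ⟶ (V i).left) (hx : x ≫ (f i).left = t) :
    Sec0 σ t h ≃ Desc.Lifts (Over.mk (σ.p (ai f hf i)).left) x where
  toFun s := ⟨s.1 ≫ (σ.t (mT f hf h x hx)).left, by
    change (s.1 ≫ (σ.t (mT f hf h x hx)).left) ≫ (σ.p (ai f hf i)).left = x
    rw [Category.assoc, (cartl σ (mT f hf h x hx)).w, ← Category.assoc, s.2, Category.id_comp]
    rfl⟩
  invFun v := ⟨(cartl σ (mT f hf h x hx)).lift v.1 (𝟙 T) (by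
      rw [Category.id_comp]
      exact v.2), (cartl σ (mT f hf h x hx)).lift_snd _ _ _⟩
  left_inv s := by
    apply Subtype.ext
    apply (cartl σ (mT f hf h x hx)).hom_ext
    · rw [IsPullback.lift_fst]
    · rw [IsPullback.lift_snd]
      exact s.2.symm
  right_inv v := by
    apply Subtype.ext
    exact (cartl σ (mT f hf h x hx)).lift_fst _ _ _

lemma liftEquiv_apply {T : Scheme.{u}} (t : T ⟶ U.left) (h : R (arr t)) {i : I}
    (x : T ⟶ (V i).left) (hx : x ≫ (f i).left = t) (s : Sec0 σ t h) :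
    (liftEquiv σ f hf t h x hx s).1 = s.1 ≫ (σ.t (mT f hf h x hx)).left := rfl

/-- the gluing bijection with a free common image point -/
noncomputable def φaux {T : Scheme.{u}} (t : T ⟶ U.left) {i j : I} (x₀ : T ⟶ (V i).left)
    (x₁ : T ⟶ (V j).left) (h₀ : x₀ ≫ (f i).left = t) (h₁ : x₁ ≫ (f j).left = t) :
    Desc.Lifts (Over.mk (σ.p (ai f hf i)).left) x₀ ≃ Desc.Lifts (Over.mk (σ.p (ai f hf j)).left) x₁ :=
  (liftEquiv σ f hf t (mem_arr f hf x₀ h₀) x₀ h₀).symm.trans
    (liftEquiv σ f hf t (mem_arr f hf x₀ h₀) x₁ h₁)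

lemma φaux_congr {T : Scheme.{u}} (t t' : T ⟶ U.left) {i j : I} (x₀ : T ⟶ (V i).left)
    (x₁ : T ⟶ (V j).left) (h₀ : x₀ ≫ (f i).left = t) (h₁ : x₁ ≫ (f j).left = t)
    (h₀' : x₀ ≫ (f i).left = t') (h₁' : x₁ ≫ (f j).left = t') :
    φaux σ f hf t x₀ x₁ h₀ h₁ = φaux σ f hf t' x₀ x₁ h₀' h₁' := by
  subst h₀
  subst h₀'
  rfl

lemma φaux_natural {T T' : Scheme.{u}} (g : T' ⟶ T) (t : T ⟶ U.left) (t' : T' ⟶ U.left)
    (hg : g ≫ t = t') {i j : I} (x₀ : T ⟶ (V i).left) (x₁ : T ⟶ (V j).left)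
    (h₀ : x₀ ≫ (f i).left = t) (h₁ : x₁ ≫ (f j).left = t)
    (y₀ : T' ⟶ (V i).left) (y₁ : T' ⟶ (V j).left) (hy₀ : g ≫ x₀ = y₀) (hy₁ : g ≫ x₁ = y₁)
    (h₀' : y₀ ≫ (f i).left = t') (h₁' : y₁ ≫ (f j).left = t')
    (v : Desc.Lifts (Over.mk (σ.p (ai f hf i)).left) x₀)
    (v' : Desc.Lifts (Over.mk (σ.p (ai f hf i)).left) y₀) (hv : v'.1 = g ≫ v.1) :
    (φaux σ f hf t' y₀ y₁ h₀' h₁' v').1 = g ≫ (φaux σ f hf t x₀ x₁ h₀ h₁ v).1 := by
  have h := mem_arr f hf x₀ h₀
  have h' := mem_arr f hf y₀ h₀'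
  obtain ⟨s, rfl⟩ := (liftEquiv σ f hf t h x₀ h₀).surjective v
  obtain ⟨s', rfl⟩ := (liftEquiv σ f hf t' h' y₀ h₀').surjective v'
  have key : s'.1 ≫ (σ.t (nT h h' g hg)).left = g ≫ s.1 := by
    apply (cartl σ (mT f hf h x₀ h₀)).hom_ext
    · have e1 : (σ.t (nT h h' g hg)).left ≫ (σ.t (mT f hf h x₀ h₀)).left =
          (σ.t (mT f hf h' y₀ h₀')).left := by
        rw [← nT_comp_mT f hf h h' g hg x₀ h₀ y₀ h₀' hy₀, σ.t_comp]
        rfl
      rw [Category.assoc, e1, Category.assoc]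
      exact hv
    · rw [Category.assoc, (cartl σ (nT h h' g hg)).w, ← Category.assoc, s'.2, Category.assoc,
        s.2, Category.id_comp, Category.comp_id]
      rfl
  change (liftEquiv σ f hf t' h' y₁ h₁' ((liftEquiv σ f hf t' h' y₀ h₀').symm
    (liftEquiv σ f hf t' h' y₀ h₀' s'))).1 = g ≫ (liftEquiv σ f hf t h x₁ h₁
      ((liftEquiv σ f hf t h x₀ h₀).symm (liftEquiv σ f hf t h x₀ h₀ s))).1
  rw [Equiv.symm_apply_apply, Equiv.symm_apply_apply, liftEquiv_apply, liftEquiv_apply]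
  have e2 : (σ.t (nT h h' g hg)).left ≫ (σ.t (mT f hf h x₁ h₁)).left =
      (σ.t (mT f hf h' y₁ h₁')).left := by
    rw [← nT_comp_mT f hf h h' g hg x₁ h₁ y₁ h₁' hy₁, σ.t_comp]
    rfl
  rw [← e2, ← Category.assoc, key, Category.assoc]

/-- the descent datum of a system relative to a family of arrows of the sieve -/
noncomputable def ddOf : Desc.SchDDFam (fun i => (f i).left) where
  obj i := Over.mk (σ.p (ai f hf i)).left
  φ T i j x₀ x₁ h := φaux σ f hf (x₀ ≫ (f i).left) x₀ x₁ rfl h.symm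
  φ_natural T T' g i j x₀ x₁ h y₀ y₁ hy₀ hy₁ h' v v' hv :=
    φaux_natural σ f hf g _ _ (by rw [← hy₀, Category.assoc]) x₀ x₁ rfl h.symm y₀ y₁ hy₀ hy₁ rfl
      h'.symm v v' hv
  φ_self T i x v := by
    change (liftEquiv σ f hf _ _ x rfl) ((liftEquiv σ f hf _ _ x rfl).symm v) = v
    rw [Equiv.apply_symm_apply]
  φ_comp T i j k x₀ x₁ x₂ h₀₁ h₁₂ v := by
    rw [φaux_congr σ f hf (x₁ ≫ (f j).left) (x₀ ≫ (f i).left) x₁ x₂ rfl h₁₂.symm h₀₁.symm
      (h₀₁.trans h₁₂).symm]
    change (liftEquiv σ f hf _ _ x₂ _) ((liftEquiv σ f hf _ _ x₁ _).symm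
      ((liftEquiv σ f hf _ _ x₁ _) ((liftEquiv σ f hf _ _ x₀ _).symm v))) = 
      (liftEquiv σ f hf _ _ x₂ _) ((liftEquiv σ f hf _ _ x₀ _).symm v)
    rw [Equiv.symm_apply_apply]

lemma comp_f_left {a : (Stk.sieveCat R).obj} {i : I} (m : a ⟶ ai f hf i) :
    m.hom.left.left ≫ (f i).left = a.obj.hom.left := by
  have h := Over.w m.hom
  have h2 := congrArg CommaMorphism.left h
  exact h2

/-- the morphism of the sieve from the total space of a member back to its index -/
def backHom (a : (Stk.sieveCat R).obj) {t : (σ.Q a).left ⟶ U.left} (h : R (arr t))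
    (ht : (σ.p a).left ≫ a.obj.hom.left = t) : aT t h ⟶ a :=
  ObjectProperty.homMk (Over.homMk (Over.homMk (σ.p a).left (by
    change (σ.p a).left ≫ a.obj.left.hom = t ≫ U.hom
    rw [← ht, Category.assoc, Over.w a.obj.hom])) (by
    ext1
    exact ht))

/-- the tautological section over the total space of a member -/
noncomputable def tautSec (a : (Stk.sieveCat R).obj) {t : (σ.Q a).left ⟶ U.left} (h : R (arr t))
    (ht : (σ.p a).left ≫ a.obj.hom.left = t) : Sec0 σ t h :=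
  ⟨(cartl σ (backHom σ a h ht)).lift (𝟙 _) (𝟙 _) (by
    rw [Category.id_comp, Category.id_comp]
    rfl), (cartl σ (backHom σ a h ht)).lift_snd _ _ _⟩

lemma tautSec_t (a : (Stk.sieveCat R).obj) {t : (σ.Q a).left ⟶ U.left} (h : R (arr t))
    (ht : (σ.p a).left ≫ a.obj.hom.left = t) :
    (tautSec σ a h ht).1 ≫ (σ.t (backHom σ a h ht)).left = 𝟙 _ :=
  (cartl σ (backHom σ a h ht)).lift_fst _ _ _

lemma liftEquiv_tautSec (a : (Stk.sieveCat R).obj) {t : (σ.Q a).left ⟶ U.left} (h : R (arr t))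
    (ht : (σ.p a).left ≫ a.obj.hom.left = t) {i : I} (m : a ⟶ ai f hf i)
    (hx : ((σ.p a).left ≫ m.hom.left.left) ≫ (f i).left = t) :
    (liftEquiv σ f hf t h ((σ.p a).left ≫ m.hom.left.left) hx (tautSec σ a h ht)).1 =
      (σ.t m).left := by
  have e : backHom σ a h ht ≫ m = mT f hf h ((σ.p a).left ≫ m.hom.left.left) hx := by
    apply sieveCat_hom_ext
    ext1
    rfl
  rw [liftEquiv_apply, ← e, σ.t_comp]
  change (tautSec σ a h ht).1 ≫ (σ.t (backHom σ a h ht)).left ≫ (σ.t m).left = _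
  rw [← Category.assoc, tautSec_t, Category.id_comp]

/-- the gluing bijections send transition maps to transition maps -/
lemma ddOf_φ_t (a : (Stk.sieveCat R).obj) {i j : I} (m' : a ⟶ ai f hf i) (m'' : a ⟶ ai f hf j)
    (hc : ((σ.p a).left ≫ m'.hom.left.left) ≫ (f i).left =
      ((σ.p a).left ≫ m''.hom.left.left) ≫ (f j).left) :
    ((ddOf σ f hf).φ ((σ.p a).left ≫ m'.hom.left.left) ((σ.p a).left ≫ m''.hom.left.left) hc
      ⟨(σ.t m').left, (cartl σ m').w⟩).1 = (σ.t m'').left := by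
  have ht : (σ.p a).left ≫ a.obj.hom.left = ((σ.p a).left ≫ m'.hom.left.left) ≫ (f i).left := by
    rw [Category.assoc, comp_f_left]
  have h := mem_arr f hf ((σ.p a).left ≫ m'.hom.left.left) rfl
  have e1 : (liftEquiv σ f hf _ h ((σ.p a).left ≫ m'.hom.left.left) rfl).symm
      ⟨(σ.t m').left, (cartl σ m').w⟩ = tautSec σ a h ht := by
    rw [Equiv.symm_apply_eq]
    apply Subtype.ext
    exact (liftEquiv_tautSec σ f hf a h ht m' rfl).symm
  change (liftEquiv σ f hf _ h ((σ.p a).left ≫ m''.hom.left.left) hc.symm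
    ((liftEquiv σ f hf _ h ((σ.p a).left ≫ m'.hom.left.left) rfl).symm
      ⟨(σ.t m').left, (cartl σ m').w⟩)).1 = _
  rw [e1]
  exact liftEquiv_tautSec σ f hf a h ht m'' hc.symm

end DD

end Groth.Agent.Lib.Helper24.QuotSt11
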