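import Groth.Agent.Lib.Helper24.QuotSt11
set_option autoImplicit false
set_option linter.unusedSimpArgs false
universe u
set_option backward.isDefEq.respectTransparency false
set_option backward.isDefEq.respectTransparency.types false

/-! From an effective descent datum to a vertex of the system. -/

namespace Groth.Agent.Lib.Helper24.QuotSt12
open CategoryTheory CategoryTheory.Limits MonoidalCategory CartesianMonoidalCategory Opposite
open AlgebraicGeometry MonObj GrpObj Groth.Agent.Lib.Helper24.QuotSt9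
open Groth.Agent.Lib.Helper24.StkCone Groth.Agent.Lib.Helper24.StkRefine
open Groth.Agent.Lib.Helper24.QuotSt11

variable {S : Scheme.{u}} {U : Over S} {R : Sieve U} (σ : PreSys R) {I : Type u}
  {V : I → Over S} (f : ∀ i, V i ⟶ U) (hf : ∀ i, R (f i))
  (N₀ : Over U.left)
  (e : (Desc.toDDFam (fun i => (f i).left)).obj N₀ ≅ ddOf σ f hf)

/-- the maps from the members of the family to the descended scheme -/
noncomputable def qi (i : I) : (σ.Q (ai f hf i)).left ⟶ N₀.left :=
  (e.inv.hom i).left ≫ pullback.snd ((f i).left) N₀.hom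

lemma isIso_inv_hom (i : I) : IsIso (e.inv.hom i).left := by
  have h1 : e.inv.hom i ≫ e.hom.hom i = 𝟙 _ := congrArg (fun a => a.hom i) e.inv_hom_id
  have h2 : e.hom.hom i ≫ e.inv.hom i = 𝟙 _ := congrArg (fun a => a.hom i) e.hom_inv_id
  have : IsIso (e.inv.hom i) := ⟨⟨e.hom.hom i, h1, h2⟩⟩
  exact inferInstanceAs (IsIso ((Over.forget _).map (e.inv.hom i)))

lemma qi_cart (i : I) : IsPullback (qi σ f hf N₀ e i) (σ.p (ai f hf i)).left N₀.hom (f i).left := by
  have := isIso_inv_hom σ f hf N₀ e i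
  have hw : (e.inv.hom i).left ≫ pullback.fst ((f i).left) N₀.hom = (σ.p (ai f hf i)).left :=
    Over.w (e.inv.hom i)
  have h1 : IsPullback (e.inv.hom i).left (σ.p (ai f hf i)).left
      (pullback.fst ((f i).left) N₀.hom) (𝟙 _) :=
    IsPullback.of_horiz_isIso ⟨by rw [Category.comp_id, hw]⟩
  have h2 := h1.paste_horiz (IsPullback.of_hasPullback ((f i).left) N₀.hom).flip
  rw [Category.id_comp] at h2
  exact h2

lemma qi_compat {T : Scheme.{u}} {i j : I} (x₀ : T ⟶ (V i).left) (x₁ : T ⟶ (V j).left)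
    (h : x₀ ≫ (f i).left = x₁ ≫ (f j).left) (v : Desc.Lifts ((ddOf σ f hf).obj i) x₀) :
    v.1 ≫ qi σ f hf N₀ e i = ((ddOf σ f hf).φ x₀ x₁ h v).1 ≫ qi σ f hf N₀ e j := by
  let w : Desc.Lifts (((Desc.toDDFam (fun i => (f i).left)).obj N₀).obj i) x₀ :=
    ⟨v.1 ≫ (e.inv.hom i).left, by
      rw [Category.assoc]
      have hw : (e.inv.hom i).left ≫ pullback.fst ((f i).left) N₀.hom = (σ.p (ai f hf i)).left :=
        Over.w (e.inv.hom i)
      change v.1 ≫ (e.inv.hom i).left ≫ pullback.fst ((f i).left) N₀.hom = x₀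
      rw [hw]
      exact v.2⟩
  have hc := e.inv.comm x₀ x₁ h v w rfl
  have hc2 := congrArg (fun a => a ≫ pullback.snd ((f j).left) N₀.hom) hc
  change (Desc.canMapFam (fun i => (f i).left) N₀ x₀ x₁ h w).1 ≫ pullback.snd ((f j).left) N₀.hom =
    (((ddOf σ f hf).φ x₀ x₁ h v).1 ≫ (e.inv.hom j).left) ≫ pullback.snd ((f j).left) N₀.hom at hc2
  rw [Desc.canMapFam_val, pullback.lift_snd, Category.assoc, Category.assoc] at hc2
  exact hc2

/-- compositions through two members of the family agree -/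
lemma t_qi_indep (a : (Stk.sieveCat R).obj) {i j : I} (m' : a ⟶ ai f hf i) (m'' : a ⟶ ai f hf j) :
    (σ.t m').left ≫ qi σ f hf N₀ e i = (σ.t m'').left ≫ qi σ f hf N₀ e j := by
  have hc : ((σ.p a).left ≫ m'.hom.left.left) ≫ (f i).left =
      ((σ.p a).left ≫ m''.hom.left.left) ≫ (f j).left := by
    rw [Category.assoc, Category.assoc, comp_f_left, comp_f_left]
  have h1 := qi_compat σ f hf N₀ e ((σ.p a).left ≫ m'.hom.left.left)
    ((σ.p a).left ≫ m''.hom.left.left) hc ⟨(σ.t m').left, (cartl σ m').w⟩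
  rw [ddOf_φ_t σ f hf a m' m'' hc] at h1
  exact h1

variable (hgen : ∀ a : (Stk.sieveCat R).obj, ∃ i : I, Nonempty (a ⟶ ai f hf i))

/-- the chosen index of an arrow of the sieve -/
noncomputable def idx (a : (Stk.sieveCat R).obj) : I := (hgen a).choose

/-- the chosen factorization of an arrow of the sieve -/
noncomputable def mIdx (a : (Stk.sieveCat R).obj) : a ⟶ ai f hf (idx f hf hgen a) :=
  (hgen a).choose_spec.some

/-- the maps from all members of the system to the descended scheme -/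
noncomputable def qs (a : (Stk.sieveCat R).obj) : (σ.Q a).left ⟶ N₀.left :=
  (σ.t (mIdx f hf hgen a)).left ≫ qi σ f hf N₀ e (idx f hf hgen a)

lemma qs_eq (a : (Stk.sieveCat R).obj) {i : I} (m : a ⟶ ai f hf i) :
    qs σ f hf N₀ e hgen a = (σ.t m).left ≫ qi σ f hf N₀ e i :=
  t_qi_indep σ f hf N₀ e a _ m

lemma qs_cart (a : (Stk.sieveCat R).obj) :
    IsPullback (qs σ f hf N₀ e hgen a) (σ.p a).left N₀.hom a.obj.hom.left := by
  have h := (cartl σ (mIdx f hf hgen a)).paste_horiz (qi_cart σ f hf N₀ e (idx f hf hgen a))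
  rw [comp_f_left] at h
  exact h

lemma t_qs {a b : (Stk.sieveCat R).obj} (m : a ⟶ b) :
    (σ.t m).left ≫ qs σ f hf N₀ e hgen b = qs σ f hf N₀ e hgen a := by
  rw [qs_eq σ f hf N₀ e hgen a (m ≫ mIdx f hf hgen b), σ.t_comp]
  rfl

/-- **the vertex of a system with effective descent datum** -/
noncomputable def vertexOf : Vertex σ where
  N := Over.mk (N₀.hom ≫ U.hom)
  πN := Over.homMk N₀.hom rfl
  q a := Over.homMk (qs σ f hf N₀ e hgen a) (by
    change qs σ f hf N₀ e hgen a ≫ N₀.hom ≫ U.hom = (σ.Q a).hom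
    rw [← Category.assoc, (qs_cart σ f hf N₀ e hgen a).w, Category.assoc, Over.w a.obj.hom,
      Over.w (σ.p a)])
  cart a := by
    apply IsPullback.of_map (Over.forget S)
    · ext1
      exact (qs_cart σ f hf N₀ e hgen a).w
    · exact qs_cart σ f hf N₀ e hgen a
  t_q m := by
    ext1
    exact t_qs σ f hf N₀ e hgen m

end Groth.Agent.Lib.Helper24.QuotSt12
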