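import Groth.Agent.Lib.Helper24.QuotSt11
set_option autoImplicit false
set_option linter.unusedSimpArgs false
universe u
set_option backward.isDefEq.respectTransparency false
set_option backward.isDefEq.respectTransparency.types false

/-! A glued action on the vertex of a cartesian system of pseudo-torsors is a pseudo-torsor. -/

namespace Groth.Agent.Lib.Helper24.QuotSt14
open CategoryTheory CategoryTheory.Limits MonoidalCategory CartesianMonoidalCategory Opposite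
open AlgebraicGeometry MonObj GrpObj Groth.Agent.Lib.Helper24.QuotSt9

variable {S : Scheme.{u}} {U : Over S} {R : Sieve U} (τ : CartSys R)
  {K : Precoverage Scheme.{u}} (hR : R ∈ QuotSh.J K S U)
  (hsub : ∀ Z : Over S, Presieve.IsSheaf (QuotSh.J K S) (yoneda.obj Z))
  (G : Over S) (act : ∀ a, G ⊗ τ.Q a ⟶ τ.Q a)
  (hcart : ∀ a, IsPullback (act a) (snd G (τ.Q a)) (τ.p a) (τ.p a))
  (actN : G ⊗ τ.N ⟶ τ.N) (hact : ∀ a, (G ◁ τ.q a) ≫ actN = act a ≫ τ.q a)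

include hR hsub hcart hact in
lemma unique_lift {T : Over S} (l l' : T ⟶ G ⊗ τ.N) (h1 : l ≫ actN = l' ≫ actN)
    (h2 : l ≫ snd G τ.N = l' ≫ snd G τ.N) : l = l' := by
  apply CartesianMonoidalCategory.hom_ext _ _ ?_ h2
  have hW : Sieve.pullback ((l ≫ snd G τ.N) ≫ τ.πN) R ∈ QuotSh.J K S T :=
    (QuotSh.J K S).pullback_stable _ hR
  apply (hsub G _ hW).isSeparatedFor.ext
  intro T' k hk
  change k ≫ l ≫ fst G τ.N = k ≫ l' ≫ fst G τ.N
  have hk' : R ((k ≫ l ≫ snd G τ.N) ≫ τ.πN) := by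
    have : (k ≫ l ≫ snd G τ.N) ≫ τ.πN = k ≫ (l ≫ snd G τ.N) ≫ τ.πN := by
      simp only [Category.assoc]
    rw [this]
    exact hk
  let a := τ.aOf (k ≫ l ≫ snd G τ.N) hk'
  let ν : T' ⟶ τ.Q a := τ.sec _ hk'
  have hν : ν ≫ τ.q a = k ≫ l ≫ snd G τ.N ∧ ν ≫ τ.p a = 𝟙 T' :=
    ⟨τ.sec_q _ hk', τ.sec_p _ hk'⟩
  have key : ∀ c : T' ⟶ G, (lift c ν ≫ act a) ≫ τ.q a = lift c (k ≫ l ≫ snd G τ.N) ≫ actN ∧
      (lift c ν ≫ act a) ≫ τ.p a = 𝟙 T' := by
    intro c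
    constructor
    · rw [Category.assoc, ← hact a, ← Category.assoc]
      congr 1
      rw [← hν.1]
      apply CartesianMonoidalCategory.hom_ext <;> simp
    · rw [Category.assoc, (hcart a).w, ← Category.assoc, lift_snd, hν.2]
  have e1 : lift (k ≫ l ≫ fst G τ.N) (k ≫ l ≫ snd G τ.N) = k ≫ l := by
    apply CartesianMonoidalCategory.hom_ext <;> simp
  have e2 : lift (k ≫ l' ≫ fst G τ.N) (k ≫ l ≫ snd G τ.N) = k ≫ l' := by
    apply CartesianMonoidalCategory.hom_ext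
    · simp
    · rw [lift_snd, Category.assoc, h2]
  have e3 : lift (k ≫ l ≫ fst G τ.N) ν ≫ act a = lift (k ≫ l' ≫ fst G τ.N) ν ≫ act a := by
    apply (τ.cart a).hom_ext
    · rw [(key _).1, (key _).1, e1, e2, Category.assoc, Category.assoc, h1]
    · rw [(key _).2, (key _).2]
  have e4 : lift (k ≫ l ≫ fst G τ.N) ν = lift (k ≫ l' ≫ fst G τ.N) ν := by
    apply (hcart a).hom_ext e3
    rw [lift_snd, lift_snd]
  have := congrArg (fun x => x ≫ fst G (τ.Q a)) e4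
  simpa using this

include hcart hact in
lemma exists_local {T : Over S} (n₁ n₂ : T ⟶ τ.N) (h : n₁ ≫ τ.πN = n₂ ≫ τ.πN)
    (hn : R (n₂ ≫ τ.πN)) : ∃ l : T ⟶ G ⊗ τ.N, l ≫ actN = n₁ ∧ l ≫ snd G τ.N = n₂ := by
  let a := τ.aOf n₂ hn
  let ν₂ : T ⟶ τ.Q a := τ.sec n₂ hn
  let ν₁ : T ⟶ τ.Q a := (τ.cart a).lift n₁ (𝟙 T) (by rw [Category.id_comp]; exact h)
  have hν₁q : ν₁ ≫ τ.q a = n₁ := (τ.cart a).lift_fst _ _ _
  have hν₁p : ν₁ ≫ τ.p a = 𝟙 T := (τ.cart a).lift_snd _ _ _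
  have hν₂q : ν₂ ≫ τ.q a = n₂ := τ.sec_q n₂ hn
  have hν₂p : ν₂ ≫ τ.p a = 𝟙 T := τ.sec_p n₂ hn
  let l₀ : T ⟶ G ⊗ τ.Q a := (hcart a).lift ν₁ ν₂ (by rw [hν₁p, hν₂p])
  have hl₀1 : l₀ ≫ act a = ν₁ := (hcart a).lift_fst _ _ _
  have hl₀2 : l₀ ≫ snd G (τ.Q a) = ν₂ := (hcart a).lift_snd _ _ _
  refine ⟨l₀ ≫ (G ◁ τ.q a), ?_, ?_⟩
  · rw [Category.assoc, hact a, ← Category.assoc, hl₀1, hν₁q]
  · rw [Category.assoc, whiskerLeft_snd, ← Category.assoc, hl₀2, hν₂q]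

include hR hsub hcart hact in
lemma exists_global {T : Over S} (n₁ n₂ : T ⟶ τ.N) (h : n₁ ≫ τ.πN = n₂ ≫ τ.πN) :
    ∃ l : T ⟶ G ⊗ τ.N, l ≫ actN = n₁ ∧ l ≫ snd G τ.N = n₂ := by
  have hW : Sieve.pullback (n₂ ≫ τ.πN) R ∈ QuotSh.J K S T :=
    (QuotSh.J K S).pullback_stable _ hR
  have hloc : ∀ ⦃T' : Over S⦄ (k : T' ⟶ T), (Sieve.pullback (n₂ ≫ τ.πN) R).arrows k →
      ∃ l : T' ⟶ G ⊗ τ.N, l ≫ actN = k ≫ n₁ ∧ l ≫ snd G τ.N = k ≫ n₂ := by
    intro T' k hk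
    refine exists_local τ G act hcart actN hact (k ≫ n₁) (k ≫ n₂) ?_ ?_
    · rw [Category.assoc, Category.assoc, h]
    · have : (k ≫ n₂) ≫ τ.πN = k ≫ n₂ ≫ τ.πN := Category.assoc _ _ _
      rw [this]
      exact hk
  let x : Presieve.FamilyOfElements (yoneda.obj (G ⊗ τ.N)) (Sieve.pullback (n₂ ≫ τ.πN) R).arrows :=
    fun T' k hk => (hloc k hk).choose
  have hx1 : ∀ ⦃T' : Over S⦄ (k : T' ⟶ T) (hk : (Sieve.pullback (n₂ ≫ τ.πN) R).arrows k),
      x k hk ≫ actN = k ≫ n₁ := fun T' k hk => (hloc k hk).choose_spec.1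
  have hx2 : ∀ ⦃T' : Over S⦄ (k : T' ⟶ T) (hk : (Sieve.pullback (n₂ ≫ τ.πN) R).arrows k),
      x k hk ≫ snd G τ.N = k ≫ n₂ := fun T' k hk => (hloc k hk).choose_spec.2
  have hcomp : x.Compatible := by
    rw [Presieve.compatible_iff_sieveCompatible]
    intro T' T'' k j hk
    change x (j ≫ k) ((Sieve.pullback (n₂ ≫ τ.πN) R).downward_closed hk j) = j ≫ x k hk
    apply unique_lift τ hR hsub G act hcart actN hact
    · rw [hx1 (j ≫ k) ((Sieve.pullback (n₂ ≫ τ.πN) R).downward_closed hk j), Category.assoc,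
        Category.assoc, hx1 k hk]
    · rw [hx2 (j ≫ k) ((Sieve.pullback (n₂ ≫ τ.πN) R).downward_closed hk j), Category.assoc,
        Category.assoc, hx2 k hk]
  obtain ⟨l, hl, -⟩ := hsub (G ⊗ τ.N) _ hW x hcomp
  have hl' : ∀ ⦃T' : Over S⦄ (k : T' ⟶ T) (hk : (Sieve.pullback (n₂ ≫ τ.πN) R).arrows k),
      k ≫ l = x k hk := fun T' k hk => hl k hk
  refine ⟨l, ?_, ?_⟩
  · apply (hsub τ.N _ hW).isSeparatedFor.ext
    intro T' k hk
    change k ≫ l ≫ actN = k ≫ n₁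
    rw [← Category.assoc, hl' k hk, hx1 k hk]
  · apply (hsub τ.N _ hW).isSeparatedFor.ext
    intro T' k hk
    change k ≫ l ≫ snd G τ.N = k ≫ n₂
    rw [← Category.assoc, hl' k hk, hx2 k hk]

include hR hsub hcart hact in
/-- **the glued action on the vertex is a pseudo-torsor** -/
theorem isPullback_act : IsPullback actN (snd G τ.N) τ.πN τ.πN := by
  have w : actN ≫ τ.πN = snd G τ.N ≫ τ.πN := by
    apply (τ.whisker G).hom_ext hR hsub
    intro a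
    change (G ◁ τ.q a) ≫ actN ≫ τ.πN = (G ◁ τ.q a) ≫ snd G τ.N ≫ τ.πN
    rw [← Category.assoc, hact a, Category.assoc, (τ.cart a).w, ← Category.assoc, (hcart a).w,
      Category.assoc, ← (τ.cart a).w, whiskerLeft_snd_assoc]
  refine ⟨⟨w⟩, ⟨PullbackCone.IsLimit.mk w
    (fun s => (exists_global τ hR hsub G act hcart actN hact s.fst s.snd s.condition).choose)
    (fun s => (exists_global τ hR hsub G act hcart actN hact s.fst s.snd s.condition).choose_spec.1)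
    (fun s => (exists_global τ hR hsub G act hcart actN hact s.fst s.snd s.condition).choose_spec.2)
    (fun s m h1 h2 => ?_)⟩⟩
  apply unique_lift τ hR hsub G act hcart actN hact
  · rw [h1, (exists_global τ hR hsub G act hcart actN hact s.fst s.snd s.condition).choose_spec.1]
  · rw [h2, (exists_global τ hR hsub G act hcart actN hact s.fst s.snd s.condition).choose_spec.2]

end Groth.Agent.Lib.Helper24.QuotSt14
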