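import Groth.Agent.Lib.Helper24.QuotSt17
import Groth.Agent.Lib.Helper24.FpqcLocal
set_option autoImplicit false
set_option linter.unusedSimpArgs false
universe u
set_option backward.isDefEq.respectTransparency false
set_option backward.isDefEq.respectTransparency.types false

/-! Torsors for the fpqc topology; the fpqc quotient stack of an affine group is a stack. -/

namespace Groth.Agent.Lib.Helper24.QuotSt18
open CategoryTheory CategoryTheory.Limits MonoidalCategory CartesianMonoidalCategory Opposite
open AlgebraicGeometry MonObj GrpObj Groth.Agent.Lib.Helper24.QuotSt5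

variable {S : Scheme.{u}} {G : Over S} [GrpObj G] {X : Over S} {aX : AlgGrp.Action G X}

/-- a property of `G ⟶ S` which is fpqc local on the base passes to all fpqc torsors -/
theorem torsor_prop_fpqc (P : MorphismProperty Scheme.{u}) [IsZariskiLocalAtTarget P]
    [P.IsStableUnderBaseChange]
    [P.DescendsAlong (@Surjective ⊓ @Flat ⊓ @QuasiCompact)]
    (hG : P G.hom) (A : AlgSt.QuotObj Scheme.fpqcPrecoverage G aX) : P A.π.left := by
  obtain ⟨R, hR, hsec⟩ := A.loc
  refine Groth.Agent.Lib.Helper24.FpqcLocal.of_fpqc_presieve A.π.left R hR fun Y g hg => ?_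
  obtain ⟨s, hs⟩ := hsec g hg
  let T : Over S := Over.mk (g ≫ A.base.hom)
  have hsw : s ≫ A.P.hom = g ≫ A.base.hom := by
    have h1 : A.π.left ≫ A.base.hom = A.P.hom := Over.w A.π
    have hs' : s ≫ A.π.left = g := hs
    rw [← h1, ← Category.assoc, hs']
  let s' : T ⟶ A.P := Over.homMk s hsw
  have hc := (homOfSec A s' rfl).cart
  have hc' := hc.map (Over.forget S)
  have hb : (s' ≫ A.π).left = g := hs
  have sq : IsPullback ((G ◁ s') ≫ A.act.act).left (snd G T).left A.π.left g := by
    rw [← hb]
    exact hc'
  have hP : P (snd G T).left := by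
    rw [Over.snd_left]
    exact MorphismProperty.pullback_snd _ _ hG
  have e : sq.isoPullback.hom ≫ pullback.snd A.π.left g = (snd G T).left :=
    sq.isoPullback_hom_snd
  rw [← e] at hP
  have : P.RespectsIso := MorphismProperty.IsStableUnderBaseChange.respectsIso
  exact (P.cancel_left_of_respectsIso _ _).1 hP

instance : Precoverage.Small.{u} Scheme.fpqcPrecoverage.{u} :=
  inferInstanceAs (Precoverage.Small.{u}
    (Scheme.propQCPrecoverage (@Flat : MorphismProperty Scheme.{u})))

/-- affineness of the fpqc torsors for an affine group -/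
theorem isAffineHom_π_fpqc [IsAffineHom G.hom]
    (A : AlgSt.QuotObj Scheme.fpqcPrecoverage G aX) : IsAffineHom A.π.left := by
  have h82 := Groth.Agent.S0082.result.{u}
  exact torsor_prop_fpqc @IsAffineHom ‹IsAffineHom G.hom› A

/-- **the fpqc quotient stack of an affine group is a stack** -/
theorem isStack_quotSt_fpqc [IsAffineHom G.hom] (aX : AlgGrp.Action G X) :
    Stk.IsStack (QuotSh.J Scheme.fpqcPrecoverage S) (AlgSt.QuotSt Scheme.fpqcPrecoverage G aX) :=
  Groth.Agent.Lib.Helper24.QuotSt16.isStack_quotSt Scheme.fpqcPrecoverage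
    le_rfl aX (fun A => isAffineHom_π_fpqc A)

end Groth.Agent.Lib.Helper24.QuotSt18
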