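import Groth.Agent.Lib.Helper24.QuotSt1
set_option autoImplicit false
set_option linter.unusedSimpArgs false
universe u
set_option backward.isDefEq.respectTransparency false
set_option backward.isDefEq.respectTransparency.types false

/-! A section of a torsor trivialises it (S12839). -/

namespace Groth.Agent.Lib.Helper24.QuotSt2
open CategoryTheory CategoryTheory.Limits MonoidalCategory CartesianMonoidalCategory MonObj GrpObj
open AlgebraicGeometry Groth.Agent.Lib.Helper24.QuotSt1

variable {S : Scheme.{u}} {K : Precoverage Scheme.{u}} [K.HasIsos] {G : Over S} [GrpObj G]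
  {X : Over S} {aX : AlgGrp.Action G X}

/-- the morphism from the trivial torsor determined by a point of the total space -/
noncomputable def homOfSection (A : AlgSt.QuotObj K G aX) {T : Over S} (s : T ⟶ A.P) :
    (AlgSt.quotMap K G aX).obj ((AlgSt.ofOverCat X).obj (Over.mk (s ≫ A.φ))) ⟶ A where
  base := s ≫ A.π
  top := (G ◁ s) ≫ A.act.act
  eqv := by
    change (AlgSt.leftMul G T).act ≫ (G ◁ s) ≫ A.act.act =
      (G ◁ ((G ◁ s) ≫ A.act.act)) ≫ A.act.act
    have h1 : (AlgSt.leftMul G T).act ≫ (G ◁ s) =
        lift (fst G (G ⊗ T) * (snd G (G ⊗ T) ≫ fst G T)) (snd G (G ⊗ T) ≫ snd G T ≫ s) := by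
      apply CartesianMonoidalCategory.hom_ext
      · simp only [AlgSt.leftMul, Category.assoc, lift_fst, whiskerLeft_fst]
      · simp only [AlgSt.leftMul, Category.assoc, lift_snd, whiskerLeft_snd, lift_snd_assoc]
    have h2 : (G ◁ ((G ◁ s) ≫ A.act.act)) =
        lift (fst G (G ⊗ T))
          (lift (snd G (G ⊗ T) ≫ fst G T) (snd G (G ⊗ T) ≫ snd G T ≫ s) ≫ A.act.act) := by
      apply CartesianMonoidalCategory.hom_ext
      · simp only [lift_fst, whiskerLeft_fst]
      · simp only [lift_snd, whiskerLeft_snd]
        rw [← Category.assoc, ← Category.assoc]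
        congr 1
        apply CartesianMonoidalCategory.hom_ext
        · simp only [Category.assoc, lift_fst, whiskerLeft_fst]
        · simp only [Category.assoc, lift_snd, whiskerLeft_snd]
    rw [← Category.assoc, h1, act_mul G A.act, h2]
  cart := (AlgSt.isPullback_whiskerLeft (G := G) s).paste_horiz A.cart
  wφ := by
    change ((G ◁ s) ≫ A.act.act) ≫ A.φ = (G ◁ (s ≫ A.φ)) ≫ aX.act
    rw [Category.assoc, A.eqv, MonoidalCategory.whiskerLeft_comp, Category.assoc]

@[simp] lemma homOfSection_base (A : AlgSt.QuotObj K G aX) {T : Over S} (s : T ⟶ A.P) :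
    (homOfSection A s).base = s ≫ A.π := rfl

end Groth.Agent.Lib.Helper24.QuotSt2
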