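import Groth.Agent.Lib.Helper24.QuotSt2
import Groth.Agent.Lib.Helper24.FibCatTwoCart
set_option autoImplicit false
set_option linter.unusedSimpArgs false
universe u
set_option backward.isDefEq.respectTransparency false
set_option backward.isDefEq.respectTransparency.types false

/-! `G × X ≃ X ×_{[X/G]} X` (S13575). -/

namespace Groth.Agent.Lib.Helper24.QuotSt3
open CategoryTheory CategoryTheory.Limits MonoidalCategory CartesianMonoidalCategory MonObj GrpObj
open AlgebraicGeometry Groth.Agent.Lib.Helper24.QuotSt1 Groth.Agent.Lib.Helper24.QuotSt2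

variable {S : Scheme.{u}} (K : Precoverage Scheme.{u}) [K.HasIsos] (G : Over S) [GrpObj G]
  {X : Over S} (aX : AlgGrp.Action G X)

/-- the trivial torsor over `T` attached to `x : T ⟶ X` -/
noncomputable abbrev triv {T : Over S} (x : T ⟶ X) : AlgSt.QuotObj K G aX :=
  (AlgSt.quotMap K G aX).obj ⟨T, ⟨x⟩⟩

/-- the morphism of trivial torsors given by right translation -/
noncomputable def trivHom {T T' : Over S} (f : T ⟶ T') (g : T ⟶ G) {x : T ⟶ X} {x' : T' ⟶ X}
    (h : lift g (f ≫ x') ≫ aX.act = x) : triv K G aX x ⟶ triv K G aX x' where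
  base := f
  top := transl G g f
  eqv := transl_eqv G g f
  cart := transl_cart G g f
  wφ := transl_wφ G aX g f x x' h

@[simp] lemma trivHom_base {T T' : Over S} (f : T ⟶ T') (g : T ⟶ G) {x : T ⟶ X} {x' : T' ⟶ X}
    (h : lift g (f ≫ x') ≫ aX.act = x) : (trivHom K G aX f g h).base = f := rfl

@[simp] lemma trivHom_top {T T' : Over S} (f : T ⟶ T') (g : T ⟶ G) {x : T ⟶ X} {x' : T' ⟶ X}
    (h : lift g (f ≫ x') ≫ aX.act = x) : (trivHom K G aX f g h).top = transl G g f := rfl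

include aX in
lemma act_inv {T : Over S} (g : T ⟶ G) {x x' : T ⟶ X} (h : lift g x' ≫ aX.act = x) :
    lift g⁻¹ x ≫ aX.act = x' := by
  rw [← h, ← act_mul G aX, inv_mul_cancel, one_act' G aX]

lemma trivHom_comp {T T' T'' : Over S} (f : T ⟶ T') (g : T ⟶ G) {x : T ⟶ X} {x' : T' ⟶ X}
    (h : lift g (f ≫ x') ≫ aX.act = x) (f' : T' ⟶ T'') (g' : T' ⟶ G) {x'' : T'' ⟶ X}
    (h' : lift g' (f' ≫ x'') ≫ aX.act = x')
    (h'' : lift (g * (f ≫ g')) ((f ≫ f') ≫ x'') ≫ aX.act = x) :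
    trivHom K G aX f g h ≫ trivHom K G aX f' g' h' =
      trivHom K G aX (f ≫ f') (g * (f ≫ g')) h'' :=
  AlgSt.QuotObj.Hom.ext rfl (transl_comp G g f g' f')

lemma trivHom_one_id {T : Over S} {x : T ⟶ X}
    (h : lift (1 : T ⟶ G) (𝟙 T ≫ x) ≫ aX.act = x) :
    trivHom K G aX (𝟙 T) 1 h = 𝟙 (triv K G aX x) :=
  AlgSt.QuotObj.Hom.ext rfl (transl_one_id G T)

lemma trivHom_congr {T T' : Over S} {f f' : T ⟶ T'} {g g' : T ⟶ G} {x : T ⟶ X} {x' : T' ⟶ X}
    (h : lift g (f ≫ x') ≫ aX.act = x) (hf : f = f') (hg : g = g')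
    (h' : lift g' (f' ≫ x') ≫ aX.act = x) :
    trivHom K G aX f g h = trivHom K G aX f' g' h' := by
  subst hf hg
  rfl

/-- the isomorphism of trivial torsors over the identity given by right translation -/
noncomputable def trivIso {T : Over S} (g : T ⟶ G) {x x' : T ⟶ X}
    (h : lift g x' ≫ aX.act = x) : triv K G aX x ≅ triv K G aX x' where
  hom := trivHom K G aX (𝟙 T) g (by rw [Category.id_comp]; exact h)
  inv := trivHom K G aX (𝟙 T) g⁻¹ (by rw [Category.id_comp]; exact act_inv G aX g h)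
  hom_inv_id := by
    rw [trivHom_comp K G aX (𝟙 T) g _ (𝟙 T) g⁻¹ _
      (by simp only [Category.id_comp, mul_inv_cancel]; exact one_act' G aX x),
      trivHom_congr K G aX _ (Category.id_comp _) (by rw [Category.id_comp, mul_inv_cancel])
        (by rw [one_act' G aX, Category.id_comp]),
      trivHom_one_id]
  inv_hom_id := by
    rw [trivHom_comp K G aX (𝟙 T) g⁻¹ _ (𝟙 T) g _
      (by simp only [Category.id_comp, inv_mul_cancel]; exact one_act' G aX x'),
      trivHom_congr K G aX _ (Category.id_comp _) (by rw [Category.id_comp, inv_mul_cancel])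
        (by rw [one_act' G aX, Category.id_comp]),
      trivHom_one_id]

lemma trivIso_hom {T : Over S} (g : T ⟶ G) {x x' : T ⟶ X}
    (h : lift g x' ≫ aX.act = x) :
    (trivIso K G aX g h).hom =
      trivHom K G aX (𝟙 T) g (by rw [Category.id_comp]; exact h) := rfl

lemma transl_one {T T' : Over S} (f : T ⟶ T') : transl G (1 : T ⟶ G) f = G ◁ f := by
  apply CartesianMonoidalCategory.hom_ext
  · simp only [transl, lift_fst, comp_one, _root_.mul_one, whiskerLeft_fst]
  · simp only [transl, lift_snd, whiskerLeft_snd]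

/-- the value of `quotMap` on morphisms -/
lemma quotMap_map {c c' : (AlgSt.ofSch X).obj} (m : c ⟶ c')
    (h : lift (1 : c.base ⟶ G) (m.hom ≫ c'.sec.down) ≫ aX.act = c.sec.down) :
    (AlgSt.quotMap K G aX).map m = trivHom K G aX m.hom 1 h :=
  AlgSt.QuotObj.Hom.ext rfl (transl_one G m.hom).symm

lemma map_sec_down {c c' : (AlgSt.ofSch X).obj} (m : c ⟶ c') :
    m.hom ≫ c'.sec.down = c.sec.down := congrArg ULift.down m.map_sec

include aX in
lemma lift_fst_snd_act {T : Over S} (w : T ⟶ G ⊗ X) :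
    lift (w ≫ fst G X) (w ≫ snd G X) ≫ aX.act = w ≫ aX.act := by
  rw [← comp_lift, lift_fst_snd, Category.comp_id]

/-- the component of the 2-isomorphism -/
noncomputable def actIsoApp (c : (AlgSt.ofSch (G ⊗ X)).obj) :
    (AlgSt.quotMap K G aX).obj ((AlgSt.ofSpMap ((AlgSp.yon S).map aX.act)).obj c) ≅
      (AlgSt.quotMap K G aX).obj ((AlgSt.ofSpMap ((AlgSp.yon S).map (snd G X))).obj c) :=
  trivIso K G aX (c.sec.down ≫ fst G X) (lift_fst_snd_act G aX c.sec.down)

lemma actIsoApp_hom (c : (AlgSt.ofSch (G ⊗ X)).obj) :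
    (actIsoApp K G aX c).hom = trivHom K G aX (𝟙 c.base) (c.sec.down ≫ fst G X)
      (by rw [Category.id_comp]; exact lift_fst_snd_act G aX c.sec.down) := rfl

lemma actIso_naturality {c c' : (AlgSt.ofSch (G ⊗ X)).obj} (m : c ⟶ c') :
    (AlgSt.quotMap K G aX).map ((AlgSt.ofSpMap ((AlgSp.yon S).map aX.act)).map m) ≫
        (actIsoApp K G aX c').hom =
      (actIsoApp K G aX c).hom ≫
        (AlgSt.quotMap K G aX).map ((AlgSt.ofSpMap ((AlgSp.yon S).map (snd G X))).map m) := by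
  have hm := map_sec_down m
  have h₁ : lift (1 : c.base ⟶ G) (m.hom ≫ c'.sec.down ≫ aX.act) ≫ aX.act =
      c.sec.down ≫ aX.act := by
    rw [one_act' G aX, ← Category.assoc, hm]
  have h₂ : lift (1 : c.base ⟶ G) (m.hom ≫ c'.sec.down ≫ snd G X) ≫ aX.act =
      c.sec.down ≫ snd G X := by
    rw [one_act' G aX, ← Category.assoc, hm]
  rw [quotMap_map K G aX ((AlgSt.ofSpMap ((AlgSp.yon S).map aX.act)).map m) h₁,
    quotMap_map K G aX ((AlgSt.ofSpMap ((AlgSp.yon S).map (snd G X))).map m) h₂,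
    actIsoApp_hom, actIsoApp_hom]
  have hg : (1 : c.base ⟶ G) * (m.hom ≫ c'.sec.down ≫ fst G X) =
      (c.sec.down ≫ fst G X) * (𝟙 c.base ≫ (1 : c.base ⟶ G)) := by
    rw [_root_.one_mul, Category.id_comp, _root_.mul_one, ← Category.assoc, hm]
  have hL : lift ((1 : c.base ⟶ G) * (m.hom ≫ c'.sec.down ≫ fst G X))
      ((m.hom ≫ 𝟙 c'.base) ≫ c'.sec.down ≫ snd G X) ≫ aX.act = c.sec.down ≫ aX.act := by
    rw [_root_.one_mul, Category.comp_id, ← Category.assoc, ← Category.assoc, hm]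
    exact lift_fst_snd_act G aX c.sec.down
  have hR : lift ((c.sec.down ≫ fst G X) * (𝟙 c.base ≫ (1 : c.base ⟶ G)))
      ((𝟙 c.base ≫ m.hom) ≫ c'.sec.down ≫ snd G X) ≫ aX.act = c.sec.down ≫ aX.act := by
    rw [Category.id_comp, _root_.mul_one, Category.id_comp, ← Category.assoc, hm]
    exact lift_fst_snd_act G aX c.sec.down
  exact (trivHom_comp K G aX m.hom 1 h₁ (𝟙 c'.base) (c'.sec.down ≫ fst G X) _ hL).trans
    ((trivHom_congr K G aX hL ((Category.comp_id _).trans (Category.id_comp _).symm) hg hR).trans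
      (trivHom_comp K G aX (𝟙 c.base) (c.sec.down ≫ fst G X) _ m.hom 1 h₂ hR).symm)

/-- the 2-isomorphism `π ∘ a ≅ π ∘ pr₂` -/
noncomputable def actIso :
    BasedFunctor.comp (AlgSt.ofSpMap ((AlgSp.yon S).map aX.act)) (AlgSt.quotMap K G aX) ≅
      BasedFunctor.comp (AlgSt.ofSpMap ((AlgSp.yon S).map (snd G X))) (AlgSt.quotMap K G aX) :=
  BasedNatIso.mkNatIso
    (NatIso.ofComponents (fun c => actIsoApp K G aX c)
      (fun {c c'} m => actIso_naturality K G aX m))
    (fun c => by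
      have h : (AlgSt.QuotSt K G aX).p.IsHomLift
          ((AlgSt.QuotSt K G aX).p.map (actIsoApp K G aX c).hom) (actIsoApp K G aX c).hom :=
        IsHomLift.map _ _
      exact h)

lemma actIso_app (c : (AlgSt.ofSch (G ⊗ X)).obj) :
    (actIso K G aX).hom.toNatTrans.app c = (actIsoApp K G aX c).hom := rfl

lemma transl_inj {T T' : Over S} {g g' : T ⟶ G} {f f' : T ⟶ T'}
    (h : transl G g f = transl G g' f') : g = g' ∧ f = f' := by
  constructor
  · have h1 := congrArg (fun t => unitSec G T ≫ t ≫ fst G T') h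
    simp only [transl_fst, comp_mul, unitSec_fst, unitSec_snd_assoc, _root_.one_mul] at h1
    exact h1
  · have h1 := congrArg (fun t => unitSec G T ≫ t ≫ snd G T') h
    simp only [transl_snd, unitSec_snd_assoc] at h1
    exact h1

/-- every morphism between trivial torsors is a `trivHom` -/
lemma eq_trivHom {T T' : Over S} {x : T ⟶ X} {x' : T' ⟶ X}
    (j : triv K G aX x ⟶ triv K G aX x') :
    ∃ (g : T ⟶ G) (h : lift g (j.base ≫ x') ≫ aX.act = x), j = trivHom K G aX j.base g h := by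
  have hsnd : j.top ≫ snd G T' = snd G T ≫ j.base := j.cart.w
  have hφ : j.top ≫ (G ◁ x') ≫ aX.act = (G ◁ x) ≫ aX.act := j.wφ
  exact ⟨unitSec G T ≫ j.top ≫ fst G T', act_of_wφ G aX j.base x x' j.top hsnd hφ,
    AlgSt.QuotObj.Hom.ext rfl (top_eq_transl G j.base j.top j.eqv hsnd)⟩

open Groth.Agent.Lib.Helper24.FibCatTwoCart in
/-- S13575 -/
theorem isTwoCartOver_act :
    FibCat.IsTwoCartOver (AlgSt.ofSpMap ((AlgSp.yon S).map aX.act))
      (AlgSt.ofSpMap ((AlgSp.yon S).map (snd G X))) (actIso K G aX) := by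
  refine isEquivOver_fpLift_of _ _ _ ?_ ?_ ?_
  · intro w w' m m' h _
    have h1 : m.hom = m'.hom := congrArg (fun t => t.hom) h
    exact Stk.EltObj.hom_ext h1
  · intro w w' u v huv
    have hu : u.hom ≫ w'.sec.down ≫ aX.act = w.sec.down ≫ aX.act := map_sec_down u
    have hv : v.hom ≫ w'.sec.down ≫ snd G X = w.sec.down ≫ snd G X := map_sec_down v
    have h₁ : lift (1 : w.base ⟶ G) (u.hom ≫ w'.sec.down ≫ aX.act) ≫ aX.act =
        w.sec.down ≫ aX.act := by rw [one_act' G aX, hu]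
    have h₂ : lift (1 : w.base ⟶ G) (v.hom ≫ w'.sec.down ≫ snd G X) ≫ aX.act =
        w.sec.down ≫ snd G X := by rw [one_act' G aX, hv]
    have huv' : (AlgSt.quotMap K G aX).map u ≫ (actIsoApp K G aX w').hom =
        (actIsoApp K G aX w).hom ≫ (AlgSt.quotMap K G aX).map v := huv
    rw [quotMap_map K G aX u h₁, quotMap_map K G aX v h₂, actIsoApp_hom, actIsoApp_hom] at huv'
    obtain ⟨fu, hfu⟩ : ∃ fu : w.base ⟶ w'.base, fu = u.hom := ⟨u.hom, rfl⟩
    obtain ⟨fv, hfv⟩ : ∃ fv : w.base ⟶ w'.base, fv = v.hom := ⟨v.hom, rfl⟩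
    have hb : fu ≫ 𝟙 w'.base = 𝟙 w.base ≫ fv := by
      rw [hfu, hfv]; exact congrArg (fun t => t.base) huv'
    have ht : transl G (1 : w.base ⟶ G) fu ≫ transl G (w'.sec.down ≫ fst G X) (𝟙 w'.base) =
        transl G (w.sec.down ≫ fst G X) (𝟙 w.base) ≫ transl G (1 : w.base ⟶ G) fv := by
      rw [hfu, hfv]; exact congrArg (fun t => t.top) huv'
    rw [transl_comp, transl_comp] at ht
    obtain ⟨hg, -⟩ := transl_inj G ht
    rw [Category.comp_id, Category.id_comp] at hb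
    rw [_root_.one_mul, Category.id_comp, _root_.mul_one] at hg
    have hv' : fv ≫ w'.sec.down ≫ snd G X = w.sec.down ≫ snd G X := by rw [hfv]; exact hv
    have hw : fu ≫ w'.sec.down = w.sec.down := by
      apply CartesianMonoidalCategory.hom_ext
      · rw [Category.assoc, hg]
      · rw [Category.assoc, hb, hv']
    refine ⟨⟨fu, congrArg ULift.up hw⟩, Stk.EltObj.hom_ext hfu, Stk.EltObj.hom_ext (hb.trans hfv)⟩
  · rintro ⟨zo, zp⟩
    obtain ⟨c₁, c₂, i, hi⟩ : ∃ (c₁ c₂ : (AlgSt.ofSch X).obj)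
        (i : triv K G aX c₁.sec.down ≅ triv K G aX c₂.sec.down),
        zo = ⟨c₁, c₂, i⟩ := ⟨zo.fst, zo.snd, zo.iso, rfl⟩
    subst hi
    obtain ⟨j, hj⟩ : ∃ j : triv K G aX c₁.sec.down ⟶ triv K G aX c₂.sec.down, j = i.hom :=
      ⟨_, rfl⟩
    obtain ⟨j', hj'⟩ : ∃ j' : triv K G aX c₂.sec.down ⟶ triv K G aX c₁.sec.down, j' = i.inv :=
      ⟨_, rfl⟩
    have hjj' : j ≫ j' = 𝟙 _ := by rw [hj, hj']; exact i.hom_inv_id
    have hj'j : j' ≫ j = 𝟙 _ := by rw [hj, hj']; exact i.inv_hom_id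
    obtain ⟨f, g, hg, hjg⟩ : ∃ (f : c₁.base ⟶ c₂.base) (g : c₁.base ⟶ G)
        (hg : lift g (f ≫ c₂.sec.down) ≫ aX.act = c₁.sec.down), j = trivHom K G aX f g hg := by
      obtain ⟨g, hg, hjg⟩ := eq_trivHom K G aX j
      exact ⟨j.base, g, hg, hjg⟩
    obtain ⟨f', hf'⟩ : ∃ f' : c₂.base ⟶ c₁.base, f' = j'.base := ⟨_, rfl⟩
    have hf : f = j.base := by rw [hjg]; rfl
    have hff' : f ≫ f' = 𝟙 _ := by rw [hf, hf']; exact congrArg (fun t => t.base) hjj'
    have hf'f : f' ≫ f = 𝟙 _ := by rw [hf, hf']; exact congrArg (fun t => t.base) hj'j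
    let w : (AlgSt.ofSch (G ⊗ X)).obj := ⟨c₁.base, ⟨lift g (f ≫ c₂.sec.down)⟩⟩
    let α : (AlgSt.ofSpMap ((AlgSp.yon S).map aX.act)).obj w ≅ c₁ :=
      { hom := ⟨𝟙 c₁.base, by
          change ULift.up (𝟙 c₁.base ≫ c₁.sec.down) =
            ULift.up (lift g (f ≫ c₂.sec.down) ≫ aX.act)
          rw [Category.id_comp, hg]⟩
        inv := ⟨𝟙 c₁.base, by
          change ULift.up (𝟙 c₁.base ≫ lift g (f ≫ c₂.sec.down) ≫ aX.act) =
            ULift.up c₁.sec.down
          rw [Category.id_comp, hg]⟩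
        hom_inv_id := Stk.EltObj.hom_ext (Category.id_comp _)
        inv_hom_id := Stk.EltObj.hom_ext (Category.id_comp _) }
    let β : (AlgSt.ofSpMap ((AlgSp.yon S).map (snd G X))).obj w ≅ c₂ :=
      { hom := ⟨f, by
          change ULift.up (f ≫ c₂.sec.down) =
            ULift.up (lift g (f ≫ c₂.sec.down) ≫ snd G X)
          rw [lift_snd]⟩
        inv := ⟨f', by
          change ULift.up (f' ≫ lift g (f ≫ c₂.sec.down) ≫ snd G X) =
            ULift.up c₂.sec.down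
          rw [lift_snd, ← Category.assoc, hf'f, Category.id_comp]⟩
        hom_inv_id := Stk.EltObj.hom_ext hff'
        inv_hom_id := Stk.EltObj.hom_ext hf'f }
    refine ⟨w, α, β, ?_, ?_⟩
    · have h : (AlgSt.ofSch X).p.IsHomLift ((AlgSt.ofSch X).p.map α.hom) α.hom :=
        IsHomLift.map _ _
      exact h
    · have h₁ : lift (1 : c₁.base ⟶ G) (α.hom.hom ≫ c₁.sec.down) ≫ aX.act =
          lift g (f ≫ c₂.sec.down) ≫ aX.act := by
        rw [one_act' G aX]
        change 𝟙 c₁.base ≫ c₁.sec.down = _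
        rw [Category.id_comp, hg]
      have h₂ : lift (1 : c₁.base ⟶ G) (β.hom.hom ≫ c₂.sec.down) ≫ aX.act =
          lift g (f ≫ c₂.sec.down) ≫ snd G X := by
        rw [one_act' G aX, lift_snd]
      change (AlgSt.quotMap K G aX).map α.hom ≫ i.hom = (actIsoApp K G aX w).hom ≫
        (AlgSt.quotMap K G aX).map β.hom
      rw [← hj, quotMap_map K G aX α.hom h₁, quotMap_map K G aX β.hom h₂, actIsoApp_hom, hjg]
      have hL : lift ((1 : c₁.base ⟶ G) * (𝟙 c₁.base ≫ g)) ((𝟙 c₁.base ≫ f) ≫ c₂.sec.down) ≫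
          aX.act = lift g (f ≫ c₂.sec.down) ≫ aX.act := by
        rw [Category.id_comp, Category.id_comp, _root_.one_mul]
      have hR : lift ((lift g (f ≫ c₂.sec.down) ≫ fst G X) * (𝟙 c₁.base ≫ (1 : c₁.base ⟶ G)))
          ((𝟙 c₁.base ≫ f) ≫ c₂.sec.down) ≫ aX.act = lift g (f ≫ c₂.sec.down) ≫ aX.act := by
        rw [Category.id_comp, Category.id_comp, _root_.mul_one, lift_fst]
      have hgg : (1 : c₁.base ⟶ G) * (𝟙 c₁.base ≫ g) =
          (lift g (f ≫ c₂.sec.down) ≫ fst G X) * (𝟙 c₁.base ≫ (1 : c₁.base ⟶ G)) := by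
        rw [Category.id_comp, Category.id_comp, _root_.mul_one, lift_fst, _root_.one_mul]
      exact (trivHom_comp K G aX (𝟙 c₁.base) 1 h₁ f g hg hL).trans
        ((trivHom_congr K G aX hL rfl hgg hR).trans
          (trivHom_comp K G aX (𝟙 c₁.base) (lift g (f ≫ c₂.sec.down) ≫ fst G X) _ f 1 h₂
            hR).symm)

end Groth.Agent.Lib.Helper24.QuotSt3
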