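import Groth.Agent.Lib.Helper24.QuotSt3
set_option autoImplicit false
set_option linter.unusedSimpArgs false
universe u
set_option backward.isDefEq.respectTransparency false
set_option backward.isDefEq.respectTransparency.types false

/-! Every morphism of the quotient stack `[X/G]` is strongly cartesian. -/

namespace Groth.Agent.Lib.Helper24.QuotSt4
open CategoryTheory CategoryTheory.Limits MonoidalCategory CartesianMonoidalCategory MonObj GrpObj
open AlgebraicGeometry Groth.Agent.Lib.Helper24.QuotSt1 Groth.Agent.Lib.Helper24.QuotSt2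
open Groth.Agent.Lib.Helper24.QuotSt3

variable {S : Scheme.{u}} {K : Precoverage Scheme.{u}} {G : Over S} [GrpObj G]
  {X : Over S} {aX : AlgGrp.Action G X}

/-- the lift of `m : C ⟶ B` through `h : A ⟶ B` over `g` -/
noncomputable def liftHom {A B C : AlgSt.QuotObj K G aX} (h : A ⟶ B) (m : C ⟶ B)
    (g : C.base ⟶ A.base) (hg : g ≫ h.base = m.base) : C ⟶ A where
  base := g
  top := h.cart.lift m.top (C.π ≫ g) (by rw [m.cart.w, Category.assoc, hg])
  eqv := by
    apply h.cart.hom_ext
    · rw [Category.assoc, IsPullback.lift_fst, m.eqv, Category.assoc, h.eqv,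
        ← MonoidalCategory.whiskerLeft_comp_assoc, IsPullback.lift_fst]
    · rw [Category.assoc, IsPullback.lift_snd, Category.assoc, A.cart.w,
        whiskerLeft_snd_assoc, IsPullback.lift_snd, ← Category.assoc, C.cart.w, Category.assoc]
  cart := by
    refine IsPullback.of_right ?_ (IsPullback.lift_snd _ _ _ _) h.cart
    rw [IsPullback.lift_fst, hg]
    exact m.cart
  wφ := by rw [← h.wφ, ← Category.assoc, IsPullback.lift_fst, m.wφ]

@[simp] lemma liftHom_base {A B C : AlgSt.QuotObj K G aX} (h : A ⟶ B) (m : C ⟶ B)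
    (g : C.base ⟶ A.base) (hg : g ≫ h.base = m.base) : (liftHom h m g hg).base = g := rfl

lemma liftHom_comp {A B C : AlgSt.QuotObj K G aX} (h : A ⟶ B) (m : C ⟶ B)
    (g : C.base ⟶ A.base) (hg : g ≫ h.base = m.base) : liftHom h m g hg ≫ h = m :=
  AlgSt.QuotObj.Hom.ext hg (IsPullback.lift_fst _ _ _ _)

lemma liftHom_unique {A B C : AlgSt.QuotObj K G aX} (h : A ⟶ B) (m : C ⟶ B)
    (g : C.base ⟶ A.base) (hg : g ≫ h.base = m.base) (l : C ⟶ A) (hl : l.base = g)
    (hlm : l ≫ h = m) : l = liftHom h m g hg := by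
  refine AlgSt.QuotObj.Hom.ext hl ?_
  apply h.cart.hom_ext
  · have : l.top ≫ h.top = m.top := congrArg (fun t => t.top) hlm
    rw [this]
    exact (IsPullback.lift_fst _ _ _ _).symm
  · have : l.top ≫ A.π = C.π ≫ g := by rw [l.cart.w, hl]
    rw [this]
    exact (IsPullback.lift_snd _ _ _ _).symm

instance isStronglyCartesian_map {A B : AlgSt.QuotObj K G aX} (h : A ⟶ B) :
    (AlgSt.QuotSt K G aX).p.IsStronglyCartesian ((AlgSt.QuotSt K G aX).p.map h) h where
  universal_property' := by
    intro C g m hm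
    have hg : g ≫ h.base = m.base :=
      IsHomLift.eq_of_isHomLift (AlgSt.QuotSt K G aX).p
        (g ≫ (AlgSt.QuotSt K G aX).p.map h) m
    refine ⟨liftHom h m g hg, ⟨?_, liftHom_comp h m g hg⟩, ?_⟩
    · have : (AlgSt.QuotSt K G aX).p.IsHomLift
          ((AlgSt.QuotSt K G aX).p.map (liftHom h m g hg)) (liftHom h m g hg) :=
        IsHomLift.map _ _
      exact this
    · rintro l ⟨hl1, hl2⟩
      have hl : l.base = g :=
        (IsHomLift.eq_of_isHomLift (AlgSt.QuotSt K G aX).p g l).symm
      exact liftHom_unique h m g hg l hl hl2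

/-- every morphism lying over `f` is strongly cartesian over `f` -/
theorem scart {A B : AlgSt.QuotObj K G aX} {R T : Over S} (f : R ⟶ T) (h : A ⟶ B)
    [(AlgSt.QuotSt K G aX).p.IsHomLift f h] :
    (AlgSt.QuotSt K G aX).p.IsStronglyCartesian f h := by
  rw [Groth.Agent.Lib.Helper24.FibGrpd.isStronglyCartesian_iff_map]
  infer_instance

end Groth.Agent.Lib.Helper24.QuotSt4
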