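import Groth.Agent.Lib.Helper24.QuotSt4
import Groth.Agent.Lib.Helper24.FibCatYoneda
set_option autoImplicit false
set_option linter.unusedSimpArgs false
universe u
set_option backward.isDefEq.respectTransparency false
set_option backward.isDefEq.respectTransparency.types false

/-! The fibre of `X ⟶ [X/G]` over a torsor is its total space. -/

namespace Groth.Agent.Lib.Helper24.QuotSt5
open CategoryTheory CategoryTheory.Limits MonoidalCategory CartesianMonoidalCategory MonObj GrpObj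
open AlgebraicGeometry Groth.Agent.Lib.Helper24.QuotSt1 Groth.Agent.Lib.Helper24.QuotSt2
open Groth.Agent.Lib.Helper24.QuotSt3 Groth.Agent.Lib.Helper24.QuotSt4

variable {S : Scheme.{u}} {K : Precoverage Scheme.{u}} [K.HasIsos] {G : Over S} [GrpObj G]
  {X : Over S} {aX : AlgGrp.Action G X}

/-- the morphism from a trivial torsor determined by a point of the total space -/
noncomputable def homOfSec (A : AlgSt.QuotObj K G aX) {T : Over S} (s : T ⟶ A.P) {x : T ⟶ X}
    (hx : s ≫ A.φ = x) : triv K G aX x ⟶ A where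
  base := s ≫ A.π
  top := (G ◁ s) ≫ A.act.act
  eqv := (homOfSection A s).eqv
  cart := (homOfSection A s).cart
  wφ := by
    change ((G ◁ s) ≫ A.act.act) ≫ A.φ = (G ◁ x) ≫ aX.act
    rw [← hx, Category.assoc, A.eqv, MonoidalCategory.whiskerLeft_comp, Category.assoc]

@[simp] lemma homOfSec_base (A : AlgSt.QuotObj K G aX) {T : Over S} (s : T ⟶ A.P) {x : T ⟶ X}
    (hx : s ≫ A.φ = x) : (homOfSec A s hx).base = s ≫ A.π := rfl

@[simp] lemma homOfSec_top (A : AlgSt.QuotObj K G aX) {T : Over S} (s : T ⟶ A.P) {x : T ⟶ X}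
    (hx : s ≫ A.φ = x) : (homOfSec A s hx).top = (G ◁ s) ≫ A.act.act := rfl

lemma unitSec_act (A : AlgSt.QuotObj K G aX) {T : Over S} (s : T ⟶ A.P) :
    unitSec G T ≫ (G ◁ s) ≫ A.act.act = s := by
  have h3 : unitSec G T ≫ (G ◁ s) = lift (1 : T ⟶ G) s := by
    apply CartesianMonoidalCategory.hom_ext
    · simp only [Category.assoc, lift_fst, whiskerLeft_fst, unitSec_fst]
    · simp only [Category.assoc, lift_snd, whiskerLeft_snd, unitSec_snd_assoc]
  rw [← Category.assoc, h3, one_act' G A.act]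

/-- every morphism from a trivial torsor is determined by the image of the unit section -/
lemma eq_homOfSec (A : AlgSt.QuotObj K G aX) {T : Over S} {x : T ⟶ X}
    (ρ : triv K G aX x ⟶ A) :
    ∃ (hx : (unitSec G T ≫ ρ.top) ≫ A.φ = x), ρ = homOfSec A (unitSec G T ≫ ρ.top) hx := by
  have heqv : (AlgSt.leftMul G T).act ≫ ρ.top = (G ◁ ρ.top) ≫ A.act.act := ρ.eqv
  have hw : ρ.top ≫ A.π = snd G T ≫ ρ.base := ρ.cart.w
  have hφ : ρ.top ≫ A.φ = (G ◁ x) ≫ aX.act := ρ.wφ
  have h1 : ρ.top = (G ◁ (unitSec G T ≫ ρ.top)) ≫ A.act.act := by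
    have h2 : lift (fst G T) (snd G T ≫ unitSec G T) ≫ (G ◁ ρ.top) =
        (G ◁ (unitSec G T ≫ ρ.top)) := by
      apply CartesianMonoidalCategory.hom_ext
      · simp only [Category.assoc, lift_fst, whiskerLeft_fst]
      · simp only [Category.assoc, lift_snd, whiskerLeft_snd, lift_snd_assoc]
    rw [← h2, Category.assoc, ← heqv, ← Category.assoc, id_eq_act, Category.id_comp]
  have hx : (unitSec G T ≫ ρ.top) ≫ A.φ = x := by
    rw [Category.assoc, hφ]
    have h3 : unitSec G T ≫ (G ◁ x) = lift (1 : T ⟶ G) x := by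
      apply CartesianMonoidalCategory.hom_ext
      · simp only [Category.assoc, lift_fst, whiskerLeft_fst, unitSec_fst]
      · simp only [Category.assoc, lift_snd, whiskerLeft_snd, unitSec_snd_assoc]
    rw [← Category.assoc, h3, one_act' G aX]
  refine ⟨hx, AlgSt.QuotObj.Hom.ext ?_ h1⟩
  rw [homOfSec_base, Category.assoc, hw, unitSec_snd_assoc]

lemma eq_homOfSec' (A : AlgSt.QuotObj K G aX) {T : Over S} {x : T ⟶ X}
    (ρ : triv K G aX x ⟶ A) :
    ∃ (s : T ⟶ A.P) (hx : s ≫ A.φ = x), ρ = homOfSec A s hx := by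
  obtain ⟨hx, h⟩ := eq_homOfSec A ρ
  exact ⟨_, hx, h⟩

section Fibre
open Groth.Agent.Lib.Helper24.FibCatYoneda Groth.Agent.Lib.Helper24.FibCatRepDiag

variable {U : Over S} (y : FibCat.overCat U ⥤ᵇ AlgSt.QuotSt K G aX)

/-- the torsor classified by `y` -/
noncomputable abbrev tors : AlgSt.QuotObj K G aX := y.toFunctor.obj (Over.mk (𝟙 U))

lemma tors_base : (tors y).base = U := y.w_obj (Over.mk (𝟙 U))

/-- the structure morphism of the torsor, to `U` -/
noncomputable def piU : (tors y).P ⟶ U := (tors y).π ≫ eqToHom (tors_base y)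

/-- the first projection from the total space -/
noncomputable def aFun : AlgSt.ofSch (tors y).P ⥤ᵇ FibCat.overCat U :=
  BasedFunctor.comp (AlgSt.ofSpMap ((AlgSp.yon S).map (piU y))) (AlgSt.toOverCat U)

/-- the second projection from the total space -/
noncomputable def bFun : AlgSt.ofSch (tors y).P ⥤ᵇ FibCat.overCat X :=
  BasedFunctor.comp (AlgSt.ofSpMap ((AlgSp.yon S).map (tors y).φ)) (AlgSt.toOverCat X)

/-- `X ⟶ [X/G]` with source the slice over `X` -/
noncomputable abbrev fQ : FibCat.overCat X ⥤ᵇ AlgSt.QuotSt K G aX :=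
  BasedFunctor.comp (AlgSt.ofOverCat X) (AlgSt.quotMap K G aX)

lemma aFun_obj (w : (AlgSt.ofSch (tors y).P).obj) :
    (aFun y).toFunctor.obj w = Over.mk (w.sec.down ≫ piU y) := rfl

lemma fQ_bFun_obj (w : (AlgSt.ofSch (tors y).P).obj) :
    (fQ (K := K) (aX := aX)).toFunctor.obj ((bFun y).toFunctor.obj w) =
      triv K G aX (w.sec.down ≫ (tors y).φ) := rfl

/-- the cartesian morphism from the trivial torsor attached to a point of the total space -/
noncomputable def sig (w : (AlgSt.ofSch (tors y).P).obj) :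
    triv K G aX (w.sec.down ≫ (tors y).φ) ⟶ tors y := homOfSec (tors y) w.sec.down rfl

lemma sig_lift (w : (AlgSt.ofSch (tors y).P).obj) :
    (AlgSt.QuotSt K G aX).p.IsHomLift (w.sec.down ≫ piU y) (sig y w) := by
  apply IsHomLift.of_fac' _ _ _ rfl (tors_base y)
  change w.sec.down ≫ (tors y).π = 𝟙 _ ≫ (w.sec.down ≫ piU y) ≫ eqToHom (tors_base y).symm
  simp [piU]

/-- the canonical morphism to the classified torsor -/
noncomputable def mu (c : Over U) : y.toFunctor.obj c ⟶ tors y := y.toFunctor.map (tOf c)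

lemma mu_lift (c : Over U) : (AlgSt.QuotSt K G aX).p.IsHomLift c.hom (mu y c) :=
  map_tOf_lift y c

lemma map_mu {c c' : Over U} (m : c ⟶ c') : y.toFunctor.map m ≫ mu y c' = mu y c := by
  rw [mu, mu, ← Functor.map_comp, map_tOf_comp]

lemma sig_scart (w : (AlgSt.ofSch (tors y).P).obj) :
    (AlgSt.QuotSt K G aX).p.IsStronglyCartesian (w.sec.down ≫ piU y) (sig y w) :=
  have := sig_lift y w
  scart _ _

lemma mu_scart (w : (AlgSt.ofSch (tors y).P).obj) :
    (AlgSt.QuotSt K G aX).p.IsStronglyCartesian (w.sec.down ≫ piU y)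
      (mu y ((aFun y).toFunctor.obj w)) :=
  have : (AlgSt.QuotSt K G aX).p.IsHomLift (w.sec.down ≫ piU y)
      (mu y ((aFun y).toFunctor.obj w)) := mu_lift y ((aFun y).toFunctor.obj w)
  scart (w.sec.down ≫ piU y) (mu y ((aFun y).toFunctor.obj w))

/-- the comparison isomorphism at a point of the total space -/
noncomputable def epsApp (w : (AlgSt.ofSch (tors y).P).obj) :
    y.toFunctor.obj ((aFun y).toFunctor.obj w) ≅ triv K G aX (w.sec.down ≫ (tors y).φ) :=
  have := sig_scart y w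
  have := mu_scart y w
  Functor.IsCartesian.domainUniqueUpToIso (AlgSt.QuotSt K G aX).p (w.sec.down ≫ piU y)
    (sig y w) (mu y ((aFun y).toFunctor.obj w))

lemma epsApp_fac (w : (AlgSt.ofSch (tors y).P).obj) :
    (epsApp y w).hom ≫ sig y w = mu y ((aFun y).toFunctor.obj w) := by
  have := sig_scart y w
  have := mu_scart y w
  exact Functor.IsCartesian.fac (AlgSt.QuotSt K G aX).p (w.sec.down ≫ piU y)
    (sig y w) (mu y ((aFun y).toFunctor.obj w))

lemma epsApp_lift (w : (AlgSt.ofSch (tors y).P).obj) :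
    (AlgSt.QuotSt K G aX).p.IsHomLift (𝟙 w.base) (epsApp y w).hom := by
  have := sig_scart y w
  have := mu_scart y w
  exact Functor.IsCartesian.domainUniqueUpToIso_inv_isHomLift (AlgSt.QuotSt K G aX).p
    (w.sec.down ≫ piU y) (sig y w) (mu y ((aFun y).toFunctor.obj w))

lemma map_sec_down' {c c' : (AlgSt.ofSch (tors y).P).obj} (m : c ⟶ c') :
    m.hom ≫ c'.sec.down = c.sec.down := congrArg ULift.down m.map_sec

lemma fQ_map_sig {w w' : (AlgSt.ofSch (tors y).P).obj} (m : w ⟶ w') :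
    (fQ (K := K) (aX := aX)).toFunctor.map ((bFun y).toFunctor.map m) ≫ sig y w' = sig y w := by
  have hm := map_sec_down' y m
  refine AlgSt.QuotObj.Hom.ext ?_ ?_
  · change m.hom ≫ (w'.sec.down ≫ (tors y).π) = w.sec.down ≫ (tors y).π
    rw [← Category.assoc, hm]
  · change (G ◁ m.hom) ≫ (G ◁ w'.sec.down) ≫ (tors y).act.act =
      (G ◁ w.sec.down) ≫ (tors y).act.act
    rw [← MonoidalCategory.whiskerLeft_comp_assoc, hm]

lemma aFun_map_lift {w w' : (AlgSt.ofSch (tors y).P).obj} (m : w ⟶ w') :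
    (AlgSt.QuotSt K G aX).p.IsHomLift m.hom (y.toFunctor.map ((aFun y).toFunctor.map m)) :=
  map_lift y _ _ (over_lift_self ((aFun y).toFunctor.map m))

lemma fQ_bFun_map_lift {w w' : (AlgSt.ofSch (tors y).P).obj} (m : w ⟶ w') :
    (AlgSt.QuotSt K G aX).p.IsHomLift m.hom
      ((fQ (K := K) (aX := aX)).toFunctor.map ((bFun y).toFunctor.map m)) :=
  map_lift (fQ (K := K) (aX := aX)) _ _ (over_lift_self ((bFun y).toFunctor.map m))

lemma eps_naturality {w w' : (AlgSt.ofSch (tors y).P).obj} (m : w ⟶ w') :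
    y.toFunctor.map ((aFun y).toFunctor.map m) ≫ (epsApp y w').hom =
      (epsApp y w).hom ≫
        (fQ (K := K) (aX := aX)).toFunctor.map ((bFun y).toFunctor.map m) := by
  have := sig_scart y w'
  have h1 : (AlgSt.QuotSt K G aX).p.IsHomLift m.hom
      (y.toFunctor.map ((aFun y).toFunctor.map m) ≫ (epsApp y w').hom) :=
    comp_id_right _ _ _ _ (aFun_map_lift y m) (epsApp_lift y w')
  have h2 : (AlgSt.QuotSt K G aX).p.IsHomLift m.hom ((epsApp y w).hom ≫
      (fQ (K := K) (aX := aX)).toFunctor.map ((bFun y).toFunctor.map m)) :=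
    comp_id_left _ _ _ _ (epsApp_lift y w) (fQ_bFun_map_lift y m)
  apply Functor.IsStronglyCartesian.ext (AlgSt.QuotSt K G aX).p (w'.sec.down ≫ piU y)
    (sig y w') m.hom
  rw [Category.assoc, epsApp_fac, map_mu, Category.assoc, fQ_map_sig, epsApp_fac]

/-- the 2-isomorphism of the square -/
noncomputable def eps : BasedFunctor.comp (aFun y) y ≅
    BasedFunctor.comp (bFun y) (fQ (K := K) (aX := aX)) :=
  BasedNatIso.mkNatIso
    (NatIso.ofComponents (fun w => epsApp y w) (fun {w w'} m => eps_naturality y m))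
    (fun w => epsApp_lift y w)

lemma eps_app (w : (AlgSt.ofSch (tors y).P).obj) :
    (eps y).hom.toNatTrans.app w = (epsApp y w).hom := rfl

lemma lift_unique {𝒳 𝒮 : Type*} [Category 𝒳] [Category 𝒮] (p : 𝒳 ⥤ 𝒮) {R T : 𝒮} (f f' : R ⟶ T)
    {a b : 𝒳} (φ : a ⟶ b) (h : p.IsHomLift f φ) (h' : p.IsHomLift f' φ) : f = f' := by
  have h1 := IsHomLift.fac p f φ
  have h2 := IsHomLift.fac p f' φ
  rw [h1, h2]

lemma surj_aux {T : Over S} (t : T ⟶ U) (x' : T ⟶ X)
    (i : y.toFunctor.obj (Over.mk t) ≅ triv K G aX x')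
    (hzp : (AlgSt.QuotSt K G aX).p.IsHomLift (𝟙 T) i.hom) :
    ∃ (w : (AlgSt.ofSch (tors y).P).obj) (α : (aFun y).toFunctor.obj w ≅ Over.mk t)
      (β : (bFun y).toFunctor.obj w ≅ Over.mk x'),
      (FibCat.overCat U).p.IsHomLift (𝟙 T) α.hom ∧
      y.toFunctor.map α.hom ≫ i.hom =
        (eps y).hom.toNatTrans.app w ≫ (fQ (K := K) (aX := aX)).toFunctor.map β.hom := by
  have hinv : (AlgSt.QuotSt K G aX).p.IsHomLift (𝟙 T) i.inv :=
    IsHomLift.lift_id_inv (AlgSt.QuotSt K G aX).p T i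
  have hmu : (AlgSt.QuotSt K G aX).p.IsHomLift t (mu y (Over.mk t)) := mu_lift y (Over.mk t)
  obtain ⟨ρ, hρ⟩ : ∃ ρ : triv K G aX x' ⟶ tors y, ρ = i.inv ≫ mu y (Over.mk t) := ⟨_, rfl⟩
  have hρl : (AlgSt.QuotSt K G aX).p.IsHomLift t ρ := by
    rw [hρ]; exact comp_id_left _ _ _ _ hinv hmu
  obtain ⟨s, hx, hρs⟩ := eq_homOfSec' (tors y) ρ
  have hσ : (AlgSt.QuotSt K G aX).p.IsHomLift (s ≫ piU y) (homOfSec (tors y) s hx) := by
    apply IsHomLift.of_fac' _ _ _ rfl (tors_base y)
    change s ≫ (tors y).π = 𝟙 _ ≫ (s ≫ piU y) ≫ eqToHom (tors_base y).symm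
    simp [piU]
  have hst : s ≫ piU y = t := by
    rw [← hρs] at hσ
    exact lift_unique _ _ _ _ hσ hρl
  let w : (AlgSt.ofSch (tors y).P).obj := ⟨T, ⟨s⟩⟩
  let α : (aFun y).toFunctor.obj w ≅ Over.mk t :=
    Over.isoMk (Iso.refl T) (by
      change 𝟙 T ≫ t = s ≫ piU y
      rw [Category.id_comp, hst])
  let β : (bFun y).toFunctor.obj w ≅ Over.mk x' :=
    Over.isoMk (Iso.refl T) (by
      change 𝟙 T ≫ x' = s ≫ (tors y).φ
      rw [Category.id_comp, hx])
  refine ⟨w, α, β, ?_, ?_⟩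
  · exact over_lift_self α.hom
  · have hsc : (AlgSt.QuotSt K G aX).p.IsStronglyCartesian t ρ := by
      have := hρl
      exact scart t ρ
    have h1 : (AlgSt.QuotSt K G aX).p.IsHomLift (𝟙 T) (y.toFunctor.map α.hom ≫ i.hom) := by
      have hα : (AlgSt.QuotSt K G aX).p.IsHomLift (𝟙 T) (y.toFunctor.map α.hom) :=
        map_lift y _ _ (over_lift_self α.hom)
      exact comp_id_left _ _ _ _ hα hzp
    have h2 : (AlgSt.QuotSt K G aX).p.IsHomLift (𝟙 T)
        ((eps y).hom.toNatTrans.app w ≫ (fQ (K := K) (aX := aX)).toFunctor.map β.hom) := by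
      have hβ : (AlgSt.QuotSt K G aX).p.IsHomLift (𝟙 T)
          ((fQ (K := K) (aX := aX)).toFunctor.map β.hom) :=
        map_lift (fQ (K := K) (aX := aX)) _ _ (over_lift_self β.hom)
      exact comp_id_left _ _ _ _ (epsApp_lift y w) hβ
    apply Functor.IsStronglyCartesian.ext (AlgSt.QuotSt K G aX).p t ρ (𝟙 T)
    have hL : (y.toFunctor.map α.hom ≫ i.hom) ≫ ρ = mu y ((aFun y).toFunctor.obj w) := by
      rw [hρ, Category.assoc, Iso.hom_inv_id_assoc, map_mu]
    have hR : (fQ (K := K) (aX := aX)).toFunctor.map β.hom ≫ ρ = sig y w := by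
      rw [hρs]
      refine AlgSt.QuotObj.Hom.ext ?_ ?_
      · change 𝟙 T ≫ (s ≫ (tors y).π) = s ≫ (tors y).π
        rw [Category.id_comp]
      · change (G ◁ 𝟙 T) ≫ (G ◁ s) ≫ (tors y).act.act = (G ◁ s) ≫ (tors y).act.act
        rw [MonoidalCategory.whiskerLeft_id, Category.id_comp]
    rw [hL, Category.assoc, hR, eps_app, epsApp_fac]

open Groth.Agent.Lib.Helper24.FibCatTwoCart in
/-- the total space of the torsor classified by `y` is the fibre of `X ⟶ [X/G]` over `y` -/
theorem isEquivOver_fpLift_eps :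
    FibCat.IsEquivOver (FibCat.fpLift (aFun y) (bFun y) (eps y)) := by
  refine isEquivOver_fpLift_of _ _ _ ?_ ?_ ?_
  · intro w w' m m' h _
    have h1 : m.hom = m'.hom := congrArg (fun t => t.left) h
    exact Stk.EltObj.hom_ext h1
  · intro w w' u v huv
    have huv' : y.toFunctor.map u ≫ (epsApp y w').hom =
        (epsApp y w).hom ≫ (fQ (K := K) (aX := aX)).toFunctor.map v := huv
    -- the base morphisms agree
    have hu : (AlgSt.QuotSt K G aX).p.IsHomLift u.left (y.toFunctor.map u) :=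
      map_lift y _ _ (over_lift_self u)
    have hv : (AlgSt.QuotSt K G aX).p.IsHomLift v.left
        ((fQ (K := K) (aX := aX)).toFunctor.map v) :=
      map_lift (fQ (K := K) (aX := aX)) _ _ (over_lift_self v)
    have h1 : (AlgSt.QuotSt K G aX).p.IsHomLift u.left
        (y.toFunctor.map u ≫ (epsApp y w').hom) :=
      comp_id_right _ _ _ _ hu (epsApp_lift y w')
    have h2 : (AlgSt.QuotSt K G aX).p.IsHomLift v.left
        ((epsApp y w).hom ≫ (fQ (K := K) (aX := aX)).toFunctor.map v) :=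
      comp_id_left _ _ _ _ (epsApp_lift y w) hv
    rw [← huv'] at h2
    have hleft : u.left = v.left := lift_unique _ _ _ _ h1 h2
    -- the sections agree
    have h3 : sig y w = (fQ (K := K) (aX := aX)).toFunctor.map v ≫ sig y w' := by
      rw [← Iso.cancel_iso_hom_left (epsApp y w), epsApp_fac, ← Category.assoc, ← huv',
        Category.assoc, epsApp_fac, map_mu]
    have h4 : (G ◁ w.sec.down) ≫ (tors y).act.act =
        (G ◁ v.left) ≫ (G ◁ w'.sec.down) ≫ (tors y).act.act := congrArg (fun t => t.top) h3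
    have h5 : w.sec.down = v.left ≫ w'.sec.down := by
      have := congrArg (fun t => unitSec G w.base ≫ t) h4
      simp only at this
      rw [unitSec_act, ← MonoidalCategory.whiskerLeft_comp_assoc, unitSec_act] at this
      exact this
    refine ⟨⟨v.left, congrArg ULift.up h5.symm⟩, ?_, ?_⟩
    · apply Over.OverMorphism.ext
      exact hleft.symm
    · apply Over.OverMorphism.ext
      rfl
  · rintro ⟨zo, zp⟩
    obtain ⟨c, c', i, hi⟩ : ∃ (c : Over U) (c' : Over X)
        (i : y.toFunctor.obj c ≅ triv K G aX c'.hom), zo = ⟨c, c', i⟩ :=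
      ⟨zo.fst, zo.snd, zo.iso, rfl⟩
    subst hi
    have hzp : (AlgSt.QuotSt K G aX).p.IsHomLift (𝟙 c.left) i.hom := zp
    obtain ⟨T, t, rfl⟩ : ∃ (T : Over S) (t : T ⟶ U), c = Over.mk t := ⟨c.left, c.hom, rfl⟩
    obtain ⟨T', x', rfl⟩ : ∃ (T' : Over S) (x' : T' ⟶ X), c' = Over.mk x' :=
      ⟨c'.left, c'.hom, rfl⟩
    have hT : T' = T := by
      have hzp' : (AlgSt.QuotSt K G aX).p.IsHomLift (𝟙 T) i.hom := hzp
      exact (IsHomLift.codomain_eq (AlgSt.QuotSt K G aX).p (𝟙 T) i.hom)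
    subst hT
    exact surj_aux y t x' i hzp

end Fibre

end Groth.Agent.Lib.Helper24.QuotSt5
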