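import Groth.Agent.Lib.Helper24.QuotSt8
import Groth.Agent.Lib.Helper24.StkCone
set_option autoImplicit false
set_option linter.unusedSimpArgs false
universe u
set_option backward.isDefEq.respectTransparency false
set_option backward.isDefEq.respectTransparency.types false

/-! Cartesian systems over a covering sieve: the vertex is the colimit. -/

namespace Groth.Agent.Lib.Helper24.QuotSt9
open CategoryTheory CategoryTheory.Limits MonoidalCategory CartesianMonoidalCategory Opposite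
open AlgebraicGeometry MonObj GrpObj

variable {S : Scheme.{u}} {U : Over S}

/-- a system of objects over the arrows of a sieve which are all pulled back from one object over
`U` -/
structure CartSys (R : Sieve U) where
  N : Over S
  πN : N ⟶ U
  Q : (Stk.sieveCat R).obj → Over S
  q : ∀ a, Q a ⟶ N
  p : ∀ a : (Stk.sieveCat R).obj, Q a ⟶ a.obj.left
  cart : ∀ a : (Stk.sieveCat R).obj, IsPullback (q a) (p a) πN a.obj.hom
  t : ∀ {a b : (Stk.sieveCat R).obj} (_ : a ⟶ b), Q a ⟶ Q b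
  t_q : ∀ {a b : (Stk.sieveCat R).obj} (m : a ⟶ b), t m ≫ q b = q a
  t_p : ∀ {a b : (Stk.sieveCat R).obj} (m : a ⟶ b), t m ≫ p b = p a ≫ m.hom.left

namespace CartSys
variable {R : Sieve U} (σ : CartSys R)

/-- the arrow of the sieve attached to a point of the vertex -/
def aOf {T : Over S} (g : T ⟶ σ.N) (hg : R (g ≫ σ.πN)) : (Stk.sieveCat R).obj :=
  ⟨Over.mk (g ≫ σ.πN), hg⟩

/-- the tautological section over a point of the vertex -/
noncomputable def sec {T : Over S} (g : T ⟶ σ.N) (hg : R (g ≫ σ.πN)) : T ⟶ σ.Q (σ.aOf g hg) :=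
  (σ.cart (σ.aOf g hg)).lift g (𝟙 T) (by rw [Category.id_comp]; rfl)

@[reassoc] lemma sec_q {T : Over S} (g : T ⟶ σ.N) (hg : R (g ≫ σ.πN)) :
    σ.sec g hg ≫ σ.q (σ.aOf g hg) = g := (σ.cart (σ.aOf g hg)).lift_fst _ _ _

@[reassoc] lemma sec_p {T : Over S} (g : T ⟶ σ.N) (hg : R (g ≫ σ.πN)) :
    σ.sec g hg ≫ σ.p (σ.aOf g hg) = 𝟙 T := (σ.cart (σ.aOf g hg)).lift_snd _ _ _

/-- the morphism of the sieve induced by precomposition -/
def mOf {T T' : Over S} (k : T' ⟶ T) (g : T ⟶ σ.N) (hg : R (g ≫ σ.πN))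
    (hkg : R ((k ≫ g) ≫ σ.πN)) : σ.aOf (k ≫ g) hkg ⟶ σ.aOf g hg :=
  ObjectProperty.homMk (Over.homMk k (by
    change k ≫ g ≫ σ.πN = (k ≫ g) ≫ σ.πN
    rw [Category.assoc]))

lemma sec_t {T T' : Over S} (k : T' ⟶ T) (g : T ⟶ σ.N) (hg : R (g ≫ σ.πN))
    (hkg : R ((k ≫ g) ≫ σ.πN)) :
    σ.sec (k ≫ g) hkg ≫ σ.t (σ.mOf k g hg hkg) = k ≫ σ.sec g hg := by
  apply (σ.cart (σ.aOf g hg)).hom_ext
  · rw [Category.assoc, σ.t_q, sec_q, Category.assoc, sec_q]
  · rw [Category.assoc, σ.t_p, sec_p_assoc, Category.assoc, sec_p, Category.comp_id]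
    rfl

/-- the morphism of the sieve from the arrow attached to `q a` back to `a` -/
def nOf (a : (Stk.sieveCat R).obj) (h : R (σ.q a ≫ σ.πN)) : σ.aOf (σ.q a) h ⟶ a :=
  ObjectProperty.homMk (Over.homMk (σ.p a) (by
    change σ.p a ≫ a.obj.hom = σ.q a ≫ σ.πN
    exact (σ.cart a).w.symm))

lemma sec_nOf (a : (Stk.sieveCat R).obj) (h : R (σ.q a ≫ σ.πN)) :
    σ.sec (σ.q a) h ≫ σ.t (σ.nOf a h) = 𝟙 (σ.Q a) := by
  apply (σ.cart a).hom_ext
  · rw [Category.assoc, σ.t_q, sec_q, Category.id_comp]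
  · rw [Category.assoc, σ.t_p, sec_p_assoc, Category.id_comp]
    rfl

lemma mem_q (a : (Stk.sieveCat R).obj) : R (σ.q a ≫ σ.πN) := by
  rw [(σ.cart a).w]
  exact R.downward_closed a.property _

section Glue
variable {K : Precoverage Scheme.{u}} (hR : R ∈ QuotSh.J K S U)
  (hsub : ∀ Z : Over S, Presieve.IsSheaf (QuotSh.J K S) (yoneda.obj Z))

include hR in
lemma pullback_mem : Sieve.pullback σ.πN R ∈ QuotSh.J K S σ.N :=
  (QuotSh.J K S).pullback_stable σ.πN hR

variable {Z : Over S} (z : ∀ a, σ.Q a ⟶ Z)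
  (hz : ∀ {a b : (Stk.sieveCat R).obj} (m : a ⟶ b), σ.t m ≫ z b = z a)

/-- the family of elements defined by a compatible family of maps out of the `Q a` -/
noncomputable def fam : Presieve.FamilyOfElements (yoneda.obj Z) (Sieve.pullback σ.πN R).arrows :=
  fun _ g hg => σ.sec g hg ≫ z (σ.aOf g hg)

include hz in
lemma fam_compatible : (σ.fam z).Compatible := by
  rw [Presieve.compatible_iff_sieveCompatible]
  intro T T' g k hg
  change σ.sec (k ≫ g) _ ≫ z _ = k ≫ σ.sec g hg ≫ z _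
  rw [← hz (σ.mOf k g hg _), ← Category.assoc, sec_t, Category.assoc]

include hz in
lemma fam_q (a : (Stk.sieveCat R).obj) : σ.fam z (σ.q a) (σ.mem_q a) = z a := by
  change σ.sec (σ.q a) _ ≫ z _ = z a
  rw [← hz (σ.nOf a (σ.mem_q a)), ← Category.assoc, sec_nOf, Category.id_comp]

include hR hsub hz in
/-- **maps out of the vertex of a cartesian system over a covering sieve glue** -/
theorem exists_unique_glue : ∃! ζ : σ.N ⟶ Z, ∀ a, σ.q a ≫ ζ = z a := by
  have hsh := hsub Z _ (σ.pullback_mem hR)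
  obtain ⟨ζ, hζ, huniq⟩ := hsh (σ.fam z) (σ.fam_compatible z hz)
  refine ⟨ζ, fun a => ?_, fun ζ' hζ' => ?_⟩
  · have := hζ (σ.q a) (σ.mem_q a)
    rw [fam_q σ z hz] at this
    exact this
  · apply huniq
    intro T g hg
    change g ≫ ζ' = σ.sec g hg ≫ z _
    rw [← hζ', sec_q_assoc]

include hR hsub in
/-- the maps `q a` are jointly epimorphic -/
theorem hom_ext {ζ ζ' : σ.N ⟶ Z} (h : ∀ a, σ.q a ≫ ζ = σ.q a ≫ ζ') : ζ = ζ' := by
  have hz : ∀ {a b : (Stk.sieveCat R).obj} (m : a ⟶ b),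
      σ.t m ≫ (fun b => σ.q b ≫ ζ') b = (fun a => σ.q a ≫ ζ') a := by
    intro a b m
    change σ.t m ≫ σ.q b ≫ ζ' = σ.q a ≫ ζ'
    rw [← Category.assoc, σ.t_q]
  obtain ⟨ξ, -, hu⟩ := σ.exists_unique_glue hR hsub (fun a => σ.q a ≫ ζ') hz
  rw [hu ζ h, hu ζ' (fun a => rfl)]

end Glue

/-- the product of a cartesian system with an object -/
noncomputable def whisker (W : Over S) : CartSys R where
  N := W ⊗ σ.N
  πN := snd W σ.N ≫ σ.πN
  Q a := W ⊗ σ.Q a
  q a := W ◁ σ.q a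
  p a := snd W (σ.Q a) ≫ σ.p a
  cart a := (AlgSt.isPullback_whiskerLeft (G := W) (σ.q a)).paste_vert (σ.cart a)
  t m := W ◁ σ.t m
  t_q m := by rw [← MonoidalCategory.whiskerLeft_comp, σ.t_q]
  t_p m := by rw [whiskerLeft_snd_assoc, σ.t_p, Category.assoc]

@[simp] lemma whisker_N (W : Over S) : (σ.whisker W).N = W ⊗ σ.N := rfl
@[simp] lemma whisker_q (W : Over S) (a : (Stk.sieveCat R).obj) :
    (σ.whisker W).q a = W ◁ σ.q a := rfl

end CartSys

lemma isPullback_eqToHom {C : Type*} [Category C] {P X Y Z X' Z' : C} {t : P ⟶ Y} {l : P ⟶ X}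
    {r : Y ⟶ Z} {b : X ⟶ Z} (h : IsPullback t l r b) (hX : X = X') (hZ : Z = Z') (b' : X' ⟶ Z')
    (hb : b = eqToHom hX ≫ b' ≫ eqToHom hZ.symm) :
    IsPullback t (l ≫ eqToHom hX) (r ≫ eqToHom hZ) b' := by
  subst hX hZ
  simp only [eqToHom_refl, Category.id_comp, Category.comp_id] at hb ⊢
  subst hb
  exact h

section OfCone
open Groth.Agent.Lib.Helper24.StkCone
variable {K : Precoverage Scheme.{u}} {G : Over S} [GrpObj G] {X : Over S}
  {aX : AlgGrp.Action G X} {R : Sieve U} {Ψ : Stk.sieveCat R ⥤ᵇ AlgSt.QuotSt K G aX}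

lemma base_eq_of_lift {A B : AlgSt.QuotObj K G aX} {V W : Over S} (f : V ⟶ W) (h : A ⟶ B)
    (hl : (AlgSt.QuotSt K G aX).p.IsHomLift f h) (hA : A.base = V) (hB : B.base = W) :
    h.base = eqToHom hA ≫ f ≫ eqToHom hB.symm :=
  IsHomLift.fac' (AlgSt.QuotSt K G aX).p f h

lemma map_base {a b : (Stk.sieveCat R).obj} (m : a ⟶ b) :
    (Ψ.toFunctor.map m).base =
      eqToHom (Ψ.w_obj a) ≫ m.hom.left ≫ eqToHom (Ψ.w_obj b).symm :=
  base_eq_of_lift m.hom.left _
    (Groth.Agent.Lib.Helper24.FibCatRepDiag.map_lift Ψ _ _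
      (Groth.Agent.Lib.Helper24.StkRefine.sieveCat_lift m)) (Ψ.w_obj a) (Ψ.w_obj b)

/-- the cartesian system of a cone over a section of `[X/G]` over a sieve -/
noncomputable def ofCone {A : AlgSt.QuotObj K G aX} (c : Cone R Ψ A) (hA : A.base = U) :
    CartSys R where
  N := A.P
  πN := A.π ≫ eqToHom hA
  Q a := (Ψ.toFunctor.obj a).P
  q a := (c.θ a).top
  p a := (Ψ.toFunctor.obj a).π ≫ eqToHom (Ψ.w_obj a)
  cart a := isPullback_eqToHom (c.θ a).cart (Ψ.w_obj a) hA a.obj.hom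
    (base_eq_of_lift a.obj.hom _ (c.lift a) (Ψ.w_obj a) hA)
  t m := (Ψ.toFunctor.map m).top
  t_q m := congrArg (fun h => h.top) (c.nat m)
  t_p {a b} m := by
    have h := (Ψ.toFunctor.map m).cart.w
    rw [← Category.assoc, h, map_base m]
    simp

end OfCone

end Groth.Agent.Lib.Helper24.QuotSt9
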