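import Groth.Agent.Lib.Helper14.AlgSpSect
import Groth.Agent.Lib.Helper14.AlgSpBasic2
import Groth.Prelude.Def_AlgSpRep
set_option autoImplicit false
open CategoryTheory CategoryTheory.Limits AlgebraicGeometry Opposite
universe u
set_option backward.isDefEq.respectTransparency false
set_option backward.isDefEq.respectTransparency.types false

namespace Groth.Agent.Lib.Helper24.RepBySp
open AlgSp Groth.Agent.Lib.Helper14.AS

variable {S : Scheme.{u}}

/-- `F ⟶ G` with `G` having representable diagonal and all base changes of `F` to schemes having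
representable diagonal: `F` has representable diagonal. -/
theorem repDiag_of_fibres {F G : Sp S} (a : F ⟶ G) (hG : RepDiag G)
    (hfib : ∀ ⦃T : Over S⦄ (g : (yon S).obj T ⟶ G) ⦃P : Sp S⦄ (p₁ : P ⟶ F)
      (p₂ : P ⟶ (yon S).obj T), IsPullback p₁ p₂ a g → RepDiag P) : RepDiag F := by
  intro U x V y
  -- W = U ×_G V
  have hxa : Representable (x ≫ a) := hG (x ≫ a)
  let W := hxa.pullback (y ≫ a)
  let w₁ : (yon S).obj W ⟶ (yon S).obj U := hxa.fst (y ≫ a)
  let w₂ : W ⟶ V := hxa.snd (y ≫ a)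
  have sqW : IsPullback w₁ ((yon S).map w₂) (x ≫ a) (y ≫ a) := hxa.isPullback (y ≫ a)
  let g : (yon S).obj W ⟶ G := w₁ ≫ x ≫ a
  have hg : g = (yon S).map w₂ ≫ y ≫ a := sqW.w
  -- P = W ×_G F
  let P := pullback a g
  let p₁ : P ⟶ F := pullback.fst a g
  let p₂ : P ⟶ (yon S).obj W := pullback.snd a g
  have sqP : IsPullback p₁ p₂ a g := IsPullback.of_hasPullback a g
  have hP : RepDiag P := hfib g p₁ p₂ sqP
  let sx : (yon S).obj W ⟶ P := sqP.lift (w₁ ≫ x) (𝟙 _) (by simp [g])
  let sy : (yon S).obj W ⟶ P := sqP.lift ((yon S).map w₂ ≫ y) (𝟙 _) (by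
    rw [Category.id_comp, Category.assoc]; exact hg.symm)
  have hsx1 : sx ≫ p₁ = w₁ ≫ x := sqP.lift_fst _ _ _
  have hsx2 : sx ≫ p₂ = 𝟙 _ := sqP.lift_snd _ _ _
  have hsy1 : sy ≫ p₁ = (yon S).map w₂ ≫ y := sqP.lift_fst _ _ _
  have hsy2 : sy ≫ p₂ = 𝟙 _ := sqP.lift_snd _ _ _
  have hsx : Representable sx := hP sx
  let Z := hsx.pullback sy
  let z₁ : (yon S).obj Z ⟶ (yon S).obj W := hsx.fst sy
  let z₂ : Z ⟶ W := hsx.snd sy
  have sqZ : IsPullback z₁ ((yon S).map z₂) sx sy := hsx.isPullback sy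
  have hz : z₁ = (yon S).map z₂ := by
    have := congrArg (· ≫ p₂) sqZ.w
    simpa only [Category.assoc, hsx2, hsy2, Category.comp_id] using this
  refine ⟨Z, z₂ ≫ w₂, z₁ ≫ w₁, ?_⟩
  have w : (z₁ ≫ w₁) ≫ x = (yon S).map (z₂ ≫ w₂) ≫ y := by
    have := congrArg (· ≫ p₁) sqZ.w
    simp only [Category.assoc, hsx1, hsy1] at this
    rw [Category.assoc, this, Functor.map_comp, Category.assoc]
  refine isPullback_of_exists_unique w ?_ ?_
  · intro T α β hαβ
    have h1 : α ≫ x ≫ a = β ≫ y ≫ a := by rw [← Category.assoc, hαβ, Category.assoc]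
    let γ : T ⟶ (yon S).obj W := sqW.lift α β h1
    have hγ1 : γ ≫ w₁ = α := sqW.lift_fst _ _ _
    have hγ2 : γ ≫ (yon S).map w₂ = β := sqW.lift_snd _ _ _
    have h2 : γ ≫ sx = γ ≫ sy := by
      apply sqP.hom_ext
      · rw [Category.assoc, Category.assoc, hsx1, hsy1, ← Category.assoc, hγ1, ← Category.assoc,
          hγ2, hαβ]
      · rw [Category.assoc, Category.assoc, hsx2, hsy2]
    refine ⟨sqZ.lift γ γ h2, ?_, ?_⟩
    · rw [← Category.assoc, sqZ.lift_fst, hγ1]
    · rw [Functor.map_comp, ← Category.assoc, sqZ.lift_snd, hγ2]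
  · intro T δ δ' h1 h2
    have e1 : ∀ d : T ⟶ (yon S).obj Z, d ≫ (yon S).map z₂ = d ≫ z₁ := fun d => by rw [hz]
    apply sqZ.hom_ext
    · apply sqW.hom_ext
      · simpa only [Category.assoc] using h1
      · rw [Category.assoc, Category.assoc, hz, ← Functor.map_comp]
        exact h2
    · rw [e1, e1]
      apply sqW.hom_ext
      · simpa only [Category.assoc] using h1
      · rw [Category.assoc, Category.assoc, hz, ← Functor.map_comp]
        exact h2

/-- Bootstrap: a sheaf with a map representable by algebraic spaces to an algebraic space is an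
algebraic space. -/
theorem isAlgSpace_of_repBySp {F G : Sp S} (a : F ⟶ G) (ha : RepBySp a.hom) (hG : IsAlgSpace G) :
    IsAlgSpace F := by
  rw [repBySp_hom_iff] at ha
  refine ⟨(repDiag_iff F).2 (repDiag_of_fibres a (repDiag_of_isAlgSpace hG)
    (fun T g P p₁ p₂ sq => repDiag_of_isAlgSpace (ha g p₁ p₂ sq))), ?_⟩
  obtain ⟨V, p, hpe, hps⟩ := hG.atlas
  let P := pullback a p
  have sqP : IsPullback (pullback.fst a p) (pullback.snd a p) a p := IsPullback.of_hasPullback a p
  have hP : IsAlgSpace P := ha p _ _ sqP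
  obtain ⟨W, q, hqe, hqs⟩ := hP.atlas
  exact ⟨W, q ≫ pullback.fst a p,
    repWith_comp @Etale hqe (repWith_of_isPullback @Etale sqP.flip hpe),
    repWith_comp @Surjective hqs (repWith_of_isPullback @Surjective sqP.flip hps)⟩

end Groth.Agent.Lib.Helper24.RepBySp
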