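import Groth.Prelude.Def_AlgSt
import Groth.Prelude.Def_FibCat2
import Groth.Prelude.Def_W4c2modmodulilectNerve
import Groth.Agent.Lib.Helper24.FibCatFpGen
import Mathlib.CategoryTheory.Groupoid.Discrete
import Mathlib.CategoryTheory.Comma.StructuredArrow.Basic
import Mathlib.CategoryTheory.Category.ULift
import Mathlib.CategoryTheory.FiberedCategory.Fiber
set_option autoImplicit false
set_option linter.unusedSectionVars false
open CategoryTheory
universe w v₁ v₂ v₃ u₁ u₂ u₃

/-!
# Sections of a category fibred in groupoids over a diagram with contractible comma categories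

For `φ : C ⥤ D`, `p : F ⥤ D` fibred in groupoids, and `t : C ⥤ F` with `t ⋙ p = φ`, a *cone* over
`Y : D` is an object of `F` over `Y` with compatible morphisms to all `t X` over all `Y ⟶ φ X`.
If the comma categories `Y/φ` have contractible nerve, cones exist and are unique up to unique
isomorphism; they assemble to a section over `D`.
-/

namespace Groth.Agent.Lib.Helper24.SectRestr
open Groth.Agent.Lib.Helper24.FibCatFpGen Groth.Agent.Lib.Helper24.FibGrpd

section Connected
variable {J : Type u₁} [Category.{v₁} J]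

/-- morphism-invariant predicates on a category with contractible nerve are constant -/
lemma prop_const (hJ : W4c2modmodulilect.HasContractibleNerve.{w, w} J) (P : J → Prop)
    (hP : ∀ {j j' : J} (_ : j ⟶ j'), P j ↔ P j') (j j' : J) : P j ↔ P j' := by
  obtain ⟨_, h⟩ := hJ
  have hE := h (Discrete (ULift.{w} Prop))
  let K : J ⥤ Discrete (ULift.{w} Prop) :=
    { obj := fun j => ⟨⟨P j⟩⟩
      map := fun {j j'} m => eqToHom (by
        have := hP m
        simp only [this])
      map_id := fun j => rfl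
      map_comp := fun m n => by simp }
  obtain ⟨g, ⟨e⟩⟩ := Functor.EssSurj.mem_essImage
    (Functor.const J : Discrete (ULift.{w} Prop) ⥤ J ⥤ Discrete (ULift.{w} Prop)) K
  have key : ∀ i : J, g.as.down = P i := by
    intro i
    have := Discrete.eq_of_hom (e.hom.app i)
    exact congrArg ULift.down this
  rw [← key j, ← key j']

end Connected


variable {C : Type u₁} [Category.{v₁} C] {D : Type u₂} [Category.{v₂} D] {F : Type u₃}
  [Category.{v₃} F]

lemma map_lift {φ : C ⥤ D} {p : F ⥤ D} {t : C ⥤ F} (ht : t ⋙ p = φ) {X X' : C} (h : X ⟶ X') :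
    p.IsHomLift (φ.map h) (t.map h) := by
  subst ht
  exact IsHomLift.map (p := p) (t.map h)

/-- a cone over `Y` on the diagram `t` -/
structure Cone (φ : C ⥤ D) (p : F ⥤ D) (t : C ⥤ F) (Y : D) where
  pt : F
  σ : ∀ (X : C) (_ : Y ⟶ φ.obj X), pt ⟶ t.obj X
  lift : ∀ (X : C) (a : Y ⟶ φ.obj X), p.IsHomLift a (σ X a)
  compat : ∀ {X X' : C} (a : Y ⟶ φ.obj X) (h : X ⟶ X'), σ X a ≫ t.map h = σ X' (a ≫ φ.map h)

namespace Cone

variable {φ : C ⥤ D} {p : F ⥤ D} {t : C ⥤ F} (hp : FibCat.IsFibGrpd p) (ht : t ⋙ p = φ)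

lemma pt_proj {Y : D} (hJ : Nonempty (StructuredArrow Y φ)) (c : Cone φ p t Y) : p.obj c.pt = Y := by
  obtain ⟨j⟩ := hJ
  have := c.lift j.right j.hom
  exact IsHomLift.domain_eq p j.hom (c.σ j.right j.hom)

section hom
variable {Y Y' : D} (c : Cone φ p t Y) (c' : Cone φ p t Y') (b : Y ⟶ Y')

/-- compatibility of a morphism of the total category with two cones, at one index -/
def Compat (β : c.pt ⟶ c'.pt) (j : StructuredArrow Y' φ) : Prop :=
  β ≫ c'.σ j.right j.hom = c.σ j.right (b ≫ j.hom)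

include ht in
lemma compat_fwd (β : c.pt ⟶ c'.pt) {j j' : StructuredArrow Y' φ} (m : j ⟶ j')
    (h : Compat c c' b β j) : Compat c c' b β j' := by
  unfold Compat at h ⊢
  have hw : j.hom ≫ φ.map m.right = j'.hom := StructuredArrow.w m
  rw [← hw, ← c'.compat, ← Category.assoc, h, c.compat, Category.assoc]

include hp ht in
lemma compat_bwd (β : c.pt ⟶ c'.pt) [p.IsHomLift b β] {j j' : StructuredArrow Y' φ} (m : j ⟶ j')
    (h : Compat c c' b β j') : Compat c c' b β j := by
  have hl := c'.lift j.right j.hom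
  have hl2 := c.lift j.right (b ≫ j.hom)
  have sc : p.IsStronglyCartesian j.hom (c'.σ j.right j.hom) := scart_of_isFibGrpd p hp _ _
  let β' : c.pt ⟶ c'.pt := Functor.IsStronglyCartesian.map p j.hom (c'.σ j.right j.hom)
    (rfl : b ≫ j.hom = b ≫ j.hom) (c.σ j.right (b ≫ j.hom))
  have hβ'l : p.IsHomLift b β' := Functor.IsStronglyCartesian.map_isHomLift p _ _ _ _
  have hβ' : Compat c c' b β' j :=
    Functor.IsStronglyCartesian.fac p j.hom (c'.σ j.right j.hom) rfl (c.σ j.right (b ≫ j.hom))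
  have h2 := compat_fwd ht c c' b β' m hβ'
  have hl' := c'.lift j'.right j'.hom
  have sc' : p.IsStronglyCartesian j'.hom (c'.σ j'.right j'.hom) := scart_of_isFibGrpd p hp _ _
  have e : β = β' := by
    apply Functor.IsStronglyCartesian.ext p j'.hom (c'.σ j'.right j'.hom) b
    unfold Compat at h h2
    rw [h, h2]
  rw [e]; exact hβ'

include hp ht in
theorem existsUnique_hom (hJ : W4c2modmodulilect.HasContractibleNerve.{w, w} (StructuredArrow Y' φ)) :
    ∃! β : c.pt ⟶ c'.pt, p.IsHomLift b β ∧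
      ∀ (X' : C) (a' : Y' ⟶ φ.obj X'), β ≫ c'.σ X' a' = c.σ X' (b ≫ a') := by
  obtain ⟨j₀⟩ := hJ.1
  have hl := c'.lift j₀.right j₀.hom
  have hl2 := c.lift j₀.right (b ≫ j₀.hom)
  have sc : p.IsStronglyCartesian j₀.hom (c'.σ j₀.right j₀.hom) := scart_of_isFibGrpd p hp _ _
  let β : c.pt ⟶ c'.pt := Functor.IsStronglyCartesian.map p j₀.hom (c'.σ j₀.right j₀.hom)
    (rfl : b ≫ j₀.hom = b ≫ j₀.hom) (c.σ j₀.right (b ≫ j₀.hom))
  have hβl : p.IsHomLift b β := Functor.IsStronglyCartesian.map_isHomLift p _ _ _ _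
  have hβ : Compat c c' b β j₀ :=
    Functor.IsStronglyCartesian.fac p j₀.hom (c'.σ j₀.right j₀.hom) rfl (c.σ j₀.right (b ≫ j₀.hom))
  refine ⟨β, ⟨hβl, ?_⟩, ?_⟩
  · intro X' a'
    have key := prop_const hJ (Compat c c' b β)
      (fun m => ⟨compat_fwd ht c c' b β m, compat_bwd hp ht c c' b β m⟩) j₀ (StructuredArrow.mk a')
    exact key.1 hβ
  · rintro β₁ ⟨h1, h2⟩
    exact Functor.IsStronglyCartesian.map_uniq p j₀.hom (c'.σ j₀.right j₀.hom) rfl
      (c.σ j₀.right (b ≫ j₀.hom)) β₁ (h2 j₀.right j₀.hom)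

end hom

end Cone


section Exists

variable {p : F ⥤ D} (t : C ⥤ F) (hp : FibCat.IsFibGrpd p) (Y : D)

/-- chosen pullback of `t X` along `a : Y ⟶ p (t X)` -/
noncomputable def pbObj (j : StructuredArrow Y (t ⋙ p)) : F :=
  (hp.exists_lift (x := t.obj j.right) j.hom).choose

noncomputable def pbMap (j : StructuredArrow Y (t ⋙ p)) : pbObj t hp Y j ⟶ t.obj j.right :=
  (hp.exists_lift (x := t.obj j.right) j.hom).choose_spec.choose

instance pbMap_lift (j : StructuredArrow Y (t ⋙ p)) : p.IsHomLift j.hom (pbMap t hp Y j) :=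
  (hp.exists_lift (x := t.obj j.right) j.hom).choose_spec.choose_spec

lemma pbMap_scart (j : StructuredArrow Y (t ⋙ p)) :
    p.IsStronglyCartesian j.hom (pbMap t hp Y j) := scart_of_isFibGrpd p hp _ _

lemma pbObj_proj (j : StructuredArrow Y (t ⋙ p)) : p.obj (pbObj t hp Y j) = Y :=
  IsHomLift.domain_eq p j.hom (pbMap t hp Y j)

lemma trans_aux {j j' : StructuredArrow Y (t ⋙ p)} (m : j ⟶ j') :
    p.IsHomLift (j.hom ≫ (t ⋙ p).map m.right) (pbMap t hp Y j ≫ t.map m.right) := by
  have : p.IsHomLift ((t ⋙ p).map m.right) (t.map m.right) := map_lift rfl m.right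
  infer_instance

lemma trans_eq {j j' : StructuredArrow Y (t ⋙ p)} (m : j ⟶ j') :
    j.hom ≫ (t ⋙ p).map m.right = 𝟙 Y ≫ j'.hom := by
  rw [Category.id_comp]; exact StructuredArrow.w m

/-- transition morphisms between the chosen pullbacks -/
noncomputable def trans {j j' : StructuredArrow Y (t ⋙ p)} (m : j ⟶ j') :
    pbObj t hp Y j ⟶ pbObj t hp Y j' :=
  have := pbMap_scart t hp Y j'
  have := trans_aux t hp Y m
  Functor.IsStronglyCartesian.map p j'.hom (pbMap t hp Y j') (trans_eq t Y m)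
    (pbMap t hp Y j ≫ t.map m.right)

instance trans_lift {j j' : StructuredArrow Y (t ⋙ p)} (m : j ⟶ j') :
    p.IsHomLift (𝟙 Y) (trans t hp Y m) := by
  have := pbMap_scart t hp Y j'
  have := trans_aux t hp Y m
  exact Functor.IsStronglyCartesian.map_isHomLift p j'.hom (pbMap t hp Y j') (trans_eq t Y m)
    (pbMap t hp Y j ≫ t.map m.right)

lemma trans_fac {j j' : StructuredArrow Y (t ⋙ p)} (m : j ⟶ j') :
    trans t hp Y m ≫ pbMap t hp Y j' = pbMap t hp Y j ≫ t.map m.right := by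
  have := pbMap_scart t hp Y j'
  have := trans_aux t hp Y m
  exact Functor.IsStronglyCartesian.fac p j'.hom (pbMap t hp Y j') (trans_eq t Y m)
    (pbMap t hp Y j ≫ t.map m.right)

lemma trans_uniq {j j' : StructuredArrow Y (t ⋙ p)} (m : j ⟶ j')
    (χ : pbObj t hp Y j ⟶ pbObj t hp Y j') [p.IsHomLift (𝟙 Y) χ]
    (h : χ ≫ pbMap t hp Y j' = pbMap t hp Y j ≫ t.map m.right) : χ = trans t hp Y m := by
  have := pbMap_scart t hp Y j'
  have := trans_aux t hp Y m
  exact Functor.IsStronglyCartesian.map_uniq p j'.hom (pbMap t hp Y j') (trans_eq t Y m)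
    (pbMap t hp Y j ≫ t.map m.right) χ h

/-- the diagram of chosen pullbacks in the fibre over `Y` -/
noncomputable def K : StructuredArrow Y (t ⋙ p) ⥤ AsSmall.{w} (p.Fiber Y) where
  obj j := ⟨Functor.Fiber.mk (pbObj_proj t hp Y j)⟩
  map {j j'} m := ⟨⟨trans t hp Y m, trans_lift t hp Y m⟩⟩
  map_id j := by
    have h : 𝟙 (pbObj t hp Y j) = trans t hp Y (𝟙 j) := by
      have : p.IsHomLift (𝟙 Y) (𝟙 (pbObj t hp Y j)) := IsHomLift.id (pbObj_proj t hp Y j)
      apply trans_uniq
      simp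
    apply ULift.ext
    apply Subtype.ext
    exact h.symm
  map_comp {j j' j''} m n := by
    have h : trans t hp Y m ≫ trans t hp Y n = trans t hp Y (m ≫ n) := by
      apply trans_uniq
      rw [Category.assoc, trans_fac, ← Category.assoc, trans_fac, Category.assoc]
      simp
    apply ULift.ext
    apply Subtype.ext
    exact h.symm

include hp in
theorem nonempty_cone
    (hJ : W4c2modmodulilect.HasContractibleNerve.{max (max w v₃) u₃, max (max w v₃) u₃}
      (StructuredArrow Y (t ⋙ p))) : Nonempty (Cone (t ⋙ p) p t Y) := by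
  have hG : IsGroupoid (p.Fiber Y) := isGroupoid_fiber_of_isFibGrpd p hp Y
  have hEq : (AsSmall.down : AsSmall.{w} (p.Fiber Y) ⥤ p.Fiber Y).IsEquivalence :=
    AsSmall.equiv.isEquivalence_inverse
  have hG' : IsGroupoid (AsSmall.{w} (p.Fiber Y)) := isGroupoid_of_reflects_iso AsSmall.down
  let _ : Groupoid (AsSmall.{w} (p.Fiber Y)) := Groupoid.ofIsGroupoid
  have hE := hJ.2 (AsSmall.{w} (p.Fiber Y))
  obtain ⟨g, ⟨e⟩⟩ := Functor.EssSurj.mem_essImage
    (Functor.const (StructuredArrow Y (t ⋙ p)) :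
      AsSmall.{w} (p.Fiber Y) ⥤ StructuredArrow Y (t ⋙ p) ⥤ AsSmall.{w} (p.Fiber Y)) (K t hp Y)
  -- components of `e`
  let ε : ∀ j : StructuredArrow Y (t ⋙ p), (ULift.down g).1 ⟶ pbObj t hp Y j := fun j => (e.hom.app j).down.1
  have hε : ∀ j, p.IsHomLift (𝟙 Y) (ε j) := fun j => (e.hom.app j).down.2
  have hnat : ∀ {j j' : StructuredArrow Y (t ⋙ p)} (m : j ⟶ j'), ε j ≫ trans t hp Y m = ε j' := by
    intro j j' m
    have := e.hom.naturality m
    have h2 := congrArg (fun x => x.down.1) this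
    simp only [Functor.const_obj_obj, Functor.const_obj_map, Category.id_comp] at h2
    exact h2.symm
  refine ⟨{ pt := (ULift.down g).1
            σ := fun X a => ε (StructuredArrow.mk a) ≫ pbMap t hp Y (StructuredArrow.mk a)
            lift := fun X a => ?_
            compat := fun {X X'} a h => ?_ }⟩
  · have := hε (StructuredArrow.mk a)
    have h2 : p.IsHomLift a (pbMap t hp Y (StructuredArrow.mk a)) := pbMap_lift t hp Y (StructuredArrow.mk a)
    have h3 : p.IsHomLift (𝟙 Y ≫ a) (ε (StructuredArrow.mk a) ≫ pbMap t hp Y (StructuredArrow.mk a)) :=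
      inferInstance
    simpa using h3
  · let m : StructuredArrow.mk a ⟶ StructuredArrow.mk (a ≫ (t ⋙ p).map h) :=
      StructuredArrow.homMk h rfl
    have h1 := trans_fac t hp Y m
    have h2 := hnat m
    rw [Category.assoc]
    change _ ≫ pbMap t hp Y (StructuredArrow.mk a) ≫ t.map m.right = _
    rw [← h1, ← Category.assoc, h2]

end Exists


section Main

variable {φ : C ⥤ D} {p : F ⥤ D} (hp : FibCat.IsFibGrpd p)

include hp in
theorem nonempty_cone' {t : C ⥤ F} (ht : t ⋙ p = φ) (Y : D)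
    (hJ : W4c2modmodulilect.HasContractibleNerve.{max (max w v₃) u₃, max (max w v₃) u₃}
      (StructuredArrow Y φ)) : Nonempty (Cone φ p t Y) := by
  subst ht
  exact nonempty_cone t hp Y hJ

/-- the cone over `Y` given by a section `s` over `D` and a natural transformation out of `φ ⋙ s` -/
def coneOf (s : D ⥤ F) (hs : s ⋙ p = 𝟭 D) {t : C ⥤ F} (γ : φ ⋙ s ⟶ t)
    (hγ : ∀ X, p.IsHomLift (𝟙 (φ.obj X)) (γ.app X)) (Y : D) : Cone φ p t Y where
  pt := s.obj Y
  σ X a := s.map a ≫ γ.app X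
  lift X a := by
    have h1 : p.IsHomLift a (s.map a) := by
      have := map_lift (φ := 𝟭 D) (p := p) (t := s) hs a
      simpa using this
    have h2 := hγ X
    exact IsHomLift.comp_lift_id_right' (p := p) a (s.map a) (φ.obj X) (γ.app X)
  compat {X X'} a h := by
    have := γ.naturality h
    simp only [Functor.comp_map] at this
    rw [Category.assoc, ← this, ← Category.assoc, ← s.map_comp]

@[simp] lemma coneOf_pt (s : D ⥤ F) (hs : s ⋙ p = 𝟭 D) {t : C ⥤ F} (γ : φ ⋙ s ⟶ t)
    (hγ : ∀ X, p.IsHomLift (𝟙 (φ.obj X)) (γ.app X)) (Y : D) : (coneOf s hs γ hγ Y).pt = s.obj Y := rfl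

@[simp] lemma coneOf_σ (s : D ⥤ F) (hs : s ⋙ p = 𝟭 D) {t : C ⥤ F} (γ : φ ⋙ s ⟶ t)
    (hγ : ∀ X, p.IsHomLift (𝟙 (φ.obj X)) (γ.app X)) (Y : D) (X : C) (a : Y ⟶ φ.obj X) :
    (coneOf s hs γ hγ Y).σ X a = s.map a ≫ γ.app X := rfl

end Main


section Build

variable {φ : C ⥤ D} {p : F ⥤ D} (hp : FibCat.IsFibGrpd p) {t : C ⥤ F} (ht : t ⋙ p = φ)
  (hφ : ∀ Y : D, W4c2modmodulilect.HasContractibleNerve.{w, w} (StructuredArrow Y φ))

section
variable {Y Y' : D} (c : Cone φ p t Y) (c' : Cone φ p t Y') (b : Y ⟶ Y')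

/-- the morphism between cone points induced by a morphism of the base -/
noncomputable def coneMap : c.pt ⟶ c'.pt :=
  (Cone.existsUnique_hom hp ht c c' b (hφ Y')).exists.choose

lemma coneMap_lift : p.IsHomLift b (coneMap hp ht hφ c c' b) :=
  (Cone.existsUnique_hom hp ht c c' b (hφ Y')).exists.choose_spec.1

lemma coneMap_fac (X' : C) (a' : Y' ⟶ φ.obj X') :
    coneMap hp ht hφ c c' b ≫ c'.σ X' a' = c.σ X' (b ≫ a') :=
  (Cone.existsUnique_hom hp ht c c' b (hφ Y')).exists.choose_spec.2 X' a'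

lemma coneMap_uniq (β : c.pt ⟶ c'.pt) (hβ : p.IsHomLift b β)
    (h : ∀ (X' : C) (a' : Y' ⟶ φ.obj X'), β ≫ c'.σ X' a' = c.σ X' (b ≫ a')) :
    β = coneMap hp ht hφ c c' b :=
  (Cone.existsUnique_hom hp ht c c' b (hφ Y')).unique ⟨hβ, h⟩
    ⟨coneMap_lift hp ht hφ c c' b, coneMap_fac hp ht hφ c c' b⟩

end

variable (cY : ∀ Y : D, Cone φ p t Y)

/-- the section over `D` assembled from a choice of cones -/
noncomputable def sFunctor : D ⥤ F where
  obj Y := (cY Y).pt
  map {Y Y'} b := coneMap hp ht hφ (cY Y) (cY Y') b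
  map_id Y := by
    symm
    apply coneMap_uniq
    · exact IsHomLift.id (Cone.pt_proj (hφ Y).1 (cY Y))
    · intro X' a'; simp
  map_comp {Y Y' Y''} b b' := by
    symm
    apply coneMap_uniq
    · have h1 := coneMap_lift hp ht hφ (cY Y) (cY Y') b
      have h2 := coneMap_lift hp ht hφ (cY Y') (cY Y'') b'
      infer_instance
    · intro X' a'
      rw [Category.assoc, coneMap_fac, coneMap_fac, Category.assoc]

lemma sFunctor_w : sFunctor hp ht hφ cY ⋙ p = 𝟭 D := by
  refine CategoryTheory.Functor.ext (fun Y => Cone.pt_proj (hφ Y).1 (cY Y)) (fun Y Y' b => ?_)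
  have := coneMap_lift hp ht hφ (cY Y) (cY Y') b
  exact IsHomLift.fac' p b (coneMap hp ht hφ (cY Y) (cY Y') b)

include hp in
lemma isIso_σ_id (X : C) : IsIso ((cY (φ.obj X)).σ X (𝟙 _)) := by
  have := (cY (φ.obj X)).lift X (𝟙 _)
  exact isIso_of_isFibGrpd p hp (𝟙 (φ.obj X)) _

/-- the restriction of the assembled section is isomorphic to the given diagram -/
noncomputable def sIso : φ ⋙ sFunctor hp ht hφ cY ≅ t :=
  NatIso.ofComponents
    (fun X => @asIso _ _ _ _ ((cY (φ.obj X)).σ X (𝟙 _)) (isIso_σ_id hp cY X))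
    (fun {X X'} h => by
      change coneMap hp ht hφ (cY (φ.obj X)) (cY (φ.obj X')) (φ.map h) ≫ (cY (φ.obj X')).σ X' (𝟙 _) =
        (cY (φ.obj X)).σ X (𝟙 _) ≫ t.map h
      rw [coneMap_fac, (cY (φ.obj X)).compat]
      simp)

lemma sIso_hom_app (X : C) : (sIso hp ht hφ cY).hom.app X = (cY (φ.obj X)).σ X (𝟙 _) := rfl

lemma sIso_hom_lift (X : C) : p.IsHomLift (𝟙 (φ.obj X)) ((sIso hp ht hφ cY).hom.app X) :=
  (cY (φ.obj X)).lift X (𝟙 _)

end Build


set_option backward.isDefEq.respectTransparency false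
set_option backward.isDefEq.respectTransparency.types false

section Restr

variable (φ : C ⥤ D) (p : F ⥤ D) (hp : FibCat.IsFibGrpd p)
  (hφ : ∀ Y : D, W4c2modmodulilect.HasContractibleNerve.{w, w} (StructuredArrow Y φ))

/-- restriction of sections along `φ` -/
abbrev Res : (FibCat.selfOver D ⥤ᵇ BasedCategory.ofFunctor p) ⥤
    (BasedCategory.ofFunctor φ ⥤ᵇ BasedCategory.ofFunctor p) :=
  Stk.restr (FibCat.toSelf (BasedCategory.ofFunctor φ)) (BasedCategory.ofFunctor p)

variable {φ p}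

lemma sect_w (s : FibCat.selfOver D ⥤ᵇ BasedCategory.ofFunctor p) : s.toFunctor ⋙ p = 𝟭 D := s.w

lemma restr_w (s : FibCat.selfOver D ⥤ᵇ BasedCategory.ofFunctor p) :
    (φ ⋙ s.toFunctor) ⋙ p = φ := by
  rw [Functor.assoc, sect_w s, Functor.comp_id]

/-- the tautological cone of a section -/
def selfCone (s : FibCat.selfOver D ⥤ᵇ BasedCategory.ofFunctor p) (Y : D) :
    Cone φ p (φ ⋙ s.toFunctor) Y :=
  coneOf s.toFunctor (sect_w s) (𝟙 _) (fun X => by
    have : p.obj ((φ ⋙ s.toFunctor).obj X) = φ.obj X := congrArg (fun G => G.obj X) (restr_w s)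
    exact IsHomLift.id this) Y

@[simp] lemma selfCone_σ (s : FibCat.selfOver D ⥤ᵇ BasedCategory.ofFunctor p) (Y : D) (X : C)
    (a : Y ⟶ φ.obj X) : (selfCone (φ := φ) s Y).σ X a = s.toFunctor.map a := by
  simp [selfCone]

/-- the cone attached to a morphism between restrictions -/
def homCone {s s' : FibCat.selfOver D ⥤ᵇ BasedCategory.ofFunctor p}
    (γ : (Res φ p).obj s ⟶ (Res φ p).obj s') (Y : D) : Cone φ p (φ ⋙ s'.toFunctor) Y :=
  coneOf s.toFunctor (sect_w s) γ.toNatTrans (fun X => γ.isHomLift' X) Y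

@[simp] lemma homCone_σ {s s' : FibCat.selfOver D ⥤ᵇ BasedCategory.ofFunctor p}
    (γ : (Res φ p).obj s ⟶ (Res φ p).obj s') (Y : D) (X : C) (a : Y ⟶ φ.obj X) :
    (homCone γ Y).σ X a = s.toFunctor.map a ≫ γ.toNatTrans.app X := rfl

lemma sect_map_lift (s : FibCat.selfOver D ⥤ᵇ BasedCategory.ofFunctor p) {Y Y' : D} (b : Y ⟶ Y') :
    p.IsHomLift b (s.toFunctor.map b) := by
  have := map_lift (φ := 𝟭 D) (p := p) (t := s.toFunctor) (sect_w s) b
  simpa using this

include hp hφ in
theorem res_faithful : (Res φ p).Faithful := by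
  constructor
  intro s s' α β h
  apply BasedNatTrans.homCategory.ext
  apply NatTrans.ext
  funext Y
  have hX : ∀ X : C, α.toNatTrans.app (φ.obj X) = β.toNatTrans.app (φ.obj X) := fun X =>
    congrArg (fun γ => γ.toNatTrans.app X) h
  have e1 : α.toNatTrans.app Y =
      coneMap hp (restr_w s') hφ (homCone ((Res φ p).map α) Y) (selfCone s' Y) (𝟙 Y) := by
    refine coneMap_uniq hp (restr_w s') hφ (homCone ((Res φ p).map α) Y) (selfCone s' Y) (𝟙 Y)
      (α.toNatTrans.app Y) ?_ ?_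
    · exact α.isHomLift' Y
    · intro X' a'
      rw [selfCone_σ, homCone_σ, Category.id_comp]
      exact (α.toNatTrans.naturality a').symm
  have e2 : β.toNatTrans.app Y =
      coneMap hp (restr_w s') hφ (homCone ((Res φ p).map α) Y) (selfCone s' Y) (𝟙 Y) := by
    refine coneMap_uniq hp (restr_w s') hφ (homCone ((Res φ p).map α) Y) (selfCone s' Y) (𝟙 Y)
      (β.toNatTrans.app Y) ?_ ?_
    · exact β.isHomLift' Y
    · intro X' a'
      rw [selfCone_σ, homCone_σ, Category.id_comp]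
      change _ = s.toFunctor.map a' ≫ α.toNatTrans.app (φ.obj X')
      rw [hX]
      exact (β.toNatTrans.naturality a').symm
  rw [e1, e2]

section full
variable {s s' : FibCat.selfOver D ⥤ᵇ BasedCategory.ofFunctor p}
  (γ : (Res φ p).obj s ⟶ (Res φ p).obj s')

/-- components of the preimage -/
noncomputable def preApp (Y : D) : s.toFunctor.obj Y ⟶ s'.toFunctor.obj Y :=
  coneMap hp (restr_w s') hφ (homCone γ Y) (selfCone s' Y) (𝟙 Y)

lemma preApp_lift (Y : D) : p.IsHomLift (𝟙 Y) (preApp hp hφ γ Y) :=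
  coneMap_lift hp (restr_w s') hφ (homCone γ Y) (selfCone s' Y) (𝟙 Y)

lemma preApp_fac (Y : D) (X : C) (a : Y ⟶ φ.obj X) :
    preApp hp hφ γ Y ≫ s'.toFunctor.map a = s.toFunctor.map a ≫ γ.toNatTrans.app X := by
  have := coneMap_fac hp (restr_w s') hφ (homCone γ Y) (selfCone s' Y) (𝟙 Y) X a
  rw [selfCone_σ, homCone_σ, Category.id_comp] at this
  exact this

lemma preApp_naturality {Y Y' : D} (b : Y ⟶ Y') :
    s.toFunctor.map b ≫ preApp hp hφ γ Y' = preApp hp hφ γ Y ≫ s'.toFunctor.map b := by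
  have e1 : s.toFunctor.map b ≫ preApp hp hφ γ Y' =
      coneMap hp (restr_w s') hφ (homCone γ Y) (selfCone s' Y') b := by
    refine coneMap_uniq hp (restr_w s') hφ (homCone γ Y) (selfCone s' Y') b
      (s.toFunctor.map b ≫ preApp hp hφ γ Y') ?_ ?_
    · have h1 := sect_map_lift s b
      have h2 := preApp_lift hp hφ γ Y'
      exact IsHomLift.comp_lift_id_right' (p := p) b (s.toFunctor.map b) Y' (preApp hp hφ γ Y')
    · intro X' a'
      rw [selfCone_σ, homCone_σ, Category.assoc, preApp_fac, ← Category.assoc, ← Functor.map_comp]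
  have e2 : preApp hp hφ γ Y ≫ s'.toFunctor.map b =
      coneMap hp (restr_w s') hφ (homCone γ Y) (selfCone s' Y') b := by
    refine coneMap_uniq hp (restr_w s') hφ (homCone γ Y) (selfCone s' Y') b
      (preApp hp hφ γ Y ≫ s'.toFunctor.map b) ?_ ?_
    · have h1 := sect_map_lift s' b
      have h2 := preApp_lift hp hφ γ Y
      exact IsHomLift.comp_lift_id_left' (p := p) Y (preApp hp hφ γ Y) b (s'.toFunctor.map b)
    · intro X' a'
      rw [selfCone_σ, homCone_σ, Category.assoc, ← Functor.map_comp, preApp_fac]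
  rw [e1, e2]

/-- the preimage -/
noncomputable def pre : s ⟶ s' where
  toNatTrans :=
    { app := preApp hp hφ γ
      naturality := fun {_ _} b => preApp_naturality hp hφ γ b }
  isHomLift' := fun Y => preApp_lift hp hφ γ Y

lemma map_pre : (Res φ p).map (pre hp hφ γ) = γ := by
  apply BasedNatTrans.homCategory.ext
  apply NatTrans.ext
  funext X
  change preApp hp hφ γ (φ.obj X) = γ.toNatTrans.app X
  have := preApp_fac hp hφ γ (φ.obj X) X (𝟙 _)
  simpa using this

end full

include hp hφ in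
theorem res_full : (Res φ p).Full := ⟨fun γ => ⟨pre hp hφ γ, map_pre hp hφ γ⟩⟩

end Restr

section EssSurj

variable {φ : C ⥤ D} {p : F ⥤ D} (hp : FibCat.IsFibGrpd p)
  (hφ : ∀ Y : D, W4c2modmodulilect.HasContractibleNerve.{max (max w v₃) u₃, max (max w v₃) u₃}
    (StructuredArrow Y φ))

include hp hφ in
theorem res_essSurj : (Res φ p).EssSurj := by
  constructor
  intro t
  have ht : t.toFunctor ⋙ p = φ := t.w
  let cY : ∀ Y : D, Cone φ p t.toFunctor Y := fun Y => (nonempty_cone' hp ht Y (hφ Y)).some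
  let s : FibCat.selfOver D ⥤ᵇ BasedCategory.ofFunctor p :=
    ⟨sFunctor hp ht hφ cY, sFunctor_w hp ht hφ cY⟩
  refine ⟨s, ⟨BasedNatIso.mkNatIso (sIso hp ht hφ cY) (fun X => sIso_hom_lift hp ht hφ cY X)⟩⟩

include hp hφ in
theorem res_isEquivalence : (Res φ p).IsEquivalence :=
  { faithful := res_faithful hp hφ
    full := res_full hp hφ
    essSurj := res_essSurj hp hφ }

end EssSurj

end Groth.Agent.Lib.Helper24.SectRestr
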