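import Mathlib.RingTheory.KrullDimension.Regular
import Mathlib.RingTheory.Spectrum.Maximal.Basic
import Mathlib.RingTheory.Ideal.KrullsHeightTheorem

set_option autoImplicit false

namespace Groth.Agent.Lib.Helper24

universe u

/-- A semi-local Noetherian ring has finite Krull dimension. -/
lemma ringKrullDim_lt_top_of_semilocal (A : Type u) [CommRing A] [IsNoetherianRing A]
    [Finite (MaximalSpectrum A)] : ringKrullDim A < ⊤ := by
  cases subsingleton_or_nontrivial A with
  | inl h =>
    rw [ringKrullDim_eq_bot_of_subsingleton]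
    exact bot_lt_top
  | inr h =>
    rw [← Ideal.sup_isMaximal_height_eq_ringKrullDim]
    obtain ⟨m₀⟩ : Nonempty (MaximalSpectrum A) := by
      obtain ⟨m, hm⟩ := Ideal.exists_maximal A
      exact ⟨⟨m, hm⟩⟩
    obtain ⟨m₁, hm₁⟩ := Finite.exists_max (fun m : MaximalSpectrum A => m.asIdeal.height)
    have hle : (⨆ (I : Ideal A) (_ : I.IsMaximal), I.height) ≤ m₁.asIdeal.height :=
      iSup₂_le fun I hI => hm₁ ⟨I, hI⟩
    have hlt : m₁.asIdeal.height < ⊤ := Ideal.height_lt_top m₁.isMaximal.ne_top
    exact WithBot.coe_lt_coe.mpr (lt_of_le_of_lt hle hlt) |>.trans_le le_rfl |> fun h => by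
      simpa using h

/-- The dimension of a module over a semi-local Noetherian ring is finite. -/
lemma supportDim_lt_top_of_semilocal (A : Type u) [CommRing A] [IsNoetherianRing A]
    [Finite (MaximalSpectrum A)] (M : Type u) [AddCommGroup M] [Module A M] :
    Module.supportDim A M < ⊤ :=
  lt_of_le_of_lt (Module.supportDim_le_ringKrullDim A M) (ringKrullDim_lt_top_of_semilocal A)

end Groth.Agent.Lib.Helper24
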