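import Groth.Agent.Lib.Helper24.AlgStLocQ13
import Groth.Agent.Lib.Helper24.AlgStUniv3
import Groth.Agent.Lib.Helper24.AlgStAffLoc
import Groth.Agent.Lib.Helper24.AlgStSepDiag
import Groth.Agent.Lib.Helper14.AlgSpSepDescent
import Groth.Agent.Lib.Helper14.AlgSpProper
set_option autoImplicit false
open CategoryTheory AlgebraicGeometry Opposite
universe w₁ v₁ w₂ v₂ w₃ v₃ w₄ v₄ w₅ v₅ u
set_option backward.isDefEq.respectTransparency false
set_option backward.isDefEq.respectTransparency.types false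

/-! Separatedness descends along a flat, locally finitely presented, surjective, universally
injective morphism with universally closed diagonal. -/

namespace Groth.Agent.Lib.Helper24.SepDescent
open Groth.Agent.Lib.Helper24.FibCatFpMap
open Groth.Agent.Lib.Helper24.FibCatEquiv Groth.Agent.Lib.Helper24.FibCatFpGen
open Groth.Agent.Lib.Helper24.AlgStRep
open Groth.Agent.Lib.Helper24.AlgStBridge Groth.Agent.Lib.Helper24.AlgStBoot
open Groth.Agent.Lib.Helper24.AlgStRepS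
open Groth.Agent.Lib.Helper24.AlgStEqv Groth.Agent.Lib.Helper24.FibCatMagic
open Groth.Agent.Lib.Helper24.AlgStDiagBC Groth.Agent.Lib.Helper24.FibCatDiagComp
open Groth.Agent.Lib.Helper24.AlgStSchLocal Groth.Agent.Lib.Helper24.AlgStDiagComp
open Groth.Agent.Lib.Helper24.FibCatGraph Groth.Agent.Lib.Helper24.AlgStGC
open Groth.Agent.Lib.Helper24.AlgStProps Groth.Agent.Lib.Helper24.PshBridge
open Groth.Agent.Lib.Helper24.AlgStCalc2 Groth.Agent.Lib.Helper24.AlgStLC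
open Groth.Agent.Lib.Helper24.AlgStProd Groth.Agent.Lib.Helper24.AlgStDescent
open CategoryTheory.Limits

variable {S : Scheme.{u}}

/-- right cancellation for categories representable by algebraic spaces -/
theorem repByAlgSpWith_right_of_comp_rep {𝒜 : BasedCategory.{v₁, w₁} (Over S)}
    {ℬ : BasedCategory.{v₂, w₂} (Over S)} {𝒞 : BasedCategory.{v₃, w₃} (Over S)}
    (P Ps Pn : MorphismProperty (AlgSp.Sp S)) (hP : Nice P) (hPs : Nice Ps) (hPn : Nice Pn)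
    (hc : ∀ ⦃X Y Z : AlgSp.Sp S⦄, AlgSp.IsAlgSpace X → AlgSp.IsAlgSpace Y → AlgSp.IsAlgSpace Z →
      ∀ (a : X ⟶ Y) (b : Y ⟶ Z), P (a ≫ b) → Ps a → Pn b → P b)
    (hA : AlgSt.RepByAlgSp 𝒜) (hB : AlgSt.RepByAlgSp ℬ) (hC : AlgSt.RepByAlgSp 𝒞)
    (π₁ : 𝒜 ⥤ᵇ ℬ) (π₂ : ℬ ⥤ᵇ 𝒞) (h₁ : AlgSt.RepByAlgSpWith Ps π₁)
    (h₂ : AlgSt.RepByAlgSpWith Pn π₂)
    (h : AlgSt.RepByAlgSpWith P (BasedFunctor.comp π₁ π₂)) : AlgSt.RepByAlgSpWith P π₂ := by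
  obtain ⟨A, eA, heA⟩ := hA
  obtain ⟨B, eB, heB⟩ := hB
  obtain ⟨C', eC, heC⟩ := hC
  obtain ⟨eB', ⟨αB⟩, ⟨βB⟩⟩ := heB
  have heB' : FibCat.IsEquivOver eB' := ⟨eB, ⟨βB⟩, ⟨αB⟩⟩
  have heB : FibCat.IsEquivOver eB := ⟨eB', ⟨αB⟩, ⟨βB⟩⟩
  obtain ⟨eC', ⟨αC⟩, ⟨βC⟩⟩ := heC
  have heC' : FibCat.IsEquivOver eC' := ⟨eC, ⟨βC⟩, ⟨αC⟩⟩
  let Φ₁ : AlgSt.ofSp A.obj ⥤ᵇ AlgSt.ofSp B.obj := BasedFunctor.comp eA (BasedFunctor.comp π₁ eB')
  let Φ₂ : AlgSt.ofSp B.obj ⥤ᵇ AlgSt.ofSp C'.obj := BasedFunctor.comp eB (BasedFunctor.comp π₂ eC')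
  have h12 : AlgSt.RepByAlgSpWith P (BasedFunctor.comp Φ₁ Φ₂) := by
    have h0 := (repByAlgSpWith_conj P (BasedFunctor.comp π₁ π₂) eA eC' heA heC').1 h
    refine repByAlgSpWith_of_iso P ?_ h0
    exact whiskerLeftIso (BasedFunctor.comp eA π₁)
      (whiskerRightIso βB (BasedFunctor.comp π₂ eC')).symm
  have p12 : P (spMapOf Φ₁ ≫ spMapOf Φ₂) := by
    rw [← spMapOf_comp]
    exact P_spMapOf_of_repByAlgSpWith' P hP _ h12
  have p2 : Pn (spMapOf Φ₂) :=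
    P_spMapOf_of_repByAlgSpWith' Pn hPn _
      ((repByAlgSpWith_conj Pn π₂ eB eC' heB heC').1 h₂)
  have p1 : Ps (spMapOf Φ₁) :=
    P_spMapOf_of_repByAlgSpWith' Ps hPs _
      ((repByAlgSpWith_conj Ps π₁ eA eB' heA heB').1 h₁)
  have p : P (spMapOf Φ₂) := hc A.property B.property C'.property _ _ p12 p1 p2
  have r : AlgSt.RepByAlgSpWith P Φ₂ :=
    repByAlgSpWith_of_iso P (isoOfPshMap Φ₂).symm
      (repByAlgSpWith_ofSpMap P hP.bc (V := B) (W := C') (spMapOf Φ₂) p)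
  exact (repByAlgSpWith_conj P π₂ eB eC' heB heC').2 r

open Groth.Agent.Lib.Helper14.AS in
/-- a morphism of algebraic spaces, locally of finite type, which becomes proper after composing
with a surjective universally closed morphism is proper -/
theorem isProperMor_of_comp_surjective {X Y Z : AlgSp.Sp S} (hX : AlgSp.IsAlgSpace X)
    (hY : AlgSp.IsAlgSpace Y) (hZ : AlgSp.IsAlgSpace Z) (a : X ⟶ Y) (b : Y ⟶ Z)
    (hs : AlgSp.IsSurjectiveMor a) (hc : AlgSp.IsUnivClosedMor a)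
    (hb : AlgSp.LocP @LocallyOfFiniteType b) (hab : AlgSp.IsProperMor (a ≫ b)) :
    AlgSp.IsProperMor b := by
  have huc : AlgSp.IsUnivClosedMor b := isUnivClosedMor_of_comp_surjective hs hab.2.2
  exact ⟨(separation_of_surjective_univClosed hX hY hZ a b hs hc).2 hab.1,
    ⟨hb, isQuasiCompactMor_of_isUnivClosedMor hY hZ huc⟩, huc⟩

section Main
open Groth.Agent.Lib.Helper24.AlgStLocQ13 Groth.Agent.Lib.Helper24.AlgStUniv2
open Groth.Agent.Lib.Helper24.AlgStPts5 Groth.Agent.Lib.Helper24.AlgStRelDiag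
open Groth.Agent.Lib.Helper24.AlgStDiagLft Groth.Agent.Lib.Helper24.AlgStCalc
open Groth.Agent.Lib.Helper24.AlgStDiag Groth.Agent.Lib.Helper24.AlgStMono

variable {𝒳 𝒴 𝒵 : AlgSt.Cat S}

/-- S19900 -/
theorem isSeparatedMor_of_comp (h𝒳 : AlgSt.IsAlgStack Scheme.fppfPrecoverage 𝒳)
    (h𝒴 : AlgSt.IsAlgStack Scheme.fppfPrecoverage 𝒴)
    (h𝒵 : AlgSt.IsAlgStack Scheme.fppfPrecoverage 𝒵)
    (f : 𝒳 ⥤ᵇ 𝒴) (g : 𝒴 ⥤ᵇ 𝒵)
    (hf₁ : AlgSt.IsSurjective f) (hf₂ : AlgSt.LocQ (AlgSp.LocP @Flat) f)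
    (hf₃ : AlgSt.LocQ (AlgSp.LocP @LocallyOfFinitePresentation) f)
    (hf₄ : AlgSt.IsUnivInjective Scheme.fppfPrecoverage f)
    (hf₅ : AlgSt.RepByAlgSpWith AlgSp.IsUnivClosedMor (FibCat.diag f))
    (hh : AlgSt.IsSeparatedMor (BasedFunctor.comp f g)) :
    AlgSt.IsSeparatedMor g := by
  obtain ⟨T, t, -, -, hw1, hw2, hw3⟩ := exists_rep_cover h𝒴 h𝒳 f hf₂ hf₃ hf₁
  have hfT : FibCat.IsFibGrpd (FibCat.overCat T).p := StkFpCrit.isFibGrpd_overForget T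
  have hT : AlgSt.RepByAlgSp (FibCat.overCat T) := repByAlgSp_overCat T
  have h𝒳f := h𝒳.isStack.1
  have h𝒴f := h𝒴.isStack.1
  have h𝒵f := h𝒵.isStack.1
  have hΔf1 : AlgSt.RepByAlgSp1 (FibCat.diag f) := repByAlgSp1_relDiag h𝒳f h𝒴f h𝒳.diag h𝒴.diag f
  have hΔg1 : AlgSt.RepByAlgSp1 (FibCat.diag g) := repByAlgSp1_relDiag h𝒴f h𝒵f h𝒴.diag h𝒵.diag g
  have hΔfs : AlgSt.RepByAlgSpWith AlgSp.IsSurjectiveMor (FibCat.diag f) :=
    (isSurjective_iff_repByAlgSpWith h𝒳f (isFibGrpd_fp f f h𝒳f h𝒳f h𝒴f) (FibCat.diag f) hΔf1).1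
      ((isUnivInjective_iff h𝒳 h𝒴 f).1 hf₄)
  let u : FibCat.overCat T ⥤ᵇ 𝒴 := BasedFunctor.comp t f
  have hR : AlgSt.RepByAlgSp (FibCat.fp t t) := repByAlgSp1_of_diag h𝒳f h𝒳.diag hfT hfT hT hT t t
  have hUU : AlgSt.RepByAlgSp (FibCat.fp u u) := repByAlgSp1_of_diag h𝒴f h𝒴.diag hfT hfT hT hT u u
  have hVV : AlgSt.RepByAlgSp (FibCat.fp (BasedFunctor.comp u g) (BasedFunctor.comp u g)) :=
    repByAlgSp1_of_diag h𝒵f h𝒵.diag hfT hfT hT hT _ _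
  have h1 : AlgSt.RepByAlgSpWith (fun _ _ a => AlgSp.IsSurjectiveMor a ∧ AlgSp.IsUnivClosedMor a)
      (N t t f) :=
    repByAlgSpWith_N _ t t f
      (repByAlgSpWith_and _ _ good_isUnivClosedMor.respectsIso _ hΔfs hf₅)
  have h2 : AlgSt.RepByAlgSpWith AlgSp.IsProperMor (BasedFunctor.comp (N t t f) (N u u g)) :=
    repByAlgSpWith_N AlgSp.IsProperMor t t (BasedFunctor.comp f g) hh
  have h3 : AlgSt.RepByAlgSpWith (AlgSp.LocP @LocallyOfFiniteType) (N u u g) :=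
    repByAlgSpWith_N _ u u g (repByAlgSpWith_lft_relDiag h𝒴 h𝒵 g)
  have hN : AlgSt.RepByAlgSpWith AlgSp.IsProperMor (N u u g) :=
    repByAlgSpWith_right_of_comp_rep AlgSp.IsProperMor
      (fun _ _ a => AlgSp.IsSurjectiveMor a ∧ AlgSp.IsUnivClosedMor a)
      (AlgSp.LocP @LocallyOfFiniteType) good_isProperMor.nice
      (good_isSurjectiveMor.nice.and good_isUnivClosedMor.nice) good_lft.nice
      (fun _ _ _ hX hY hZ a b hab ha hb =>
        isProperMor_of_comp_surjective hX hY hZ a b ha.1 ha.2 hb hab)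
      hR hUU hVV (N t t f) (N u u g) h1 h3 h2
  have h4 : AlgSt.RepByAlgSpWith AlgSp.IsProperMor (FibCat.fpFst (M u u g) (FibCat.diag g)) :=
    repByAlgSpWith_of_eqvOver _ (eqvOver_N u u g).symm hN
  exact repByAlgSpWith_of_fpFst_cover h𝒴f (isFibGrpd_fp g g h𝒴f h𝒴f h𝒵f)
    (isFibGrpd_fp _ _ hfT hfT h𝒵f) _ good_isProperMor.bc good_isProperMor.loc (FibCat.diag g) hΔg1
    (M u u g)
    (repByAlgSpWith_M hfT hfT h𝒴f h𝒵f _ good_flat.nice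
      (stableComp_locP Groth.Agent.Lib.Helper14.AS.etLocal_flat) u u g hw1 hw1)
    (repByAlgSpWith_M hfT hfT h𝒴f h𝒵f _ good_lfp.nice
      (stableComp_locP Groth.Agent.Lib.Helper14.AS.etLocal_lfp) u u g hw2 hw2)
    (repByAlgSpWith_M hfT hfT h𝒴f h𝒵f _ good_isSurjectiveMor.nice
      (fun _ _ _ _ _ _ _ _ ha hb => Groth.Agent.Lib.Helper14.AS.isSurjectiveMor_comp ha hb)
      u u g hw3 hw3) h4

end Main

end Groth.Agent.Lib.Helper24.SepDescent
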