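import Mathlib

set_option backward.isDefEq.respectTransparency false
set_option backward.isDefEq.respectTransparency.types false
set_option autoImplicit false

universe w v u

open CategoryTheory CategoryTheory.Limits

namespace Groth.Agent.Lib.Helper24.SerreA

section Lin

variable {k : Type w} [Field k] {V W : Type*} [AddCommGroup V] [Module k V] [AddCommGroup W]
  [Module k W]

/-- A functional vanishing on the kernel of `U` factors through `U`. -/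
theorem exists_factor_of_ker_le {V' : Type*} [AddCommGroup V'] [Module k V']
    (U : V →ₗ[k] V') (φ : V →ₗ[k] k) (h : ∀ x, U x = 0 → φ x = 0) :
    ∃ φ' : V' →ₗ[k] k, ∀ x, φ' (U x) = φ x := by
  have hle : LinearMap.ker U ≤ LinearMap.ker φ := fun x hx => h x hx
  let φq : (V ⧸ LinearMap.ker U) →ₗ[k] k := (LinearMap.ker U).liftQ φ hle
  let ψ : LinearMap.range U →ₗ[k] k := φq ∘ₗ (U.quotKerEquivRange).symm.toLinearMap
  obtain ⟨φ', hφ'⟩ := LinearMap.exists_extend ψ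
  refine ⟨φ', fun x => ?_⟩
  have h1 : φ' (U x) = ψ ⟨U x, LinearMap.mem_range_self U x⟩ := by
    rw [← hφ']; rfl
  rw [h1]
  change φq ((U.quotKerEquivRange).symm ⟨U x, _⟩) = φ x
  have h2 : (U.quotKerEquivRange).symm ⟨U x, LinearMap.mem_range_self U x⟩ =
      (LinearMap.ker U).mkQ x := by
    rw [LinearEquiv.symm_apply_eq]
    rfl
  rw [h2]
  rfl

end Lin

variable {k : Type w} [Field k]
    {T : Type u} [Category.{v} T] [Preadditive T] [Linear k T]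
    [∀ X Y : T, Module.Finite k (X ⟶ Y)]
    (F : T ⥤ T)
    (c : ∀ X Y : T, (X ⟶ Y) ≃ₗ[k] Module.Dual k (Y ⟶ F.obj X))
    (hc₁ : ∀ (X Y Y' : T) (f : X ⟶ Y) (g : Y ⟶ Y'),
      c X Y' (f ≫ g) = (c X Y f) ∘ₗ Linear.leftComp k (F.obj X) g)
    (hc₂ : ∀ (X' X Y : T) (a : X' ⟶ X) (f : X ⟶ Y),
      c X' Y (a ≫ f) = (c X Y f) ∘ₗ Linear.rightComp k Y (F.map a))

include hc₁ in
theorem N1 {X Y Y' : T} (f : X ⟶ Y) (g : Y ⟶ Y') (h : Y' ⟶ F.obj X) :
    c X Y' (f ≫ g) h = c X Y f (g ≫ h) := by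
  rw [hc₁ X Y Y' f g]; rfl

include hc₂ in
theorem N2 {X' X Y : T} (a : X' ⟶ X) (f : X ⟶ Y) (h : Y ⟶ F.obj X') :
    c X' Y (a ≫ f) h = c X Y f (h ≫ F.map a) := by
  rw [hc₂ X' X Y a f]; rfl

/-- The trace functional. -/
noncomputable def tr (X : T) : (X ⟶ F.obj X) →ₗ[k] k := c X X (𝟙 X)

include hc₁ in
theorem pair_eq_tr_left {X Y : T} (f : X ⟶ Y) (h : Y ⟶ F.obj X) :
    c X Y f h = tr F c X (f ≫ h) := by
  have := N1 F c hc₁ (𝟙 X) f h
  rw [Category.id_comp] at this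
  exact this

include hc₂ in
theorem pair_eq_tr_right {X Y : T} (f : X ⟶ Y) (h : Y ⟶ F.obj X) :
    c X Y f h = tr F c Y (h ≫ F.map f) := by
  have := N2 F c hc₂ f (𝟙 Y) h
  rw [Category.comp_id] at this
  exact this

include hc₁ hc₂ in
theorem tr_comm {X Y : T} (f : X ⟶ Y) (h : Y ⟶ F.obj X) :
    tr F c X (f ≫ h) = tr F c Y (h ≫ F.map f) := by
  rw [← pair_eq_tr_left F c hc₁, pair_eq_tr_right F c hc₂]

omit [∀ X Y : T, Module.Finite k (X ⟶ Y)] in
/-- Nondegeneracy on the right. -/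
theorem nd_right {X Y : T} (h₁ h₂ : Y ⟶ F.obj X) (H : ∀ f : X ⟶ Y, c X Y f h₁ = c X Y f h₂) :
    h₁ = h₂ := by
  rw [← sub_eq_zero]
  rw [← Module.forall_dual_apply_eq_zero_iff k]
  intro φ
  obtain ⟨f, rfl⟩ := (c X Y).surjective φ
  rw [map_sub, H f, sub_self]

/-- Existence of a morphism representing a functional. -/
theorem exists_rep {X Y : T} (φ : Module.Dual k (X ⟶ Y)) :
    ∃ h : Y ⟶ F.obj X, ∀ f : X ⟶ Y, c X Y f h = φ f := by
  let ξ : Module.Dual k (Module.Dual k (Y ⟶ F.obj X)) := φ ∘ₗ (c X Y).symm.toLinearMap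
  refine ⟨(Module.evalEquiv k (Y ⟶ F.obj X)).symm ξ, fun f => ?_⟩
  rw [Module.apply_evalEquiv_symm_apply]
  change φ ((c X Y).symm (c X Y f)) = φ f
  rw [LinearEquiv.symm_apply_apply]

include hc₂ in
/-- Lemma (E): exactness transfers through duality. -/
theorem exact_of_exact {A B C : T} (u : A ⟶ B) (v : B ⟶ C)
    (hex : ∀ (X : T) (f : B ⟶ X), u ≫ f = 0 → ∃ f' : C ⟶ X, f = v ≫ f')
    {X : T} (h : X ⟶ F.obj B) (hh : h ≫ F.map v = 0) :
    ∃ g : X ⟶ F.obj A, h = g ≫ F.map u := by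
  let φh : (B ⟶ X) →ₗ[k] k := (LinearMap.applyₗ h) ∘ₗ (c B X).toLinearMap
  have hφh : ∀ f, φh f = c B X f h := fun f => rfl
  obtain ⟨φ', hφ'⟩ := exists_factor_of_ker_le (Linear.leftComp k X u) φh (by
    intro f hf
    obtain ⟨f', rfl⟩ := hex X f hf
    rw [hφh, N2 F c hc₂ v f' h, hh, map_zero])
  obtain ⟨g, hg⟩ := exists_rep F c φ'
  refine ⟨g, nd_right F c _ _ fun f => ?_⟩
  rw [← N2 F c hc₂ u f g, hg, ← hφh]
  exact (hφ' f).symm

end Groth.Agent.Lib.Helper24.SerreA
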