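import Mathlib
import Groth.Agent.Lib.Helper24.SerreA

set_option backward.isDefEq.respectTransparency false
set_option backward.isDefEq.respectTransparency.types false
set_option autoImplicit false

universe w v u

open CategoryTheory CategoryTheory.Limits CategoryTheory.Pretriangulated

namespace Groth.Agent.Lib.Helper24.SerreB

open Groth.Agent.Lib.Helper24.SerreA

variable {k : Type w} [Field k]
    {T : Type u} [Category.{v} T] [Preadditive T] [Linear k T] [HasShift T ℤ]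
    [∀ n : ℤ, (shiftFunctor T n).Additive] [∀ n : ℤ, (shiftFunctor T n).Linear k]
    [∀ X Y : T, Module.Finite k (X ⟶ Y)]
    (F : T ⥤ T)
    (c : ∀ X Y : T, (X ⟶ Y) ≃ₗ[k] Module.Dual k (Y ⟶ F.obj X))
    (hc₁ : ∀ (X Y Y' : T) (f : X ⟶ Y) (g : Y ⟶ Y'),
      c X Y' (f ≫ g) = (c X Y f) ∘ₗ Linear.leftComp k (F.obj X) g)
    (hc₂ : ∀ (X' X Y : T) (a : X' ⟶ X) (f : X ⟶ Y),
      c X' Y (a ≫ f) = (c X Y f) ∘ₗ Linear.rightComp k Y (F.map a))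

/-- The shift as a linear equivalence on homs. -/
noncomputable def sh (A B : T) : (A ⟶ B) ≃ₗ[k] (A⟦(1 : ℤ)⟧ ⟶ B⟦(1 : ℤ)⟧) :=
  LinearEquiv.ofBijective ((shiftFunctor T (1 : ℤ)).mapLinearMap k)
    ⟨Functor.map_injective _, Functor.map_surjective _⟩

omit [∀ X Y : T, Module.Finite k (X ⟶ Y)] in
theorem sh_apply {A B : T} (g : A ⟶ B) : sh (k := k) A B g = g⟦(1 : ℤ)⟧' := rfl

omit [∀ X Y : T, Module.Finite k (X ⟶ Y)] in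
theorem sh_symm_map {A B : T} (g : A ⟶ B) : (sh (k := k) A B).symm (g⟦(1 : ℤ)⟧') = g := by
  rw [← sh_apply (k := k), LinearEquiv.symm_apply_apply]

omit [∀ X Y : T, Module.Finite k (X ⟶ Y)] in
theorem map_sh_symm {A B : T} (f : A⟦(1 : ℤ)⟧ ⟶ B⟦(1 : ℤ)⟧) :
    ((sh (k := k) A B).symm f)⟦(1 : ℤ)⟧' = f := by
  rw [← sh_apply (k := k), LinearEquiv.apply_symm_apply]

/-- The functional defining `θ`. -/
noncomputable def φθ (A : T) : Module.Dual k (A⟦(1 : ℤ)⟧ ⟶ (F.obj A)⟦(1 : ℤ)⟧) :=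
  -(tr F c A ∘ₗ (sh (k := k) A (F.obj A)).symm.toLinearMap)

/-- The comparison morphism `(F A)[1] ⟶ F (A[1])`. -/
noncomputable def θ (A : T) : (F.obj A)⟦(1 : ℤ)⟧ ⟶ F.obj (A⟦(1 : ℤ)⟧) :=
  (exists_rep F c (φθ F c A)).choose

theorem θ_spec (A : T) (f : A⟦(1 : ℤ)⟧ ⟶ (F.obj A)⟦(1 : ℤ)⟧) :
    c (A⟦(1 : ℤ)⟧) ((F.obj A)⟦(1 : ℤ)⟧) f (θ F c A) =
      - tr F c A ((sh (k := k) A (F.obj A)).symm f) :=
  (exists_rep F c (φθ F c A)).choose_spec f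

theorem θ_spec' (A : T) (g : A ⟶ F.obj A) :
    c (A⟦(1 : ℤ)⟧) ((F.obj A)⟦(1 : ℤ)⟧) (g⟦(1 : ℤ)⟧') (θ F c A) = - tr F c A g := by
  rw [θ_spec, sh_symm_map]

include hc₁ hc₂ in
theorem θ_natural {A A' : T} (a : A ⟶ A') :
    (F.map a)⟦(1 : ℤ)⟧' ≫ θ F c A' = θ F c A ≫ F.map (a⟦(1 : ℤ)⟧') := by
  apply nd_right F c
  intro f
  obtain ⟨f', rfl⟩ : ∃ f' : A' ⟶ F.obj A, f'⟦(1 : ℤ)⟧' = f :=
    ⟨(sh (k := k) _ _).symm f, map_sh_symm _⟩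
  have hL : c (A'⟦(1 : ℤ)⟧) ((F.obj A)⟦(1 : ℤ)⟧) (f'⟦(1 : ℤ)⟧') ((F.map a)⟦(1 : ℤ)⟧' ≫ θ F c A') =
      - tr F c A' (f' ≫ F.map a) := by
    rw [← N1 F c hc₁, ← (shiftFunctor T (1 : ℤ)).map_comp, θ_spec']
  have hR : c (A'⟦(1 : ℤ)⟧) ((F.obj A)⟦(1 : ℤ)⟧) (f'⟦(1 : ℤ)⟧') (θ F c A ≫ F.map (a⟦(1 : ℤ)⟧')) =
      - tr F c A (a ≫ f') := by
    rw [← N2 F c hc₂, ← (shiftFunctor T (1 : ℤ)).map_comp, θ_spec']
  rw [hL, hR, tr_comm F c hc₁ hc₂ a f']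

include hc₁ in
theorem θ_inj (A Z : T) (h : Z⟦(1 : ℤ)⟧ ⟶ (F.obj A)⟦(1 : ℤ)⟧) (hh : h ≫ θ F c A = 0) : h = 0 := by
  obtain ⟨h', rfl⟩ : ∃ h' : Z ⟶ F.obj A, h'⟦(1 : ℤ)⟧' = h :=
    ⟨(sh (k := k) _ _).symm h, map_sh_symm _⟩
  have : h' = 0 := by
    apply nd_right F c
    intro f'
    have h1 := N1 F c hc₁ (f'⟦(1 : ℤ)⟧') (h'⟦(1 : ℤ)⟧') (θ F c A)
    rw [← Functor.map_comp, θ_spec', hh, map_zero] at h1
    rw [map_zero, pair_eq_tr_left F c hc₁]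
    exact (neg_eq_zero.mp h1)
  rw [this, Functor.map_zero]

include hc₁ in
theorem θ_surj (A Z : T) (h : Z⟦(1 : ℤ)⟧ ⟶ F.obj (A⟦(1 : ℤ)⟧)) :
    ∃ h' : Z⟦(1 : ℤ)⟧ ⟶ (F.obj A)⟦(1 : ℤ)⟧, h' ≫ θ F c A = h := by
  let Θ : (Z⟦(1 : ℤ)⟧ ⟶ (F.obj A)⟦(1 : ℤ)⟧) →ₗ[k] (Z⟦(1 : ℤ)⟧ ⟶ F.obj (A⟦(1 : ℤ)⟧)) :=
    Linear.rightComp k (Z⟦(1 : ℤ)⟧) (θ F c A)
  have hinj : Function.Injective Θ := by
    rw [← LinearMap.ker_eq_bot, LinearMap.ker_eq_bot']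
    intro x hx
    exact θ_inj F c hc₁ A Z x hx
  have hdim : Module.finrank k (Z⟦(1 : ℤ)⟧ ⟶ (F.obj A)⟦(1 : ℤ)⟧) =
      Module.finrank k (Z⟦(1 : ℤ)⟧ ⟶ F.obj (A⟦(1 : ℤ)⟧)) := by
    have e1 := (sh (k := k) Z (F.obj A)).finrank_eq
    have e2 := (c A Z).finrank_eq
    have e3 := (sh (k := k) A Z).finrank_eq
    have e4 := (c (A⟦(1 : ℤ)⟧) (Z⟦(1 : ℤ)⟧)).finrank_eq
    rw [Subspace.dual_finrank_eq] at e2 e4
    omega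
  obtain ⟨h', hh'⟩ := (LinearMap.injective_iff_surjective_of_finrank_eq_finrank hdim).mp hinj h
  exact ⟨h', hh'⟩

variable [HasZeroObject T] [Pretriangulated T]

include hc₁ in
theorem θ_isIso (A : T) : IsIso (θ F c A) := by
  let X := F.obj (A⟦(1 : ℤ)⟧)
  let i : (X⟦(-1 : ℤ)⟧)⟦(1 : ℤ)⟧ ≅ X := (shiftEquiv T (1 : ℤ)).counitIso.app X
  obtain ⟨h', hh'⟩ := θ_surj F c hc₁ A (X⟦(-1 : ℤ)⟧) i.hom
  refine ⟨i.inv ≫ h', ?_, ?_⟩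
  · have h0 : (θ F c A ≫ i.inv ≫ h' - 𝟙 _) ≫ θ F c A = 0 := by
      rw [Preadditive.sub_comp, Category.assoc, Category.assoc, hh', Iso.inv_hom_id,
        Category.comp_id, Category.id_comp, sub_self]
    have := θ_inj F c hc₁ A (F.obj A) _ h0
    exact sub_eq_zero.mp this
  · rw [Category.assoc, hh', Iso.inv_hom_id]

include hc₁ hc₂ in
/-- The commutation isomorphism. -/
noncomputable def e : shiftFunctor T (1 : ℤ) ⋙ F ≅ F ⋙ shiftFunctor T (1 : ℤ) :=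
  NatIso.ofComponents
    (fun A => by
      have := θ_isIso F c hc₁ A
      exact (asIso (θ F c A)).symm)
    (by
      intro A A' a
      have := θ_isIso F c hc₁ A
      have := θ_isIso F c hc₁ A'
      change F.map (a⟦(1 : ℤ)⟧') ≫ inv (θ F c A') = inv (θ F c A) ≫ (F.map a)⟦(1 : ℤ)⟧'
      rw [IsIso.comp_inv_eq, Category.assoc, θ_natural F c hc₁ hc₂ a, IsIso.inv_hom_id_assoc])

include hc₁ hc₂ in
theorem e_hom_app_comp_θ (A : T) : (e F c hc₁ hc₂).hom.app A ≫ θ F c A = 𝟙 _ := by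
  have := θ_isIso F c hc₁ A
  change inv (θ F c A) ≫ θ F c A = 𝟙 _
  simp

include hc₁ hc₂ in
theorem θ_comp_e_hom_app (A : T) : θ F c A ≫ (e F c hc₁ hc₂).hom.app A = 𝟙 _ := by
  have := θ_isIso F c hc₁ A
  change θ F c A ≫ inv (θ F c A) = 𝟙 _
  simp

end Groth.Agent.Lib.Helper24.SerreB
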