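import Mathlib
import Groth.Agent.Lib.Helper24.SerreB

set_option backward.isDefEq.respectTransparency false
set_option backward.isDefEq.respectTransparency.types false
set_option autoImplicit false

universe w v u

open CategoryTheory CategoryTheory.Limits CategoryTheory.Pretriangulated

namespace Groth.Agent.Lib.Helper24.SerreC

open Groth.Agent.Lib.Helper24.SerreA Groth.Agent.Lib.Helper24.SerreB

variable {k : Type w} [Field k]
    {T : Type u} [Category.{v} T] [Preadditive T] [Linear k T] [HasZeroObject T] [HasShift T ℤ]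
    [∀ n : ℤ, (shiftFunctor T n).Additive] [∀ n : ℤ, (shiftFunctor T n).Linear k]
    [Pretriangulated T]
    [∀ X Y : T, Module.Finite k (X ⟶ Y)]
    (F : T ⥤ T) [F.Additive]
    (c : ∀ X Y : T, (X ⟶ Y) ≃ₗ[k] Module.Dual k (Y ⟶ F.obj X))
    (hc₁ : ∀ (X Y Y' : T) (f : X ⟶ Y) (g : Y ⟶ Y'),
      c X Y' (f ≫ g) = (c X Y f) ∘ₗ Linear.leftComp k (F.obj X) g)
    (hc₂ : ∀ (X' X Y : T) (a : X' ⟶ X) (f : X ⟶ Y),
      c X' Y (a ≫ f) = (c X Y f) ∘ₗ Linear.rightComp k Y (F.map a))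

include hc₁ hc₂ in
/-- Compatibility of the two prescriptions. -/
theorem compat {A B C C' : T} (u : A ⟶ B) (v : B ⟶ C) (w : C ⟶ A⟦(1 : ℤ)⟧)
    (hT : Triangle.mk u v w ∈ distTriang T)
    (v' : F.obj B ⟶ C') (w' : C' ⟶ (F.obj A)⟦(1 : ℤ)⟧)
    (hT₂ : Triangle.mk (F.map u) v' w' ∈ distTriang T)
    (y : C ⟶ F.obj B) (z : A⟦(1 : ℤ)⟧ ⟶ C') (hyz : y ≫ v' = w ≫ z) :
    tr F c B (v ≫ y) = - tr F c A ((sh (k := k) A (F.obj A)).symm (z ≫ w')) := by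
  have hex : ∃ t : B⟦(1 : ℤ)⟧ ⟶ (F.obj A)⟦(1 : ℤ)⟧, (-u⟦(1 : ℤ)⟧') ≫ t = z ≫ w' ∧
      (-v⟦(1 : ℤ)⟧') ≫ y⟦(1 : ℤ)⟧' = t ≫ (-(F.map u)⟦(1 : ℤ)⟧') :=
    complete_distinguished_triangle_morphism
      (Triangle.mk u v w).rotate.rotate (Triangle.mk (F.map u) v' w').rotate
      (rot_of_distTriang _ (rot_of_distTriang _ hT)) (rot_of_distTriang _ hT₂) y z hyz.symm
  obtain ⟨t, ht₁, ht₂⟩ := hex
  obtain ⟨t', rfl⟩ : ∃ t' : B ⟶ F.obj A, t'⟦(1 : ℤ)⟧' = t :=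
    ⟨(sh (k := k) _ _).symm t, map_sh_symm _⟩
  have h1 : z ≫ w' = (-(u ≫ t'))⟦(1 : ℤ)⟧' := by
    rw [← ht₁, Functor.map_neg, Functor.map_comp, Preadditive.neg_comp]
  have h2 : v ≫ y = t' ≫ F.map u := by
    apply (shiftFunctor T (1 : ℤ)).map_injective
    rw [Functor.map_comp, Functor.map_comp]
    rw [Preadditive.neg_comp, Preadditive.comp_neg, neg_inj] at ht₂
    exact ht₂
  rw [h1, sh_symm_map, map_neg, neg_neg, h2, tr_comm F c hc₁ hc₂ u t']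

include hc₁ hc₂ in
/-- Existence of the comparison map `ψ : C' ⟶ F C`. -/
theorem exists_ψ {A B C C' : T} (u : A ⟶ B) (v : B ⟶ C) (w : C ⟶ A⟦(1 : ℤ)⟧)
    (hT : Triangle.mk u v w ∈ distTriang T)
    (v' : F.obj B ⟶ C') (w' : C' ⟶ (F.obj A)⟦(1 : ℤ)⟧)
    (hT₂ : Triangle.mk (F.map u) v' w' ∈ distTriang T) :
    ∃ ψ : C' ⟶ F.obj C, v' ≫ ψ = F.map v ∧ ψ ≫ F.map w = w' ≫ θ F c A := by
  -- the two prescriptions
  let p : (C ⟶ F.obj B) →ₗ[k] k := tr F c B ∘ₗ Linear.leftComp k (F.obj B) v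
  let q : (A⟦(1 : ℤ)⟧ ⟶ C') →ₗ[k] k :=
    -(tr F c A ∘ₗ (sh (k := k) A (F.obj A)).symm.toLinearMap ∘ₗ
      Linear.rightComp k (A⟦(1 : ℤ)⟧) w')
  let Λ : ((C ⟶ F.obj B) × (A⟦(1 : ℤ)⟧ ⟶ C')) →ₗ[k] (C ⟶ C') :=
    (Linear.rightComp k C v').coprod (Linear.leftComp k C' w)
  let ρ : ((C ⟶ F.obj B) × (A⟦(1 : ℤ)⟧ ⟶ C')) →ₗ[k] k := p.coprod q
  have hp : ∀ y, p y = tr F c B (v ≫ y) := fun y => rfl
  have hq : ∀ z, q z = - tr F c A ((sh (k := k) A (F.obj A)).symm (z ≫ w')) := fun z => rfl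
  have hΛ : ∀ y z, Λ (y, z) = y ≫ v' + w ≫ z := fun y z => by
    simp [Λ, LinearMap.coprod_apply]
  have hρ : ∀ y z, ρ (y, z) = p y + q z := fun y z => by
    simp [ρ, LinearMap.coprod_apply]
  obtain ⟨Ψ, hΨ⟩ := exists_factor_of_ker_le Λ ρ (by
    rintro ⟨y, z⟩ hyz
    rw [hΛ] at hyz
    have hyz' : y ≫ v' = w ≫ (-z) := by
      rw [Preadditive.comp_neg]; exact eq_neg_of_add_eq_zero_left hyz
    have := compat F c hc₁ hc₂ u v w hT v' w' hT₂ y (-z) hyz'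
    rw [hρ, hp, hq, this, Preadditive.neg_comp, map_neg, map_neg]
    ring)
  obtain ⟨ψ, hψ⟩ := exists_rep F c Ψ
  have hΨ1 : ∀ y : C ⟶ F.obj B, Ψ (y ≫ v') = tr F c B (v ≫ y) := fun y => by
    have := hΨ (y, 0)
    rw [hΛ, hρ, comp_zero, add_zero, map_zero, add_zero] at this
    rw [this, hp]
  have hΨ2 : ∀ z : A⟦(1 : ℤ)⟧ ⟶ C', Ψ (w ≫ z) =
      - tr F c A ((sh (k := k) A (F.obj A)).symm (z ≫ w')) := fun z => by
    have := hΨ (0, z)
    rw [hΛ, hρ, zero_comp, zero_add, map_zero, zero_add] at this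
    rw [this, hq]
  refine ⟨ψ, ?_, ?_⟩
  · apply nd_right F c
    intro y
    rw [← N1 F c hc₁, hψ, hΨ1]
    have := N2 F c hc₂ v y (𝟙 _)
    rw [Category.id_comp] at this
    rw [← this, pair_eq_tr_left F c hc₁, Category.comp_id]
  · apply nd_right F c
    intro z
    rw [← N2 F c hc₂, hψ, hΨ2, ← N1 F c hc₁, θ_spec]

include hc₁ hc₂ in
theorem main (Tr : Triangle T) (hTr : Tr ∈ distTriang T) :
    Triangle.mk (F.map Tr.mor₁) (F.map Tr.mor₂)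
      (F.map Tr.mor₃ ≫ (e F c hc₁ hc₂).hom.app Tr.obj₁) ∈ distTriang T := by
  obtain ⟨A, B, C, u, v, w⟩ := Tr
  change Triangle.mk u v w ∈ distTriang T at hTr
  change Triangle.mk (F.map u) (F.map v) (F.map w ≫ (e F c hc₁ hc₂).hom.app A) ∈ distTriang T
  obtain ⟨C', v', w', hT₂⟩ := distinguished_cocone_triangle (F.map u)
  obtain ⟨ψ, hψ1, hψ2⟩ := exists_ψ F c hc₁ hc₂ u v w hTr v' w' hT₂
  have hψ2' : ψ ≫ F.map w ≫ (e F c hc₁ hc₂).hom.app A = w' := by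
    rw [← Category.assoc, hψ2, Category.assoc, θ_comp_e_hom_app, Category.comp_id]
  have hexB : ∀ (X : T) (f : B ⟶ X), u ≫ f = 0 → ∃ f' : C ⟶ X, f = v ≫ f' :=
    fun X f hf => Triangle.yoneda_exact₂ _ hTr f hf
  have hexC : ∀ (X : T) (f : C ⟶ X), v ≫ f = 0 → ∃ f' : A⟦(1 : ℤ)⟧ ⟶ X, f = w ≫ f' :=
    fun X f hf => Triangle.yoneda_exact₃ _ hTr f hf
  have hiso : IsIso ψ := by
    apply isIso_of_yoneda_map_bijective
    intro X
    constructor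
    · -- injectivity
      intro g g' hgg
      dsimp only at hgg
      rw [← sub_eq_zero]
      have hg : (g - g') ≫ ψ = 0 := by rw [Preadditive.sub_comp, hgg, sub_self]
      generalize g - g' = d at hg
      have h1 : d ≫ w' = 0 := by rw [← hψ2', ← Category.assoc, hg, zero_comp]
      have hex1 : ∃ g₁ : X ⟶ F.obj B, d = g₁ ≫ v' := Triangle.coyoneda_exact₃ _ hT₂ d h1
      obtain ⟨g₁, rfl⟩ := hex1
      have h2 : g₁ ≫ F.map v = 0 := by rw [← hψ1, ← Category.assoc, hg]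
      obtain ⟨g₂, rfl⟩ := exact_of_exact F c hc₂ u v hexB g₁ h2
      rw [Category.assoc]
      have : F.map u ≫ v' = 0 := comp_distTriang_mor_zero₁₂ _ hT₂
      rw [this, comp_zero]
    · -- surjectivity
      intro h
      dsimp only
      have h1 : (h ≫ F.map w ≫ (e F c hc₁ hc₂).hom.app A) ≫ (-(F.map u)⟦(1 : ℤ)⟧') = 0 := by
        have hn : F.map (u⟦(1 : ℤ)⟧') ≫ (e F c hc₁ hc₂).hom.app B =
            (e F c hc₁ hc₂).hom.app A ≫ (F.map u)⟦(1 : ℤ)⟧' := (e F c hc₁ hc₂).hom.naturality u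
        have hz : w ≫ u⟦(1 : ℤ)⟧' = 0 := comp_distTriang_mor_zero₃₁ _ hTr
        rw [Preadditive.comp_neg, Category.assoc, Category.assoc, ← hn, ← F.map_comp_assoc, hz,
          F.map_zero, zero_comp, comp_zero, neg_zero]
      have hex2 : ∃ g : X ⟶ C', h ≫ F.map w ≫ (e F c hc₁ hc₂).hom.app A = g ≫ w' :=
        Triangle.coyoneda_exact₃ _ (rot_of_distTriang _ hT₂) _ h1
      obtain ⟨g, hg⟩ := hex2
      have h2 : (h - g ≫ ψ) ≫ F.map w = 0 := by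
        have : (h - g ≫ ψ) ≫ F.map w ≫ (e F c hc₁ hc₂).hom.app A = 0 := by
          rw [Preadditive.sub_comp, Category.assoc, hψ2', hg, sub_self]
        calc (h - g ≫ ψ) ≫ F.map w
            = ((h - g ≫ ψ) ≫ F.map w) ≫ ((e F c hc₁ hc₂).hom.app A ≫ θ F c A) := by
              rw [e_hom_app_comp_θ]; exact (Category.comp_id _).symm
          _ = ((h - g ≫ ψ) ≫ F.map w ≫ (e F c hc₁ hc₂).hom.app A) ≫ θ F c A := by
              simp only [Category.assoc]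
          _ = 0 := by rw [this, zero_comp]
      obtain ⟨g₁, hg₁⟩ := exact_of_exact F c hc₂ v w hexC (h - g ≫ ψ) h2
      refine ⟨g + g₁ ≫ v', ?_⟩
      rw [Preadditive.add_comp, Category.assoc, hψ1, ← hg₁]
      abel
  refine isomorphic_distinguished _ hT₂ _ ?_
  refine Triangle.isoMk _ _ (Iso.refl _) (Iso.refl _) (asIso ψ).symm ?_ ?_ ?_
  · change F.map u ≫ 𝟙 _ = 𝟙 _ ≫ F.map u
    simp
  · change F.map v ≫ inv ψ = 𝟙 _ ≫ v'
    rw [Category.id_comp, IsIso.comp_inv_eq, hψ1]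
  · change (F.map w ≫ (e F c hc₁ hc₂).hom.app A) ≫ (𝟙 (F.obj A))⟦(1 : ℤ)⟧' = inv ψ ≫ w'
    rw [CategoryTheory.Functor.map_id]
    refine (Category.comp_id _).trans ?_
    rw [IsIso.eq_inv_comp, hψ2']

end Groth.Agent.Lib.Helper24.SerreC
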