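import Mathlib
import Groth.Prelude.Def_Hyper
import Groth.Agent.Lib.Helper24.SiteHypC
import Groth.Agent.Lib.Helper24.KanLeg
import Groth.Agent.Lib.Helper24.FCLim
import Groth.Agent.Lib.Helper20.FinStructuredArrow
import Groth.Agent.Lib.Helper5.HyOver

set_option backward.isDefEq.respectTransparency false
set_option backward.isDefEq.respectTransparency.types false
set_option autoImplicit false

universe u

open CategoryTheory CategoryTheory.Limits Opposite Simplicial SimplexCategory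

namespace Groth.Agent.Lib.Helper24.SiteHyp

open Groth.Agent.Lib.Helper24.BasisHyp (Fc fle fle_refl fle_trans ftop fle_top push push_mono push_id
  push_comp len_image_le len_image_comp_le len_image_id)

variable {𝒟 : Type u} [SmallCategory 𝒟] (B : Set 𝒟)
  [∀ (n : ℕ) (F : (SimplexCategory.Truncated n)ᵒᵖ ⥤ Limits.FormalCoproduct.{u} 𝒟),
      (SimplexCategory.Truncated.inclusion n).op.HasRightKanExtension F]

open Groth.Agent.Lib.Helper24.KanLeg

/-- Structured arrows from maps. -/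
abbrev sa (n : ℕ) (a : SimplexCategory) (ha : a.len ≤ n) (φ : a ⟶ ⦋n + 1⦌) : SA n ⦋n + 1⦌ :=
  StructuredArrow.mk (S := op ⦋n + 1⦌) (T := (SimplexCategory.Truncated.inclusion n).op)
    (Y := op (⟨a, ha⟩ : SimplexCategory.Truncated n))
    (show op ⦋n + 1⦌ ⟶ (SimplexCategory.Truncated.inclusion n).op.obj
      (op (⟨a, ha⟩ : SimplexCategory.Truncated n)) from φ.op)

theorem sa_eta (n : ℕ) (g : SA n ⦋n + 1⦌) :
    g = sa n g.right.unop.obj g.right.unop.property g.hom.unop := rfl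

/-- The legs. -/
noncomputable abbrev PP (n : ℕ) (a : SimplexCategory) (ha : a.len ≤ n) (φ : a ⟶ ⦋n + 1⦌) :
    (kanCone (KK B) n ⦋n + 1⦌).pt ⟶ lev B a :=
  (kanCone (KK B) n ⦋n + 1⦌).π.app (sa n a ha φ)

theorem PP_compat (n : ℕ) (a : SimplexCategory) (ha : a.len ≤ n) (a' : SimplexCategory)
    (ha' : a'.len ≤ n) (φ : a ⟶ ⦋n + 1⦌) (ψ : a' ⟶ a) :
    PP B n a ha φ ≫ levMap B ψ = PP B n a' ha' (ψ ≫ φ) := by
  let w : sa n a ha φ ⟶ sa n a' ha' (ψ ≫ φ) :=
    StructuredArrow.homMk (SimplexCategory.Truncated.Hom.tr ψ ha' ha).op rfl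
  exact (kanCone (KK B) n ⦋n + 1⦌).w w

/-- The compatible family attached to an index of the coskeleton. -/
noncomputable def fam (n : ℕ) (j : (kanCone (KK B) n ⦋n + 1⦌).pt.I) : CFam B n where
  Fd a ha φ := (PP B n a ha φ).f j
  compat a ha a' ha' φ ψ := by
    have := congrArg (fun h => h.f j) (PP_compat B n a ha a' ha' φ ψ)
    exact this.symm
  Y := (kanCone (KK B) n ⦋n + 1⦌).pt.obj j
  p a ha φ := (PP B n a ha φ).φ j
  p_compat a ha a' ha' φ ψ := by
    obtain ⟨h₁, h₂⟩ := (FormalCoproduct.hom_ext_iff _ _).1 (PP_compat B n a ha a' ha' φ ψ)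
    have := h₂ j
    rw [← this]
    change ((PP B n a ha φ).φ j ≫
      ((PP B n a ha φ).f j).map (fle_top (push ψ (ftop a')))) ≫ eqToHom _ = _
    rw [Category.assoc]

/-- The constant diagram. -/
def constDg (b : SimplexCategory) (U : 𝒟) (hU : U ∈ B) : Dg B b where
  obj _ := U
  map _ := 𝟙 U
  map_id _ _ := rfl
  map_comp _ _ _ := (Category.comp_id _).symm
  mem _ := hU

variable (J : GrothendieckTopology 𝒟)

omit [∀ (n : ℕ) (F : (SimplexCategory.Truncated n)ᵒᵖ ⥤ Limits.FormalCoproduct.{u} 𝒟),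
      (SimplexCategory.Truncated.inclusion n).op.HasRightKanExtension F] in
theorem cover_zero
    (h1 : ∀ U : 𝒟, ∃ (ι : Type u) (V : ι → 𝒟) (f : ∀ i, V i ⟶ U),
      Sieve.ofArrows V f ∈ J U ∧ ∀ i, V i ∈ B) :
    Presheaf.IsLocallySurjective J
      (terminal.from (FormalCoproduct.yoneda.obj ((KK B).obj (op (SimplexCategory.mk 0))))) := by
  refine ⟨fun {U} s => ?_⟩
  obtain ⟨ι, V, f, hcov, hV⟩ := h1 U
  refine J.superset_covering ?_ hcov
  intro Z g hg
  obtain ⟨W, k, _, ⟨i⟩, rfl⟩ := hg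
  let D : Dg B ⦋0⦌ := constDg B ⦋0⦌ (V i) (hV i)
  refine ⟨(Groth.Agent.Lib.Helper5.HyFC.secIso ((KK B).obj (op (SimplexCategory.mk 0)))).inv.app
    (op Z) (⟨D, k⟩ : Groth.Agent.Lib.Helper5.HyFC.SecT _ Z), ?_⟩
  exact (Groth.Agent.Lib.Helper5.HyOver.subsingleton_terminal_obj _).elim _ _

variable [HasPullbacks 𝒟] [HasBinaryProducts 𝒟]

omit [∀ (n : ℕ) (F : (SimplexCategory.Truncated n)ᵒᵖ ⥤ Limits.FormalCoproduct.{u} 𝒟),
      (SimplexCategory.Truncated.inclusion n).op.HasRightKanExtension F] in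
theorem hasPointwise (n : ℕ) :
    (SimplexCategory.Truncated.inclusion n).op.HasPointwiseRightKanExtension
      ((SimplicialObject.truncation n).obj (KK B)) := by
  intro Y
  dsimp only [Functor.HasPointwiseRightKanExtensionAt]
  have : Nonempty (StructuredArrow Y (SimplexCategory.Truncated.inclusion n).op) :=
    ⟨StructuredArrow.mk (S := Y) (T := (SimplexCategory.Truncated.inclusion n).op)
      (Y := op (⟨⦋0⦌, Nat.zero_le n⟩ : SimplexCategory.Truncated n))
      (show Y ⟶ (SimplexCategory.Truncated.inclusion n).op.obj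
        (op (⟨⦋0⦌, Nat.zero_le n⟩ : SimplexCategory.Truncated n)) from
          (SimplexCategory.const ⦋0⦌ Y.unop 0).op)⟩
  have := Groth.Agent.Lib.Helper24.FCLim.hasLimitsOfShapeFC.{0, u, u, u} (C := 𝒟)
    (StructuredArrow Y (SimplexCategory.Truncated.inclusion n).op)
  infer_instance

theorem cover_succ
    (h1 : ∀ U : 𝒟, ∃ (ι : Type u) (V : ι → 𝒟) (f : ∀ i, V i ⟶ U),
      Sieve.ofArrows V f ∈ J U ∧ ∀ i, V i ∈ B) (n : ℕ) :
    Hyper.IsSRCovering J
      (((SimplicialObject.coskAdj n).unit.app (KK B)).app (op (SimplexCategory.mk (n + 1)))) := by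
  have := hasPointwise B n
  have hlim := kanIsLimit (KK B) n ⦋n + 1⦌
  intro j
  let G := fam B n j
  obtain ⟨ι, V, f, hcov, hV⟩ := h1 G.Y
  refine J.superset_covering ?_ hcov
  intro Z g hg
  obtain ⟨W, k, _, ⟨i⟩, rfl⟩ := hg
  -- the extension
  let U : 𝒟 := V i
  let u : U ⟶ G.Y := f i
  have hU : U ∈ B := hV i
  let D : Dg B ⦋n + 1⦌ := G.ext U hU u
  have hDtop : D.obj (ftop ⦋n + 1⦌) = U := G.ext_top U hU u
  let u' : D.obj (ftop ⦋n + 1⦌) ⟶ (kanCone (KK B) n ⦋n + 1⦌).pt.obj j := eqToHom hDtop ≫ u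
  let a : (FormalCoproduct.incl _).obj (D.obj (ftop ⦋n + 1⦌)) ⟶ (kanCone (KK B) n ⦋n + 1⦌).pt :=
    FormalCoproduct.Hom.fromIncl (Y := lev B ⦋n + 1⦌) D (𝟙 _) ≫
      ((SimplicialObject.coskAdj n).unit.app (KK B)).app (op (SimplexCategory.mk (n + 1)))
  let b : (FormalCoproduct.incl _).obj (D.obj (ftop ⦋n + 1⦌)) ⟶ (kanCone (KK B) n ⦋n + 1⦌).pt :=
    FormalCoproduct.Hom.fromIncl j u'
  have hab : a = b := by
    refine hlim.hom_ext (fun g => ?_)
    rw [sa_eta n g]
    have h1 : a ≫ (kanCone (KK B) n ⦋n + 1⦌).π.app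
        (sa n g.right.unop.obj g.right.unop.property g.hom.unop) =
        FormalCoproduct.Hom.fromIncl (Y := lev B ⦋n + 1⦌) D (𝟙 _) ≫ levMap B g.hom.unop := by
      change (_ ≫ _) ≫ _ = _
      rw [Category.assoc, unit_leg]
      rfl
    rw [h1]
    refine FormalCoproduct.hom_ext ?_ (fun _ => ?_)
    · funext _
      exact G.ext_pull U hU u _ g.right.unop.property g.hom.unop
    · change (𝟙 _ ≫ D.map (fle_top (push g.hom.unop (ftop g.right.unop.obj)))) ≫ eqToHom _ =
        u' ≫ G.p g.right.unop.obj g.right.unop.property g.hom.unop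
      rw [Category.id_comp, G.ext_top_map U hU u _ g.right.unop.property g.hom.unop]
      simp only [Category.assoc, eqToHom_trans, eqToHom_refl, Category.comp_id, u']
  obtain ⟨hf, hφ⟩ := (FormalCoproduct.hom_ext_iff _ _).1 hab
  have hDj : (((SimplicialObject.coskAdj n).unit.app (KK B)).app
      (op (SimplexCategory.mk (n + 1)))).f D = j := congrFun hf PUnit.unit
  let i0 : {i : ((KK B).obj (op (SimplexCategory.mk (n + 1)))).I //
      (((SimplicialObject.coskAdj n).unit.app (KK B)).app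
        (op (SimplexCategory.mk (n + 1)))).f i = j} := ⟨D, hDj⟩
  have hmem := Sieve.ofArrows_mk
    (fun i : {i : ((KK B).obj (op (SimplexCategory.mk (n + 1)))).I //
      (((SimplicialObject.coskAdj n).unit.app (KK B)).app
        (op (SimplexCategory.mk (n + 1)))).f i = j} =>
        ((KK B).obj (op (SimplexCategory.mk (n + 1)))).obj i.1)
    (fun i => (((SimplicialObject.coskAdj n).unit.app (KK B)).app
        (op (SimplexCategory.mk (n + 1)))).φ i.1 ≫ eqToHom (congrArg _ i.2)) i0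
  -- relate to f i
  have hrel : f i = (eqToHom hDtop.symm : U ⟶ D.obj (ftop ⦋n + 1⦌)) ≫
      ((((SimplicialObject.coskAdj n).unit.app (KK B)).app
        (op (SimplexCategory.mk (n + 1)))).φ D ≫ eqToHom (congrArg _ hDj)) := by
    have h2 := hφ PUnit.unit
    have h3 : (((SimplicialObject.coskAdj n).unit.app (KK B)).app
        (op (SimplexCategory.mk (n + 1)))).φ D ≫ eqToHom (congrArg _ hDj) = u' := by
      have h2' : (𝟙 _ ≫ (((SimplicialObject.coskAdj n).unit.app (KK B)).app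
          (op (SimplexCategory.mk (n + 1)))).φ D) ≫ eqToHom (congrArg _ hDj) = u' := h2
      rw [Category.id_comp] at h2'
      exact h2'
    rw [h3]
    simp [u', u]
  rw [hrel, ← Category.assoc]
  exact Sieve.downward_closed _ hmem _

theorem isHypercoveringSite
    (h1 : ∀ U : 𝒟, ∃ (ι : Type u) (V : ι → 𝒟) (f : ∀ i, V i ⟶ U),
      Sieve.ofArrows V f ∈ J U ∧ ∀ i, V i ∈ B) :
    Hyper.IsHypercoveringSite J (KK B) :=
  ⟨cover_zero B J h1,
    Groth.Agent.Lib.Helper5.HyOver.locSurj_prod_of_unit J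
      (Groth.Agent.Lib.Helper5.HyOver.locSurj_yoneda_of_isSRCovering J _ (cover_succ B J h1 0)),
    fun n _ => Groth.Agent.Lib.Helper5.HyOver.locSurj_yoneda_of_isSRCovering J _
      (cover_succ B J h1 n)⟩

omit [∀ (n : ℕ) (F : (SimplexCategory.Truncated n)ᵒᵖ ⥤ Limits.FormalCoproduct.{u} 𝒟),
      (SimplexCategory.Truncated.inclusion n).op.HasRightKanExtension F]
  [HasPullbacks 𝒟] [HasBinaryProducts 𝒟] in
theorem mem_class (n : ℕ) (i : ((KK B).obj (op (SimplexCategory.mk n))).I) :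
    ((KK B).obj (op (SimplexCategory.mk n))).obj i ∈ B :=
  i.mem _

end Groth.Agent.Lib.Helper24.SiteHyp
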