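import Mathlib
import Groth.Agent.Lib.Helper20.FinStructuredArrow

set_option backward.isDefEq.respectTransparency false
set_option backward.isDefEq.respectTransparency.types false
set_option autoImplicit false

universe v u

open CategoryTheory CategoryTheory.Limits Opposite Simplicial SimplexCategory

namespace Groth.Agent.Lib.Helper24.SkImg

variable {E : Type u} [Category.{v} E] (n : ℕ)
  [∀ (F : (SimplexCategory.Truncated n)ᵒᵖ ⥤ E),
    (SimplexCategory.Truncated.inclusion n).op.HasLeftKanExtension F]
  [∀ (F : (SimplexCategory.Truncated n)ᵒᵖ ⥤ E),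
    (SimplexCategory.Truncated.inclusion n).op.HasPointwiseLeftKanExtension F]

/-- The inclusion functor (opposite). -/
abbrev L : (SimplexCategory.Truncated n)ᵒᵖ ⥤ SimplexCategoryᵒᵖ :=
  (SimplexCategory.Truncated.inclusion n).op

variable (X : SimplicialObject E)

/-- The unit of the skeleton. -/
noncomputable abbrev β :
    (SimplicialObject.truncation n).obj X ⟶ L n ⋙ (SimplicialObject.sk n).obj X :=
  (L n).lanUnit.app ((SimplicialObject.truncation n).obj X)

/-- The colimit property. -/
noncomputable def isColim (m : SimplexCategory) :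
    IsColimit ((Functor.LeftExtension.mk _ (β n X)).coconeAt (op m)) :=
  haveI : ((L n).lan.obj ((SimplicialObject.truncation n).obj X)).IsLeftKanExtension (β n X) :=
    inferInstance
  Functor.isPointwiseLeftKanExtensionOfIsLeftKanExtension
    ((L n).lan.obj ((SimplicialObject.truncation n).obj X)) (β n X) (op m)

/-- The coprojections of the skeleton. -/
noncomputable def inj (a : SimplexCategory) (ha : a.len ≤ n) {m : SimplexCategory} (φ : m ⟶ a) :
    X.obj (op a) ⟶ ((SimplicialObject.sk n).obj X).obj (op m) :=
  (β n X).app (op ⟨a, ha⟩) ≫ ((SimplicialObject.sk n).obj X).map φ.op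

theorem inj_map (a : SimplexCategory) (ha : a.len ≤ n) {m m' : SimplexCategory} (φ : m ⟶ a)
    (θ : m' ⟶ m) :
    inj n X a ha φ ≫ ((SimplicialObject.sk n).obj X).map θ.op = inj n X a ha (θ ≫ φ) := by
  unfold inj
  rw [Category.assoc, ← Functor.map_comp]
  rfl

theorem hom_ext {T : E} {m : SimplexCategory}
    (u w : ((SimplicialObject.sk n).obj X).obj (op m) ⟶ T)
    (h : ∀ (a : SimplexCategory) (ha : a.len ≤ n) (φ : m ⟶ a),
      inj n X a ha φ ≫ u = inj n X a ha φ ≫ w) : u = w := by
  apply (isColim n X m).hom_ext
  intro g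
  exact h g.left.unop.obj g.left.unop.property g.hom.unop

theorem inj_counit (a : SimplexCategory) (ha : a.len ≤ n) {m : SimplexCategory} (φ : m ⟶ a) :
    inj n X a ha φ ≫ ((SimplicialObject.skAdj n).counit.app X).app (op m) = X.map φ.op := by
  unfold inj
  have h1 := ((SimplicialObject.skAdj n).counit.app X).naturality φ.op
  have h2 := (L n).lanUnit_app_app_lanAdjunction_counit_app_app X (op ⟨a, ha⟩)
  rw [Category.assoc]
  erw [h1]
  rw [← Category.assoc]
  erw [h2]
  exact Category.id_comp _

theorem isIso_counit_app (a : SimplexCategory) (ha : a.len ≤ n) :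
    IsIso (((SimplicialObject.skAdj n).counit.app X).app (op a)) := by
  have h2 := (L n).lanUnit_app_app_lanAdjunction_counit_app_app X (op ⟨a, ha⟩)
  have : IsIso ((β n X).app (op ⟨a, ha⟩)) := inferInstance
  have : ((SimplicialObject.skAdj n).counit.app X).app (op a) = inv ((β n X).app (op ⟨a, ha⟩)) := by
    rw [← cancel_epi ((β n X).app (op ⟨a, ha⟩)), IsIso.hom_inv_id]
    exact h2
  rw [this]
  infer_instance

end Groth.Agent.Lib.Helper24.SkImg
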