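import Mathlib
import Groth.Agent.Lib.Helper24.SkImgA

set_option backward.isDefEq.respectTransparency false
set_option backward.isDefEq.respectTransparency.types false
set_option autoImplicit false

universe v u

open CategoryTheory CategoryTheory.Limits Opposite Simplicial SimplexCategory

namespace Groth.Agent.Lib.Helper24.SkImg

variable {A : Type u} [Category.{v} A] [Abelian A] (n : ℕ)
  [∀ (F : (SimplexCategory.Truncated n)ᵒᵖ ⥤ A),
    (SimplexCategory.Truncated.inclusion n).op.HasLeftKanExtension F]
  [∀ (F : (SimplexCategory.Truncated n)ᵒᵖ ⥤ A),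
    (SimplexCategory.Truncated.inclusion n).op.HasPointwiseLeftKanExtension F]
  (U : SimplicialObject A)

/-- In degrees above `n`, every coprojection of the skeleton factors through a degeneracy. -/
theorem inj_eq_comp_σ (a : SimplexCategory) (ha : a.len ≤ n) (k : ℕ) (hk : n < k + 1)
    (φ : ⦋k + 1⦌ ⟶ a) :
    ∃ (j : Fin (k + 1)) (θ : ⦋k⦌ ⟶ a),
      inj n U a ha φ = inj n U a ha θ ≫ ((SimplicialObject.sk n).obj U).σ j := by
  have hφ : ¬ Function.Injective φ.toOrderHom := by
    intro hinj
    have := Fintype.card_le_of_injective _ hinj
    simp only [Fintype.card_fin] at this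
    have h1 : (⦋k + 1⦌ : SimplexCategory).len = k + 1 := rfl
    omega
  obtain ⟨j, θ, rfl⟩ := SimplexCategory.eq_σ_comp_of_not_injective φ hφ
  exact ⟨j, θ, (inj_map n U a ha θ (σ j)).symm⟩

theorem PInfty_f_eq_zero (k : ℕ) (hk : n < k + 1) :
    (AlgebraicTopology.DoldKan.PInfty (X := (SimplicialObject.sk n).obj U)).f (k + 1) = 0 := by
  apply hom_ext n U
  intro a ha φ
  obtain ⟨j, θ, h⟩ := inj_eq_comp_σ n U a ha k hk φ
  rw [h, Category.assoc, AlgebraicTopology.DoldKan.σ_comp_PInfty, comp_zero, comp_zero]

theorem isZero_normalized (k : ℕ) (hk : n < k + 1) :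
    IsZero (((AlgebraicTopology.normalizedMooreComplex A).obj
      ((SimplicialObject.sk n).obj U)).X (k + 1)) := by
  have h := congr_arg (fun f => f.f (k + 1))
    (AlgebraicTopology.DoldKan.inclusionOfMooreComplexMap_comp_PInfty
      ((SimplicialObject.sk n).obj U))

  rw [HomologicalComplex.comp_f, PInfty_f_eq_zero n U k hk, comp_zero] at h
  have hm : Mono ((AlgebraicTopology.inclusionOfMooreComplexMap
      ((SimplicialObject.sk n).obj U)).f (k + 1)) := by
    rw [AlgebraicTopology.inclusionOfMooreComplexMap_f]
    infer_instance
  rw [IsZero.iff_id_eq_zero, ← cancel_mono ((AlgebraicTopology.inclusionOfMooreComplexMap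
      ((SimplicialObject.sk n).obj U)).f (k + 1)), zero_comp, Category.id_comp]
  exact h.symm

theorem mono_normalized_map (k : ℕ) :
    Mono (((AlgebraicTopology.normalizedMooreComplex A).map
      ((SimplicialObject.skAdj n).counit.app U)).f k) := by
  by_cases hk : k ≤ n
  · -- the counit is an isomorphism in this degree
    have hiso := isIso_counit_app n U ⦋k⦌ hk
    have nat := congr_arg (fun f => f.f k)
      ((AlgebraicTopology.inclusionOfMooreComplex A).naturality
        ((SimplicialObject.skAdj n).counit.app U))

    rw [HomologicalComplex.comp_f, HomologicalComplex.comp_f] at nat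
    have hm1 : Mono ((AlgebraicTopology.inclusionOfMooreComplexMap
        ((SimplicialObject.sk n).obj U)).f k) := by
      rw [AlgebraicTopology.inclusionOfMooreComplexMap_f]
      infer_instance
    have hm2 : Mono (((AlgebraicTopology.alternatingFaceMapComplex A).map
        ((SimplicialObject.skAdj n).counit.app U)).f k) := by
      change Mono (((SimplicialObject.skAdj n).counit.app U).app (op ⦋k⦌))
      infer_instance
    have hm3 : Mono (((AlgebraicTopology.inclusionOfMooreComplex A).app
          ((SimplicialObject.sk n).obj U)).f k ≫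
        ((AlgebraicTopology.alternatingFaceMapComplex A).map
          ((SimplicialObject.skAdj n).counit.app U)).f k) := by
      haveI : Mono (((AlgebraicTopology.inclusionOfMooreComplex A).app
          ((SimplicialObject.sk n).obj U)).f k) := hm1
      exact mono_comp _ _
    exact mono_of_mono_fac nat
  · obtain ⟨k', rfl⟩ : ∃ k', k = k' + 1 := ⟨k - 1, by omega⟩
    have hz := isZero_normalized n U k' (by omega)
    exact ⟨fun f g _ => hz.eq_of_tgt _ _⟩

/-- The counit of the skeleton adjunction is a monomorphism in each degree. -/
theorem mono_counit_app (m : SimplexCategory) :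
    Mono (((SimplicialObject.skAdj n).counit.app U).app (op m)) := by
  have h1 : Mono ((AlgebraicTopology.normalizedMooreComplex A).map
      ((SimplicialObject.skAdj n).counit.app U)) :=
    HomologicalComplex.mono_of_mono_f _ (fun k => mono_normalized_map n U k)
  have h2 : Mono ((Abelian.DoldKan.equivalence (A := A)).functor.map
      ((SimplicialObject.skAdj n).counit.app U)) := h1
  have h3 : Mono ((SimplicialObject.skAdj n).counit.app U) :=
    (Abelian.DoldKan.equivalence (A := A)).functor.mono_of_mono_map h2
  infer_instance

end Groth.Agent.Lib.Helper24.SkImg
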