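import Mathlib
import Groth.Agent.Lib.Helper24.SkImgB

set_option backward.isDefEq.respectTransparency false
set_option backward.isDefEq.respectTransparency.types false
set_option autoImplicit false

universe v u

open CategoryTheory CategoryTheory.Limits Opposite Simplicial SimplexCategory

namespace Groth.Agent.Lib.Helper24.SkImg

variable {A : Type u} [Category.{v} A] [Abelian A] (n : ℕ)
  [∀ (F : (SimplexCategory.Truncated n)ᵒᵖ ⥤ A),
    (SimplexCategory.Truncated.inclusion n).op.HasLeftKanExtension F]
  [∀ (F : (SimplexCategory.Truncated n)ᵒᵖ ⥤ A),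
    (SimplexCategory.Truncated.inclusion n).op.HasPointwiseLeftKanExtension F]
  (U : SimplicialObject A)

theorem isLUB_image_counit (m : ℕ) :
    IsLUB (Set.range (fun φ : Σ i : Fin (n + 1), (SimplexCategory.mk m ⟶ SimplexCategory.mk i) =>
        imageSubobject (U.map φ.2.op)))
      (imageSubobject (((SimplicialObject.skAdj n).counit.app U).app (op (SimplexCategory.mk m)))) := by
  constructor
  · rintro _ ⟨⟨i, φ⟩, rfl⟩
    have hi : (⦋(i : ℕ)⦌ : SimplexCategory).len ≤ n := by
      change (i : ℕ) ≤ n
      omega
    have h := inj_counit n U ⦋(i : ℕ)⦌ hi φ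
    change imageSubobject (U.map φ.op) ≤ _
    rw [← h]
    exact imageSubobject_comp_le _ _
  · intro S hS
    -- every `U.map φ.op` factors through `S`
    have hfac : ∀ (a : SimplexCategory) (ha : a.len ≤ n) (φ : ⦋m⦌ ⟶ a),
        U.map φ.op ≫ cokernel.π S.arrow = 0 := by
      intro a ha φ
      induction a using SimplexCategory.rec with | _ i =>
      have hi : i < n + 1 := by
        have : (⦋i⦌ : SimplexCategory).len = i := rfl
        omega
      have hle : imageSubobject (U.map φ.op) ≤ S :=
        hS ⟨⟨⟨i, hi⟩, φ⟩, rfl⟩
      have h0 : (imageSubobject (U.map φ.op)).Factors (U.map φ.op) := by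
        simpa using imageSubobject_factors_comp_self (f := U.map φ.op) (𝟙 _)
      have hf : S.Factors (U.map φ.op) := Subobject.factors_of_le _ hle h0
      rw [← Subobject.factorThru_arrow S _ hf, Category.assoc, cokernel.condition, comp_zero]
    have hzero : ((SimplicialObject.skAdj n).counit.app U).app (op ⦋m⦌) ≫ cokernel.π S.arrow = 0 := by
      apply hom_ext n U
      intro a ha φ
      rw [← Category.assoc, inj_counit, hfac a ha φ, comp_zero]
    exact imageSubobject_le _ (Abelian.monoLift S.arrow _ hzero) (Abelian.monoLift_comp _ _ _)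

/-- The counit of the skeleton adjunction is a monomorphism in each degree, with image the
subobject generated by the images of the lower-dimensional pieces. -/
theorem main (U' : ∀ m : ℕ, Subobject (U.obj (op (SimplexCategory.mk m))))
    (hU' : ∀ m : ℕ, IsLUB (Set.range (fun φ : Σ i : Fin (n + 1),
      (SimplexCategory.mk m ⟶ SimplexCategory.mk i) => imageSubobject (U.map φ.2.op))) (U' m))
    (m : ℕ) :
    Mono (((SimplicialObject.skAdj n).counit.app U).app (op (SimplexCategory.mk m))) ∧
      imageSubobject (((SimplicialObject.skAdj n).counit.app U).app (op (SimplexCategory.mk m))) =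
        U' m :=
  ⟨mono_counit_app n U _, (isLUB_image_counit n U m).unique (hU' m)⟩

end Groth.Agent.Lib.Helper24.SkImg
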