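import Groth.Prelude.Def_AlgSp
set_option autoImplicit false
set_option linter.unusedSectionVars false
universe u
open CategoryTheory CategoryTheory.Limits AlgebraicGeometry Opposite

/-! Change of the base scheme along `g : S ⟶ S'`: the concrete left adjoint `j_!` of the
restriction functor on (pre)sheaves, `(j_! F)(T') = Σ (φ : T' ⟶ S over S'), F(T' with φ)`. -/

namespace Groth.Agent.Lib.Helper24.Slice
open AlgSp

variable {S S' : Scheme.{u}} (g : S ⟶ S')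

/-- `S` as a scheme over `S'` -/
abbrev base : Over S' := Over.mk g

/-- an `S'`-scheme with a map to `S`, as an `S`-scheme -/
abbrev lft {T' : Over S'} (φ : T' ⟶ base g) : Over S := Over.mk φ.left

variable {g}

lemma map_congr_left (F : (Over S)ᵒᵖ ⥤ Type (u + 1)) {V W : Over S} {a b : V ⟶ W}
    (h : a.left = b.left) (ξ : F.obj (op W)) : F.map a.op ξ = F.map b.op ξ := by
  have : a = b := Over.OverMorphism.ext h
  rw [this]

lemma map_id_left (F : (Over S)ᵒᵖ ⥤ Type (u + 1)) {V : Over S} {a : V ⟶ V}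
    (h : a.left = 𝟙 V.left) (ξ : F.obj (op V)) : F.map a.op ξ = ξ := by
  have : a = 𝟙 V := Over.OverMorphism.ext h
  rw [this, op_id, Functor.map_id_apply]

/-- the transition morphism `lft ψ ⟶ lft φ` over `h` -/
abbrev lftHom {T'' T' : Over S'} (h : T'' ⟶ T') (φ : T' ⟶ base g) (ψ : T'' ⟶ base g)
    (e : h ≫ φ = ψ) : lft g ψ ⟶ lft g φ :=
  Over.homMk h.left (by rw [← e]; rfl)

variable (F : (Over S)ᵒᵖ ⥤ Type (u + 1))

/-- restriction of sections along a morphism of `S'`-schemes -/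
def res {T'' T' : Over S'} (h : T'' ⟶ T') (φ : T' ⟶ base g) (ψ : T'' ⟶ base g)
    (e : h ≫ φ = ψ) (ξ : F.obj (op (lft g φ))) : F.obj (op (lft g ψ)) :=
  F.map (lftHom h φ ψ e).op ξ

lemma res_id' {T' : Over S'} (φ : T' ⟶ base g) (e : 𝟙 T' ≫ φ = φ)
    (ξ : F.obj (op (lft g φ))) : res F (𝟙 T') φ φ e ξ = ξ :=
  map_id_left F rfl ξ

lemma res_res {T''' T'' T' : Over S'} (h' : T''' ⟶ T'') (h : T'' ⟶ T') (φ : T' ⟶ base g)
    (ψ : T'' ⟶ base g) (χ : T''' ⟶ base g) (e : h ≫ φ = ψ) (e' : h' ≫ ψ = χ)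
    (ξ : F.obj (op (lft g φ))) :
    res F h' ψ χ e' (res F h φ ψ e ξ) =
      res F (h' ≫ h) φ χ (by rw [Category.assoc, e, e']) ξ := by
  unfold res
  rw [← Functor.map_comp_apply, ← op_comp]
  exact map_congr_left F rfl ξ

lemma res_congr {T'' T' : Over S'} {h h' : T'' ⟶ T'} (hh : h = h') (φ : T' ⟶ base g)
    (ψ : T'' ⟶ base g) (e : h ≫ φ = ψ) (ξ : F.obj (op (lft g φ))) :
    res F h φ ψ e ξ = res F h' φ ψ (hh ▸ e) ξ := by
  subst hh; rfl

variable (g)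

/-- sections of `j_! F` -/
structure Sec (T' : Over S') : Type (u + 1) where
  φ : T' ⟶ base g
  ξ : F.obj (op (lft g φ))

variable {g}

lemma Sec.ext' {T' : Over S'} {a b : Sec g F T'} (h1 : a.φ = b.φ)
    (h2 : res F (𝟙 T') a.φ b.φ (by rw [Category.id_comp, h1]) a.ξ = b.ξ) : a = b := by
  obtain ⟨φ, ξ⟩ := a
  obtain ⟨ψ, ζ⟩ := b
  dsimp only at h1
  subst h1
  rw [res_id' F φ _ ξ] at h2
  dsimp only at h2
  subst h2
  rfl

/-- restriction of sections of `j_! F` -/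
def Sec.map {T'' T' : Over S'} (h : T'' ⟶ T') (x : Sec g F T') : Sec g F T'' :=
  ⟨h ≫ x.φ, res F h x.φ _ rfl x.ξ⟩

@[simp] lemma Sec.map_φ {T'' T' : Over S'} (h : T'' ⟶ T') (x : Sec g F T') :
    (Sec.map F h x).φ = h ≫ x.φ := rfl

lemma Sec.map_ξ {T'' T' : Over S'} (h : T'' ⟶ T') (x : Sec g F T') :
    (Sec.map F h x).ξ = res F h x.φ _ rfl x.ξ := rfl

lemma Sec.map_id {T' : Over S'} (x : Sec g F T') : Sec.map F (𝟙 T') x = x := by
  refine Sec.ext' F (Category.id_comp _) ?_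
  exact (res_res F (𝟙 T') (𝟙 T') x.φ (𝟙 T' ≫ x.φ) x.φ rfl (Category.id_comp _) x.ξ).trans
    (map_id_left F (by simp) _)

lemma Sec.map_comp {T₁ T₂ T₃ : Over S'} (k : T₃ ⟶ T₂) (h : T₂ ⟶ T₁) (x : Sec g F T₁) :
    Sec.map F (k ≫ h) x = Sec.map F k (Sec.map F h x) := by
  refine Sec.ext' F (Category.assoc _ _ _) ?_
  refine (res_res F (𝟙 T₃) (k ≫ h) x.φ ((k ≫ h) ≫ x.φ) (k ≫ h ≫ x.φ) rfl
    (by rw [Category.id_comp, Category.assoc]) x.ξ).trans ?_
  refine Eq.trans ?_ (res_res F k h x.φ (h ≫ x.φ) (k ≫ h ≫ x.φ) rfl rfl x.ξ).symm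
  exact map_congr_left F (by simp) _

/-- characterization of equalities `x|_h = y` -/
lemma Sec.map_eq_iff {T'' T' : Over S'} (h : T'' ⟶ T') (x : Sec g F T') (y : Sec g F T'') :
    Sec.map F h x = y ↔ ∃ e : h ≫ x.φ = y.φ, res F h x.φ y.φ e x.ξ = y.ξ := by
  constructor
  · rintro rfl
    exact ⟨rfl, rfl⟩
  · rintro ⟨e, he⟩
    refine Sec.ext' F e ?_
    refine (res_res F (𝟙 T'') h x.φ (h ≫ x.φ) y.φ rfl (by rw [Category.id_comp, e]) x.ξ).trans ?_
    rw [← he]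
    exact map_congr_left F (by simp) _

variable (g)

/-- the presheaf `j_! F` -/
def shPsh : (Over S')ᵒᵖ ⥤ Type (u + 1) where
  obj T' := Sec g F T'.unop
  map {T' T''} h := ↾(Sec.map F h.unop)
  map_id T' := by
    ext x
    exact Sec.map_id F x
  map_comp {T₁ T₂ T₃} h k := by
    ext x
    exact Sec.map_comp F k.unop h.unop x

@[simp] lemma shPsh_map_apply {T' T'' : (Over S')ᵒᵖ} (h : T' ⟶ T'') (x : Sec g F T'.unop) :
    (shPsh g F).map h x = Sec.map F h.unop x := rfl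

end Groth.Agent.Lib.Helper24.Slice
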