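import Groth.Agent.Lib.Helper24.Slice1
set_option autoImplicit false
set_option linter.unusedSectionVars false
universe u
open CategoryTheory CategoryTheory.Limits AlgebraicGeometry Opposite

namespace Groth.Agent.Lib.Helper24.Slice
open AlgSp

variable {S S' : Scheme.{u}} {g : S ⟶ S'}

lemma map_map_left (F : (Over S)ᵒᵖ ⥤ Type (u + 1)) {V W Z : Over S} (a : V ⟶ W) (b : W ⟶ Z)
    (c : V ⟶ Z) (h : a.left ≫ b.left = c.left) (ξ : F.obj (op Z)) :
    F.map a.op (F.map b.op ξ) = F.map c.op ξ := by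
  rw [← Functor.map_comp_apply, ← op_comp]
  exact map_congr_left F h ξ

/-- the comparison `Φ (lft φ) ≅ T'` -/
def isoT {T' : Over S'} (φ : T' ⟶ base g) : (Over.map g).obj (lft g φ) ≅ T' :=
  Over.isoMk (Iso.refl _) (by simpa using (Over.w φ).symm)

@[simp] lemma isoT_hom_left {T' : Over S'} (φ : T' ⟶ base g) : (isoT φ).hom.left = 𝟙 _ := rfl
@[simp] lemma isoT_inv_left {T' : Over S'} (φ : T' ⟶ base g) : (isoT φ).inv.left = 𝟙 _ := rfl

/-- the canonical morphism `Φ V ⟶ S` over `S'` -/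
def can (V : Over S) : (Over.map g).obj V ⟶ base g := Over.homMk V.hom rfl

@[simp] lemma can_left (V : Over S) : (can (g := g) V).left = V.hom := rfl

/-- a morphism into `lft φ` as a morphism into `T'` -/
def toT {T' : Over S'} (φ : T' ⟶ base g) {V : Over S} (k : V ⟶ lft g φ) :
    (Over.map g).obj V ⟶ T' := (Over.map g).map k ≫ (isoT φ).hom

@[simp] lemma toT_left {T' : Over S'} (φ : T' ⟶ base g) {V : Over S} (k : V ⟶ lft g φ) :
    (toT φ k).left = k.left := by
  simp [toT]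

lemma toT_comp {T' : Over S'} (φ : T' ⟶ base g) {V : Over S} (k : V ⟶ lft g φ) :
    toT φ k ≫ φ = can V := by
  ext
  simpa using Over.w k

lemma toT_comp' {T' : Over S'} (φ : T' ⟶ base g) {V W : Over S} (m : W ⟶ V) (k : V ⟶ lft g φ) :
    toT φ (m ≫ k) = (Over.map g).map m ≫ toT φ k := by
  simp [toT]

/-- the sieve on `lft φ` induced by a sieve on `T'` -/
def sieveLft {T' : Over S'} (φ : T' ⟶ base g) (R : Sieve T') : Sieve (lft g φ) :=
  Sieve.functorPullback (Over.map g) (R.pullback (isoT φ).hom)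

lemma sieveLft_apply {T' : Over S'} (φ : T' ⟶ base g) (R : Sieve T') {V : Over S}
    (k : V ⟶ lft g φ) : sieveLft φ R k ↔ R (toT φ k) := Iff.rfl

lemma sieveLft_mem {T' : Over S'} (φ : T' ⟶ base g) (R : Sieve T') (hR : R ∈ J S' T') :
    sieveLft φ R ∈ J S (lft g φ) :=
  Functor.IsCocontinuous.cover_lift (G := Over.map g) (J := J S) (K := J S')
    ((J S').pullback_stable _ hR)

lemma lftHom_mem {T' : Over S'} (φ : T' ⟶ base g) (R : Sieve T') {V' : Over S'} (f : V' ⟶ T')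
    (hf : R f) (ψ : V' ⟶ base g) (e : f ≫ φ = ψ) : sieveLft φ R (lftHom f φ ψ e) := by
  rw [sieveLft_apply]
  have : toT φ (lftHom f φ ψ e) = (isoT ψ).hom ≫ f := by
    ext
    simp
  rw [this]
  exact R.downward_closed hf _

variable {F : (Over S)ᵒᵖ ⥤ Type (u + 1)}

/-- the fibre of `(j_! F)(Φ V)` over the canonical morphism is `F(V)` -/
def toFib {V : Over S} (x : Sec g F ((Over.map g).obj V)) (hx : x.φ = can V) : F.obj (op V) :=
  F.map (Over.homMk (𝟙 V.left) (by rw [hx]; simp) : V ⟶ lft g x.φ).op x.ξ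

/-- sections of `F` as sections of `j_! F` -/
def ofFib {V : Over S} (ξ : F.obj (op V)) : Sec g F ((Over.map g).obj V) := ⟨can V, ξ⟩

@[simp] lemma ofFib_φ {V : Over S} (ξ : F.obj (op V)) : (ofFib (g := g) ξ).φ = can V := rfl

lemma toFib_ofFib {V : Over S} (ξ : F.obj (op V)) : toFib (ofFib (g := g) ξ) rfl = ξ :=
  map_id_left F rfl ξ

lemma ofFib_toFib {V : Over S} (x : Sec g F ((Over.map g).obj V)) (hx : x.φ = can V) :
    ofFib (toFib x hx) = x := by
  refine Sec.ext' F hx.symm ?_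
  refine (map_map_left F _ _ (𝟙 _) ?_ _).trans (map_id_left F rfl _)
  exact Category.comp_id _

lemma toFib_map {V W : Over S} (m : W ⟶ V) (x : Sec g F ((Over.map g).obj V)) (hx : x.φ = can V)
    (hx' : (Sec.map F ((Over.map g).map m) x).φ = can W) :
    toFib (Sec.map F ((Over.map g).map m) x) hx' = F.map m.op (toFib x hx) := by
  unfold toFib
  rw [Sec.map_ξ]
  unfold res
  refine (map_map_left F _ _ (Over.homMk m.left (by rw [hx]; simp) : W ⟶ lft g x.φ) ?_ _).trans
    (map_map_left F _ _ _ ?_ _).symm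
  · exact Category.id_comp _
  · show 𝟙 W.left ≫ (m.left ≫ 𝟙 _) = m.left ≫ 𝟙 V.left
    simp

lemma toFib_map_isoT {V' : Over S'} (w : Sec g F V')
    (hzc : (Sec.map F (isoT w.φ).hom w).φ = can (lft g w.φ)) :
    toFib (Sec.map F (isoT w.φ).hom w) hzc = w.ξ := by
  unfold toFib
  rw [Sec.map_ξ]
  unfold res
  exact (map_map_left F _ _ (𝟙 _) (by simp) _).trans (map_id_left F rfl _)

variable (g) in
lemma isSheaf_base : Presieve.IsSheaf (J S') (yoneda.obj (base g)) :=
  GrothendieckTopology.Subcanonical.isSheaf_of_isRepresentable _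

lemma hom_base_ext {T' : Over S'} (R : Sieve T') (hR : R ∈ J S' T') (φ ψ : T' ⟶ base g)
    (h : ∀ ⦃V' : Over S'⦄ (f : V' ⟶ T'), R f → f ≫ φ = f ≫ ψ) : φ = ψ :=
  ((isSheaf_base g R hR).isSeparatedFor).ext (fun V' f hf => h f hf)

lemma fam_congr {C : Type*} [Category C] {P : Cᵒᵖ ⥤ Type (u + 1)} {T : C} {R : Presieve T}
    (x : Presieve.FamilyOfElements P R) {V : C}
    {f f' : V ⟶ T} (h : f = f') (hf : R f) : x f hf = x f' (h ▸ hf) := by
  subst h; rfl

/-- separatedness of `j_! F` -/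
theorem sec_ext_of_cover (hF : Presieve.IsSheaf (J S) F) {T' : Over S'} (R : Sieve T')
    (hR : R ∈ J S' T') (t₁ t₂ : Sec g F T')
    (h : ∀ ⦃V' : Over S'⦄ (f : V' ⟶ T'), R f → Sec.map F f t₁ = Sec.map F f t₂) : t₁ = t₂ := by
  have e : t₁.φ = t₂.φ := hom_base_ext R hR _ _ (fun V' f hf => congrArg Sec.φ (h f hf))
  refine Sec.ext' F e ?_
  refine ((hF _ (sieveLft_mem t₂.φ R hR)).isSeparatedFor).ext ?_
  intro V k hk
  have h1 := h (toT t₂.φ k) hk
  rw [Sec.map_eq_iff] at h1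
  obtain ⟨e1, h2⟩ := h1
  rw [Sec.map_ξ] at h2
  unfold res at h2 ⊢
  have h3 := congrArg (F.map (Over.homMk (𝟙 V.left) (by
    have := Over.w k
    simpa using this) : V ⟶ lft g (toT t₂.φ k ≫ t₂.φ)).op) h2
  refine Eq.trans ?_ (h3.trans ?_)
  · refine (map_map_left F _ _ (Over.homMk k.left (by
      rw [e]; exact Over.w k) : V ⟶ lft g t₁.φ) ?_ _).trans (map_map_left F _ _ _ ?_ _).symm
    · simp
    · simp
  · exact map_map_left F _ _ _ (by simp) _

/-- gluing for `j_! F` -/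
theorem exists_amalgamation (hF : Presieve.IsSheaf (J S) F) {T' : Over S'} (R : Sieve T')
    (hR : R ∈ J S' T') (x : Presieve.FamilyOfElements (shPsh g F) R.arrows)
    (hx : x.SieveCompatible) : ∃ t, x.IsAmalgamation t := by
  have hx' : ∀ ⦃V' W' : Over S'⦄ (f : V' ⟶ T') (k : W' ⟶ V') (hf : R f),
      x (k ≫ f) (R.downward_closed hf k) = Sec.map F k (x f hf) := fun V' W' f k hf => hx f k hf
  -- the first components glue
  let xφ : Presieve.FamilyOfElements (yoneda.obj (base g)) R.arrows := fun V' f hf => (x f hf).φ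
  have hxφ : xφ.Compatible := by
    rw [Presieve.compatible_iff_sieveCompatible]
    intro V' W' f k hf
    exact congrArg Sec.φ (hx' f k hf)
  obtain ⟨(φ : T' ⟶ base g), hφ', -⟩ := (isSheaf_base g R hR) xφ hxφ
  have hφ : ∀ ⦃V' : Over S'⦄ (f : V' ⟶ T') (hf : R f), f ≫ φ = (x f hf).φ := fun V' f hf => hφ' f hf
  -- the second components glue
  have hcan : ∀ ⦃V : Over S⦄ (k : V ⟶ lft g φ) (hk : R (toT φ k)), (x (toT φ k) hk).φ = can V :=
    fun V k hk => (hφ _ hk).symm.trans (toT_comp φ k)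
  let y : Presieve.FamilyOfElements F (sieveLft φ R).arrows := fun V k hk =>
    toFib (x (toT φ k) hk) (hcan k hk)
  have hy : y.Compatible := by
    rw [Presieve.compatible_iff_sieveCompatible]
    intro V W k m hk
    have hk' : R (toT φ k) := hk
    have e1 : x (toT φ (m ≫ k)) ((sieveLft φ R).downward_closed hk m) =
        Sec.map F ((Over.map g).map m) (x (toT φ k) hk') :=
      (fam_congr x (toT_comp' φ m k) _).trans (hx' _ _ hk')
    change toFib (x (toT φ (m ≫ k)) _) _ = F.map m.op (toFib (x (toT φ k) hk') _)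
    rw [← toFib_map m (x (toT φ k) hk') (hcan k hk') (by rw [← e1]; exact hcan _ _)]
    congr 1
  obtain ⟨ξ, hξ', -⟩ := (hF _ (sieveLft_mem φ R hR)) y hy
  have hξ : ∀ ⦃V : Over S⦄ (k : V ⟶ lft g φ) (hk : R (toT φ k)),
      F.map k.op ξ = toFib (x (toT φ k) hk) (hcan k hk) := fun V k hk => hξ' k hk
  refine ⟨⟨φ, ξ⟩, ?_⟩
  intro V' f hf
  change Sec.map F f ⟨φ, ξ⟩ = x f hf
  refine (Sec.map_eq_iff F f _ _).2 ⟨hφ f hf, ?_⟩
  change F.map (lftHom f φ (x f hf).φ (hφ f hf)).op ξ = _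
  have hmem : R (toT φ (lftHom f φ (x f hf).φ (hφ f hf))) :=
    lftHom_mem φ R f hf _ (hφ f hf)
  rw [hξ _ hmem]
  have e2 : toT φ (lftHom f φ (x f hf).φ (hφ f hf)) = (isoT (x f hf).φ).hom ≫ f := by
    ext; simp
  have e3 : x (toT φ (lftHom f φ (x f hf).φ (hφ f hf))) hmem =
      Sec.map F (isoT (x f hf).φ).hom (x f hf) :=
    (fam_congr x e2 _).trans (hx' _ _ hf)
  have key : ∀ (z : Sec g F ((Over.map g).obj (lft g (x f hf).φ)))
      (hz : z = Sec.map F (isoT (x f hf).φ).hom (x f hf)) (hzc : z.φ = can _),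
      toFib z hzc = (x f hf).ξ := by
    intro z hz hzc
    subst hz
    exact toFib_map_isoT (x f hf) hzc
  exact key _ e3 _

/-- **`j_! F` is a sheaf.** -/
theorem isSheaf_shPsh (hF : Presieve.IsSheaf (J S) F) :
    Presieve.IsSheaf (J S') (shPsh g F) := by
  intro T' R hR
  rw [← Presieve.isSeparatedFor_and_exists_isAmalgamation_iff_isSheafFor]
  refine ⟨?_, ?_⟩
  · intro x t₁ t₂ h₁ h₂
    exact sec_ext_of_cover hF R hR t₁ t₂ (fun V' f hf => (h₁ f hf).trans (h₂ f hf).symm)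
  · intro x hx
    exact exists_amalgamation hF R hR x ((Presieve.compatible_iff_sieveCompatible x).1 hx)

section Functoriality
variable {G : (Over S)ᵒᵖ ⥤ Type (u + 1)} (a : F ⟶ G)

/-- functoriality of sections of `j_!` -/
def Sec.mapNat {T' : Over S'} (x : Sec g F T') : Sec g G T' := ⟨x.φ, a.app _ x.ξ⟩

@[simp] lemma Sec.mapNat_φ {T' : Over S'} (x : Sec g F T') : (Sec.mapNat a x).φ = x.φ := rfl
lemma Sec.mapNat_ξ {T' : Over S'} (x : Sec g F T') : (Sec.mapNat a x).ξ = a.app _ x.ξ := rfl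

lemma Sec.map_mapNat {T'' T' : Over S'} (h : T'' ⟶ T') (x : Sec g F T') :
    Sec.map G h (Sec.mapNat a x) = Sec.mapNat a (Sec.map F h x) :=
  congrArg (Sec.mk (h ≫ x.φ)) (NatTrans.naturality_apply a _ x.ξ).symm

variable (g) in
/-- `j_!` on morphisms of presheaves -/
def shPshMap : shPsh g F ⟶ shPsh g G where
  app T' := ↾(Sec.mapNat a)
  naturality T' T'' h := by
    ext x
    exact (Sec.map_mapNat a h.unop x).symm

@[simp] lemma shPshMap_app_apply {T' : (Over S')ᵒᵖ} (x : Sec g F T'.unop) :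
    (shPshMap g a).app T' x = Sec.mapNat a x := rfl

end Functoriality

variable (g) in
/-- **The concrete `j_!` on sheaves.** -/
def Sh : Sp S ⥤ Sp S' where
  obj F := ⟨shPsh g F.obj, (isSheaf_iff_isSheaf_of_type _ _).2
    (isSheaf_shPsh ((isSheaf_iff_isSheaf_of_type _ _).1 F.property))⟩
  map a := ⟨shPshMap g a.hom⟩
  map_id F := by
    apply Sheaf.hom_ext
    ext T' x
    rfl
  map_comp a b := by
    apply Sheaf.hom_ext
    ext T' x
    rfl

end Groth.Agent.Lib.Helper24.Slice
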