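import Groth.Agent.Lib.Helper24.Slice1b
set_option autoImplicit false
set_option linter.unusedSectionVars false
universe u
open CategoryTheory CategoryTheory.Limits AlgebraicGeometry Opposite

/-! The adjunction `j_! ⊣ j⁻¹` for the concrete `j_!`, and the comparison with Mathlib's
`sheafPullback`. -/

namespace Groth.Agent.Lib.Helper24.Slice
open AlgSp

variable {S S' : Scheme.{u}} (g : S ⟶ S')

/-- restriction `j⁻¹` -/
noncomputable abbrev jinv : Sp S' ⥤ Sp S := Scheme.fppfTopology.overMapPullback (Type (u + 1)) g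

/-- Mathlib's abstract `j_!` -/
noncomputable abbrev jshriek : Sp S ⥤ Sp S' :=
  (Over.map g).sheafPullback (Type (u + 1)) (J S) (J S')

example (F' : Sp S') : ((jinv g).obj F').obj = (Over.map g).op ⋙ F'.obj := rfl

variable {g}

lemma map_can {V W : Over S} (m : W ⟶ V) : (Over.map g).map m ≫ can V = can W := by
  ext
  simpa using Over.w m

/-- the unit `F ⟶ j⁻¹ j_! F` -/
def unitApp (F : Sp S) : F ⟶ (jinv g).obj ((Sh g).obj F) :=
  ⟨{ app := fun V => ↾(fun ξ => ofFib (g := g) (F := F.obj) ξ)
     naturality := fun V W m => by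
      ext ξ
      refine ((Sec.map_eq_iff F.obj ((Over.map g).map m.unop) (ofFib ξ) _).2
        ⟨map_can m.unop, ?_⟩).symm
      exact map_congr_left F.obj rfl ξ }⟩

/-- the counit `j_! j⁻¹ F' ⟶ F'` -/
def counitApp (F' : Sp S') : (Sh g).obj ((jinv g).obj F') ⟶ F' :=
  ⟨{ app := fun T' => ↾(fun x : Sec g ((jinv g).obj F').obj T'.unop =>
        F'.obj.map (isoT x.φ).inv.op x.ξ)
     naturality := fun T' T'' h => by
      ext x
      change F'.obj.map (isoT (Sec.map _ h.unop x).φ).inv.op
        (F'.obj.map ((Over.map g).map (lftHom h.unop x.φ (h.unop ≫ x.φ) rfl)).op x.ξ) =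
        F'.obj.map h.unop.op (F'.obj.map (isoT x.φ).inv.op x.ξ)
      exact (map_map_left F'.obj _ _ (h.unop ≫ (isoT x.φ).inv) (by simp) _).trans
        (map_map_left F'.obj _ _ _ rfl _).symm }⟩

/-- naturality of the unit -/
lemma unitApp_naturality {F G : Sp S} (a : F ⟶ G) :
    a ≫ unitApp (g := g) G = unitApp F ≫ (jinv g).map ((Sh g).map a) := by
  apply Sheaf.hom_ext
  ext V ξ
  rfl

/-- naturality of the counit -/
lemma counitApp_naturality {F' G' : Sp S'} (a : F' ⟶ G') :
    (Sh g).map ((jinv g).map a) ≫ counitApp G' = counitApp (g := g) F' ≫ a := by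
  apply Sheaf.hom_ext
  ext T' x
  exact (NatTrans.naturality_apply a.hom _ _).symm

lemma left_tri (F : Sp S) {T' : Over S'} (x : Sec g F.obj T') :
    Sec.map F.obj (isoT x.φ).inv (ofFib x.ξ) = x := by
  refine (Sec.map_eq_iff F.obj _ _ _).2 ⟨?_, ?_⟩
  · ext
    simp
  · exact map_id_left F.obj (by simp) _

lemma right_tri (F' : Sp S') {V : Over S} (ζ : F'.obj.obj (op ((Over.map g).obj V))) :
    F'.obj.map (isoT (can (g := g) V)).inv.op ζ = ζ :=
  map_id_left F'.obj rfl ζ

variable (g) in
/-- **The adjunction `j_! ⊣ j⁻¹`.** -/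
noncomputable def shAdj : Sh g ⊣ jinv g :=
  Adjunction.mkOfUnitCounit
    { unit := { app := fun F => unitApp F, naturality := fun F G a => unitApp_naturality a }
      counit := { app := fun F' => counitApp F', naturality := fun F' G' a => counitApp_naturality a }
      left_triangle := by
        ext F T' x
        exact left_tri F x
      right_triangle := by
        ext F' V ζ
        exact right_tri F' ζ }

end Groth.Agent.Lib.Helper24.Slice

namespace Groth.Agent.Lib.Helper24.Slice
open AlgSp
variable {S S' : Scheme.{u}} (g : S ⟶ S')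

/-- Mathlib's adjunction for the abstract `j_!` -/
noncomputable def jAdj : jshriek g ⊣ jinv g :=
  (Over.map g).sheafAdjunctionContinuous (Type (u + 1)) (J S) (J S')

/-- **Mathlib's `j_!` is the concrete one.** -/
noncomputable def shIso : jshriek g ≅ Sh g :=
  Adjunction.leftAdjointUniq (jAdj g) (shAdj g)

end Groth.Agent.Lib.Helper24.Slice
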