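import Groth.Agent.Lib.Helper24.Slice4
import Groth.Agent.Lib.Helper24.AtlasDiag
set_option autoImplicit false
set_option linter.unusedSectionVars false
universe u
open CategoryTheory CategoryTheory.Limits AlgebraicGeometry Opposite

/-! `j_!` and algebraic spaces. -/

namespace Groth.Agent.Lib.Helper24.Slice
open AlgSp Groth.Agent.Lib.Helper14.AS

variable {S S' : Scheme.{u}} {g : S ⟶ S'}

/-- representability with `P` of `j_! f` for `f` from a scheme -/
theorem repWith_Sh_iff (P : MorphismProperty Scheme.{u}) [P.RespectsIso] {F : Sp S} {T : Over S}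
    (f : (yon S).obj T ⟶ F) : RepWith P ((Sh g).map f) ↔ RepWith P f :=
  ⟨repWith_of_Sh P f, repWith_Sh P f⟩

/-- the same for Mathlib's `j_!` -/
theorem repWith_jshriek_iff (P : MorphismProperty Scheme.{u}) [P.RespectsIso] {F : Sp S}
    {T : Over S} (f : (yon S).obj T ⟶ F) : RepWith P ((jshriek g).map f) ↔ RepWith P f := by
  rw [← repWith_Sh_iff (g := g) P f]
  exact (RepWith P).arrow_mk_iso_iff
    (Arrow.isoMk ((shIso g).app _) ((shIso g).app _) ((shIso g).hom.naturality f).symm)

set_option backward.isDefEq.respectTransparency.types false in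
/-- **`j_!` of an algebraic space is an algebraic space.** -/
theorem isAlgSpace_Sh {F : Sp S} (hF : IsAlgSpace F) : IsAlgSpace ((Sh g).obj F) := by
  obtain ⟨U, p, he, hs⟩ := hF.atlas
  refine AtlasDiag.isAlgSpace_of_atlas (α g U ≫ (Sh g).map p) ?_ ?_
  · exact (MorphismProperty.cancel_left_of_respectsIso (RepWith @Etale) _ _).2
      (repWith_Sh @Etale p he)
  · exact (MorphismProperty.cancel_left_of_respectsIso (RepWith @Surjective) _ _).2
      (repWith_Sh @Surjective p hs)

set_option backward.isDefEq.respectTransparency.types false in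
/-- **a sheaf whose `j_!` is an algebraic space is an algebraic space.** -/
theorem isAlgSpace_of_Sh {F : Sp S} (hF : IsAlgSpace ((Sh g).obj F)) : IsAlgSpace F := by
  obtain ⟨U', p', he, hs⟩ := hF.atlas
  let x : Sec g F.obj U' := yEquiv p'
  have hp' : p' = (yon S').map (isoT x.φ).inv ≫ α g (lft g x.φ) ≫
      (Sh g).map (yEquiv.symm x.ξ) := by
    rw [← yEquiv_symm_sec F x]
    exact (Equiv.symm_apply_apply yEquiv p').symm
  rw [hp'] at he hs
  have he' := (MorphismProperty.cancel_left_of_respectsIso (RepWith @Etale) _ _).1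
    ((MorphismProperty.cancel_left_of_respectsIso (RepWith @Etale) _ _).1 he)
  have hs' := (MorphismProperty.cancel_left_of_respectsIso (RepWith @Surjective) _ _).1
    ((MorphismProperty.cancel_left_of_respectsIso (RepWith @Surjective) _ _).1 hs)
  exact AtlasDiag.isAlgSpace_of_atlas (yEquiv.symm x.ξ) (repWith_of_Sh @Etale _ he')
    (repWith_of_Sh @Surjective _ hs')

theorem isAlgSpace_Sh_iff {F : Sp S} : IsAlgSpace ((Sh g).obj F) ↔ IsAlgSpace F :=
  ⟨isAlgSpace_of_Sh, isAlgSpace_Sh⟩

theorem isAlgSpace_jshriek_iff {F : Sp S} : IsAlgSpace ((jshriek g).obj F) ↔ IsAlgSpace F :=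
  (isAlgSpace_iff_of_iso ((shIso g).app F)).trans isAlgSpace_Sh_iff

/-- `j_! h_X` is represented by `Φ X` -/
noncomputable def repJshriek (X : Over S) :
    ((jshriek g).obj ((yon S).obj X)).obj.RepresentableBy ((Over.map g).obj X) :=
  representableByOfIso (asIso (α g X) ≪≫ ((shIso g).app _).symm)

end Groth.Agent.Lib.Helper24.Slice
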