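import Groth.Agent.Lib.Helper24.Slice5
import Groth.Agent.Lib.Helper14.AlgSpProdQC
set_option autoImplicit false
set_option linter.unusedSectionVars false
universe u
open CategoryTheory CategoryTheory.Limits AlgebraicGeometry Opposite

/-! The structure map of `j_! F` to `h_S`, the projection formula `j_! j⁻¹ F' ≅ h_S × F'`, and
restriction of algebraic spaces. -/

namespace Groth.Agent.Lib.Helper24.Slice
open AlgSp Groth.Agent.Lib.Helper14.AS

variable {S S' : Scheme.{u}} {g : S ⟶ S'}

/-- a morphism of sheaves inducing bijections on points with values in schemes is an isomorphism -/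
lemma isIso_of_yon_bijective {B : Scheme.{u}} {A₁ A₂ : Sp B} (f : A₁ ⟶ A₂)
    (h : ∀ (T : Over B) (b : (yon B).obj T ⟶ A₂), ∃! a : (yon B).obj T ⟶ A₁, a ≫ f = b) :
    IsIso f := by
  refine isIso_of_bijective f fun T => ⟨?_, ?_⟩
  · obtain ⟨T⟩ := T
    intro x₁ x₂ h12
    obtain ⟨a, -, hu⟩ := h T (yEquiv.symm x₁ ≫ f)
    have e1 := hu (yEquiv.symm x₁) rfl
    have e2 := hu (yEquiv.symm x₂) (by
      show yEquiv.symm x₂ ≫ f = yEquiv.symm x₁ ≫ f
      rw [yEquiv_symm_comp, yEquiv_symm_comp, h12])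
    exact yEquiv.symm.injective (e1.trans e2.symm)
  · obtain ⟨T⟩ := T
    intro y
    obtain ⟨a, ha, -⟩ := h T (yEquiv.symm y)
    refine ⟨yEquiv a, ?_⟩
    rw [← yEquiv_comp, ha]
    exact Equiv.apply_symm_apply yEquiv y

variable (g) in
/-- the structure map `j_! F ⟶ h_S` -/
def σ (F : Sp S) : (Sh g).obj F ⟶ (yon S').obj (base g) :=
  ⟨{ app := fun T' => ↾(fun x : Sec g F.obj T'.unop => (⟨x.φ⟩ : ULift (T'.unop ⟶ base g)))
     naturality := fun _ _ _ => rfl }⟩

lemma σ_app (F : Sp S) {T' : Over S'} (x : Sec g F.obj T') :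
    (σ g F).hom.app (op T') x = ⟨x.φ⟩ := rfl

lemma Sh_map_σ {F G : Sp S} (a : F ⟶ G) : (Sh g).map a ≫ σ g G = σ g F := rfl

variable (g) in
/-- the comparison `j_! j⁻¹ F' ⟶ h_S × F'` -/
noncomputable def projMap (F' : Sp S') :
    (Sh g).obj ((jinv g).obj F') ⟶ (yon S').obj (base g) ⨯ F' :=
  prod.lift (σ g _) (counitApp F')

lemma counitApp_app (F' : Sp S') {T' : Over S'} (x : Sec g ((jinv g).obj F').obj T') :
    (counitApp (g := g) F').hom.app (op T') x = F'.obj.map (isoT x.φ).inv.op x.ξ := rfl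

lemma sec_eq_of (F' : Sp S') {T' : Over S'} (x' : Sec g ((jinv g).obj F').obj T')
    (φ : T' ⟶ base g) (ζ : F'.obj.obj (op T')) (h1 : x'.φ = φ)
    (h2 : F'.obj.map (isoT x'.φ).inv.op x'.ξ = ζ) :
    x' = ⟨φ, F'.obj.map (isoT φ).hom.op ζ⟩ := by
  obtain ⟨φ', ξ'⟩ := x'
  dsimp only at h1
  subst h1
  refine (Sec.mk_eq_iff _ _ _).2 ?_
  rw [← h2]
  exact ((map_map_left F'.obj _ _ (𝟙 _) (by simp) ξ').trans (map_id_left F'.obj rfl ξ')).symm

instance isIso_projMap (F' : Sp S') : IsIso (projMap g F') := by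
  refine isIso_of_yon_bijective _ fun T' b => ?_
  let φ : T' ⟶ base g := (yEquiv (b ≫ prod.fst)).down
  let ζ : F'.obj.obj (op T') := yEquiv (b ≫ prod.snd)
  let x : ((Sh g).obj ((jinv g).obj F')).obj.obj (op T') :=
    (⟨φ, F'.obj.map (isoT φ).hom.op ζ⟩ : Sec g ((jinv g).obj F').obj T')
  refine ⟨yEquiv.symm x, ?_, ?_⟩
  · apply Limits.prod.hom_ext
    · rw [Category.assoc, projMap, prod.lift_fst]
      apply yEquiv.injective
      rw [yEquiv_comp, Equiv.apply_symm_apply]
      rfl
    · rw [Category.assoc, projMap, prod.lift_snd]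
      apply yEquiv.injective
      rw [yEquiv_comp, Equiv.apply_symm_apply]
      refine (counitApp_app F' _).trans ?_
      exact (map_map_left F'.obj _ _ (𝟙 _) (by simp) ζ).trans (map_id_left F'.obj rfl ζ)
  · intro a' ha'
    apply yEquiv.injective
    refine Eq.trans ?_ (Equiv.apply_symm_apply yEquiv _).symm
    have h0 : a' ≫ σ g _ = b ≫ prod.fst := by
      rw [← ha', Category.assoc, projMap, prod.lift_fst]
    have h0' : a' ≫ counitApp F' = b ≫ prod.snd := by
      rw [← ha', Category.assoc, projMap, prod.lift_snd]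
    have h1 : (σ g ((jinv g).obj F')).hom.app (op T') (yEquiv a') = yEquiv (b ≫ prod.fst) := by
      rw [← yEquiv_comp, h0]
    have h2 : (counitApp (g := g) F').hom.app (op T') (yEquiv a') = ζ := by
      rw [← yEquiv_comp, h0']
    exact sec_eq_of F' (yEquiv a') φ ζ (congrArg ULift.down h1) h2

/-- **restriction to `S` is an algebraic space iff the product with `h_S` is.** -/
theorem isAlgSpace_jinv_iff (F' : Sp S') :
    IsAlgSpace ((jinv g).obj F') ↔ IsAlgSpace ((yon S').obj (base g) ⨯ F') :=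
  (isAlgSpace_Sh_iff (g := g)).symm.trans (isAlgSpace_iff_of_iso (asIso (projMap g F')))

theorem isAlgSpace_jinv {F' : Sp S'} (hF' : IsAlgSpace F') : IsAlgSpace ((jinv g).obj F') :=
  (isAlgSpace_jinv_iff F').2 (isAlgSpace_prod (IsAlgSpace.yon_obj _) hF')

end Groth.Agent.Lib.Helper24.Slice

namespace Groth.Agent.Lib.Helper24.Slice
open AlgSp Groth.Agent.Lib.Helper14.AS

variable {S S' : Scheme.{u}} (g : S ⟶ S')

/-- `j⁻¹ h_{X'}` is represented by `X' ×_{S'} S` -/
noncomputable def repJinv (X' : Over S') :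
    ((jinv g).obj ((yon S').obj X')).obj.RepresentableBy (Over.mk (pullback.snd X'.hom g)) where
  homEquiv {T} :=
    { toFun := fun a => ⟨(Over.homMk (a.left ≫ pullback.fst X'.hom g) (by
        have h := Over.w a
        dsimp at h ⊢
        rw [Category.assoc, pullback.condition, ← Category.assoc, h]) :
          (Over.map g).obj T ⟶ X')⟩
      invFun := fun b => Over.homMk
        (pullback.lift (b.down : (Over.map g).obj T ⟶ X').left T.hom
          (Over.w (b.down : (Over.map g).obj T ⟶ X')))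
        (pullback.lift_snd _ _ _)
      left_inv := fun a => by
        apply Over.OverMorphism.ext
        apply pullback.hom_ext
        · exact pullback.lift_fst _ _ _
        · exact (pullback.lift_snd _ _ _).trans (Over.w a).symm
      right_inv := fun b => by
        obtain ⟨(b : (Over.map g).obj T ⟶ X')⟩ := b
        refine congrArg ULift.up ?_
        apply Over.OverMorphism.ext
        exact pullback.lift_fst _ _ _ }
  homEquiv_comp {T T''} f a := by
    refine congrArg ULift.up ?_
    apply Over.OverMorphism.ext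
    exact Category.assoc _ _ _

end Groth.Agent.Lib.Helper24.Slice
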