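import Groth.Agent.Lib.Helper24.Slice6
set_option autoImplicit false
set_option linter.unusedSectionVars false
universe u
open CategoryTheory CategoryTheory.Limits AlgebraicGeometry Opposite

/-! Sheaves over `S` are sheaves over `S'` with a map to `h_S`. -/

namespace Groth.Agent.Lib.Helper24.Slice
open AlgSp Groth.Agent.Lib.Helper14.AS

variable {S S' : Scheme.{u}} {g : S ⟶ S'}

lemma τ_map {G' : Sp S'} (τ : G' ⟶ (yon S').obj (base g)) {T'' T' : Over S'} (f : T'' ⟶ T')
    (y : G'.obj.obj (op T')) (ψ : T' ⟶ base g) (hy : τ.hom.app (op T') y = ⟨ψ⟩) :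
    τ.hom.app (op T'') (G'.obj.map f.op y) = ⟨f ≫ ψ⟩ := by
  have := NatTrans.naturality_apply τ.hom f.op y
  rw [this, hy]
  rfl

lemma isoT_hom_comp {T' : Over S'} (φ : T' ⟶ base g) : (isoT φ).hom ≫ φ = can (lft g φ) := by
  ext; simp

lemma isoT_inv_comp {T' : Over S'} (φ : T' ⟶ base g) : (isoT φ).inv ≫ can (lft g φ) = φ := by
  ext; simp

lemma map_hom_inv (F' : Sp S') {T' : Over S'} (φ : T' ⟶ base g)
    (y : F'.obj.obj (op ((Over.map g).obj (lft g φ)))) :
    F'.obj.map (isoT φ).hom.op (F'.obj.map (isoT φ).inv.op y) = y :=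
  (map_map_left F'.obj _ _ (𝟙 _) (by simp) y).trans (map_id_left F'.obj rfl y)

lemma map_inv_hom (F' : Sp S') {T' : Over S'} (φ : T' ⟶ base g) (z : F'.obj.obj (op T')) :
    F'.obj.map (isoT φ).inv.op (F'.obj.map (isoT φ).hom.op z) = z :=
  (map_map_left F'.obj _ _ (𝟙 _) (by simp) z).trans (map_id_left F'.obj rfl z)

section Restr
variable (G' : Sp S') (τ : G' ⟶ (yon S').obj (base g))

/-- the sections of `j⁻¹ G'` lying over the canonical section of `j⁻¹ h_S` -/
def restrSub : Subfunctor ((jinv g).obj G').obj where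
  obj V := {y | τ.hom.app (op ((Over.map g).obj V.unop)) y = ⟨can V.unop⟩}
  map {V W} n y hy := by
    exact (τ_map τ ((Over.map g).map n.unop) y (can V.unop) hy).trans
      (congrArg ULift.up (map_can n.unop))

lemma isSheaf_restrSub : Presieve.IsSheaf (J S) (restrSub G' τ).toFunctor := by
  have hG : Presieve.IsSheaf (J S) ((jinv g).obj G').obj :=
    (isSheaf_iff_isSheaf_of_type _ _).1 ((jinv g).obj G').property
  have hX : Presieve.IsSheaf (J S) ((jinv g).obj ((yon S').obj (base g))).obj :=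
    (isSheaf_iff_isSheaf_of_type _ _).1 ((jinv g).obj ((yon S').obj (base g))).property
  rw [Subfunctor.isSheaf_iff _ hG]
  intro V y hy
  obtain ⟨V⟩ := V
  refine ((hX _ hy).isSeparatedFor).ext ?_
  intro W k hk
  have h1 : τ.hom.app _ (G'.obj.map ((Over.map g).map k).op y) = ⟨can W⟩ := hk
  have h2 := NatTrans.naturality_apply τ.hom ((Over.map g).map k).op y
  exact h2.symm.trans (h1.trans (congrArg ULift.up (map_can k)).symm)

/-- the restriction of a sheaf over `h_S` to schemes over `S` -/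
noncomputable def restr : Sp S :=
  ⟨(restrSub G' τ).toFunctor, (isSheaf_iff_isSheaf_of_type _ _).2 (isSheaf_restrSub G' τ)⟩

/-- the inclusion into `j⁻¹ G'` -/
noncomputable def restrι : restr G' τ ⟶ (jinv g).obj G' := ⟨(restrSub G' τ).ι⟩

/-- the comparison `j_! (restr G') ⟶ G'` -/
noncomputable def restrComp : (Sh g).obj (restr G' τ) ⟶ G' := (Sh g).map (restrι G' τ) ≫ counitApp G'

lemma restrComp_app {T' : Over S'} (x : Sec g (restr G' τ).obj T') :
    (restrComp G' τ).hom.app (op T') x = G'.obj.map (isoT x.φ).inv.op x.ξ.1 := rfl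

lemma restrComp_σ : restrComp G' τ ≫ τ = σ g (restr G' τ) := by
  apply Sheaf.hom_ext
  ext T' x
  obtain ⟨T'⟩ := T'
  change τ.hom.app _ (G'.obj.map (isoT x.φ).inv.op x.ξ.1) = ⟨x.φ⟩
  exact (τ_map τ (isoT x.φ).inv x.ξ.1 _ x.ξ.2).trans (congrArg ULift.up (isoT_inv_comp x.φ))

instance isIso_restrComp : IsIso (restrComp G' τ) := by
  refine isIso_of_bijective _ fun T' => ⟨?_, ?_⟩
  · obtain ⟨T'⟩ := T'
    intro x₁ x₂ h
    have hσ : (σ g (restr G' τ)).hom.app (op T') x₁ = (σ g (restr G' τ)).hom.app (op T') x₂ := by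
      rw [← restrComp_σ]
      exact congrArg (τ.hom.app (op T')) h
    obtain ⟨φ₁, ⟨y₁, h₁⟩⟩ := x₁
    obtain ⟨φ₂, ⟨y₂, h₂⟩⟩ := x₂
    have e : φ₁ = φ₂ := congrArg ULift.down hσ
    subst e
    refine (Sec.mk_eq_iff _ _ _).2 (Subtype.ext ?_)
    have h' : G'.obj.map (isoT φ₁).inv.op y₁ = G'.obj.map (isoT φ₁).inv.op y₂ := h
    have := congrArg (G'.obj.map (isoT φ₁).hom.op) h'
    exact (map_hom_inv G' φ₁ y₁).symm.trans (this.trans (map_hom_inv G' φ₁ y₂))
  · obtain ⟨T'⟩ := T'
    intro z
    let φ : T' ⟶ base g := (τ.hom.app (op T') z).down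
    refine ⟨(⟨φ, ⟨G'.obj.map (isoT φ).hom.op z, ?_⟩⟩ : Sec g (restr G' τ).obj T'), ?_⟩
    · change τ.hom.app _ (G'.obj.map (isoT φ).hom.op z) = ⟨can (lft g φ)⟩
      exact (τ_map τ (isoT φ).hom z φ rfl).trans (congrArg ULift.up (isoT_hom_comp φ))
    · exact map_inv_hom G' φ z

end Restr

end Groth.Agent.Lib.Helper24.Slice

namespace Groth.Agent.Lib.Helper24.Slice
open AlgSp Groth.Agent.Lib.Helper14.AS

variable {S S' : Scheme.{u}} {g : S ⟶ S'}

lemma ofFib_map {F : (Over S)ᵒᵖ ⥤ Type (u + 1)} {V W : Over S} (n : W ⟶ V)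
    (ξ : F.obj (op V)) :
    ofFib (g := g) (F.map n.op ξ) = Sec.map F ((Over.map g).map n) (ofFib ξ) := by
  refine ((Sec.map_eq_iff F ((Over.map g).map n) (ofFib ξ) _).2 ⟨map_can n, ?_⟩).symm
  exact map_congr_left F rfl ξ

lemma toFib_congr {F : (Over S)ᵒᵖ ⥤ Type (u + 1)} {V : Over S}
    {x y : Sec g F ((Over.map g).obj V)} (h : x = y) (hx : x.φ = can V) (hy : y.φ = can V) :
    toFib x hx = toFib y hy := by
  subst h; rfl

section Descend
variable {F G : Sp S} (m : (Sh g).obj F ⟶ (Sh g).obj G) (hm : m ≫ σ g G = σ g F)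

include hm in
lemma descend_φ {V : Over S} (ξ : F.obj.obj (op V)) :
    (m.hom.app (op ((Over.map g).obj V)) (ofFib (g := g) ξ) :
      Sec g G.obj ((Over.map g).obj V)).φ = can V := by
  have := congrArg (fun k => (k.hom.app (op ((Over.map g).obj V)) (ofFib (g := g) ξ))) hm
  exact congrArg ULift.down this

lemma m_map {T'' T' : Over S'} (h : T'' ⟶ T') (x : Sec g F.obj T') :
    m.hom.app (op T'') (Sec.map F.obj h x) = Sec.map G.obj h (m.hom.app (op T') x) :=
  NatTrans.naturality_apply m.hom h.op x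

/-- a morphism `j_! F ⟶ j_! G` over `h_S` comes from a morphism `F ⟶ G` -/
def descend : F ⟶ G :=
  ⟨{ app := fun V => ↾(fun ξ => toFib (m.hom.app _ (ofFib (g := g) ξ)) (descend_φ m hm ξ))
     naturality := fun V W n => by
      ext ξ
      change toFib (m.hom.app _ (ofFib (g := g) (F.obj.map n.unop.op ξ))) (descend_φ m hm _) =
        G.obj.map n.unop.op (toFib (m.hom.app _ (ofFib (g := g) ξ)) (descend_φ m hm ξ))
      have e1 : m.hom.app _ (ofFib (g := g) (F.obj.map n.unop.op ξ)) =
          Sec.map G.obj ((Over.map g).map n.unop) (m.hom.app _ (ofFib (g := g) ξ)) := by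
        rw [ofFib_map]
        exact m_map m _ _
      rw [← toFib_map n.unop (m.hom.app _ (ofFib (g := g) ξ)) (descend_φ m hm ξ)
        (by rw [← e1]; exact descend_φ m hm _)]
      exact toFib_congr e1 _ _ }⟩

lemma descend_app {V : Over S} (ξ : F.obj.obj (op V)) :
    (descend m hm).hom.app (op V) ξ = toFib (m.hom.app _ (ofFib (g := g) ξ)) (descend_φ m hm ξ) :=
  rfl

lemma Sh_map_descend : (Sh g).map (descend m hm) = m := by
  apply Sheaf.hom_ext
  ext T' x
  obtain ⟨T'⟩ := T'
  change Sec.mapNat (descend m hm).hom x = m.hom.app (op T') x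
  have h1 : m.hom.app (op T') x =
      Sec.map G.obj (isoT x.φ).inv (m.hom.app _ (ofFib (g := g) x.ξ)) := by
    rw [← m_map, left_tri F x]
  rw [h1, ← ofFib_toFib (m.hom.app _ (ofFib (g := g) x.ξ)) (descend_φ m hm x.ξ)]
  exact (left_tri G (⟨x.φ, toFib (m.hom.app _ (ofFib (g := g) x.ξ)) (descend_φ m hm x.ξ)⟩ :
    Sec g G.obj T')).symm

end Descend

end Groth.Agent.Lib.Helper24.Slice

namespace Groth.Agent.Lib.Helper24.Slice
open AlgSp Groth.Agent.Lib.Helper14.AS

variable {S S' : Scheme.{u}} (g : S ⟶ S')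

/-- `S` as an algebraic space over `S'` -/
noncomputable abbrev baseSp : Space S' := (ofScheme S').obj (base g)

/-- `j_! F` as an algebraic space over `S'` -/
noncomputable def ShSpace (F : Space S) : Space S' :=
  ⟨(Sh g).obj F.obj, isAlgSpace_Sh F.property⟩

/-- `j_!` with values in algebraic spaces over `h_S` -/
noncomputable def Psi : Space S ⥤ Over (baseSp g) where
  obj F := Over.mk (ObjectProperty.homMk (σ g F.obj) : ShSpace g F ⟶ baseSp g)
  map {F G} a := Over.homMk (ObjectProperty.homMk ((Sh g).map a.hom) : ShSpace g F ⟶ ShSpace g G)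
    (by apply ObjectProperty.hom_ext; rfl)
  map_id F := by
    apply Over.OverMorphism.ext
    apply ObjectProperty.hom_ext
    exact (Sh g).map_id F.obj
  map_comp a b := by
    apply Over.OverMorphism.ext
    apply ObjectProperty.hom_ext
    exact (Sh g).map_comp a.hom b.hom

instance : (Psi g).Faithful where
  map_injective {F G} a b h := by
    apply ObjectProperty.hom_ext
    apply Sh_map_injective (g := g)
    have := congrArg (fun k => k.left.hom) h
    exact this

instance : (Psi g).Full where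
  map_surjective {F G} k := by
    have hm : k.left.hom ≫ σ g G.obj = σ g F.obj := by
      have := congrArg (fun k => k.hom) (Over.w k)
      exact this
    refine ⟨ObjectProperty.homMk (descend k.left.hom hm), ?_⟩
    apply Over.OverMorphism.ext
    apply ObjectProperty.hom_ext
    exact Sh_map_descend k.left.hom hm

set_option backward.isDefEq.respectTransparency.types false in
instance : (Psi g).EssSurj where
  mem_essImage Y := by
    let τ : Y.left.obj ⟶ (yon S').obj (base g) := Y.hom.hom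
    have hiso : IsIso (restrComp (g := g) Y.left.obj τ) := isIso_restrComp Y.left.obj τ
    let e : (Sh g).obj (restr (g := g) Y.left.obj τ) ≅ Y.left.obj :=
      @asIso _ _ _ _ (restrComp (g := g) Y.left.obj τ) hiso
    have hA : IsAlgSpace (restr (g := g) Y.left.obj τ) :=
      isAlgSpace_of_Sh (g := g) ((isAlgSpace_iff_of_iso e).2 Y.left.property)
    refine ⟨⟨restr (g := g) Y.left.obj τ, hA⟩, ⟨Over.isoMk
      (ObjectProperty.isoMk _ e) ?_⟩⟩
    apply ObjectProperty.hom_ext
    exact restrComp_σ Y.left.obj τ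

instance : (Psi g).IsEquivalence where

/-- **algebraic spaces over `S` are algebraic spaces over `S'` with a map to `h_S`.** -/
noncomputable def sliceEquiv : Space S ≌ Over (baseSp g) := (Psi g).asEquivalence

/-- compatibility with `j_!` -/
noncomputable def sliceEquivIso :
    (sliceEquiv g).functor ⋙ Over.forget _ ⋙ ObjectProperty.ι (IsAlgSpace (S := S')) ≅
      ObjectProperty.ι (IsAlgSpace (S := S)) ⋙ jshriek g :=
  NatIso.ofComponents (fun F => ((shIso g).app F.obj).symm) (fun {F G} a => by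
    change (Sh g).map a.hom ≫ (shIso g).inv.app G.obj = (shIso g).inv.app F.obj ≫ (jshriek g).map a.hom
    exact ((shIso g).inv.naturality a.hom))

end Groth.Agent.Lib.Helper24.Slice
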