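import Groth.Agent.Lib.Helper24.SlqfMain
import Groth.Agent.Lib.Helper14.AlgSpDiag
set_option autoImplicit false
universe u
open CategoryTheory CategoryTheory.Limits AlgebraicGeometry
open AlgSp

/-! Applications of Stacks 0418. -/

namespace Groth.Agent.Lib.Helper24.Slqf
open Groth.Agent.Lib.Helper14.AS

set_option backward.isDefEq.respectTransparency.types false in
/-- an algebraic space with a jointly monomorphic pair of maps to schemes, the second one
locally quasi-finite, is a scheme -/
theorem rep_of_joint_mono {S : Scheme.{u}} {E : Sp S} (hE : IsAlgSpace E) {X U : Over S}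
    (fstE : E ⟶ (yon S).obj X) (sndE : E ⟶ (yon S).obj U)
    (hmono : ∀ (Z : Over S) (x y : (yon S).obj Z ⟶ E), x ≫ fstE = y ≫ fstE → x ≫ sndE = y ≫ sndE →
      x = y)
    (hQ : LocP (@LocallyQuasiFinite ⊓ @LocallyOfFiniteType) sndE) :
    ∃ W : Over S, Nonempty ((yon S).obj W ≅ E) := by
  let m : E ⟶ (yon S).obj (X ⨯ U) := prod.lift fstE sndE ≫ inv (prodComparison (yon S) X U)
  have hm1 : m ≫ (yon S).map prod.fst = fstE := by
    change (prod.lift fstE sndE ≫ inv (prodComparison (yon S) X U)) ≫ _ = _
    rw [Category.assoc, inv_prodComparison_map_fst, prod.lift_fst]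
  have hm2 : m ≫ (yon S).map prod.snd = sndE := by
    change (prod.lift fstE sndE ≫ inv (prodComparison (yon S) X U)) ≫ _ = _
    rw [Category.assoc, inv_prodComparison_map_snd, prod.lift_snd]
  have hmm : Mono m := by
    refine mono_of_yon_test _ fun Z x y h => hmono Z x y ?_ ?_
    · rw [← hm1, ← Category.assoc, h, Category.assoc]
    · rw [← hm2, ← Category.assoc, h, Category.assoc]
  have hsep : IsSeparatedMor m := by
    change (RepWith (S := S) @IsClosedImmersion).diagonal m
    rw [MorphismProperty.diagonal_iff]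
    have : IsIso (pullback.diagonal m) := (pullback.isIso_diagonal_iff m).2 inferInstance
    exact MorphismProperty.of_isIso _ _
  have hlqf : LocP (@LocallyQuasiFinite ⊓ @LocallyOfFiniteType) m := by
    intro V W a b h ha hb hcomm
    obtain ⟨b₀, rfl⟩ := (yon S).map_surjective b
    have key := hQ a (𝟙 _) (h ≫ b₀ ≫ prod.snd) ha (repWith_id _ U) (by
      rw [Category.comp_id, ← hm2, ← Category.assoc, hcomm, Functor.map_comp, Functor.map_comp,
        Category.assoc])
    have h1 : LocallyQuasiFinite (h.left ≫ (b₀ ≫ prod.snd).left) := key.1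
    have h2 : LocallyOfFiniteType (h.left ≫ (b₀ ≫ prod.snd).left) := key.2
    exact ⟨LocallyQuasiFinite.of_comp h.left (b₀ ≫ prod.snd).left,
      locallyOfFiniteType_of_comp h.left (b₀ ≫ prod.snd).left⟩
  exact exists_iso_yon_of_good m ⟨hE, hsep, hlqf⟩

end Groth.Agent.Lib.Helper24.Slqf
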