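import Groth.Agent.Lib.Helper24.SlqfEtCover
import Groth.Agent.Lib.Helper24.RepLocal
import Groth.Agent.Lib.Helper14.FpqcSch
set_option autoImplicit false
universe u
open CategoryTheory CategoryTheory.Limits AlgebraicGeometry
open AlgSp

namespace Groth.Agent.Lib.Helper24.Slqf
open Groth.Agent.Lib.Helper14.AS Groth.Agent.Lib.Helper24

set_option backward.isDefEq.respectTransparency.types false in
/-- **Descent of separated locally quasi-finite maps representable by algebraic spaces along an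
fppf cover representable by algebraic spaces** (Stacks, Bootstrap). -/
theorem repWith_of_fppf_cover_square {S : Scheme.{u}} {E F G H : Sp S} (a : E ⟶ F) (f : E ⟶ H) (g : F ⟶ G) (b : H ⟶ G)
    (sq : IsPullback a f g b)
    (hg : ∀ ⦃U : Over S⦄ (ξ : (yon S).obj U ⟶ G) ⦃F' : Sp S⦄ (fst : F' ⟶ F)
      (snd : F' ⟶ (yon S).obj U), IsPullback fst snd g ξ → IsAlgSpace F' ∧
        (IsSurjectiveMor ⊓ LocP @Flat ⊓ LocP @LocallyOfFinitePresentation) snd)
    (ha : ∀ ⦃U : Over S⦄ (ξ : (yon S).obj U ⟶ F) ⦃F' : Sp S⦄ (fst : F' ⟶ E)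
      (snd : F' ⟶ (yon S).obj U), IsPullback fst snd a ξ → IsAlgSpace F' ∧
        (IsSeparatedMor ⊓ LocP (@LocallyQuasiFinite ⊓ @LocallyOfFiniteType)) snd) :
    RepWith (@IsSeparated ⊓ (@LocallyQuasiFinite ⊓ @LocallyOfFiniteType)) b := by
  refine RepLocal.repWith_of_locally
    (@IsSeparated ⊓ (@LocallyQuasiFinite ⊓ @LocallyOfFiniteType))
    (fun X Y f hf => ⟨hf.1, hf.2.1, hf.2.2⟩) b ?_
  intro T g₀ x
  -- the cover
  obtain ⟨hFT, ⟨hsurj, hflat⟩, hlfp⟩ := hg g₀ (pullback.fst g g₀) (pullback.snd g g₀)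
    (IsPullback.of_hasPullback g g₀)
  obtain ⟨W, c, hce, hcs⟩ := hFT.atlas
  obtain ⟨w, hw⟩ := (yon S).map_surjective (c ≫ pullback.snd g g₀)
  have hwF : Flat w.left := hflat c (𝟙 _) w hce (repWith_id _ T) (by rw [hw, Category.comp_id])
  have hwL : LocallyOfFinitePresentation w.left :=
    hlfp c (𝟙 _) w hce (repWith_id _ T) (by rw [hw, Category.comp_id])
  have hwS : Surjective w.left := by
    have h2 : IsSurjectiveMor ((yon S).map w) := by
      rw [hw]
      intro y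
      obtain ⟨z, hz⟩ := hsurj y
      obtain ⟨z', hz'⟩ := points_map_surjective_of_repWith hcs z
      exact ⟨z', by rw [Points.map_comp, hz', hz]⟩
    exact (repWith_yon_map_iff @Surjective _).1
      (repWith_surjective_of_isSurjectiveMor (representable_yon_map w) h2)
  -- the base change of `a`
  let ζ : (yon S).obj W ⟶ F := c ≫ pullback.fst g g₀
  have hζ : ζ ≫ g = (yon S).map w ≫ g₀ := by
    change (c ≫ pullback.fst g g₀) ≫ g = _
    rw [Category.assoc, pullback.condition, ← Category.assoc, hw]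
  obtain ⟨hEW, hsep, hlqf⟩ := ha ζ (pullback.fst a ζ) (pullback.snd a ζ)
    (IsPullback.of_hasPullback a ζ)
  have hG : Good (pullback.snd a ζ) := ⟨hEW, hsep, hlqf⟩
  obtain ⟨V, ⟨ε⟩⟩ := exists_iso_yon_of_good _ hG
  obtain ⟨r, hr⟩ := (yon S).map_surjective (ε.hom ≫ pullback.snd a ζ)
  have hεe : RepWith @Etale ε.hom := MorphismProperty.of_isIso _ _
  obtain ⟨h1, h2, h3⟩ := hG.of_open ε.hom hεe r hr.symm
  refine ⟨W, V, w, r, ε.hom ≫ pullback.fst a ζ ≫ f, ?_, hwF, hwL, hwS.surj x, h1, h2, h3⟩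
  have sq1 : IsPullback (pullback.fst a ζ ≫ f) (pullback.snd a ζ) b (ζ ≫ g) :=
    (IsPullback.of_hasPullback a ζ).paste_horiz sq.flip
  rw [hζ] at sq1
  rw [hr]
  exact IsPullback.of_iso sq1 ε.symm (Iso.refl _) (Iso.refl _) (Iso.refl _) (by simp) (by simp)
    (by simp) (by simp)

end Groth.Agent.Lib.Helper24.Slqf
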