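import Groth.Agent.Lib.Helper24.SlqfApp
import Groth.Agent.Lib.Helper24.AtlasDiag
import Groth.Agent.Lib.Helper14.AlgSpPoints2
import Groth.Agent.Lib.Helper14.EtaleLQF
set_option autoImplicit false
set_option linter.unusedSectionVars false
universe u
open CategoryTheory CategoryTheory.Limits AlgebraicGeometry
open AlgSp

/-! A sheaf receiving a surjective étale map, representable by algebraic spaces, from an
algebraic space is an algebraic space. -/

namespace Groth.Agent.Lib.Helper24.Slqf
open Groth.Agent.Lib.Helper14.AS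

variable {S : Scheme.{u}} {F X : Sp S} (p : X ⟶ F)
  (hp : ∀ ⦃U : Over S⦄ (ξ : (yon S).obj U ⟶ F) ⦃F' : Sp S⦄ (fst : F' ⟶ X)
      (snd : F' ⟶ (yon S).obj U), IsPullback fst snd p ξ →
      IsAlgSpace F' ∧ (IsSurjectiveMor ⊓ IsEtaleMor) snd)
  {U : Over S} (a : (yon S).obj U ⟶ X) (hae : RepWith @Etale a) (has : RepWith @Surjective a)

include hp hae has in
set_option backward.isDefEq.respectTransparency.types false in
/-- analysis of a pullback square of the composite atlas -/
theorem square_analysis {T : Over S} (ξ : (yon S).obj T ⟶ F) {G : Sp S}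
    (fstG : G ⟶ (yon S).obj U) (sndG : G ⟶ (yon S).obj T)
    (sq : IsPullback fstG sndG (a ≫ p) ξ) :
    ∃ k : G ⟶ pullback p ξ, k ≫ pullback.snd p ξ = sndG ∧ RepWith @Etale k ∧
      RepWith @Surjective k ∧ IsAlgSpace (pullback p ξ) ∧
      IsSurjectiveMor (pullback.snd p ξ) ∧ IsEtaleMor (pullback.snd p ξ) := by
  obtain ⟨hP, hsurj, het⟩ := hp ξ (pullback.fst p ξ) (pullback.snd p ξ)
    (IsPullback.of_hasPullback p ξ)
  let k : G ⟶ pullback p ξ := pullback.lift (fstG ≫ a) sndG (by
    rw [Category.assoc]; exact sq.w)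
  have hk1 : k ≫ pullback.fst p ξ = fstG ≫ a := pullback.lift_fst _ _ _
  have hk2 : k ≫ pullback.snd p ξ = sndG := pullback.lift_snd _ _ _
  have sqk : IsPullback k fstG (pullback.fst p ξ) a := by
    refine IsPullback.of_right ?_ hk1 (IsPullback.of_hasPullback p ξ).flip
    rw [hk2]
    exact sq.flip
  exact ⟨k, hk2, repWith_of_isPullback _ sqk.flip hae, repWith_of_isPullback _ sqk.flip has, hP,
    hsurj, het⟩

include hp hae has in
set_option backward.isDefEq.respectTransparency.types false in
theorem representable_comp_atlas : Representable (a ≫ p) := by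
  intro T ξ
  let G := pullback (a ≫ p) ξ
  let fstG : G ⟶ (yon S).obj U := pullback.fst (a ≫ p) ξ
  let sndG : G ⟶ (yon S).obj T := pullback.snd (a ≫ p) ξ
  have sq : IsPullback fstG sndG (a ≫ p) ξ := IsPullback.of_hasPullback _ _
  obtain ⟨k, hk2, hke, hks, hP, hsurj, het⟩ := square_analysis p hp a hae has ξ fstG sndG sq
  have hG : IsAlgSpace G := isAlgSpace_of_representable_to hP k hke.rep
  have hQ : LocP (@LocallyQuasiFinite ⊓ @LocallyOfFiniteType) sndG := by
    intro V W φ b h hφ hb hcomm
    obtain ⟨b₀, rfl⟩ := (yon S).map_surjective b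
    have h1 : RepWith @Etale ((φ ≫ k) ≫ pullback.snd p ξ) := het (φ ≫ k) (repWith_comp @Etale hφ hke)
    rw [Category.assoc, hk2, hcomm, ← Functor.map_comp] at h1
    have h2 : Etale (h ≫ b₀).left := (repWith_yon_map_iff @Etale _).1 h1
    have h3 : Etale b₀.left := (repWith_yon_map_iff @Etale _).1 hb
    have h4 : Etale (h.left ≫ b₀.left) := h2
    have h5 : Etale h.left :=
      MorphismProperty.of_postcomp (W := @Etale) (W' := @Etale) h.left b₀.left h3 h4
    exact ⟨etale_locallyQuasiFinite h.left, inferInstance⟩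
  obtain ⟨W, ⟨ε⟩⟩ := rep_of_joint_mono hG fstG sndG (by
    intro Z x y h1 h2
    exact pullback.hom_ext h1 h2) hQ
  obtain ⟨ρ, hρ⟩ := (yon S).map_surjective (ε.hom ≫ sndG)
  refine ⟨W, ρ, ε.hom ≫ fstG, ?_⟩
  rw [hρ]
  exact IsPullback.of_iso sq ε.symm (Iso.refl _) (Iso.refl _) (Iso.refl _) (by simp) (by simp)
    (by simp) (by simp)

include hp hae has in
set_option backward.isDefEq.respectTransparency.types false in
/-- **Stacks 04S6 (étale case).** -/
theorem isAlgSpace_of_etale_cover : IsAlgSpace F := by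
  have hrep := representable_comp_atlas p hp a hae has
  have key : ∀ {T V : Over S} (ξ : (yon S).obj T ⟶ F) (fstV : (yon S).obj V ⟶ (yon S).obj U)
      (r : V ⟶ T), IsPullback fstV ((yon S).map r) (a ≫ p) ξ → Etale r.left ∧ Surjective r.left := by
    intro T V ξ fstV r sq
    obtain ⟨k, hk2, hke, hks, hP, hsurj, het⟩ :=
      square_analysis p hp a hae has ξ fstV ((yon S).map r) sq
    have h1 : RepWith @Etale (k ≫ pullback.snd p ξ) := het k hke
    rw [hk2] at h1
    refine ⟨(repWith_yon_map_iff @Etale _).1 h1, ?_⟩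
    have h2 : IsSurjectiveMor ((yon S).map r) := by
      rw [← hk2]
      intro y
      obtain ⟨z, hz⟩ := hsurj y
      obtain ⟨w, hw⟩ := points_map_surjective_of_repWith hks z
      exact ⟨w, by rw [Points.map_comp, hw, hz]⟩
    exact (repWith_yon_map_iff @Surjective _).1
      (repWith_surjective_of_isSurjectiveMor (representable_yon_map r) h2)
  exact AtlasDiag.isAlgSpace_of_atlas (a ≫ p)
    ⟨hrep, fun {T V} ξ fstV r sq => (key ξ fstV r sq).1⟩
    ⟨hrep, fun {T V} ξ fstV r sq => (key ξ fstV r sq).2⟩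

end Groth.Agent.Lib.Helper24.Slqf
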