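import Groth.Agent.Lib.Helper24.SlqfEtCover
import Groth.Agent.Lib.Helper24.EtSheaf
set_option autoImplicit false
set_option linter.unusedSectionVars false
universe u
open CategoryTheory CategoryTheory.Limits AlgebraicGeometry
open AlgSp

/-! A presheaf receiving a surjective étale map, representable by algebraic spaces, from an
algebraic space: the composite with an atlas is representable by schemes, étale and surjective. -/

namespace Groth.Agent.Lib.Helper24.Slqf
open Groth.Agent.Lib.Helper14.AS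

variable {S : Scheme.{u}} {F : PSp S} {X : Sp S} (p : X.obj ⟶ F)
  (hp : RepBySpWith (IsSurjectiveMor ⊓ IsEtaleMor) p)
  {V : Over S} (a : (yon S).obj V ⟶ X) (hae : RepWith @Etale a) (has : RepWith @Surjective a)

include hp hae has in
set_option backward.isDefEq.respectTransparency.types false in
/-- analysis of a pullback square of presheaves of the composite atlas -/
theorem square_analysisP {T : Over S} (ξ : (pyon S).obj T ⟶ F) {G : PSp S}
    (fstG : G ⟶ (pyon S).obj V) (sndG : G ⟶ (pyon S).obj T)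
    (sq : IsPullback fstG sndG (a.hom ≫ p) ξ) :
    ∃ (hG : Presheaf.IsSheaf (J S) G) (P : Sp S) (sndP : P ⟶ (yon S).obj T)
      (k : (⟨G, hG⟩ : Sp S) ⟶ P),
      k ≫ sndP = (ObjectProperty.homMk sndG : (⟨G, hG⟩ : Sp S) ⟶ (yon S).obj T) ∧
      RepWith @Etale k ∧ RepWith @Surjective k ∧ IsAlgSpace P ∧
      IsSurjectiveMor sndP ∧ IsEtaleMor sndP := by
  obtain ⟨hsh, hP, hsurj, het⟩ := hp ξ (pullback.fst p ξ) (pullback.snd p ξ)
    (IsPullback.of_hasPullback p ξ)
  let P : Sp S := ⟨pullback p ξ, hsh⟩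
  let fstP : P ⟶ X := ObjectProperty.homMk (pullback.fst p ξ)
  let sndP : P ⟶ (yon S).obj T := ObjectProperty.homMk (pullback.snd p ξ)
  let k₀ : G ⟶ pullback p ξ := pullback.lift (fstG ≫ a.hom) sndG (by
    rw [Category.assoc]; exact sq.w)
  have hk1 : k₀ ≫ pullback.fst p ξ = fstG ≫ a.hom := pullback.lift_fst _ _ _
  have hk2 : k₀ ≫ pullback.snd p ξ = sndG := pullback.lift_snd _ _ _
  have sqk : IsPullback k₀ fstG (pullback.fst p ξ) a.hom := by
    refine IsPullback.of_right ?_ hk1 (IsPullback.of_hasPullback p ξ).flip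
    rw [hk2]
    exact sq.flip
  have hG : Presheaf.IsSheaf (J S) G :=
    isSheaf_of_isPullback (F := P) (G := X) (H := (yon S).obj V) sqk
  let Gs : Sp S := ⟨G, hG⟩
  let k : Gs ⟶ P := ObjectProperty.homMk k₀
  let fstGs : Gs ⟶ (yon S).obj V := ObjectProperty.homMk fstG
  have sqks : IsPullback k fstGs fstP a :=
    IsPullback.of_map_of_faithful (sheafToPresheaf (J S) (Type (u + 1))) sqk
  refine ⟨hG, P, sndP, k, ?_, repWith_of_isPullback _ sqks.flip hae,
    repWith_of_isPullback _ sqks.flip has, hP, hsurj, het⟩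
  apply ObjectProperty.hom_ext
  exact hk2

include hp hae has in
set_option backward.isDefEq.respectTransparency.types false in
theorem relativelyRepresentable_comp_atlasP :
    (pyon S).relativelyRepresentable (a.hom ≫ p) := by
  intro T ξ
  let G := pullback (a.hom ≫ p) ξ
  let fstG : G ⟶ (pyon S).obj V := pullback.fst (a.hom ≫ p) ξ
  let sndG : G ⟶ (pyon S).obj T := pullback.snd (a.hom ≫ p) ξ
  have sq : IsPullback fstG sndG (a.hom ≫ p) ξ := IsPullback.of_hasPullback _ _
  obtain ⟨hG, P, sndP, k, hk2, hke, hks, hP, hsurj, het⟩ :=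
    square_analysisP p hp a hae has ξ fstG sndG sq
  let Gs : Sp S := ⟨G, hG⟩
  let fstGs : Gs ⟶ (yon S).obj V := ObjectProperty.homMk fstG
  let sndGs : Gs ⟶ (yon S).obj T := ObjectProperty.homMk sndG
  have hGs : IsAlgSpace Gs := isAlgSpace_of_representable_to hP k hke.rep
  have hQ : LocP (@LocallyQuasiFinite ⊓ @LocallyOfFiniteType) sndGs := by
    intro V' W φ b h hφ hb hcomm
    obtain ⟨b₀, rfl⟩ := (yon S).map_surjective b
    have h1 : RepWith @Etale ((φ ≫ k) ≫ sndP) := het (φ ≫ k) (repWith_comp @Etale hφ hke)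
    rw [Category.assoc, hk2, hcomm, ← Functor.map_comp] at h1
    have h2 : Etale (h ≫ b₀).left := (repWith_yon_map_iff @Etale _).1 h1
    have h3 : Etale b₀.left := (repWith_yon_map_iff @Etale _).1 hb
    have h4 : Etale (h.left ≫ b₀.left) := h2
    have h5 : Etale h.left :=
      MorphismProperty.of_postcomp (W := @Etale) (W' := @Etale) h.left b₀.left h3 h4
    exact ⟨etale_locallyQuasiFinite h.left, inferInstance⟩
  obtain ⟨W, ⟨ε⟩⟩ := rep_of_joint_mono hGs fstGs sndGs (by
    intro Z x y h1 h2
    apply ObjectProperty.hom_ext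
    apply pullback.hom_ext
    · exact congrArg (fun f => f.hom) h1
    · exact congrArg (fun f => f.hom) h2) hQ
  obtain ⟨ρ, hρ⟩ := (yon S).map_surjective (ε.hom ≫ sndGs)
  refine ⟨W, ρ, (ε.hom ≫ fstGs).hom, ?_⟩
  have hρ' : (pyon S).map ρ = (ε.hom ≫ sndGs).hom := congrArg (fun f => f.hom) hρ
  rw [hρ']
  let εp : (pyon S).obj W ≅ G := (sheafToPresheaf (J S) (Type (u + 1))).mapIso ε
  have hid : ε.inv.hom ≫ ε.hom.hom = 𝟙 G := εp.inv_hom_id
  exact IsPullback.of_iso sq εp.symm (Iso.refl _) (Iso.refl _) (Iso.refl _)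
    (by
      simp only [Iso.symm_hom, Iso.refl_hom]
      change _ = ε.inv.hom ≫ ε.hom.hom ≫ fstG
      rw [← Category.assoc, hid, Category.id_comp]
      exact Category.comp_id _)
    (by
      simp only [Iso.symm_hom, Iso.refl_hom]
      change _ = ε.inv.hom ≫ ε.hom.hom ≫ sndG
      rw [← Category.assoc, hid, Category.id_comp]
      exact Category.comp_id _)
    (by rw [Iso.refl_hom, Iso.refl_hom]; exact (Category.comp_id _).trans (Category.id_comp _).symm)
    (by rw [Iso.refl_hom, Iso.refl_hom]; exact (Category.comp_id _).trans (Category.id_comp _).symm)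

include hp hae has in
set_option backward.isDefEq.respectTransparency.types false in
theorem prop_comp_atlasP {T W : Over S} (ξ : (pyon S).obj T ⟶ F)
    (fstW : (pyon S).obj W ⟶ (pyon S).obj V) (r : W ⟶ T)
    (sq : IsPullback fstW ((pyon S).map r) (a.hom ≫ p) ξ) : Etale r.left ∧ Surjective r.left := by
  obtain ⟨hG, P, sndP, k, hk2, hke, hks, hP, hsurj, het⟩ :=
    square_analysisP p hp a hae has ξ fstW ((pyon S).map r) sq
  have hk2' : k ≫ sndP = (yon S).map r := hk2
  have h1 : RepWith @Etale (k ≫ sndP) := het k hke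
  rw [hk2'] at h1
  refine ⟨(repWith_yon_map_iff @Etale _).1 h1, ?_⟩
  have h2 : IsSurjectiveMor ((yon S).map r) := by
    rw [← hk2']
    intro y
    obtain ⟨z, hz⟩ := hsurj y
    obtain ⟨w, hw⟩ := points_map_surjective_of_repWith hks z
    exact ⟨w, (Points.map_comp k sndP w).trans (by rw [hw, hz])⟩
  exact (repWith_yon_map_iff @Surjective _).1
    (repWith_surjective_of_isSurjectiveMor (representable_yon_map r) h2)

end Groth.Agent.Lib.Helper24.Slqf
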