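import Groth.Agent.Lib.Helper24.EtImage
import Groth.Agent.Lib.Helper14.AlgSpLocP2
import Groth.Agent.Lib.Helper14.AlgSpRepTo
import Groth.Agent.Lib.Helper14.AlgSpSep
set_option autoImplicit false
set_option linter.unusedSectionVars false
universe u
open CategoryTheory CategoryTheory.Limits AlgebraicGeometry Opposite

/-! The class of separated, locally quasi-finite maps from an algebraic space to a scheme:
stability under base change, and open subschemes are separated and locally quasi-finite over the
base. -/

namespace Groth.Agent.Lib.Helper24.Slqf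
open AlgSp Groth.Agent.Lib.Helper14.AS

variable {S : Scheme.{u}}

/-- separated, locally quasi-finite maps from an algebraic space to a scheme -/
structure Good {E : Sp S} {T : Over S} (π : E ⟶ (yon S).obj T) : Prop where
  alg : IsAlgSpace E
  sep : IsSeparatedMor π
  lqf : LocP (@LocallyQuasiFinite ⊓ @LocallyOfFiniteType) π

set_option backward.isDefEq.respectTransparency.types false in
theorem Good.baseChange {E : Sp S} {T : Over S} {π : E ⟶ (yon S).obj T} (h : Good π)
    {T' : Over S} (e : T' ⟶ T) {E' : Sp S} {fst : E' ⟶ E} {π' : E' ⟶ (yon S).obj T'}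
    (sq : IsPullback fst π' π ((yon S).map e)) : Good π' where
  alg := isAlgSpace_of_representable_to h.alg fst
    (MorphismProperty.of_isPullback (P := Representable) sq.flip (representable_yon_map e))
  sep := MorphismProperty.of_isPullback (P := (RepWith (S := S) @IsClosedImmersion).diagonal) sq
    h.sep
  lqf := locP_baseChange etLocal_lqf_lft h.alg (IsAlgSpace.yon_obj T) (IsAlgSpace.yon_obj T') π
    ((yon S).map e) fst π' sq h.lqf

set_option backward.isDefEq.respectTransparency.types false in
/-- an étale monomorphism from a scheme into a good space is separated and locally quasi-finite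
over the base -/
theorem Good.of_open {E : Sp S} {T : Over S} {π : E ⟶ (yon S).obj T} (h : Good π)
    {W : Over S} (i : (yon S).obj W ⟶ E) [Mono i] (hi : RepWith @Etale i) (ρ : W ⟶ T)
    (hρ : i ≫ π = (yon S).map ρ) :
    IsSeparated ρ.left ∧ LocallyQuasiFinite ρ.left ∧ LocallyOfFiniteType ρ.left := by
  have h1 := h.lqf i (𝟙 _) ρ hi (repWith_id _ T) (by rw [hρ, Category.comp_id])
  refine ⟨?_, h1.1, h1.2⟩
  rw [← isSeparatedMor_yon_map_iff, ← hρ]
  have hdi : (RepWith (S := S) @IsClosedImmersion).diagonal i := by
    rw [MorphismProperty.diagonal_iff]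
    have : IsIso (pullback.diagonal i) := (pullback.isIso_diagonal_iff i).2 inferInstance
    exact MorphismProperty.of_isIso _ _
  exact MorphismProperty.comp_mem (RepWith (S := S) @IsClosedImmersion).diagonal i π hdi h.sep

end Groth.Agent.Lib.Helper24.Slqf
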