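import Groth.Agent.Lib.Helper24.SlqfInd
import Groth.Agent.Lib.Helper14.AlgSpYonSigma
set_option autoImplicit false
set_option linter.unusedSectionVars false
universe u
open CategoryTheory CategoryTheory.Limits AlgebraicGeometry Opposite

namespace Groth.Agent.Lib.Helper24.Slqf

section SchemeLevel

set_option backward.isDefEq.respectTransparency.types false in
set_option backward.defeqAttrib.useBackward true in
/-- two field-valued points hitting a point with purely inseparable residue field extension and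
agreeing on the base agree -/
theorem eq_of_isPurelyInseparable {X Y : Scheme.{u}} (f : X ⟶ Y) (x : X)
    (hf : (f.residueFieldMap x).hom.IsPurelyInseparable)
    (K : Type u) [Field K] (g₁ g₂ : Spec (.of K) ⟶ X)
    (h₁ : g₁ (IsLocalRing.closedPoint K) = x) (h₂ : g₂ (IsLocalRing.closedPoint K) = x)
    (hg : g₁ ≫ f = g₂ ≫ f) : g₁ = g₂ := by
  subst h₁
  obtain ⟨e, h⟩ := Scheme.SpecToEquivOfField_eq_iff.mp congr((Y.SpecToEquivOfField K) $(hg))
  apply (X.SpecToEquivOfField K).injective
  dsimp at e h
  simp only [Scheme.descResidueField_stalkClosedPointTo_comp] at e h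
  rw [← f.residueFieldMap_congr'_assoc h₂.symm, CommRingCat.hom_ext_iff] at h
  rw [Scheme.SpecToEquivOfField_eq_iff]
  algebraize [(f.residueFieldMap (g₁ (IsLocalRing.closedPoint K))).hom]
  refine ⟨h₂.symm, CommRingCat.hom_ext ?_⟩
  exact IsPurelyInseparable.injective_comp_algebraMap
    (Y.residueField (f (g₁ (IsLocalRing.closedPoint K))))
    (X.residueField (g₁ (IsLocalRing.closedPoint K))) _ h

set_option backward.isDefEq.respectTransparency.types false in
/-- the locus where a finite étale "equivalence relation" with a radicial point is trivial -/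
theorem exists_open_diag {V T' R Q : Scheme.{u}} (τ : V ⟶ T') [IsFinite τ] {q₁ q₂ : Q ⟶ V}
    (sq : IsPullback q₂ q₁ τ τ) (c : R ⟶ Q) [IsClosedImmersion c] (p₁ p₂ : R ⟶ V) [Etale p₁]
    (hc₁ : c ≫ q₁ = p₁) (hc₂ : c ≫ q₂ = p₂)
    (δ : V ⟶ R) (hδ₁ : δ ≫ p₁ = 𝟙 V) (hδ₂ : δ ≫ p₂ = 𝟙 V) (v : V)
    (huniq : ∀ w, τ w = τ v → w = v)
    (hrad : ∀ (K : Type u) [Field K] (g₁ g₂ : Spec (.of K) ⟶ V),
      g₁ (IsLocalRing.closedPoint K) = v → g₂ (IsLocalRing.closedPoint K) = v →
      g₁ ≫ τ = g₂ ≫ τ → g₁ = g₂) :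
    ∃ V₁ : V.Opens, v ∈ V₁ ∧ ∀ {W : Scheme.{u}} (r : W ⟶ R), (∀ y, p₁ (r y) ∈ V₁) →
      r ≫ p₁ = r ≫ p₂ := by
  have hδe : Etale δ := by
    have : Etale (δ ≫ p₁) := by rw [hδ₁]; infer_instance
    exact MorphismProperty.of_postcomp (W := @Etale) (W' := @Etale) δ p₁ inferInstance this
  have hδm : Mono δ := by
    have : Mono (δ ≫ p₁) := by rw [hδ₁]; infer_instance
    exact mono_of_mono δ p₁
  have hδo : IsOpenImmersion δ := IsOpenImmersion.of_flat_of_mono δ
  have hq₁ : IsFinite q₁ := MorphismProperty.of_isPullback (P := @IsFinite) sq inferInstance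
  have hp₁ : IsFinite p₁ := by rw [← hc₁]; infer_instance
  have hcl : IsClosed (p₁ '' (Set.range δ)ᶜ) :=
    p₁.isClosedMap _ δ.isOpenEmbedding.isOpen_range.isClosed_compl
  have hpp : p₂ ≫ τ = p₁ ≫ τ := by
    rw [← hc₁, ← hc₂, Category.assoc, Category.assoc, sq.w]
  refine ⟨⟨(p₁ '' (Set.range δ)ᶜ)ᶜ, hcl.isOpen_compl⟩, ?_, ?_⟩
  · rintro ⟨r, hr, hrv⟩
    apply hr
    let φ := R.fromSpecResidueField r
    have hφ : φ (IsLocalRing.closedPoint _) = r := Scheme.fromSpecResidueField_apply _ _
    have h2 : p₂ r = v := by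
      apply huniq
      rw [← hrv, ← Scheme.Hom.comp_apply, ← Scheme.Hom.comp_apply, hpp]
    have e1 : (φ ≫ p₁) (IsLocalRing.closedPoint (R.residueField r)) = v := by
      have := Scheme.Hom.comp_apply φ p₁ (IsLocalRing.closedPoint (R.residueField r))
      rw [hφ, hrv] at this
      exact this
    have e2 : (φ ≫ p₂) (IsLocalRing.closedPoint (R.residueField r)) = v := by
      have := Scheme.Hom.comp_apply φ p₂ (IsLocalRing.closedPoint (R.residueField r))
      rw [hφ, h2] at this
      exact this
    have hg : φ ≫ p₁ = φ ≫ p₂ :=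
      hrad (R.residueField r) (φ ≫ p₁) (φ ≫ p₂) e1 e2
        (by rw [Category.assoc, Category.assoc, hpp])
    have hφδ : φ = (φ ≫ p₁) ≫ δ := by
      rw [← cancel_mono c]
      apply sq.hom_ext
      · rw [Category.assoc, hc₂, Category.assoc, Category.assoc, hc₂, hδ₂, Category.comp_id, hg]
      · rw [Category.assoc, hc₁, Category.assoc, Category.assoc, hc₁, hδ₁, Category.comp_id]
    refine ⟨(φ ≫ p₁) (IsLocalRing.closedPoint (R.residueField r)), ?_⟩
    have := Scheme.Hom.comp_apply (φ ≫ p₁) δ (IsLocalRing.closedPoint (R.residueField r))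
    rw [← hφδ, hφ] at this
    exact this.symm
  · intro W r hr
    have hsub : Set.range r ⊆ Set.range δ := by
      rintro _ ⟨y, rfl⟩
      by_contra hne
      exact hr y ⟨r y, hne, rfl⟩
    have hfac : IsOpenImmersion.lift δ r hsub ≫ δ = r := IsOpenImmersion.lift_fac _ _ _
    rw [← hfac, Category.assoc, Category.assoc, hδ₁, hδ₂]

end SchemeLevel

section SheafLevel
open AlgSp Groth.Agent.Lib.Helper14.AS Groth.Agent.Lib.Helper24.ZarGlue
open Groth.Agent.Lib.Helper24.ZarGlueRep

variable {S : Scheme.{u}}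

set_option backward.isDefEq.respectTransparency.types false in
/-- an étale map from a scheme finite over the base to a space separated over the base is a
monomorphism, hence an open immersion, near a radicial point alone in its fibre -/
theorem exists_open_mono {E' : Sp S} {T' V : Over S}
    (π' : E' ⟶ (yon S).obj T') (hsep : IsSeparatedMor π')
    (b : (yon S).obj V ⟶ E') (hb : RepWith @Etale b) (τ : V ⟶ T')
    (hbτ : b ≫ π' = (yon S).map τ) [IsFinite τ.left] (v : V.left)
    (huniq : ∀ w, τ.left w = τ.left v → w = v)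
    (hrad : ∀ (K : Type u) [Field K] (g₁ g₂ : Spec (.of K) ⟶ V.left),
      g₁ (IsLocalRing.closedPoint K) = v → g₂ (IsLocalRing.closedPoint K) = v →
      g₁ ≫ τ.left = g₂ ≫ τ.left → g₁ = g₂) :
    ∃ V₁ : V.left.Opens, v ∈ V₁ ∧
      RepWith @IsOpenImmersion ((yon S).map (resOpenι V V₁) ≫ b) := by
  have sqR := hb.rep.isPullback b
  let R : Over S := hb.rep.pullback b
  let p₁ : R ⟶ V := hb.rep.snd b
  let p₂ : R ⟶ V := (yon S).preimage (hb.rep.fst b)
  have hp₂ : (yon S).map p₂ = hb.rep.fst b := Functor.map_preimage _ _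
  have sqR' : IsPullback ((yon S).map p₂) ((yon S).map p₁) b b := by rw [hp₂]; exact sqR
  have hp₁e : Etale p₁.left := hb.property_snd b
  have hpp : p₂ ≫ τ = p₁ ≫ τ := by
    apply (yon S).map_injective
    rw [Functor.map_comp, Functor.map_comp, ← hbτ, ← Category.assoc, sqR'.w, Category.assoc]
  let c : R ⟶ pullback τ τ := pullback.lift p₂ p₁ hpp
  have hc₂ : c ≫ pullback.fst τ τ = p₂ := pullback.lift_fst _ _ _
  have hc₁ : c ≫ pullback.snd τ τ = p₁ := pullback.lift_snd _ _ _
  -- the magic square
  let m : (yon S).obj (pullback τ τ) ⟶ pullback π' π' :=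
    pullback.lift ((yon S).map (pullback.fst τ τ) ≫ b) ((yon S).map (pullback.snd τ τ) ≫ b) (by
      rw [Category.assoc, Category.assoc, hbτ, ← Functor.map_comp, ← Functor.map_comp,
        pullback.condition])
  have hm₁ : m ≫ pullback.fst π' π' = (yon S).map (pullback.fst τ τ) ≫ b :=
    pullback.lift_fst _ _ _
  have hm₂ : m ≫ pullback.snd π' π' = (yon S).map (pullback.snd τ τ) ≫ b :=
    pullback.lift_snd _ _ _
  have sqM : IsPullback ((yon S).map p₂ ≫ b) ((yon S).map c) (pullback.diagonal π') m := by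
    refine isPullback_iff_yon.2 ⟨?_, fun T x y hxy => ?_⟩
    · apply pullback.hom_ext
      · rw [Category.assoc, pullback.diagonal_fst, Category.comp_id, Category.assoc, hm₁,
          ← Functor.map_comp_assoc, hc₂]
      · rw [Category.assoc, pullback.diagonal_snd, Category.comp_id, Category.assoc, hm₂,
          ← Functor.map_comp_assoc, hc₁, sqR'.w]
    · obtain ⟨y₀, rfl⟩ := (yon S).map_surjective y
      have hx1 : x = (yon S).map (y₀ ≫ pullback.fst τ τ) ≫ b := by
        have := congrArg (· ≫ pullback.fst π' π') hxy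
        simp only [Category.assoc, pullback.diagonal_fst, Category.comp_id] at this
        rw [this, hm₁, Functor.map_comp, Category.assoc]
      have hx2 : x = (yon S).map (y₀ ≫ pullback.snd τ τ) ≫ b := by
        have := congrArg (· ≫ pullback.snd π' π') hxy
        simp only [Category.assoc, pullback.diagonal_snd, Category.comp_id] at this
        rw [this, hm₂, Functor.map_comp, Category.assoc]
      let z := sqR'.lift ((yon S).map (y₀ ≫ pullback.fst τ τ))
        ((yon S).map (y₀ ≫ pullback.snd τ τ)) (by rw [← hx1, ← hx2])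
      have hz₂ : z ≫ (yon S).map p₂ = (yon S).map (y₀ ≫ pullback.fst τ τ) := sqR'.lift_fst _ _ _
      have hz₁ : z ≫ (yon S).map p₁ = (yon S).map (y₀ ≫ pullback.snd τ τ) := sqR'.lift_snd _ _ _
      have hzc : z ≫ (yon S).map c = (yon S).map y₀ := by
        obtain ⟨z₀, hz₀⟩ := (yon S).map_surjective z
        rw [← hz₀, ← Functor.map_comp]
        congr 1
        apply pullback.hom_ext
        · rw [Category.assoc, hc₂]
          apply (yon S).map_injective
          rw [Functor.map_comp, hz₀, hz₂]
        · rw [Category.assoc, hc₁]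
          apply (yon S).map_injective
          rw [Functor.map_comp, hz₀, hz₁]
      refine ⟨z, ⟨?_, hzc⟩, ?_⟩
      · rw [← Category.assoc, hz₂, ← hx1]
      · rintro z' ⟨-, h2⟩
        apply sqR'.hom_ext
        · rw [hz₂, ← hc₂, Functor.map_comp, ← Category.assoc, h2, ← Functor.map_comp]
        · rw [hz₁, ← hc₁, Functor.map_comp, ← Category.assoc, h2, ← Functor.map_comp]
  have hsep' : RepWith @IsClosedImmersion (pullback.diagonal π') := hsep
  have hc : IsClosedImmersion c.left := hsep'.property _ _ _ sqM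
  -- the diagonal
  let δ : V ⟶ R := (yon S).preimage (sqR'.lift (𝟙 _) (𝟙 _) rfl)
  have hδ₂ : δ ≫ p₂ = 𝟙 V := by
    apply (yon S).map_injective
    rw [Functor.map_comp, Functor.map_preimage, sqR'.lift_fst, CategoryTheory.Functor.map_id]
  have hδ₁ : δ ≫ p₁ = 𝟙 V := by
    apply (yon S).map_injective
    rw [Functor.map_comp, Functor.map_preimage, sqR'.lift_snd, CategoryTheory.Functor.map_id]
  have sqQ : IsPullback (pullback.fst τ τ).left (pullback.snd τ τ).left τ.left τ.left :=
    (IsPullback.of_hasPullback τ τ).map (Over.forget S)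
  obtain ⟨V₁, hv, hV₁⟩ := exists_open_diag τ.left sqQ c.left p₁.left p₂.left
    (congrArg (fun f => f.left) hc₁) (congrArg (fun f => f.left) hc₂) δ.left
    (congrArg (fun f => f.left) hδ₁) (congrArg (fun f => f.left) hδ₂) v huniq hrad
  refine ⟨V₁, hv, ?_⟩
  have hιe : RepWith @Etale ((yon S).map (resOpenι V V₁)) :=
    (repWith_yon_map_iff @Etale _).2 (inferInstanceAs (Etale V₁.ι))
  have hb₁e : RepWith @Etale ((yon S).map (resOpenι V V₁) ≫ b) := repWith_comp @Etale hιe hb
  have hιm : Mono (resOpenι V V₁) := by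
    have : Mono ((Over.forget S).map (resOpenι V V₁)) := inferInstanceAs (Mono V₁.ι)
    exact (Over.forget S).mono_of_mono_map this
  have hmono : Mono ((yon S).map (resOpenι V V₁) ≫ b) := by
    refine mono_of_yon_test _ fun W p p' h => ?_
    obtain ⟨w, rfl⟩ := (yon S).map_surjective p
    obtain ⟨w', rfl⟩ := (yon S).map_surjective p'
    congr 1
    rw [← cancel_mono (resOpenι V V₁)]
    have h' : (yon S).map (w' ≫ resOpenι V V₁) ≫ b = (yon S).map (w ≫ resOpenι V V₁) ≫ b := by
      rw [Functor.map_comp, Functor.map_comp, Category.assoc, Category.assoc, h]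
    let r : W ⟶ R := (yon S).preimage (sqR'.lift _ _ h')
    have hr₂ : r ≫ p₂ = w' ≫ resOpenι V V₁ := by
      apply (yon S).map_injective
      rw [Functor.map_comp, Functor.map_preimage, sqR'.lift_fst]
    have hr₁ : r ≫ p₁ = w ≫ resOpenι V V₁ := by
      apply (yon S).map_injective
      rw [Functor.map_comp, Functor.map_preimage, sqR'.lift_snd]
    have key := hV₁ r.left (fun y => by
      have : p₁.left (r.left y) = (w ≫ resOpenι V V₁).left y := by
        rw [← hr₁]; rfl
      rw [this]
      exact (w.left y).2)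
    rw [← hr₁, ← hr₂]
    ext1
    exact key
  refine ⟨hb₁e.rep, fun {U W} g fst snd sq => ?_⟩
  have he : Etale snd.left := hb₁e.property g fst snd sq
  have hm : Mono ((yon S).map snd) :=
    MorphismProperty.of_isPullback (P := MorphismProperty.monomorphisms (Sp S)) sq
      (MorphismProperty.monomorphisms.infer_property _)
  have hm' : Mono snd := (yon S).mono_of_mono_map hm
  have hm'' : Mono snd.left := inferInstance
  exact IsOpenImmersion.of_flat_of_mono snd.left

end SheafLevel

end Groth.Agent.Lib.Helper24.Slqf
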