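import Mathlib

/-!
# Density of points with separable-algebraic integer coordinates in affine space over a field
(helper24, for the smooth bootstrap S10110)
-/

set_option autoImplicit false
universe u

open Polynomial

namespace Groth.Agent.Lib.Helper24.SmBootDense

/-- elements of a field killed by an integer polynomial whose derivative does not vanish there -/
def SepInt (Ω : Type u) [Field Ω] : Set Ω :=
  {c | ∃ M : ℤ[X], aeval c M = 0 ∧ aeval c (derivative M) ≠ 0}

theorem primitiveRoot_mem_sepInt {Ω : Type u} [Field Ω] {n : ℕ} (hn : (n : Ω) ≠ 0) {ζ : Ω}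
    (hζ : IsPrimitiveRoot ζ n) : ζ ∈ SepInt Ω := by
  have hn0 : n ≠ 0 := by rintro rfl; simp at hn
  refine ⟨X ^ n - 1, ?_, ?_⟩
  · simp [hζ.pow_eq_one]
  · have hζ0 : ζ ≠ 0 := hζ.ne_zero hn0
    simp only [derivative_sub, derivative_X_pow, derivative_one, sub_zero, map_mul, map_natCast,
      map_pow, aeval_X]
    exact mul_ne_zero hn (pow_ne_zero _ hζ0)

theorem infinite_setOf_natCast_ne_zero (Ω : Type u) [Field Ω] :
    {n : ℕ | (n : Ω) ≠ 0}.Infinite := by
  rcases Nat.eq_zero_or_pos (ringChar Ω) with h0 | hpos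
  · have : CharP Ω 0 := h0 ▸ ringChar.charP Ω
    have : CharZero Ω := CharP.charP_to_charZero Ω
    refine Set.infinite_of_injective_forall_mem (f := fun m : ℕ => m + 1) ?_ ?_
    · intro a b h; simpa using h
    · intro m
      change ((m + 1 : ℕ) : Ω) ≠ 0
      exact Nat.cast_ne_zero.mpr (Nat.succ_ne_zero m)
  · refine Set.infinite_of_injective_forall_mem (f := fun m : ℕ => ringChar Ω * m + 1) ?_ ?_
    · intro a b h
      have : ringChar Ω * a = ringChar Ω * b := by simpa using h
      exact Nat.eq_of_mul_eq_mul_left hpos this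
    · intro m
      change ((ringChar Ω * m + 1 : ℕ) : Ω) ≠ 0
      rw [Nat.cast_add, Nat.cast_mul, ringChar.Nat.cast_ringChar, zero_mul, zero_add, Nat.cast_one]
      exact one_ne_zero

theorem infinite_sepInt (Ω : Type u) [Field Ω] [IsAlgClosed Ω] : (SepInt Ω).Infinite := by
  have key : ∀ n : {n : ℕ | (n : Ω) ≠ 0}, ∃ ζ : Ω, IsPrimitiveRoot ζ n := by
    rintro ⟨n, hn⟩
    have : NeZero (n : Ω) := ⟨hn⟩
    exact HasEnoughRootsOfUnity.exists_primitiveRoot Ω n
  choose ζ hζ using key
  have : Infinite {n : ℕ | (n : Ω) ≠ 0} := (infinite_setOf_natCast_ne_zero Ω).to_subtype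
  refine Set.infinite_of_injective_forall_mem (f := ζ) ?_ ?_
  · intro a b h
    have h1 := (hζ a).eq_orderOf
    have h2 := (hζ b).eq_orderOf
    rw [h] at h1
    exact Subtype.ext (h1.trans h2.symm)
  · intro n
    exact primitiveRoot_mem_sepInt n.2 (hζ n)

/-- ring homomorphisms commute with evaluation of integer polynomials -/
theorem map_aeval_int {A B : Type*} [CommRing A] [CommRing B] [Algebra ℤ A] [Algebra ℤ B]
    (g : A →+* B) (a : A) (M : ℤ[X]) :
    g (aeval a M) = aeval (g a) M := by
  rw [aeval_def, aeval_def, hom_eval₂]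
  congr 1
  exact RingHom.ext_int _ _

/-- **Density**: every nonempty basic open of affine space over a field contains a point all of
whose coordinates are roots of integer polynomials with non-vanishing derivative. -/
theorem exists_prime_sep_coords {k : Type u} [Field k] {d : ℕ} (P : MvPolynomial (Fin d) k)
    (hP : P ≠ 0) :
    ∃ (M : Fin d → ℤ[X]) (𝔮 : Ideal (MvPolynomial (Fin d) k)) (_ : 𝔮.IsPrime), P ∉ 𝔮 ∧
      (∀ i, aeval (MvPolynomial.X i : MvPolynomial (Fin d) k) (M i) ∈ 𝔮) ∧
      (∀ i, aeval (MvPolynomial.X i : MvPolynomial (Fin d) k) (derivative (M i)) ∉ 𝔮) := by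
  classical
  let Ω := AlgebraicClosure k
  have hP' : MvPolynomial.map (algebraMap k Ω) P ≠ 0 := by
    intro h
    apply hP
    exact MvPolynomial.map_injective _ (algebraMap k Ω).injective (by rw [h, map_zero])
  have hex : ∃ c ∈ Set.pi Set.univ (fun _ : Fin d => SepInt Ω),
      MvPolynomial.eval c (MvPolynomial.map (algebraMap k Ω) P) ≠ 0 := by
    by_contra hcon
    push Not at hcon
    apply hP'
    exact MvPolynomial.funext_set (fun _ : Fin d => SepInt Ω) (fun _ => infinite_sepInt Ω)
      (fun x hx => by rw [hcon x hx, map_zero])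
  obtain ⟨c, hc, hcP⟩ := hex
  have hc' : ∀ i, c i ∈ SepInt Ω := fun i => hc i (Set.mem_univ i)
  choose M hM0 hM1 using hc'
  let φ : MvPolynomial (Fin d) k →ₐ[k] Ω := MvPolynomial.aeval c
  refine ⟨M, RingHom.ker φ.toRingHom, RingHom.ker_isPrime _, ?_, ?_, ?_⟩
  · intro h
    apply hcP
    have h1 : φ P = 0 := h
    rw [← h1]
    change _ = MvPolynomial.aeval c P
    rw [MvPolynomial.aeval_def, MvPolynomial.eval₂_eq_eval_map]
  · intro i
    change φ.toRingHom (aeval (MvPolynomial.X i) (M i)) = 0
    rw [map_aeval_int]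
    change aeval (MvPolynomial.aeval c (MvPolynomial.X i)) (M i) = 0
    rw [MvPolynomial.aeval_X]
    exact hM0 i
  · intro i h
    apply hM1 i
    have h1 : φ.toRingHom (aeval (MvPolynomial.X i) (derivative (M i))) = 0 := h
    rw [map_aeval_int] at h1
    change aeval (MvPolynomial.aeval c (MvPolynomial.X i)) (derivative (M i)) = 0 at h1
    rw [MvPolynomial.aeval_X] at h1
    exact h1

end Groth.Agent.Lib.Helper24.SmBootDense
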