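import Mathlib
import Groth.Agent.Lib.Helper13.SchemeLocal
import Groth.Agent.Lib.Helper25.PullbackStalk2
import Groth.Agent.Lib.Helper25.DescentAtPoint

/-!
# Étaleness at a point and flat base change (helper24, for S10110)
-/

set_option autoImplicit false
universe u

open CategoryTheory CategoryTheory.Limits AlgebraicGeometry

namespace Groth.Agent.Lib.Helper24.SmBootEt

open Groth.Agent.Lib.Helper13

variable {X Y : Scheme.{u}}

/-- `f` is étale at `x`: the stalk map is flat and formally unramified (used for `f` locally of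
finite presentation). -/
def IsEtAt (f : X ⟶ Y) (x : X) : Prop :=
  (f.stalkMap x).hom.Flat ∧ (f.stalkMap x).hom.FormallyUnramified

theorem isEtAt_of_etale (f : X ⟶ Y) [Etale f] (x : X) : IsEtAt f x :=
  ⟨Flat.stalkMap f x, FormallyUnramified.stalkMap f x⟩

/-- étaleness at a point is insensitive to open immersions into the source -/
theorem isEtAt_comp_iff_of_isOpenImmersion {X' : Scheme.{u}} (j : X' ⟶ X) [IsOpenImmersion j]
    (f : X ⟶ Y) (x' : X') : IsEtAt (j ≫ f) x' ↔ IsEtAt f (j x') := by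
  unfold IsEtAt
  rw [Scheme.Hom.stalkMap_comp]
  exact and_congr (RingHom.Flat.respectsIso.cancel_right_isIso _ (j.stalkMap x'))
    (RingHom.FormallyUnramified.respectsIso.cancel_right_isIso _ (j.stalkMap x'))

theorem isEtAt_of_etale_comp {X' : Scheme.{u}} (j : X' ⟶ X) [IsOpenImmersion j]
    (f : X ⟶ Y) [Etale (j ≫ f)] (x' : X') : IsEtAt f (j x') :=
  (isEtAt_comp_iff_of_isOpenImmersion j f x').mp (isEtAt_of_etale _ x')

/-- a morphism locally of finite presentation which is étale at `x` is étale on an open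
neighbourhood of `x` -/
theorem exists_open_etale_of_isEtAt (f : X ⟶ Y) [LocallyOfFinitePresentation f] {x : X}
    (hx : IsEtAt f x) : ∃ W : X.Opens, x ∈ W ∧ Etale (W.ι ≫ f) := by
  have key : ∀ (f' : X ⟶ Y) (_ : f' = f), (f'.stalkMap x).hom.FormallyUnramified ∧
      (f'.stalkMap x).hom.Flat := by
    rintro _ rfl
    exact ⟨hx.2, hx.1⟩
  have h1 := key (𝟙 X ≫ f) (Category.id_comp f)
  have hid : ((𝟙 X : X ⟶ X).stalkMap x).hom.Flat :=
    RingHom.Flat.of_bijective (ConcreteCategory.bijective_of_isIso ((𝟙 X : X ⟶ X).stalkMap x))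
  have hlft : LocallyOfFiniteType (𝟙 X ≫ f) := by rw [Category.id_comp]; infer_instance
  have h3 : (f.stalkMap x).hom.FormallySmooth :=
    Groth.Agent.Lib.Helper25.DescentAtPoint.formallySmooth_stalkMap_of_flat_of_unramified
      f (𝟙 X) x hid h1.1 h1.2
  obtain ⟨W, hW, H⟩ := exists_open_forall_formallyUnramified_stalkMap f x hx.2
  exact ⟨W ⊓ f.smoothLocus, ⟨hW, h3⟩,
    etale_ι_comp_of_forall f _ inf_le_right (fun z hz => H z hz.1)⟩

theorem isEtAt_iff_exists_open (f : X ⟶ Y) [LocallyOfFinitePresentation f] (x : X) :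
    IsEtAt f x ↔ ∃ W : X.Opens, x ∈ W ∧ Etale (W.ι ≫ f) := by
  refine ⟨exists_open_etale_of_isEtAt f, ?_⟩
  rintro ⟨W, hxW, hW⟩
  exact isEtAt_of_etale_comp W.ι f ⟨x, hxW⟩

/-- the étale locus is open -/
theorem isOpen_setOf_isEtAt (f : X ⟶ Y) [LocallyOfFinitePresentation f] :
    IsOpen {x | IsEtAt f x} := by
  rw [isOpen_iff_forall_mem_open]
  intro x hx
  obtain ⟨W, hxW, hW⟩ := exists_open_etale_of_isEtAt f hx
  exact ⟨W, fun z hz => isEtAt_of_etale_comp W.ι f ⟨z, hz⟩, W.2, hxW⟩

/-- a morphism locally of finite presentation which is étale at every point is étale -/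
theorem etale_of_forall_isEtAt (f : X ⟶ Y) [LocallyOfFinitePresentation f]
    (h : ∀ x, IsEtAt f x) : Etale f := by
  have hsm : f.smoothLocus = ⊤ := by
    rw [← top_le_iff]
    intro x _
    obtain ⟨W, hxW, hW⟩ := exists_open_etale_of_isEtAt f (h x)
    have : Smooth (W.ι ≫ f) := inferInstance
    exact le_smoothLocus_of_smooth_ι_comp f W hxW
  have h1 : Smooth f := Scheme.Hom.smoothLocus_eq_top_iff.mp hsm
  have h2 : FormallyUnramified f :=
    HasRingHomProperty.of_stalkMap RingHom.FormallyUnramified.ofLocalizationPrime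
      fun z => (h z).2
  exact Etale.iff_flat_and_formallyUnramified.mpr ⟨inferInstance, inferInstance, inferInstance⟩

section BaseChange

variable {P X Y Y' : Scheme.{u}} {fst : P ⟶ X} {snd : P ⟶ Y'} {f : X ⟶ Y} {g : Y' ⟶ Y}

/-- **Étale locus and flat base change.** -/
theorem isEtAt_iff_of_isPullback (H : IsPullback fst snd f g) [LocallyOfFinitePresentation f]
    [Flat g] (u : P) : IsEtAt snd u ↔ IsEtAt f (fst u) := by
  constructor
  · intro h
    exact ⟨Groth.Agent.Lib.Helper25.PullbackStalk.flat_stalkMap_of_isPullback H u h.1,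
      (Groth.Agent.Lib.Helper25.PullbackStalk2.formallyUnramified_stalkMap_iff_of_isPullback H u).mp
        h.2⟩
  · intro h
    obtain ⟨W, hW, hEt⟩ := exists_open_etale_of_isEtAt f h
    have sq : IsPullback (fst ∣_ W) ((fst ⁻¹ᵁ W).ι ≫ snd) (W.ι ≫ f) g :=
      (isPullback_morphismRestrict fst W).paste_vert H
    have hEt' : Etale ((fst ⁻¹ᵁ W).ι ≫ snd) :=
      MorphismProperty.of_isPullback (P := @Etale) sq hEt
    exact isEtAt_of_etale_comp (fst ⁻¹ᵁ W).ι snd ⟨u, hW⟩

end BaseChange

end Groth.Agent.Lib.Helper24.SmBootEt
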