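import Mathlib
import Groth.Agent.Lib.Helper25.EtaleSlice
import Groth.Agent.Lib.Helper25.EtaleCoord
import Groth.Agent.Lib.Helper24.SmBootDense

/-!
# Slicing a smooth algebra by functions pulled back along a second map (helper24, for S10110)

`exists_slice`: `B` smooth over `A`, `τ : A' → B` such that the `d(τ a')` span `Ω_{B/A}`,
`𝔯₀` a prime of `B`.  Then there are `f₁, …, f_c ∈ A'`, a prime `𝔯` of `B` over the same prime of
`A` as `𝔯₀`, containing all `τ f_i`, and `h ∉ 𝔯` such that `(B ⧸ (τ f_i))_h` is étale over `A`.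
-/

set_option autoImplicit false
universe u

open TensorProduct KaehlerDifferential IsLocalRing Polynomial

namespace Groth.Agent.Lib.Helper24.SmBootRing

open Groth.Agent.Lib.Helper25.JacobianCrit Groth.Agent.Lib.Helper24.SmBootDense

section Basis

variable (A : Type u) {B : Type u} [CommRing A] [CommRing B] [Algebra A B]

/-- if `A[X_i] → B, X_i ↦ b_i` is étale at `𝔯`, the `db_i` form a basis of `κ(𝔯) ⊗ Ω_{B/A}` -/
theorem exists_basis_of_isEtaleAt_mvPolynomial {ι : Type*} [Finite ι] (b : ι → B)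
    [Algebra (MvPolynomial ι A) B] [IsScalarTower A (MvPolynomial ι A) B]
    (hX : ∀ i, algebraMap (MvPolynomial ι A) B (MvPolynomial.X i) = b i)
    (𝔯 : Ideal B) [𝔯.IsPrime] [Algebra.IsEtaleAt (MvPolynomial ι A) 𝔯] :
    ∃ β : Module.Basis ι 𝔯.ResidueField (𝔯.ResidueField ⊗[B] Ω[B⁄A]),
      ∀ i, β i = (1 : 𝔯.ResidueField) ⊗ₜ[B] D A B (b i) := by
  classical
  set P := Localization.AtPrime 𝔯 with hP
  set S := MvPolynomial ι A with hS
  have : Algebra.FormallyEtale S P := ‹Algebra.IsEtaleAt (MvPolynomial ι A) 𝔯›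
  let e := tensorKaehlerEquivOfFormallyEtale A S P
  let b₁ : Module.Basis ι P (P ⊗[S] Ω[S⁄A]) := (mvPolynomialBasis A ι).baseChange P
  let b₂ : Module.Basis ι P Ω[P⁄A] := b₁.map e
  have hb₂ : ∀ i, b₂ i = D A P (algebraMap B P (b i)) := by
    intro i
    change e (((mvPolynomialBasis A ι).baseChange P) i) = _
    rw [Module.Basis.baseChange_apply, mvPolynomialBasis_apply,
      tensorKaehlerEquivOfFormallyEtale_apply, mapBaseChange_tmul, one_smul,
      map_D, IsScalarTower.algebraMap_apply S B P, hX]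
  let b₃ : Module.Basis ι 𝔯.ResidueField (𝔯.ResidueField ⊗[P] Ω[P⁄A]) :=
    b₂.baseChange 𝔯.ResidueField
  refine ⟨b₃.map (fibreEquiv A 𝔯), fun i => ?_⟩
  change fibreEquiv A 𝔯 ((b₂.baseChange 𝔯.ResidueField) i) = _
  rw [Module.Basis.baseChange_apply, hb₂, fibreEquiv_one_tmul_D]

end Basis

section Span

variable (A : Type u) {B : Type u} [CommRing A] [CommRing B] [Algebra A B]

/-- base change of a spanning family of differentials to a residue field -/
theorem span_one_tmul_of_span_D {β : Type*} (φ : β → B)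
    (hspan : Submodule.span B (Set.range fun x : β => D A B (φ x)) = ⊤)
    (K : Type*) [Field K] [Algebra B K] :
    Submodule.span K ((fun x : β => (1 : K) ⊗ₜ[B] D A B (φ x)) '' Set.univ) = ⊤ := by
  rw [Set.image_univ, eq_top_iff]
  have key : ∀ ω ∈ Submodule.span B (Set.range fun x : β => D A B (φ x)),
      (1 : K) ⊗ₜ[B] ω ∈ Submodule.span K (Set.range fun x : β => (1 : K) ⊗ₜ[B] D A B (φ x)) := by
    intro ω hω
    induction hω using Submodule.span_induction with
    | mem y hy =>
      obtain ⟨x, rfl⟩ := hy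
      exact Submodule.subset_span ⟨x, rfl⟩
    | zero => rw [TensorProduct.tmul_zero]; exact zero_mem _
    | add x y _ _ hx hy => rw [TensorProduct.tmul_add]; exact add_mem hx hy
    | smul c x _ hx =>
      have : (1 : K) ⊗ₜ[B] (c • x) = algebraMap B K c • ((1 : K) ⊗ₜ[B] x) := by
        rw [TensorProduct.tmul_smul, TensorProduct.smul_tmul', TensorProduct.smul_tmul',
          Algebra.smul_def, mul_one, smul_eq_mul, mul_one]
      rw [this]
      exact Submodule.smul_mem _ _ hx
  rintro v -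
  induction v using TensorProduct.induction_on with
  | zero => exact zero_mem _
  | add x y hx hy => exact add_mem hx hy
  | tmul k ω =>
    have hω : ω ∈ Submodule.span B (Set.range fun x : β => D A B (φ x)) := by
      rw [hspan]; trivial
    have : k ⊗ₜ[B] ω = k • ((1 : K) ⊗ₜ[B] ω) := by
      rw [TensorProduct.smul_tmul', smul_eq_mul, mul_one]
    rw [this]
    exact Submodule.smul_mem _ _ (key ω hω)

/-- evaluation of integer polynomials does not depend on the `ℤ`-algebra instance -/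
theorem aeval_int_inst {R : Type*} [CommRing R] (i1 i2 : Algebra ℤ R) (x : R) (N : ℤ[X]) :
    @aeval ℤ R _ _ i1 x N = @aeval ℤ R _ _ i2 x N := by
  have : i1 = i2 := Subsingleton.elim _ _
  subst this
  rfl

/-- scalars from `B` in the second factor act through `K` -/
theorem one_tmul_smul' {K : Type*} [Field K] [Algebra B K] {N : Type*} [AddCommGroup N]
    [Module B N] (c : B) (x : N) :
    (1 : K) ⊗ₜ[B] (c • x) = algebraMap B K c • ((1 : K) ⊗ₜ[B] x) := by
  rw [TensorProduct.tmul_smul, TensorProduct.smul_tmul', TensorProduct.smul_tmul',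
    Algebra.smul_def, mul_one, smul_eq_mul, mul_one]

/-- the differential of an integer polynomial in `b` -/
theorem D_aeval_int (b : B) (M : ℤ[X]) :
    D A B (aeval b M) = aeval b (derivative M) • D A B b :=
  ((D A B).restrictScalars ℤ).map_aeval M b

end Span

section Main

variable {A A' B : Type u} [CommRing A] [CommRing A'] [CommRing B] [Algebra A B]

set_option maxHeartbeats 1600000 in
/-- **Slicing by pulled back functions.** -/
theorem exists_slice [Algebra.Smooth A B] (τ : A' →+* B)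
    (hspan : Submodule.span B (Set.range fun a' : A' => D A B (τ a')) = ⊤)
    (𝔯₀ : Ideal B) [𝔯₀.IsPrime] :
    ∃ (c : ℕ) (f : Fin c → A') (h : B) (𝔯 : Ideal B) (_ : 𝔯.IsPrime),
      𝔯.comap (algebraMap A B) = 𝔯₀.comap (algebraMap A B) ∧ (∀ i, τ (f i) ∈ 𝔯) ∧ h ∉ 𝔯 ∧
      Algebra.Etale A (Localization.Away
        (Ideal.Quotient.mk (Ideal.span (Set.range fun i => τ (f i))) h)) := by
  classical
  have hfp : Algebra.FinitePresentation A B := inferInstance
  have hsmAll : ∀ (𝔯 : Ideal B) [𝔯.IsPrime], Algebra.IsSmoothAt A 𝔯 := by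
    intro 𝔯 _
    have h : (⟨𝔯, inferInstance⟩ : PrimeSpectrum B) ∈ Algebra.smoothLocus A B := by
      rw [Algebra.smoothLocus_eq_univ]; trivial
    exact h
  have hsm₀ : Algebra.IsSmoothAt A 𝔯₀ := hsmAll 𝔯₀
  -- Step 1: a basis at `𝔯₀` consisting of pulled back differentials
  obtain ⟨d, f, -, hli, hsp⟩ := exists_fin_basis_of_span_image
    (fun a' : A' => (1 : 𝔯₀.ResidueField) ⊗ₜ[B] D A B (τ a')) Set.univ
    (span_one_tmul_of_span_D A τ hspan 𝔯₀.ResidueField)
  let b : Fin d → B := fun i => τ (f i)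
  -- Step 2: the polynomial algebra structure
  let alg : Algebra (MvPolynomial (Fin d) A) B := (MvPolynomial.aeval b).toRingHom.toAlgebra
  have halg : ∀ x, algebraMap (MvPolynomial (Fin d) A) B x = MvPolynomial.aeval b x := fun _ => rfl
  have htower : IsScalarTower A (MvPolynomial (Fin d) A) B := IsScalarTower.of_algebraMap_eq (by
    intro a
    rw [halg, MvPolynomial.algebraMap_eq, MvPolynomial.aeval_C])
  have hX : ∀ i, algebraMap (MvPolynomial (Fin d) A) B (MvPolynomial.X i) = b i := fun i => by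
    rw [halg, MvPolynomial.aeval_X]
  have hEt₀ : Algebra.IsEtaleAt (MvPolynomial (Fin d) A) 𝔯₀ :=
    isEtaleAt_mvPolynomial_of_basis A b hX 𝔯₀ hli hsp
  have hfpS : Algebra.FinitePresentation (MvPolynomial (Fin d) A) B :=
    Algebra.FinitePresentation.of_restrict_scalars_finitePresentation A _ _
  obtain ⟨h₀, hh₀, hEt⟩ := Algebra.exists_etale_of_isEtaleAt (R := MvPolynomial (Fin d) A) 𝔯₀
  set S := MvPolynomial (Fin d) A with hS
  set B₀ := Localization.Away h₀ with hB₀
  -- Step 3: the image of `Spec B₀ → Spec S` is open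
  have hflat : Module.Flat S B₀ := inferInstance
  have hopen : IsOpenMap (PrimeSpectrum.comap (algebraMap S B₀)) :=
    PrimeSpectrum.isOpenMap_comap_of_hasGoingDown_of_finitePresentation
  have hO : IsOpen (Set.range (PrimeSpectrum.comap (algebraMap S B₀))) := hopen.isOpen_range
  -- Step 4: the fibre over `𝔭`
  set 𝔭 : Ideal A := 𝔯₀.comap (algebraMap A B) with h𝔭
  let k := 𝔭.ResidueField
  let K₀ := 𝔯₀.ResidueField
  let ρ : k →+* K₀ := Ideal.ResidueField.map 𝔭 𝔯₀ (algebraMap A B) rfl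
  let ψ : S →+* MvPolynomial (Fin d) k := MvPolynomial.map (algebraMap A k)
  let θ : MvPolynomial (Fin d) k →+* K₀ :=
    MvPolynomial.eval₂Hom ρ (fun i => algebraMap B K₀ (b i))
  have hθψ : θ.comp ψ = (algebraMap B K₀).comp (algebraMap S B) := by
    apply MvPolynomial.ringHom_ext
    · intro a
      change θ (MvPolynomial.map (algebraMap A k) (MvPolynomial.C a)) =
        algebraMap B K₀ (algebraMap S B (MvPolynomial.C a))
      rw [MvPolynomial.map_C, halg, MvPolynomial.aeval_C]
      change MvPolynomial.eval₂ ρ _ (MvPolynomial.C _) = _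
      rw [MvPolynomial.eval₂_C]
      exact Ideal.ResidueField.map_algebraMap 𝔭 𝔯₀ (algebraMap A B) rfl a
    · intro i
      change θ (MvPolynomial.map (algebraMap A k) (MvPolynomial.X i)) =
        algebraMap B K₀ (algebraMap S B (MvPolynomial.X i))
      rw [MvPolynomial.map_X, hX]
      change MvPolynomial.eval₂ ρ _ (MvPolynomial.X i) = _
      rw [MvPolynomial.eval₂_X]
  -- the prime `𝔯₀` comes from `B₀`
  have hrange : Set.range (PrimeSpectrum.comap (algebraMap B B₀)) =
      (PrimeSpectrum.basicOpen h₀ : Set (PrimeSpectrum B)) :=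
    PrimeSpectrum.localization_away_comap_range B₀ h₀
  have hcomp : ∀ r' : PrimeSpectrum B₀, PrimeSpectrum.comap (algebraMap S B₀) r' =
      PrimeSpectrum.comap (algebraMap S B) (PrimeSpectrum.comap (algebraMap B B₀) r') := by
    intro r'
    rw [IsScalarTower.algebraMap_eq S B B₀]
    rfl
  have hr₀mem : (⟨𝔯₀, inferInstance⟩ : PrimeSpectrum B) ∈
      Set.range (PrimeSpectrum.comap (algebraMap B B₀)) := by
    rw [hrange]; exact hh₀
  obtain ⟨r₀', hr₀'⟩ := hr₀mem
  let q₀' : PrimeSpectrum (MvPolynomial (Fin d) k) := ⟨RingHom.ker θ, RingHom.ker_isPrime θ⟩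
  have hq₀' : PrimeSpectrum.comap ψ q₀' ∈ Set.range (PrimeSpectrum.comap (algebraMap S B₀)) := by
    refine ⟨r₀', ?_⟩
    rw [hcomp, hr₀']
    apply PrimeSpectrum.ext
    change Ideal.comap (algebraMap S B) 𝔯₀ = Ideal.comap ψ (RingHom.ker θ)
    rw [RingHom.comap_ker, hθψ, ← RingHom.comap_ker, Ideal.ker_algebraMap_residueField]
  -- a basic open neighbourhood of `q₀'` in the fibre, inside the preimage of the image
  have hUopen : IsOpen ((PrimeSpectrum.comap ψ) ⁻¹'
      Set.range (PrimeSpectrum.comap (algebraMap S B₀))) :=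
    hO.preimage (PrimeSpectrum.continuous_comap ψ)
  have hq₀U : q₀' ∈ (PrimeSpectrum.comap ψ) ⁻¹'
      Set.range (PrimeSpectrum.comap (algebraMap S B₀)) := hq₀'
  obtain ⟨_, ⟨_, ⟨P, rfl⟩, rfl⟩, hq₀P, hPU⟩ :=
    PrimeSpectrum.isBasis_basic_opens.exists_subset_of_mem_open hq₀U hUopen
  have hP0 : P ≠ 0 := by
    rintro rfl
    exact hq₀P (zero_mem _)
  obtain ⟨M, 𝔮, h𝔮, hP𝔮, hM0, hM1⟩ := exists_prime_sep_coords P hP0
  have hqU : (⟨𝔮, h𝔮⟩ : PrimeSpectrum (MvPolynomial (Fin d) k)) ∈
      (PrimeSpectrum.comap ψ) ⁻¹' Set.range (PrimeSpectrum.comap (algebraMap S B₀)) :=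
    hPU hP𝔮
  obtain ⟨r', hr'⟩ := hqU
  set r : PrimeSpectrum B := PrimeSpectrum.comap (algebraMap B B₀) r' with hr
  have hrS : Ideal.comap (algebraMap S B) r.asIdeal = Ideal.comap ψ 𝔮 := by
    have := congrArg PrimeSpectrum.asIdeal ((hcomp r').symm.trans hr')
    exact this
  have hh₀r : h₀ ∉ r.asIdeal := by
    have : r ∈ Set.range (PrimeSpectrum.comap (algebraMap B B₀)) := ⟨r', rfl⟩
    rw [hrange] at this
    exact this
  set 𝔯 : Ideal B := r.asIdeal with h𝔯
  have h𝔯p : 𝔯.IsPrime := r.isPrime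
  have hmemS : ∀ x : S, algebraMap S B x ∈ 𝔯 ↔ ψ x ∈ 𝔮 := by
    intro x
    rw [← Ideal.mem_comap, hrS, Ideal.mem_comap]
  -- (a) `𝔯` lies over `𝔭`
  have ha : 𝔯.comap (algebraMap A B) = 𝔭 := by
    ext a
    rw [Ideal.mem_comap, IsScalarTower.algebraMap_apply A S B, hmemS, MvPolynomial.algebraMap_eq]
    change MvPolynomial.map (algebraMap A k) (MvPolynomial.C a) ∈ 𝔮 ↔ _
    rw [MvPolynomial.map_C]
    constructor
    · intro hmem
      by_contra hna
      have hne : algebraMap A k a ≠ 0 := by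
        rw [ne_eq, Ideal.algebraMap_residueField_eq_zero]
        exact hna
      have hunit : IsUnit (MvPolynomial.C (σ := Fin d) (algebraMap A k a)) :=
        (IsUnit.mk0 _ hne).map MvPolynomial.C
      exact h𝔮.ne_top (Ideal.eq_top_of_isUnit_mem _ hmem hunit)
    · intro hmem
      have : algebraMap A k a = 0 := Ideal.algebraMap_residueField_eq_zero.mpr hmem
      rw [this, map_zero]
      exact zero_mem _
  -- (b), (c): values of the integer polynomials
  have hval : ∀ (i : Fin d) (N : ℤ[X]), aeval (b i) N ∈ 𝔯 ↔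
      aeval (MvPolynomial.X i : MvPolynomial (Fin d) k) N ∈ 𝔮 := by
    intro i N
    have e1 : aeval (b i) N = algebraMap S B (aeval (MvPolynomial.X i : S) N) := by
      rw [map_aeval_int (algebraMap S B), hX]
    have e2 : ψ (aeval (MvPolynomial.X i : S) N) =
        aeval (MvPolynomial.X i : MvPolynomial (Fin d) k) N := by
      rw [map_aeval_int ψ]
      change aeval (MvPolynomial.map (algebraMap A k) (MvPolynomial.X i)) N = _
      rw [MvPolynomial.map_X]
    rw [e1, hmemS, e2]
  let f' : Fin d → A' := fun i => aeval (f i) (M i)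
  have hτf' : ∀ i, τ (f' i) = aeval (b i) (M i) := fun i => map_aeval_int τ (f i) (M i)
  have hb : ∀ i, τ (f' i) ∈ 𝔯 := fun i => by
    rw [hτf', hval]
    convert hM0 i using 3
    exact aeval_int_inst _ _ _ _
  have hc : ∀ i, aeval (b i) (derivative (M i)) ∉ 𝔯 := fun i => by
    rw [hval]
    convert hM1 i using 4
    exact aeval_int_inst _ _ _ _
  -- (d) étale at `𝔯`
  have hEt𝔯 : Algebra.IsEtaleAt S 𝔯 := by
    have hsub := (Algebra.basicOpen_subset_etaleLocus_iff_etale (R := S) (A := B) (f := h₀)).mpr hEt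
    exact hsub (show r ∈ (PrimeSpectrum.basicOpen h₀ : Set (PrimeSpectrum B)) from hh₀r)
  -- Step 5: the scaled basis at `𝔯`
  obtain ⟨β, hβ⟩ := exists_basis_of_isEtaleAt_mvPolynomial A b hX 𝔯
  let K := 𝔯.ResidueField
  let g : Fin d → B := fun i => τ (f' i)
  have hne : ∀ i, algebraMap B K (aeval (b i) (derivative (M i))) ≠ 0 := fun i => by
    rw [ne_eq, Ideal.algebraMap_residueField_eq_zero]; exact hc i
  let w : Fin d → Kˣ := fun i => Units.mk0 _ (hne i)
  let β' := β.unitsSMul w
  have hβ' : ⇑β' = fun i => (1 : K) ⊗ₜ[B] D A B (g i) := by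
    funext i
    rw [Module.Basis.unitsSMul_apply, hβ]
    change algebraMap B K _ • _ = (1 : K) ⊗ₜ[B] D A B (τ (f' i))
    rw [hτf', D_aeval_int, one_tmul_smul']
  have hli' : LinearIndependent K (fun i => (1 : K) ⊗ₜ[B] D A B (g i)) :=
    hβ' ▸ β'.linearIndependent
  have hsp' : Submodule.span K (Set.range fun i => (1 : K) ⊗ₜ[B] D A B (g i)) = ⊤ :=
    hβ' ▸ β'.span_eq
  -- Step 6: the Jacobian criterion and spreading out
  set I := Ideal.span (Set.range g) with hI
  have hI𝔯 : I ≤ 𝔯 := Ideal.span_le.mpr (by rintro _ ⟨i, rfl⟩; exact hb i)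
  let q : Ideal (B ⧸ I) := 𝔯.map (Ideal.Quotient.mk I)
  have hq : q.comap (Ideal.Quotient.mk I) = 𝔯 := by
    rw [Ideal.comap_map_of_surjective _ Ideal.Quotient.mk_surjective, ← RingHom.ker_eq_comap_bot,
      Ideal.mk_ker, sup_eq_left.mpr hI𝔯]
  haveI : q.IsPrime := by
    apply Ideal.map_isPrime_of_surjective Ideal.Quotient.mk_surjective
    rw [Ideal.mk_ker]; exact hI𝔯
  haveI := hsmAll 𝔯
  haveI hE : Algebra.IsEtaleAt A q :=
    isEtaleAt_quotient_of_linearIndependent_of_span_eq_top A g q 𝔯 hq hli' hsp'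
  haveI : Algebra.FinitePresentation A (B ⧸ I) :=
    Algebra.FinitePresentation.quotient ⟨Finset.univ.image g, by simp [hI]⟩
  obtain ⟨h', hh', hEt'⟩ := Algebra.exists_etale_of_isEtaleAt (R := A) q
  obtain ⟨h, rfl⟩ := Ideal.Quotient.mk_surjective h'
  refine ⟨d, f', h, 𝔯, h𝔯p, ha, hb, ?_, hEt'⟩
  intro hf
  exact hh' (Ideal.mem_map_of_mem _ hf)

end Main

end Groth.Agent.Lib.Helper24.SmBootRing
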