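import Mathlib
import Groth.Agent.Lib.Helper25.EtaleSliceScheme
import Groth.Agent.Lib.Helper24.SmBootRing
import Groth.Agent.Lib.Helper24.SmBootEt

/-!
# Local existence of slices for a smooth relation (helper24, for S10110)
-/

set_option autoImplicit false
universe u

open CategoryTheory CategoryTheory.Limits AlgebraicGeometry KaehlerDifferential

namespace Groth.Agent.Lib.Helper24.SmBootLocal

open Groth.Agent.Lib.Helper24.SmBootEt Groth.Agent.Lib.Helper24.SmBootRing

section Ring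

variable {A A' B : Type u} [CommRing A] [CommRing A'] [CommRing B] [Algebra A B]

/-- if ring homomorphisms out of `B` are determined by their restrictions to `A` and along
`τ : A' → B`, then the `d(τ a')` span `Ω_{B/A}` -/
theorem span_D_eq_top_of_ringHom_ext (τ : A' →+* B)
    (hext : ∀ (B' : Type u) [CommRing B'] (φ₁ φ₂ : B →+* B'),
      φ₁.comp (algebraMap A B) = φ₂.comp (algebraMap A B) → φ₁.comp τ = φ₂.comp τ → φ₁ = φ₂) :
    Submodule.span B (Set.range fun a' : A' => D A B (τ a')) = ⊤ := by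
  let A₂ : Subalgebra A B := Algebra.adjoin A (Set.range τ)
  have hunr : Algebra.FormallyUnramified A₂ B := by
    rw [Algebra.FormallyUnramified.iff_comp_injective]
    intro B' _ _ I hI g₁ g₂ _
    have key : g₁.toRingHom = g₂.toRingHom := by
      apply hext
      · ext x
        have h1 : algebraMap A B x = algebraMap A₂ B (algebraMap A A₂ x) := rfl
        simp only [RingHom.comp_apply, h1]
        change g₁ (algebraMap A₂ B _) = g₂ (algebraMap A₂ B _)
        rw [g₁.commutes, g₂.commutes]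
      · ext x
        have hx : τ x ∈ A₂ := Algebra.subset_adjoin ⟨x, rfl⟩
        have h1 : τ x = algebraMap A₂ B ⟨τ x, hx⟩ := rfl
        simp only [RingHom.comp_apply]
        rw [h1]
        change g₁ (algebraMap A₂ B _) = g₂ (algebraMap A₂ B _)
        rw [g₁.commutes, g₂.commutes]
    exact AlgHom.ext fun b => congrArg (fun φ : B →+* B' => φ b) key
  have hsub : Subsingleton Ω[B⁄A₂] := inferInstance
  rw [eq_top_iff]
  rintro ω -
  have hex := KaehlerDifferential.exact_mapBaseChange_map A A₂ B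
  have h0 : KaehlerDifferential.map A A₂ B B ω = 0 := Subsingleton.elim _ _
  obtain ⟨y, rfl⟩ := (hex ω).mp h0
  clear h0
  have hgen : ∀ x : A₂, D A B (x : B) ∈
      Submodule.span B (Set.range fun a' : A' => D A B (τ a')) := by
    rintro ⟨x, hx⟩
    change D A B x ∈ _
    induction hx using Algebra.adjoin_induction with
    | mem x hx =>
      obtain ⟨a', rfl⟩ := hx
      exact Submodule.subset_span ⟨a', rfl⟩
    | algebraMap r => rw [Derivation.map_algebraMap]; exact zero_mem _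
    | add x y _ _ hx hy => rw [map_add]; exact add_mem hx hy
    | mul x y _ _ hx hy =>
      rw [Derivation.leibniz]
      exact add_mem (Submodule.smul_mem _ _ hy) (Submodule.smul_mem _ _ hx)
  induction y using TensorProduct.induction_on with
  | zero => rw [map_zero]; exact zero_mem _
  | add x y hx hy => rw [map_add]; exact add_mem hx hy
  | tmul b ω' =>
    rw [KaehlerDifferential.mapBaseChange_tmul]
    refine Submodule.smul_mem _ _ ?_
    have hω' : ω' ∈ Submodule.span A₂ (Set.range (D A A₂)) := by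
      rw [KaehlerDifferential.span_range_derivation]; trivial
    induction hω' using Submodule.span_induction with
    | mem z hz =>
      obtain ⟨x, rfl⟩ := hz
      rw [KaehlerDifferential.map_D]
      exact hgen x
    | zero => rw [map_zero]; exact zero_mem _
    | add x y _ _ hx hy => rw [map_add]; exact add_mem hx hy
    | smul c x _ hx =>
      rw [map_smul]
      have : c • KaehlerDifferential.map A A A₂ B x =
          (algebraMap A₂ B c) • KaehlerDifferential.map A A A₂ B x := (algebraMap_smul B c _).symm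
      rw [this]
      exact Submodule.smul_mem _ _ hx

end Ring

section Pushout

/-- the quotient of `B` by the extension of an ideal `J` of `A'` is the pushout of `A' ⧸ J` -/
theorem isPushout_quotient {A' B : Type u} [CommRing A'] [CommRing B] (τ : A' →+* B)
    (J : Ideal A') (I : Ideal B) (hI : I = J.map τ) :
    IsPushout (CommRingCat.ofHom (Ideal.Quotient.mk J)) (CommRingCat.ofHom τ)
      (CommRingCat.ofHom (Ideal.quotientMap I τ (hI ▸ Ideal.le_comap_map)))
      (CommRingCat.ofHom (Ideal.Quotient.mk I)) := by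
  subst hI
  have hw : CommRingCat.ofHom (Ideal.Quotient.mk J) ≫
      CommRingCat.ofHom (Ideal.quotientMap (J.map τ) τ Ideal.le_comap_map) =
      CommRingCat.ofHom τ ≫ CommRingCat.ofHom (Ideal.Quotient.mk (J.map τ)) := by
    ext x
    simp
  refine ⟨⟨hw⟩, ⟨PushoutCocone.IsColimit.mk _ (fun s => CommRingCat.ofHom
    (Ideal.Quotient.lift (J.map τ) s.inr.hom ?_)) ?_ ?_ ?_⟩⟩
  · intro b hb
    have hle : J.map τ ≤ RingHom.ker s.inr.hom := by
      rw [Ideal.map_le_iff_le_comap]
      intro x hx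
      rw [Ideal.mem_comap, RingHom.mem_ker]
      have h1 := congrArg (fun φ => φ.hom x) s.condition
      simp only [CommRingCat.hom_comp, CommRingCat.hom_ofHom, RingHom.comp_apply] at h1
      rw [← h1, Ideal.Quotient.eq_zero_iff_mem.mpr hx, map_zero]
    exact hle hb
  · intro s
    ext x
    have h1 := congrArg (fun φ => φ.hom x) s.condition
    simp only [CommRingCat.hom_comp, CommRingCat.hom_ofHom, RingHom.comp_apply] at h1
    simp only [CommRingCat.hom_comp, CommRingCat.hom_ofHom, RingHom.comp_apply,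
      Ideal.quotientMap_mk]
    exact h1.symm
  · intro s
    ext x
    rfl
  · intro s m _ h2
    ext x
    have h3 := congrArg (fun φ => φ.hom x) h2
    simp only [CommRingCat.hom_comp, CommRingCat.hom_ofHom, RingHom.comp_apply] at h3
    simp only [CommRingCat.hom_ofHom]
    exact h3

end Pushout

section Mono

variable {R₁ U₁ : Scheme.{u}} (a c : R₁ ⟶ U₁)

/-- ring homomorphisms out of the coordinate ring of an affine open of `R₁` are determined by
their restrictions along `a` and `c` when `(a, c)` is jointly monic -/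
theorem ringHom_ext_of_joint_mono
    (hmono : ∀ {T : Scheme.{u}} (x y : T ⟶ R₁), x ≫ a = y ≫ a → x ≫ c = y ≫ c → x = y)
    {Va Vc : U₁.Opens} (hVa : IsAffineOpen Va) (hVc : IsAffineOpen Vc) {W : R₁.Opens}
    (hW : IsAffineOpen W) (ea : W ≤ a ⁻¹ᵁ Va) (ec : W ≤ c ⁻¹ᵁ Vc)
    (B' : CommRingCat.{u}) (φ₁ φ₂ : Γ(R₁, W) ⟶ B')
    (h1 : a.appLE Va W ea ≫ φ₁ = a.appLE Va W ea ≫ φ₂)
    (h2 : c.appLE Vc W ec ≫ φ₁ = c.appLE Vc W ec ≫ φ₂) : φ₁ = φ₂ := by
  apply Spec.map_injective
  have hm : Mono hW.fromSpec := inferInstance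
  rw [← cancel_mono hW.fromSpec]
  apply hmono
  · rw [Category.assoc, Category.assoc, ← IsAffineOpen.SpecMap_appLE_fromSpec a hVa hW ea,
      ← Category.assoc, ← Category.assoc, ← Spec.map_comp, ← Spec.map_comp, h1]
  · rw [Category.assoc, Category.assoc, ← IsAffineOpen.SpecMap_appLE_fromSpec c hVc hW ec,
      ← Category.assoc, ← Category.assoc, ← Spec.map_comp, ← Spec.map_comp, h2]

end Mono

section Main

variable {R₁ U₁ : Scheme.{u}} (a c : R₁ ⟶ U₁)

/-- composing both legs of a pullback square with a monomorphism -/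
theorem isPullback_comp_mono' {C : Type*} [Category C] {P X Y Z Z' : C} {a : P ⟶ X} {b : P ⟶ Y}
    {f : X ⟶ Z} {g : Y ⟶ Z} (m : Z ⟶ Z') [Mono m] (h : IsPullback a b f g) :
    IsPullback a b (f ≫ m) (g ≫ m) := by
  refine ⟨⟨by rw [← Category.assoc, h.w, Category.assoc]⟩,
    ⟨PullbackCone.IsLimit.mk _ (fun s => h.lift s.fst s.snd (by
      rw [← cancel_mono m, Category.assoc, Category.assoc, s.condition])) ?_ ?_ ?_⟩⟩
  · intro s; exact h.lift_fst _ _ _
  · intro s; exact h.lift_snd _ _ _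
  · intro s m' h1 h2
    exact h.hom_ext (h1.trans (h.lift_fst _ _ _).symm) (h2.trans (h.lift_snd _ _ _).symm)

set_option maxHeartbeats 1600000 in
/-- **Local slices.**  Let `a, c : R₁ ⟶ U₁` be jointly monic with `a` smooth and `r₀ ∈ R₁`.  There
is `i : Z ⟶ U₁` locally of finite presentation such that the restriction of `a` to
`c⁻¹(Z) = Z ×_{U₁} R₁` is étale at some point lying in the same fibre of `a` as `r₀`. -/
theorem exists_local_slice [Smooth a]
    (hmono : ∀ {T : Scheme.{u}} (x y : T ⟶ R₁), x ≫ a = y ≫ a → x ≫ c = y ≫ c → x = y)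
    (r₀ : R₁) :
    ∃ (Z : Scheme.{u}) (i : Z ⟶ U₁), LocallyOfFinitePresentation i ∧
      ∀ {P : Scheme.{u}} (fst : P ⟶ R₁) (snd : P ⟶ Z), IsPullback fst snd c i →
        ∃ x : P, a (fst x) = a r₀ ∧ IsEtAt (fst ≫ a) x := by
  classical
  -- charts
  obtain ⟨_, ⟨Va, hVa, rfl⟩, hxVa, -⟩ :=
    U₁.isBasis_affineOpens.exists_subset_of_mem_open (Set.mem_univ (a r₀)) isOpen_univ
  obtain ⟨_, ⟨Vc, hVc, rfl⟩, hxVc, -⟩ :=
    U₁.isBasis_affineOpens.exists_subset_of_mem_open (Set.mem_univ (c r₀)) isOpen_univ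
  obtain ⟨_, ⟨W, hW, rfl⟩, hr₀W, hWsub⟩ :=
    R₁.isBasis_affineOpens.exists_subset_of_mem_open
      (show r₀ ∈ ((a ⁻¹ᵁ Va ⊓ c ⁻¹ᵁ Vc : R₁.Opens) : Set R₁) from ⟨hxVa, hxVc⟩)
      (a ⁻¹ᵁ Va ⊓ c ⁻¹ᵁ Vc).2
  replace hVa : IsAffineOpen Va := hVa
  replace hVc : IsAffineOpen Vc := hVc
  replace hW : IsAffineOpen W := hW
  have ea : W ≤ a ⁻¹ᵁ Va := fun z hz => (hWsub hz).1
  have ec : W ≤ c ⁻¹ᵁ Vc := fun z hz => (hWsub hz).2
  have hsm := a.smooth_appLE hVa hW ea
  algebraize [(a.appLE Va W ea).hom]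
  let τ : Γ(U₁, Vc) →+* Γ(R₁, W) := (c.appLE Vc W ec).hom
  have hspan : Submodule.span Γ(R₁, W)
      (Set.range fun a' : Γ(U₁, Vc) => D Γ(U₁, Va) Γ(R₁, W) (τ a')) = ⊤ := by
    apply span_D_eq_top_of_ringHom_ext
    intro B' _ φ₁ φ₂ h1 h2
    have := ringHom_ext_of_joint_mono a c hmono hVa hVc hW ea ec (CommRingCat.of B')
      (CommRingCat.ofHom φ₁) (CommRingCat.ofHom φ₂)
      (by ext x; exact congrArg (fun φ : Γ(U₁, Va) →+* B' => φ x) h1)
      (by ext x; exact congrArg (fun φ : Γ(U₁, Vc) →+* B' => φ x) h2)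
    exact congrArg (fun φ => φ.hom) this
  -- the ring-level slice
  let 𝔯₀ : Ideal Γ(R₁, W) := (hW.primeIdealOf ⟨r₀, hr₀W⟩).asIdeal
  obtain ⟨n, f, h, 𝔯, h𝔯, hcomap, hτf, hh, hEt⟩ := exists_slice τ hspan 𝔯₀
  set J : Ideal Γ(U₁, Vc) := Ideal.span (Set.range f) with hJ
  set I : Ideal Γ(R₁, W) := Ideal.span (Set.range fun i => τ (f i)) with hIdef
  have hI : I = J.map τ := by
    rw [hJ, Ideal.map_span, ← Set.range_comp]
    rfl
  have hI𝔯 : I ≤ 𝔯 := Ideal.span_le.mpr (by rintro _ ⟨i, rfl⟩; exact hτf i)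
  have hJI : J ≤ I.comap τ := hI ▸ Ideal.le_comap_map
  -- the slice `Z`
  let jZ : Spec (CommRingCat.of (Γ(U₁, Vc) ⧸ J)) ⟶ Spec Γ(U₁, Vc) :=
    Spec.map (CommRingCat.ofHom (Ideal.Quotient.mk J))
  have hjZ : LocallyOfFinitePresentation jZ := by
    rw [HasRingHomProperty.Spec_iff (P := @LocallyOfFinitePresentation)]
    apply RingHom.FinitePresentation.of_surjective _ Ideal.Quotient.mk_surjective
    rw [Ideal.mk_ker]
    exact ⟨Finset.univ.image f, by simp [hJ]⟩
  have hiZ : LocallyOfFinitePresentation (jZ ≫ hVc.fromSpec) := inferInstance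
  refine ⟨Spec (CommRingCat.of (Γ(U₁, Vc) ⧸ J)), jZ ≫ hVc.fromSpec, hiZ, ?_⟩
  intro P fst snd H
  let C := Localization.Away (Ideal.Quotient.mk I h)
  let qm : (Γ(U₁, Vc) ⧸ J) →+* (Γ(R₁, W) ⧸ I) := Ideal.quotientMap I τ hJI
  -- the pullback square of affine schemes
  have sq1 : IsPullback (Spec.map (CommRingCat.ofHom qm))
      (Spec.map (CommRingCat.ofHom (Ideal.Quotient.mk I))) jZ (Spec.map (CommRingCat.ofHom τ)) :=
    isPullback_SpecMap_of_isPushout _ _ _ _ (isPushout_quotient τ J I hI)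
  have hτc : Spec.map (CommRingCat.ofHom τ) ≫ hVc.fromSpec = hW.fromSpec ≫ c :=
    IsAffineOpen.SpecMap_appLE_fromSpec c hVc hW ec
  have sq2 : IsPullback (Spec.map (CommRingCat.ofHom qm))
      (Spec.map (CommRingCat.ofHom (Ideal.Quotient.mk I))) (jZ ≫ hVc.fromSpec)
      (hW.fromSpec ≫ c) := by
    have := isPullback_comp_mono' hVc.fromSpec sq1
    rw [hτc] at this
    exact this
  -- the open immersion `Spec (B ⧸ I) ⟶ P`
  let κ' : Spec (CommRingCat.of (Γ(R₁, W) ⧸ I)) ⟶ P :=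
    H.lift (Spec.map (CommRingCat.ofHom (Ideal.Quotient.mk I)) ≫ hW.fromSpec)
      (Spec.map (CommRingCat.ofHom qm)) (by rw [Category.assoc]; exact sq2.w.symm)
  have hκ'1 : κ' ≫ fst = Spec.map (CommRingCat.ofHom (Ideal.Quotient.mk I)) ≫ hW.fromSpec :=
    H.lift_fst _ _ _
  have hκ'2 : κ' ≫ snd = Spec.map (CommRingCat.ofHom qm) := H.lift_snd _ _ _
  have sq3 : IsPullback (Spec.map (CommRingCat.ofHom (Ideal.Quotient.mk I))) κ' hW.fromSpec fst := by
    refine IsPullback.of_bot ?_ hκ'1.symm H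
    rw [hκ'2]
    exact sq2.flip
  have hκ'oi : IsOpenImmersion κ' :=
    MorphismProperty.of_isPullback (P := @IsOpenImmersion) sq3 inferInstance
  have hloc : IsOpenImmersion (Spec.map (CommRingCat.ofHom (algebraMap (Γ(R₁, W) ⧸ I) C))) :=
    IsOpenImmersion.of_isLocalization (Ideal.Quotient.mk I h)
  let κ : Spec (CommRingCat.of C) ⟶ P :=
    Spec.map (CommRingCat.ofHom (algebraMap (Γ(R₁, W) ⧸ I) C)) ≫ κ'
  have hκoi : IsOpenImmersion κ := inferInstance
  -- étaleness of the composite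
  have hκa : κ ≫ fst ≫ a =
      Spec.map (CommRingCat.ofHom (algebraMap Γ(U₁, Va) C)) ≫ hVa.fromSpec := by
    change (Spec.map (CommRingCat.ofHom (algebraMap (Γ(R₁, W) ⧸ I) C)) ≫ κ') ≫ fst ≫ a = _
    rw [Category.assoc, reassoc_of% hκ'1, ← IsAffineOpen.SpecMap_appLE_fromSpec a hVa hW ea,
      ← Category.assoc, ← Category.assoc, ← Spec.map_comp, ← Spec.map_comp]
    congr 2
  have hEtκ : Etale (κ ≫ fst ≫ a) := by
    rw [hκa]
    have : Etale (Spec.map (CommRingCat.ofHom (algebraMap Γ(U₁, Va) C))) := by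
      rw [HasRingHomProperty.Spec_iff (P := @Etale)]
      exact RingHom.etale_algebraMap.mpr hEt
    infer_instance
  -- the point
  obtain ⟨q', hq'⟩ := Groth.Agent.Lib.Helper25.EtaleSliceScheme.exists_prime_away_quotient I h
    ⟨𝔯, h𝔯⟩ hI𝔯 hh
  refine ⟨κ q', ?_, isEtAt_of_etale_comp κ (fst ≫ a) q'⟩
  have h1 : a (fst (κ q')) = (κ ≫ fst ≫ a) q' := rfl
  rw [h1, hκa]
  change hVa.fromSpec (Spec.map (CommRingCat.ofHom (algebraMap Γ(U₁, Va) C)) q') = a r₀
  have h2 : Spec.map (CommRingCat.ofHom (algebraMap Γ(U₁, Va) C)) q' =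
      hVa.primeIdealOf ⟨a r₀, ea hr₀W⟩ := by
    rw [← IsAffineOpen.comap_primeIdealOf_appLE Va hVa W hW ea hr₀W]
    apply PrimeSpectrum.ext
    change Ideal.comap (algebraMap Γ(U₁, Va) C) q'.asIdeal =
      Ideal.comap (algebraMap Γ(U₁, Va) Γ(R₁, W)) 𝔯₀
    rw [← hcomap, IsScalarTower.algebraMap_eq Γ(U₁, Va) Γ(R₁, W) C, ← Ideal.comap_comap]
    congr 1
    exact congrArg PrimeSpectrum.asIdeal hq'
  rw [h2]
  exact hVa.fromSpec_primeIdealOf ⟨a r₀, ea hr₀W⟩

end Main

end Groth.Agent.Lib.Helper24.SmBootLocal
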