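import Groth.Agent.Lib.Helper24.SmBootSat

/-!
# Étale slices give étale charts (helper24, for S10110)
-/

set_option autoImplicit false
universe u

open CategoryTheory CategoryTheory.Limits AlgebraicGeometry

namespace Groth.Agent.Lib.Helper24.SmBootSlice

open AlgSp Groth.Agent.Lib.Helper24.SmBootEt Groth.Agent.Lib.Helper24.SmBootSat

variable {S : Scheme.{u}} {F : PSp S} {U₀ : Over S} {p₀ : (pyon S).obj U₀ ⟶ F}
  (hr : (pyon S).relativelyRepresentable p₀)

section Slice

variable {Z : Over S} (i : Z ⟶ U₀) {T : Over S} (ξ : (pyon S).obj T ⟶ F)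

/-- `Z ×_F T` as a scheme -/
noncomputable abbrev XZ : Over S := pullback i (hr.fst' ξ)

/-- the projection `Z ×_F T ⟶ T` -/
noncomputable abbrev xT : XZ hr i ξ ⟶ T := pullback.snd i (hr.fst' ξ) ≫ hr.snd ξ

theorem sqX : IsPullback ((pyon S).map (pullback.fst i (hr.fst' ξ))) ((pyon S).map (xT hr i ξ))
    ((pyon S).map i ≫ p₀) ξ := by
  have h1 := (IsPullback.of_hasPullback i (hr.fst' ξ)).map (pyon S)
  have h2 := h1.flip.paste_horiz (hr.isPullback' ξ).flip
  rw [← Functor.map_comp] at h2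
  exact h2.flip

/-- `Y = (Z ×_F T) ×_T P_ξ` -/
noncomputable abbrev YZ : Over S := pullback (xT hr i ξ) (hr.snd ξ)

/-- the map `Y ⟶ R_Z` -/
noncomputable def mY : YZ hr i ξ ⟶ RZ hr i :=
  hr.lift' (g := (pyon S).map i ≫ p₀) (pullback.snd (xT hr i ξ) (hr.snd ξ) ≫ hr.fst' ξ)
    (pullback.fst (xT hr i ξ) (hr.snd ξ) ≫ pullback.fst i (hr.fst' ξ)) (by
      have h1 := ((IsPullback.of_hasPullback (xT hr i ξ) (hr.snd ξ)).map (pyon S)).paste_horiz
        (sqX hr i ξ)
      have h2 := h1.w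
      rw [Functor.map_comp, Functor.map_comp, Category.assoc, (hr.isPullback' ξ).w]
      rw [← Functor.map_comp] at h2
      rw [← Functor.map_comp]
      exact h2.symm)

@[reassoc]
theorem mY_sZ : mY hr i ξ ≫ sZ hr i = pullback.snd (xT hr i ξ) (hr.snd ξ) ≫ hr.fst' ξ :=
  hr.lift'_fst _ _ _

@[reassoc]
theorem mY_prZ : mY hr i ξ ≫ prZ hr i =
    pullback.fst (xT hr i ξ) (hr.snd ξ) ≫ pullback.fst i (hr.fst' ξ) := hr.lift'_snd _ _ _

/-- `Y ⟶ P_ξ` is the base change of `s_Z` -/
theorem sqY : IsPullback (mY hr i ξ) (pullback.snd (xT hr i ξ) (hr.snd ξ)) (sZ hr i)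
    (hr.fst' ξ) := by
  apply isPullback_of_pyon
  refine IsPullback.of_right ?_ ?_ (sqZ hr i).flip
  · have h1 := ((IsPullback.of_hasPullback (xT hr i ξ) (hr.snd ξ)).map (pyon S)).paste_horiz
      (sqX hr i ξ)
    rw [← (hr.isPullback' ξ).w, ← Functor.map_comp] at h1
    rw [← Functor.map_comp, mY_prZ]
    exact h1
  · rw [← Functor.map_comp, ← Functor.map_comp, mY_sZ]

set_option backward.isDefEq.respectTransparency.types false in
/-- if `s_Z` is étale then so is `Z ×_F T ⟶ T`, by descent along the smooth cover `P_ξ ⟶ T` -/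
theorem etale_xT [Etale (sZ hr i).left] (hsm : Smooth (hr.snd ξ).left)
    (hsurj : Surjective (hr.snd ξ).left) : Etale (xT hr i ξ).left := by
  have hY : IsPullback (mY hr i ξ).left (pullback.snd (xT hr i ξ) (hr.snd ξ)).left (sZ hr i).left
      (hr.fst' ξ).left := (sqY hr i ξ).map (Over.forget S)
  have hY' : IsPullback (pullback.fst (xT hr i ξ) (hr.snd ξ)).left
      (pullback.snd (xT hr i ξ) (hr.snd ξ)).left (xT hr i ξ).left (hr.snd ξ).left :=
    (IsPullback.of_hasPullback (xT hr i ξ) (hr.snd ξ)).map (Over.forget S)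
  have h1 : Etale (pullback.snd (xT hr i ξ) (hr.snd ξ)).left :=
    MorphismProperty.of_isPullback (P := @Etale) hY inferInstance
  have hflat : Flat (hr.snd ξ).left := inferInstance
  have hlfp : LocallyOfFinitePresentation (hr.snd ξ).left := inferInstance
  exact MorphismProperty.of_isPullback_of_descendsAlong (P := @Etale)
    (Q := @Surjective ⊓ @Flat ⊓ @LocallyOfFinitePresentation) hY'.flip
    ⟨⟨hsurj, hflat⟩, hlfp⟩ h1

/-- points of `T` below points of `P_ξ` whose image in `U₀` lies in the image of `s_Z` are in the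
image of `Z ×_F T ⟶ T` -/
theorem mem_range_xT (x : (hr.pullback ξ).left)
    (hu : (hr.fst' ξ).left x ∈ Set.range (sZ hr i).left) :
    (hr.snd ξ).left x ∈ Set.range (xT hr i ξ).left := by
  have hY : IsPullback (mY hr i ξ).left (pullback.snd (xT hr i ξ) (hr.snd ξ)).left (sZ hr i).left
      (hr.fst' ξ).left := (sqY hr i ξ).map (Over.forget S)
  have hY' : IsPullback (pullback.fst (xT hr i ξ) (hr.snd ξ)).left
      (pullback.snd (xT hr i ξ) (hr.snd ξ)).left (xT hr i ξ).left (hr.snd ξ).left :=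
    (IsPullback.of_hasPullback (xT hr i ξ) (hr.snd ξ)).map (Over.forget S)
  obtain ⟨r, hr'⟩ := hu
  obtain ⟨y, -, hy2⟩ := Scheme.exists_preimage_of_isPullback hY r x hr'
  refine ⟨(pullback.fst (xT hr i ξ) (hr.snd ξ)).left y, ?_⟩
  rw [← Scheme.Hom.comp_apply, hY'.w, Scheme.Hom.comp_apply, hy2]

end Slice

end Groth.Agent.Lib.Helper24.SmBootSlice
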