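import Groth.Agent.Lib.Helper24.SlqfEtCoverP
import Groth.Agent.Lib.Helper24.SpaceAtlasDiag
import Groth.Agent.Lib.Helper24.SmBootLocal
import Groth.Agent.Lib.Helper24.SmBootSlice

/-!
# The smooth bootstrap (helper24, for S10110)
-/

set_option autoImplicit false
universe u

open CategoryTheory CategoryTheory.Limits AlgebraicGeometry Opposite

namespace Groth.Agent.Lib.Helper24.SmBootMain

open AlgSp Groth.Agent.Lib.Helper14.AS Groth.Agent.Lib.Helper24.EtSheaf Groth.Agent.Lib.Helper24.Slqf
open Groth.Agent.Lib.Helper24.SmBootEt Groth.Agent.Lib.Helper24.SmBootSat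
open Groth.Agent.Lib.Helper24.SmBootSlice Groth.Agent.Lib.Helper24.SmBootLocal

variable {S : Scheme.{u}}

/-- an étale sheaf with a chart from a scheme which is representable by schemes, étale and
surjective is an algebraic space -/
theorem isAlgSpaceP_of_chart {F : PSp S} (h1 : Presheaf.IsSheaf (Jet S) F) {V : Over S}
    (q : (pyon S).obj V ⟶ F) (hr : (pyon S).relativelyRepresentable q)
    (hprop : ∀ {T W : Over S} (ξ : (pyon S).obj T ⟶ F)
      (fstW : (pyon S).obj W ⟶ (pyon S).obj V) (r : W ⟶ T)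
      (_ : IsPullback fstW ((pyon S).map r) q ξ), Etale r.left ∧ Surjective r.left) :
    IsAlgSpaceP F := by
  let R : Over S := hr.pullback q
  let s : R ⟶ V := hr.snd q
  let t : R ⟶ V := hr.fst' q
  have sq : IsPullback ((pyon S).map t) ((pyon S).map s) q q := hr.isPullback' q
  have hrel : ∀ (T : Over S) (a b : T ⟶ V), (∃ r : T ⟶ R, r ≫ t = a ∧ r ≫ s = b) ↔
      (pyon S).map a ≫ q = (pyon S).map b ≫ q := by
    intro T a b
    constructor
    · rintro ⟨r, rfl, rfl⟩
      rw [Functor.map_comp, Functor.map_comp, Category.assoc, Category.assoc, sq.w]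
    · intro h
      obtain ⟨r, hr'⟩ := (pyon S).map_surjective (sq.lift _ _ h)
      refine ⟨r, (pyon S).map_injective ?_, (pyon S).map_injective ?_⟩
      · rw [Functor.map_comp, hr', sq.lift_fst]
      · rw [Functor.map_comp, hr', sq.lift_snd]
  have hR : IsEtaleEqvRel s t := by
    refine ⟨⟨?_, ?_⟩, ?_, ?_⟩
    · intro T r r' h1 h2
      apply (pyon S).map_injective
      apply sq.hom_ext
      · rw [← Functor.map_comp, ← Functor.map_comp, h1]
      · rw [← Functor.map_comp, ← Functor.map_comp, h2]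
    · intro T
      refine ⟨fun a => (hrel T a a).2 rfl, fun {a b} h => (hrel T b a).2 ((hrel T a b).1 h).symm,
        fun {a b c} h1 h2 => (hrel T a c).2 (((hrel T a b).1 h1).trans ((hrel T b c).1 h2))⟩
    · exact (hprop q _ s sq).1
    · exact (hprop q _ t sq.flip).1
  refine isAlgSpaceP_of_etale_sheaf h1 s t q hR sq ?_
  intro T x
  let g : (pyon S).obj T ⟶ F := uliftYonedaEquiv.symm x
  have hg := hprop g _ (hr.snd g) (hr.isPullback g)
  refine ⟨hr.pullback g, hr.snd g, hg.1, hg.2, hr.fst' g, ?_⟩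
  have hw0 : (pyon S).map (hr.fst' g) ≫ q = (pyon S).map (hr.snd g) ≫ g := (hr.isPullback' g).w
  have hw := congrArg uliftYonedaEquiv.{u + 1} hw0
  have e1 := uliftYonedaEquiv_comp.{u + 1} ((pyon S).map (hr.fst' g)) q
  have e2 := uliftYonedaEquiv_comp.{u + 1} ((pyon S).map (hr.snd g)) g
  rw [uliftYonedaEquiv_uliftYoneda_map] at e1 e2
  refine (e1.symm.trans (hw.trans e2)).trans ?_
  have hn := uliftYonedaEquiv_naturality.{u + 1} g (hr.snd g).op
  have hx : uliftYonedaEquiv.{u + 1} g = x := Equiv.apply_symm_apply _ _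
  rw [hx] at hn
  exact hn.symm

section Smooth

variable {F : PSp S} {U₀ : Over S} {p₀ : (pyon S).obj U₀ ⟶ F}
  (hr : (pyon S).relativelyRepresentable p₀)

/-- the identity section of the relation -/
noncomputable def eR : U₀ ⟶ hr.pullback p₀ := hr.lift' (g := p₀) (𝟙 U₀) (𝟙 U₀) rfl

theorem eR_fst : eR hr ≫ hr.fst' p₀ = 𝟙 U₀ := hr.lift'_fst _ _ _

theorem smooth_fst' (hc : Smooth (hr.snd p₀).left) : Smooth (hr.fst' p₀).left := by
  have h : hr.fst' p₀ = (hr.symmetryIso hr).hom ≫ hr.snd p₀ := (hr.symmetry_snd hr).symm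
  have h' : (hr.fst' p₀).left = (hr.symmetryIso hr).hom.left ≫ (hr.snd p₀).left := by
    rw [← Over.comp_left, ← h]
  rw [h']
  have : IsIso (hr.symmetryIso hr).hom.left :=
    inferInstanceAs (IsIso ((Over.forget S).map (hr.symmetryIso hr).hom))
  infer_instance

theorem joint_mono {T : Scheme.{u}} (x y : T ⟶ (hr.pullback p₀).left)
    (h1 : x ≫ (hr.fst' p₀).left = y ≫ (hr.fst' p₀).left)
    (h2 : x ≫ (hr.snd p₀).left = y ≫ (hr.snd p₀).left) : x = y := by
  let T' : Over S := Over.mk (x ≫ (hr.pullback p₀).hom)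
  let X : T' ⟶ hr.pullback p₀ := Over.homMk x rfl
  let Y : T' ⟶ hr.pullback p₀ := Over.homMk y (by
    change y ≫ (hr.pullback p₀).hom = x ≫ (hr.pullback p₀).hom
    rw [← Over.w (hr.fst' p₀), ← Category.assoc, ← Category.assoc, h1])
  have hXY : X = Y := by
    apply hr.hom_ext'
    · exact Over.OverMorphism.ext h1
    · exact Over.OverMorphism.ext h2
  exact congrArg (fun m => m.left) hXY

set_option maxHeartbeats 800000 in
/-- local étale slices through every orbit -/
theorem exists_etale_slice (hsm : ∀ {T : Over S} (ξ : (pyon S).obj T ⟶ F),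
      Smooth (hr.snd ξ).left ∧ Surjective (hr.snd ξ).left) (u : U₀.left) :
    ∃ (Z : Over S) (i : Z ⟶ U₀), LocallyOfFinitePresentation i.left ∧ Etale (sZ hr i).left ∧
      u ∈ Set.range (sZ hr i).left := by
  have hc : Smooth (hr.snd p₀).left := (hsm p₀).1
  have ha : Smooth (hr.fst' p₀).left := smooth_fst' hr hc
  obtain ⟨Zs, is, hlfp, hex⟩ := exists_local_slice (hr.fst' p₀).left (hr.snd p₀).left
    (fun x y => joint_mono hr x y) ((eR hr).left u)
  let Z : Over S := Over.mk (is ≫ U₀.hom)
  let i : Z ⟶ U₀ := Over.homMk is rfl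
  have hil : LocallyOfFinitePresentation i.left := hlfp
  have hsq : IsPullback (ιR hr i).left (prZ hr i).left (hr.snd p₀).left is :=
    (sqι hr i).map (Over.forget S)
  obtain ⟨x, hx1, hx2⟩ := hex _ _ hsq
  have hs : (ιR hr i).left ≫ (hr.fst' p₀).left = (sZ hr i).left := by
    rw [← Over.comp_left, ιR_fst]
  rw [hs] at hx2
  have hx1' : (sZ hr i).left x = u := by
    rw [← hs]
    change (hr.fst' p₀).left ((ιR hr i).left x) = u
    rw [hx1, ← Scheme.Hom.comp_apply, ← Over.comp_left, eR_fst]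
    rfl
  have hlfpa : LocallyOfFinitePresentation (hr.fst' p₀).left := inferInstance
  have hlfps : LocallyOfFinitePresentation (sZ hr i).left := lfp_sZ hr i
  have hfc : Flat (hr.snd p₀).left := inferInstance
  have hfa : Flat (hr.fst' p₀).left := inferInstance
  obtain ⟨Z', j, hj, hEt, hmem⟩ := exists_open_etale_sZ hr i x hx2
  refine ⟨Z', j ≫ i, ?_, hEt, ?_⟩
  · rw [Over.comp_left]
    infer_instance
  · rw [← hx1']
    exact hmem

end Smooth

section Assemble

variable {F : PSp S} {U₀ : Over S} {p₀ : (pyon S).obj U₀ ⟶ F}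
  (hr : (pyon S).relativelyRepresentable p₀)

theorem etale_sZ_congr {Z : Over S} {i i' : Z ⟶ U₀} (h : i = i') (he : Etale (sZ hr i).left) :
    Etale (sZ hr i').left := by
  subst h; exact he

theorem range_sZ_congr {Z : Over S} {i i' : Z ⟶ U₀} (h : i = i') :
    Set.range (sZ hr i).left = Set.range (sZ hr i').left := by
  subst h; rfl

set_option maxHeartbeats 800000 in
set_option backward.isDefEq.respectTransparency.types false in
/-- **The smooth bootstrap for a scheme chart.** -/
theorem isAlgSpaceP_of_smooth_chart (h1 : Presheaf.IsSheaf (Jet S) F)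
    (hsm : ∀ {T : Over S} (ξ : (pyon S).obj T ⟶ F),
      Smooth (hr.snd ξ).left ∧ Surjective (hr.snd ξ).left) : IsAlgSpaceP F := by
  choose Z i hlfp hEt hu using exists_etale_slice hr hsm
  -- the disjoint union of the slices
  let Vs : Scheme.{u} := ∐ fun u : U₀.left => (Z u).left
  let V : Over S := Over.mk (Sigma.desc (fun u => (Z u).hom) : Vs ⟶ S)
  let ι : ∀ u, Z u ⟶ V := fun u => Over.homMk (Sigma.ι (fun u : U₀.left => (Z u).left) u)
    (by simp [V])
  let iV : V ⟶ U₀ := Over.homMk (Sigma.desc fun u => (i u).left) (by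
    apply Sigma.hom_ext
    intro u
    simp [V])
  have hιi : ∀ u, ι u ≫ iV = i u := fun u => by
    apply Over.OverMorphism.ext
    simp [ι, iV]
  have hιoi : ∀ u, IsOpenImmersion (ι u).left := fun u =>
    inferInstanceAs (IsOpenImmersion (Sigma.ι (fun u : U₀.left => (Z u).left) u))
  -- the open cover of `R_V` by the `R_{Z u}`
  have hsqκ : ∀ u, IsPullback (κR hr iV (ι u)).left (prZ hr (ι u ≫ iV)).left (prZ hr iV).left
      (ι u).left := fun u => (sqκ hr iV (ι u)).map (Over.forget S)
  have hκoi : ∀ u, IsOpenImmersion (κR hr iV (ι u)).left := fun u =>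
    MorphismProperty.of_isPullback (P := @IsOpenImmersion) (hsqκ u).flip (hιoi u)
  have hκs : ∀ u, (κR hr iV (ι u)).left ≫ (sZ hr iV).left = (sZ hr (ι u ≫ iV)).left := fun u => by
    rw [← Over.comp_left, κR_sZ]
  have hcov : ∀ x : (RZ hr iV).left, ∃ (u : U₀.left) (y : (RZ hr (ι u ≫ iV)).left),
      (κR hr iV (ι u)).left y = x := by
    intro x
    obtain ⟨u, z, hz⟩ := (sigmaOpenCover (fun u : U₀.left => (Z u).left)).exists_eq
      ((prZ hr iV).left x)
    obtain ⟨y, hy, -⟩ := Scheme.exists_preimage_of_isPullback (hsqκ u) x z hz.symm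
    exact ⟨u, y, hy⟩
  let 𝒰 : (RZ hr iV).left.OpenCover := Scheme.Cover.mkOfCovers U₀.left
    (fun u => (RZ hr (ι u ≫ iV)).left) (fun u => (κR hr iV (ι u)).left) hcov hκoi
  have hEtV : Etale (sZ hr iV).left := by
    refine IsZariskiLocalAtSource.of_openCover (P := @Etale) 𝒰 fun u => ?_
    change Etale ((κR hr iV (ι u)).left ≫ (sZ hr iV).left)
    rw [hκs]
    exact etale_sZ_congr hr (hιi u).symm (hEt u)
  have hsurjV : ∀ u : U₀.left, u ∈ Set.range (sZ hr iV).left := by
    intro u
    have h2 : u ∈ Set.range (sZ hr (ι u ≫ iV)).left := by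
      rw [← range_sZ_congr hr (hιi u).symm]
      exact hu u
    obtain ⟨y, hy⟩ := h2
    refine ⟨(κR hr iV (ι u)).left y, ?_⟩
    rw [← Scheme.Hom.comp_apply, hκs, hy]
  -- the chart `V ⟶ F`
  let q : (pyon S).obj V ⟶ F := (pyon S).map iV ≫ p₀
  have hq : (pyon S).relativelyRepresentable q := fun T ξ =>
    ⟨XZ hr iV ξ, xT hr iV ξ, (pyon S).map (pullback.fst iV (hr.fst' ξ)), sqX hr iV ξ⟩
  have hXet : ∀ {T : Over S} (ξ : (pyon S).obj T ⟶ F), Etale (xT hr iV ξ).left := fun ξ =>
    etale_xT hr iV ξ (hsm ξ).1 (hsm ξ).2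
  have hXsurj : ∀ {T : Over S} (ξ : (pyon S).obj T ⟶ F), Surjective (xT hr iV ξ).left := by
    intro T ξ
    refine ⟨fun θ => ?_⟩
    obtain ⟨x, hx⟩ := (hsm ξ).2.surj θ
    have := mem_range_xT hr iV ξ x (hsurjV _)
    rw [hx] at this
    exact this
  refine isAlgSpaceP_of_chart h1 q hq ?_
  intro T W ξ fstW r sqW
  let e' : (pyon S).obj W ≅ (pyon S).obj (XZ hr iV ξ) := sqW.isoIsPullback _ _ (sqX hr iV ξ)
  let e : W ≅ XZ hr iV ξ := (pyon S).preimageIso e'
  have he : e.hom ≫ xT hr iV ξ = r := by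
    apply (pyon S).map_injective
    rw [Functor.map_comp, Functor.preimageIso_hom, Functor.map_preimage]
    exact IsPullback.isoIsPullback_hom_snd _ _ sqW (sqX hr iV ξ)
  have he' : r.left = e.hom.left ≫ (xT hr iV ξ).left := by
    rw [← Over.comp_left, he]
  have hiso : IsIso e.hom.left := inferInstanceAs (IsIso ((Over.forget S).map e.hom))
  have h2 := hXet ξ
  have h3 := hXsurj ξ
  rw [he']
  exact ⟨inferInstance, inferInstance⟩

end Assemble

section Reduce

variable {F : PSp S} {X : Sp S} (p : X.obj ⟶ F)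
  (hp : RepBySpWith (IsSurjectiveMor ⊓ LocP @Smooth) p)
  {V : Over S} (a : (yon S).obj V ⟶ X) (hae : RepWith @Etale a) (has : RepWith @Surjective a)

include hp hae has in
set_option backward.isDefEq.respectTransparency.types false in
/-- analysis of a pullback square of presheaves of the composite of an atlas with a smooth
surjective map representable by algebraic spaces -/
theorem square_analysis_sm {T : Over S} (ξ : (pyon S).obj T ⟶ F) {G : PSp S}
    (fstG : G ⟶ (pyon S).obj V) (sndG : G ⟶ (pyon S).obj T)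
    (sq : IsPullback fstG sndG (a.hom ≫ p) ξ) :
    ∃ (hG : Presheaf.IsSheaf (J S) G), IsAlgSpace (⟨G, hG⟩ : Sp S) ∧
      IsSurjectiveMor (ObjectProperty.homMk sndG : (⟨G, hG⟩ : Sp S) ⟶ (yon S).obj T) ∧
      LocP @Smooth (ObjectProperty.homMk sndG : (⟨G, hG⟩ : Sp S) ⟶ (yon S).obj T) := by
  obtain ⟨hsh, hP, hsurj, hsmooth⟩ := hp ξ (pullback.fst p ξ) (pullback.snd p ξ)
    (IsPullback.of_hasPullback p ξ)
  let P : Sp S := ⟨pullback p ξ, hsh⟩
  let fstP : P ⟶ X := ObjectProperty.homMk (pullback.fst p ξ)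
  let sndP : P ⟶ (yon S).obj T := ObjectProperty.homMk (pullback.snd p ξ)
  let k₀ : G ⟶ pullback p ξ := pullback.lift (fstG ≫ a.hom) sndG (by
    rw [Category.assoc]; exact sq.w)
  have hk1 : k₀ ≫ pullback.fst p ξ = fstG ≫ a.hom := pullback.lift_fst _ _ _
  have hk2 : k₀ ≫ pullback.snd p ξ = sndG := pullback.lift_snd _ _ _
  have sqk : IsPullback k₀ fstG (pullback.fst p ξ) a.hom := by
    refine IsPullback.of_right ?_ hk1 (IsPullback.of_hasPullback p ξ).flip
    rw [hk2]
    exact sq.flip
  have hG : Presheaf.IsSheaf (J S) G :=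
    isSheaf_of_isPullback (F := P) (G := X) (H := (yon S).obj V) sqk
  let Gs : Sp S := ⟨G, hG⟩
  let k : Gs ⟶ P := ObjectProperty.homMk k₀
  let fstGs : Gs ⟶ (yon S).obj V := ObjectProperty.homMk fstG
  have sqks : IsPullback k fstGs fstP a :=
    IsPullback.of_map_of_faithful (sheafToPresheaf (J S) (Type (u + 1))) sqk
  have hke : RepWith @Etale k := repWith_of_isPullback _ sqks.flip hae
  have hks : RepWith @Surjective k := repWith_of_isPullback _ sqks.flip has
  have hksnd : k ≫ sndP = (ObjectProperty.homMk sndG : Gs ⟶ (yon S).obj T) := by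
    apply ObjectProperty.hom_ext
    exact hk2
  refine ⟨hG, isAlgSpace_of_representable_to hP k hke.rep, ?_, ?_⟩
  · rw [← hksnd]
    intro y
    obtain ⟨z, hz⟩ := hsurj y
    obtain ⟨w, hw⟩ := points_map_surjective_of_repWith hks z
    exact ⟨w, (Points.map_comp k sndP w).trans (by rw [hw, hz])⟩
  · rw [← hksnd]
    intro V' W' α β h hα hβ comm
    exact hsmooth (α ≫ k) β h (repWith_comp @Etale hα hke) hβ (by rw [Category.assoc, comm])

include hp hae has in
set_option backward.isDefEq.respectTransparency.types false in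
theorem relativelyRepresentable_comp_atlas_sm :
    (pyon S).relativelyRepresentable (a.hom ≫ p) := by
  intro T ξ
  let G := pullback (a.hom ≫ p) ξ
  let fstG : G ⟶ (pyon S).obj V := pullback.fst (a.hom ≫ p) ξ
  let sndG : G ⟶ (pyon S).obj T := pullback.snd (a.hom ≫ p) ξ
  have sq : IsPullback fstG sndG (a.hom ≫ p) ξ := IsPullback.of_hasPullback _ _
  obtain ⟨hG, hGs, hsurj, hsmooth⟩ := square_analysis_sm p hp a hae has ξ fstG sndG sq
  let Gs : Sp S := ⟨G, hG⟩
  let fstGs : Gs ⟶ (yon S).obj V := ObjectProperty.homMk fstG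
  let sndGs : Gs ⟶ (yon S).obj T := ObjectProperty.homMk sndG
  -- the monomorphism to the product
  let m : Gs ⟶ (yon S).obj (V ⨯ T) := prod.lift fstGs sndGs ≫ inv (prodComparison (yon S) V T)
  have hm1 : m ≫ (yon S).map prod.fst = fstGs := by
    change (prod.lift fstGs sndGs ≫ inv (prodComparison (yon S) V T)) ≫ _ = _
    rw [Category.assoc, inv_prodComparison_map_fst, prod.lift_fst]
  have hm2 : m ≫ (yon S).map prod.snd = sndGs := by
    change (prod.lift fstGs sndGs ≫ inv (prodComparison (yon S) V T)) ≫ _ = _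
    rw [Category.assoc, inv_prodComparison_map_snd, prod.lift_snd]
  have hmm : Mono m := by
    refine mono_of_yon_test _ fun Z x y h => ?_
    apply ObjectProperty.hom_ext
    apply pullback.hom_ext
    · have h1 : x ≫ fstGs = y ≫ fstGs := by
        rw [← hm1, ← Category.assoc, h, Category.assoc]
      exact congrArg (fun f => f.hom) h1
    · have h2 : x ≫ sndGs = y ≫ sndGs := by
        rw [← hm2, ← Category.assoc, h, Category.assoc]
      exact congrArg (fun f => f.hom) h2
  have hsep : IsSeparatedMor m := by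
    change (RepWith (S := S) @IsClosedImmersion).diagonal m
    rw [MorphismProperty.diagonal_iff]
    have : IsIso (pullback.diagonal m) := (pullback.isIso_diagonal_iff m).2 inferInstance
    exact MorphismProperty.of_isIso _ _
  have hsmooth' : LocP @Smooth sndGs := hsmooth
  have hlft : LocP @LocallyOfFiniteType m := by
    intro V' W' α β h hα hβ hcomm
    obtain ⟨b₀, rfl⟩ := (yon S).map_surjective β
    have key := hsmooth' α (𝟙 _) (h ≫ b₀ ≫ prod.snd) hα (repWith_id _ T) (by
      rw [Category.comp_id, ← hm2, ← Category.assoc, hcomm, Functor.map_comp, Functor.map_comp,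
        Category.assoc])
    have h1 : Smooth (h.left ≫ (b₀ ≫ prod.snd).left) := key
    have h2 : LocallyOfFiniteType (h.left ≫ (b₀ ≫ prod.snd).left) := inferInstance
    exact locallyOfFiniteType_of_comp h.left (b₀ ≫ prod.snd).left
  obtain ⟨W, ⟨ε⟩⟩ := exists_iso_yon_of_good m ⟨hGs, hsep, locP_lqf_of_mono m hlft⟩
  obtain ⟨ρ, hρ⟩ := (yon S).map_surjective (ε.hom ≫ sndGs)
  refine ⟨W, ρ, (ε.hom ≫ fstGs).hom, ?_⟩
  have hρ' : (pyon S).map ρ = (ε.hom ≫ sndGs).hom := congrArg (fun f => f.hom) hρ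
  rw [hρ']
  let εp : (pyon S).obj W ≅ G := (sheafToPresheaf (J S) (Type (u + 1))).mapIso ε
  have hid : ε.inv.hom ≫ ε.hom.hom = 𝟙 G := εp.inv_hom_id
  exact IsPullback.of_iso sq εp.symm (Iso.refl _) (Iso.refl _) (Iso.refl _)
    (by
      simp only [Iso.symm_hom, Iso.refl_hom]
      change _ = ε.inv.hom ≫ ε.hom.hom ≫ fstG
      rw [← Category.assoc, hid, Category.id_comp]
      exact Category.comp_id _)
    (by
      simp only [Iso.symm_hom, Iso.refl_hom]
      change _ = ε.inv.hom ≫ ε.hom.hom ≫ sndG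
      rw [← Category.assoc, hid, Category.id_comp]
      exact Category.comp_id _)
    (by rw [Iso.refl_hom, Iso.refl_hom]; exact (Category.comp_id _).trans (Category.id_comp _).symm)
    (by rw [Iso.refl_hom, Iso.refl_hom]; exact (Category.comp_id _).trans (Category.id_comp _).symm)

include hp hae has in
set_option backward.isDefEq.respectTransparency.types false in
theorem prop_comp_atlas_sm {T W : Over S} (ξ : (pyon S).obj T ⟶ F)
    (fstW : (pyon S).obj W ⟶ (pyon S).obj V) (r : W ⟶ T)
    (sq : IsPullback fstW ((pyon S).map r) (a.hom ≫ p) ξ) : Smooth r.left ∧ Surjective r.left := by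
  obtain ⟨hG, hGs, hsurj, hsmooth⟩ :=
    square_analysis_sm p hp a hae has ξ fstW ((pyon S).map r) sq
  have hsurj' : IsSurjectiveMor ((yon S).map r) := hsurj
  have hsmooth' : LocP @Smooth ((yon S).map r) := hsmooth
  refine ⟨locP_yon_map hsmooth', ?_⟩
  exact (repWith_yon_map_iff @Surjective _).1
    (repWith_surjective_of_isSurjectiveMor (representable_yon_map r) hsurj')

end Reduce

/-- **The smooth bootstrap.**  An étale sheaf receiving a smooth surjective map, representable by
algebraic spaces, from an algebraic space is an algebraic space. -/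
theorem isAlgSpaceP_of_smooth_cover (F : PSp S)
    (h1 : Presheaf.IsSheaf (QuotSh.J Scheme.etalePrecoverage S) F) (U : AlgSp.Space S)
    (p : U.obj.obj ⟶ F) (h2 : RepBySpWith (IsSurjectiveMor ⊓ LocP @Smooth) p) :
    IsAlgSpaceP F := by
  obtain ⟨_, V, a, hae, has⟩ := U.property
  have hr := relativelyRepresentable_comp_atlas_sm p h2 a hae has
  refine isAlgSpaceP_of_smooth_chart hr h1 ?_
  intro T ξ
  exact prop_comp_atlas_sm p h2 a hae has ξ _ (hr.snd ξ) (hr.isPullback' ξ)

end Groth.Agent.Lib.Helper24.SmBootMain
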