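import Groth.Prelude.Def_AlgSpRep
import Groth.Agent.Lib.Helper24.SmBootEt

/-!
# Saturation of the étale locus of a slice (helper24, for S10110)

`p₀ : h_{U₀} ⟶ F` representable by schemes.  For `i : Z ⟶ U₀` let `R_Z = Z ×_F U₀` with
`s_Z : R_Z ⟶ U₀` and `pr_Z : R_Z ⟶ Z`.  If the two projections `U₀ ×_F U₀ ⟶ U₀` are flat, then
the étale locus of `s_Z` is saturated for `pr_Z`.
-/

set_option autoImplicit false
universe u

open CategoryTheory CategoryTheory.Limits AlgebraicGeometry

namespace Groth.Agent.Lib.Helper24.SmBootSat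

open AlgSp Groth.Agent.Lib.Helper24.SmBootEt

variable {S : Scheme.{u}}

/-- pullback squares of representable presheaves come from pullback squares of schemes -/
theorem isPullback_of_pyon {P X Y Z : Over S} {fst : P ⟶ X} {snd : P ⟶ Y} {f : X ⟶ Z}
    {g : Y ⟶ Z}
    (h : IsPullback ((pyon S).map fst) ((pyon S).map snd) ((pyon S).map f) ((pyon S).map g)) :
    IsPullback fst snd f g :=
  IsPullback.of_map (pyon S) (by
    apply (pyon S).map_injective
    rw [Functor.map_comp, Functor.map_comp]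
    exact h.w) h

theorem isPullback_left_of_pyon {P X Y Z : Over S} {fst : P ⟶ X} {snd : P ⟶ Y} {f : X ⟶ Z}
    {g : Y ⟶ Z}
    (h : IsPullback ((pyon S).map fst) ((pyon S).map snd) ((pyon S).map f) ((pyon S).map g)) :
    IsPullback fst.left snd.left f.left g.left :=
  (isPullback_of_pyon h).map (Over.forget S)

variable {F : PSp S} {U₀ : Over S} {p₀ : (pyon S).obj U₀ ⟶ F}
  (hr : (pyon S).relativelyRepresentable p₀)

section Slice

variable {Z : Over S} (i : Z ⟶ U₀)

/-- `R_Z = Z ×_F U₀` -/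
noncomputable abbrev RZ : Over S := hr.pullback ((pyon S).map i ≫ p₀)

/-- the projection `R_Z ⟶ U₀` -/
noncomputable abbrev sZ : RZ hr i ⟶ U₀ := hr.fst' ((pyon S).map i ≫ p₀)

/-- the projection `R_Z ⟶ Z` -/
noncomputable abbrev prZ : RZ hr i ⟶ Z := hr.snd ((pyon S).map i ≫ p₀)

theorem sqZ : IsPullback ((pyon S).map (sZ hr i)) ((pyon S).map (prZ hr i)) p₀
    ((pyon S).map i ≫ p₀) := hr.isPullback' _

/-- the canonical map `R_Z ⟶ R = U₀ ×_F U₀` -/
noncomputable def ιR : RZ hr i ⟶ hr.pullback p₀ :=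
  hr.lift' (g := p₀) (sZ hr i) (prZ hr i ≫ i) (by
    rw [Functor.map_comp, Category.assoc]
    exact (sqZ hr i).w)

@[reassoc]
theorem ιR_fst : ιR hr i ≫ hr.fst' p₀ = sZ hr i := hr.lift'_fst _ _ _

@[reassoc]
theorem ιR_snd : ιR hr i ≫ hr.snd p₀ = prZ hr i ≫ i := hr.lift'_snd _ _ _

/-- `R_Z` is the base change of `Z` along the second projection of `R` -/
theorem sqι : IsPullback (ιR hr i) (prZ hr i) (hr.snd p₀) i := by
  apply isPullback_of_pyon
  refine IsPullback.of_right ?_ ?_ (hr.isPullback' p₀)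
  · rw [← Functor.map_comp, ιR_fst]
    exact sqZ hr i
  · rw [← Functor.map_comp, ← Functor.map_comp, ιR_snd]

end Slice

section Sat

variable {Z : Over S} (i : Z ⟶ U₀)

/-- `W_Z = U₀ ×_F R_Z` -/
noncomputable abbrev WZ : Over S := hr.pullback ((pyon S).map (sZ hr i) ≫ p₀)

/-- first coordinate -/
noncomputable abbrev ρW : WZ hr i ⟶ U₀ := hr.fst' ((pyon S).map (sZ hr i) ≫ p₀)

/-- the projection to `R_Z` forgetting the first coordinate -/
noncomputable abbrev πW : WZ hr i ⟶ RZ hr i := hr.snd ((pyon S).map (sZ hr i) ≫ p₀)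

theorem sqW : IsPullback ((pyon S).map (ρW hr i)) ((pyon S).map (πW hr i)) p₀
    ((pyon S).map (sZ hr i) ≫ p₀) := hr.isPullback' _

/-- the projection to `R_Z` forgetting the second coordinate -/
noncomputable def πW' : WZ hr i ⟶ RZ hr i :=
  hr.lift' (g := (pyon S).map i ≫ p₀) (ρW hr i) (πW hr i ≫ prZ hr i) (by
    rw [(sqW hr i).w, (sqZ hr i).w, Functor.map_comp, Category.assoc])

@[reassoc]
theorem πW'_sZ : πW' hr i ≫ sZ hr i = ρW hr i := hr.lift'_fst _ _ _

@[reassoc]
theorem πW'_prZ : πW' hr i ≫ prZ hr i = πW hr i ≫ prZ hr i := hr.lift'_snd _ _ _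

/-- `W_Z` is the kernel pair of `pr_Z` -/
theorem sqKer : IsPullback ((pyon S).map (πW' hr i)) ((pyon S).map (πW hr i))
    ((pyon S).map (prZ hr i)) ((pyon S).map (prZ hr i)) := by
  refine IsPullback.of_right ?_ ?_ (sqZ hr i)
  · have h := sqW hr i
    rw [(sqZ hr i).w] at h
    rw [← Functor.map_comp, πW'_sZ]
    exact h
  · rw [← Functor.map_comp, ← Functor.map_comp, πW'_prZ]

/-- the projection to `R` forgetting the `Z`-coordinate -/
noncomputable def νW : WZ hr i ⟶ hr.pullback p₀ :=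
  hr.lift' (g := p₀) (ρW hr i) (πW hr i ≫ sZ hr i) (by
    rw [(sqW hr i).w, Functor.map_comp, Category.assoc])

@[reassoc]
theorem νW_fst : νW hr i ≫ hr.fst' p₀ = ρW hr i := hr.lift'_fst _ _ _

@[reassoc]
theorem νW_snd : νW hr i ≫ hr.snd p₀ = πW hr i ≫ sZ hr i := hr.lift'_snd _ _ _

/-- `ν` is the base change of `s_Z` along the second projection of `R` -/
theorem sqA : IsPullback (πW hr i) (νW hr i) (sZ hr i) (hr.snd p₀) := by
  apply IsPullback.flip
  apply isPullback_of_pyon
  refine IsPullback.of_right ?_ ?_ (hr.isPullback' p₀)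
  · rw [← Functor.map_comp, νW_fst]
    exact sqW hr i
  · rw [← Functor.map_comp, ← Functor.map_comp, νW_snd]

/-- `ν` is the base change of `s_Z` along the first projection of `R` -/
theorem sqB : IsPullback (πW' hr i) (νW hr i) (sZ hr i) (hr.fst' p₀) := by
  apply IsPullback.flip
  apply isPullback_of_pyon
  refine IsPullback.of_right ?_ ?_ (hr.isPullback' p₀).flip
  · have h := (sqKer hr i).flip.paste_horiz (sqZ hr i)
    rw [← (sqZ hr i).w] at h
    rw [← Functor.map_comp, νW_snd, Functor.map_comp]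
    exact h
  · rw [← Functor.map_comp, ← Functor.map_comp, νW_fst, πW'_sZ]

/-- **Saturation**: the étale locus of `s_Z` is a union of fibres of `pr_Z`. -/
theorem isEtAt_of_prZ_eq [Flat (hr.snd p₀).left] [Flat (hr.fst' p₀).left]
    [LocallyOfFinitePresentation (sZ hr i).left] {r₁ r₂ : (RZ hr i).left}
    (h : (prZ hr i).left r₁ = (prZ hr i).left r₂) (h₁ : IsEtAt (sZ hr i).left r₁) :
    IsEtAt (sZ hr i).left r₂ := by
  have hK : IsPullback (πW' hr i).left (πW hr i).left (prZ hr i).left (prZ hr i).left :=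
    isPullback_left_of_pyon (sqKer hr i)
  obtain ⟨w, hw1, hw2⟩ := Scheme.exists_preimage_of_isPullback hK r₁ r₂ h
  have hA : IsPullback (πW hr i).left (νW hr i).left (sZ hr i).left (hr.snd p₀).left :=
    (sqA hr i).map (Over.forget S)
  have hB : IsPullback (πW' hr i).left (νW hr i).left (sZ hr i).left (hr.fst' p₀).left :=
    (sqB hr i).map (Over.forget S)
  have e1 := isEtAt_iff_of_isPullback hB w
  have e2 := isEtAt_iff_of_isPullback hA w
  rw [hw1] at e1
  rw [hw2] at e2
  exact e2.mp (e1.mpr h₁)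

end Sat

section Funct

variable {Z Z' : Over S} (i : Z ⟶ U₀) (j : Z' ⟶ Z)

/-- functoriality of `R_Z` in `Z` -/
noncomputable def κR : RZ hr (j ≫ i) ⟶ RZ hr i :=
  hr.lift' (g := (pyon S).map i ≫ p₀) (sZ hr (j ≫ i)) (prZ hr (j ≫ i) ≫ j) (by
    rw [(sqZ hr (j ≫ i)).w, Functor.map_comp, Functor.map_comp, Category.assoc, Category.assoc])

@[reassoc]
theorem κR_sZ : κR hr i j ≫ sZ hr i = sZ hr (j ≫ i) := hr.lift'_fst _ _ _

@[reassoc]
theorem κR_prZ : κR hr i j ≫ prZ hr i = prZ hr (j ≫ i) ≫ j := hr.lift'_snd _ _ _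

theorem sqκ : IsPullback (κR hr i j) (prZ hr (j ≫ i)) (prZ hr i) j := by
  apply isPullback_of_pyon
  refine IsPullback.of_right ?_ ?_ (sqZ hr i)
  · have h := sqZ hr (j ≫ i)
    rw [Functor.map_comp, Category.assoc] at h
    rw [← Functor.map_comp, κR_sZ]
    exact h
  · rw [← Functor.map_comp, ← Functor.map_comp, κR_prZ]

end Funct

section Shrink

variable {Z : Over S} (i : Z ⟶ U₀)

/-- the identity section `Z ⟶ R_Z` -/
noncomputable def eZ : Z ⟶ RZ hr i :=
  hr.lift' (g := (pyon S).map i ≫ p₀) i (𝟙 Z) (by rw [CategoryTheory.Functor.map_id, Category.id_comp])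

@[reassoc]
theorem eZ_sZ : eZ hr i ≫ sZ hr i = i := hr.lift'_fst _ _ _

@[reassoc]
theorem eZ_prZ : eZ hr i ≫ prZ hr i = 𝟙 Z := hr.lift'_snd _ _ _

theorem lfp_sZ [LocallyOfFinitePresentation i.left] [LocallyOfFinitePresentation (hr.fst' p₀).left] :
    LocallyOfFinitePresentation (sZ hr i).left := by
  have h1 : LocallyOfFinitePresentation (ιR hr i).left :=
    MorphismProperty.of_isPullback (P := @LocallyOfFinitePresentation)
      ((sqι hr i).map (Over.forget S)).flip
      (by change LocallyOfFinitePresentation i.left; infer_instance)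
  have h2 : (sZ hr i).left = (ιR hr i).left ≫ (hr.fst' p₀).left := by
    rw [← Over.comp_left, ιR_fst]
  rw [h2]
  infer_instance

/-- **Shrinking a slice**: if `s_Z` is étale at a point `r`, then after shrinking `Z` to an open
subscheme, `s_Z` is étale and its image still contains the image of `r`. -/
theorem exists_open_etale_sZ [Flat (hr.snd p₀).left] [Flat (hr.fst' p₀).left]
    [LocallyOfFinitePresentation (sZ hr i).left] (r : (RZ hr i).left)
    (hr₁ : IsEtAt (sZ hr i).left r) :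
    ∃ (Z' : Over S) (j : Z' ⟶ Z), IsOpenImmersion j.left ∧ Etale (sZ hr (j ≫ i)).left ∧
      (sZ hr i).left r ∈ Set.range (sZ hr (j ≫ i)).left := by
  let E : (RZ hr i).left.Opens := ⟨{x | IsEtAt (sZ hr i).left x}, isOpen_setOf_isEtAt _⟩
  let O : Z.left.Opens := (eZ hr i).left ⁻¹ᵁ E
  let Z' : Over S := Over.mk (O.ι ≫ Z.hom)
  let j : Z' ⟶ Z := Over.homMk O.ι rfl
  have hj : IsOpenImmersion j.left := inferInstanceAs (IsOpenImmersion O.ι)
  have hsq : IsPullback (κR hr i j).left (prZ hr (j ≫ i)).left (prZ hr i).left j.left :=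
    (sqκ hr i j).map (Over.forget S)
  have hκ : IsOpenImmersion (κR hr i j).left :=
    MorphismProperty.of_isPullback (P := @IsOpenImmersion) hsq.flip hj
  have hs : (sZ hr (j ≫ i)).left = (κR hr i j).left ≫ (sZ hr i).left := by
    rw [← Over.comp_left, κR_sZ]
  have hsec : ∀ z : Z.left, (prZ hr i).left ((eZ hr i).left z) = z := by
    intro z
    rw [← Scheme.Hom.comp_apply, ← Over.comp_left, eZ_prZ]
    rfl
  -- every point of `R_Z` over `O` is in the étale locus
  have hE : ∀ x : (RZ hr i).left, (prZ hr i).left x ∈ O → IsEtAt (sZ hr i).left x := by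
    intro x hx
    have h1 : IsEtAt (sZ hr i).left ((eZ hr i).left ((prZ hr i).left x)) := hx
    exact isEtAt_of_prZ_eq hr i (hsec _) h1
  have hlfp' : LocallyOfFinitePresentation (sZ hr (j ≫ i)).left := by
    rw [hs]; infer_instance
  refine ⟨Z', j, hj, ?_, ?_⟩
  · apply etale_of_forall_isEtAt
    intro x'
    have h1 : IsEtAt ((κR hr i j).left ≫ (sZ hr i).left) x' := by
      rw [isEtAt_comp_iff_of_isOpenImmersion]
      apply hE
      have h2 : (prZ hr i).left ((κR hr i j).left x') = j.left ((prZ hr (j ≫ i)).left x') := by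
        rw [← Scheme.Hom.comp_apply, ← Scheme.Hom.comp_apply, hsq.w]
      rw [h2]
      exact ((prZ hr (j ≫ i)).left x').2
    rw [hs]
    exact h1
  · have hz : (prZ hr i).left r ∈ O := by
      change IsEtAt (sZ hr i).left ((eZ hr i).left ((prZ hr i).left r))
      exact isEtAt_of_prZ_eq hr i (hsec _).symm hr₁
    obtain ⟨x', hx'1, -⟩ := Scheme.exists_preimage_of_isPullback hsq r ⟨_, hz⟩ rfl
    refine ⟨x', ?_⟩
    rw [hs, Scheme.Hom.comp_apply, hx'1]

end Shrink

end Groth.Agent.Lib.Helper24.SmBootSat
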