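import Groth.Agent.Lib.Helper24.SmSrcSmooth
import Groth.Agent.Lib.Helper14.AlgSpPoints

/-!
# Formal consequences of smooth-locality on source-and-target (helper24)
-/

universe u
open CategoryTheory CategoryTheory.Limits AlgebraicGeometry Opposite Topology

namespace Groth.Agent.Lib.Helper24.SmLocalST

open AlgSp Groth.Agent.Lib.Helper14.ESL Groth.Agent.Lib.Helper14.AS
open Groth.Agent.Lib.Helper24.AlgSpSmLocal

variable {S : Scheme.{u}} {P : MorphismProperty (Sp S)}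

theorem isLocalOnSource (hP : IsSmoothLocalST P) : IsLocalOnSource (IsSmCover (S := S)) P := by
  intro ι X Xi g hX hXi hcov Y f hY
  constructor
  · intro hf i
    exact hP.precomp (hXi i) hX hY (g i) f (hcov.1 i) hf
  · intro H
    refine (hP.locality hX hY f).2 fun x => ?_
    obtain ⟨i, v, hv⟩ := hcov.2 x
    exact ⟨Xi i, Y, g i, 𝟙 Y, g i ≫ f, v, hXi i, hY, hcov.1 i, locP_smooth_id Y, by simp, hv, H i⟩

theorem isLocalOnBase (hP : IsSmoothLocalST P) : IsLocalOnBase (IsSmCover (S := S)) P := by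
  intro ι Y Yi g hY hYi hcov X f hX Xi p q hXi hsq
  constructor
  · intro hf i
    exact hP.baseChange hX hY (hXi i) (hYi i) f (g i) (p i) (q i) (hsq i) (hcov.1 i) hf
  · intro H
    refine (hP.locality hX hY f).2 fun x => ?_
    obtain ⟨i, y, hy⟩ := hcov.2 (Points.map f x)
    obtain ⟨z, hz1, hz2⟩ := points_exists_of_isPullback (hsq i) x y hy.symm
    have hq : LocP @Smooth (q i) :=
      locP_baseChange etLocal_smooth (hYi i) hY hX (g i) f (p i) (q i) (hsq i).flip (hcov.1 i)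
    exact ⟨Xi i, Yi i, q i, g i, p i, z, hXi i, hYi i, hq, hcov.1 i, (hsq i).w, hz1, H i⟩

theorem postcomp (hP : IsSmoothLocalST P) {X Y Z : Sp S} (hX : IsAlgSpace X) (hY : IsAlgSpace Y)
    (hZ : IsAlgSpace Z) (f : X ⟶ Y) (g : Y ⟶ Z) (hf : P f) (hg : LocP @Smooth g) : P (f ≫ g) := by
  refine (hP.locality hX hZ (f ≫ g)).2 fun x => ?_
  exact ⟨X, Y, 𝟙 X, g, f, x, hX, hY, locP_smooth_id X, hg, by simp, Points.map_id _, hf⟩

end Groth.Agent.Lib.Helper24.SmLocalST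

namespace Groth.Agent.Lib.Helper24.SmLocalST

open AlgSp Groth.Agent.Lib.Helper14.ESL Groth.Agent.Lib.Helper14.AS
open Groth.Agent.Lib.Helper24.AlgSpSmLocal

variable {S : Scheme.{u}} {P : MorphismProperty (Sp S)}

/-- two-element families -/
def twoObj (A B : Sp S) : ULift.{u} Bool → Sp S
  | ⟨true⟩ => A
  | ⟨false⟩ => B

def twoHom {A B Y : Sp S} (a : A ⟶ Y) (b : B ⟶ Y) : ∀ i, twoObj A B i ⟶ Y
  | ⟨true⟩ => a
  | ⟨false⟩ => b

def twoMap {A B A' B' : Sp S} (a : A ⟶ A') (b : B ⟶ B') : ∀ i, twoObj A B i ⟶ twoObj A' B' i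
  | ⟨true⟩ => a
  | ⟨false⟩ => b

theorem isSmCover_two {X Y : Sp S} (f : X ⟶ Y) (hf : LocP @Smooth f) :
    IsSmCover (twoObj X Y) (twoHom f (𝟙 Y)) := by
  refine ⟨?_, fun x => ⟨⟨false⟩, x, Points.map_id _⟩⟩
  rintro ⟨_ | _⟩
  · exact locP_smooth_id Y
  · exact hf

theorem isAlgSpace_two {X Y : Sp S} (hX : IsAlgSpace X) (hY : IsAlgSpace Y) :
    ∀ i, IsAlgSpace (twoObj X Y i) := by
  rintro ⟨_ | _⟩
  · exact hY
  · exact hX

theorem isSmoothLocalST_of_local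
    (h1 : IsLocalOnSource (IsSmCover (S := S)) P)
    (h2 : IsLocalOnBase (IsSmCover (S := S)) P)
    (h3 : ∀ ⦃X Y Z : Sp S⦄, IsAlgSpace X → IsAlgSpace Y → IsAlgSpace Z →
      ∀ (f : X ⟶ Y) (g : Y ⟶ Z), P f → LocP @Smooth g → P (f ≫ g)) :
    IsSmoothLocalST P where
  precomp X Y Z hX hY hZ f g hf hg :=
    ((h1 (twoObj X Y) (twoHom f (𝟙 Y)) hY (isAlgSpace_two hX hY) (isSmCover_two f hf) g hZ).1 hg)
      ⟨true⟩
  baseChange X Y X' Y' hX hY hX' hY' f g f' g' sq hg hf := by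
    have := (h2 (twoObj Y' Y) (twoHom g (𝟙 Y)) hY (isAlgSpace_two hY' hY) (isSmCover_two g hg) f hX
      (twoObj X' X) (twoMap f' f) (twoHom g' (𝟙 X)) (isAlgSpace_two hX' hX) ?_).1 hf ⟨true⟩
    · exact this
    · rintro ⟨_ | _⟩
      · change IsPullback (𝟙 X) f f (𝟙 Y)
        exact IsPullback.of_horiz_isIso ⟨by simp⟩
      · exact sq
  locality X Y hX hY f := by
    refine ⟨fun hf x => ⟨X, Y, 𝟙 X, 𝟙 Y, f, x, hX, hY, locP_smooth_id X, locP_smooth_id Y,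
      by simp, Points.map_id _, hf⟩, fun H => ?_⟩
    obtain ⟨U₀, a₀, ha₀e, ha₀s⟩ := hX.atlas
    choose U V a b h v hU hV ha hb comm hv hh using fun u₀ : ↥U₀.left => H (Points.ofPt a₀ u₀)
    refine (h1 U a hX hU ⟨ha, fun x => ?_⟩ f hY).2 fun u₀ => ?_
    · obtain ⟨u₀, rfl⟩ := ofPt_surjective_of_repWith ha₀s x
      exact ⟨u₀, v u₀, hv u₀⟩
    · rw [comm u₀]
      exact h3 (hU u₀) (hV u₀) hY (h u₀) (b u₀) (hh u₀) (hb u₀)

end Groth.Agent.Lib.Helper24.SmLocalST
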