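import Groth.Agent.Lib.Helper24.AlgStOpenSub5
import Groth.Agent.Lib.Helper24.AlgStLocQ13
import Groth.Agent.Lib.Helper24.SmSrcSmooth
set_option autoImplicit false
open CategoryTheory AlgebraicGeometry Opposite
universe w₁ v₁ w₂ v₂ w₃ v₃ w₄ v₄ u
set_option backward.isDefEq.respectTransparency false
set_option backward.isDefEq.respectTransparency.types false

/-! The smooth locus of a morphism of algebraic stacks, read on one chart square. -/

namespace Groth.Agent.Lib.Helper24.SmLocus1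
open Groth.Agent.Lib.Helper24.FibCatFpMap
open Groth.Agent.Lib.Helper24.FibCatEquiv Groth.Agent.Lib.Helper24.FibCatFpGen
open Groth.Agent.Lib.Helper24.AlgStRep
open Groth.Agent.Lib.Helper24.AlgStBridge Groth.Agent.Lib.Helper24.AlgStBoot
open Groth.Agent.Lib.Helper24.AlgStRepS
open Groth.Agent.Lib.Helper24.AlgStSchLocal
open Groth.Agent.Lib.Helper24.AlgStGC
open Groth.Agent.Lib.Helper24.AlgStProps Groth.Agent.Lib.Helper24.AlgStSmooth
open Groth.Agent.Lib.Helper24.AlgStFpAlg Groth.Agent.Lib.Helper24.AlgStSmLoc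
open Groth.Agent.Lib.Helper24.AlgStEqv Groth.Agent.Lib.Helper24.PshBridge
open Groth.Agent.Lib.Helper24.AlgStLocQ1 Groth.Agent.Lib.Helper24.FibCatFpMapL
open Groth.Agent.Lib.Helper24.AlgStLocQ2 Groth.Agent.Lib.Helper24.FibCatFpLiftIso
open Groth.Agent.Lib.Helper24.AlgStLocQ3 Groth.Agent.Lib.Helper24.AlgStProdAlg
open Groth.Agent.Lib.Helper24.AlgStLocQ4 Groth.Agent.Lib.Helper24.AlgStLocQ5
open Groth.Agent.Lib.Helper24.AlgStLocQ6 Groth.Agent.Lib.Helper24.AlgStLocQ7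
open Groth.Agent.Lib.Helper24.AlgStLocQ8 Groth.Agent.Lib.Helper24.AlgStLocQ9
open Groth.Agent.Lib.Helper24.AlgStLocQ10 Groth.Agent.Lib.Helper24.AlgStLocQ12
open Groth.Agent.Lib.Helper24.AlgStLocQ13
open Groth.Agent.Lib.Helper24.AlgStCalc Groth.Agent.Lib.Helper24.AlgStDiag
open Groth.Agent.Lib.Helper24.AlgStCalc2 Groth.Agent.Lib.Helper24.AlgStDescent
open Groth.Agent.Lib.Helper24.FibCatOverMap Groth.Agent.Lib.Helper24.AlgStAtlas
open Groth.Agent.Lib.Helper24.FibCatGraph Groth.Agent.Lib.Helper24.AlgStDiagLft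
open Groth.Agent.Lib.Helper24.FibCatFpSwap Groth.Agent.Lib.Helper24.AlgStProd
open Groth.Agent.Lib.Helper24.AlgSpSmLocal
open Groth.Agent.Lib.Helper24.AlgStPts1 Groth.Agent.Lib.Helper24.AlgStPts3
open Groth.Agent.Lib.Helper24.AlgStPts4 Groth.Agent.Lib.Helper24.AlgStPts6
open Groth.Agent.Lib.Helper24.AlgStPts5 Groth.Agent.Lib.Helper24.AlgStPts7
open Groth.Agent.Lib.Helper24.AlgStOpenSub2 Groth.Agent.Lib.Helper24.AlgStOpenSub3
open Groth.Agent.Lib.Helper24.AlgStOpenSub5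
open Groth.Agent.Lib.Helper26.StackPoints
open CategoryTheory.Limits AlgSt

/-- the largest open subscheme of the source on which a morphism of schemes is smooth -/
theorem exists_largest_open_smooth {X Y : Scheme.{u}} (h : X ⟶ Y) :
    ∃ O : X.Opens, Smooth (O.ι ≫ h) ∧ ∀ O' : X.Opens, Smooth (O'.ι ≫ h) → O' ≤ O := by
  let 𝒪 : Set X.Opens := {O | Smooth (O.ι ≫ h)}
  refine ⟨sSup 𝒪, ?_, fun O' h' => le_sSup h'⟩
  set O : X.Opens := sSup 𝒪 with hO
  have key : ∀ x : ↥O.toScheme, ∃ W : O.toScheme.Opens, x ∈ W ∧ Smooth (W.ι ≫ O.ι ≫ h) := by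
    intro x
    have hx : O.ι x ∈ O := by
      have : O.ι x ∈ Set.range O.ι := ⟨x, rfl⟩
      rwa [Scheme.Opens.range_ι] at this
    obtain ⟨O', hO', hxO'⟩ : ∃ O' : X.Opens, O' ∈ 𝒪 ∧ O.ι x ∈ O' :=
      TopologicalSpace.Opens.mem_sSup.1 hx
    refine ⟨O.ι ⁻¹ᵁ O', hxO', ?_⟩
    have hr : Set.range ((O.ι ⁻¹ᵁ O').ι ≫ O.ι) ⊆ Set.range O'.ι := by
      rw [Scheme.Opens.range_ι]
      rintro _ ⟨t, rfl⟩
      have : (O.ι ⁻¹ᵁ O').ι t ∈ Set.range (O.ι ⁻¹ᵁ O').ι := ⟨t, rfl⟩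
      rw [Scheme.Opens.range_ι] at this
      exact this
    let l := IsOpenImmersion.lift O'.ι ((O.ι ⁻¹ᵁ O').ι ≫ O.ι) hr
    have hl : l ≫ O'.ι = (O.ι ⁻¹ᵁ O').ι ≫ O.ι := IsOpenImmersion.lift_fac _ _ hr
    have hli : IsOpenImmersion l := by
      have : IsOpenImmersion (l ≫ O'.ι) := by rw [hl]; infer_instance
      exact IsOpenImmersion.of_comp l O'.ι
    have hsm : Smooth (O'.ι ≫ h) := hO'
    have : (O.ι ⁻¹ᵁ O').ι ≫ O.ι ≫ h = l ≫ O'.ι ≫ h := by
      rw [← Category.assoc, ← hl, Category.assoc]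
    rw [this]
    infer_instance
  choose W hW hWs using key
  have hsup : iSup W = ⊤ := by
    rw [eq_top_iff]
    intro u _
    exact TopologicalSpace.Opens.mem_iSup.2 ⟨u, hW u⟩
  exact IsZariskiLocalAtSource.of_iSup_eq_top (P := @Smooth) W hsup hWs

variable {S : Scheme.{u}}

section
variable {𝒳 𝒴 : AlgSt.Cat S} (h𝒳 : AlgSt.IsAlgStack Scheme.fppfPrecoverage 𝒳)
  (h𝒴 : AlgSt.IsAlgStack Scheme.fppfPrecoverage 𝒴) (f : 𝒳 ⥤ᵇ 𝒴)
  {W : Set (Points 𝒳)} (hW : IsOpen W)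

/-- the comparison functor of the chart of an open substack, in the other order -/
theorem isEquivOver_chartK' {U : Over S} (x : FibCat.overCat U ⥤ᵇ 𝒳) :
    FibCat.IsEquivOver (FibCat.fpLift (chartC h𝒳 hW x) (AlgSt.overMap (chartι h𝒳 hW x))
      (Iso.refl _ : BasedFunctor.comp (chartC h𝒳 hW x) (AlgSt.subIncl 𝒳 (QW W)) ≅
        BasedFunctor.comp (AlgSt.overMap (chartι h𝒳 hW x)) x)) := by
  have h1 := isEquivOver_comp _ _ (isEquivOver_chartK h𝒳 hW x)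
    (isEquivOver_swap x (AlgSt.subIncl 𝒳 (QW W)))
  exact h1

include h𝒴 in
/-- if `f` is smooth on the open substack attached to `W`, then on every good chart square the
chart morphism is smooth on the inverse image of `W` -/
theorem smooth_chartOpen_of_locQ
    (H : AlgSt.LocQ (AlgSp.LocP @Smooth) (BasedFunctor.comp (AlgSt.subIncl 𝒳 (QW W)) f))
    {U V : Over S} (x : FibCat.overCat U ⥤ᵇ 𝒳) (y : FibCat.overCat V ⥤ᵇ 𝒴) (h : U ⟶ V)
    (α : BasedFunctor.comp x f ≅ BasedFunctor.comp (AlgSt.overMap h) y)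
    (hy : AlgSt.RepByAlgSpWith (AlgSp.LocP @Smooth) y)
    (hℓ : AlgSt.RepByAlgSpWith (AlgSp.LocP @Smooth) (FibCat.fpLift x (AlgSt.overMap h) α)) :
    Smooth ((chartOpen h𝒳 hW x).ι ≫ h.left) := by
  have h1 := P_comp_of_locQ (isAlgStack_fullSub_qW h𝒳 hW) h𝒳 h𝒴 (AlgSt.subIncl 𝒳 (QW W)) f
    isSmoothLocalST_smooth H (chartC h𝒳 hW x) x y (chartι h𝒳 hW x) h (Iso.refl _) α hy
    (smooth_of_isEquivOver _ (isEquivOver_chartK' h𝒳 hW x)) hℓ
  have h2 : Smooth (chartι h𝒳 hW x ≫ h).left := AlgSp.locP_yon_map h1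
  exact h2

/-- the chart of an open substack induced by a smooth chart is smooth -/
theorem smooth_chartC {U : Over S} (x : FibCat.overCat U ⥤ᵇ 𝒳)
    (hx : AlgSt.RepByAlgSpWith (AlgSp.LocP @Smooth) x) :
    AlgSt.RepByAlgSpWith (AlgSp.LocP @Smooth) (chartC h𝒳 hW x) := by
  have h1 : AlgSt.RepByAlgSpWith (AlgSp.LocP @Smooth)
      (BasedFunctor.comp (chartK h𝒳 hW x) (FibCat.fpSnd x (AlgSt.subIncl 𝒳 (QW W)))) :=
    (repByAlgSpWith_equiv_comp _ (chartK h𝒳 hW x) _ (isEquivOver_chartK h𝒳 hW x)).2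
      (repByAlgSpWith_fpSnd _ x (AlgSt.subIncl 𝒳 (QW W)) hx)
  exact h1

/-- the chart of an open substack induced by a chart covering `W` is surjective -/
theorem isSurjective_chartC {U : Over S} (x : FibCat.overCat U ⥤ᵇ 𝒳)
    (hsurj : W ⊆ Set.range (Points.ofChart x)) : AlgSt.IsSurjective (chartC h𝒳 hW x) := by
  intro z
  have hYfib := isFibGrpd_fullSub_qW h𝒳.isStack.1 W
  have hz : Points.map (AlgSt.subIncl 𝒳 (QW W)) z ∈ W :=
    (range_map_subIncl_qW W).subset ⟨z, rfl⟩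
  obtain ⟨u, hu⟩ := hsurj hz
  have hu' : u ∈ chartOpen h𝒳 hW x := by
    change Points.ofChart x u ∈ W
    rw [hu]
    exact hz
  refine ⟨sch _ (⟨u, hu'⟩ : ↥(chartOpen h𝒳 hW x)),
    injective_map_of_full hYfib h𝒳.isStack.1 (AlgSt.subIncl 𝒳 (QW W)) ?_⟩
  rw [← map_comp, ← hu]
  have h1 : BasedFunctor.comp (chartC h𝒳 hW x) (AlgSt.subIncl 𝒳 (QW W)) =
      BasedFunctor.comp (AlgSt.overMap (chartι h𝒳 hW x)) x := rfl
  rw [h1, ← ofChart_eq, ofChart_overMap]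
  rfl

/-- if on a chart square the chart morphism is smooth on the inverse image of `W` and the chart
covers `W`, then `f` is smooth on the open substack attached to `W` -/
theorem locQ_of_smooth_chartOpen
    {U V : Over S} (x : FibCat.overCat U ⥤ᵇ 𝒳) (y : FibCat.overCat V ⥤ᵇ 𝒴) (h : U ⟶ V)
    (α : BasedFunctor.comp x f ≅ BasedFunctor.comp (AlgSt.overMap h) y)
    (hx : AlgSt.RepByAlgSpWith (AlgSp.LocP @Smooth) x)
    (hy : AlgSt.RepByAlgSpWith (AlgSp.LocP @Smooth) y)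
    (hsurj : W ⊆ Set.range (Points.ofChart x))
    (hsm : Smooth ((chartOpen h𝒳 hW x).ι ≫ h.left)) :
    AlgSt.LocQ (AlgSp.LocP @Smooth) (BasedFunctor.comp (AlgSt.subIncl 𝒳 (QW W)) f) := by
  have hYfib := isFibGrpd_fullSub_qW h𝒳.isStack.1 W
  have hfU : FibCat.IsFibGrpd (FibCat.overCat (chartV h𝒳 hW x)).p :=
    StkFpCrit.isFibGrpd_overForget _
  have hC := smooth_chartC h𝒳 hW x hx
  have hC' : AlgSt.RepByAlgSpWith AlgSp.IsSurjectiveMor (chartC h𝒳 hW x) :=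
    (isSurjective_iff_repByAlgSpWith hfU hYfib _ (repByAlgSp1_of_repByAlgSpWith _ _ hC)).1
      (isSurjective_chartC h𝒳 hW x hsurj)
  let α' : BasedFunctor.comp (chartC h𝒳 hW x) (BasedFunctor.comp (AlgSt.subIncl 𝒳 (QW W)) f) ≅
      BasedFunctor.comp (AlgSt.overMap (chartι h𝒳 hW x ≫ h)) y :=
    (whiskerLeftIso (AlgSt.overMap (chartι h𝒳 hW x)) α).trans
      (whiskerRightIso (overMapComp (chartι h𝒳 hW x) h).symm y)
  have hsm' : Smooth (chartι h𝒳 hW x ≫ h).left := hsm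
  exact ⟨chartV h𝒳 hW x, V, chartC h𝒳 hW x, y, chartι h𝒳 hW x ≫ h, α', hC, hC', hy,
    locP_yon_map_of Groth.Agent.Lib.Helper14.AS.etLocal_smooth hsm'⟩

end

section Restrict
variable {U : Over S} (O : U.left.Opens)

/-- an open subscheme of a scheme over `S`, as a scheme over `S` -/
def resV : Over S := Over.mk (O.ι ≫ U.hom)

/-- its inclusion -/
def resι : resV O ⟶ U := Over.homMk O.ι rfl

theorem smooth_overMap_resι :
    AlgSt.RepByAlgSpWith (AlgSp.LocP @Smooth) (AlgSt.overMap (resι O)) := by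
  have h0 : Smooth (resι O).left := inferInstanceAs (Smooth O.ι)
  exact (repByAlgSpWith_overMap_iff _ good_smooth (resι O)).2
    (locP_yon_map_of Groth.Agent.Lib.Helper14.AS.etLocal_smooth h0)

end Restrict

section Main
variable {𝒳 𝒴 : AlgSt.Cat S} (h𝒳 : AlgSt.IsAlgStack Scheme.fppfPrecoverage 𝒳)
  (h𝒴 : AlgSt.IsAlgStack Scheme.fppfPrecoverage 𝒴) (f : 𝒳 ⥤ᵇ 𝒴)

include h𝒳 in
theorem surjective_ofChart {U : Over S} (x : FibCat.overCat U ⥤ᵇ 𝒳)
    (hx' : AlgSt.RepByAlgSpWith AlgSp.IsSurjectiveMor x) :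
    Function.Surjective (Points.ofChart x) := by
  intro w
  obtain ⟨z, rfl⟩ := surjective_map_of_repByAlgSpWith h𝒳.isStack.1 x hx' w
  obtain ⟨t, rfl⟩ := (bijective_sch U).2 z
  exact ⟨t, rfl⟩

include h𝒳 h𝒴 in
/-- the largest open subset of the space of points over which `f` is smooth, read on a good chart
square with surjective source chart -/
theorem exists_largest_of_square {U V : Over S} (x : FibCat.overCat U ⥤ᵇ 𝒳)
    (y : FibCat.overCat V ⥤ᵇ 𝒴) (h : U ⟶ V)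
    (α : BasedFunctor.comp x f ≅ BasedFunctor.comp (AlgSt.overMap h) y)
    (hx : AlgSt.RepByAlgSpWith (AlgSp.LocP @Smooth) x)
    (hx' : AlgSt.RepByAlgSpWith AlgSp.IsSurjectiveMor x)
    (hy : AlgSt.RepByAlgSpWith (AlgSp.LocP @Smooth) y)
    (hℓ : AlgSt.RepByAlgSpWith (AlgSp.LocP @Smooth) (FibCat.fpLift x (AlgSt.overMap h) α)) :
    ∃ W : Set (Points 𝒳), IsOpen W ∧
      AlgSt.LocQ (AlgSp.LocP @Smooth) (BasedFunctor.comp (AlgSt.subIncl 𝒳 (QW W)) f) ∧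
      (∀ W' : Set (Points 𝒳), IsOpen W' →
        AlgSt.LocQ (AlgSp.LocP @Smooth) (BasedFunctor.comp (AlgSt.subIncl 𝒳 (QW W')) f) →
          W' ⊆ W) ∧
      ∀ u : ↥U.left, Points.ofChart x u ∈ W →
        ∃ O : U.left.Opens, u ∈ O ∧ Smooth (O.ι ≫ h.left) := by
  obtain ⟨O, hO, hOmax⟩ := exists_largest_open_smooth h.left
  have hfU : FibCat.IsFibGrpd (FibCat.overCat U).p := StkFpCrit.isFibGrpd_overForget U
  have hfO : FibCat.IsFibGrpd (FibCat.overCat (resV O)).p := StkFpCrit.isFibGrpd_overForget _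
  have hopen : IsOpenMap (Points.ofChart x) := isOpenMap_ofChart h𝒳 x
    (repByAlgSpWith_locP_mono AlgStDiagLft.smooth_le_flat x hx)
    (repByAlgSpWith_locP_mono AlgStDiagLft.smooth_le_lfp x hx)
  have hW : IsOpen (Points.ofChart x '' (O : Set ↥U.left)) := hopen _ O.2
  have hmax : ∀ (W' : Set (Points 𝒳)) (hW' : IsOpen W'),
      AlgSt.LocQ (AlgSp.LocP @Smooth) (BasedFunctor.comp (AlgSt.subIncl 𝒳 (QW W')) f) →
        chartOpen h𝒳 hW' x ≤ O := fun W' hW' H =>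
    hOmax _ (smooth_chartOpen_of_locQ h𝒳 h𝒴 f hW' H x y h α hy hℓ)
  have H : AlgSt.LocQ (AlgSp.LocP @Smooth)
      (BasedFunctor.comp (AlgSt.subIncl 𝒳 (QW (Points.ofChart x '' (O : Set ↥U.left)))) f) := by
    -- the restricted square
    let xO : FibCat.overCat (resV O) ⥤ᵇ 𝒳 := BasedFunctor.comp (AlgSt.overMap (resι O)) x
    have hxO : AlgSt.RepByAlgSpWith (AlgSp.LocP @Smooth) xO :=
      repByAlgSpWith_comp hfO hfU h𝒳.isStack.1 _ good_smooth.nice stableComp_smooth _ _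
        (smooth_overMap_resι O) hx
    let αO : BasedFunctor.comp xO f ≅ BasedFunctor.comp (AlgSt.overMap (resι O ≫ h)) y :=
      (whiskerLeftIso (AlgSt.overMap (resι O)) α).trans
        (whiskerRightIso (overMapComp (resι O) h).symm y)
    refine locQ_of_smooth_chartOpen h𝒳 f hW xO y (resι O ≫ h) αO hxO hy ?_ ?_
    · rintro _ ⟨u, hu, rfl⟩
      refine ⟨(⟨u, hu⟩ : ↥O), ?_⟩
      exact ofChart_overMap (resι O) x _
    · have h1 : Smooth (O.ι ≫ h.left) := hO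
      have h2 : (chartOpen h𝒳 hW xO).ι ≫ (resι O ≫ h).left =
          (chartOpen h𝒳 hW xO).ι ≫ O.ι ≫ h.left := rfl
      rw [h2]
      infer_instance
  refine ⟨Points.ofChart x '' (O : Set ↥U.left), hW, H, ?_, ?_⟩
  · intro W' hW' H' w hw
    obtain ⟨u, rfl⟩ := surjective_ofChart h𝒳 x hx' w
    exact ⟨u, hmax W' hW' H' hw, rfl⟩
  · rintro u ⟨u', hu', he⟩
    exact ⟨O, hmax _ hW H ⟨u', hu', he⟩, hO⟩

end Main

end Groth.Agent.Lib.Helper24.SmLocus1
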