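import Groth.Agent.Lib.Helper24.SmLocus1
import Groth.Agent.Lib.Helper24.AlgStLocQ11
set_option autoImplicit false
open CategoryTheory AlgebraicGeometry Opposite
universe w₁ v₁ w₂ v₂ w₃ v₃ w₄ v₄ u
set_option backward.isDefEq.respectTransparency false
set_option backward.isDefEq.respectTransparency.types false

/-! The smooth locus of a morphism of algebraic stacks and smooth precomposition. -/

namespace Groth.Agent.Lib.Helper24.SmLocus2
open Groth.Agent.Lib.Helper24.SmLocus1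
open Groth.Agent.Lib.Helper24.FibCatFpMap
open Groth.Agent.Lib.Helper24.FibCatEquiv Groth.Agent.Lib.Helper24.FibCatFpGen
open Groth.Agent.Lib.Helper24.AlgStRep
open Groth.Agent.Lib.Helper24.AlgStBridge Groth.Agent.Lib.Helper24.AlgStBoot
open Groth.Agent.Lib.Helper24.AlgStRepS
open Groth.Agent.Lib.Helper24.AlgStSchLocal
open Groth.Agent.Lib.Helper24.AlgStGC
open Groth.Agent.Lib.Helper24.AlgStProps Groth.Agent.Lib.Helper24.AlgStSmooth
open Groth.Agent.Lib.Helper24.AlgStFpAlg Groth.Agent.Lib.Helper24.AlgStSmLoc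
open Groth.Agent.Lib.Helper24.AlgStEqv Groth.Agent.Lib.Helper24.PshBridge
open Groth.Agent.Lib.Helper24.AlgStLocQ1 Groth.Agent.Lib.Helper24.FibCatFpMapL
open Groth.Agent.Lib.Helper24.AlgStLocQ2 Groth.Agent.Lib.Helper24.FibCatFpLiftIso
open Groth.Agent.Lib.Helper24.AlgStLocQ3 Groth.Agent.Lib.Helper24.AlgStProdAlg
open Groth.Agent.Lib.Helper24.AlgStLocQ4 Groth.Agent.Lib.Helper24.AlgStLocQ5
open Groth.Agent.Lib.Helper24.AlgStLocQ6 Groth.Agent.Lib.Helper24.AlgStLocQ7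
open Groth.Agent.Lib.Helper24.AlgStLocQ8 Groth.Agent.Lib.Helper24.AlgStLocQ9
open Groth.Agent.Lib.Helper24.AlgStLocQ10 Groth.Agent.Lib.Helper24.AlgStLocQ12
open Groth.Agent.Lib.Helper24.AlgStLocQ13
open Groth.Agent.Lib.Helper24.AlgStCalc Groth.Agent.Lib.Helper24.AlgStDiag
open Groth.Agent.Lib.Helper24.AlgStCalc2 Groth.Agent.Lib.Helper24.AlgStDescent
open Groth.Agent.Lib.Helper24.FibCatOverMap Groth.Agent.Lib.Helper24.AlgStAtlas
open Groth.Agent.Lib.Helper24.FibCatGraph Groth.Agent.Lib.Helper24.AlgStDiagLft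
open Groth.Agent.Lib.Helper24.FibCatFpSwap Groth.Agent.Lib.Helper24.AlgStProd
open Groth.Agent.Lib.Helper24.AlgSpSmLocal
open Groth.Agent.Lib.Helper24.AlgStPts1 Groth.Agent.Lib.Helper24.AlgStPts3
open Groth.Agent.Lib.Helper24.AlgStPts4 Groth.Agent.Lib.Helper24.AlgStPts6
open Groth.Agent.Lib.Helper24.AlgStPts5 Groth.Agent.Lib.Helper24.AlgStPts7
open Groth.Agent.Lib.Helper24.AlgStOpenSub2 Groth.Agent.Lib.Helper24.AlgStOpenSub3
open Groth.Agent.Lib.Helper24.AlgStOpenSub5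
open Groth.Agent.Lib.Helper26.StackPoints
open CategoryTheory.Limits AlgSt


variable {S : Scheme.{u}}

/-- inverse images of the open substacks attached to sets of points -/
theorem qW_preimage_iff {𝒳' 𝒳 : AlgSt.Cat S} (h𝒳' : FibCat.IsFibGrpd 𝒳'.p)
    (h𝒳 : FibCat.IsFibGrpd 𝒳.p) (g : 𝒳' ⥤ᵇ 𝒳) (W : Set (Points 𝒳)) (a : 𝒳'.obj) :
    QW W (g.obj a) ↔ QW (Points.map g ⁻¹' W) a := by
  constructor
  · rintro H p' ⟨m⟩
    exact H (p'.map g) ⟨g.map m⟩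
  · rintro H p ⟨m⟩
    have : FibCat.IsFibGrpd 𝒳.p := h𝒳
    let t : (Over.mk p.str : Over S) ⟶ 𝒳'.p.obj a :=
      eqToHom p.lies.symm ≫ 𝒳.p.map m ≫ eqToHom (g.w_obj a)
    have hm : 𝒳.p.IsHomLift t m := IsHomLift.of_fac _ _ _ p.lies (g.w_obj a) rfl
    obtain ⟨a', φ, hφ⟩ := h𝒳'.exists_lift (x := a) t
    have ha' : 𝒳'.p.obj a' = Over.mk p.str := IsHomLift.domain_eq 𝒳'.p t φ
    have hcφ : 𝒳.p.IsHomLift t (g.map φ) := inferInstance
    have hc := isStronglyCartesian_of_isHomLift 𝒳.p t (g.map φ)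
    let χ : p.obj ⟶ g.obj a' :=
      Functor.IsStronglyCartesian.map 𝒳.p t (g.map φ) (g := 𝟙 _) (f' := t) (by simp) m
    have h1 : Points.mk p = Points.map g (Points.mk ⟨p.K, p.str, a', ha'⟩) :=
      Points.sound ⟨p, 𝟙 _, χ, trivial⟩
    rw [h1]
    exact H ⟨p.K, p.str, a', ha'⟩ ⟨φ⟩

theorem locQ_mono {𝒳 𝒴 : AlgSt.Cat S} {P P' : MorphismProperty (AlgSp.Sp S)}
    (hPP' : ∀ {U V : Over S} (h : U ⟶ V), P ((AlgSp.yon S).map h) → P' ((AlgSp.yon S).map h))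
    {f : 𝒳 ⥤ᵇ 𝒴} (H : AlgSt.LocQ P f) : AlgSt.LocQ P' f := by
  obtain ⟨U, V, x, y, h, α, hx, hx', hy, hP⟩ := H
  exact ⟨U, V, x, y, h, α, hx, hx', hy, hPP' h hP⟩

section Comp
variable {𝒳 𝒴 𝒵 : AlgSt.Cat S} (h𝒳 : AlgSt.IsAlgStack Scheme.fppfPrecoverage 𝒳)
  (h𝒴 : AlgSt.IsAlgStack Scheme.fppfPrecoverage 𝒴)
  (h𝒵 : AlgSt.IsAlgStack Scheme.fppfPrecoverage 𝒵) (f : 𝒳 ⥤ᵇ 𝒴) (g : 𝒴 ⥤ᵇ 𝒵)

include h𝒳 h𝒴 h𝒵 in
/-- two compatible good chart squares compose to a good chart square -/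
theorem exists_comp_square {U V W : Over S}
    (x : FibCat.overCat U ⥤ᵇ 𝒳) (y : FibCat.overCat V ⥤ᵇ 𝒴) (z : FibCat.overCat W ⥤ᵇ 𝒵)
    (h : U ⟶ V) (k : V ⟶ W)
    (α : BasedFunctor.comp x f ≅ BasedFunctor.comp (AlgSt.overMap h) y)
    (β : BasedFunctor.comp y g ≅ BasedFunctor.comp (AlgSt.overMap k) z)
    (hℓf : AlgSt.RepByAlgSpWith (AlgSp.LocP @Smooth) (FibCat.fpLift x (AlgSt.overMap h) α))
    (hℓg : AlgSt.RepByAlgSpWith (AlgSp.LocP @Smooth) (FibCat.fpLift y (AlgSt.overMap k) β)) :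
    ∃ γ : BasedFunctor.comp x (BasedFunctor.comp f g) ≅ BasedFunctor.comp (AlgSt.overMap (h ≫ k)) z,
      AlgSt.RepByAlgSpWith (AlgSp.LocP @Smooth) (FibCat.fpLift x (AlgSt.overMap (h ≫ k)) γ) := by
  have hfU : FibCat.IsFibGrpd (FibCat.overCat U).p := StkFpCrit.isFibGrpd_overForget U
  have hfV : FibCat.IsFibGrpd (FibCat.overCat V).p := StkFpCrit.isFibGrpd_overForget V
  have hfW : FibCat.IsFibGrpd (FibCat.overCat W).p := StkFpCrit.isFibGrpd_overForget W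
  have hf𝒳 := h𝒳.isStack.1
  have hf𝒴 := h𝒴.isStack.1
  have hf𝒵 := h𝒵.isStack.1
  let ℓf := FibCat.fpLift x (AlgSt.overMap h) α
  let ℓg := FibCat.fpLift y (AlgSt.overMap k) β
  let m : FibCat.fp f y ⥤ᵇ FibCat.fp f (FibCat.fpFst g z) := mapR ℓg (FibCat.fpFst g z) f
  have hm : AlgSt.RepByAlgSpWith (AlgSp.LocP @Smooth) m :=
    repByAlgSpWith_mapR _ ℓg (FibCat.fpFst g z) f hℓg
  let Pz := Groth.Agent.Lib.Helper24.FibCatFpPaste.P z g f
  have hPz : FibCat.IsEquivOver Pz := Groth.Agent.Lib.Helper24.FibCatFpPaste.isEquivOver_P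
  let c : FibCat.overCat U ⥤ᵇ FibCat.fp (BasedFunctor.comp f g) z :=
    BasedFunctor.comp ℓf (BasedFunctor.comp m Pz)
  have hc : AlgSt.RepByAlgSpWith (AlgSp.LocP @Smooth) c :=
    repByAlgSpWith_comp hfU (isFibGrpd_fp _ _ hf𝒳 hfV hf𝒴)
      (isFibGrpd_fp _ _ hf𝒳 hfW hf𝒵) _ good_smooth.nice stableComp_smooth _ _ hℓf
      (repByAlgSpWith_comp_equiv _ m Pz hPz hm)
  let i : BasedFunctor.comp c (FibCat.fpSnd (BasedFunctor.comp f g) z) ≅ AlgSt.overMap (h ≫ k) :=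
    (overMapComp h k).symm
  exact ⟨liftE c _ i, repByAlgSpWith_of_iso _ (liftIso c _ i).symm hc⟩

end Comp

section Precomp
variable {𝒳' 𝒳 𝒴 : AlgSt.Cat S} (h𝒳' : AlgSt.IsAlgStack Scheme.fppfPrecoverage 𝒳')
  (h𝒳 : AlgSt.IsAlgStack Scheme.fppfPrecoverage 𝒳)
  (h𝒴 : AlgSt.IsAlgStack Scheme.fppfPrecoverage 𝒴) (g : 𝒳' ⥤ᵇ 𝒳) (f : 𝒳 ⥤ᵇ 𝒴)

include h𝒳' h𝒳 h𝒴 in
/-- formation of the largest open on which `f` is smooth commutes with smooth precomposition,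
in terms of sets of points -/
theorem precomp_core (hg : AlgSt.LocQ (AlgSp.LocP @Smooth) g) {W : Set (Points 𝒳)} (hW : IsOpen W)
    (H : AlgSt.LocQ (AlgSp.LocP @Smooth) (BasedFunctor.comp (AlgSt.subIncl 𝒳 (QW W)) f))
    (Hmax : ∀ W₁ : Set (Points 𝒳), IsOpen W₁ →
      AlgSt.LocQ (AlgSp.LocP @Smooth) (BasedFunctor.comp (AlgSt.subIncl 𝒳 (QW W₁)) f) → W₁ ⊆ W) :
    AlgSt.LocQ (AlgSp.LocP @Smooth) (BasedFunctor.comp (AlgSt.subIncl 𝒳' (QW (Points.map g ⁻¹' W)))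
        (BasedFunctor.comp g f)) ∧
      ∀ W'' : Set (Points 𝒳'), IsOpen W'' →
        AlgSt.LocQ (AlgSp.LocP @Smooth) (BasedFunctor.comp (AlgSt.subIncl 𝒳' (QW W''))
          (BasedFunctor.comp g f)) → W'' ⊆ Points.map g ⁻¹' W := by
  obtain ⟨U', U, V, x', x, y, k, h, β, α, ⟨hx'1, hx'2⟩, ⟨hx1, hx2⟩, ⟨hy1, hy2⟩, ⟨hℓg, -⟩, ⟨hℓf, -⟩⟩ :=
    exists_two_squares h𝒳' h𝒳 h𝒴 g f
  have hW' : IsOpen (Points.map g ⁻¹' W) := hW.preimage (continuous_map h𝒳 g)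
  have hfU : FibCat.IsFibGrpd (FibCat.overCat U).p := StkFpCrit.isFibGrpd_overForget U
  have hk : Smooth k.left := AlgSp.locP_yon_map
    ((locQ_iff_forall h𝒳' h𝒳 g isSmoothLocalST_smooth).1 hg U' U x' x k β hx'1 hx1 hℓg)
  have hpt : ∀ t : ↥U'.left, Points.ofChart x (k.left t) = Points.map g (Points.ofChart x' t) := by
    intro t
    rw [← ofChart_overMap, ← ofChart_comp]
    exact congrFun (ofChart_congr β.symm) t
  obtain ⟨γ, hℓγ⟩ := exists_comp_square h𝒳' h𝒳 h𝒴 g f x' x y k h β α hℓg hℓf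
  constructor
  · have hO := smooth_chartOpen_of_locQ h𝒳 h𝒴 f hW H x y h α hy1 hℓf
    refine locQ_of_smooth_chartOpen h𝒳' (BasedFunctor.comp g f) hW' x' y (k ≫ h) γ hx'1 hy1 ?_ ?_
    · intro w _
      exact SmLocus1.surjective_ofChart h𝒳' x' hx'2 w
    · have hr : Set.range ((chartOpen h𝒳' hW' x').ι ≫ k.left) ⊆
          Set.range (chartOpen h𝒳 hW x).ι := by
        rw [Scheme.Opens.range_ι]
        rintro _ ⟨t, rfl⟩
        change Points.ofChart x (k.left ((chartOpen h𝒳' hW' x').ι t)) ∈ W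
        rw [hpt]
        have : (chartOpen h𝒳' hW' x').ι t ∈ Set.range (chartOpen h𝒳' hW' x').ι := ⟨t, rfl⟩
        rw [Scheme.Opens.range_ι] at this
        exact this
      let l := IsOpenImmersion.lift (chartOpen h𝒳 hW x).ι ((chartOpen h𝒳' hW' x').ι ≫ k.left) hr
      have hl : l ≫ (chartOpen h𝒳 hW x).ι = (chartOpen h𝒳' hW' x').ι ≫ k.left :=
        IsOpenImmersion.lift_fac _ _ hr
      have hlsm : Smooth l := by
        have h0 : Smooth (l ≫ (chartOpen h𝒳 hW x).ι) := by rw [hl]; infer_instance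
        exact MorphismProperty.of_postcomp (W := @Smooth) (W' := @IsOpenImmersion) l
          (chartOpen h𝒳 hW x).ι inferInstance h0
      have e : (chartOpen h𝒳' hW' x').ι ≫ (k ≫ h).left =
          l ≫ (chartOpen h𝒳 hW x).ι ≫ h.left := by
        rw [Over.comp_left, ← Category.assoc, ← hl, Category.assoc]
      rw [e]
      infer_instance
  · intro W'' hW'' H''
    have hO'' := smooth_chartOpen_of_locQ h𝒳' h𝒴 (BasedFunctor.comp g f) hW'' H'' x' y (k ≫ h) γ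
      hy1 hℓγ
    have hgopen : IsOpenMap (Points.map g) := Groth.Agent.Lib.Helper24.AlgStLocQ11.isOpenMor_of_locQ_flat_lfp h𝒳' h𝒳 g
      (locQ_mono (fun _ hh => AlgStDiagLft.locP_mono AlgStDiagLft.smooth_le_flat _ hh) hg)
      (locQ_mono (fun _ hh => AlgStDiagLft.locP_mono AlgStDiagLft.smooth_le_lfp _ hh) hg)
    have hW₁ : IsOpen (Points.map g '' W'') := hgopen _ hW''
    suffices hsuff : AlgSt.LocQ (AlgSp.LocP @Smooth)
        (BasedFunctor.comp (AlgSt.subIncl 𝒳 (QW (Points.map g '' W''))) f) by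
      have := Hmax _ hW₁ hsuff
      intro w hw
      exact this ⟨w, hw, rfl⟩
    let j : resV (chartOpen h𝒳' hW'' x') ⟶ U := resι (chartOpen h𝒳' hW'' x') ≫ k
    have hfO : FibCat.IsFibGrpd (FibCat.overCat (resV (chartOpen h𝒳' hW'' x'))).p :=
      StkFpCrit.isFibGrpd_overForget _
    have hj : Smooth j.left := by
      have : j.left = (chartOpen h𝒳' hW'' x').ι ≫ k.left := rfl
      rw [this]
      infer_instance
    have hjsm : AlgSt.RepByAlgSpWith (AlgSp.LocP @Smooth) (AlgSt.overMap j) :=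
      (repByAlgSpWith_overMap_iff _ good_smooth j).2
        (locP_yon_map_of Groth.Agent.Lib.Helper14.AS.etLocal_smooth hj)
    let x₁ : FibCat.overCat (resV (chartOpen h𝒳' hW'' x')) ⥤ᵇ 𝒳 :=
      BasedFunctor.comp (AlgSt.overMap j) x
    have hx₁ : AlgSt.RepByAlgSpWith (AlgSp.LocP @Smooth) x₁ :=
      repByAlgSpWith_comp hfO hfU h𝒳.isStack.1 _ good_smooth.nice stableComp_smooth _ _ hjsm hx1
    let α₁ : BasedFunctor.comp x₁ f ≅ BasedFunctor.comp (AlgSt.overMap (j ≫ h)) y :=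
      (whiskerLeftIso (AlgSt.overMap j) α).trans (whiskerRightIso (overMapComp j h).symm y)
    refine locQ_of_smooth_chartOpen h𝒳 f hW₁ x₁ y (j ≫ h) α₁ hx₁ hy1 ?_ ?_
    · rintro _ ⟨w'', hw'', rfl⟩
      obtain ⟨t, rfl⟩ := SmLocus1.surjective_ofChart h𝒳' x' hx'2 w''
      refine ⟨(⟨t, hw''⟩ : ↥(chartOpen h𝒳' hW'' x')), ?_⟩
      rw [ofChart_overMap]
      exact hpt t
    · have e : (chartOpen h𝒳 hW₁ x₁).ι ≫ (j ≫ h).left =
          (chartOpen h𝒳 hW₁ x₁).ι ≫ ((chartOpen h𝒳' hW'' x').ι ≫ (k ≫ h).left) := rfl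
      rw [e]
      infer_instance

end Precomp

end Groth.Agent.Lib.Helper24.SmLocus2
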