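import Groth.Agent.Lib.Helper24.SmLocus2
import Groth.Agent.Lib.Helper14.FppfDesc3
import Groth.Agent.S2155
set_option autoImplicit false
open CategoryTheory AlgebraicGeometry Opposite
universe w₁ v₁ w₂ v₂ w₃ v₃ w₄ v₄ u
set_option backward.isDefEq.respectTransparency false
set_option backward.isDefEq.respectTransparency.types false

/-! The smooth locus of a morphism of algebraic stacks and flat base change. -/

namespace Groth.Agent.Lib.Helper24.SmLocus3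
open Groth.Agent.Lib.Helper24.SmLocus1 Groth.Agent.Lib.Helper24.SmLocus2
open Groth.Agent.Lib.Helper24.FibCatFpMap
open Groth.Agent.Lib.Helper24.FibCatEquiv Groth.Agent.Lib.Helper24.FibCatFpGen
open Groth.Agent.Lib.Helper24.AlgStRep
open Groth.Agent.Lib.Helper24.AlgStBridge Groth.Agent.Lib.Helper24.AlgStBoot
open Groth.Agent.Lib.Helper24.AlgStRepS
open Groth.Agent.Lib.Helper24.AlgStSchLocal
open Groth.Agent.Lib.Helper24.AlgStGC
open Groth.Agent.Lib.Helper24.AlgStProps Groth.Agent.Lib.Helper24.AlgStSmooth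
open Groth.Agent.Lib.Helper24.AlgStFpAlg Groth.Agent.Lib.Helper24.AlgStSmLoc
open Groth.Agent.Lib.Helper24.AlgStEqv Groth.Agent.Lib.Helper24.PshBridge
open Groth.Agent.Lib.Helper24.AlgStLocQ1 Groth.Agent.Lib.Helper24.FibCatFpMapL
open Groth.Agent.Lib.Helper24.AlgStLocQ2 Groth.Agent.Lib.Helper24.FibCatFpLiftIso
open Groth.Agent.Lib.Helper24.AlgStLocQ3 Groth.Agent.Lib.Helper24.AlgStProdAlg
open Groth.Agent.Lib.Helper24.AlgStLocQ4 Groth.Agent.Lib.Helper24.AlgStLocQ5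
open Groth.Agent.Lib.Helper24.AlgStLocQ6 Groth.Agent.Lib.Helper24.AlgStLocQ7
open Groth.Agent.Lib.Helper24.AlgStLocQ8 Groth.Agent.Lib.Helper24.AlgStLocQ9
open Groth.Agent.Lib.Helper24.AlgStLocQ10 Groth.Agent.Lib.Helper24.AlgStLocQ12
open Groth.Agent.Lib.Helper24.AlgStLocQ13
open Groth.Agent.Lib.Helper24.AlgStCalc Groth.Agent.Lib.Helper24.AlgStDiag
open Groth.Agent.Lib.Helper24.AlgStCalc2 Groth.Agent.Lib.Helper24.AlgStDescent
open Groth.Agent.Lib.Helper24.FibCatOverMap Groth.Agent.Lib.Helper24.AlgStAtlas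
open Groth.Agent.Lib.Helper24.FibCatGraph Groth.Agent.Lib.Helper24.AlgStDiagLft
open Groth.Agent.Lib.Helper24.FibCatFpSwap Groth.Agent.Lib.Helper24.AlgStProd
open Groth.Agent.Lib.Helper24.AlgSpSmLocal
open Groth.Agent.Lib.Helper24.AlgStPts1 Groth.Agent.Lib.Helper24.AlgStPts3
open Groth.Agent.Lib.Helper24.AlgStPts4 Groth.Agent.Lib.Helper24.AlgStPts6
open Groth.Agent.Lib.Helper24.AlgStPts5 Groth.Agent.Lib.Helper24.AlgStPts7
open Groth.Agent.Lib.Helper24.AlgStOpenSub2 Groth.Agent.Lib.Helper24.AlgStOpenSub3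
open Groth.Agent.Lib.Helper24.AlgStOpenSub5
open Groth.Agent.Lib.Helper24.FibCatTwoCart
open Groth.Agent.Lib.Helper24.FibCatDiag (mkIso)
open Groth.Agent.Lib.Helper26.StackPoints
open CategoryTheory.Limits AlgSt



theorem smooth_of_le {X Y : Scheme.{u}} (p : X ⟶ Y) {O₁ O₂ : X.Opens} (hle : O₂ ≤ O₁)
    (h : Smooth (O₁.ι ≫ p)) : Smooth (O₂.ι ≫ p) := by
  rw [← X.homOfLE_ι hle, Category.assoc]
  infer_instance

section Sch
variable {T U V' V : Scheme.{u}} (p1 : T ⟶ V') (p2 : T ⟶ U) (k : V' ⟶ V) (h : U ⟶ V)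

theorem isPullback_restrict (sq : IsPullback p1 p2 k h) (O : U.Opens) :
    IsPullback (p2 ∣_ O) ((p2 ⁻¹ᵁ O).ι ≫ p1) (O.ι ≫ h) k :=
  (isPullback_morphismRestrict p2 O).paste_vert sq.flip

theorem smooth_preimage (sq : IsPullback p1 p2 k h) (O : U.Opens) (hO : Smooth (O.ι ≫ h)) :
    Smooth ((p2 ⁻¹ᵁ O).ι ≫ p1) :=
  MorphismProperty.of_isPullback (P := @Smooth) (isPullback_restrict p1 p2 k h sq O) hO

theorem mem_smoothLocus_of_lfp (sq : IsPullback p1 p2 k h) [Flat k]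
    [LocallyOfFinitePresentation h]
    (O'' : T.Opens) (hsm : Smooth (O''.ι ≫ p1)) (τ : T) (hτ : τ ∈ O'') :
    p2 τ ∈ h.smoothLocus := by
  have : LocallyOfFinitePresentation p1 :=
    MorphismProperty.of_isPullback (P := @LocallyOfFinitePresentation) sq.flip inferInstance
  have e := Groth.Agent.S2155.result h k p1 p2 sq.flip (Or.inr inferInstance)
  have h1 : (O''.ι ≫ p1).smoothLocus = ⊤ := Scheme.Hom.smoothLocus_eq_top _
  rw [← Scheme.Hom.preimage_smoothLocus_eq] at h1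
  have h2 : τ ∈ p1.smoothLocus := by
    have : (⟨τ, hτ⟩ : ↥O'') ∈ O''.ι ⁻¹ᵁ p1.smoothLocus := by rw [h1]; trivial
    exact this
  rw [e] at h2
  exact h2

theorem smooth_smoothLocus [LocallyOfFinitePresentation h] : Smooth (h.smoothLocus.ι ≫ h) := by
  rw [← Scheme.Hom.smoothLocus_eq_top_iff, ← Scheme.Hom.preimage_smoothLocus_eq]
  exact Scheme.Opens.ι_preimage_self _

theorem smooth_near_of_lfp (sq : IsPullback p1 p2 k h) [Flat k] [LocallyOfFinitePresentation h]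
    (O'' : T.Opens) (hsm : Smooth (O''.ι ≫ p1)) (τ : T) (hτ : τ ∈ O'') :
    ∃ O : U.Opens, p2 τ ∈ O ∧ Smooth (O.ι ≫ h) :=
  ⟨h.smoothLocus, mem_smoothLocus_of_lfp p1 p2 k h sq O'' hsm τ hτ, smooth_smoothLocus h⟩

theorem smooth_near_of_lfp' (sq : IsPullback p1 p2 k h) [Flat k] [LocallyOfFinitePresentation k]
    (O'' : T.Opens) (hsm : Smooth (O''.ι ≫ p1)) (τ : T) (hτ : τ ∈ O'') :
    ∃ O : U.Opens, p2 τ ∈ O ∧ Smooth (O.ι ≫ h) := by
  have hp2f : Flat p2 := MorphismProperty.of_isPullback (P := @Flat) sq inferInstance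
  have hp2p : LocallyOfFinitePresentation p2 :=
    MorphismProperty.of_isPullback (P := @LocallyOfFinitePresentation) sq inferInstance
  let O : U.Opens := ⟨p2 '' (O'' : Set T), p2.isOpenMap _ O''.2⟩
  have hle : O'' ≤ p2 ⁻¹ᵁ O := fun t ht => ⟨t, ht, rfl⟩
  have hmemO : ∀ z : ↥O.toScheme, ∃ t : T, t ∈ O'' ∧ p2 t = O.ι z := by
    intro z
    have hz : O.ι z ∈ O := by
      have : O.ι z ∈ Set.range O.ι := ⟨z, rfl⟩
      rwa [Scheme.Opens.range_ι] at this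
    exact hz
  let q : O''.toScheme ⟶ O.toScheme := T.homOfLE hle ≫ (p2 ∣_ O)
  have hq : q ≫ O.ι = O''.ι ≫ p2 := by
    simp only [q, Category.assoc, morphismRestrict_ι]
    rw [← Category.assoc, Scheme.homOfLE_ι]
  have hlfp : LocallyOfFinitePresentation (O.ι ≫ h) := by
    apply Groth.Agent.Lib.Helper14.AS.lfp_of_forall_exists_fppf
    intro z
    obtain ⟨t, ht, htz⟩ := hmemO z
    refine ⟨O''.toScheme, q, inferInstance, inferInstance, ?_, ⟨⟨t, ht⟩, ?_⟩⟩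
    · have e : q ≫ O.ι ≫ h = (O''.ι ≫ p1) ≫ k := by
        rw [← Category.assoc, hq, Category.assoc, ← sq.w, Category.assoc]
      rw [e]
      infer_instance
    · apply O.ι.injective
      rw [← htz]
      exact congrArg (fun φ : O''.toScheme ⟶ U => φ ⟨t, ht⟩) hq
  have sq' := (isPullback_restrict p1 p2 k h sq O).flip
  let O''' : (p2 ⁻¹ᵁ O).toScheme.Opens := (p2 ⁻¹ᵁ O).ι ⁻¹ᵁ O''
  have hsm' : Smooth (O'''.ι ≫ (p2 ⁻¹ᵁ O).ι ≫ p1) := by
    have hr : Set.range (O'''.ι ≫ (p2 ⁻¹ᵁ O).ι) ⊆ Set.range O''.ι := by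
      rw [Scheme.Opens.range_ι]
      rintro _ ⟨t, rfl⟩
      have : O'''.ι t ∈ Set.range O'''.ι := ⟨t, rfl⟩
      rw [Scheme.Opens.range_ι] at this
      exact this
    let l := IsOpenImmersion.lift O''.ι (O'''.ι ≫ (p2 ⁻¹ᵁ O).ι) hr
    have hl : l ≫ O''.ι = O'''.ι ≫ (p2 ⁻¹ᵁ O).ι := IsOpenImmersion.lift_fac _ _ hr
    have hli : IsOpenImmersion l := by
      have : IsOpenImmersion (l ≫ O''.ι) := by rw [hl]; infer_instance
      exact IsOpenImmersion.of_comp l O''.ι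
    have e : O'''.ι ≫ (p2 ⁻¹ᵁ O).ι ≫ p1 = l ≫ O''.ι ≫ p1 := by
      rw [← Category.assoc, ← hl, Category.assoc]
    rw [e]
    infer_instance
  have hsmO : Smooth (O.ι ≫ h) := by
    rw [← Scheme.Hom.smoothLocus_eq_top_iff, eq_top_iff]
    intro z _
    obtain ⟨t, ht, htz⟩ := hmemO z
    have ht' : t ∈ p2 ⁻¹ᵁ O := hle ht
    have h3 := mem_smoothLocus_of_lfp _ _ _ _ sq' O''' hsm' (⟨t, ht'⟩ : ↥(p2 ⁻¹ᵁ O)) ht
    have h4 : (p2 ∣_ O) ⟨t, ht'⟩ = z := by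
      apply O.ι.injective
      rw [← htz]
      exact congrArg (fun φ : (p2 ⁻¹ᵁ O).toScheme ⟶ U => φ ⟨t, ht'⟩) (morphismRestrict_ι p2 O)
    rw [h4] at h3
    exact h3
  exact ⟨O, ⟨τ, hτ, rfl⟩, hsmO⟩

theorem smooth_near (sq : IsPullback p1 p2 k h) [Flat k]
    (hfp : LocallyOfFinitePresentation k ∨ LocallyOfFinitePresentation h)
    (O'' : T.Opens) (hsm : Smooth (O''.ι ≫ p1)) (τ : T) (hτ : τ ∈ O'') :
    ∃ O : U.Opens, p2 τ ∈ O ∧ Smooth (O.ι ≫ h) := by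
  rcases hfp with hk | hh
  · exact smooth_near_of_lfp' p1 p2 k h sq O'' hsm τ hτ
  · exact smooth_near_of_lfp p1 p2 k h sq O'' hsm τ hτ

end Sch

variable {S : Scheme.{u}}

section PbK
variable {T U V V' : Over S} (p1 : T ⟶ V') (p2 : T ⟶ U) (k : V' ⟶ V) (h : U ⟶ V)
  (w : p1 ≫ k = p2 ≫ h)

/-- the 2-isomorphism of a commutative square of schemes over `S` -/
def pbIso : BasedFunctor.comp (AlgSt.overMap p1) (AlgSt.overMap k) ≅
    BasedFunctor.comp (AlgSt.overMap p2) (AlgSt.overMap h) :=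
  BasedNatIso.mkNatIso (NatIso.ofComponents (fun a => Over.isoMk (Iso.refl _) (by
      change 𝟙 _ ≫ ((a.hom ≫ p2) ≫ h) = (a.hom ≫ p1) ≫ k
      rw [Category.id_comp, Category.assoc, Category.assoc, w])) (by
    intro a b m
    apply Over.OverMorphism.ext
    change m.left ≫ 𝟙 _ = 𝟙 _ ≫ m.left
    simp)) (fun a => by
    apply IsHomLift.of_fac _ _ _ rfl rfl
    apply Over.OverMorphism.ext
    simp only [eqToHom_refl, Category.comp_id, Category.id_comp]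
    rfl)

/-- the comparison functor of a commutative square of schemes over `S` -/
def pbK : FibCat.overCat T ⥤ᵇ FibCat.fp (AlgSt.overMap k) (AlgSt.overMap h) :=
  FibCat.fpLift (AlgSt.overMap p1) (AlgSt.overMap p2) (pbIso p1 p2 k h w)

theorem isEquivOver_pbK (sq : IsPullback p1.left p2.left k.left h.left) :
    FibCat.IsEquivOver (pbK p1 p2 k h w) := by
  apply isEquivOver_fpLift_of
  · intro a a' m m' hm _
    apply Over.OverMorphism.ext
    exact congrArg (fun t => t.left) hm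
  · intro a a' u v huv
    have huv' : u.left ≫ 𝟙 _ = 𝟙 _ ≫ v.left := congrArg (fun t => t.left) huv
    rw [Category.comp_id, Category.id_comp] at huv'
    have hu1 : u.left ≫ (a'.hom ≫ p1) = a.hom ≫ p1 := Over.w u
    have hv1 : v.left ≫ (a'.hom ≫ p2) = a.hom ≫ p2 := Over.w v
    have hu : u.left ≫ a'.hom = a.hom := by
      apply Over.OverMorphism.ext
      apply sq.hom_ext
      · have := congrArg (fun t => t.left) hu1
        simpa using this
      · rw [huv']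
        have := congrArg (fun t => t.left) hv1
        simpa using this
    refine ⟨Over.homMk u.left hu, ?_, ?_⟩
    · apply Over.OverMorphism.ext
      rfl
    · apply Over.OverMorphism.ext
      exact huv'
  · intro η
    let a : Over V' := η.obj.fst
    let b : Over U := η.obj.snd
    let ι : a.left ≅ b.left := (Over.forget V).mapIso η.obj.iso
    have hι : ι.hom ≫ (b.hom ≫ h) = a.hom ≫ k := Over.w η.obj.iso.hom
    let ℓ : a.left.left ⟶ T.left := sq.lift a.hom.left (ι.hom.left ≫ b.hom.left) (by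
      have := congrArg (fun t => t.left) hι
      simpa using this.symm)
    have hℓ1 : ℓ ≫ p1.left = a.hom.left := sq.lift_fst _ _ _
    have hℓ2 : ℓ ≫ p2.left = ι.hom.left ≫ b.hom.left := sq.lift_snd _ _ _
    let ℓS : a.left ⟶ T := Over.homMk ℓ (by
      have h1 : p1.left ≫ V'.hom = T.hom := Over.w p1
      have h2 : a.hom.left ≫ V'.hom = a.left.hom := Over.w a.hom
      rw [← h1, ← Category.assoc, hℓ1, h2])
    have hℓS1 : ℓS ≫ p1 = a.hom := by
      apply Over.OverMorphism.ext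
      exact hℓ1
    have hℓS2 : ℓS ≫ p2 = ι.hom ≫ b.hom := by
      apply Over.OverMorphism.ext
      exact hℓ2
    let τ : (FibCat.overCat T).obj := Over.mk ℓS
    let α : (AlgSt.overMap p1).obj τ ≅ a := Over.isoMk (Iso.refl a.left) (by
      change 𝟙 _ ≫ a.hom = ℓS ≫ p1
      rw [Category.id_comp, hℓS1])
    let β : (AlgSt.overMap p2).obj τ ≅ b := Over.isoMk ι (by
      change ι.hom ≫ b.hom = ℓS ≫ p2
      rw [hℓS2])
    refine ⟨τ, α, β, ?_, ?_⟩
    · exact IsHomLift.of_fac _ _ _ rfl rfl (by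
        change 𝟙 a.left = 𝟙 a.left ≫ 𝟙 a.left ≫ 𝟙 a.left
        simp)
    · apply Over.OverMorphism.ext
      change 𝟙 _ ≫ ι.hom = 𝟙 _ ≫ ι.hom
      rfl

end PbK

section UnP
variable {C : Type*} [Category C]
variable {𝒳 : BasedCategory.{v₁, w₁} C} {𝒴 : BasedCategory.{v₂, w₂} C}
  {𝒵 : BasedCategory.{v₃, w₃} C} {𝒲 : BasedCategory.{v₄, w₄} C} {𝒜 : BasedCategory.{v₄, w₄} C}
  (f : 𝒳 ⥤ᵇ 𝒴) (g : 𝒵 ⥤ᵇ 𝒴) (G : 𝒲 ⥤ᵇ 𝒵)
  (c : 𝒜 ⥤ᵇ FibCat.fp (BasedFunctor.comp G g) f)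

/-- the component in `𝒵 ×_𝒴 𝒳` of the inverse of the contraction -/
def unPinner : 𝒜 ⥤ᵇ FibCat.fp g f :=
  FibCat.fpLift (BasedFunctor.comp (BasedFunctor.comp c (FibCat.fpFst (BasedFunctor.comp G g) f)) G)
    (BasedFunctor.comp c (FibCat.fpSnd (BasedFunctor.comp G g) f))
    (whiskerLeftIso c (FibCat.fpIso (BasedFunctor.comp G g) f))

/-- a functor to `𝒲 ×_𝒴 𝒳` as a functor to `𝒲 ×_𝒵 (𝒵 ×_𝒴 𝒳)` -/
def unP : 𝒜 ⥤ᵇ FibCat.fp G (FibCat.fpFst g f) :=
  FibCat.fpLift (BasedFunctor.comp c (FibCat.fpFst (BasedFunctor.comp G g) f)) (unPinner f g G c)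
    (Iso.refl _)

/-- it is a section of the contraction -/
def unPIso : BasedFunctor.comp (unP f g G c) (Groth.Agent.Lib.Helper24.FibCatFpPaste.P f g G) ≅ c :=
  BasedNatIso.mkNatIso (NatIso.ofComponents (fun a => mkIso (F := BasedFunctor.comp G g) (G := f)
      (x := (BasedFunctor.comp (unP f g G c) (Groth.Agent.Lib.Helper24.FibCatFpPaste.P f g G)).toFunctor.obj a)
      (y := c.toFunctor.obj a) (Iso.refl _) (Iso.refl _) (by
        change (BasedFunctor.comp G g).toFunctor.map (𝟙 _) ≫ (c.toFunctor.obj a).obj.iso.hom =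
          (g.toFunctor.map (𝟙 _) ≫ (c.toFunctor.obj a).obj.iso.hom) ≫ f.toFunctor.map (𝟙 _)
        simp)) (by
    intro a a' m
    apply hom_ext'
    · change (c.toFunctor.map m).hom.fst ≫ 𝟙 _ = 𝟙 _ ≫ (c.toFunctor.map m).hom.fst
      simp
    · change (c.toFunctor.map m).hom.snd ≫ 𝟙 _ = 𝟙 _ ≫ (c.toFunctor.map m).hom.snd
      simp)) (by
    intro a
    rw [isHomLift_iff_fst]
    change 𝒲.p.IsHomLift (𝟙 (𝒜.p.obj a))
      (𝟙 ((BasedFunctor.comp c (FibCat.fpFst (BasedFunctor.comp G g) f)).toFunctor.obj a))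
    rw [← (BasedFunctor.comp c (FibCat.fpFst (BasedFunctor.comp G g) f)).w_obj a]
    infer_instance)

end UnP

section BCSquare
variable {𝒳 𝒴 𝒴' : AlgSt.Cat S} (h𝒳 : AlgSt.IsAlgStack Scheme.fppfPrecoverage 𝒳)
  (h𝒴 : AlgSt.IsAlgStack Scheme.fppfPrecoverage 𝒴)
  (h𝒴' : AlgSt.IsAlgStack Scheme.fppfPrecoverage 𝒴') (f : 𝒳 ⥤ᵇ 𝒴) (y : 𝒴' ⥤ᵇ 𝒴)

include h𝒳 h𝒴 h𝒴' in
/-- the base change of a good chart square of `f` along a good chart square of `y` is a good chart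
square of the base change of `f` -/
theorem exists_bc_square {T U V V' : Over S}
    (x : FibCat.overCat U ⥤ᵇ 𝒳) (yV : FibCat.overCat V ⥤ᵇ 𝒴) (y' : FibCat.overCat V' ⥤ᵇ 𝒴')
    (h : U ⟶ V) (k : V' ⟶ V)
    (α : BasedFunctor.comp x f ≅ BasedFunctor.comp (AlgSt.overMap h) yV)
    (β : BasedFunctor.comp y' y ≅ BasedFunctor.comp (AlgSt.overMap k) yV)
    (hy' : AlgSt.RepByAlgSpWith (AlgSp.LocP @Smooth) y')
    (hy's : AlgSt.RepByAlgSpWith AlgSp.IsSurjectiveMor y')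
    (hℓf : AlgSt.RepByAlgSpWith (AlgSp.LocP @Smooth) (FibCat.fpLift x (AlgSt.overMap h) α))
    (hℓf' : AlgSt.RepByAlgSpWith AlgSp.IsSurjectiveMor (FibCat.fpLift x (AlgSt.overMap h) α))
    (p1 : T ⟶ V') (p2 : T ⟶ U) (w : p1 ≫ k = p2 ≫ h)
    (sq : IsPullback p1.left p2.left k.left h.left) :
    ∃ (t' : FibCat.overCat T ⥤ᵇ FibCat.fp y f)
      (γ : BasedFunctor.comp t' (FibCat.fpFst y f) ≅ BasedFunctor.comp (AlgSt.overMap p1) y'),
      Nonempty (BasedFunctor.comp t' (FibCat.fpSnd y f) ≅ BasedFunctor.comp (AlgSt.overMap p2) x) ∧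
      AlgSt.RepByAlgSpWith (AlgSp.LocP @Smooth) t' ∧
      AlgSt.RepByAlgSpWith AlgSp.IsSurjectiveMor t' ∧
      AlgSt.RepByAlgSpWith (AlgSp.LocP @Smooth) (FibCat.fpLift t' (AlgSt.overMap p1) γ) := by
  have hfT : FibCat.IsFibGrpd (FibCat.overCat T).p := StkFpCrit.isFibGrpd_overForget T
  have hfU : FibCat.IsFibGrpd (FibCat.overCat U).p := StkFpCrit.isFibGrpd_overForget U
  have hfV : FibCat.IsFibGrpd (FibCat.overCat V).p := StkFpCrit.isFibGrpd_overForget V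
  have hfV' : FibCat.IsFibGrpd (FibCat.overCat V').p := StkFpCrit.isFibGrpd_overForget V'
  have hf𝒳 := h𝒳.isStack.1
  have hf𝒴 := h𝒴.isStack.1
  have hf𝒴' := h𝒴'.isStack.1
  -- the comparison functor of `f` in the other order
  let ℓf : FibCat.overCat U ⥤ᵇ FibCat.fp yV f :=
    BasedFunctor.comp (FibCat.fpLift x (AlgSt.overMap h) α) (swap f yV)
  have hℓ1 : AlgSt.RepByAlgSpWith (AlgSp.LocP @Smooth) ℓf :=
    repByAlgSpWith_comp_equiv _ _ _ (isEquivOver_swap f yV) hℓf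
  have hℓ2 : AlgSt.RepByAlgSpWith AlgSp.IsSurjectiveMor ℓf :=
    repByAlgSpWith_comp_equiv _ _ _ (isEquivOver_swap f yV) hℓf'
  let K := pbK p1 p2 k h w
  have hK : FibCat.IsEquivOver K := isEquivOver_pbK p1 p2 k h w sq
  let m1 : FibCat.fp (AlgSt.overMap k) (AlgSt.overMap h) ⥤ᵇ
      FibCat.fp (AlgSt.overMap k) (FibCat.fpFst yV f) := mapR ℓf (FibCat.fpFst yV f) (AlgSt.overMap k)
  have hm1 : AlgSt.RepByAlgSpWith (AlgSp.LocP @Smooth) m1 :=
    repByAlgSpWith_mapR _ ℓf (FibCat.fpFst yV f) (AlgSt.overMap k) hℓ1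
  have hm1' : AlgSt.RepByAlgSpWith AlgSp.IsSurjectiveMor m1 :=
    repByAlgSpWith_mapR _ ℓf (FibCat.fpFst yV f) (AlgSt.overMap k) hℓ2
  let Pk := Groth.Agent.Lib.Helper24.FibCatFpPaste.P f yV (AlgSt.overMap k)
  have hPk : FibCat.IsEquivOver Pk := Groth.Agent.Lib.Helper24.FibCatFpPaste.isEquivOver_P
  let eF : BasedFunctor.comp (BasedFunctor.comp (AlgSt.overMap k) yV) (BasedFunctor.id 𝒴) ≅
      BasedFunctor.comp (BasedFunctor.id (FibCat.overCat V')) (BasedFunctor.comp y' y) := β.symm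
  let eG : BasedFunctor.comp f (BasedFunctor.id 𝒴) ≅ BasedFunctor.comp (BasedFunctor.id 𝒳) f :=
    Iso.refl _
  let Bβ : FibCat.fp (BasedFunctor.comp (AlgSt.overMap k) yV) f ⥤ᵇ
      FibCat.fp (BasedFunctor.comp y' y) f :=
    fpMap (BasedFunctor.id (FibCat.overCat V')) (BasedFunctor.id 𝒳) (BasedFunctor.id 𝒴) eF eG
  have hBβ : FibCat.IsEquivOver Bβ :=
    isEquivOver_fpMap _ _ _ eF eG (isEquivOver_id _) (isEquivOver_id _)
  let c' : FibCat.overCat T ⥤ᵇ FibCat.fp (BasedFunctor.comp y' y) f :=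
    BasedFunctor.comp K (BasedFunctor.comp m1 (BasedFunctor.comp Pk Bβ))
  have hf1 : FibCat.IsFibGrpd (FibCat.fp (AlgSt.overMap k) (AlgSt.overMap h)).p :=
    isFibGrpd_fp _ _ hfV' hfU hfV
  have hf2 : FibCat.IsFibGrpd (FibCat.fp (BasedFunctor.comp y' y) f).p :=
    isFibGrpd_fp _ _ hfV' hf𝒳 hf𝒴
  have hmPB : AlgSt.RepByAlgSpWith (AlgSp.LocP @Smooth)
      (BasedFunctor.comp m1 (BasedFunctor.comp Pk Bβ)) :=
    repByAlgSpWith_comp_equiv _ m1 _ (isEquivOver_comp _ _ hPk hBβ) hm1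
  have hmPB' : AlgSt.RepByAlgSpWith AlgSp.IsSurjectiveMor
      (BasedFunctor.comp m1 (BasedFunctor.comp Pk Bβ)) :=
    repByAlgSpWith_comp_equiv _ m1 _ (isEquivOver_comp _ _ hPk hBβ) hm1'
  have hc' : AlgSt.RepByAlgSpWith (AlgSp.LocP @Smooth) c' :=
    (repByAlgSpWith_equiv_comp _ K _ hK).2 hmPB
  have hc's : AlgSt.RepByAlgSpWith AlgSp.IsSurjectiveMor c' :=
    (repByAlgSpWith_equiv_comp _ K _ hK).2 hmPB'
  -- un-contract
  let f' := FibCat.fpFst y f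
  let c'' : FibCat.overCat T ⥤ᵇ FibCat.fp y' f' := unP f y y' c'
  have hP : FibCat.IsEquivOver (Groth.Agent.Lib.Helper24.FibCatFpPaste.P f y y') :=
    Groth.Agent.Lib.Helper24.FibCatFpPaste.isEquivOver_P
  have hc'' : AlgSt.RepByAlgSpWith (AlgSp.LocP @Smooth) c'' :=
    (repByAlgSpWith_iff_of_isEquivOver _ c' c'' (BasedFunctor.id _)
      (Groth.Agent.Lib.Helper24.FibCatFpPaste.P f y y') (isEquivOver_id _) hP
      (unPIso f y y' c')).1 hc'
  have hc''s : AlgSt.RepByAlgSpWith AlgSp.IsSurjectiveMor c'' :=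
    (repByAlgSpWith_iff_of_isEquivOver _ c' c'' (BasedFunctor.id _)
      (Groth.Agent.Lib.Helper24.FibCatFpPaste.P f y y') (isEquivOver_id _) hP
      (unPIso f y y' c')).1 hc's
  -- the chart of the fibre product
  let c₂ : FibCat.overCat T ⥤ᵇ FibCat.fp f' y' := BasedFunctor.comp c'' (swap y' f')
  have hc₂ : AlgSt.RepByAlgSpWith (AlgSp.LocP @Smooth) c₂ :=
    repByAlgSpWith_comp_equiv _ _ _ (isEquivOver_swap y' f') hc''
  let i : BasedFunctor.comp c₂ (FibCat.fpSnd f' y') ≅ AlgSt.overMap p1 := Iso.refl _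
  let t' : FibCat.overCat T ⥤ᵇ FibCat.fp y f := BasedFunctor.comp c₂ (FibCat.fpFst f' y')
  have hff' : FibCat.IsFibGrpd (FibCat.fp y' f').p :=
    isFibGrpd_fp _ _ hfV' (isFibGrpd_fp _ _ hf𝒴' hf𝒳 hf𝒴) hf𝒴'
  have hfyf : FibCat.IsFibGrpd (FibCat.fp y f).p := isFibGrpd_fp _ _ hf𝒴' hf𝒳 hf𝒴
  have e1 : t' = BasedFunctor.comp c'' (FibCat.fpSnd y' f') := rfl
  refine ⟨t', liftE c₂ (AlgSt.overMap p1) i, ⟨Iso.refl _⟩, ?_, ?_, ?_⟩
  · rw [e1]
    exact repByAlgSpWith_comp hfT hff' hfyf _ good_smooth.nice stableComp_smooth _ _ hc''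
      (repByAlgSpWith_fpSnd _ y' f' hy')
  · rw [e1]
    exact repByAlgSpWith_comp hfT hff' hfyf _ good_isSurjectiveMor.nice
      stableComp_isSurjectiveMor _ _ hc''s (repByAlgSpWith_fpSnd _ y' f' hy's)
  · exact repByAlgSpWith_of_iso _ (liftIso c₂ (AlgSt.overMap p1) i).symm hc₂

end BCSquare

section Image
variable {𝒳 𝒴 : AlgSt.Cat S} (h𝒳 : AlgSt.IsAlgStack Scheme.fppfPrecoverage 𝒳)
  (h𝒴 : AlgSt.IsAlgStack Scheme.fppfPrecoverage 𝒴) (f : 𝒳 ⥤ᵇ 𝒴)

include h𝒳 in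
/-- if the chart morphism of a chart square is smooth on an open subscheme, then `f` is smooth on
the image of this open subscheme -/
theorem locQ_image_of_smooth {U V : Over S} (x : FibCat.overCat U ⥤ᵇ 𝒳)
    (y : FibCat.overCat V ⥤ᵇ 𝒴) (h : U ⟶ V)
    (α : BasedFunctor.comp x f ≅ BasedFunctor.comp (AlgSt.overMap h) y)
    (hx : AlgSt.RepByAlgSpWith (AlgSp.LocP @Smooth) x)
    (hy : AlgSt.RepByAlgSpWith (AlgSp.LocP @Smooth) y)
    (O : U.left.Opens) (hO : Smooth (O.ι ≫ h.left)) :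
    IsOpen (Points.ofChart x '' (O : Set ↥U.left)) ∧
      AlgSt.LocQ (AlgSp.LocP @Smooth)
        (BasedFunctor.comp (AlgSt.subIncl 𝒳 (QW (Points.ofChart x '' (O : Set ↥U.left)))) f) := by
  have hfU : FibCat.IsFibGrpd (FibCat.overCat U).p := StkFpCrit.isFibGrpd_overForget U
  have hfO : FibCat.IsFibGrpd (FibCat.overCat (resV O)).p := StkFpCrit.isFibGrpd_overForget _
  have hopen : IsOpenMap (Points.ofChart x) := isOpenMap_ofChart h𝒳 x
    (repByAlgSpWith_locP_mono AlgStDiagLft.smooth_le_flat x hx)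
    (repByAlgSpWith_locP_mono AlgStDiagLft.smooth_le_lfp x hx)
  have hW : IsOpen (Points.ofChart x '' (O : Set ↥U.left)) := hopen _ O.2
  refine ⟨hW, ?_⟩
  let xO : FibCat.overCat (resV O) ⥤ᵇ 𝒳 := BasedFunctor.comp (AlgSt.overMap (resι O)) x
  have hxO : AlgSt.RepByAlgSpWith (AlgSp.LocP @Smooth) xO :=
    repByAlgSpWith_comp hfO hfU h𝒳.isStack.1 _ good_smooth.nice stableComp_smooth _ _
      (smooth_overMap_resι O) hx
  let αO : BasedFunctor.comp xO f ≅ BasedFunctor.comp (AlgSt.overMap (resι O ≫ h)) y :=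
    (whiskerLeftIso (AlgSt.overMap (resι O)) α).trans
      (whiskerRightIso (overMapComp (resι O) h).symm y)
  refine locQ_of_smooth_chartOpen h𝒳 f hW xO y (resι O ≫ h) αO hxO hy ?_ ?_
  · rintro _ ⟨u, hu, rfl⟩
    refine ⟨(⟨u, hu⟩ : ↥O), ?_⟩
    exact ofChart_overMap (resι O) x _
  · have h2 : (chartOpen h𝒳 hW xO).ι ≫ (resι O ≫ h).left =
        (chartOpen h𝒳 hW xO).ι ≫ O.ι ≫ h.left := rfl
    rw [h2]
    infer_instance

end Image

section BC
variable {𝒳 𝒴 𝒴' : AlgSt.Cat S} (h𝒳 : AlgSt.IsAlgStack Scheme.fppfPrecoverage 𝒳)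
  (h𝒴 : AlgSt.IsAlgStack Scheme.fppfPrecoverage 𝒴)
  (h𝒴' : AlgSt.IsAlgStack Scheme.fppfPrecoverage 𝒴') (f : 𝒳 ⥤ᵇ 𝒴) (y : 𝒴' ⥤ᵇ 𝒴)

include h𝒳 h𝒴 h𝒴' in
/-- formation of the largest open on which `f` is smooth commutes with flat base change, in terms
of sets of points -/
theorem bc_core (hy : AlgSt.LocQ (AlgSp.LocP @Flat) y)
    (hfp : AlgSt.LocQ (AlgSp.LocP @LocallyOfFinitePresentation) y ∨
      AlgSt.LocQ (AlgSp.LocP @LocallyOfFinitePresentation) f)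
    {W : Set (Points 𝒳)} (hW : IsOpen W)
    (H : AlgSt.LocQ (AlgSp.LocP @Smooth) (BasedFunctor.comp (AlgSt.subIncl 𝒳 (QW W)) f))
    (Hmax : ∀ W₁ : Set (Points 𝒳), IsOpen W₁ →
      AlgSt.LocQ (AlgSp.LocP @Smooth) (BasedFunctor.comp (AlgSt.subIncl 𝒳 (QW W₁)) f) → W₁ ⊆ W) :
    AlgSt.LocQ (AlgSp.LocP @Smooth)
        (BasedFunctor.comp (AlgSt.subIncl (FibCat.fp y f) (QW (Points.map (FibCat.fpSnd y f) ⁻¹' W)))
          (FibCat.fpFst y f)) ∧
      ∀ W'' : Set (Points (FibCat.fp y f)), IsOpen W'' →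
        AlgSt.LocQ (AlgSp.LocP @Smooth) (BasedFunctor.comp (AlgSt.subIncl (FibCat.fp y f) (QW W''))
          (FibCat.fpFst y f)) → W'' ⊆ Points.map (FibCat.fpSnd y f) ⁻¹' W := by
  have hfp𝒳' : AlgSt.IsAlgStack Scheme.fppfPrecoverage (FibCat.fp y f) :=
    isAlgStack_fp h𝒴.isStack h𝒴.diag h𝒴' h𝒳 y f
  obtain ⟨V, yV, hyV, hyV'⟩ := h𝒴.atlas
  obtain ⟨U, x, h, α, hx, hℓf, hℓf', hxs⟩ := exists_square h𝒳 h𝒴 f yV hyV
  obtain ⟨V', y', k, β, hy', hℓy, hℓy', hy's⟩ := exists_square h𝒴' h𝒴 y yV hyV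
  have hxs' := hxs hyV'
  have hy's' := hy's hyV'
  -- the pullback of the charts
  let T : Over S := Over.mk (pullback.fst k.left h.left ≫ V'.hom)
  let p1 : T ⟶ V' := Over.homMk (pullback.fst k.left h.left) rfl
  let p2 : T ⟶ U := Over.homMk (pullback.snd k.left h.left) (by
    change pullback.snd k.left h.left ≫ U.hom = pullback.fst k.left h.left ≫ V'.hom
    rw [← Over.w h, ← Over.w k, ← Category.assoc, ← Category.assoc, pullback.condition])
  have w : p1 ≫ k = p2 ≫ h := by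
    apply Over.OverMorphism.ext
    exact pullback.condition
  have sq : IsPullback p1.left p2.left k.left h.left := IsPullback.of_hasPullback _ _
  obtain ⟨t', γ, ⟨δ⟩, ht', ht's, hℓγ⟩ := exists_bc_square h𝒳 h𝒴 h𝒴' f y x yV y' h k α β hy' hy's'
    hℓf hℓf' p1 p2 w sq
  have hk : Flat k.left := AlgSp.locP_yon_map
    ((locQ_iff_forall h𝒴' h𝒴 y isSmoothLocalST_flat).1 hy V' V y' yV k β hy' hyV hℓy)
  have hfp' : LocallyOfFinitePresentation k.left ∨ LocallyOfFinitePresentation h.left := by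
    rcases hfp with h1 | h1
    · exact Or.inl (AlgSp.locP_yon_map
        ((locQ_iff_forall h𝒴' h𝒴 y isSmoothLocalST_lfp).1 h1 V' V y' yV k β hy' hyV hℓy))
    · exact Or.inr (AlgSp.locP_yon_map
        ((locQ_iff_forall h𝒳 h𝒴 f isSmoothLocalST_lfp).1 h1 U V x yV h α hx hyV hℓf))
  have hpt : ∀ t : ↥T.left, Points.map (FibCat.fpSnd y f) (Points.ofChart t' t) =
      Points.ofChart x (p2.left t) := by
    intro t
    rw [← ofChart_overMap, ← ofChart_comp]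
    exact congrFun (ofChart_congr δ) t
  have hW' : IsOpen (Points.map (FibCat.fpSnd y f) ⁻¹' W) :=
    hW.preimage (continuous_map h𝒳 (FibCat.fpSnd y f))
  have hsurjt : Function.Surjective (Points.ofChart t') := SmLocus1.surjective_ofChart hfp𝒳' t' ht's
  constructor
  · have hO := smooth_chartOpen_of_locQ h𝒳 h𝒴 f hW H x yV h α hyV hℓf
    refine locQ_of_smooth_chartOpen hfp𝒳' (FibCat.fpFst y f) hW' t' y' p1 γ ht' hy' ?_ ?_
    · intro w' _
      exact hsurjt w'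
    · have h1 := smooth_preimage p1.left p2.left k.left h.left sq (chartOpen h𝒳 hW x) hO
      refine smooth_of_le p1.left ?_ h1
      intro t ht
      change Points.ofChart x (p2.left t) ∈ W
      rw [← hpt]
      exact ht
  · intro W'' hW'' H''
    have hO'' := smooth_chartOpen_of_locQ hfp𝒳' h𝒴' (FibCat.fpFst y f) hW'' H'' t' y' p1 γ hy' hℓγ
    intro w'' hw''
    obtain ⟨t, rfl⟩ := hsurjt w''
    obtain ⟨O, hOt, hOsm⟩ := smooth_near p1.left p2.left k.left h.left sq hfp'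
      (chartOpen hfp𝒳' hW'' t') hO'' t hw''
    obtain ⟨hW₁, H₁⟩ := locQ_image_of_smooth h𝒳 f x yV h α hx hyV O hOsm
    have := Hmax _ hW₁ H₁
    change Points.map (FibCat.fpSnd y f) (Points.ofChart t' t) ∈ W
    rw [hpt]
    exact this ⟨p2.left t, hOt, rfl⟩

end BC

end Groth.Agent.Lib.Helper24.SmLocus3
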