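import Groth.Agent.Lib.Helper14.EtSrcLocal
import Mathlib.AlgebraicGeometry.Morphisms.Smooth

/-!
# Smooth-locality on the source (helper24; adapted from helper14's `EtSrcLocal`)

`p : U' ⟶ U` smooth surjective and `P (p ≫ h)` imply `P h`, for
`P` = locally of finite type, locally of finite presentation, flat.
-/

universe u
open CategoryTheory CategoryTheory.Limits AlgebraicGeometry MorphismProperty

namespace Groth.Agent.Lib.Helper24.SmSrc
open Groth.Agent.Lib.Helper14.ESL

/-- `P` can be checked after precomposing with a smooth surjection. -/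
def SmSrcLocal (P : MorphismProperty Scheme.{u}) : Prop :=
  ∀ ⦃U' U V : Scheme.{u}⦄ (p : U' ⟶ U) (h : U ⟶ V), Smooth p → Surjective p → P (p ≫ h) → P h

set_option backward.isDefEq.respectTransparency.types false in
/-- Reduction of smooth-source-locality to the case of affine schemes. -/
theorem smSmSrcLocal_of_affine (P : MorphismProperty Scheme.{u}) [IsZariskiLocalAtSource P]
    [IsZariskiLocalAtTarget P]
    (H : ∀ {R A B : CommRingCat.{u}} (φ : R ⟶ A) (ψ : A ⟶ B), Smooth (Spec.map ψ) →
      Surjective (Spec.map ψ) → P (Spec.map ψ ≫ Spec.map φ) → P (Spec.map φ)) : SmSrcLocal P := by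
  intro U' U V p h hp hs hph
  wlog hV : IsAffine V generalizing U' U V
  · rw [IsZariskiLocalAtTarget.iff_of_iSup_eq_top (P := P) _ (iSup_affineOpens_eq_top V)]
    intro W
    have H1 := IsZariskiLocalAtTarget.restrict hph W.1
    rw [morphismRestrict_comp] at H1
    exact this _ _ inferInstance (IsZariskiLocalAtTarget.restrict (P := @Surjective) hs _) H1 W.2
  wlog hU : IsAffine U generalizing U' U
  · rw [IsZariskiLocalAtSource.iff_of_iSup_eq_top (P := P) _ (iSup_affineOpens_eq_top U)]
    intro W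
    have H1 : P ((p ∣_ W.1) ≫ W.1.ι ≫ h) := by
      rw [morphismRestrict_ι_assoc]
      exact IsZariskiLocalAtSource.comp hph _
    exact this (p ∣_ W.1) (W.1.ι ≫ h) inferInstance
      (IsZariskiLocalAtTarget.restrict (P := @Surjective) hs _) H1 W.2
  wlog hU' : IsAffine U' generalizing U'
  · have hcU : CompactSpace U := inferInstance
    obtain ⟨V' : U'.Opens, hV', e⟩ :=
      p.isOpenMap.exists_opens_image_eq_of_prespectralSpace p.continuous
      (U := Set.univ) (by rw [Set.range_eq_univ.mpr p.surjective]) isOpen_univ isCompact_univ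
    have hcV : CompactSpace V' := isCompact_iff_compactSpace.mp hV'
    obtain ⟨Y, q, hqs, hq, hY⟩ :=
      Scheme.exists_hom_isAffine_of_isZariskiLocalAtSource (P := @IsLocalIso) V'
    have hsurj : Surjective (q ≫ V'.ι ≫ p) := by
      refine ⟨fun x => ?_⟩
      obtain ⟨y, hyV, hy⟩ := e.ge (Set.mem_univ x)
      obtain ⟨z, hz⟩ := q.surjective ⟨y, hyV⟩
      refine ⟨z, ?_⟩
      rw [Scheme.Hom.comp_apply, Scheme.Hom.comp_apply, hz]
      exact hy
    have het : Smooth (q ≫ V'.ι ≫ p) := by
      have : Etale q := IsLocalIso.le_of_isZariskiLocalAtSource @Etale _ _ q hq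
      have : Smooth q := inferInstance
      infer_instance
    refine this (q ≫ V'.ι ≫ p) het hsurj ?_ hY
    rw [Category.assoc, Category.assoc]
    exact pre_of_isLocalIso P q _ (IsZariskiLocalAtSource.comp hph _)
  -- all affine
  have e1 : P (p ≫ h) ↔ P (Spec.map p.appTop ≫ Spec.map h.appTop) := by
    rw [← Spec.map_comp, ← Scheme.Hom.comp_appTop]
    exact (P.arrow_mk_iso_iff (arrowIsoSpecΓOfIsAffine (p ≫ h)))
  have e2 : P h ↔ P (Spec.map h.appTop) := P.arrow_mk_iso_iff (arrowIsoSpecΓOfIsAffine h)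
  rw [e2]
  refine H h.appTop p.appTop ?_ ?_ (e1.mp hph)
  · exact (MorphismProperty.arrow_mk_iso_iff @Smooth (arrowIsoSpecΓOfIsAffine p)).mp hp
  · exact (MorphismProperty.arrow_mk_iso_iff @Surjective (arrowIsoSpecΓOfIsAffine p)).mp hs


open TensorProduct

section Core

set_option backward.isDefEq.respectTransparency.types false in
theorem sm_core_aux {P : MorphismProperty Scheme.{u}}
    {Q : ∀ {R S : Type u} [CommRing R] [CommRing S], (R →+* S) → Prop}
    [HasRingHomProperty P Q]
    [P.DescendsAlong (@Surjective ⊓ @Flat ⊓ @LocallyOfFinitePresentation)]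
    (hQcomp : RingHom.StableUnderComposition Q) (hQid : RingHom.ContainsIdentities Q)
    (hQcancel : ∀ {R S T : Type u} [CommRing R] [CommRing S] [CommRing T] (f : R →+* S)
      (g : S →+* T), Q (g.comp f) → f.FiniteType → Q g)
    {R A₀ A B₀ : Type u} [CommRing R] [CommRing A₀] [CommRing A] [CommRing B₀]
    [Algebra R A₀] [Algebra A₀ A] [Algebra R A] [IsScalarTower R A₀ A] [Algebra A₀ B₀]
    [Algebra.Smooth A₀ B₀]
    (hA₀ : Q (algebraMap R A₀)) (hA₀' : (algebraMap R A₀).FiniteType)
    (hsurj : Surjective (Spec.map (CommRingCat.ofHom (algebraMap A (A ⊗[A₀] B₀)))))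
    (hT : Q ((algebraMap A (A ⊗[A₀] B₀)).comp (algebraMap R A))) : Q (algebraMap R A) := by
  have hsm : Smooth (Spec.map (CommRingCat.ofHom (algebraMap A₀ B₀))) :=
    (HasRingHomProperty.Spec_iff (P := @Smooth)).mpr (RingHom.smooth_algebraMap.mpr inferInstance)
  have : P.IsStableUnderComposition := HasRingHomProperty.stableUnderComposition hQcomp
  have : P.RespectsRight @IsOpenImmersion := ⟨fun i hi f hf => P.comp_mem f i hf
    (HasRingHomProperty.of_isOpenImmersion (P := P) hQid)⟩
  have comm : Spec.map (CommRingCat.ofHom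
        (Algebra.TensorProduct.includeRight : B₀ →ₐ[A₀] A ⊗[A₀] B₀).toRingHom) ≫
      Spec.map (CommRingCat.ofHom (algebraMap A₀ B₀)) =
      Spec.map (CommRingCat.ofHom (algebraMap A (A ⊗[A₀] B₀))) ≫
        Spec.map (CommRingCat.ofHom (algebraMap A₀ A)) := by
    rw [← Spec.map_comp, ← Spec.map_comp]
    congr 1
    ext a
    show (1 : A) ⊗ₜ[A₀] (algebraMap A₀ B₀ a) = (algebraMap A₀ A a) ⊗ₜ[A₀] (1 : B₀)
    rw [Algebra.algebraMap_eq_smul_one, Algebra.algebraMap_eq_smul_one, TensorProduct.smul_tmul]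
  have hcomp : ((Algebra.TensorProduct.includeRight : B₀ →ₐ[A₀] A ⊗[A₀] B₀).toRingHom).comp
      ((algebraMap A₀ B₀).comp (algebraMap R A₀)) =
      (algebraMap A (A ⊗[A₀] B₀)).comp (algebraMap R A) := by
    ext r
    show (1 : A) ⊗ₜ[A₀] (algebraMap A₀ B₀ (algebraMap R A₀ r)) =
      (algebraMap R A r) ⊗ₜ[A₀] (1 : B₀)
    rw [IsScalarTower.algebraMap_apply R A₀ A, Algebra.algebraMap_eq_smul_one (A := B₀),
      Algebra.algebraMap_eq_smul_one (A := A), TensorProduct.smul_tmul]
  have hP : P (Spec.map (CommRingCat.ofHom (algebraMap A₀ A))) := by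
    apply descend_of_range_subset (P := P) _ (Spec.map (CommRingCat.ofHom (algebraMap A₀ B₀)))
    · rintro _ ⟨x, rfl⟩
      obtain ⟨t, rfl⟩ := hsurj.surj x
      refine ⟨Spec.map (CommRingCat.ofHom
        (Algebra.TensorProduct.includeRight : B₀ →ₐ[A₀] A ⊗[A₀] B₀).toRingHom) t, ?_⟩
      rw [← Scheme.Hom.comp_apply, ← Scheme.Hom.comp_apply, comm]
    · rw [← pullbackSpecIso_hom_snd, P.cancel_left_of_respectsIso,
        HasRingHomProperty.Spec_iff (P := P), CommRingCat.hom_ofHom]
      refine hQcancel ((algebraMap A₀ B₀).comp (algebraMap R A₀)) _ ?_ ?_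
      · show Q (((Algebra.TensorProduct.includeRight : B₀ →ₐ[A₀] A ⊗[A₀] B₀).toRingHom).comp
          ((algebraMap A₀ B₀).comp (algebraMap R A₀)))
        rw [hcomp]; exact hT
      · exact RingHom.FiniteType.comp
          (RingHom.FiniteType.of_finitePresentation
            (RingHom.finitePresentation_algebraMap.mpr inferInstance)) hA₀'
  rw [HasRingHomProperty.Spec_iff (P := P)] at hP
  rw [IsScalarTower.algebraMap_eq R A₀ A]
  exact hQcomp _ _ hA₀ hP

set_option backward.isDefEq.respectTransparency.types false in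
theorem sm_core_mid {P : MorphismProperty Scheme.{u}}
    {Q : ∀ {R S : Type u} [CommRing R] [CommRing S], (R →+* S) → Prop}
    [HasRingHomProperty P Q]
    [P.DescendsAlong (@Surjective ⊓ @Flat ⊓ @LocallyOfFinitePresentation)]
    (hQcomp : RingHom.StableUnderComposition Q) (hQid : RingHom.ContainsIdentities Q)
    (hQiso : RingHom.RespectsIso Q)
    (hQcancel : ∀ {R S T : Type u} [CommRing R] [CommRing S] [CommRing T] (f : R →+* S)
      (g : S →+* T), Q (g.comp f) → f.FiniteType → Q g)
    {R A₁ A₀ A B₁ B : Type u} [CommRing R] [CommRing A₁] [CommRing A₀] [CommRing A] [CommRing B₁]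
    [CommRing B] [Algebra R A₀] [Algebra A₁ A₀] [Algebra A₀ A] [Algebra A₁ A]
    [IsScalarTower A₁ A₀ A] [Algebra R A] [IsScalarTower R A₀ A] [Algebra A₁ B₁]
    [Algebra.Smooth A₁ B₁] [Algebra A B] [Algebra R B] [IsScalarTower R A B]
    (e : B ≃ₐ[A] A ⊗[A₁] B₁)
    (hA₀ : Q (algebraMap R A₀)) (hA₀' : (algebraMap R A₀).FiniteType)
    (hs : Surjective (Spec.map (CommRingCat.ofHom (algebraMap A B))))
    (hB : Q (algebraMap R B)) : Q (algebraMap R A) := by
  let e₁ : A ⊗[A₀] (A₀ ⊗[A₁] B₁) ≃ₐ[A] A ⊗[A₁] B₁ :=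
    Algebra.TensorProduct.cancelBaseChange A₁ A₀ A A B₁
  let e₂ : A ⊗[A₀] (A₀ ⊗[A₁] B₁) ≃ₐ[A] B := e₁.trans e.symm
  let ρ : B ≃+* A ⊗[A₀] (A₀ ⊗[A₁] B₁) := e₂.symm.toRingEquiv
  have he₂ : (algebraMap A (A ⊗[A₀] (A₀ ⊗[A₁] B₁))) = ρ.toRingHom.comp (algebraMap A B) := by
    ext a
    exact (e₂.symm.commutes a).symm
  refine sm_core_aux (P := P) hQcomp hQid hQcancel (A₀ := A₀) (A := A)
    (B₀ := A₀ ⊗[A₁] B₁) hA₀ hA₀' ?_ ?_
  · rw [he₂, CommRingCat.ofHom_comp, Spec.map_comp]
    have : IsIso (Spec.map (CommRingCat.ofHom ρ.toRingHom)) := by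
      have : IsIso (CommRingCat.ofHom ρ.toRingHom) := ρ.toCommRingCatIso.isIso_hom
      infer_instance
    infer_instance
  · rw [he₂, RingHom.comp_assoc, ← IsScalarTower.algebraMap_eq R A B]
    exact hQiso.1 _ ρ hB

set_option backward.isDefEq.respectTransparency.types false in
theorem sm_core_ring {P : MorphismProperty Scheme.{u}}
    {Q : ∀ {R S : Type u} [CommRing R] [CommRing S], (R →+* S) → Prop}
    [HasRingHomProperty P Q]
    [P.DescendsAlong (@Surjective ⊓ @Flat ⊓ @LocallyOfFinitePresentation)]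
    (hQfp : ∀ {R S : Type u} [CommRing R] [CommRing S] (f : R →+* S), f.FinitePresentation → Q f)
    (hQcomp : RingHom.StableUnderComposition Q) (hQid : RingHom.ContainsIdentities Q)
    (hQiso : RingHom.RespectsIso Q)
    (hQcancel : ∀ {R S T : Type u} [CommRing R] [CommRing S] [CommRing T] (f : R →+* S)
      (g : S →+* T), Q (g.comp f) → f.FiniteType → Q g)
    {R A B : Type u} [CommRing R] [CommRing A] [CommRing B] [Algebra R A] [Algebra A B]
    [Algebra R B] [IsScalarTower R A B]
    [Algebra.Smooth A B] (hs : Surjective (Spec.map (CommRingCat.ofHom (algebraMap A B))))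
    (hB : Q (algebraMap R B)) : Q (algebraMap R A) := by
  obtain ⟨A₁, B₁, _, _, hfg, hsm, ⟨e⟩⟩ := Algebra.Smooth.exists_subalgebra_fg ℤ A B
  let μ : R ⊗[ℤ] A₁ →ₐ[R] A :=
    Algebra.TensorProduct.lift (Algebra.ofId R A) A₁.val (fun _ _ => Commute.all _ _)
  let algA₀A : Algebra (R ⊗[ℤ] A₁) A := μ.toRingHom.toAlgebra
  let algA₁A₀ : Algebra A₁ (R ⊗[ℤ] A₁) := Algebra.TensorProduct.rightAlgebra
  have tw1 : IsScalarTower A₁ (R ⊗[ℤ] A₁) A := IsScalarTower.of_algebraMap_eq (fun x => by
    show (x : A) = μ (1 ⊗ₜ x)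
    rw [Algebra.TensorProduct.lift_tmul]
    simp)
  have tw2 : IsScalarTower R (R ⊗[ℤ] A₁) A :=
    IsScalarTower.of_algebraMap_eq (fun x => (μ.commutes x).symm)
  have : Algebra.FiniteType ℤ A₁ := (Subalgebra.fg_iff_finiteType A₁).mp hfg
  have : Algebra.FinitePresentation ℤ A₁ := Algebra.FinitePresentation.of_finiteType.mp inferInstance
  have hfp : (algebraMap R (R ⊗[ℤ] A₁)).FinitePresentation :=
    RingHom.finitePresentation_algebraMap.mpr inferInstance
  exact sm_core_mid (P := P) hQcomp hQid hQiso hQcancel (A₁ := A₁) (A₀ := R ⊗[ℤ] A₁) (B₁ := B₁) e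
    (hQfp _ hfp) (RingHom.FiniteType.of_finitePresentation hfp) hs hB

set_option backward.isDefEq.respectTransparency.types false in
theorem smSrcLocal_of_core {P : MorphismProperty Scheme.{u}}
    {Q : ∀ {R S : Type u} [CommRing R] [CommRing S], (R →+* S) → Prop}
    [HasRingHomProperty P Q]
    [P.DescendsAlong (@Surjective ⊓ @Flat ⊓ @LocallyOfFinitePresentation)]
    (hQfp : ∀ {R S : Type u} [CommRing R] [CommRing S] (f : R →+* S), f.FinitePresentation → Q f)
    (hQcomp : RingHom.StableUnderComposition Q) (hQid : RingHom.ContainsIdentities Q)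
    (hQiso : RingHom.RespectsIso Q)
    (hQcancel : ∀ {R S T : Type u} [CommRing R] [CommRing S] [CommRing T] (f : R →+* S)
      (g : S →+* T), Q (g.comp f) → f.FiniteType → Q g) : SmSrcLocal P := by
  apply smSmSrcLocal_of_affine
  intro R A B φ ψ hsm hs h
  let : Algebra R A := φ.hom.toAlgebra
  let : Algebra A B := ψ.hom.toAlgebra
  let : Algebra R B := (ψ.hom.comp φ.hom).toAlgebra
  have : IsScalarTower R A B := IsScalarTower.of_algebraMap_eq' rfl
  have : Algebra.Smooth A B := (HasRingHomProperty.Spec_iff (P := @Smooth)).mp hsm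
  rw [← Spec.map_comp, HasRingHomProperty.Spec_iff (P := P)] at h
  rw [HasRingHomProperty.Spec_iff (P := P)]
  exact sm_core_ring (P := P) hQfp hQcomp hQid hQiso hQcancel (R := R) (A := A) (B := B) hs h

set_option backward.isDefEq.respectTransparency.types false in
theorem smSrcLocal_locallyOfFiniteType : SmSrcLocal @LocallyOfFiniteType.{u} :=
  smSrcLocal_of_core (P := @LocallyOfFiniteType) (Q := RingHom.FiniteType)
    (fun _ h => RingHom.FiniteType.of_finitePresentation h)
    RingHom.finiteType_stableUnderComposition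
    (fun _ _ => RingHom.FiniteType.id _) RingHom.finiteType_respectsIso
    (fun _ _ h _ => RingHom.FiniteType.of_comp_finiteType h)

set_option backward.isDefEq.respectTransparency.types false in
theorem smSrcLocal_locallyOfFinitePresentation : SmSrcLocal @LocallyOfFinitePresentation.{u} :=
  smSrcLocal_of_core (P := @LocallyOfFinitePresentation) (Q := RingHom.FinitePresentation)
    (fun _ h => h)
    RingHom.finitePresentation_stableUnderComposition
    (fun _ _ => RingHom.FinitePresentation.id _) RingHom.finitePresentation_respectsIso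
    (fun f _ h hf => RingHom.FinitePresentation.of_comp_finiteType f h hf)

end Core


section More

set_option backward.isDefEq.respectTransparency.types false in
theorem smSrcLocal_of_ring {P : MorphismProperty Scheme.{u}}
    {Q : ∀ {R S : Type u} [CommRing R] [CommRing S], (R →+* S) → Prop}
    [HasRingHomProperty P Q]
    (H : ∀ {R A B : Type u} [CommRing R] [CommRing A] [CommRing B] [Algebra R A] [Algebra A B]
      [Algebra R B] [IsScalarTower R A B] [Algebra.Smooth A B] [Module.FaithfullyFlat A B],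
      Q (algebraMap R B) → Q (algebraMap R A)) : SmSrcLocal P := by
  apply smSmSrcLocal_of_affine
  intro R A B φ ψ hsm hs h
  let : Algebra R A := φ.hom.toAlgebra
  let : Algebra A B := ψ.hom.toAlgebra
  let : Algebra R B := (ψ.hom.comp φ.hom).toAlgebra
  have : IsScalarTower R A B := IsScalarTower.of_algebraMap_eq' rfl
  have : Algebra.Smooth A B := (HasRingHomProperty.Spec_iff (P := @Smooth)).mp hsm
  have : Module.FaithfullyFlat A B :=
    Module.FaithfullyFlat.of_comap_surjective (Spec.map ψ).surjective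
  rw [← Spec.map_comp, HasRingHomProperty.Spec_iff (P := P)] at h
  rw [HasRingHomProperty.Spec_iff (P := P)]
  exact H (R := R) (A := A) (B := B) h

theorem smSrcLocal_flat : SmSrcLocal @Flat.{u} :=
  smSrcLocal_of_ring (P := @Flat) (Q := RingHom.Flat) (fun {R A B} _ _ _ _ _ _ _ _ _ h => by
    rw [RingHom.flat_algebraMap_iff] at h ⊢
    exact flat_of_faithfullyFlat_comp R A B)


set_option backward.isDefEq.respectTransparency.types false in
/-- Family version of smooth-source-locality. -/
theorem SmSrcLocal.of_family {P : MorphismProperty Scheme.{u}} [IsZariskiLocalAtSource P]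
    (hP : SmSrcLocal P) {ι : Type u} {U V : Scheme.{u}} (W : ι → Scheme.{u}) (p : ∀ i, W i ⟶ U)
    (hp : ∀ i, Smooth (p i)) (hs : ∀ x : U, ∃ i, x ∈ Set.range (p i)) (h : U ⟶ V)
    (H : ∀ i, P (p i ≫ h)) : P h := by
  refine hP (Sigma.desc p) h (IsZariskiLocalAtSource.sigmaDesc hp) ⟨fun x => ?_⟩ ?_
  · obtain ⟨i, w, rfl⟩ := hs x
    refine ⟨Sigma.ι W i w, ?_⟩
    rw [← Scheme.Hom.comp_apply, Sigma.ι_desc]
  · have : Sigma.desc p ≫ h = Sigma.desc (fun i => p i ≫ h) := by
      ext i
      simp
    rw [this]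
    exact IsZariskiLocalAtSource.sigmaDesc H

theorem SmSrcLocal.inf {P P' : MorphismProperty Scheme.{u}} (h : SmSrcLocal P) (h' : SmSrcLocal P') :
    SmSrcLocal (P ⊓ P') := fun _ _ _ p g hp hs hpg => ⟨h p g hp hs hpg.1, h' p g hp hs hpg.2⟩


end More

end Groth.Agent.Lib.Helper24.SmSrc
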