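import Mathlib
import Groth.Prelude.Def_FEt
import Groth.Prelude.Def_Pi1
import Groth.Agent.Lib.Helper22.FEtSplit.Main
import Groth.Agent.Lib.Helper29.FinCov8

set_option autoImplicit false
set_option backward.isDefEq.respectTransparency false
set_option backward.isDefEq.respectTransparency.types false

/-!
# Splitting a finite étale cover of degree `n` by a cover of degree `n!` (helper24)
-/

namespace Groth.Agent.Lib.Helper24.SplitDeg

open AlgebraicGeometry CategoryTheory Limits Opposite
open Groth.Agent.Lib.Helper22.FEtSplit Groth.Agent.Lib.Helper22.EtStalk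

universe u

/-- Geometric degree is multiplicative under composition. -/
theorem hasDeg_comp {A B C : Scheme.{u}} (f : A ⟶ B) (g : B ⟶ C) [IsFinite f] [IsFinite g]
    {a b : ℕ} (hf : HasDeg f a) (hg : HasDeg g b) : HasDeg (f ≫ g) (b * a) := by
  intro Ω _ _ ξ
  have hfin1 : Finite (Lifts g ξ) := FinitePush.finite_lifts g ξ
  have hfin2 : ∀ x : Lifts g ξ, Finite (Lifts f x.1) := fun x => FinitePush.finite_lifts f x.1
  let e : Lifts (f ≫ g) ξ ≃ Σ x : Lifts g ξ, Lifts f x.1 :=
    { toFun := fun l => ⟨⟨l.1 ≫ f, by rw [Category.assoc]; exact l.2⟩, ⟨l.1, rfl⟩⟩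
      invFun := fun p => ⟨p.2.1, by rw [← Category.assoc, p.2.2]; exact p.1.2⟩
      left_inv := fun l => rfl
      right_inv := fun p => by
        obtain ⟨⟨x, hx⟩, ⟨l, hl⟩⟩ := p
        have hl' : l ≫ f = x := hl
        subst hl'
        rfl }
  rw [Nat.card_congr e]
  letI := Fintype.ofFinite (Lifts g ξ)
  rw [Nat.card_sigma]
  simp only [hf Ω _]
  rw [Finset.sum_const, Finset.card_univ, smul_eq_mul, ← Nat.card_eq_fintype_card, hg Ω ξ]

lemma hasDeg_id (S : Scheme.{u}) : HasDeg (𝟙 S) 1 := by
  intro Ω _ _ ξ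
  rw [Nat.card_eq_one_iff_unique]
  refine ⟨⟨fun a b => Subtype.ext ?_⟩, ⟨⟨ξ, Category.comp_id _⟩⟩⟩
  have ha := a.2
  have hb := b.2
  rw [Category.comp_id] at ha hb
  exact ha.trans hb.symm

theorem exists_split_deg : ∀ (n : ℕ) {X S : Scheme.{u}} (φ : X ⟶ S) [IsFinite φ] [Etale φ],
    HasDeg φ n → ∃ (Y : Scheme.{u}) (ψ : Y ⟶ S) (σ : Fin n → (Y ⟶ X)),
      IsFinite ψ ∧ Etale ψ ∧ Surjective ψ ∧ HasDeg ψ n.factorial ∧ IsComplete φ ψ σ := by
  intro n
  induction n with
  | zero =>
    intro X S φ _ _ h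
    have hE : IsEmpty X := isEmpty_of_hasDeg_zero φ h
    refine ⟨S, 𝟙 S, fun i => Fin.elim0 i, inferInstance, inferInstance, inferInstance,
      hasDeg_id S, fun i => Fin.elim0 i, ?_⟩
    intro Ω _ _ y
    refine ⟨fun i => Fin.elim0 i, ?_⟩
    intro x _
    exact (hE.false (x default)).elim
  | succ n ih =>
    intro X S φ _ _ h
    have hsurj : Surjective φ := surjective_of_hasDeg_succ φ h
    obtain ⟨Y, ψ', σ', hfin', het', hsurj', hdeg', hσ', hc'⟩ :=
      ih (offMap φ) (hasDeg_offMap φ h)
    let pr₁ : pullback φ φ ⟶ X := pullback.fst φ φ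
    let pr₂ : pullback φ φ ⟶ X := pullback.snd φ φ
    let ι := (offDiag φ).ι
    let σ : Fin (n + 1) → (Y ⟶ X) := Fin.cons ψ' (fun i => σ' i ≫ ι ≫ pr₁)
    have hσ0 : σ 0 = ψ' := rfl
    have hσs : ∀ i : Fin n, σ i.succ = σ' i ≫ ι ≫ pr₁ := fun i => rfl
    have hσ'2 : ∀ i : Fin n, σ' i ≫ ι ≫ pr₂ = ψ' := hσ'
    refine ⟨Y, ψ' ≫ φ, σ, inferInstance, inferInstance, inferInstance, ?_, ?_, ?_⟩
    · rw [Nat.factorial_succ]
      exact hasDeg_comp ψ' φ hdeg' h
    · intro i
      refine Fin.cases ?_ ?_ i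
      · rw [hσ0]
      · intro j
        rw [hσs, Category.assoc, Category.assoc]
        have : pr₁ ≫ φ = pr₂ ≫ φ := pullback.condition
        rw [this, ← Category.assoc ι, ← Category.assoc, hσ'2 j]
    · intro Ω _ _ y
      obtain ⟨hinj', hsur'⟩ := hc' Ω y
      have hys : ∀ j : Fin n, (y ≫ σ' j) ≫ ι ≫ pr₂ = y ≫ ψ' := by
        intro j
        rw [Category.assoc, hσ'2 j]
      constructor
      · intro i j
        refine Fin.cases ?_ ?_ i
        · refine Fin.cases ?_ ?_ j
          · intro _; rfl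
          · intro j' hij
            exfalso
            rw [hσ0, hσs] at hij
            apply offDiag_fst_ne_snd φ (y ≫ σ' j')
            rw [Category.assoc]
            exact hij.symm.trans (hys j').symm
        · intro i'
          refine Fin.cases ?_ ?_ j
          · intro hij
            exfalso
            rw [hσ0, hσs] at hij
            apply offDiag_fst_ne_snd φ (y ≫ σ' i')
            rw [Category.assoc]
            exact hij.trans (hys i').symm
          · intro j' hij
            rw [hσs, hσs] at hij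
            have : y ≫ σ' i' = y ≫ σ' j' := by
              rw [← cancel_mono ι]
              apply pullback.hom_ext
              · rw [Category.assoc, Category.assoc]
                exact hij
              · rw [Category.assoc, Category.assoc]
                exact (hys i').trans (hys j').symm
            rw [hinj' i' j' this]
      · intro x hx
        by_cases hxy : x = y ≫ ψ'
        · exact ⟨0, hxy⟩
        · let z : Spec (CommRingCat.of Ω) ⟶ pullback φ φ :=
            pullback.lift x (y ≫ ψ') (by rw [hx, Category.assoc])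
          have hz1 : z ≫ pullback.fst φ φ = x := pullback.lift_fst _ _ _
          have hz2 : z ≫ pullback.snd φ φ = y ≫ ψ' := pullback.lift_snd _ _ _
          have hzne : z ≫ pullback.fst φ φ ≠ z ≫ pullback.snd φ φ := by
            rw [hz1, hz2]
            exact hxy
          obtain ⟨l, hl⟩ := exists_lift_offDiag φ z hzne
          have hl2 : l ≫ offMap φ = y ≫ ψ' := by
            change l ≫ (offDiag φ).ι ≫ pullback.snd φ φ = _
            rw [← Category.assoc, hl, hz2]
          obtain ⟨i, hi⟩ := hsur' l hl2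
          refine ⟨i.succ, ?_⟩
          rw [hσs, ← Category.assoc, ← hi]
          change x = l ≫ (offDiag φ).ι ≫ pullback.fst φ φ
          rw [← Category.assoc, hl, hz1]

end Groth.Agent.Lib.Helper24.SplitDeg

namespace Groth.Agent.Lib.Helper24.SplitDeg

open AlgebraicGeometry CategoryTheory Limits Opposite
open Groth.Agent.Lib.Helper22.FEtSplit Groth.Agent.Lib.Helper22.EtStalk
open Groth.Agent.Lib.Helper29.QCoh

universe u

theorem exists_splitting_cover {S : Scheme.{u}} (Y : FEt.Cat S) (n : ℕ)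
    (hdeg : FlatMod.IsFinLocFreeOfRank n ((Coh.push Y.hom).obj (Coh.structureModule Y.left))) :
    ∃ T : FEt.Cat S, Surjective T.hom ∧
      FlatMod.IsFinLocFreeOfRank n.factorial
        ((Coh.push T.hom).obj (Coh.structureModule T.left)) ∧
      Pi1.IsSplit ((FEt.restrict T.hom).obj Y) := by
  have hY1 : IsFinite Y.hom := Y.prop.1
  have hY2 : Etale Y.hom := Y.prop.2
  have hcov : FinCov.IsCover Y.hom n := (isCover_iff Y.hom n).2 ⟨inferInstance, hdeg⟩
  have hrk : ∀ y, Y.hom.finrank y = n := hcov.2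
  have hD : HasDeg Y.hom n := fun Ω _ _ ξ => by
    rw [GeomFibre.card_lifts_eq_finrank]
    exact hrk _
  obtain ⟨T, ψ, σ, h1, h2, h3, h4, h5⟩ := exists_split_deg n Y.hom hD
  let T' : FEt.Cat S := MorphismProperty.Over.mk ⊤ ψ ⟨h1, h2⟩
  refine ⟨T', h3, ?_, ?_⟩
  · have hrkT : ∀ y, ψ.finrank y = n.factorial := by
      intro y
      obtain ⟨Ω, _, _, yb, hyb⟩ := Sets.exists_geomPoint_scheme S y
      have h := (GeomFibre.card_lifts_eq_finrank ψ yb).symm.trans (h4 Ω yb)
      rw [← hyb]
      exact h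
    exact ((isCover_iff ψ n.factorial).1 ⟨⟨h1, inferInstance, inferInstance⟩, hrkT⟩).2
  · obtain ⟨e, he⟩ := exists_iso_of_complete Y.hom ψ σ h5
    let r : (∐ fun _ : ULift.{u} (Fin n) => T) ≅ (∐ fun _ : Fin n => T) :=
      Sigma.whiskerEquiv (f := fun _ : ULift.{u} (Fin n) => T) (g := fun _ : Fin n => T)
        Equiv.ulift (fun _ => Iso.refl _)
    refine ⟨ULift.{u} (Fin n), inferInstance, e ≪≫ r.symm, ?_⟩
    intro i
    have hr : Sigma.ι (fun _ : ULift.{u} (Fin n) => T) i ≫ r.hom =
        Sigma.ι (fun _ : Fin n => T) i.down := by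
      simp [r, Sigma.whiskerEquiv]
    show Sigma.ι (fun _ : ULift.{u} (Fin n) => T) i ≫ (r.hom ≫ e.inv) ≫ pullback.snd Y.hom ψ = 𝟙 T
    rw [Category.assoc, ← Category.assoc, hr]
    exact he i.down

end Groth.Agent.Lib.Helper24.SplitDeg
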