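import Groth.Prelude.Def_FibCat2
import Groth.Agent.Lib.Helper24.CleavageSplit
import Groth.Agent.Lib.Helper24.FibCatEquiv2
import Groth.Agent.Lib.Helper24.FibSetoid
import Groth.Agent.Lib.Helper24.FibGrpd
set_option autoImplicit false
open CategoryTheory CategoryTheory.Functor
universe v u

/-! A split model of a fibred category: objects are formal pullbacks `(f : U ⟶ V, x over V)`. -/

namespace Groth.Agent.Lib.Helper24.SplitModel

section General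
variable {𝒮 : Type*} {𝒵 𝒲 : Type*} [Category 𝒮] [Category 𝒵] [Category 𝒲] (p : 𝒵 ⥤ 𝒮)

lemma isHomLift_comp_iff (Ψ : 𝒲 ⥤ 𝒵) {R S : 𝒮} (f : R ⟶ S) {y y' : 𝒲} (ψ : y ⟶ y') :
    (Ψ ⋙ p).IsHomLift f ψ ↔ p.IsHomLift f (Ψ.map ψ) := by
  constructor
  · intro h
    exact IsHomLift.of_fac p f (Ψ.map ψ) (IsHomLift.domain_eq (Ψ ⋙ p) f ψ)
      (IsHomLift.codomain_eq (Ψ ⋙ p) f ψ) (IsHomLift.fac (Ψ ⋙ p) f ψ)
  · intro h
    exact IsHomLift.of_fac (Ψ ⋙ p) f ψ (IsHomLift.domain_eq p f (Ψ.map ψ))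
      (IsHomLift.codomain_eq p f (Ψ.map ψ)) (IsHomLift.fac p f (Ψ.map ψ))

/-- a fully faithful functor reflects cartesian morphisms -/
lemma isCartesian_of_map (Ψ : 𝒲 ⥤ 𝒵) [Ψ.Full] [Ψ.Faithful] {R S : 𝒮} (f : R ⟶ S) {y' y : 𝒲}
    (ℓ : y' ⟶ y) [hℓ : p.IsCartesian f (Ψ.map ℓ)] : (Ψ ⋙ p).IsCartesian f ℓ := by
  have h0 : (Ψ ⋙ p).IsHomLift f ℓ := (isHomLift_comp_iff p Ψ f ℓ).2 hℓ.toIsHomLift
  refine { toIsHomLift := h0, universal_property := ?_ }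
  intro y'' φ' hφ'
  have hφ'' : p.IsHomLift f (Ψ.map φ') := (isHomLift_comp_iff p Ψ f φ').1 hφ'
  refine ⟨Ψ.preimage (IsCartesian.map p f (Ψ.map ℓ) (Ψ.map φ')), ⟨?_, ?_⟩, ?_⟩
  · rw [isHomLift_comp_iff, Ψ.map_preimage]; infer_instance
  · apply Ψ.map_injective
    rw [Ψ.map_comp, Ψ.map_preimage, IsCartesian.fac]
  · rintro χ ⟨h1, h2⟩
    apply Ψ.map_injective
    rw [Ψ.map_preimage]
    have : p.IsHomLift (𝟙 R) (Ψ.map χ) := (isHomLift_comp_iff p Ψ (𝟙 R) χ).1 h1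
    apply IsCartesian.map_uniq
    rw [← Ψ.map_comp, h2]

end General

section Model
variable {C : Type u} [Category.{v} C] (𝒳 : BasedCategory.{v, max u v} C)

/-- formal pullbacks -/
structure Obj where
  U : C
  V : C
  f : U ⟶ V
  x : 𝒳.obj
  hx : 𝒳.p.obj x = V

variable {𝒳}
variable [𝒳.p.IsFibered]

/-- the chosen pullback of `x` along `f` -/
noncomputable def pb (X : Obj 𝒳) : 𝒳.obj := IsPreFibered.pullbackObj X.hx X.f

noncomputable def pbMap (X : Obj 𝒳) : pb X ⟶ X.x := IsPreFibered.pullbackMap X.hx X.f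

instance (X : Obj 𝒳) : 𝒳.p.IsStronglyCartesian X.f (pbMap X) :=
  Functor.IsFibered.isStronglyCartesian_of_isCartesian 𝒳.p X.f (IsPreFibered.pullbackMap X.hx X.f)

instance pbMap_sc' {U V : C} (f : U ⟶ V) (x : 𝒳.obj) (hx : 𝒳.p.obj x = V) :
    𝒳.p.IsStronglyCartesian f (pbMap ⟨U, V, f, x, hx⟩) :=
  Functor.IsFibered.isStronglyCartesian_of_isCartesian 𝒳.p f (IsPreFibered.pullbackMap hx f)

lemma pb_proj (X : Obj 𝒳) : 𝒳.p.obj (pb X) = X.U := IsPreFibered.pullbackObj_proj X.hx X.f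

noncomputable instance : Category.{v} (Obj 𝒳) where
  Hom X Y := pb X ⟶ pb Y
  id X := 𝟙 (pb X)
  comp f g := f ≫ g

variable (𝒳) in
/-- the fully faithful functor to `𝒳` -/
noncomputable def ι : Obj 𝒳 ⥤ 𝒳.obj where
  obj := pb
  map f := f

instance : (ι 𝒳).Full := ⟨fun f => ⟨f, rfl⟩⟩
instance : (ι 𝒳).Faithful := ⟨fun h => h⟩

@[simp] lemma ι_obj (X : Obj 𝒳) : (ι 𝒳).obj X = pb X := rfl

variable (𝒳) in
/-- the split model as a category over `C` -/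
noncomputable abbrev 𝒳' : BasedCategory.{v, max u v} C where
  obj := Obj 𝒳
  p := ι 𝒳 ⋙ 𝒳.p

variable (𝒳) in
noncomputable def ιB : 𝒳' 𝒳 ⥤ᵇ 𝒳 where
  toFunctor := ι 𝒳
  w := rfl

/-- the object of the model attached to `x` -/
def ofObj (x : 𝒳.obj) : Obj 𝒳 := ⟨𝒳.p.obj x, 𝒳.p.obj x, 𝟙 _, x, rfl⟩

instance isIso_pbMap_ofObj (x : 𝒳.obj) : IsIso (pbMap (ofObj x)) := by
  have : 𝒳.p.IsStronglyCartesian (𝟙 (𝒳.p.obj x)) (pbMap (ofObj x)) :=
    inferInstanceAs (𝒳.p.IsStronglyCartesian (ofObj x).f (pbMap (ofObj x)))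
  exact IsStronglyCartesian.isIso_of_base_isIso 𝒳.p (𝟙 (𝒳.p.obj x)) (pbMap (ofObj x))

/-- restriction of a formal pullback along `k` -/
abbrev re (X : Obj 𝒳) {U' : C} (k : U' ⟶ X.U) : Obj 𝒳 := ⟨U', X.V, k ≫ X.f, X.x, X.hx⟩

/-- canonical comparison between chosen pullbacks -/
noncomputable def can (X : Obj 𝒳) {U' : C} (k : U' ⟶ X.U) : pb (re X k) ⟶ pb X :=
  IsStronglyCartesian.map 𝒳.p X.f (pbMap X) (rfl : (re X k).f = k ≫ X.f) (pbMap (re X k))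

@[reassoc]
lemma can_fac (X : Obj 𝒳) {U' : C} (k : U' ⟶ X.U) : can X k ≫ pbMap X = pbMap (re X k) :=
  IsStronglyCartesian.fac 𝒳.p X.f (pbMap X) (rfl : (re X k).f = k ≫ X.f) (pbMap (re X k))

instance can_lift (X : Obj 𝒳) {U' : C} (k : U' ⟶ X.U) : 𝒳.p.IsHomLift k (can X k) :=
  IsStronglyCartesian.map_isHomLift 𝒳.p X.f (pbMap X) (rfl : (re X k).f = k ≫ X.f) (pbMap (re X k))

instance can_sc (X : Obj 𝒳) {U' : C} (k : U' ⟶ X.U) : 𝒳.p.IsStronglyCartesian k (can X k) := by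
  have : 𝒳.p.IsStronglyCartesian (k ≫ X.f) (can X k ≫ pbMap X) := by
    rw [can_fac]
    exact inferInstanceAs (𝒳.p.IsStronglyCartesian (re X k).f (pbMap (re X k)))
  exact IsStronglyCartesian.of_comp 𝒳.p (g := X.f) (ψ := pbMap X) (f := k) (φ := can X k)

lemma re_id (X : Obj 𝒳) : re X (𝟙 _) = X := by
  cases X; simp

lemma re_re (X : Obj 𝒳) {U' U'' : C} (k : U' ⟶ X.U) (k' : U'' ⟶ U') :
    re (re X k) k' = re X (k' ≫ k) := by
  simp

lemma pbMap_congr {Y X : Obj 𝒳} (h : Y = X) :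
    eqToHom (congrArg pb h) ≫ pbMap X = pbMap Y ≫ eqToHom (congrArg Obj.x h) := by
  subst h; simp

lemma eqToHom_obj {Y X : Obj 𝒳} (h : Y = X) :
    (eqToHom h : Y ⟶ X) = (eqToHom (congrArg pb h) : pb Y ⟶ pb X) := by
  subst h; rfl

lemma isHomLift_eqToHom_pb {Y X : Obj 𝒳} (h : Y = X) :
    𝒳.p.IsHomLift (𝟙 Y.U) (eqToHom (congrArg pb h)) := by
  subst h
  rw [eqToHom_refl]
  exact IsHomLift.id (pb_proj Y)

lemma can_id (X : Obj 𝒳) : can X (𝟙 _) = eqToHom (congrArg pb (re_id X)) := by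
  have := isHomLift_eqToHom_pb (re_id X)
  apply IsStronglyCartesian.ext 𝒳.p X.f (pbMap X) (𝟙 X.U)
  rw [can_fac, pbMap_congr (re_id X)]
  simp

lemma can_comp (X : Obj 𝒳) {U' U'' : C} (k : U' ⟶ X.U) (k' : U'' ⟶ U') :
    can (re X k) k' ≫ can X k = eqToHom (congrArg pb (re_re X k k')) ≫ can X (k' ≫ k) := by
  have := isHomLift_eqToHom_pb (re_re X k k')
  have a1 : 𝒳.p.IsHomLift k' (can (re X k) k') := can_lift (re X k) k'
  have a2 : 𝒳.p.IsHomLift k (can X k) := can_lift X k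
  have l1 : 𝒳.p.IsHomLift (k' ≫ k) (can (re X k) k' ≫ can X k) :=
    IsHomLift.comp 𝒳.p k' k (can (re X k) k') (can X k)
  have l2 : 𝒳.p.IsHomLift (k' ≫ k) (eqToHom (congrArg pb (re_re X k k')) ≫ can X (k' ≫ k)) := by
    have : 𝒳.p.IsHomLift (𝟙 U'' ≫ k' ≫ k) (eqToHom (congrArg pb (re_re X k k')) ≫ can X (k' ≫ k)) :=
      inferInstance
    simpa using this
  apply IsStronglyCartesian.ext 𝒳.p X.f (pbMap X) (k' ≫ k)
  rw [Category.assoc, can_fac, can_fac (re X k) k', Category.assoc, can_fac,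
    pbMap_congr (re_re X k k')]
  simp

lemma can_of_eq_id (X : Obj 𝒳) (k : X.U ⟶ X.U) (hk : k = 𝟙 _) :
    ∃ h : re X k = X, can X k = eqToHom (congrArg pb h) := by
  subst hk
  exact ⟨re_id X, can_id X⟩

lemma can_comp' (X : Obj 𝒳) {U' U'' : C} (k₁ : U' ⟶ X.U) (k₂ : U'' ⟶ U') (k₃ : U'' ⟶ X.U)
    (hk : k₂ ≫ k₁ = k₃) :
    ∃ h : re (re X k₁) k₂ = re X k₃,
      can (re X k₁) k₂ ≫ can X k₁ = eqToHom (congrArg pb h) ≫ can X k₃ := by
  subst hk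
  exact ⟨re_re X k₁ k₂, can_comp X k₁ k₂⟩

lemma base_eq (a : Obj 𝒳) {S : C} (ha : (𝒳' 𝒳).p.obj a = S) : S = a.U :=
  ha.symm.trans (pb_proj a)

variable (𝒳) in
/-- the split cleavage of the model -/
noncomputable def K' : FibCat.Cleavage (𝒳' 𝒳).p where
  obj {R S a} ha g := re a (g ≫ eqToHom (base_eq a ha))
  lift {R S a} ha g := can a (g ≫ eqToHom (base_eq a ha))
  isCartesian {R S a} ha g := by
    have h1 : 𝒳.p.IsCartesian (g ≫ eqToHom (base_eq a ha)) (can a (g ≫ eqToHom (base_eq a ha))) :=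
      inferInstance
    have h2 : 𝒳.p.IsCartesian g (can a (g ≫ eqToHom (base_eq a ha))) :=
      FibCat.Cleavage.isCartesian_of_comp_eqToHom g (base_eq a ha) _
    have h3 : 𝒳.p.IsCartesian g ((ι 𝒳).map (X := re a (g ≫ eqToHom (base_eq a ha))) (Y := a)
        (can a (g ≫ eqToHom (base_eq a ha)))) := h2
    exact isCartesian_of_map 𝒳.p (ι 𝒳) g (y' := re a (g ≫ eqToHom (base_eq a ha))) (y := a)
      (can a (g ≫ eqToHom (base_eq a ha)))

lemma K'_isSplitting : (K' 𝒳).IsSplitting := by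
  constructor
  · intro S a ha
    obtain rfl : S = a.U := base_eq a ha
    obtain ⟨h, e⟩ := can_of_eq_id a (𝟙 a.U ≫ eqToHom (base_eq a ha)) (by simp)
    refine ⟨h, ?_⟩
    rw [eqToHom_obj]
    exact e
  · intro S T W f₁ g a ha
    obtain rfl : S = a.U := base_eq a ha
    obtain ⟨h, e⟩ := can_comp' a (f₁ ≫ eqToHom (base_eq a ha))
      (g ≫ eqToHom (base_eq (re a (f₁ ≫ eqToHom (base_eq a ha))) ((K' 𝒳).obj_proj ha f₁)))
      ((g ≫ f₁) ≫ eqToHom (base_eq a ha)) (by simp)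
    refine ⟨h, ?_⟩
    rw [eqToHom_obj]
    exact e

open Groth.Agent.Lib.Helper24.ClvSplit Groth.Agent.Lib.Helper24.FibCatEquiv
open Pseudofunctor CoGrothendieck Opposite

variable (𝒳) in
/-- the strict functor of fibres of the split model -/
noncomputable abbrev FF : Cᵒᵖ ⥤ Cat.{v, max u v} := splitF (K' 𝒳) K'_isSplitting

variable (𝒳) in
/-- the equivalence from the Grothendieck construction to `𝒳` -/
noncomputable def GG : BasedCategory.ofFunctor (forget (FF 𝒳).toPseudofunctor') ⥤ᵇ 𝒳 where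
  toFunctor := PsiF (K' 𝒳) K'_isSplitting ⋙ ι 𝒳
  w := PsiF_comp_p (K' 𝒳) K'_isSplitting

instance : (GG 𝒳).toFunctor.Full :=
  inferInstanceAs (PsiF (K' 𝒳) K'_isSplitting ⋙ ι 𝒳).Full
instance : (GG 𝒳).toFunctor.Faithful :=
  inferInstanceAs (PsiF (K' 𝒳) K'_isSplitting ⋙ ι 𝒳).Faithful

variable (𝒳) in
noncomputable def liftDataGG : LiftData (GG 𝒳) where
  ξ x := ⟨(𝒳' 𝒳).p.obj (ofObj x),
    (Fiber.mk (p := (𝒳' 𝒳).p) (a := ofObj x) rfl : (𝒳' 𝒳).p.Fiber ((𝒳' 𝒳).p.obj (ofObj x)))⟩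
  e x := @asIso _ _ _ _ (pbMap (ofObj x)) (isIso_pbMap_ofObj x)
  he x := inferInstanceAs (𝒳.p.IsHomLift (ofObj x).f (pbMap (ofObj x)))

theorem isEquivOver_GG : FibCat.IsEquivOver (GG 𝒳) := isEquivOver_of_liftData (liftDataGG 𝒳)

theorem exists_split_model :
    ∃ (F : Cᵒᵖ ⥤ Cat.{v, max u v})
      (E : 𝒳 ⥤ᵇ BasedCategory.ofFunctor (Pseudofunctor.CoGrothendieck.forget F.toPseudofunctor')),
      FibCat.IsEquivOver E ∧ ∀ U : Cᵒᵖ, Nonempty (F.obj U ≌ (𝒳' 𝒳).p.Fiber U.unop) := by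
  obtain ⟨E, hE⟩ := Groth.Agent.Lib.Helper24.FibCatEquiv.exists_inverse_isEquivOver (GG 𝒳) isEquivOver_GG
  exact ⟨FF 𝒳, E, hE, fun U => ⟨CategoryTheory.Equivalence.refl⟩⟩

variable (𝒳) in
noncomputable def liftDataιB : LiftData (ιB 𝒳) where
  ξ x := ofObj x
  e x := @asIso _ _ _ _ (pbMap (ofObj x)) (isIso_pbMap_ofObj x)
  he x := inferInstanceAs (𝒳.p.IsHomLift (ofObj x).f (pbMap (ofObj x)))

instance : (ιB 𝒳).toFunctor.Full := inferInstanceAs (ι 𝒳).Full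
instance : (ιB 𝒳).toFunctor.Faithful := inferInstanceAs (ι 𝒳).Faithful

theorem isEquivOver_ιB : FibCat.IsEquivOver (ιB 𝒳) := isEquivOver_of_liftData (liftDataιB 𝒳)

end Model

end Groth.Agent.Lib.Helper24.SplitModel
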