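import Mathlib
import Groth.Prelude.Def_AlgSpCov
import Groth.Agent.Lib.Helper14.AlgSpLocP2
import Groth.Agent.Lib.Helper14.AlgSpLocP3
import Groth.Agent.Lib.Helper14.AlgSpPoints
import Groth.Agent.Lib.Helper14.AlgSpFibre
import Groth.Agent.Lib.Helper14.AlgSpBasic2

/-!
# `LocP P` is τ-local on the source when `P` is (helper24)

For `τ` one of fpqc, fppf, smooth, etale: if `P` is τ-local on the source for schemes then the
chart-wise property `AlgSp.LocP P` is τ-local on the source for algebraic spaces.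
-/

set_option autoImplicit false
universe u
open CategoryTheory CategoryTheory.Limits AlgebraicGeometry Opposite AlgSp
open Groth.Agent.Lib.Helper14.AS

namespace Groth.Agent.Lib.Helper24.SrcLocP

variable {S : Scheme.{u}}

/-- What is needed of a precoverage `K` on schemes and the class `Q` of its covering maps. -/
structure SrcCov (K : Precoverage Scheme.{u}) (Q : MorphismProperty Scheme.{u}) : Prop where
  cancel : ∀ ⦃X Y Z : Scheme.{u}⦄ (f : X ⟶ Y) (g : Y ⟶ Z), Q (f ≫ g) → Etale g → Q f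
  add_id : ∀ ⦃W V : Scheme.{u}⦄ (n : W ⟶ V), Q n →
    ((PreZeroHypercover.singleton.{u} n).sum (PreZeroHypercover.singleton.{u} (𝟙 V))).presieve₀ ∈ K V
  etale_surj : ∀ ⦃W U : Scheme.{u}⦄ (e : W ⟶ U), Etale e → Surjective e →
    Presieve.singleton e ∈ K U

theorem SrcCov.pre {K : Precoverage Scheme.{u}} {Q : MorphismProperty Scheme.{u}} (hK : SrcCov K Q)
    {P : MorphismProperty Scheme.{u}} [P.IsLocalAtSource K] {W V₀ V : Scheme.{u}} (n : W ⟶ V₀)
    (k : V₀ ⟶ V) (hn : Q n) (hk : P k) : P (n ≫ k) :=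
  MorphismProperty.IsLocalAtSource.comp (hK.add_id n hn) n
    (Presieve.ofArrows.mk (ι := PUnit.{u + 1} ⊕ PUnit.{u + 1}) (Sum.inl PUnit.unit)) hk

set_option backward.isDefEq.respectTransparency.types false in
/-- Precomposition with a covering-type morphism keeps `LocP P`. -/
theorem locP_precomp {K : Precoverage Scheme.{u}} {Q P : MorphismProperty Scheme.{u}}
    (hK : SrcCov K Q) [P.IsLocalAtSource K] {X' X Y : Sp S} (hX : IsAlgSpace X) (g : X' ⟶ X)
    (f : X ⟶ Y) (hg : LocP Q g) (hf : LocP P f) : LocP P (g ≫ f) := by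
  intro U V a b h ha hb comm
  obtain ⟨U₀, p, hp, hps⟩ := hX.atlas
  -- W = U ×_X U₀
  have sqW := hp.rep.isPullback' (a ≫ g)
  have he : Etale (hp.rep.snd (a ≫ g)).left := hp.property_snd (a ≫ g)
  have hes : Surjective (hp.rep.snd (a ≫ g)).left :=
    hps.property _ _ _ (hp.rep.isPullback (a ≫ g))
  generalize hp.rep.fst' (a ≫ g) = t at sqW
  generalize hp.rep.snd (a ≫ g) = e at sqW he hes
  -- V₀ = U₀ ×_Y V
  have sqV := hb.rep.isPullback' (p ≫ f)
  have hr : Etale (hb.rep.snd (p ≫ f)).left := hb.property_snd (p ≫ f)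
  generalize hb.rep.fst' (p ≫ f) = k at sqV
  generalize hb.rep.snd (p ≫ f) = r at sqV hr
  -- n : W ⟶ V₀
  have hcomm : (yon S).map (e ≫ h) ≫ b = (yon S).map t ≫ (p ≫ f) := by
    rw [Functor.map_comp, Category.assoc, ← comm, ← Category.assoc _ p f, sqW.w]
    simp only [Category.assoc]
  obtain ⟨n, hn⟩ := (yon S).map_surjective (sqV.lift _ _ hcomm)
  have hnk : n ≫ k = e ≫ h :=
    (yon S).map_injective (by rw [Functor.map_comp, hn, sqV.lift_fst])
  have hnr : n ≫ r = t :=
    (yon S).map_injective (by rw [Functor.map_comp, hn, sqV.lift_snd])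
  have hQt : Q t.left :=
    hg ((yon S).map e ≫ a) p t (repWith_comp _ ((repWith_yon_map_iff _ _).2 he) ha) hp
      (by rw [Category.assoc]; exact sqW.w.symm)
  have hQn : Q n.left :=
    hK.cancel n.left r.left (by rw [← Over.comp_left, hnr]; exact hQt) hr
  have hPk : P k.left :=
    hf ((yon S).map r ≫ p) b k (repWith_comp _ ((repWith_yon_map_iff _ _).2 hr) hp) hb
      (by rw [Category.assoc]; exact sqV.w.symm)
  have h1 : P (e.left ≫ h.left) := by
    rw [← Over.comp_left, ← hnk, Over.comp_left]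
    exact hK.pre n.left k.left hQn hPk
  refine MorphismProperty.IsLocalAtSource.of_forall_comp (hK.etale_surj e.left he hes) ?_
  rintro _ _ ⟨⟩
  exact h1

set_option backward.isDefEq.respectTransparency.types false in
/-- `LocP P` can be checked on a covering, given that charts of the covering give `K`-coverings. -/
theorem locP_of_cover {K : Precoverage Scheme.{u}} {Q P : MorphismProperty Scheme.{u}}
    [P.IsLocalAtSource K] {ι : Type u} {X Y : Sp S} (Xi : ι → Sp S) (g : ∀ i, Xi i ⟶ X)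
    (hX : IsAlgSpace X) (hXi : ∀ i, IsAlgSpace (Xi i)) (hQ : ∀ i, LocP Q (g i))
    (hcov : ∀ {U : Over S} (a : (yon S).obj U ⟶ X), RepWith @Etale a →
      ∀ (W : ι → Over S) (w : ∀ i, W i ⟶ U) (q : ∀ i, (yon S).obj (W i) ⟶ pullback (g i) a),
      (∀ i, RepWith @Etale (q i)) → (∀ i, RepWith @Surjective (q i)) →
      (∀ i, q i ≫ pullback.snd (g i) a = (yon S).map (w i)) → (∀ i, Q (w i).left) →
      Presieve.ofArrows (fun i => (W i).left) (fun i => (w i).left) ∈ K U.left)
    (f : X ⟶ Y) (H : ∀ i, LocP P (g i ≫ f)) : LocP P f := by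
  intro U V a b h ha hb comm
  have hT : ∀ i, IsAlgSpace (pullback (g i) a) := fun i =>
    isAlgSpace_of_isPullback (repDiag_of_isAlgSpace hX) (hXi i) (IsAlgSpace.yon_obj U)
      (IsPullback.of_hasPullback _ _)
  choose W q hq hqs using fun i => (hT i).atlas
  choose w hw using fun i => (yon S).map_surjective (q i ≫ pullback.snd (g i) a)
  have hfst : ∀ i, RepWith @Etale (pullback.fst (g i) a) := fun i =>
    repWith_of_isPullback _ (IsPullback.of_hasPullback (g i) a).flip ha
  have hQw : ∀ i, Q (w i).left := fun i =>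
    hQ i (q i ≫ pullback.fst _ _) a (w i) (repWith_comp _ (hq i) (hfst i)) ha
      (by rw [Category.assoc, pullback.condition, ← Category.assoc, ← hw i])
  have hmem := hcov a ha W w q hq hqs (fun i => (hw i).symm) hQw
  refine MorphismProperty.IsLocalAtSource.of_forall_comp hmem ?_
  rintro _ _ ⟨i⟩
  rw [← Over.comp_left]
  refine H i (q i ≫ pullback.fst _ _) b (w i ≫ h) (repWith_comp _ (hq i) (hfst i)) hb ?_
  rw [Category.assoc, ← Category.assoc (pullback.fst _ _), pullback.condition, Category.assoc,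
    comm, Functor.map_comp, ← Category.assoc, ← Category.assoc, hw i, Category.assoc]

/-- Charts of a covering that is jointly surjective on points give jointly surjective families. -/
theorem mem_precoverage_of_isCover {Q : MorphismProperty Scheme.{u}} {ι : Type u} {X : Sp S}
    (Xi : ι → Sp S) (g : ∀ i, Xi i ⟶ X)
    (hcov : ∀ x : Points X, ∃ i, x ∈ Set.range (Points.map (g i)))
    {U : Over S} (a : (yon S).obj U ⟶ X) (W : ι → Over S) (w : ∀ i, W i ⟶ U)
    (q : ∀ i, (yon S).obj (W i) ⟶ pullback (g i) a) (hqs : ∀ i, RepWith @Surjective (q i))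
    (hw : ∀ i, q i ≫ pullback.snd (g i) a = (yon S).map (w i)) (hQw : ∀ i, Q (w i).left) :
    Presieve.ofArrows (fun i => (W i).left) (fun i => (w i).left) ∈
      Scheme.precoverage Q U.left := by
  rw [Scheme.ofArrows_mem_precoverage_iff]
  refine ⟨fun u => ?_, hQw⟩
  obtain ⟨i, xi, hxi⟩ := hcov (Points.ofPt a u)
  rw [Points.ofPt_eq_map_ofScheme a] at hxi
  obtain ⟨z, hz1, hz2⟩ :=
    points_exists_of_isPullback (IsPullback.of_hasPullback (g i) a) xi _ hxi
  obtain ⟨t, rfl⟩ := ofPt_surjective_of_repWith (hqs i) z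
  refine ⟨i, t, ?_⟩
  rw [Points.map_ofPt, hw i, Points.ofPt_eq_map_ofScheme] at hz2
  exact (Points.schemeHomeo U).injective ((Points.map_yon_map_apply (w i) t).symm.trans hz2)

set_option backward.isDefEq.respectTransparency.types false in
/-- Charts of an fpqc covering of algebraic spaces give quasi-compact families of schemes. -/
theorem quasiCompactCover_of_isFpqcCover {ι : Type u} {X : Sp S}
    (Xi : ι → Sp S) (g : ∀ i, Xi i ⟶ X)
    (hcov : ∀ (Z : Over S), IsAffine Z.left → ∀ (h : (yon S).obj Z ⟶ X),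
      ∃ (m : ℕ) (W : Fin m → Over S) (c : ∀ j, W j ⟶ Z),
        (∀ j, IsAffine (W j).left) ∧ (∀ j, Flat (c j).left) ∧
        (∀ z : ↥Z.left, ∃ j, z ∈ Set.range (c j).left) ∧
        ∀ j, ∃ (i : _) (l : (yon S).obj (W j) ⟶ Xi i), l ≫ g i = (yon S).map (c j) ≫ h)
    {U : Over S} (a : (yon S).obj U ⟶ X) (W : ι → Over S) (w : ∀ i, W i ⟶ U)
    (q : ∀ i, (yon S).obj (W i) ⟶ pullback (g i) a) (hq : ∀ i, RepWith @Etale (q i))
    (hqs : ∀ i, RepWith @Surjective (q i))
    (hw : ∀ i, q i ≫ pullback.snd (g i) a = (yon S).map (w i)) :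
    QuasiCompactCover (⟨ι, fun i => (W i).left, fun i => (w i).left⟩ :
      PreZeroHypercover.{u} U.left) := by
  refine ⟨fun {Z} hZ => ?_⟩
  let Z' : Over S := Over.mk (Z.ι ≫ U.hom)
  let incl : Z' ⟶ U := Over.homMk Z.ι rfl
  have hZ'aff : IsAffine Z'.left := hZ
  obtain ⟨m, W', c, hW'a, hW'f, hW's, hl⟩ := hcov Z' hZ'aff ((yon S).map incl ≫ a)
  choose i l hl using hl
  let s : ∀ j, (yon S).obj (W' j) ⟶ pullback (g (i j)) a := fun j =>
    pullback.lift (l j) ((yon S).map (c j ≫ incl))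
      (by rw [hl j, Functor.map_comp, Category.assoc])
  have key : ∀ j, ∃ (E : Over S) (p1 : E ⟶ W (i j)) (p2 : E ⟶ W' j), Etale p2.left ∧
      Surjective p2.left ∧ p1 ≫ w (i j) = p2 ≫ c j ≫ incl := fun j => by
    refine ⟨_, (hq (i j)).rep.fst' (s j), (hq (i j)).rep.snd (s j), (hq (i j)).property_snd (s j),
      (hqs (i j)).property _ _ _ ((hq (i j)).rep.isPullback (s j)), ?_⟩
    apply (yon S).map_injective
    rw [Functor.map_comp, ← hw, ← Category.assoc, ((hq (i j)).rep.isPullback' (s j)).w,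
      Category.assoc, pullback.lift_snd, ← Functor.map_comp]
  choose E' p1 p2 hp2 hp2s hcomp using key
  have hV : ∀ j, ∃ V : (E' j).left.Opens, IsCompact (V : Set (E' j).left) ∧
      (p2 j).left '' (V : Set (E' j).left) = Set.univ := fun j => by
    haveI := hW'a j
    have := IsCompactOpenCovered.of_isOpenMap (f := fun _ : Unit => ⇑(p2 j).left)
      (fun _ => (p2 j).left.continuous) (fun _ => (p2 j).left.isOpenMap) (U := Set.univ)
      (fun x _ => ⟨(), (p2 j).left.surjective x⟩) isOpen_univ isCompact_univ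
    rw [IsCompactOpenCovered.iff_of_unique] at this
    exact this
  choose V hVc hVeq using hV
  refine IsCompactOpenCovered.of_comp (σ := Fin m) (Y := fun j => (E' j).left)
    (fun j => ⇑(p2 j ≫ c j ≫ incl).left) (a := i) (fun j => ⇑(p1 j).left)
    (fun j => (p1 j).left.continuous) (fun j => ?_) (fun i => (w i).left.continuous) Z.2 ?_
  · rw [← hcomp j]
    rfl
  · refine IsCompactOpenCovered.of_finite (κ := Fin m) id V hVc ?_
    ext x
    simp only [id, Set.mem_iUnion, Set.mem_image, SetLike.mem_coe]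
    constructor
    · rintro ⟨j, y, -, rfl⟩
      change (Z.ι) _ ∈ (Z : Set U.left)
      rw [← Z.range_ι]
      exact ⟨_, rfl⟩
    · intro hx
      obtain ⟨j, z, hz⟩ := hW's ⟨x, hx⟩
      have : z ∈ (p2 j).left '' (V j : Set (E' j).left) := by rw [hVeq j]; trivial
      obtain ⟨y, hy, rfl⟩ := this
      refine ⟨j, y, hy, ?_⟩
      change Z.ι ((c j).left ((p2 j).left y)) = x
      rw [hz]
      rfl

set_option backward.isDefEq.respectTransparency.types false in
/-- Charts of an fpqc covering of algebraic spaces give fpqc coverings of schemes. -/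
theorem mem_fpqcPrecoverage_of_isFpqcCover {ι : Type u} {X : Sp S}
    (Xi : ι → Sp S) (g : ∀ i, Xi i ⟶ X)
    (hcov : ∀ (Z : Over S), IsAffine Z.left → ∀ (h : (yon S).obj Z ⟶ X),
      ∃ (m : ℕ) (W : Fin m → Over S) (c : ∀ j, W j ⟶ Z),
        (∀ j, IsAffine (W j).left) ∧ (∀ j, Flat (c j).left) ∧
        (∀ z : ↥Z.left, ∃ j, z ∈ Set.range (c j).left) ∧
        ∀ j, ∃ (i : _) (l : (yon S).obj (W j) ⟶ Xi i), l ≫ g i = (yon S).map (c j) ≫ h)
    {U : Over S} (a : (yon S).obj U ⟶ X) (W : ι → Over S) (w : ∀ i, W i ⟶ U)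
    (q : ∀ i, (yon S).obj (W i) ⟶ pullback (g i) a) (hq : ∀ i, RepWith @Etale (q i))
    (hqs : ∀ i, RepWith @Surjective (q i))
    (hw : ∀ i, q i ≫ pullback.snd (g i) a = (yon S).map (w i)) (hQw : ∀ i, Flat (w i).left) :
    Presieve.ofArrows (fun i => (W i).left) (fun i => (w i).left) ∈
      Scheme.fpqcPrecoverage U.left := by
  have hqc := quasiCompactCover_of_isFpqcCover Xi g hcov a W w q hq hqs hw
  refine ⟨Scheme.presieve₀_mem_qcPrecoverage_iff.2 hqc, ?_⟩
  rw [Scheme.ofArrows_mem_precoverage_iff]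
  refine ⟨fun u => ?_, hQw⟩
  obtain ⟨Z, hZ, huZ, -⟩ := (TopologicalSpace.Opens.isBasis_iff_nbhd.mp U.left.isBasis_affineOpens)
    (show u ∈ (⊤ : U.left.Opens) from trivial)
  obtain ⟨s, -, V, -, heq⟩ := hqc.isCompactOpenCovered_of_isAffineOpen hZ
  have : u ∈ (Z : Set U.left) := huZ
  rw [← heq] at this
  simp only [Set.mem_iUnion] at this
  obtain ⟨i, _, y, -, rfl⟩ := this
  exact ⟨i, y, rfl⟩

theorem srcCov_fpqc : SrcCov Scheme.fpqcPrecoverage.{u} @Flat where
  cancel _ _ _ f g h hg := etLocal_flat.of_comp_etale f g h hg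
  add_id W V n hn := by
    refine ⟨Scheme.presieve₀_mem_qcPrecoverage_iff.2 inferInstance,
      (Scheme.presieve₀_mem_precoverage_iff _).2 ?_⟩
    refine ⟨fun x => ⟨Sum.inr PUnit.unit, x, rfl⟩, ?_⟩
    rintro (_ | _)
    · exact hn
    · exact (inferInstance : Flat (𝟙 V))
  etale_surj W U e he hes :=
    Scheme.fppfPrecoverage_le_fpqcPrecoverage _ (Scheme.Hom.singleton_mem_fppfPrecoverage e)

theorem srcCov_precoverage {Q : MorphismProperty Scheme.{u}} (hQ : EtLocal Q)
    (hle : (@Etale : MorphismProperty Scheme.{u}) ≤ Q) : SrcCov (Scheme.precoverage Q) Q where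
  cancel _ _ _ f g h hg := hQ.of_comp_etale f g h hg
  add_id W V n hn := by
    refine (Scheme.presieve₀_mem_precoverage_iff _).2 ?_
    refine ⟨fun x => ⟨Sum.inr PUnit.unit, x, rfl⟩, ?_⟩
    rintro (_ | _)
    · exact hn
    · exact hle _ _ _ (inferInstance : Etale (𝟙 V))
  etale_surj W U e he hes := by
    rw [Scheme.singleton_mem_precoverage_iff]
    exact ⟨e.surjective, hle _ _ _ he⟩

end Groth.Agent.Lib.Helper24.SrcLocP
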