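import Mathlib

set_option backward.isDefEq.respectTransparency false
set_option backward.isDefEq.respectTransparency.types false
set_option autoImplicit false

universe u

open CategoryTheory Simplicial SimplexCategory Truncated
open Opposite Category Functor Limits StructuredArrow

namespace Groth.Agent.Lib.Helper24.StdCosk

/-- A morphism with domain `⦋0⦌` or `⦋1⦌` as an object of the comma category. -/
abbrev strArrowMk₁ {i : ℕ} {m : ℕ} (φ : ⦋i⦌ ⟶ ⦋m⦌) (hi : i ≤ 1 := by lia) :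
    StructuredArrow (op ⦋m⦌) (Truncated.inclusion 1).op :=
  StructuredArrow.mk (Y := op ⦋i⦌₁) φ.op

variable {n : ℕ}

/-- Evaluation of a simplex of the standard simplex. -/
def ev {d : ℕ} (v : (Δ[n] : SSet.{u}) _⦋d⦌) (k : Fin (d + 1)) : Fin (n + 1) := v k

theorem ev_map {d d' : ℕ} (g : ⦋d'⦌ ⟶ ⦋d⦌) (v : (Δ[n] : SSet.{u}) _⦋d⦌) (k : Fin (d' + 1)) :
    ev ((Δ[n] : SSet.{u}).map g.op v) k = ev v (g.toOrderHom k) := rfl

theorem ev_ext {d : ℕ} (v w : (Δ[n] : SSet.{u}) _⦋d⦌) (h : ∀ k, ev v k = ev w k) : v = w :=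
  SSet.stdSimplex.ext v w h

theorem ev_mono {d : ℕ} (v : (Δ[n] : SSet.{u}) _⦋d⦌) : Monotone (ev v) :=
  SSet.stdSimplex.monotone_apply v

/-- The vertex function of a cone element. -/
noncomputable def vert {m : ℕ}
    (s : Cone (proj (op ⦋m⦌) (Truncated.inclusion 1).op ⋙
      (Truncated.inclusion 1).op ⋙ (Δ[n] : SSet.{u}))) (x : s.pt) (i : Fin (m + 1)) :
    Fin (n + 1) :=
  ev (d := 0) (s.π.app (strArrowMk₁ (⦋0⦌.const ⦋m⦌ i)) x) 0

theorem vert_eq {m i : ℕ} (hi : i ≤ 1)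
    (s : Cone (proj (op ⦋m⦌) (Truncated.inclusion 1).op ⋙
      (Truncated.inclusion 1).op ⋙ (Δ[n] : SSet.{u}))) (x : s.pt)
    (f : ⦋i⦌ ⟶ ⦋m⦌) (k : Fin (i + 1)) :
    vert s x (f.toOrderHom k) = ev (d := i) (s.π.app (strArrowMk₁ f hi) x) k := by
  let α : strArrowMk₁ f hi ⟶ strArrowMk₁ (⦋0⦌.const ⦋m⦌ (f.toOrderHom k)) :=
    StructuredArrow.homMk ((Hom.tr (⦋0⦌.const ⦋i⦌ k)).op) (by simp; rfl)
  have h := ConcreteCategory.congr_hom (s.w α) x
  have h' := congrArg (fun v => ev (n := n) (d := 0) v 0) h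
  exact h'.symm.trans rfl

theorem vert_mono {m : ℕ}
    (s : Cone (proj (op ⦋m⦌) (Truncated.inclusion 1).op ⋙
      (Truncated.inclusion 1).op ⋙ (Δ[n] : SSet.{u}))) (x : s.pt) :
    Monotone (vert s x) := by
  intro i j hij
  have h0 := vert_eq (le_refl 1) s x (mkOfLe i j hij) 0
  have h1 := vert_eq (le_refl 1) s x (mkOfLe i j hij) 1
  have e0 : (mkOfLe i j hij).toOrderHom 0 = i := rfl
  have e1 : (mkOfLe i j hij).toOrderHom 1 = j := rfl
  rw [e0] at h0
  rw [e1] at h1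
  rw [h0, h1]
  exact ev_mono _ (by decide)

/-- The lift. -/
noncomputable def lift {m : ℕ}
    (s : Cone (proj (op ⦋m⦌) (Truncated.inclusion 1).op ⋙
      (Truncated.inclusion 1).op ⋙ (Δ[n] : SSet.{u}))) (x : s.pt) : (Δ[n] : SSet.{u}) _⦋m⦌ :=
  SSet.stdSimplex.objMk ⟨vert s x, vert_mono s x⟩

theorem ev_lift {m : ℕ}
    (s : Cone (proj (op ⦋m⦌) (Truncated.inclusion 1).op ⋙
      (Truncated.inclusion 1).op ⋙ (Δ[n] : SSet.{u}))) (x : s.pt) (i : Fin (m + 1)) :
    ev (lift s x) i = vert s x i := rfl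

/-- `Δ[n]` is pointwise right Kan extended from its 1-truncation. -/
noncomputable def isPointwiseRightKanExtensionAt (m : ℕ) :
    (SSet.Truncated.rightExtensionInclusion (Δ[n] : SSet.{u}) 1).IsPointwiseRightKanExtensionAt
      ⟨⦋m⦌⟩ where
  lift s := ↾fun x ↦ lift s x
  fac s j := by
    ext x
    obtain ⟨⟨i, hi⟩, ⟨f : _ ⟶ _⟩, rfl⟩ := j.mk_surjective
    obtain ⟨i, rfl⟩ : ∃ j, ⦋j⦌ = i := ⟨_, i.mk_len⟩
    dsimp at hi ⊢
    apply ev_ext
    intro k
    have h1 := vert_eq hi s x f k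
    exact (show _ = vert s x (f.toOrderHom k) from rfl).trans h1
  uniq s m' hm := by
    ext x
    apply ev_ext
    intro i
    have h := ConcreteCategory.congr_hom (hm (strArrowMk₁ (⦋0⦌.const ⦋m⦌ i))) x
    have h' := congrArg (fun v => ev (n := n) (d := 0) v 0) h
    exact (show _ = _ from rfl).trans h'

noncomputable def isPointwiseRightKanExtension :
    (SSet.Truncated.rightExtensionInclusion (Δ[n] : SSet.{u}) 1).IsPointwiseRightKanExtension :=
  fun D => isPointwiseRightKanExtensionAt D.unop.len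

theorem isCoskeletal : SimplicialObject.IsCoskeletal (Δ[n] : SSet.{u}) 1 where
  isRightKanExtension :=
    RightExtension.IsPointwiseRightKanExtension.isRightKanExtension
      isPointwiseRightKanExtension

end Groth.Agent.Lib.Helper24.StdCosk
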