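import Groth.Prelude.Def_AlgSt
import Groth.Agent.Lib.Helper24.FibGrpd
import Groth.Agent.Lib.Helper24.FibSet3
set_option autoImplicit false
open CategoryTheory
universe u v u₂ v₂ u₃ v₃ u₄ v₄ u₅ v₅
set_option backward.isDefEq.respectTransparency false
set_option backward.isDefEq.respectTransparency.types false

/-!
# Sections of `X ⟶ D ⟶ C`: sections over `D` versus sections over `C`
-/

namespace Groth.Agent.Lib.Helper24.StkOver
open Groth.Agent.Lib.Helper24.FibGrpd Groth.Agent.Lib.Helper24.FibSet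

variable {C : Type u} [Category.{v} C] {D : Type u₂} [Category.{v₂} D] (p : D ⥤ C)
  {X : Type u₃} [Category.{v₃} X] (F : X ⥤ D)

/-- `D` as a category over `C` -/
abbrev DC : BasedCategory.{v₂, u₂} C := BasedCategory.ofFunctor p

/-- `X` as a category over `C` -/
abbrev XC : BasedCategory.{v₃, u₃} C := BasedCategory.ofFunctor (F ⋙ p)

/-- `X` as a category over `D` -/
abbrev XD : BasedCategory.{v₃, u₃} D := BasedCategory.ofFunctor F

/-- `F` as a functor over `C` -/
def Fhat : XC p F ⥤ᵇ DC p where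
  toFunctor := F
  w := rfl

lemma isHomLift_comp_of {d d' : D} (f : d ⟶ d') {x x' : X} (φ : x ⟶ x') (hφ : F.IsHomLift f φ)
    {c c' : C} (g : c ⟶ c') (hf : p.IsHomLift g f) : (F ⋙ p).IsHomLift g φ := by
  rw [isHomLift_comp_iff]
  have := IsHomLift.fac' F f φ
  rw [this]
  infer_instance

variable {p}
variable {ℬ : BasedCategory.{v₄, u₄} C} (u : ℬ ⥤ᵇ DC p)

/-- the source `ℬ` as a category over `D` through `u` -/
abbrev src : BasedCategory.{v₄, u₄} D := BasedCategory.ofFunctor u.toFunctor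

variable {F}

/-- a section over `D` as a section over `C` -/
def down (s : src u ⥤ᵇ XD F) : ℬ ⥤ᵇ XC p F where
  toFunctor := s.toFunctor
  w := by
    have h : s.toFunctor ⋙ F = u.toFunctor := s.w
    change s.toFunctor ⋙ F ⋙ p = ℬ.p
    rw [← Functor.assoc, h]
    exact u.w

lemma app_lift_of_over {s s' : src u ⥤ᵇ XD F} (α : s ⟶ s') (b : ℬ.obj) :
    (F ⋙ p).IsHomLift (𝟙 (ℬ.p.obj b)) (α.toNatTrans.app b) := by
  have h1 : F.IsHomLift (𝟙 (u.toFunctor.obj b)) (α.toNatTrans.app b) :=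
    BasedNatTrans.app_isHomLift α b
  have h2 : p.IsHomLift (𝟙 (ℬ.p.obj b)) (𝟙 (u.toFunctor.obj b)) :=
    IsHomLift.id (u.w_obj b)
  exact isHomLift_comp_of p F _ _ h1 _ h2

/-- a morphism of sections over `D` as a morphism of sections over `C` -/
def downMap {s s' : src u ⥤ᵇ XD F} (α : s ⟶ s') : down u s ⟶ down u s' where
  toNatTrans := α.toNatTrans
  isHomLift' := fun b => app_lift_of_over u α b

@[simp] lemma downMap_app {s s' : src u ⥤ᵇ XD F} (α : s ⟶ s') (b : ℬ.obj) :
    (downMap u α).toNatTrans.app b = α.toNatTrans.app b := rfl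

lemma downMap_injective {s s' : src u ⥤ᵇ XD F} {α β : s ⟶ s'} (h : downMap u α = downMap u β) :
    α = β := by
  apply BasedNatTrans.homCategory.ext
  exact congrArg (fun t : down u s ⟶ down u s' => t.toNatTrans) h

/-- a morphism of sections over `C` whose components lie over identities of `D` -/
def up {s s' : src u ⥤ᵇ XD F} (α : down u s ⟶ down u s')
    (h : ∀ b, F.IsHomLift (𝟙 (u.toFunctor.obj b)) (α.toNatTrans.app b)) : s ⟶ s' where
  toNatTrans := α.toNatTrans
  isHomLift' := h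

@[simp] lemma downMap_up {s s' : src u ⥤ᵇ XD F} (α : down u s ⟶ down u s')
    (h : ∀ b, F.IsHomLift (𝟙 (u.toFunctor.obj b)) (α.toNatTrans.app b)) :
    downMap u (up u α h) = α := rfl

/-- an isomorphism of sections over `C` whose components lie over identities of `D` -/
def upIso {s s' : src u ⥤ᵇ XD F} (α : down u s ≅ down u s')
    (h : ∀ b, F.IsHomLift (𝟙 (u.toFunctor.obj b)) (α.hom.toNatTrans.app b)) : s ≅ s' :=
  BasedNatIso.mkNatIso ((BasedNatTrans.forgetful ℬ (XC p F)).mapIso α) h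

/-- an isomorphism of sections over `D` as an isomorphism of sections over `C` -/
def downIso {s s' : src u ⥤ᵇ XD F} (α : s ≅ s') : down u s ≅ down u s' where
  hom := downMap u α.hom
  inv := downMap u α.inv
  hom_inv_id := by
    apply BasedNatTrans.homCategory.ext
    exact congrArg (fun t : s ⟶ s => t.toNatTrans) α.hom_inv_id
  inv_hom_id := by
    apply BasedNatTrans.homCategory.ext
    exact congrArg (fun t : s' ⟶ s' => t.toNatTrans) α.inv_hom_id

/-- the canonical section over `D` attached to a section over `C` -/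
def canon (t : ℬ ⥤ᵇ XC p F) : src (BasedFunctor.comp t (Fhat p F)) ⥤ᵇ XD F where
  toFunctor := t.toFunctor
  w := rfl

lemma down_canon (t : ℬ ⥤ᵇ XC p F) : down _ (canon t) = t := rfl

section Restr
variable {𝒜 : BasedCategory.{v₅, u₅} C} (ι : 𝒜 ⥤ᵇ ℬ)

/-- the functor `ι` over `D` -/
def ιu : src (BasedFunctor.comp ι u) ⥤ᵇ src u where
  toFunctor := ι.toFunctor
  w := rfl

lemma down_restr (s : src u ⥤ᵇ XD F) :
    down (BasedFunctor.comp ι u) (BasedFunctor.comp (ιu u ι) s) = BasedFunctor.comp ι (down u s) :=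
  rfl

end Restr

section Transport
variable (hF : FibCat.IsFibGrpd F) (t : ℬ ⥤ᵇ XC p F) (σ : u ≅ BasedFunctor.comp t (Fhat p F))

/-- components of the isomorphism -/
def σapp (b : ℬ.obj) : u.toFunctor.obj b ≅ F.obj (t.toFunctor.obj b) :=
  ((BasedNatTrans.forgetful ℬ (DC p)).mapIso σ).app b

lemma σapp_hom (b : ℬ.obj) : (σapp u t σ b).hom = σ.hom.toNatTrans.app b := rfl

include hF in
lemma exists_tr (b : ℬ.obj) : ∃ (z : X) (l : z ⟶ t.toFunctor.obj b),
    F.IsHomLift (σapp u t σ b).hom l := hF.exists_lift _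

/-- the transported objects -/
noncomputable def tObj (b : ℬ.obj) : X := (exists_tr u hF t σ b).choose

/-- the comparison morphisms -/
noncomputable def tl (b : ℬ.obj) : tObj u hF t σ b ⟶ t.toFunctor.obj b :=
  (exists_tr u hF t σ b).choose_spec.choose

lemma tl_lift (b : ℬ.obj) : F.IsHomLift (σapp u t σ b).hom (tl u hF t σ b) :=
  (exists_tr u hF t σ b).choose_spec.choose_spec

lemma tl_isIso (b : ℬ.obj) : IsIso (tl u hF t σ b) := by
  have := tl_lift u hF t σ b
  exact isIso_of_isFibGrpd F hF (σapp u t σ b).hom (tl u hF t σ b)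

/-- the comparison isomorphisms -/
noncomputable def tlIso (b : ℬ.obj) : tObj u hF t σ b ≅ t.toFunctor.obj b :=
  have := tl_isIso u hF t σ b
  asIso (tl u hF t σ b)

lemma tlIso_hom_lift (b : ℬ.obj) : F.IsHomLift (σapp u t σ b).hom (tlIso u hF t σ b).hom :=
  tl_lift u hF t σ b

lemma tlIso_inv_lift (b : ℬ.obj) : F.IsHomLift (σapp u t σ b).inv (tlIso u hF t σ b).inv := by
  have := tlIso_hom_lift u hF t σ b
  exact IsHomLift.inv_lift_inv (p := F) (σapp u t σ b) (tlIso u hF t σ b)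

/-- the transported morphisms -/
noncomputable def tMap {a b : ℬ.obj} (m : a ⟶ b) : tObj u hF t σ a ⟶ tObj u hF t σ b :=
  (tlIso u hF t σ a).hom ≫ t.toFunctor.map m ≫ (tlIso u hF t σ b).inv

lemma σ_naturality {a b : ℬ.obj} (m : a ⟶ b) :
    (σapp u t σ a).hom ≫ F.map (t.toFunctor.map m) ≫ (σapp u t σ b).inv = u.toFunctor.map m := by
  have h := σ.hom.toNatTrans.naturality m
  change u.toFunctor.map m ≫ (σapp u t σ b).hom = (σapp u t σ a).hom ≫ F.map (t.toFunctor.map m)
    at h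
  rw [← Category.assoc, ← h, Category.assoc, Iso.hom_inv_id, Category.comp_id]

lemma tMap_lift {a b : ℬ.obj} (m : a ⟶ b) :
    F.IsHomLift (u.toFunctor.map m) (tMap u hF t σ m) := by
  have h1 := tlIso_hom_lift u hF t σ a
  have h2 := tlIso_inv_lift u hF t σ b
  have h3 : F.IsHomLift (F.map (t.toFunctor.map m)) (t.toFunctor.map m) := inferInstance
  have h4 : F.IsHomLift (F.map (t.toFunctor.map m) ≫ (σapp u t σ b).inv)
      (t.toFunctor.map m ≫ (tlIso u hF t σ b).inv) := IsHomLift.comp (p := F) _ _ _ _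
  have h5 : F.IsHomLift ((σapp u t σ a).hom ≫ F.map (t.toFunctor.map m) ≫ (σapp u t σ b).inv)
      (tMap u hF t σ m) := IsHomLift.comp (p := F) _ _ (tlIso u hF t σ a).hom _
  rwa [σ_naturality] at h5

/-- the transported section -/
noncomputable def transport : src u ⥤ᵇ XD F where
  toFunctor :=
    { obj := fun b : ℬ.obj => tObj (ℬ := ℬ) u hF t σ b
      map := fun {a b : ℬ.obj} (m : a ⟶ b) => tMap (ℬ := ℬ) u hF t σ m
      map_id := fun a => by simp [tMap]
      map_comp := fun m n => by simp [tMap] }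
  w := by
    refine CategoryTheory.Functor.ext (fun b => ?_) (fun a b m => ?_)
    · have := tl_lift u hF t σ b
      exact IsHomLift.domain_eq F (σapp u t σ b).hom (tl u hF t σ b)
    · have := tMap_lift u hF t σ m
      exact IsHomLift.fac' F (u.toFunctor.map m) (tMap u hF t σ m)

/-- the transported section is isomorphic to the given one -/
noncomputable def transportIso : down u (transport u hF t σ) ≅ t :=
  BasedNatIso.mkNatIso
    (NatIso.ofComponents (fun b => tlIso u hF t σ b) (fun {a b} m => by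
      change tMap u hF t σ m ≫ (tlIso u hF t σ b).hom = (tlIso u hF t σ a).hom ≫ t.toFunctor.map m
      simp [tMap]))
    (fun b => by
      change (F ⋙ p).IsHomLift (𝟙 (ℬ.p.obj b)) (tlIso u hF t σ b).hom
      have h1 := tlIso_hom_lift u hF t σ b
      have h2 : p.IsHomLift (𝟙 (ℬ.p.obj b)) (σapp u t σ b).hom := σ.hom.isHomLift' b
      exact isHomLift_comp_of p F _ _ h1 _ h2)

lemma transportIso_hom_app (b : ℬ.obj) :
    (transportIso u hF t σ).hom.toNatTrans.app b = (tlIso u hF t σ b).hom := rfl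

lemma transportIso_inv_app (b : ℬ.obj) :
    (transportIso u hF t σ).inv.toNatTrans.app b = (tlIso u hF t σ b).inv := rfl

lemma transportIso_hom_lift (b : ℬ.obj) :
    F.IsHomLift (σ.hom.toNatTrans.app b) ((transportIso u hF t σ).hom.toNatTrans.app b) :=
  tlIso_hom_lift u hF t σ b

lemma transportIso_inv_lift (b : ℬ.obj) :
    F.IsHomLift (σ.inv.toNatTrans.app b) ((transportIso u hF t σ).inv.toNatTrans.app b) :=
  tlIso_inv_lift u hF t σ b

end Transport

/-- every 2-morphism between sections of a category fibred in groupoids is invertible -/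
lemma isIso_of_isFibGrpd_target {𝒵 : BasedCategory.{v₅, u₅} C} (h𝒵 : FibCat.IsFibGrpd 𝒵.p)
    {G G' : ℬ ⥤ᵇ 𝒵} (σ : G ⟶ G') : IsIso σ := by
  have hc : ∀ b, IsIso (σ.toNatTrans.app b) := fun b => by
    have := BasedNatTrans.app_isHomLift σ b
    exact isIso_of_isFibGrpd 𝒵.p h𝒵 (𝟙 (ℬ.p.obj b)) (σ.toNatTrans.app b)
  let e : G ≅ G' := BasedNatIso.mkNatIso
    (NatIso.ofComponents (fun b => asIso (σ.toNatTrans.app b)) (fun m => σ.toNatTrans.naturality m))
    (fun b => BasedNatTrans.app_isHomLift σ b)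
  have : σ = e.hom := by
    apply BasedNatTrans.homCategory.ext
    rfl
  rw [this]; infer_instance

/-- right whiskering of an isomorphism -/
def wrIso {𝒜 : BasedCategory.{v₅, u₅} C} {𝒴 : BasedCategory.{v₄, u₄} C} {𝒵 : BasedCategory.{v₂, u₂} C}
    {G G' : 𝒜 ⥤ᵇ 𝒴} (α : G ≅ G') (H : 𝒴 ⥤ᵇ 𝒵) :
    BasedFunctor.comp G H ≅ BasedFunctor.comp G' H :=
  BasedNatIso.mkNatIso
    (NatIso.ofComponents (fun a => H.toFunctor.mapIso (((BasedNatTrans.forgetful _ _).mapIso α).app a))
      (fun {a b} m => by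
        change H.toFunctor.map (G.toFunctor.map m) ≫ H.toFunctor.map (α.hom.toNatTrans.app b) =
          H.toFunctor.map (α.hom.toNatTrans.app a) ≫ H.toFunctor.map (G'.toFunctor.map m)
        rw [← Functor.map_comp, ← Functor.map_comp, α.hom.toNatTrans.naturality]))
    (fun a => by
      change 𝒵.p.IsHomLift (𝟙 (𝒜.p.obj a)) (H.toFunctor.map (α.hom.toNatTrans.app a))
      have := BasedNatTrans.app_isHomLift α.hom a
      infer_instance)

lemma wrIso_hom_app {𝒜 : BasedCategory.{v₅, u₅} C} {𝒴 : BasedCategory.{v₄, u₄} C}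
    {𝒵 : BasedCategory.{v₂, u₂} C} {G G' : 𝒜 ⥤ᵇ 𝒴} (α : G ≅ G') (H : 𝒴 ⥤ᵇ 𝒵) (a : 𝒜.obj) :
    (wrIso α H).hom.toNatTrans.app a = H.toFunctor.map (α.hom.toNatTrans.app a) := rfl

section CompDown

/-- the image in `D` of a section over `D` is the structure functor of the source -/
def compDownIso (s : src u ⥤ᵇ XD F) : BasedFunctor.comp (down u s) (Fhat p F) ≅ u :=
  BasedNatIso.mkNatIso
    (NatIso.ofComponents (fun b => eqToIso (s.w_obj b)) (fun {a b} m => by
      have h := Functor.congr_hom s.w m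
      change F.map (s.toFunctor.map m) = _ at h
      change F.map (s.toFunctor.map m) ≫ eqToHom (s.w_obj b) =
        eqToHom (s.w_obj a) ≫ u.toFunctor.map m
      rw [h]
      simp only [Category.assoc, eqToHom_trans, eqToHom_refl, Category.comp_id]
      rfl))
    (fun b => by
      change p.IsHomLift (𝟙 (ℬ.p.obj b)) (eqToHom (s.w_obj b))
      exact IsHomLift.eqToHom_domain_lift_id _ ((down u s).w_obj b))

lemma compDownIso_hom_app (s : src u ⥤ᵇ XD F) (b : ℬ.obj) :
    (compDownIso u s).hom.toNatTrans.app b = eqToHom (s.w_obj b) := rfl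

lemma compDownIso_inv_app (s : src u ⥤ᵇ XD F) (b : ℬ.obj) :
    (compDownIso u s).inv.toNatTrans.app b = eqToHom (s.w_obj b).symm := rfl

lemma isHomLift_id_iff_map_eq (s s' : src u ⥤ᵇ XD F) (b : ℬ.obj)
    (φ : s.toFunctor.obj b ⟶ s'.toFunctor.obj b) :
    F.IsHomLift (𝟙 (u.toFunctor.obj b)) φ ↔
      F.map φ = eqToHom (s.w_obj b) ≫ eqToHom (s'.w_obj b).symm := by
  constructor
  · intro h
    have := IsHomLift.fac' F (𝟙 (u.toFunctor.obj b)) φ
    rw [this]; simp
  · intro h
    exact IsHomLift.of_fac' F _ _ (s.w_obj b) (s'.w_obj b)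
      (h.trans (congrArg (fun x => eqToHom (s.w_obj b) ≫ x) (Category.id_comp _).symm))

end CompDown

section L1
variable {𝒜 : BasedCategory.{v₅, u₅} C} (ι : 𝒜 ⥤ᵇ ℬ)

theorem faithful_over [(Stk.restr ι (XC p F)).Faithful] :
    (Stk.restr (ιu u ι) (XD F)).Faithful := by
  constructor
  intro s s' α β h
  apply downMap_injective u
  apply (Stk.restr ι (XC p F)).map_injective
  apply BasedNatTrans.homCategory.ext
  ext a
  exact congrArg (fun t : (Stk.restr (ιu u ι) (XD F)).obj s ⟶ (Stk.restr (ιu u ι) (XD F)).obj s' =>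
    t.toNatTrans.app a) h

theorem full_over [(Stk.restr ι (XC p F)).Full] [(Stk.restr ι (DC p)).Faithful] :
    (Stk.restr (ιu u ι) (XD F)).Full := by
  constructor
  intro s s' γ
  let γd : (Stk.restr ι (XC p F)).obj (down u s) ⟶ (Stk.restr ι (XC p F)).obj (down u s') :=
    downMap (BasedFunctor.comp ι u) γ
  obtain ⟨α, hα⟩ := (Stk.restr ι (XC p F)).map_surjective γd
  have happ : ∀ a, α.toNatTrans.app (ι.toFunctor.obj a) = γ.toNatTrans.app a := fun a =>
    congrArg (fun t : (Stk.restr ι (XC p F)).obj (down u s) ⟶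
      (Stk.restr ι (XC p F)).obj (down u s') => t.toNatTrans.app a) hα
  have key : BasedCategory.whiskerRight α (Fhat p F) =
      (compDownIso u s).hom ≫ (compDownIso u s').inv := by
    apply (Stk.restr ι (DC p)).map_injective
    apply BasedNatTrans.homCategory.ext
    ext a
    change F.map (α.toNatTrans.app (ι.toFunctor.obj a)) =
      eqToHom (s.w_obj (ι.toFunctor.obj a)) ≫ eqToHom (s'.w_obj (ι.toFunctor.obj a)).symm
    rw [happ]
    have h2 : F.IsHomLift (𝟙 (u.toFunctor.obj (ι.toFunctor.obj a))) (γ.toNatTrans.app a) :=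
      γ.isHomLift' a
    exact (isHomLift_id_iff_map_eq u s s' (ι.toFunctor.obj a) (γ.toNatTrans.app a)).mp h2
  have hl : ∀ b, F.IsHomLift (𝟙 (u.toFunctor.obj b)) (α.toNatTrans.app b) := fun b => by
    rw [isHomLift_id_iff_map_eq u s s' b]
    exact congrArg (fun t : BasedFunctor.comp (down u s) (Fhat p F) ⟶
      BasedFunctor.comp (down u s') (Fhat p F) => t.toNatTrans.app b) key
  refine ⟨up u α hl, ?_⟩
  apply downMap_injective (BasedFunctor.comp ι u)
  exact hα

theorem essSurj_over (hF : FibCat.IsFibGrpd F) [(Stk.restr ι (XC p F)).EssSurj]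
    [(Stk.restr ι (DC p)).Full] [(Stk.restr ι (DC p)).Faithful] :
    (Stk.restr (ιu u ι) (XD F)).EssSurj := by
  constructor
  intro s₂
  let t : ℬ ⥤ᵇ XC p F := (Stk.restr ι (XC p F)).objPreimage (down (BasedFunctor.comp ι u) s₂)
  let γ : BasedFunctor.comp ι t ≅ down (BasedFunctor.comp ι u) s₂ :=
    (Stk.restr ι (XC p F)).objObjPreimageIso (down (BasedFunctor.comp ι u) s₂)
  let e1 : (Stk.restr ι (DC p)).obj (BasedFunctor.comp t (Fhat p F)) ≅
      BasedFunctor.comp (down (BasedFunctor.comp ι u) s₂) (Fhat p F) := wrIso γ (Fhat p F)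
  let e2 : BasedFunctor.comp (down (BasedFunctor.comp ι u) s₂) (Fhat p F) ≅
      (Stk.restr ι (DC p)).obj u := compDownIso (BasedFunctor.comp ι u) s₂
  let β : BasedFunctor.comp t (Fhat p F) ≅ u := (Stk.restr ι (DC p)).preimageIso (e1 ≪≫ e2)
  have hβ : ∀ a, β.hom.toNatTrans.app (ι.toFunctor.obj a) =
      F.map (γ.hom.toNatTrans.app a) ≫ eqToHom (s₂.w_obj a) := fun a => by
    have h : (Stk.restr ι (DC p)).map β.hom = (e1 ≪≫ e2).hom := by
      simp [β]
    exact congrArg (fun t : (Stk.restr ι (DC p)).obj (BasedFunctor.comp t (Fhat p F)) ⟶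
      (Stk.restr ι (DC p)).obj u => t.toNatTrans.app a) h
  let t' : src u ⥤ᵇ XD F := transport u hF t β.symm
  let δ : down u t' ≅ t := transportIso u hF t β.symm
  let iso0 : down (BasedFunctor.comp ι u) (BasedFunctor.comp (ιu u ι) t') ≅
      down (BasedFunctor.comp ι u) s₂ := (Stk.restr ι (XC p F)).mapIso δ ≪≫ γ
  have hl : ∀ a, F.IsHomLift (𝟙 ((BasedFunctor.comp ι u).toFunctor.obj a))
      (iso0.hom.toNatTrans.app a) := fun a => by
    have h1 : F.IsHomLift (β.inv.toNatTrans.app (ι.toFunctor.obj a))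
        (δ.hom.toNatTrans.app (ι.toFunctor.obj a)) :=
      transportIso_hom_lift u hF t β.symm (ι.toFunctor.obj a)
    have h2 : F.IsHomLift (F.map (γ.hom.toNatTrans.app a)) (γ.hom.toNatTrans.app a) := inferInstance
    have h3 : F.IsHomLift (β.inv.toNatTrans.app (ι.toFunctor.obj a) ≫ F.map (γ.hom.toNatTrans.app a))
        (δ.hom.toNatTrans.app (ι.toFunctor.obj a) ≫ γ.hom.toNatTrans.app a) :=
      IsHomLift.comp (p := F) _ _ _ _
    have e : β.inv.toNatTrans.app (ι.toFunctor.obj a) ≫ F.map (γ.hom.toNatTrans.app a) =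
        𝟙 _ ≫ eqToHom (s₂.w_obj a).symm := by
      have hinv : β.inv.toNatTrans.app (ι.toFunctor.obj a) ≫
          β.hom.toNatTrans.app (ι.toFunctor.obj a) = 𝟙 _ :=
        congrArg (fun t : u ⟶ u => t.toNatTrans.app (ι.toFunctor.obj a)) β.inv_hom_id
      rw [hβ] at hinv
      exact (Iso.eq_comp_inv (eqToIso (s₂.w_obj a))).mpr ((Category.assoc _ _ _).trans hinv)
    rw [e, IsHomLift.lift_comp_eqToHom_iff] at h3
    exact h3
  exact ⟨t', ⟨upIso (BasedFunctor.comp ι u) iso0 hl⟩⟩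

/-- if restriction along `ι` is an equivalence for sections of `X` over `C` and fully faithful for
sections of `D` over `C`, then restriction along `ι` is an equivalence for the sections of `X` over
`D` above any section `u` of `D` -/
theorem isEquivalence_over (hF : FibCat.IsFibGrpd F) (h1 : (Stk.restr ι (XC p F)).IsEquivalence)
    (h2 : (Stk.restr ι (DC p)).Full) (h3 : (Stk.restr ι (DC p)).Faithful) :
    (Stk.restr (ιu u ι) (XD F)).IsEquivalence := by
  have := faithful_over (F := F) u ι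
  have := full_over (F := F) u ι
  have := essSurj_over u ι hF
  exact { }

end L1

section L2
variable {𝒜 : BasedCategory.{v₅, u₅} C} (ι : 𝒜 ⥤ᵇ ℬ)

lemma comp_inv_lift {u : ℬ ⥤ᵇ DC p} {t' : ℬ ⥤ᵇ XC p F} (σi : u ≅ BasedFunctor.comp t' (Fhat p F))
    {s'' : ℬ ⥤ᵇ XC p F} (δ : s'' ≅ t')
    (hδ : ∀ b, F.IsHomLift (σi.inv.toNatTrans.app b) (δ.inv.toNatTrans.app b))
    (b : ℬ.obj) {x : X} (φ : x ⟶ t'.toFunctor.obj b) (hx : F.obj x = u.toFunctor.obj b)
    (hφ : F.map φ = eqToHom hx ≫ σi.hom.toNatTrans.app b) :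
    F.IsHomLift (𝟙 (u.toFunctor.obj b)) (φ ≫ δ.inv.toNatTrans.app b) := by
  have h1 : F.IsHomLift (σi.hom.toNatTrans.app b) φ := by
    apply IsHomLift.of_fac' F _ _ hx rfl
    rw [hφ]; simp
  have h2 := hδ b
  have h3 : F.IsHomLift (σi.hom.toNatTrans.app b ≫ σi.inv.toNatTrans.app b)
      (φ ≫ δ.inv.toNatTrans.app b) := IsHomLift.comp (p := F) _ _ _ _
  have e : σi.hom.toNatTrans.app b ≫ σi.inv.toNatTrans.app b = 𝟙 _ :=
    congrArg (fun t : u ⟶ u => t.toNatTrans.app b) σi.hom_inv_id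
  rwa [e] at h3

theorem faithful_total (hF : FibCat.IsFibGrpd F) (hp : FibCat.IsFibGrpd p)
    [(Stk.restr ι (DC p)).Faithful]
    (h3 : ∀ u : ℬ ⥤ᵇ DC p, (Stk.restr (ιu u ι) (XD F)).Faithful) :
    (Stk.restr ι (XC p F)).Faithful := by
  constructor
  intro t t' α β h
  have happ : ∀ a, α.toNatTrans.app (ι.toFunctor.obj a) = β.toNatTrans.app (ι.toFunctor.obj a) :=
    fun a => congrArg (fun t₀ : (Stk.restr ι (XC p F)).obj t ⟶ (Stk.restr ι (XC p F)).obj t' =>
      t₀.toNatTrans.app a) h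
  let u : ℬ ⥤ᵇ DC p := BasedFunctor.comp t (Fhat p F)
  let σ : u ⟶ BasedFunctor.comp t' (Fhat p F) := BasedCategory.whiskerRight α (Fhat p F)
  let σ' : u ⟶ BasedFunctor.comp t' (Fhat p F) := BasedCategory.whiskerRight β (Fhat p F)
  have hσ : σ = σ' := by
    apply (Stk.restr ι (DC p)).map_injective
    apply BasedNatTrans.homCategory.ext
    ext a
    change F.map (α.toNatTrans.app (ι.toFunctor.obj a)) = F.map (β.toNatTrans.app (ι.toFunctor.obj a))
    rw [happ]
  have hiso : IsIso σ := isIso_of_isFibGrpd_target hp σ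
  let σi : u ≅ BasedFunctor.comp t' (Fhat p F) := asIso σ
  let t'' : src u ⥤ᵇ XD F := transport u hF t' σi
  let δ : down u t'' ≅ t' := transportIso u hF t' σi
  have hδ : ∀ b, F.IsHomLift (σi.inv.toNatTrans.app b) (δ.inv.toNatTrans.app b) :=
    fun b => transportIso_inv_lift u hF t' σi b
  have hlα : ∀ b, F.IsHomLift (𝟙 (u.toFunctor.obj b)) ((α ≫ δ.inv).toNatTrans.app b) := fun b =>
    comp_inv_lift σi δ hδ b (α.toNatTrans.app b) rfl (by
      change F.map (α.toNatTrans.app b) = eqToHom rfl ≫ F.map (α.toNatTrans.app b)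
      simp)
  have hlβ : ∀ b, F.IsHomLift (𝟙 (u.toFunctor.obj b)) ((β ≫ δ.inv).toNatTrans.app b) := fun b =>
    comp_inv_lift σi δ hδ b (β.toNatTrans.app b) rfl (by
      have : σi.hom.toNatTrans.app b = F.map (β.toNatTrans.app b) :=
        congrArg (fun t₀ : u ⟶ BasedFunctor.comp t' (Fhat p F) => t₀.toNatTrans.app b) hσ
      rw [this]; simp)
  let α₀ : canon t ⟶ t'' := up u (α ≫ δ.inv) hlα
  let β₀ : canon t ⟶ t'' := up u (β ≫ δ.inv) hlβ
  have h0 : α₀ = β₀ := by
    apply (h3 u).map_injective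
    apply BasedNatTrans.homCategory.ext
    ext a
    change α.toNatTrans.app (ι.toFunctor.obj a) ≫ δ.inv.toNatTrans.app (ι.toFunctor.obj a) =
      β.toNatTrans.app (ι.toFunctor.obj a) ≫ δ.inv.toNatTrans.app (ι.toFunctor.obj a)
    rw [happ]
  have h1 : α ≫ δ.inv = β ≫ δ.inv := congrArg (downMap u) h0
  exact (cancel_mono δ.inv).mp h1

theorem full_total (hF : FibCat.IsFibGrpd F) (hp : FibCat.IsFibGrpd p)
    [(Stk.restr ι (DC p)).Full]
    (h3 : ∀ u : ℬ ⥤ᵇ DC p, (Stk.restr (ιu u ι) (XD F)).Full) :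
    (Stk.restr ι (XC p F)).Full := by
  constructor
  intro t t' γ
  let u : ℬ ⥤ᵇ DC p := BasedFunctor.comp t (Fhat p F)
  let τ : (Stk.restr ι (DC p)).obj u ⟶ (Stk.restr ι (DC p)).obj (BasedFunctor.comp t' (Fhat p F)) :=
    BasedCategory.whiskerRight γ (Fhat p F)
  obtain ⟨σ, hσ⟩ := (Stk.restr ι (DC p)).map_surjective τ
  have hσapp : ∀ a, σ.toNatTrans.app (ι.toFunctor.obj a) = F.map (γ.toNatTrans.app a) := fun a =>
    congrArg (fun t₀ : (Stk.restr ι (DC p)).obj u ⟶
      (Stk.restr ι (DC p)).obj (BasedFunctor.comp t' (Fhat p F)) => t₀.toNatTrans.app a) hσ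
  have hiso : IsIso σ := isIso_of_isFibGrpd_target hp σ
  let σi : u ≅ BasedFunctor.comp t' (Fhat p F) := asIso σ
  let t'' : src u ⥤ᵇ XD F := transport u hF t' σi
  let δ : down u t'' ≅ t' := transportIso u hF t' σi
  have hδ : ∀ b, F.IsHomLift (σi.inv.toNatTrans.app b) (δ.inv.toNatTrans.app b) :=
    fun b => transportIso_inv_lift u hF t' σi b
  let γ' : down (BasedFunctor.comp ι u) (BasedFunctor.comp (ιu u ι) (canon t)) ⟶
      down (BasedFunctor.comp ι u) (BasedFunctor.comp (ιu u ι) t'') :=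
    γ ≫ (Stk.restr ι (XC p F)).map δ.inv
  have hl : ∀ a, F.IsHomLift (𝟙 ((BasedFunctor.comp ι u).toFunctor.obj a))
      (γ'.toNatTrans.app a) := fun a =>
    comp_inv_lift σi δ hδ (ι.toFunctor.obj a) (γ.toNatTrans.app a) rfl (by
      have : σi.hom.toNatTrans.app (ι.toFunctor.obj a) = F.map (γ.toNatTrans.app a) := hσapp a
      rw [this]; simp)
  let γ₀ : BasedFunctor.comp (ιu u ι) (canon t) ⟶ BasedFunctor.comp (ιu u ι) t'' :=
    up (BasedFunctor.comp ι u) γ' hl
  obtain ⟨α₀, hα₀⟩ := (h3 u).map_surjective γ₀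
  have hα₀app : ∀ a, α₀.toNatTrans.app (ι.toFunctor.obj a) =
      γ.toNatTrans.app a ≫ δ.inv.toNatTrans.app (ι.toFunctor.obj a) := fun a =>
    congrArg (fun t₀ : BasedFunctor.comp (ιu u ι) (canon t) ⟶ BasedFunctor.comp (ιu u ι) t'' =>
      t₀.toNatTrans.app a) hα₀
  refine ⟨downMap u α₀ ≫ δ.hom, ?_⟩
  apply BasedNatTrans.homCategory.ext
  ext a
  change α₀.toNatTrans.app (ι.toFunctor.obj a) ≫ δ.hom.toNatTrans.app (ι.toFunctor.obj a) =
    γ.toNatTrans.app a
  rw [hα₀app, Category.assoc]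
  have : δ.inv.toNatTrans.app (ι.toFunctor.obj a) ≫ δ.hom.toNatTrans.app (ι.toFunctor.obj a) =
      𝟙 _ := congrArg (fun t₀ : t' ⟶ t' => t₀.toNatTrans.app (ι.toFunctor.obj a)) δ.inv_hom_id
  rw [this]
  exact Category.comp_id _

theorem essSurj_total (hF : FibCat.IsFibGrpd F) [(Stk.restr ι (DC p)).EssSurj]
    (h3 : ∀ u : ℬ ⥤ᵇ DC p, (Stk.restr (ιu u ι) (XD F)).EssSurj) :
    (Stk.restr ι (XC p F)).EssSurj := by
  constructor
  intro t₂
  let u₂ : 𝒜 ⥤ᵇ DC p := BasedFunctor.comp t₂ (Fhat p F)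
  let u : ℬ ⥤ᵇ DC p := (Stk.restr ι (DC p)).objPreimage u₂
  let β : BasedFunctor.comp ι u ≅ u₂ := (Stk.restr ι (DC p)).objObjPreimageIso u₂
  let t₂' : src (BasedFunctor.comp ι u) ⥤ᵇ XD F := transport (BasedFunctor.comp ι u) hF t₂ β
  let δ : down (BasedFunctor.comp ι u) t₂' ≅ t₂ := transportIso (BasedFunctor.comp ι u) hF t₂ β
  have := h3 u
  let s₁ : src u ⥤ᵇ XD F := (Stk.restr (ιu u ι) (XD F)).objPreimage t₂'
  let κ : BasedFunctor.comp (ιu u ι) s₁ ≅ t₂' := (Stk.restr (ιu u ι) (XD F)).objObjPreimageIso t₂'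
  exact ⟨down u s₁, ⟨downIso (BasedFunctor.comp ι u) κ ≪≫ δ⟩⟩

/-- if restriction along `ι` is an equivalence for sections of `D` over `C` and for the sections of
`X` over `D` above every section of `D`, it is an equivalence for sections of `X` over `C` -/
theorem isEquivalence_total (hF : FibCat.IsFibGrpd F) (hp : FibCat.IsFibGrpd p)
    (h2 : (Stk.restr ι (DC p)).IsEquivalence)
    (h3 : ∀ u : ℬ ⥤ᵇ DC p, (Stk.restr (ιu u ι) (XD F)).IsEquivalence) :
    (Stk.restr ι (XC p F)).IsEquivalence := by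
  have := faithful_total (F := F) ι hF hp (fun u => (h3 u).faithful)
  have := full_total (F := F) ι hF hp (fun u => (h3 u).full)
  have := essSurj_total (F := F) ι hF (fun u => (h3 u).essSurj)
  exact { }

end L2

end Groth.Agent.Lib.Helper24.StkOver
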