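import Groth.Agent.Lib.Helper24.StkSlice
import Groth.Agent.Lib.Helper24.StkOver
import Groth.Agent.Lib.Helper24.FibCatFpGen
set_option autoImplicit false
open CategoryTheory
universe u v u₂ v₂ u₃ v₃ u₄ v₄ u₅ v₅
set_option backward.isDefEq.respectTransparency false
set_option backward.isDefEq.respectTransparency.types false

/-!
# A criterion for stacks through 2-fibre products with slices
-/

namespace Groth.Agent.Lib.Helper24.StkFpCrit
open Groth.Agent.Lib.Helper24.StkOver Groth.Agent.Lib.Helper24.StkSlice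
open Groth.Agent.Lib.Helper24.FibCatFpGen Groth.Agent.Lib.Helper24.FibGrpd

variable {C : Type u} [Category.{v} C] {𝒮 : BasedCategory.{v₂, u₂} C} {𝒯 : BasedCategory.{v₃, u₃} C}
  (F : 𝒮 ⥤ᵇ 𝒯) {U : C} (y : FibCat.overCat U ⥤ᵇ 𝒯)

/-- the first projection of `(C/U) ×_𝒯 𝒮` as a plain functor -/
abbrev π : (FibCat.fp y F).obj ⥤ Over U := (FibCat.fpFst y F).toFunctor

/-- `(C/U) ×_𝒯 𝒮` as a category over `C/U` -/
abbrev Q : BasedCategory (Over U) := BasedCategory.ofFunctor (π F y)

section Pair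
variable {ℬ : BasedCategory.{v₄, u₄} C} (u : ℬ ⥤ᵇ FibCat.overCat U)

/-- the section of `(C/U) ×_𝒯 𝒮` over `C/U` determined by a section of `𝒮` and an isomorphism -/
def ofPair (s : ℬ ⥤ᵇ 𝒮) (τ : BasedFunctor.comp u y ≅ BasedFunctor.comp s F) :
    src (p := Over.forget U) u ⥤ᵇ Q F y where
  toFunctor := (FibCat.fpLift u s τ).toFunctor
  w := rfl

lemma ofPair_snd (s : ℬ ⥤ᵇ 𝒮) (τ : BasedFunctor.comp u y ≅ BasedFunctor.comp s F) :
    BasedFunctor.comp (down (p := Over.forget U) (F := π F y) u (ofPair F y u s τ))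
      (FibCat.fpSnd y F) = s := rfl

/-- components of a morphism between two such sections -/
def mkApp {s s' : ℬ ⥤ᵇ 𝒮} {τ : BasedFunctor.comp u y ≅ BasedFunctor.comp s F}
    {τ' : BasedFunctor.comp u y ≅ BasedFunctor.comp s' F} (α : s ⟶ s')
    (h : ∀ b, τ.hom.toNatTrans.app b ≫ F.toFunctor.map (α.toNatTrans.app b) =
      τ'.hom.toNatTrans.app b) (b : ℬ.obj) :
    (ofPair F y u s τ).toFunctor.obj b ⟶ (ofPair F y u s' τ').toFunctor.obj b :=
  mkHom (x := (ofPair F y u s τ).toFunctor.obj b)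
    (y := (ofPair F y u s' τ').toFunctor.obj b) (𝟙 (u.toFunctor.obj b)) (α.toNatTrans.app b) (by
      change y.toFunctor.map (𝟙 (u.toFunctor.obj b)) ≫ τ'.hom.toNatTrans.app b =
        τ.hom.toNatTrans.app b ≫ F.toFunctor.map (α.toNatTrans.app b)
      rw [h, CategoryTheory.Functor.map_id, Category.id_comp])

/-- a morphism between two such sections -/
def mkMor {s s' : ℬ ⥤ᵇ 𝒮} {τ : BasedFunctor.comp u y ≅ BasedFunctor.comp s F}
    {τ' : BasedFunctor.comp u y ≅ BasedFunctor.comp s' F} (α : s ⟶ s')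
    (h : ∀ b, τ.hom.toNatTrans.app b ≫ F.toFunctor.map (α.toNatTrans.app b) =
      τ'.hom.toNatTrans.app b) : ofPair F y u s τ ⟶ ofPair F y u s' τ' where
  toNatTrans :=
    { app := fun b => mkApp F y u α h b
      naturality := fun {a b} m => by
        apply hom_ext'
        · change u.toFunctor.map m ≫ 𝟙 _ = 𝟙 _ ≫ u.toFunctor.map m
          rw [Category.comp_id, Category.id_comp]
        · exact α.toNatTrans.naturality m }
  isHomLift' := fun b => by
    have h0 : (π F y).IsHomLift ((π F y).map (mkApp F y u α h b)) (mkApp F y u α h b) :=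
      IsHomLift.map (p := π F y) _
    exact h0

lemma mkMor_snd {s s' : ℬ ⥤ᵇ 𝒮} {τ : BasedFunctor.comp u y ≅ BasedFunctor.comp s F}
    {τ' : BasedFunctor.comp u y ≅ BasedFunctor.comp s' F} (α : s ⟶ s')
    (h : ∀ b, τ.hom.toNatTrans.app b ≫ F.toFunctor.map (α.toNatTrans.app b) =
      τ'.hom.toNatTrans.app b) (b : ℬ.obj) :
    ((mkMor F y u α h).toNatTrans.app b).hom.snd = α.toNatTrans.app b := rfl

/-- the morphism of sections of `𝒮` underlying a morphism of sections of the fibre product -/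
def sndMor {σ σ' : src (p := Over.forget U) u ⥤ᵇ Q F y} (μ : σ ⟶ σ') :
    BasedFunctor.comp (down (p := Over.forget U) (F := π F y) u σ) (FibCat.fpSnd y F) ⟶
      BasedFunctor.comp (down (p := Over.forget U) (F := π F y) u σ') (FibCat.fpSnd y F) :=
  BasedCategory.whiskerRight (downMap u μ) (FibCat.fpSnd y F)

lemma sndMor_app {σ σ' : src (p := Over.forget U) u ⥤ᵇ Q F y} (μ : σ ⟶ σ') (b : ℬ.obj) :
    (sndMor F y u μ).toNatTrans.app b = (μ.toNatTrans.app b).hom.snd := rfl

section Restricted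
variable {𝒜 : BasedCategory.{v₅, u₅} C} (ι : 𝒜 ⥤ᵇ ℬ)

/-- components of a morphism between the restrictions of two such sections -/
def mkAppR {s s' : ℬ ⥤ᵇ 𝒮} {τ : BasedFunctor.comp u y ≅ BasedFunctor.comp s F}
    {τ' : BasedFunctor.comp u y ≅ BasedFunctor.comp s' F}
    (γ : BasedFunctor.comp ι s ⟶ BasedFunctor.comp ι s')
    (h : ∀ a, τ.hom.toNatTrans.app (ι.toFunctor.obj a) ≫ F.toFunctor.map (γ.toNatTrans.app a) =
      τ'.hom.toNatTrans.app (ι.toFunctor.obj a)) (a : 𝒜.obj) :
    (ofPair F y u s τ).toFunctor.obj (ι.toFunctor.obj a) ⟶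
      (ofPair F y u s' τ').toFunctor.obj (ι.toFunctor.obj a) :=
  mkHom (x := (ofPair F y u s τ).toFunctor.obj (ι.toFunctor.obj a))
    (y := (ofPair F y u s' τ').toFunctor.obj (ι.toFunctor.obj a))
    (𝟙 (u.toFunctor.obj (ι.toFunctor.obj a))) (γ.toNatTrans.app a) (by
      change y.toFunctor.map (𝟙 (u.toFunctor.obj (ι.toFunctor.obj a))) ≫
        τ'.hom.toNatTrans.app (ι.toFunctor.obj a) =
        τ.hom.toNatTrans.app (ι.toFunctor.obj a) ≫ F.toFunctor.map (γ.toNatTrans.app a)
      rw [h, CategoryTheory.Functor.map_id, Category.id_comp])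

/-- a morphism between the restrictions of two such sections -/
def mkMorR {s s' : ℬ ⥤ᵇ 𝒮} {τ : BasedFunctor.comp u y ≅ BasedFunctor.comp s F}
    {τ' : BasedFunctor.comp u y ≅ BasedFunctor.comp s' F}
    (γ : BasedFunctor.comp ι s ⟶ BasedFunctor.comp ι s')
    (h : ∀ a, τ.hom.toNatTrans.app (ι.toFunctor.obj a) ≫ F.toFunctor.map (γ.toNatTrans.app a) =
      τ'.hom.toNatTrans.app (ι.toFunctor.obj a)) :
    BasedFunctor.comp (ιu (p := Over.forget U) u ι) (ofPair F y u s τ) ⟶
      BasedFunctor.comp (ιu (p := Over.forget U) u ι) (ofPair F y u s' τ') where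
  toNatTrans :=
    { app := fun a => mkAppR F y u ι γ h a
      naturality := fun {a b} m => by
        apply hom_ext'
        · change u.toFunctor.map (ι.toFunctor.map m) ≫ 𝟙 _ = 𝟙 _ ≫ u.toFunctor.map (ι.toFunctor.map m)
          rw [Category.comp_id, Category.id_comp]
        · exact γ.toNatTrans.naturality m }
  isHomLift' := fun a => by
    have h0 : (π F y).IsHomLift ((π F y).map (mkAppR F y u ι γ h a)) (mkAppR F y u ι γ h a) :=
      IsHomLift.map (p := π F y) _
    exact h0

end Restricted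

end Pair

section Main
variable (R : Sieve U)

/-- **Criterion.** Let `𝒯` be fibred in groupoids with sections gluing along `R`, and suppose that
for every `y : C/U ⟶ 𝒯` the global sections of `(C/U) ×_𝒯 𝒮` over `C/U` restrict equivalently to
sections over `R`.  Then sections of `𝒮` glue along `R`. -/
theorem isStackFor_of_fp (h𝒯 : FibCat.IsFibGrpd 𝒯.p) (hT : Stk.IsStackFor R 𝒯)
    (H : ∀ y : FibCat.overCat U ⥤ᵇ 𝒯, (Stk.restr (incR R) (Q F y)).IsEquivalence) :
    Stk.IsStackFor R 𝒮 := by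
  have hT' : (Stk.restr (Stk.sieveIncl R) 𝒯).IsEquivalence := hT
  refine { faithful := ⟨?_⟩, full := ⟨?_⟩, essSurj := ⟨?_⟩ }
  · -- faithful
    intro s s' α β hαβ
    have happ : ∀ a, α.toNatTrans.app ((Stk.sieveIncl R).toFunctor.obj a) =
        β.toNatTrans.app ((Stk.sieveIncl R).toFunctor.obj a) := fun a =>
      congrArg (fun t : (Stk.restr (Stk.sieveIncl R) 𝒮).obj s ⟶
        (Stk.restr (Stk.sieveIncl R) 𝒮).obj s' => t.toNatTrans.app a) hαβ
    let y : FibCat.overCat U ⥤ᵇ 𝒯 := BasedFunctor.comp s' F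
    let τα : BasedFunctor.comp s F ⟶ y := BasedCategory.whiskerRight α F
    let τβ : BasedFunctor.comp s F ⟶ y := BasedCategory.whiskerRight β F
    have hτ : τα = τβ := by
      apply (Stk.restr (Stk.sieveIncl R) 𝒯).map_injective
      apply BasedNatTrans.homCategory.ext
      ext a
      change F.toFunctor.map (α.toNatTrans.app _) = F.toFunctor.map (β.toNatTrans.app _)
      rw [happ]
    have hiso : IsIso τα := isIso_of_isFibGrpd_target h𝒯 τα
    let τ : BasedFunctor.comp (BasedFunctor.id _) y ≅ BasedFunctor.comp s F := (asIso τα).symm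
    let τ' : BasedFunctor.comp (BasedFunctor.id _) y ≅ BasedFunctor.comp s' F := Iso.refl _
    have hinv : ∀ b, τ.hom.toNatTrans.app b ≫ τα.toNatTrans.app b = 𝟙 _ := fun b =>
      congrArg (fun t : y ⟶ y => t.toNatTrans.app b) (asIso τα).inv_hom_id
    let μα : ofPair F y (BasedFunctor.id _) s τ ⟶ ofPair F y (BasedFunctor.id _) s' τ' :=
      mkMor F y (BasedFunctor.id _) α (fun b => hinv b)
    let μβ : ofPair F y (BasedFunctor.id _) s τ ⟶ ofPair F y (BasedFunctor.id _) s' τ' :=
      mkMor F y (BasedFunctor.id _) β (fun b => by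
        have : τα.toNatTrans.app b = F.toFunctor.map (β.toNatTrans.app b) :=
          congrArg (fun t : BasedFunctor.comp s F ⟶ y => t.toNatTrans.app b) hτ
        rw [← this]; exact hinv b)
    have hμ : μα = μβ := by
      apply (H y).faithful.map_injective
      apply BasedNatTrans.homCategory.ext
      ext a
      apply hom_ext'
      · rfl
      · exact happ a
    apply BasedNatTrans.homCategory.ext
    ext b
    have := congrArg (fun t : ofPair F y (BasedFunctor.id _) s τ ⟶
      ofPair F y (BasedFunctor.id _) s' τ' => (t.toNatTrans.app b).hom.snd) hμ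
    exact this
  · -- full
    intro s s' γ
    let y : FibCat.overCat U ⥤ᵇ 𝒯 := BasedFunctor.comp s' F
    let τγ : BasedFunctor.comp s F ⟶ y :=
      (Stk.restr (Stk.sieveIncl R) 𝒯).preimage (BasedCategory.whiskerRight γ F)
    have hτγ : ∀ a, τγ.toNatTrans.app ((Stk.sieveIncl R).toFunctor.obj a) =
        F.toFunctor.map (γ.toNatTrans.app a) := fun a => by
      have h : (Stk.restr (Stk.sieveIncl R) 𝒯).map τγ = BasedCategory.whiskerRight γ F :=
        Functor.map_preimage _ _
      exact congrArg (fun t : (Stk.restr (Stk.sieveIncl R) 𝒯).obj (BasedFunctor.comp s F) ⟶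
        (Stk.restr (Stk.sieveIncl R) 𝒯).obj y => t.toNatTrans.app a) h
    have hiso : IsIso τγ := isIso_of_isFibGrpd_target h𝒯 τγ
    let τ : BasedFunctor.comp (BasedFunctor.id _) y ≅ BasedFunctor.comp s F := (asIso τγ).symm
    let τ' : BasedFunctor.comp (BasedFunctor.id _) y ≅ BasedFunctor.comp s' F := Iso.refl _
    have hinv : ∀ b, τ.hom.toNatTrans.app b ≫ τγ.toNatTrans.app b = 𝟙 _ := fun b =>
      congrArg (fun t : y ⟶ y => t.toNatTrans.app b) (asIso τγ).inv_hom_id
    let μ₂ : (Stk.restr (incR R) (Q F y)).obj (ofPair F y (BasedFunctor.id _) s τ) ⟶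
        (Stk.restr (incR R) (Q F y)).obj (ofPair F y (BasedFunctor.id _) s' τ') :=
      mkMorR F y (BasedFunctor.id _) (Stk.sieveIncl R) γ (fun a => by
        rw [← hτγ]; exact hinv _)
    obtain ⟨μ, hμ⟩ := (H y).full.map_surjective μ₂
    refine ⟨sndMor F y (BasedFunctor.id _) μ, ?_⟩
    apply BasedNatTrans.homCategory.ext
    ext a
    have := congrArg (fun t : (Stk.restr (incR R) (Q F y)).obj
      (ofPair F y (BasedFunctor.id _) s τ) ⟶ (Stk.restr (incR R) (Q F y)).obj
      (ofPair F y (BasedFunctor.id _) s' τ') => (t.toNatTrans.app a).hom.snd) hμ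
    exact this
  · -- essentially surjective
    intro s₂
    let y : FibCat.overCat U ⥤ᵇ 𝒯 :=
      (Stk.restr (Stk.sieveIncl R) 𝒯).objPreimage (BasedFunctor.comp s₂ F)
    let θ : BasedFunctor.comp (Stk.sieveIncl R) y ≅ BasedFunctor.comp s₂ F :=
      (Stk.restr (Stk.sieveIncl R) 𝒯).objObjPreimageIso (BasedFunctor.comp s₂ F)
    let σ₂ : RU R ⥤ᵇ Q F y := ofPair F y (Stk.sieveIncl R) s₂ θ
    have := (H y).essSurj
    let σ : FibCat.selfOver (Over U) ⥤ᵇ Q F y := (Stk.restr (incR R) (Q F y)).objPreimage σ₂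
    let κ : BasedFunctor.comp (incR R) σ ≅ σ₂ := (Stk.restr (incR R) (Q F y)).objObjPreimageIso σ₂
    let s : FibCat.overCat U ⥤ᵇ 𝒮 :=
      BasedFunctor.comp (down (p := Over.forget U) (F := π F y) (BasedFunctor.id _) σ)
        (FibCat.fpSnd y F)
    refine ⟨s, ⟨?_⟩⟩
    exact wrIso (downIso (p := Over.forget U) (F := π F y) (Stk.sieveIncl R) κ) (FibCat.fpSnd y F)

end Main

end Groth.Agent.Lib.Helper24.StkFpCrit
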