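import Groth.Agent.Lib.Helper24.StkOver
import Groth.Agent.Lib.Helper24.SectSrc
import Groth.Agent.Lib.Helper24.FibSet4
import Groth.Agent.Lib.Helper26.FibGrpdTop
set_option autoImplicit false
open CategoryTheory
universe u v u₂ v₂ u₃ v₃ u₄ v₄ u₅ v₅
set_option backward.isDefEq.respectTransparency false
set_option backward.isDefEq.respectTransparency.types false

/-!
# A stack in groupoids over a stack in groupoids (inherited topology) is a stack over the base
-/

namespace Groth.Agent.Lib.Helper24.StkOverTotal
open Groth.Agent.Lib.Helper24.StkOver Groth.Agent.Lib.Helper24.SectSrc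
open Groth.Agent.Lib.Helper26.FibGrpdTop Groth.Agent.Lib.Helper24.FibGrpd

variable {C : Type u} [Category.{v} C] {D : Type u₂} [Category.{v₂} D] (p : D ⥤ C)
  [hp : FibCat.IsFibGrpd p]

section Source
variable {U : C} (R : Sieve U) (u : FibCat.overCat U ⥤ᵇ DC p)

/-- the canonical morphism to the terminal object of the slice -/
def tOf (a : Over U) : a ⟶ Over.mk (𝟙 U) := Over.homMk a.hom (Category.comp_id _)

lemma map_tOf_comp {a b : Over U} (m : a ⟶ b) : m ≫ tOf b = tOf a := by
  apply Over.OverMorphism.ext
  exact Over.w m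

omit hp in
lemma map_lift {a b : Over U} (m : a ⟶ b) : p.IsHomLift m.left (u.toFunctor.map m) := by
  have h : (FibCat.overCat U).p.IsHomLift m.left m := IsHomLift.map (p := Over.forget U) m
  exact BasedFunctor.preserves_isHomLift u m.left m

/-- the object over `U` determined by the section `u` -/
def y₀ : D := u.toFunctor.obj (Over.mk (𝟙 U))

omit hp in
lemma hy : p.obj (y₀ p u) = U := u.w_obj (Over.mk (𝟙 U))

/-- `C/U ⟶ D/y₀` over `D` -/
def Eu : src u ⥤ᵇ FibCat.overCat (y₀ p u) where
  toFunctor :=
    { obj := fun a => Over.mk (u.toFunctor.map (tOf a))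
      map := fun {a b} m => Over.homMk (u.toFunctor.map m) (by
        change u.toFunctor.map m ≫ u.toFunctor.map (tOf b) = u.toFunctor.map (tOf a)
        rw [← Functor.map_comp, map_tOf_comp])
      map_id := fun a => by
        apply Over.OverMorphism.ext
        exact u.toFunctor.map_id a
      map_comp := fun m n => by
        apply Over.OverMorphism.ext
        exact u.toFunctor.map_comp m n }
  w := rfl

/-- the sieve on `y₀` of morphisms whose image lies in `R` -/
def Tu : Sieve (y₀ p u) where
  arrows := fun _ c => R (p.map c ≫ eqToHom (hy p u))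
  downward_closed := by
    intro v w c hc g
    change R (p.map (g ≫ c) ≫ eqToHom (hy p u))
    rw [Functor.map_comp, Category.assoc]
    exact R.downward_closed hc _

lemma Tu_mem (J : GrothendieckTopology C) (hR : R ∈ J U) :
    Tu p R u ∈ p.restrictedTopology J (y₀ p u) := by
  rw [mem_restrictedTopology_iff]
  refine J.superset_covering ?_ (J.pullback_stable (eqToHom (hy p u)) hR)
  intro V g hg
  change R (g ≫ eqToHom (hy p u)) at hg
  obtain ⟨w, c, e, hc⟩ := exists_lift p (x := y₀ p u) g
  refine ⟨w, c, eqToHom e.symm, ?_, ?_⟩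
  · change R (p.map c ≫ eqToHom (hy p u))
    rw [hc, Category.assoc]
    exact R.downward_closed hg _
  · rw [hc]; simp

omit hp in
lemma Eu_mem (a : (Stk.sieveCat R).obj) :
    (Tu p R u).arrows (u.toFunctor.map (tOf a.obj)) := by
  change R (p.map (u.toFunctor.map (tOf a.obj)) ≫ eqToHom (hy p u))
  have h := map_lift p u (tOf a.obj)
  have h2 := IsHomLift.fac' p (tOf a.obj).left (u.toFunctor.map (tOf a.obj))
  rw [h2]
  simp only [Category.assoc, eqToHom_trans, eqToHom_refl, Category.comp_id]
  exact R.downward_closed a.property _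

/-- the restriction of `Eu` to the sieves -/
def Eu' : src (BasedFunctor.comp (Stk.sieveIncl R) u) ⥤ᵇ Stk.sieveCat (Tu p R u) where
  toFunctor := ObjectProperty.lift _ (ObjectProperty.ι _ ⋙ (Eu p u).toFunctor)
    (fun a => Eu_mem p R u a)
  w := rfl

omit hp in
lemma sq : BasedFunctor.comp (Eu' p R u) (Stk.sieveIncl (Tu p R u)) =
    BasedFunctor.comp (ιu u (Stk.sieveIncl R)) (Eu p u) := rfl

omit hp in
lemma left_eq_of_map_eq {a b : Over U} (m m' : a ⟶ b)
    (h : u.toFunctor.map m = u.toFunctor.map m') : m = m' := by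
  apply Over.OverMorphism.ext
  have h1 := map_lift p u m
  have h2 := map_lift p u m'
  have e1 := IsHomLift.fac p m.left (u.toFunctor.map m)
  have e2 := IsHomLift.fac p m'.left (u.toFunctor.map m')
  rw [e1, e2]
  simp only [h]

instance : (Eu p u).toFunctor.Faithful where
  map_injective {a b} m m' h := by
    apply left_eq_of_map_eq p u
    exact congrArg (fun t => t.left) h

omit hp in
lemma map_tOf_fac (a : Over U) : p.map (u.toFunctor.map (tOf a)) =
    eqToHom (u.w_obj a) ≫ a.hom ≫ eqToHom (hy p u).symm := by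
  have h := map_lift p u (tOf a)
  have := IsHomLift.fac' p (tOf a).left (u.toFunctor.map (tOf a))
  rw [this]
  rfl

instance : (Eu p u).toFunctor.Full where
  map_surjective {a b} g := by
    have hw : g.left ≫ u.toFunctor.map (tOf b) = u.toFunctor.map (tOf a) := Over.w g
    have hw' : p.map g.left ≫ p.map (u.toFunctor.map (tOf b)) = p.map (u.toFunctor.map (tOf a)) := by
      rw [← Functor.map_comp, hw]
    let f : a.left ⟶ b.left := eqToHom (u.w_obj a).symm ≫ p.map g.left ≫ eqToHom (u.w_obj b)
    have hf : f ≫ b.hom = a.hom := by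
      have h1 := map_tOf_fac p u a
      have h2 := map_tOf_fac p u b
      rw [h1, h2] at hw'
      have : p.map g.left ≫ eqToHom (u.w_obj b) ≫ b.hom =
          eqToHom (u.w_obj a) ≫ a.hom := by
        have := congrArg (fun t => t ≫ eqToHom (hy p u)) hw'
        simpa using this
      simp only [f, Category.assoc]
      rw [this]; simp
    let m : a ⟶ b := Over.homMk f hf
    refine ⟨m, ?_⟩
    apply Over.OverMorphism.ext
    change u.toFunctor.map m = g.left
    obtain ⟨χ, -, huniq⟩ := existsUnique_factor p (u.toFunctor.map (tOf b))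
      (u.toFunctor.map (tOf a)) (p.map g.left) hw'
    have h1 : u.toFunctor.map m = χ := huniq _ ⟨by
      have hl := map_lift p u m
      have := IsHomLift.fac' p m.left (u.toFunctor.map m)
      rw [this]
      simp [m, f], by
      rw [← Functor.map_comp, map_tOf_comp]⟩
    have h2 : g.left = χ := huniq _ ⟨rfl, hw⟩
    rw [h1, h2]

lemma exists_iso (Y : Over (y₀ p u)) :
    Nonempty ((Eu p u).toFunctor.obj (Over.mk (p.map Y.hom ≫ eqToHom (hy p u))) ≅ Y) := by
  let a : Over U := Over.mk (p.map Y.hom ≫ eqToHom (hy p u))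
  have e : p.obj Y.left = p.obj (u.toFunctor.obj a) := (u.w_obj a).symm
  have hg : eqToHom e ≫ p.map (u.toFunctor.map (tOf a)) = p.map Y.hom := by
    rw [map_tOf_fac]
    simp [a]
  obtain ⟨χ, ⟨h1, h2⟩, -⟩ := existsUnique_factor p (u.toFunctor.map (tOf a)) Y.hom (eqToHom e) hg
  have hl : p.IsHomLift (eqToHom e) χ := by
    have : p.IsHomLift (p.map χ) χ := inferInstance
    rwa [h1] at this
  have hiso : IsIso χ := isIso_of_isFibGrpd p hp (eqToHom e) χ
  refine ⟨Over.isoMk (asIso χ).symm ?_⟩
  change inv χ ≫ Y.hom = u.toFunctor.map (tOf a)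
  rw [IsIso.inv_comp_eq, h2]

instance : (Eu p u).toFunctor.EssSurj where
  mem_essImage Y := ⟨_, exists_iso p u Y⟩

instance : (Eu p u).toFunctor.IsEquivalence where

instance : (Eu' p R u).toFunctor.Faithful where
  map_injective {a b} m m' h := by
    apply ObjectProperty.hom_ext
    apply (Eu p u).toFunctor.map_injective
    exact congrArg (fun t => t.hom) h

instance : (Eu' p R u).toFunctor.Full where
  map_surjective {a b} g := by
    obtain ⟨m₀, hm₀⟩ := (Eu p u).toFunctor.map_surjective g.hom
    refine ⟨ObjectProperty.homMk m₀, ?_⟩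
    apply ObjectProperty.hom_ext
    exact hm₀

instance : (Eu' p R u).toFunctor.EssSurj where
  mem_essImage Y := by
    obtain ⟨i⟩ := exists_iso p u Y.obj
    exact ⟨⟨Over.mk (p.map Y.obj.hom ≫ eqToHom (hy p u)), Y.property⟩, ⟨ObjectProperty.isoMk _ i⟩⟩

instance : (Eu' p R u).toFunctor.IsEquivalence where

end Source

/-- **Stacks over stacks, converse.**  If `D` is a stack in groupoids over `(C, J)` and `X` is a
stack in groupoids over `D` for the inherited topology, then `X` is a stack in groupoids over
`(C, J)`. -/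
theorem isStack_total (J : GrothendieckTopology C) {X : Type u₃} [Category.{v₃} X] (F : X ⥤ D)
    (hD : Stk.IsStack J (DC p)) (hX : Stk.IsStack (p.restrictedTopology J) (XD F)) :
    Stk.IsStack J (XC p F) := by
  have hF : FibCat.IsFibGrpd F := hX.1
  refine ⟨FibSet.isFibGrpd_comp F p hF hp, fun U R hR => ?_⟩
  refine isEquivalence_total (F := F) (Stk.sieveIncl R) hF hp (hD.2 R hR) (fun u => ?_)
  exact restr_isEquivalence_of_square (ιu u (Stk.sieveIncl R)) (Stk.sieveIncl (Tu p R u))
    (Eu p u) (Eu' p R u) (sq p R u) (XD F) hF (hX.2 _ (Tu_mem p R u J hR))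

end Groth.Agent.Lib.Helper24.StkOverTotal
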