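import Groth.Agent.Lib.Helper24.StkLocal
set_option autoImplicit false
open CategoryTheory
universe u v u₂ v₂
set_option backward.isDefEq.respectTransparency false
set_option backward.isDefEq.respectTransparency.types false

namespace Groth.Agent.Lib.Helper24.StkRefine
open Groth.Agent.Lib.Helper24.FibGrpd Groth.Agent.Lib.Helper24.FibCatYoneda
open Groth.Agent.Lib.Helper24.FibCatFpGen Groth.Agent.Lib.Helper24.StkLocal

variable {C : Type u} [Category.{v} C] {𝒳 : BasedCategory.{v₂, u₂} C}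
variable {U : C} {S R : Sieve U} (hSR : S ≤ R)

/-- inclusion of a smaller sieve -/
def inclLE : Stk.sieveCat S ⥤ᵇ Stk.sieveCat R where
  toFunctor :=
    { obj := fun c => ⟨c.obj, hSR _ c.property⟩
      map := fun {c c'} m => ObjectProperty.homMk m.hom }
  w := rfl

lemma inclLE_comp_sieveIncl :
    BasedFunctor.comp (inclLE hSR) (Stk.sieveIncl R) = Stk.sieveIncl S := rfl

/-- the slice over the source of an arrow of `R` maps to `R` -/
def jF (a : (Stk.sieveCat R).obj) : FibCat.overCat a.obj.left ⥤ᵇ Stk.sieveCat R where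
  toFunctor :=
    { obj := fun g => ⟨Over.mk (g.hom ≫ a.obj.hom), R.downward_closed a.property g.hom⟩
      map := fun {g g'} k => ObjectProperty.homMk (Over.homMk k.left (by
        change k.left ≫ g'.hom ≫ a.obj.hom = g.hom ≫ a.obj.hom
        rw [← Category.assoc, Over.w k]))
      map_id := fun g => by
        apply ObjectProperty.hom_ext; apply Over.OverMorphism.ext; rfl
      map_comp := fun k k' => by
        apply ObjectProperty.hom_ext; apply Over.OverMorphism.ext; rfl }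
  w := rfl

/-- the pulled back sieve maps to `S` -/
def kF (a : (Stk.sieveCat R).obj) : Stk.sieveCat (S.pullback a.obj.hom) ⥤ᵇ Stk.sieveCat S where
  toFunctor :=
    { obj := fun g => ⟨Over.mk (g.obj.hom ≫ a.obj.hom), g.property⟩
      map := fun {g g'} k => ObjectProperty.homMk (Over.homMk k.hom.left (by
        change k.hom.left ≫ g'.obj.hom ≫ a.obj.hom = g.obj.hom ≫ a.obj.hom
        rw [← Category.assoc, Over.w k.hom]))
      map_id := fun g => by
        apply ObjectProperty.hom_ext; apply Over.OverMorphism.ext; rfl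
      map_comp := fun k k' => by
        apply ObjectProperty.hom_ext; apply Over.OverMorphism.ext; rfl }
  w := rfl

lemma sq (a : (Stk.sieveCat R).obj) :
    BasedFunctor.comp (Stk.sieveIncl (S.pullback a.obj.hom)) (jF a) =
      BasedFunctor.comp (kF (S := S) a) (inclLE hSR) := rfl

end Groth.Agent.Lib.Helper24.StkRefine

namespace Groth.Agent.Lib.Helper24.StkRefine
open Groth.Agent.Lib.Helper24.FibGrpd Groth.Agent.Lib.Helper24.FibCatYoneda
open Groth.Agent.Lib.Helper24.FibCatFpGen Groth.Agent.Lib.Helper24.StkLocal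

variable {C : Type u} [Category.{v} C] {𝒳 : BasedCategory.{v₂, u₂} C}
variable {U : C} {S R : Sieve U} (hSR : S ≤ R)

lemma sieveCat_hom_ext {a b : (Stk.sieveCat R).obj} {m m' : a ⟶ b} (h : m.hom.left = m'.hom.left) :
    m = m' := by
  apply ObjectProperty.hom_ext; apply Over.OverMorphism.ext; exact h

lemma sieveCat_lift {a b : (Stk.sieveCat R).obj} (m : a ⟶ b) :
    (Stk.sieveCat R).p.IsHomLift m.hom.left m :=
  IsHomLift.map (Stk.sieveCat R).p m

section Ext
variable (h𝒳 : FibCat.IsFibGrpd 𝒳.p)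
  (hpre : ∀ ⦃V : C⦄ (f : V ⟶ U), R f → Stk.IsPrestackFor (S.pullback f) 𝒳)
  (A B : Stk.sieveCat R ⥤ᵇ 𝒳)
  (ε : BasedFunctor.comp (inclLE hSR) A ⟶ BasedFunctor.comp (inclLE hSR) B)

/-- the characterising property of the extension at `a` -/
def Char (a : (Stk.sieveCat R).obj) (θ : A.toFunctor.obj a ⟶ B.toFunctor.obj a) : Prop :=
  ∀ (c : (Stk.sieveCat S).obj) (n : (inclLE hSR).toFunctor.obj c ⟶ a),
    A.toFunctor.map n ≫ θ = ε.toNatTrans.app c ≫ B.toFunctor.map n

include h𝒳 hpre in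
lemma char_unique (a : (Stk.sieveCat R).obj) (θ θ' : A.toFunctor.obj a ⟶ B.toFunctor.obj a)
    (hθ : 𝒳.p.IsHomLift (𝟙 a.obj.left) θ) (hθ' : 𝒳.p.IsHomLift (𝟙 a.obj.left) θ')
    (h : Char hSR A B ε a θ) (h' : Char hSR A B ε a θ') : θ = θ' := by
  refine hom_ext_of_locally_eq h𝒳 (S.pullback a.obj.hom) (hpre a.obj.hom a.property).2 θ θ' hθ hθ' ?_
  intro W g hg
  let c : (Stk.sieveCat S).obj := ⟨Over.mk (g ≫ a.obj.hom), hg⟩
  let n : (inclLE hSR).toFunctor.obj c ⟶ a := ObjectProperty.homMk (Over.homMk g rfl)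
  have hn : (Stk.sieveCat R).p.IsHomLift g n := sieveCat_lift n
  have hl : 𝒳.p.IsHomLift g (A.toFunctor.map n) := inferInstance
  exact ⟨_, A.toFunctor.map n, hl, (h c n).trans (h' c n).symm⟩

include hpre in
lemma char_exists (a : (Stk.sieveCat R).obj) :
    ∃ θ : A.toFunctor.obj a ⟶ B.toFunctor.obj a,
      𝒳.p.IsHomLift (𝟙 a.obj.left) θ ∧ Char hSR A B ε a θ := by
  let Aa : FibCat.overCat a.obj.left ⥤ᵇ 𝒳 := BasedFunctor.comp (jF a) A
  let Ba : FibCat.overCat a.obj.left ⥤ᵇ 𝒳 := BasedFunctor.comp (jF a) B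
  let εa : (Stk.resSieve (S.pullback a.obj.hom) 𝒳).obj Aa ⟶
      (Stk.resSieve (S.pullback a.obj.hom) 𝒳).obj Ba :=
    BasedCategory.whiskerLeft (kF (S := S) a) ε
  have hfull : (Stk.resSieve (S.pullback a.obj.hom) 𝒳).Full := (hpre a.obj.hom a.property).1
  obtain ⟨εt, hεt⟩ := (Stk.resSieve (S.pullback a.obj.hom) 𝒳).map_surjective εa
  let o : (Stk.sieveCat R).obj := (jF a).toFunctor.obj (Over.mk (𝟙 a.obj.left))
  let i : o ⟶ a := ObjectProperty.homMk (Over.homMk (𝟙 a.obj.left) rfl)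
  let i' : a ⟶ o := ObjectProperty.homMk (Over.homMk (𝟙 a.obj.left) (by
    change 𝟙 _ ≫ 𝟙 _ ≫ a.obj.hom = a.obj.hom
    simp))
  have hi : (Stk.sieveCat R).p.IsHomLift (𝟙 a.obj.left) i := sieveCat_lift i
  have hi' : (Stk.sieveCat R).p.IsHomLift (𝟙 a.obj.left) i' := sieveCat_lift i'
  have l1 : 𝒳.p.IsHomLift (𝟙 a.obj.left) (A.toFunctor.map i') := inferInstance
  have l2 : 𝒳.p.IsHomLift (𝟙 a.obj.left) (B.toFunctor.map i) := inferInstance
  have l3 : 𝒳.p.IsHomLift (𝟙 a.obj.left) (εt.toNatTrans.app (Over.mk (𝟙 a.obj.left))) :=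
    app_lift εt (Over.mk (𝟙 a.obj.left))
  have l4 : 𝒳.p.IsHomLift (𝟙 a.obj.left)
      (εt.toNatTrans.app (Over.mk (𝟙 a.obj.left)) ≫ B.toFunctor.map i) := inferInstance
  refine ⟨A.toFunctor.map i' ≫ εt.toNatTrans.app (Over.mk (𝟙 a.obj.left)) ≫ B.toFunctor.map i,
    inferInstance, ?_⟩
  intro c n
  have hw : n.hom.left ≫ a.obj.hom = c.obj.hom := Over.w n.hom
  let g' : Over a.obj.left := Over.mk n.hom.left
  let gS : (Stk.sieveCat (S.pullback a.obj.hom)).obj := ⟨g', by
    change S (n.hom.left ≫ a.obj.hom)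
    rw [hw]; exact c.property⟩
  let c' : (Stk.sieveCat S).obj := (kF (S := S) a).toFunctor.obj gS
  let lam : c' ⟶ c := ObjectProperty.homMk (Over.homMk (𝟙 _) (by
    change 𝟙 _ ≫ c.obj.hom = n.hom.left ≫ a.obj.hom
    rw [hw, Category.id_comp]))
  let lam' : c ⟶ c' := ObjectProperty.homMk (Over.homMk (𝟙 _) (by
    change 𝟙 _ ≫ n.hom.left ≫ a.obj.hom = c.obj.hom
    rw [hw, Category.id_comp]))
  have e1 : εt.toNatTrans.app g' = ε.toNatTrans.app c' :=
    congrArg (fun t => t.toNatTrans.app gS) hεt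
  have nat1 := εt.toNatTrans.naturality (tOf g')
  have nat2 := ε.toNatTrans.naturality lam
  have R1 : (inclLE hSR).toFunctor.map lam' ≫ (jF a).toFunctor.map (tOf g') = n ≫ i' := by
    apply sieveCat_hom_ext
    change 𝟙 _ ≫ n.hom.left = n.hom.left ≫ 𝟙 _
    simp
  have R2 : (jF a).toFunctor.map (tOf g') ≫ i = (inclLE hSR).toFunctor.map lam ≫ n := by
    apply sieveCat_hom_ext
    change n.hom.left ≫ 𝟙 _ = 𝟙 _ ≫ n.hom.left
    simp
  have R3 : (inclLE hSR).toFunctor.map lam' ≫ (inclLE hSR).toFunctor.map lam = 𝟙 _ := by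
    apply sieveCat_hom_ext
    change 𝟙 _ ≫ 𝟙 _ = 𝟙 _
    simp
  change A.toFunctor.map ((jF a).toFunctor.map (tOf g')) ≫ εt.toNatTrans.app (Over.mk (𝟙 _)) =
    εt.toNatTrans.app g' ≫ B.toFunctor.map ((jF a).toFunctor.map (tOf g')) at nat1
  change A.toFunctor.map ((inclLE hSR).toFunctor.map lam) ≫ ε.toNatTrans.app c =
    ε.toNatTrans.app c' ≫ B.toFunctor.map ((inclLE hSR).toFunctor.map lam) at nat2
  calc A.toFunctor.map n ≫ A.toFunctor.map i' ≫ εt.toNatTrans.app (Over.mk (𝟙 a.obj.left)) ≫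
        B.toFunctor.map i
      = A.toFunctor.map (n ≫ i') ≫ εt.toNatTrans.app (Over.mk (𝟙 a.obj.left)) ≫
        B.toFunctor.map i := by rw [A.toFunctor.map_comp, Category.assoc]
    _ = A.toFunctor.map ((inclLE hSR).toFunctor.map lam') ≫
        (A.toFunctor.map ((jF a).toFunctor.map (tOf g')) ≫
          εt.toNatTrans.app (Over.mk (𝟙 a.obj.left))) ≫ B.toFunctor.map i := by
        rw [← R1, A.toFunctor.map_comp, Category.assoc, Category.assoc]
    _ = A.toFunctor.map ((inclLE hSR).toFunctor.map lam') ≫ ε.toNatTrans.app c' ≫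
        B.toFunctor.map ((jF a).toFunctor.map (tOf g') ≫ i) := by
        rw [nat1, e1, B.toFunctor.map_comp, Category.assoc]
    _ = A.toFunctor.map ((inclLE hSR).toFunctor.map lam') ≫
        (ε.toNatTrans.app c' ≫ B.toFunctor.map ((inclLE hSR).toFunctor.map lam)) ≫
          B.toFunctor.map n := by
        rw [R2, B.toFunctor.map_comp, Category.assoc]
    _ = A.toFunctor.map ((inclLE hSR).toFunctor.map lam' ≫ (inclLE hSR).toFunctor.map lam) ≫
        ε.toNatTrans.app c ≫ B.toFunctor.map n := by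
        rw [← nat2, A.toFunctor.map_comp, Category.assoc, Category.assoc]
    _ = ε.toNatTrans.app c ≫ B.toFunctor.map n := by
        rw [R3, A.toFunctor.map_id, Category.id_comp]

/-- the extension, componentwise -/
noncomputable def extApp (a : (Stk.sieveCat R).obj) : A.toFunctor.obj a ⟶ B.toFunctor.obj a :=
  (char_exists hSR hpre A B ε a).choose

lemma extApp_lift (a : (Stk.sieveCat R).obj) :
    𝒳.p.IsHomLift (𝟙 a.obj.left) (extApp hSR hpre A B ε a) :=
  (char_exists hSR hpre A B ε a).choose_spec.1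

lemma extApp_char (a : (Stk.sieveCat R).obj) : Char hSR A B ε a (extApp hSR hpre A B ε a) :=
  (char_exists hSR hpre A B ε a).choose_spec.2

include h𝒳 in
lemma extApp_naturality {a b : (Stk.sieveCat R).obj} (m : a ⟶ b) :
    A.toFunctor.map m ≫ extApp hSR hpre A B ε b = extApp hSR hpre A B ε a ≫ B.toFunctor.map m := by
  have hm : (Stk.sieveCat R).p.IsHomLift m.hom.left m := sieveCat_lift m
  have hBm : 𝒳.p.IsHomLift m.hom.left (B.toFunctor.map m) := inferInstance
  have hAm : 𝒳.p.IsHomLift m.hom.left (A.toFunctor.map m) := inferInstance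
  have hsc : 𝒳.p.IsStronglyCartesian m.hom.left (B.toFunctor.map m) :=
    scart_of_isFibGrpd 𝒳.p h𝒳 _ _
  have hb := extApp_lift hSR hpre A B ε b
  have hl : 𝒳.p.IsHomLift m.hom.left (A.toFunctor.map m ≫ extApp hSR hpre A B ε b) :=
    IsHomLift.comp_lift_id_right' (p := 𝒳.p) m.hom.left (A.toFunctor.map m) b.obj.left _
  obtain ⟨θ, ⟨hθl, hθ⟩, -⟩ := Functor.IsStronglyCartesian.universal_property 𝒳.p m.hom.left
    (B.toFunctor.map m) (𝟙 _) m.hom.left (Category.id_comp _).symm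
    (A.toFunctor.map m ≫ extApp hSR hpre A B ε b)
  have hθl' : 𝒳.p.IsHomLift (𝟙 a.obj.left) θ := hθl
  have hchar : Char hSR A B ε a θ := by
    intro c n
    have hn : (Stk.sieveCat R).p.IsHomLift n.hom.left n := sieveCat_lift n
    have hAn : 𝒳.p.IsHomLift n.hom.left (A.toFunctor.map n) := inferInstance
    have hBn : 𝒳.p.IsHomLift n.hom.left (B.toFunctor.map n) := inferInstance
    have hεc : 𝒳.p.IsHomLift (𝟙 c.obj.left) (ε.toNatTrans.app c) := ε.isHomLift' c
    have k1 : 𝒳.p.IsHomLift n.hom.left (A.toFunctor.map n ≫ θ) :=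
      IsHomLift.comp_lift_id_right' (p := 𝒳.p) n.hom.left (A.toFunctor.map n) a.obj.left θ
    have k2 : 𝒳.p.IsHomLift n.hom.left (ε.toNatTrans.app c ≫ B.toFunctor.map n) :=
      IsHomLift.comp_lift_id_left' (p := 𝒳.p) c.obj.left (ε.toNatTrans.app c) n.hom.left
        (B.toFunctor.map n)
    apply Functor.IsStronglyCartesian.ext 𝒳.p m.hom.left (B.toFunctor.map m) n.hom.left
    rw [Category.assoc, hθ, ← Category.assoc, ← A.toFunctor.map_comp,
      extApp_char hSR hpre A B ε b c (n ≫ m), B.toFunctor.map_comp, Category.assoc]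
  have := char_unique hSR h𝒳 hpre A B ε a θ _ hθl' (extApp_lift hSR hpre A B ε a) hchar
    (extApp_char hSR hpre A B ε a)
  rw [← this, hθ]

/-- the extension of `ε` to `R` -/
noncomputable def ext : A ⟶ B where
  toNatTrans :=
    { app := extApp hSR hpre A B ε
      naturality := fun _ _ m => extApp_naturality hSR h𝒳 hpre A B ε m }
  isHomLift' := fun a => extApp_lift hSR hpre A B ε a

lemma ext_app_incl (c : (Stk.sieveCat S).obj) :
    extApp hSR hpre A B ε ((inclLE hSR).toFunctor.obj c) = ε.toNatTrans.app c := by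
  have := extApp_char hSR hpre A B ε ((inclLE hSR).toFunctor.obj c) c (𝟙 _)
  rw [A.toFunctor.map_id, B.toFunctor.map_id, Category.id_comp] at this
  exact this.trans (Category.comp_id _)

end Ext

end Groth.Agent.Lib.Helper24.StkRefine

namespace Groth.Agent.Lib.Helper24.StkRefine
open Groth.Agent.Lib.Helper24.FibGrpd Groth.Agent.Lib.Helper24.FibCatYoneda
open Groth.Agent.Lib.Helper24.FibCatFpGen Groth.Agent.Lib.Helper24.StkLocal

variable {C : Type u} [Category.{v} C] {𝒳 : BasedCategory.{v₂, u₂} C}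
variable {U : C} {S R : Sieve U}

theorem isStackFor_of_le (h𝒳 : FibCat.IsFibGrpd 𝒳.p) (hSR : S ≤ R) (hS : Stk.IsStackFor S 𝒳)
    (hpre : ∀ ⦃V : C⦄ (f : V ⟶ U), R f → Stk.IsPrestackFor (S.pullback f) 𝒳) :
    Stk.IsStackFor R 𝒳 := by
  have hS' : (Stk.resSieve S 𝒳).IsEquivalence := hS
  have hfaith : (Stk.resSieve R 𝒳).Faithful := by
    constructor
    intro Φ Ψ α β h
    have h2 : (Stk.resSieve S 𝒳).map α = (Stk.resSieve S 𝒳).map β :=
      congrArg (fun t => BasedCategory.whiskerLeft (inclLE hSR) t) h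
    exact (Stk.resSieve S 𝒳).map_injective h2
  have hfull : (Stk.resSieve R 𝒳).Full := by
    constructor
    intro Φ Ψ γ
    let γS : (Stk.resSieve S 𝒳).obj Φ ⟶ (Stk.resSieve S 𝒳).obj Ψ :=
      BasedCategory.whiskerLeft (inclLE hSR) γ
    let α : Φ ⟶ Ψ := (Stk.resSieve S 𝒳).preimage γS
    have hα : (Stk.resSieve S 𝒳).map α = γS := (Stk.resSieve S 𝒳).map_preimage γS
    refine ⟨α, ?_⟩
    apply BasedNatTrans.homCategory.ext
    ext a
    let A := (Stk.resSieve R 𝒳).obj Φ
    let B := (Stk.resSieve R 𝒳).obj Ψ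
    refine char_unique hSR h𝒳 hpre A B γS a _ _ (app_lift α a.obj) (γ.isHomLift' a) ?_ ?_
    · intro c n
      have nat := α.toNatTrans.naturality n.hom
      have e1 : α.toNatTrans.app c.obj = γS.toNatTrans.app c :=
        congrArg (fun t => t.toNatTrans.app c) hα
      change Φ.toFunctor.map n.hom ≫ α.toNatTrans.app a.obj = γS.toNatTrans.app c ≫ Ψ.toFunctor.map n.hom
      rw [nat]
      exact congrArg (fun t => t ≫ Ψ.toFunctor.map n.hom) e1
    · intro c n
      exact γ.toNatTrans.naturality n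
  have hess : (Stk.resSieve R 𝒳).EssSurj := by
    constructor
    intro Ψ
    let ΨS : Stk.sieveCat S ⥤ᵇ 𝒳 := BasedFunctor.comp (inclLE hSR) Ψ
    let Φ := (Stk.resSieve S 𝒳).objPreimage ΨS
    let e : (Stk.resSieve S 𝒳).obj Φ ≅ ΨS := (Stk.resSieve S 𝒳).objObjPreimageIso ΨS
    let A := (Stk.resSieve R 𝒳).obj Φ
    let ε : BasedFunctor.comp (inclLE hSR) A ⟶ BasedFunctor.comp (inclLE hSR) Ψ := e.hom
    let η : A ⟶ Ψ := ext hSR h𝒳 hpre A Ψ ε
    have hiso : ∀ a, IsIso (η.toNatTrans.app a) := fun a => by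
      have : 𝒳.p.IsHomLift (𝟙 a.obj.left) (η.toNatTrans.app a) := η.isHomLift' a
      exact isIso_of_isFibGrpd 𝒳.p h𝒳 (𝟙 a.obj.left) _
    have : IsIso (X := A.toFunctor) η.toNatTrans := NatIso.isIso_of_isIso_app _
    have : IsIso η := BasedNatIso.isIso_of_toNatTrans_isIso η
    exact ⟨Φ, ⟨asIso η⟩⟩
  exact { }

end Groth.Agent.Lib.Helper24.StkRefine
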