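import Groth.Prelude.Def_W4stkalgstUpp
import Groth.Prelude.Def_FibCat2
import Mathlib.CategoryTheory.Localization.CalculusOfFractions
import Mathlib.CategoryTheory.Limits.Shapes.Pullback.IsPullback.Basic
import Mathlib.CategoryTheory.Limits.Preserves.Shapes.Pullbacks
import Mathlib.CategoryTheory.Limits.Preserves.Shapes.Equalizers
import Mathlib.CategoryTheory.FiberedCategory.Fibered
set_option autoImplicit false
universe v₃ u₃ v₂ u₂ v u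
open CategoryTheory CategoryTheory.Limits Stk

/-! The class `R` of `u_pp 𝒮` has a right calculus of fractions. -/

namespace Groth.Agent.Lib.Helper24.StkUp1

variable {C : Type u} [Category.{v} C] {D : Type u₂} [Category.{v₂} D] (u : C ⥤ D)
  (𝒮 : BasedCategory.{v₃, u₃} C)

instance isMultiplicative_uppR : (uppR u 𝒮).IsMultiplicative where
  id_mem a := by
    refine ⟨?_, ?_⟩
    · change 𝒮.p.IsStronglyCartesian (𝒮.p.map (𝟙 a.x)) (𝟙 a.x)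
      infer_instance
    · change IsIso (𝟙 a.V)
      infer_instance
  comp_mem f g hf hg := by
    haveI := hf.1
    haveI := hf.2
    haveI := hg.1
    haveI := hg.2
    refine ⟨?_, ?_⟩
    · change 𝒮.p.IsStronglyCartesian (𝒮.p.map (f.top ≫ g.top)) (f.top ≫ g.top)
      rw [Functor.map_comp]
      infer_instance
    · change IsIso (f.bot ≫ g.bot)
      infer_instance

variable {u 𝒮}

lemma exists_rightFraction_aux {a b b' : UppObj u 𝒮} (f : a ⟶ b') (s : b ⟶ b')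
    (hs : uppR u 𝒮 s) {U : C} (pr₁ : U ⟶ 𝒮.p.obj a.x) (pr₂ : U ⟶ 𝒮.p.obj b.x)
    (hpb : IsPullback (u.map pr₁) (u.map pr₂) (u.map (𝒮.p.map f.top)) (u.map (𝒮.p.map s.top)))
    (hw : pr₁ ≫ 𝒮.p.map f.top = pr₂ ≫ 𝒮.p.map s.top)
    {x'' : 𝒮.obj} (κ : x'' ⟶ a.x) [hκ : 𝒮.p.IsStronglyCartesian pr₁ κ] :
    ∃ (a' : UppObj u 𝒮) (s' : a' ⟶ a) (f' : a' ⟶ b), uppR u 𝒮 s' ∧ s' ≫ f = f' ≫ s := by
  obtain rfl : 𝒮.p.obj x'' = U := IsHomLift.domain_eq 𝒮.p pr₁ κ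
  obtain rfl : pr₁ = 𝒮.p.map κ := by simpa using IsHomLift.fac 𝒮.p pr₁ κ
  haveI := hs.1
  haveI := hs.2
  haveI : 𝒮.p.IsHomLift (pr₂ ≫ 𝒮.p.map s.top) (κ ≫ f.top) := by
    rw [← hw]
    infer_instance
  let τ : x'' ⟶ b.x := Functor.IsStronglyCartesian.map 𝒮.p (𝒮.p.map s.top) s.top
    (rfl : pr₂ ≫ 𝒮.p.map s.top = pr₂ ≫ 𝒮.p.map s.top) (κ ≫ f.top)
  have hτ : τ ≫ s.top = κ ≫ f.top := Functor.IsStronglyCartesian.fac _ _ _ _ _
  have hτl : 𝒮.p.IsHomLift pr₂ τ := Functor.IsStronglyCartesian.map_isHomLift _ _ _ _ _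
  have hτp : 𝒮.p.map τ = pr₂ := by simpa using IsHomLift.fac' 𝒮.p pr₂ τ
  have hcomp : a.φ ≫ u.map (𝒮.p.map f.top) =
      (f.bot ≫ inv s.bot ≫ b.φ) ≫ u.map (𝒮.p.map s.top) := by
    rw [f.w, Category.assoc, Category.assoc, s.w, IsIso.inv_hom_id_assoc]
  let φ'' : a.V ⟶ u.obj (𝒮.p.obj x'') := hpb.lift a.φ (f.bot ≫ inv s.bot ≫ b.φ) hcomp
  have h1 : φ'' ≫ u.map (𝒮.p.map κ) = a.φ := hpb.lift_fst _ _ _
  have h2 : φ'' ≫ u.map pr₂ = f.bot ≫ inv s.bot ≫ b.φ := hpb.lift_snd _ _ _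
  refine ⟨⟨x'', a.V, φ''⟩, ⟨κ, 𝟙 _, by rw [h1, Category.id_comp]⟩,
    ⟨τ, f.bot ≫ inv s.bot, by rw [hτp, h2, Category.assoc]⟩, ⟨?_, ?_⟩, ?_⟩
  · exact hκ
  · change IsIso (𝟙 a.V)
    infer_instance
  · apply UppObj.hom_ext
    · exact hτ.symm
    · change 𝟙 _ ≫ f.bot = (f.bot ≫ inv s.bot) ≫ s.bot
      rw [Category.id_comp, Category.assoc, IsIso.inv_hom_id, Category.comp_id]

lemma ext_aux {a b c : UppObj u 𝒮} (f₁ f₂ : a ⟶ b) (s : b ⟶ c) (hs : uppR u 𝒮 s)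
    (h : f₁ ≫ s = f₂ ≫ s) {E : C} (e : E ⟶ 𝒮.p.obj a.x)
    (he : e ≫ 𝒮.p.map f₁.top = e ≫ 𝒮.p.map f₂.top)
    (hl : IsLimit (Fork.ofι (u.map e) (by rw [← u.map_comp, he, u.map_comp]) :
      Fork (u.map (𝒮.p.map f₁.top)) (u.map (𝒮.p.map f₂.top))))
    {x' : 𝒮.obj} (κ : x' ⟶ a.x) [hκ : 𝒮.p.IsStronglyCartesian e κ] :
    ∃ (a' : UppObj u 𝒮) (t : a' ⟶ a), uppR u 𝒮 t ∧ t ≫ f₁ = t ≫ f₂ := by
  obtain rfl : 𝒮.p.obj x' = E := IsHomLift.domain_eq 𝒮.p e κ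
  obtain rfl : e = 𝒮.p.map κ := by simpa using IsHomLift.fac 𝒮.p e κ
  haveI := hs.1
  haveI := hs.2
  have hbot : f₁.bot = f₂.bot := by
    have := congrArg UppObj.Hom.bot h
    change f₁.bot ≫ s.bot = f₂.bot ≫ s.bot at this
    exact (cancel_mono s.bot).1 this
  have htop : f₁.top ≫ s.top = f₂.top ≫ s.top := congrArg UppObj.Hom.top h
  have hκtop : κ ≫ f₁.top = κ ≫ f₂.top := by
    haveI : 𝒮.p.IsHomLift (𝒮.p.map κ ≫ 𝒮.p.map f₁.top) (κ ≫ f₂.top) := by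
      rw [he]
      infer_instance
    refine Functor.IsStronglyCartesian.ext 𝒮.p (𝒮.p.map s.top) s.top
      (𝒮.p.map κ ≫ 𝒮.p.map f₁.top) ?_
    rw [Category.assoc, Category.assoc, htop]
  have hcomp : a.φ ≫ u.map (𝒮.p.map f₁.top) = a.φ ≫ u.map (𝒮.p.map f₂.top) := by
    rw [f₁.w, f₂.w, hbot]
  let l := Fork.IsLimit.lift' hl a.φ hcomp
  have hl1 : l.1 ≫ u.map (𝒮.p.map κ) = a.φ := l.2
  refine ⟨⟨x', a.V, l.1⟩, ⟨κ, 𝟙 _, by rw [hl1, Category.id_comp]⟩, ⟨hκ, ?_⟩, ?_⟩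
  · change IsIso (𝟙 a.V)
    infer_instance
  · apply UppObj.hom_ext
    · exact hκtop
    · change 𝟙 _ ≫ f₁.bot = 𝟙 _ ≫ f₂.bot
      rw [hbot]

variable (u 𝒮)

theorem hasRightCalculusOfFractions [𝒮.p.IsFibered]
    (hC : ∀ (I : Type) [SmallCategory I] [FinCategory I], Nonempty I → HasLimitsOfShape I C)
    (hu : ∀ (I : Type) [SmallCategory I] [FinCategory I], Nonempty I → PreservesLimitsOfShape I u) :
    (uppR u 𝒮).HasRightCalculusOfFractions where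
  exists_rightFraction a b φ := by
    haveI := hC WalkingCospan ⟨WalkingCospan.one⟩
    haveI := hu WalkingCospan ⟨WalkingCospan.one⟩
    have hpb := IsPullback.of_hasPullback (𝒮.p.map φ.f.top) (𝒮.p.map φ.s.top)
    have hpb' := hpb.map u
    obtain ⟨x'', κ, hκ⟩ := Functor.IsPreFibered.exists_isCartesian' (p := 𝒮.p)
      (pullback.fst (𝒮.p.map φ.f.top) (𝒮.p.map φ.s.top))
    haveI : 𝒮.p.IsStronglyCartesian (pullback.fst (𝒮.p.map φ.f.top) (𝒮.p.map φ.s.top)) κ :=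
      inferInstance
    obtain ⟨a', s', f', hs', e⟩ := exists_rightFraction_aux φ.f φ.s φ.hs _ _ hpb' hpb.w κ
    exact ⟨⟨s', hs', f'⟩, e⟩
  ext a b c f₁ f₂ s hs h := by
    haveI := hC WalkingParallelPair ⟨WalkingParallelPair.one⟩
    haveI := hu WalkingParallelPair ⟨WalkingParallelPair.one⟩
    obtain ⟨x', κ, hκ⟩ := Functor.IsPreFibered.exists_isCartesian' (p := 𝒮.p)
      (equalizer.ι (𝒮.p.map f₁.top) (𝒮.p.map f₂.top))
    haveI : 𝒮.p.IsStronglyCartesian (equalizer.ι (𝒮.p.map f₁.top) (𝒮.p.map f₂.top)) κ :=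
      inferInstance
    obtain ⟨a', t, ht, e⟩ := ext_aux f₁ f₂ s hs h _ (equalizer.condition _ _)
      (isLimitForkMapOfIsLimit u _ (equalizerIsEqualizer _ _)) κ
    exact ⟨a', t, ht, e⟩

end Groth.Agent.Lib.Helper24.StkUp1
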