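import Groth.Agent.Lib.Helper24.StkUp1
import Groth.Agent.Lib.Helper24.FibGrpd
set_option autoImplicit false
universe v₃ u₃ v₂ u₂ v u
open CategoryTheory CategoryTheory.Limits Stk

/-! The canonical lifts in `u_p 𝒮` are strongly cartesian. -/

namespace Groth.Agent.Lib.Helper24.StkUp2

variable {C : Type u} [Category.{v} C] {D : Type u₂} [Category.{v₂} D] (u : C ⥤ D)
  (𝒮 : BasedCategory.{v₃, u₃} C)

/-- the structure functor of `u_p 𝒮` -/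
noncomputable def PP : (uppR u 𝒮).Localization ⥤ D :=
  Localization.Construction.lift (UppObj.forget u 𝒮) (uppR_isInvertedBy u 𝒮)

lemma PP_map {a b : UppObj u 𝒮} (f : a ⟶ b) :
    (PP u 𝒮).map ((uppR u 𝒮).Q.map f) = f.bot := by
  have := Functor.congr_hom
    (Localization.Construction.fac (UppObj.forget u 𝒮) (uppR_isInvertedBy u 𝒮)) f
  rw [Functor.comp_map] at this
  have h2 : ∀ {X Y : D} (p : X = X) (q : Y = Y) (k : X ⟶ Y), eqToHom p ≫ k ≫ eqToHom q = k := by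
    intro X Y p q k
    simp
  exact this.trans (h2 _ _ _)

variable {u 𝒮}

/-- the image in `D` of a morphism of `u_p 𝒮` -/
noncomputable def pm {a b : UppObj u 𝒮} (m : (uppR u 𝒮).Q.obj a ⟶ (uppR u 𝒮).Q.obj b) :
    a.V ⟶ b.V := (PP u 𝒮).map m

lemma pm_comp {a b c : UppObj u 𝒮} (m : (uppR u 𝒮).Q.obj a ⟶ (uppR u 𝒮).Q.obj b)
    (n : (uppR u 𝒮).Q.obj b ⟶ (uppR u 𝒮).Q.obj c) : pm (m ≫ n) = pm m ≫ pm n :=
  (PP u 𝒮).map_comp m n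

lemma pm_id (a : UppObj u 𝒮) : pm (𝟙 ((uppR u 𝒮).Q.obj a)) = 𝟙 a.V := (PP u 𝒮).map_id _

lemma pm_Q {a b : UppObj u 𝒮} (f : a ⟶ b) : pm ((uppR u 𝒮).Q.map f) = f.bot := PP_map u 𝒮 f

lemma pm_inv_Q {a b : UppObj u 𝒮} (f : a ⟶ b) [IsIso ((uppR u 𝒮).Q.map f)] [IsIso f.bot] :
    pm (inv ((uppR u 𝒮).Q.map f)) = inv f.bot := by
  apply IsIso.eq_inv_of_hom_inv_id
  rw [← pm_Q f, ← pm_comp, IsIso.hom_inv_id, pm_id]

lemma isHomLift_iff {a b : UppObj u 𝒮} (g : a.V ⟶ b.V)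
    (m : (uppR u 𝒮).Q.obj a ⟶ (uppR u 𝒮).Q.obj b) :
    (PP u 𝒮).IsHomLift g m ↔ pm m = g := by
  constructor
  · intro h
    have := IsHomLift.fac' (PP u 𝒮) g m
    have h2 : ∀ {X Y : D} (p : X = X) (q : Y = Y) (k : X ⟶ Y),
        eqToHom p ≫ k ≫ eqToHom q = k := by
      intro X Y p q k
      simp
    exact this.trans (h2 _ _ _)
  · intro h
    refine IsHomLift.of_fac' _ _ _ rfl rfl ?_
    have h2 : ∀ {X Y : D} (p : X = X) (q : Y = Y) (k : X ⟶ Y),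
        eqToHom p ≫ k ≫ eqToHom q = k := by
      intro X Y p q k
      simp
    exact h.trans (h2 _ _ _).symm

/-- the canonical lift of `g : V' ⟶ a.V` -/
def liftObj (a : UppObj u 𝒮) {V' : D} (g : V' ⟶ a.V) : UppObj u 𝒮 := ⟨a.x, V', g ≫ a.φ⟩

def liftHom (a : UppObj u 𝒮) {V' : D} (g : V' ⟶ a.V) : liftObj a g ⟶ a :=
  ⟨𝟙 _, g, by
    change (g ≫ a.φ) ≫ u.map (𝒮.p.map (𝟙 a.x)) = g ≫ a.φ
    rw [CategoryTheory.Functor.map_id, CategoryTheory.Functor.map_id, Category.comp_id]⟩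

theorem key [(uppR u 𝒮).HasRightCalculusOfFractions]
    (a : UppObj u 𝒮) {V' : D} (g : V' ⟶ a.V) (b : UppObj u 𝒮) (h : b.V ⟶ V')
    (m : (uppR u 𝒮).Q.obj b ⟶ (uppR u 𝒮).Q.obj a) (hPm : pm m = h ≫ g) :
    ∃! χ : (uppR u 𝒮).Q.obj b ⟶ (uppR u 𝒮).Q.obj (liftObj a g),
      pm χ = h ∧ χ ≫ (uppR u 𝒮).Q.map (liftHom a g) = m := by
  obtain ⟨φ, hφ⟩ := Localization.exists_rightFraction (uppR u 𝒮).Q (uppR u 𝒮) m
  haveI hsbot : IsIso φ.s.bot := φ.hs.2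
  haveI hQs : IsIso ((uppR u 𝒮).Q.map φ.s) := Localization.inverts (uppR u 𝒮).Q (uppR u 𝒮) _ φ.hs
  have hφ' : m = inv ((uppR u 𝒮).Q.map φ.s) ≫ (uppR u 𝒮).Q.map φ.f := hφ
  have hfbot : φ.f.bot = φ.s.bot ≫ h ≫ g := by
    have h1 : pm m = inv φ.s.bot ≫ φ.f.bot := by
      rw [hφ', pm_comp, pm_inv_Q φ.s, pm_Q]
    rw [hPm] at h1
    rw [h1, IsIso.hom_inv_id_assoc]
  let f' : φ.X' ⟶ liftObj a g := ⟨φ.f.top, φ.s.bot ≫ h, by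
    change φ.X'.φ ≫ u.map (𝒮.p.map φ.f.top) = (φ.s.bot ≫ h) ≫ (g ≫ a.φ)
    rw [φ.f.w, hfbot]
    simp only [Category.assoc]⟩
  have hf'c : f' ≫ liftHom a g = φ.f := by
    apply UppObj.hom_ext
    · exact Category.comp_id _
    · change (φ.s.bot ≫ h) ≫ g = φ.f.bot
      rw [hfbot, Category.assoc]
  have hχ0 : pm (inv ((uppR u 𝒮).Q.map φ.s) ≫ (uppR u 𝒮).Q.map f') = h := by
    rw [pm_comp, pm_inv_Q φ.s, pm_Q]
    change inv φ.s.bot ≫ φ.s.bot ≫ h = h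
    rw [IsIso.inv_hom_id_assoc]
  have hχc : (inv ((uppR u 𝒮).Q.map φ.s) ≫ (uppR u 𝒮).Q.map f') ≫
      (uppR u 𝒮).Q.map (liftHom a g) = m := by
    rw [Category.assoc, ← Functor.map_comp, hf'c, hφ']
  refine ⟨inv ((uppR u 𝒮).Q.map φ.s) ≫ (uppR u 𝒮).Q.map f', ⟨hχ0, hχc⟩, ?_⟩
  · rintro χ' ⟨hPχ', hχ'c⟩
    obtain ⟨ψ, hψ⟩ := Localization.exists_rightFraction (uppR u 𝒮).Q (uppR u 𝒮) χ'
    haveI hQψs : IsIso ((uppR u 𝒮).Q.map ψ.s) := Localization.inverts (uppR u 𝒮).Q (uppR u 𝒮) _ ψ.hs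
    have hψ' : χ' = inv ((uppR u 𝒮).Q.map ψ.s) ≫ (uppR u 𝒮).Q.map ψ.f := hψ
    obtain ⟨ρ, hρ⟩ := (MorphismProperty.LeftFraction.mk φ.s ψ.s ψ.hs).exists_rightFraction
    change ρ.s ≫ φ.s = ρ.f ≫ ψ.s at hρ
    haveI hQρs : IsIso ((uppR u 𝒮).Q.map ρ.s) := Localization.inverts (uppR u 𝒮).Q (uppR u 𝒮) _ ρ.hs
    haveI hQt : IsIso ((uppR u 𝒮).Q.map (ρ.s ≫ φ.s)) := by
      rw [Functor.map_comp]
      infer_instance
    have e1 : (uppR u 𝒮).Q.map (ρ.s ≫ φ.s) ≫ (inv ((uppR u 𝒮).Q.map φ.s) ≫ (uppR u 𝒮).Q.map f') = (uppR u 𝒮).Q.map (ρ.s ≫ f') := by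
      rw [Functor.map_comp, Functor.map_comp, Category.assoc, IsIso.hom_inv_id_assoc]
    have e2 : (uppR u 𝒮).Q.map (ρ.s ≫ φ.s) ≫ χ' = (uppR u 𝒮).Q.map (ρ.f ≫ ψ.f) := by
      rw [hρ, hψ', Functor.map_comp, Functor.map_comp, Category.assoc, IsIso.hom_inv_id_assoc]
    have hk : (uppR u 𝒮).Q.map (ρ.s ≫ f') = (uppR u 𝒮).Q.map (ρ.f ≫ ψ.f) := by
      have hc : (uppR u 𝒮).Q.map ((ρ.s ≫ f') ≫ liftHom a g) = (uppR u 𝒮).Q.map ((ρ.f ≫ ψ.f) ≫ liftHom a g) := by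
        rw [(uppR u 𝒮).Q.map_comp (ρ.s ≫ f') (liftHom a g),
          (uppR u 𝒮).Q.map_comp (ρ.f ≫ ψ.f) (liftHom a g), ← e1, ← e2,
          Category.assoc ((uppR u 𝒮).Q.map (ρ.s ≫ φ.s)) _ ((uppR u 𝒮).Q.map (liftHom a g)),
          Category.assoc ((uppR u 𝒮).Q.map (ρ.s ≫ φ.s)) χ' ((uppR u 𝒮).Q.map (liftHom a g)),
          hχc, hχ'c]
      obtain ⟨Z', t', ht', he⟩ := (MorphismProperty.map_eq_iff_precomp (uppR u 𝒮).Q (uppR u 𝒮) _ _).1 hc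
      refine (MorphismProperty.map_eq_iff_precomp (uppR u 𝒮).Q (uppR u 𝒮) _ _).2 ⟨Z', t', ht', ?_⟩
      have hb : (ρ.s ≫ f').bot = (ρ.f ≫ ψ.f).bot := by
        rw [← pm_Q (ρ.s ≫ f'), ← pm_Q (ρ.f ≫ ψ.f), ← e1, ← e2,
          pm_comp ((uppR u 𝒮).Q.map (ρ.s ≫ φ.s)) χ',
          pm_comp ((uppR u 𝒮).Q.map (ρ.s ≫ φ.s)) (inv ((uppR u 𝒮).Q.map φ.s) ≫ (uppR u 𝒮).Q.map f'),
          hPχ', hχ0]
      apply UppObj.hom_ext
      · have := congrArg UppObj.Hom.top he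
        change t'.top ≫ ((ρ.s ≫ f').top ≫ 𝟙 _) = t'.top ≫ ((ρ.f ≫ ψ.f).top ≫ 𝟙 _) at this
        rw [Category.comp_id, Category.comp_id] at this
        exact this
      · change t'.bot ≫ (ρ.s ≫ f').bot = t'.bot ≫ (ρ.f ≫ ψ.f).bot
        rw [hb]
    rw [← cancel_epi ((uppR u 𝒮).Q.map (ρ.s ≫ φ.s)), e1, e2, hk]

theorem isStronglyCartesian_liftHom [(uppR u 𝒮).HasRightCalculusOfFractions]
    (a : UppObj u 𝒮) {V' : D} (g : V' ⟶ a.V) :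
    (PP u 𝒮).IsStronglyCartesian g ((uppR u 𝒮).Q.map (liftHom a g)) := by
  haveI : (PP u 𝒮).IsHomLift g ((uppR u 𝒮).Q.map (liftHom a g)) :=
    (isHomLift_iff (a := liftObj a g) (b := a) g _).2 (pm_Q _)
  constructor
  intro a'' h m hm
  obtain ⟨b, rfl⟩ : ∃ b, a'' = (uppR u 𝒮).Q.obj b :=
    ⟨_, ((Localization.Construction.objEquiv (uppR u 𝒮)).apply_symm_apply a'').symm⟩
  have hPm : pm m = h ≫ g := (isHomLift_iff (a := b) (b := a) (h ≫ g) m).1 hm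
  obtain ⟨χ, ⟨h1, h2⟩, h3⟩ := key a g b h m hPm
  exact ⟨χ, ⟨(isHomLift_iff (a := b) (b := liftObj a g) h χ).2 h1, h2⟩,
    fun χ' ⟨h1', h2'⟩ => h3 χ' ⟨(isHomLift_iff (a := b) (b := liftObj a g) h χ').1 h1', h2'⟩⟩

theorem isFibered_PP [(uppR u 𝒮).HasRightCalculusOfFractions] : (PP u 𝒮).IsFibered := by
  apply Functor.IsFibered.of_exists_isStronglyCartesian
  intro a'' R f
  obtain ⟨a, rfl⟩ : ∃ a, a'' = (uppR u 𝒮).Q.obj a :=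
    ⟨_, ((Localization.Construction.objEquiv (uppR u 𝒮)).apply_symm_apply a'').symm⟩
  exact ⟨(uppR u 𝒮).Q.obj (liftObj a f), (uppR u 𝒮).Q.map (liftHom a f),
    isStronglyCartesian_liftHom a f⟩

variable (u 𝒮)

/-- S12813 -/
theorem isFibered_up [𝒮.p.IsFibered]
    (hC : ∀ (I : Type) [SmallCategory I] [FinCategory I], Nonempty I → HasLimitsOfShape I C)
    (hu : ∀ (I : Type) [SmallCategory I] [FinCategory I], Nonempty I → PreservesLimitsOfShape I u) :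
    (Stk.up u 𝒮).p.IsFibered := by
  haveI := Groth.Agent.Lib.Helper24.StkUp1.hasRightCalculusOfFractions u 𝒮 hC hu
  exact isFibered_PP (u := u) (𝒮 := 𝒮)

open Groth.Agent.Lib.Helper24.FibGrpd in
/-- S12814 -/
theorem isFibGrpd_up (h𝒮 : FibCat.IsFibGrpd 𝒮.p)
    (hC : ∀ (I : Type) [SmallCategory I] [FinCategory I], Nonempty I → HasLimitsOfShape I C)
    (hu : ∀ (I : Type) [SmallCategory I] [FinCategory I], Nonempty I → PreservesLimitsOfShape I u) :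
    FibCat.IsFibGrpd (Stk.up u 𝒮).p := by
  haveI : 𝒮.p.IsFibered := isFibered_of_isFibGrpd 𝒮.p h𝒮
  haveI := Groth.Agent.Lib.Helper24.StkUp1.hasRightCalculusOfFractions u 𝒮 hC hu
  suffices h : FibCat.IsFibGrpd (PP u 𝒮) from h
  constructor
  · intro a'' R f
    obtain ⟨a, rfl⟩ : ∃ a, a'' = (uppR u 𝒮).Q.obj a :=
      ⟨_, ((Localization.Construction.objEquiv (uppR u 𝒮)).apply_symm_apply a'').symm⟩
    exact ⟨(uppR u 𝒮).Q.obj (liftObj a f), (uppR u 𝒮).Q.map (liftHom a f),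
      (isStronglyCartesian_liftHom a f).toIsHomLift⟩
  · intro y x φ
    obtain ⟨b, rfl⟩ : ∃ b, y = (uppR u 𝒮).Q.obj b :=
      ⟨_, ((Localization.Construction.objEquiv (uppR u 𝒮)).apply_symm_apply y).symm⟩
    obtain ⟨a, rfl⟩ : ∃ a, x = (uppR u 𝒮).Q.obj a :=
      ⟨_, ((Localization.Construction.objEquiv (uppR u 𝒮)).apply_symm_apply x).symm⟩
    obtain ⟨ψ, hψ⟩ := Localization.exists_rightFraction (uppR u 𝒮).Q (uppR u 𝒮) φ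
    haveI hQs : IsIso ((uppR u 𝒮).Q.map ψ.s) := Localization.inverts (uppR u 𝒮).Q (uppR u 𝒮) _ ψ.hs
    have hψ' : φ = inv ((uppR u 𝒮).Q.map ψ.s) ≫ (uppR u 𝒮).Q.map ψ.f := hψ
    let f₁ : ψ.X' ⟶ liftObj a ψ.f.bot := ⟨ψ.f.top, 𝟙 _, by
      change ψ.X'.φ ≫ u.map (𝒮.p.map ψ.f.top) = 𝟙 _ ≫ (ψ.f.bot ≫ a.φ)
      rw [ψ.f.w, Category.id_comp]⟩
    have hf₁ : uppR u 𝒮 f₁ := ⟨h𝒮.isStronglyCartesian ψ.f.top, by
      change IsIso (𝟙 _)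
      infer_instance⟩
    haveI hQf₁ : IsIso ((uppR u 𝒮).Q.map f₁) := Localization.inverts (uppR u 𝒮).Q (uppR u 𝒮) _ hf₁
    have hfac : ψ.f = f₁ ≫ liftHom a ψ.f.bot := by
      apply UppObj.hom_ext
      · exact (Category.comp_id _).symm
      · exact (Category.id_comp _).symm
    haveI hc := isStronglyCartesian_liftHom a ψ.f.bot
    haveI s1 : (PP u 𝒮).IsStronglyCartesian ((PP u 𝒮).map (inv ((uppR u 𝒮).Q.map ψ.s)))
        (inv ((uppR u 𝒮).Q.map ψ.s)) := Functor.IsStronglyCartesian.of_isIso _ _ _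
    haveI s2 : (PP u 𝒮).IsStronglyCartesian ((PP u 𝒮).map ((uppR u 𝒮).Q.map f₁))
        ((uppR u 𝒮).Q.map f₁) := Functor.IsStronglyCartesian.of_isIso _ _ _
    have key : (PP u 𝒮).IsStronglyCartesian
        ((PP u 𝒮).map (inv ((uppR u 𝒮).Q.map ψ.s)) ≫ (PP u 𝒮).map ((uppR u 𝒮).Q.map f₁) ≫ ψ.f.bot)
        (inv ((uppR u 𝒮).Q.map ψ.s) ≫ (uppR u 𝒮).Q.map f₁ ≫
          (uppR u 𝒮).Q.map (liftHom a ψ.f.bot)) := by
      have k2 : (PP u 𝒮).IsStronglyCartesian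
          ((PP u 𝒮).map ((uppR u 𝒮).Q.map f₁) ≫ ψ.f.bot)
          ((uppR u 𝒮).Q.map f₁ ≫ (uppR u 𝒮).Q.map (liftHom a ψ.f.bot)) :=
        @Functor.IsStronglyCartesian.comp _ _ _ _ (PP u 𝒮) _ _ _ _ _ _ _ _ _ _ s2 hc
      exact @Functor.IsStronglyCartesian.comp _ _ _ _ (PP u 𝒮) _ _ _ _ _ _ _ _ _ _ s1 k2
    have hφ2 : φ = inv ((uppR u 𝒮).Q.map ψ.s) ≫ (uppR u 𝒮).Q.map f₁ ≫
          (uppR u 𝒮).Q.map (liftHom a ψ.f.bot) := by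
      rw [hψ', ← Functor.map_comp]
      exact congrArg (fun k => inv ((uppR u 𝒮).Q.map ψ.s) ≫ (uppR u 𝒮).Q.map k) hfac
    rw [← hφ2] at key
    haveI := key.toIsHomLift
    exact (isStronglyCartesian_iff_map (PP u 𝒮) _ φ).1 key

end Groth.Agent.Lib.Helper24.StkUp2
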