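import Mathlib

set_option backward.isDefEq.respectTransparency false
set_option backward.isDefEq.respectTransparency.types false
set_option autoImplicit false

universe v u

open CategoryTheory CategoryTheory.Limits CategoryTheory.Pretriangulated CategoryTheory.Triangulated

namespace Groth.Agent.Lib.Helper24.TQuotA

variable {C : Type u} [Category.{v} C] [Preadditive C] [HasZeroObject C] [HasShift C ℤ]
    [∀ n : ℤ, (shiftFunctor C n).Additive] [Pretriangulated C] [IsTriangulated C]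
    (t : TStructure C) (hb : ∀ X : C, t.bounded X)
    (D : ObjectProperty C) [D.IsTriangulated] [D.IsClosedUnderIsomorphisms]
    (h1 : ∀ X : C, D X → ∀ n : ℤ, D ((t.truncGELE n n).obj X))
    (h2 : ∀ (X Y Z : C) (f : X ⟶ Y) (g : Y ⟶ Z) (h : Z ⟶ X⟦(1 : ℤ)⟧),
      Triangle.mk f g h ∈ distTriang C → t.heart X → t.heart Y → t.heart Z → D Y → D X ∧ D Z)

include hb h1 in
theorem D_truncLT {N : C} (hN : D N) (n : ℤ) : D ((t.truncLT n).obj N) := by
  obtain ⟨⟨a, ha⟩, _⟩ := hb N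
  have h0 : ∀ m : ℤ, m ≤ a → D ((t.truncLT m).obj N) := fun m hm => by
    have : t.IsGE N m := t.isGE_of_ge N m a hm
    exact D.prop_of_isZero (t.isZero_truncLT_obj_of_isGE m N)
  have hk : ∀ k : ℕ, D ((t.truncLT (a + k)).obj N) := by
    intro k
    induction k with
    | zero => exact h0 _ (by simp)
    | succ k ih =>
      have hT := t.triangleLTLTGELT_distinguished (a + k) (a + k + 1) (by lia) N
      have h3 : D ((t.truncGELT (a + k) (a + k + 1)).obj N) := h1 N hN (a + k)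
      have := D.ext_of_isTriangulatedClosed₂ _ hT ih h3
      have e : (a + ((k + 1 : ℕ) : ℤ)) = a + k + 1 := by push_cast; ring
      rw [e]; exact this
  by_cases hn : n ≤ a
  · exact h0 n hn
  · obtain ⟨k, hk'⟩ := Int.eq_ofNat_of_zero_le (show 0 ≤ n - a by lia)
    have e : n = a + k := by lia
    rw [e]; exact hk k

include hb h1 in
theorem D_truncLE {N : C} (hN : D N) (n : ℤ) : D ((t.truncLE n).obj N) :=
  D_truncLT t hb D h1 hN (n + 1)

include hb h1 in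
theorem D_truncGE {N : C} (hN : D N) (n : ℤ) : D ((t.truncGE n).obj N) :=
  D.ext_of_isTriangulatedClosed₃ _ (t.triangleLTGE_distinguished n N)
    (D_truncLT t hb D h1 hN n) hN

include hb h1 h2 in
/-- `A ≤ 0`, `A → B → K → A[1]` distinguished with `K ≥ 0` and `B ∈ D`; then `A ∈ D`. -/
theorem D_of_triangle_aux {A B K : C} (f : A ⟶ B) (g : B ⟶ K) (h : K ⟶ A⟦(1 : ℤ)⟧)
    (hT : Triangle.mk f g h ∈ distTriang C) [t.IsLE A 0] [t.IsGE K 0] (hB : D B) : D A := by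
  -- step 1: factor through `τ≤0 B`
  let f₀ : A ⟶ (t.truncLE 0).obj B := t.liftTruncLE f 0
  have hf₀ : f₀ ≫ (t.truncLEι 0).app B = f := t.liftTruncLE_ι f 0
  obtain ⟨K', g', h', hT'⟩ := distinguished_cocone_triangle f₀
  have H₂ := someOctahedron hf₀ hT' (t.triangleLEGT_distinguished 0 B) hT
  have hK'ge : t.IsGE K' 0 := by
    have h₁ : t.IsGE ((t.truncGT 0).obj B) (0 + 1) := inferInstance
    have h₁' : t.IsGE (((t.truncGT 0).obj B)⟦(-1 : ℤ)⟧) 2 :=
      t.isGE_shift _ (0 + 1) (-1) 2 (by lia)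
    have h₁'' : t.IsGE (((t.truncGT 0).obj B)⟦(-1 : ℤ)⟧) 0 := t.isGE_of_ge _ 0 2 (by lia)
    exact t.isGE₂ _ (inv_rot_of_distTriang _ H₂.mem) 0 h₁'' (show t.IsGE K 0 from inferInstance)
  have hK'le : t.IsLE K' 0 := by
    have h₃ : t.IsLE (A⟦(1 : ℤ)⟧) (-1) := t.isLE_shift A 0 1 (-1) (by lia)
    have h₃' : t.IsLE (A⟦(1 : ℤ)⟧) 0 := t.isLE_of_le _ (-1) 0 (by lia)
    exact t.isLE₂ _ (rot_of_distTriang _ hT') 0 (show t.IsLE ((t.truncLE 0).obj B) 0 from inferInstance) h₃'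
  have hB₀ : D ((t.truncLE 0).obj B) := D_truncLE t hb D h1 hB 0
  have hA₀ : D ((t.truncLT 0).obj A) := by
    have : IsIso ((t.truncLT 0).map f) :=
      t.isIso₁_truncLT_map_of_isGE (Triangle.mk f g h) hT 0 (show t.IsGE K 0 from inferInstance)
    exact D.prop_of_iso (asIso ((t.truncLT 0).map f)).symm (D_truncLT t hb D h1 hB 0)
  obtain ⟨Z, v, w, hZ⟩ := distinguished_cocone_triangle ((t.truncLTι 0).app A ≫ f₀)
  have H₃ := someOctahedron rfl (t.triangleLTGE_distinguished 0 A) hT' hZ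
  have hDZ : D Z := D.ext_of_isTriangulatedClosed₃ _ hZ hA₀ hB₀
  have hle1 : t.IsLE ((t.truncGE 0).obj A) 0 := inferInstance
  have hge1 : t.IsGE ((t.truncGE 0).obj A) 0 := inferInstance
  have hZle : t.IsLE Z 0 := t.isLE₂ _ H₃.mem 0 hle1 hK'le
  have hZge : t.IsGE Z 0 := t.isGE₂ _ H₃.mem 0 hge1 hK'ge
  have := h2 _ _ _ _ _ _ H₃.mem ((t.mem_heart_iff _).2 ⟨hle1, hge1⟩)
    ((t.mem_heart_iff _).2 ⟨hZle, hZge⟩) ((t.mem_heart_iff _).2 ⟨hK'le, hK'ge⟩) hDZ
  exact D.ext_of_isTriangulatedClosed₂ _ (t.triangleLTGE_distinguished 0 A) hA₀ this.1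

include hb h1 h2 in
/-- Key lemma: if `A → B → C₀ → A[1]` is distinguished with `C₀ ≥ 0` and `B ∈ D`, then
`τ≤0 A ∈ D`. -/
theorem D_truncLE_of_triangle {A B C₀ : C} (f : A ⟶ B) (g : B ⟶ C₀) (h : C₀ ⟶ A⟦(1 : ℤ)⟧)
    (hT : Triangle.mk f g h ∈ distTriang C) [t.IsGE C₀ 0] (hB : D B) :
    D ((t.truncLE 0).obj A) := by
  obtain ⟨K, gK, hK, hTK⟩ := distinguished_cocone_triangle ((t.truncLEι 0).app A ≫ f)
  have H₁ := someOctahedron rfl (t.triangleLEGT_distinguished 0 A) hT hTK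
  have h₁ : t.IsGE ((t.truncGT 0).obj A) (0 + 1) := inferInstance
  have h₁' : t.IsGE ((t.truncGT 0).obj A) 0 := t.isGE_of_ge _ 0 (0 + 1) (by lia)
  have hKge : t.IsGE K 0 := t.isGE₂ _ H₁.mem 0 h₁' (show t.IsGE C₀ 0 from inferInstance)
  exact D_of_triangle_aux t hb D h1 h2 _ gK hK hTK hB

end Groth.Agent.Lib.Helper24.TQuotA
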