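import Mathlib
import Groth.Agent.Lib.Helper24.TQuotA

set_option backward.isDefEq.respectTransparency false
set_option backward.isDefEq.respectTransparency.types false
set_option autoImplicit false

universe v u v' u'

open CategoryTheory CategoryTheory.Limits CategoryTheory.Pretriangulated CategoryTheory.Triangulated
open ZeroObject

namespace Groth.Agent.Lib.Helper24.TQuotB

open Groth.Agent.Lib.Helper24.TQuotA

section General

variable {E : Type u'} [Category.{v'} E] [Preadditive E] [HasZeroObject E] [HasShift E ℤ]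
    [∀ n : ℤ, (shiftFunctor E n).Additive] [Pretriangulated E]

theorem tStructure_ext {t₁ t₂ : TStructure E} (hle : t₁.le = t₂.le) (hge : t₁.ge = t₂.ge) :
    t₁ = t₂ := by
  cases t₁; cases t₂
  simp only at hle hge
  subst hle; subst hge
  rfl

theorem tStructure_eq_of_le {t₁ t₂ : TStructure E} (hle : ∀ n, t₁.le n ≤ t₂.le n)
    (hge : ∀ n, t₁.ge n ≤ t₂.ge n) : t₁ = t₂ := by
  apply tStructure_ext
  · funext n
    apply le_antisymm (hle n)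
    intro X hX
    have hX' : t₂.IsLE X n := ⟨hX⟩
    rw [TStructure.le_iff_isLE, t₁.isLE_iff_orthogonal n (n + 1) rfl]
    intro Y f hY
    have hY' : t₂.IsGE Y (n + 1) := ⟨hge _ _ hY.ge⟩
    exact t₂.zero f n (n + 1)
  · funext n
    apply le_antisymm (hge n)
    intro X hX
    have hX' : t₂.IsGE X n := ⟨hX⟩
    rw [TStructure.ge_iff_isGE, t₁.isGE_iff_orthogonal (n - 1) n (by lia)]
    intro Y f hY
    have hY' : t₂.IsLE Y (n - 1) := ⟨hle _ _ hY.le⟩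
    exact t₂.zero f (n - 1) n

end General

variable {C : Type u} [Category.{v} C] [Preadditive C] [HasZeroObject C] [HasShift C ℤ]
    [∀ n : ℤ, (shiftFunctor C n).Additive] [Pretriangulated C] [IsTriangulated C]
    (t : TStructure C) (hb : ∀ X : C, t.bounded X)
    (D : ObjectProperty C) [D.IsTriangulated] [D.IsClosedUnderIsomorphisms]
    (h1 : ∀ X : C, D X → ∀ n : ℤ, D ((t.truncGELE n n).obj X))
    (h2 : ∀ (X Y Z : C) (f : X ⟶ Y) (g : Y ⟶ Z) (h : Z ⟶ X⟦(1 : ℤ)⟧),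
      Triangle.mk f g h ∈ distTriang C → t.heart X → t.heart Y → t.heart Z → D Y → D X ∧ D Z)
    {E : Type u'} [Category.{v'} E] [Preadditive E] [HasZeroObject E] [HasShift E ℤ]
    [∀ n : ℤ, (shiftFunctor E n).Additive] [Pretriangulated E]
    (q : C ⥤ E) [q.CommShift ℤ] [q.IsTriangulated] [q.IsLocalization D.trW]

theorem isZero_q_obj {N : C} (hN : D N) : IsZero (q.obj N) := by
  have hW : D.trW (0 : (0 : C) ⟶ N) := ⟨N, 𝟙 N, 0, contractible_distinguished₁ N, hN⟩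
  have : IsIso (q.map (0 : (0 : C) ⟶ N)) := Localization.inverts q D.trW _ hW
  exact IsZero.of_iso (q.map_isZero (isZero_zero C)) (asIso (q.map (0 : (0 : C) ⟶ N))).symm

include hb h1 h2 in
theorem hom_eq_zero {X Y : C} [t.IsLE X 0] [t.IsGE Y 1] (φ : q.obj X ⟶ q.obj Y) : φ = 0 := by
  obtain ⟨fr, rfl⟩ := Localization.exists_leftFraction q D.trW φ
  obtain ⟨N, g, h, hT, hN⟩ := fr.hs
  have hT' := rot_of_distTriang _ hT
  have : t.IsGE (Y⟦(1 : ℤ)⟧) 0 := t.isGE_shift Y 1 1 0 (by lia)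
  have hD : D ((t.truncLE 0).obj fr.Y') := D_truncLE_of_triangle t hb D h1 h2 g h _ hT' hN
  have hf : fr.f = t.liftTruncLE fr.f 0 ≫ (t.truncLEι 0).app fr.Y' :=
    (t.liftTruncLE_ι fr.f 0).symm
  have h0 : q.map fr.f = 0 := by
    rw [hf, q.map_comp,
      (isZero_q_obj D q hD).eq_of_src (q.map ((t.truncLEι 0).app fr.Y')) 0, comp_zero]
  dsimp [MorphismProperty.LeftFraction.map]
  rw [h0, zero_comp]

include hb h1 h2 in
/-- The induced t-structure on the Verdier quotient. -/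
noncomputable def tE : TStructure E where
  le n := fun Y => ∃ X : C, t.IsLE X n ∧ Nonempty (q.obj X ≅ Y)
  ge n := fun Y => ∃ X : C, t.IsGE X n ∧ Nonempty (q.obj X ≅ Y)
  le_isClosedUnderIsomorphisms n := ⟨fun e ⟨X, hX, ⟨i⟩⟩ => ⟨X, hX, ⟨i ≪≫ e⟩⟩⟩
  ge_isClosedUnderIsomorphisms n := ⟨fun e ⟨X, hX, ⟨i⟩⟩ => ⟨X, hX, ⟨i ≪≫ e⟩⟩⟩
  le_shift n a n' h Y := by
    rintro ⟨X, hX, ⟨i⟩⟩
    exact ⟨X⟦a⟧, t.isLE_shift X n a n' h,
      ⟨(q.commShiftIso a).app X ≪≫ (shiftFunctor E a).mapIso i⟩⟩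
  ge_shift n a n' h Y := by
    rintro ⟨X, hX, ⟨i⟩⟩
    exact ⟨X⟦a⟧, t.isGE_shift X n a n' h,
      ⟨(q.commShiftIso a).app X ≪≫ (shiftFunctor E a).mapIso i⟩⟩
  zero' := by
    rintro Y₁ Y₂ f ⟨X₁, hX₁, ⟨i₁⟩⟩ ⟨X₂, hX₂, ⟨i₂⟩⟩
    have := hom_eq_zero t hb D h1 h2 q (i₁.hom ≫ f ≫ i₂.inv)
    have e : f = i₁.inv ≫ (i₁.hom ≫ f ≫ i₂.inv) ≫ i₂.hom := by simp
    rw [e, this, zero_comp, comp_zero]
  le_zero_le := by
    rintro Y ⟨X, hX, i⟩
    exact ⟨X, t.isLE_of_le X 0 1 (by lia), i⟩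
  ge_one_le := by
    rintro Y ⟨X, hX, i⟩
    exact ⟨X, t.isGE_of_ge X 0 1 (by lia), i⟩
  exists_triangle_zero_one A := by
    have : q.EssSurj := Localization.essSurj q D.trW
    let X₀ := q.objPreimage A
    let e : q.obj X₀ ≅ A := q.objObjPreimageIso A
    have hT := q.map_distinguished _ (t.triangleLEGE_distinguished 0 1 rfl X₀)
    refine ⟨q.obj ((t.truncLE 0).obj X₀), q.obj ((t.truncGE 1).obj X₀),
      ⟨_, inferInstance, ⟨Iso.refl _⟩⟩, ⟨_, inferInstance, ⟨Iso.refl _⟩⟩,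
      q.map ((t.truncLEι 0).app X₀) ≫ e.hom, e.inv ≫ q.map ((t.truncGEπ 1).app X₀),
      q.map ((t.truncGEδLE 0 1 rfl).app X₀) ≫ (q.commShiftIso (1 : ℤ)).hom.app _, ?_⟩
    refine isomorphic_distinguished _ hT _ ?_
    refine Triangle.isoMk _ _ (Iso.refl _) e.symm (Iso.refl _) ?_ ?_ ?_
    · change (q.map ((t.truncLEι 0).app X₀) ≫ e.hom) ≫ e.inv =
        𝟙 _ ≫ q.map ((t.truncLEι 0).app X₀)
      simp
    · change (e.inv ≫ q.map ((t.truncGEπ 1).app X₀)) ≫ 𝟙 _ =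
        e.inv ≫ q.map ((t.truncGEπ 1).app X₀)
      simp
    · change (q.map ((t.truncGEδLE 0 1 rfl).app X₀) ≫ (q.commShiftIso (1 : ℤ)).hom.app _) ≫
        (shiftFunctor E (1 : ℤ)).map (𝟙 _) =
        𝟙 _ ≫ (q.map ((t.truncGEδLE 0 1 rfl).app X₀) ≫ (q.commShiftIso (1 : ℤ)).hom.app _)
      simp

include hb h1 h2 in
theorem main :
    ∃ t' : TStructure E,
      (∀ (X : C) (n : ℤ), t.IsLE X n → t'.IsLE (q.obj X) n) ∧
      (∀ (X : C) (n : ℤ), t.IsGE X n → t'.IsGE (q.obj X) n) ∧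
      (∀ (Y : E) (n : ℤ), t'.IsLE Y n ↔ ∃ X : C, t.IsLE X n ∧ Nonempty (q.obj X ≅ Y)) ∧
      (∀ (Y : E) (n : ℤ), t'.IsGE Y n ↔ ∃ X : C, t.IsGE X n ∧ Nonempty (q.obj X ≅ Y)) ∧
      ∀ t'' : TStructure E,
        (∀ (X : C) (n : ℤ), t.IsLE X n → t''.IsLE (q.obj X) n) →
        (∀ (X : C) (n : ℤ), t.IsGE X n → t''.IsGE (q.obj X) n) → t'' = t' := by
  refine ⟨tE t hb D h1 h2 q, ?_, ?_, ?_, ?_, ?_⟩
  · intro X n hX
    exact ⟨⟨X, hX, ⟨Iso.refl _⟩⟩⟩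
  · intro X n hX
    exact ⟨⟨X, hX, ⟨Iso.refl _⟩⟩⟩
  · intro Y n
    exact ⟨fun h => h.le, fun h => ⟨h⟩⟩
  · intro Y n
    exact ⟨fun h => h.ge, fun h => ⟨h⟩⟩
  · intro t'' hle hge
    symm
    apply tStructure_eq_of_le
    · rintro n Y ⟨X, hX, ⟨i⟩⟩
      exact (t''.le n).prop_of_iso i (hle X n hX).le
    · rintro n Y ⟨X, hX, ⟨i⟩⟩
      exact (t''.ge n).prop_of_iso i (hge X n hX).ge

end Groth.Agent.Lib.Helper24.TQuotB
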