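import Groth.Agent.Lib.Helper24.FlcG
import Groth.Agent.Lib.Helper22.EtLoc.Deg0

set_option autoImplicit false
set_option backward.isDefEq.respectTransparency false
set_option backward.isDefEq.respectTransparency.types false

/-!
# The torsor of lifts of a section along an epimorphism of abelian étale sheaves (helper24)
-/

namespace Groth.Agent.Lib.Helper24.Tors

open AlgebraicGeometry CategoryTheory Limits Opposite
open Groth.Agent.Lib.Helper24.Flc

universe u

variable {X : Scheme.{u}} (S : ShortComplex (EtCoh.Ab X)) (hS : S.ShortExact)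
  (s : S.X₃.obj.obj (op (EtCoh.top X)))

/-- the map to the terminal object -/
noncomputable def toT (V : X.Etale) : V ⟶ EtCoh.top X := (EtCore.topIsTerminal X).from V

lemma toT_comp {V W : X.Etale} (f : V ⟶ W) : f ≫ toT W = toT V :=
  (EtCore.topIsTerminal X).hom_ext _ _

/-- restriction of the global section `s`. -/
noncomputable def sT (V : X.Etale) : S.X₃.obj.obj (op V) := S.X₃.obj.map (toT V).op s

lemma sT_map {V W : X.Etale} (f : V ⟶ W) : S.X₃.obj.map f.op (sT S s W) = sT S s V := by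
  unfold sT
  rw [← Functor.map_comp_apply, ← op_comp, toT_comp]

/-- underlying presheaf of sets -/
noncomputable abbrev us (G : EtCoh.Ab X) : X.Etaleᵒᵖ ⥤ Type (u + 1) :=
  G.obj ⋙ forget AddCommGrpCat.{u + 1}

lemma us_isSheaf (G : EtCoh.Ab X) : Presieve.IsSheaf X.smallEtaleTopology (us G) :=
  (isSheaf_iff_isSheaf_of_type _ _).1
    ((Presheaf.isSheaf_iff_isSheaf_forget _ _ (forget AddCommGrpCat.{u + 1})).1 G.property)

/-- The torsor of lifts of `s`. -/
noncomputable def P : Subfunctor (us S.X₂) where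
  obj V := {t | S.g.hom.app V t = sT S s V.unop}
  map {U V} i t ht := by
    change S.g.hom.app V (S.X₂.obj.map i t) = sT S s V.unop
    have h1 := NatTrans.naturality_apply S.g.hom i t
    rw [h1]
    have ht' : S.g.hom.app U t = sT S s U.unop := ht
    rw [ht']
    exact sT_map S s i.unop

lemma mem_P {V : X.Etaleᵒᵖ} (t : S.X₂.obj.obj V) :
    t ∈ (P S s).obj V ↔ S.g.hom.app V t = sT S s V.unop := Iff.rfl

theorem P_isSheaf : Presieve.IsSheaf X.smallEtaleTopology (P S s).toFunctor := by
  rw [Subfunctor.isSheaf_iff _ (us_isSheaf S.X₂)]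
  intro U t ht
  rw [mem_P]
  have hsep : Presieve.IsSeparated X.smallEtaleTopology (us S.X₃) := (us_isSheaf S.X₃).isSeparated
  refine (hsep _ ht).ext ?_
  intro V f hf
  have hf' : S.g.hom.app (op V) (S.X₂.obj.map f.op t) = sT S s V := hf
  change S.X₃.obj.map f.op (S.g.hom.app U t) = S.X₃.obj.map f.op (sT S s U.unop)
  rw [← NatTrans.naturality_apply S.g.hom f.op t, hf']
  exact (sT_map S s f).symm

/-- sections over `A`. -/
noncomputable abbrev secF (A : X.Etale) : EtCoh.Ab X ⥤ AddCommGrpCat.{u + 1} :=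
  (sheafSections X.smallEtaleTopology AddCommGrpCat.{u + 1}).obj (op A)

instance (A : X.Etale) : (secF (X := X) A).Additive where
  map_add := rfl

instance (A : X.Etale) : PreservesLimits (secF (X := X) A) := by
  have : PreservesLimits (sheafToPresheaf X.smallEtaleTopology AddCommGrpCat.{u + 1} ⋙
      (evaluation _ _).obj (op A)) := inferInstance
  have e : secF (X := X) A ≅ sheafToPresheaf X.smallEtaleTopology AddCommGrpCat.{u + 1} ⋙
      (evaluation _ _).obj (op A) := sheafSectionsNatIsoEvaluation _ _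
  exact preservesLimits_of_natIso e.symm

include hS in
lemma inj_f (A : X.Etale) : Function.Injective (S.f.hom.app (op A)) := by
  have : Mono S.f := hS.mono_f
  have h : Mono ((secF A).map S.f) := inferInstance
  exact (AddCommGrpCat.mono_iff_injective _).1 h

include hS in
lemma exact_sec (A : X.Etale) (t : S.X₂.obj.obj (op A)) (h : S.g.hom.app (op A) t = 0) :
    ∃ f : S.X₁.obj.obj (op A), S.f.hom.app (op A) f = t := by
  have : Mono S.f := hS.mono_f
  have h1 : (S.map (secF A)).Exact :=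
    hS.exact.map_of_mono_of_preservesKernel (secF A) inferInstance inferInstance
  exact (ShortComplex.ab_exact_iff _).1 h1 t h

include hS in
lemma exists_local_lift (U : X.Etale) (u : U.left) :
    ∃ (W : X.Etale) (a : W ⟶ U) (w : W.left), a.left.base w = u ∧
      ∃ t : S.X₂.obj.obj (op W), S.g.hom.app (op W) t = sT S s W := by
  have : Epi S.g := hS.epi_g
  have hls : Sheaf.IsLocallySurjective S.g := (Sheaf.isLocallySurjective_iff_epi' _ S.g).2 inferInstance
  have hmem := Presheaf.imageSieve_mem X.smallEtaleTopology S.g.hom (sT S s U)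
  obtain ⟨W, a, w, ⟨t, ht⟩, hw⟩ := points_of_mem _ hmem u
  refine ⟨W, a, w, hw, t, ?_⟩
  rw [ht]
  exact sT_map S s a

lemma zero_comp_app (A : X.Etaleᵒᵖ) (f : S.X₁.obj.obj A) :
    S.g.hom.app A (S.f.hom.app A f) = 0 := by
  have h := S.zero
  have h1 : (S.f ≫ S.g).hom.app A f = (0 : S.X₁ ⟶ S.X₃).hom.app A f := by rw [h]
  exact h1

lemma mem_P_add (W : X.Etale) (t₀ : S.X₂.obj.obj (op W))
    (h₀ : S.g.hom.app (op W) t₀ = sT S s W) (A : X.Etale) (a : A ⟶ W)
    (f : S.X₁.obj.obj (op A)) :
    S.f.hom.app (op A) f + S.X₂.obj.map a.op t₀ ∈ (P S s).obj (op A) := by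
  rw [mem_P, map_add, zero_comp_app, zero_add,
    NatTrans.naturality_apply S.g.hom a.op t₀, h₀]
  exact sT_map S s a

/-- translation by a lift `t₀`: `F|_W → P|_W`. -/
noncomputable def τ (W : X.Etale) (t₀ : S.X₂.obj.obj (op W))
    (h₀ : S.g.hom.app (op W) t₀ = sT S s W) :
    resO (us S.X₁) W ⟶ resO (P S s).toFunctor W where
  app A := ↾fun (f : S.X₁.obj.obj (op A.unop.left)) =>
    (⟨S.f.hom.app (op A.unop.left) f + S.X₂.obj.map A.unop.hom.op t₀,
      mem_P_add S s W t₀ h₀ A.unop.left A.unop.hom f⟩ : (P S s).toFunctor.obj (op A.unop.left))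
  naturality A B φ := by
    ext (f : S.X₁.obj.obj (op A.unop.left))
    apply Subtype.ext
    change S.f.hom.app (op B.unop.left) (S.X₁.obj.map φ.unop.left.op f) +
        S.X₂.obj.map B.unop.hom.op t₀ =
      S.X₂.obj.map φ.unop.left.op (S.f.hom.app (op A.unop.left) f + S.X₂.obj.map A.unop.hom.op t₀)
    rw [map_add, NatTrans.naturality_apply S.f.hom φ.unop.left.op f,
      ← Functor.map_comp_apply, ← op_comp, Over.w φ.unop]

lemma τ_app_val (W : X.Etale) (t₀ : S.X₂.obj.obj (op W))
    (h₀ : S.g.hom.app (op W) t₀ = sT S s W) (A : (Over W)ᵒᵖ)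
    (f : S.X₁.obj.obj (op A.unop.left)) :
    (((τ S s W t₀ h₀).app A f : (P S s).toFunctor.obj (op A.unop.left)).1 :
      S.X₂.obj.obj (op A.unop.left)) =
      S.f.hom.app (op A.unop.left) f + S.X₂.obj.map A.unop.hom.op t₀ := rfl

include hS in
lemma τ_injective (W : X.Etale) (t₀ : S.X₂.obj.obj (op W))
    (h₀ : S.g.hom.app (op W) t₀ = sT S s W) (A : (Over W)ᵒᵖ) :
    Function.Injective ((τ S s W t₀ h₀).app A) := by
  intro (f : S.X₁.obj.obj (op A.unop.left)) (f' : S.X₁.obj.obj (op A.unop.left)) h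
  have h1 := congrArg (fun z : (P S s).toFunctor.obj (op A.unop.left) =>
    (z.1 : S.X₂.obj.obj (op A.unop.left))) h
  have h2 : S.f.hom.app (op A.unop.left) f + S.X₂.obj.map A.unop.hom.op t₀ =
      S.f.hom.app (op A.unop.left) f' + S.X₂.obj.map A.unop.hom.op t₀ := h1
  exact inj_f S hS _ (add_right_cancel h2)

include hS in
lemma τ_surjective (W : X.Etale) (t₀ : S.X₂.obj.obj (op W))
    (h₀ : S.g.hom.app (op W) t₀ = sT S s W) (A : (Over W)ᵒᵖ) :
    Function.Surjective ((τ S s W t₀ h₀).app A) := by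
  intro (z : (P S s).toFunctor.obj (op A.unop.left))
  obtain ⟨t, ht⟩ := z
  have ht' : S.g.hom.app (op A.unop.left) t = sT S s A.unop.left := ht
  have h1 : S.g.hom.app (op A.unop.left) (t - S.X₂.obj.map A.unop.hom.op t₀) = 0 := by
    rw [map_sub, ht', NatTrans.naturality_apply S.g.hom A.unop.hom.op t₀, h₀, sT_map, sub_self]
  obtain ⟨f, hf⟩ := exact_sec S hS _ _ h1
  refine ⟨f, ?_⟩
  apply Subtype.ext
  change S.f.hom.app (op A.unop.left) f + S.X₂.obj.map A.unop.hom.op t₀ = t
  rw [hf]
  abel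

end Groth.Agent.Lib.Helper24.Tors
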