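import Groth.Agent.Lib.Helper24.TorsLiftA
import Groth.Agent.Lib.Helper22.EtLoc.LccPull

set_option autoImplicit false
set_option backward.isDefEq.respectTransparency false
set_option backward.isDefEq.respectTransparency.types false

/-!
# The torsor of lifts is representable by a finite étale cover (helper24)
-/

namespace Groth.Agent.Lib.Helper24.Tors

open AlgebraicGeometry CategoryTheory Limits Opposite
open Groth.Agent.Lib.Helper24.Flc
open Groth.Agent.Lib.Helper22.EtLoc

universe u

variable {X : Scheme.{u}} (S : ShortComplex (EtCoh.Ab X)) (hS : S.ShortExact)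
  (s : S.X₃.obj.obj (op (EtCoh.top X)))

lemma restr_const_of_hom {U W : X.Etale} (a : W ⟶ U) (G : EtCoh.Ab X)
    (M : AddCommGrpCat.{u + 1})
    (e : Nonempty (EtCoh.restr G U ≅
      (constantSheaf (X.smallEtaleTopology.over U) AddCommGrpCat.{u + 1}).obj M)) :
    Nonempty (EtCoh.restr G W ≅
      (constantSheaf (X.smallEtaleTopology.over W) AddCommGrpCat.{u + 1}).obj M) := by
  refine (OverSite.restr_iso_const_iff W G M).2 ?_
  have h := LccPull.pull_comp_iso_const a.left U.hom G M ((OverSite.restr_iso_const_iff U G M).1 e)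
  rwa [hom_w a] at h

include hS in
theorem exists_rep (hF : EtCoh.IsFiniteLocallyConstant S.X₁) :
    ∃ (R : X.Etale) (_ : IsFinite R.hom),
      Nonempty ((P S s).toFunctor ≅ yoneda.obj R ⋙ uliftFunctor.{u + 1, u}) := by
  obtain ⟨ι, U, hU, hM⟩ := hF
  have key : ∀ x : X, ∃ (W : X.Etale) (w : W.left) (_ : W.hom.base w = x)
      (M : Type) (_ : AddCommGroup M) (_ : Finite M)
      (_ : EtCoh.restr S.X₁ W ≅ (constantSheaf (K W) AddCommGrpCat.{u + 1}).obj
        (AddCommGrpCat.of (ULift.{u + 1} M)))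
      (t : S.X₂.obj.obj (op W)), S.g.hom.app (op W) t = sT S s W := by
    intro x
    obtain ⟨i, u, hu⟩ := hU x
    obtain ⟨W, a, w, hw, t, ht⟩ := exists_local_lift S hS s (U i) u
    obtain ⟨M, hA, hfin, he⟩ := hM i
    refine ⟨W, w, ?_, M, hA, hfin, (restr_const_of_hom a S.X₁ _ he).some, t, ht⟩
    rw [← hom_w a, Scheme.Hom.comp_base, TopCat.comp_app]
    exact (congrArg (fun z => (U i).hom.base z) hw).trans hu
  choose W w hw M hA hfin e t ht using key
  refine representable_of_locConst (P_isSheaf S s) W (fun x => ⟨x, w x, hw x⟩)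
    (fun x => Nat.card (M x))
    (fun x => cAb S.X₁ (W x) (M x) (e x) ≫ τ S s (W x) (t x) (ht x)) ?_ ?_
  · intro x
    haveI : Presheaf.IsLocallyInjective (K (W x)) (τ S s (W x) (t x) (ht x)) :=
      Presheaf.isLocallyInjective_of_injective _ _ (τ_injective S hS s (W x) (t x) (ht x))
    exact Presheaf.isLocallyInjective_comp (K (W x)) (cAb S.X₁ (W x) (M x) (e x)) _
  · intro x
    haveI : Presheaf.IsLocallySurjective (K (W x)) (τ S s (W x) (t x) (ht x)) :=
      Presheaf.isLocallySurjective_of_surjective _ _ (τ_surjective S hS s (W x) (t x) (ht x))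
    exact Presheaf.isLocallySurjective_comp (K (W x)) (cAb S.X₁ (W x) (M x) (e x)) _

include hS in
/-- There is a finite étale surjective `R → X` over which the section `s` lifts. -/
theorem exists_fet_lift (hF : EtCoh.IsFiniteLocallyConstant S.X₁) :
    ∃ (R : X.Etale), IsFinite R.hom ∧ Surjective R.hom ∧
      ∃ t : S.X₂.obj.obj (op R), S.g.hom.app (op R) t = sT S s R := by
  obtain ⟨R, hfin, ⟨e⟩⟩ := exists_rep S hS s hF
  refine ⟨R, hfin, ⟨fun x => ?_⟩, ?_⟩
  · obtain ⟨W, a, w, hw, t, ht⟩ := exists_local_lift S hS s (EtCoh.top X) x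
    let b : W ⟶ R := (e.hom.app (op W) (⟨t, ht⟩ : (P S s).toFunctor.obj (op W))).down
    refine ⟨b.left.base w, ?_⟩
    have h1 : b.left ≫ R.hom = W.hom := hom_w b
    have h2 : a.left ≫ 𝟙 X = W.hom := hom_w a
    have h2' : a.left = W.hom := (Category.comp_id a.left).symm.trans h2
    have h4 : (b.left ≫ R.hom).base w = W.hom.base w := congrArg (fun g => g.base w) h1
    have h5 : W.hom.base w = a.left.base w := congrArg (fun g => g.base w) h2'.symm
    exact (h4.trans h5).trans hw
  · let z : (P S s).toFunctor.obj (op R) := e.inv.app (op R) (ULift.up (𝟙 R))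
    exact ⟨z.1, z.2⟩

end Groth.Agent.Lib.Helper24.Tors
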