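import Groth.Agent.Lib.Helper24.TorsLiftB

set_option autoImplicit false
set_option backward.isDefEq.respectTransparency false
set_option backward.isDefEq.respectTransparency.types false

/-!
# Degree one classes of finite locally constant sheaves die on a finite étale cover (helper24)
-/

namespace Groth.Agent.Lib.Helper24.Tors

open AlgebraicGeometry CategoryTheory Limits Opposite Abelian
open Groth.Agent.Lib.Helper24.Flc
open Groth.Agent.Lib.Helper22.EtLoc

universe u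

variable {X Y : Scheme.{u}}

lemma res_map_app (j : Y ⟶ X) [Etale j] {G G' : EtCoh.Ab X} (φ : G ⟶ G') (T : Y.Etale) :
    ((res j).map φ).hom.app (op T) = φ.hom.app (op ((pj j).obj T)) := rfl

lemma σ_nat (j : Y ⟶ X) [Etale j] {G G' : EtCoh.Ab X} (φ : G ⟶ G')
    (z : ((EtCoh.pull j).obj G).obj.obj (op (EtCoh.top Y))) :
    (σ j G').hom (((EtCoh.pull j).map φ).hom.app (op (EtCoh.top Y)) z) =
      φ.hom.app (op ((pj j).obj (EtCoh.top Y))) ((σ j G).hom z) := by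
  have h := (pullIsoRes j).hom.naturality φ
  have h2 := congrArg (fun ψ => (ψ.hom.app (op (EtCoh.top Y))) z) h
  exact h2

lemma σH_nat (j : Y ⟶ X) [Etale j] {G G' : EtCoh.Ab X} (φ : G ⟶ G')
    (y : EtCoh.H Y ((EtCoh.pull j).obj G) 0) :
    σH j G' (y.comp (Ext.mk₀ ((EtCoh.pull j).map φ)) (add_zero 0)) =
      φ.hom.app (op ((pj j).obj (EtCoh.top Y))) (σH j G y) := by
  obtain ⟨ψ, rfl⟩ : ∃ ψ, y = Ext.mk₀ ψ := ⟨Ext.addEquiv₀ y, (Ext.mk₀_addEquiv₀_apply y).symm⟩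
  rw [Ext.mk₀_comp_mk₀]
  change (σ j G').hom (Sheaf.H.equiv₀ _ (EtCore.topIsTerminal Y) (Ext.mk₀ (ψ ≫ (EtCoh.pull j).map φ))) =
    φ.hom.app (op ((pj j).obj (EtCoh.top Y)))
      ((σ j G).hom (Sheaf.H.equiv₀ _ (EtCore.topIsTerminal Y) (Ext.mk₀ ψ)))
  rw [equiv₀_mk₀, equiv₀_mk₀]
  exact σ_nat j φ _

/-- the canonical iso `(R.left → R.left → Y) ≅ R`. -/
noncomputable def eR (R : Y.Etale) : (pj R.hom).obj (EtCoh.top R.left) ≅ R :=
  MorphismProperty.Over.isoMk (Iso.refl _) (by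
    change 𝟙 R.left ≫ R.hom = 𝟙 R.left ≫ R.hom
    rfl)

/-- If the section `s = x₃` of `S.X₃` lifts to `S.X₂` over the étale `R`, then the class
`δ(x₃)` dies on `R`. -/
theorem Hpull_eq_zero_of_lift (S : ShortComplex (EtCoh.Ab Y)) (hS : S.ShortExact)
    (x₃ : Ext (EtCoh.const Y ℤ) S.X₃ 0) (R : Y.Etale)
    (t : S.X₂.obj.obj (op R))
    (ht : S.g.hom.app (op R) t = sT S (Sheaf.H.equiv₀ S.X₃ (EtCore.topIsTerminal Y) x₃) R)
    [PreservesFiniteLimits (EtCoh.pull R.hom)] :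
    EtCore.Hpull R.hom S.X₁ 1 (x₃.comp hS.extClass (zero_add 1)) = 0 := by
  haveI : Etale R.hom := R.prop
  set s := Sheaf.H.equiv₀ S.X₃ (EtCore.topIsTerminal Y) x₃ with hs
  let t' : S.X₂.obj.obj (op ((pj R.hom).obj (EtCoh.top R.left))) :=
    S.X₂.obj.map (eR R).hom.op t
  let y : EtCoh.H R.left ((EtCoh.pull R.hom).obj S.X₂) 0 := (σH R.hom S.X₂).symm t'
  have hy : EtCore.Hpull R.hom S.X₃ 0 x₃ =
      y.comp (Ext.mk₀ ((EtCoh.pull R.hom).map S.g)) (add_zero 0) := by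
    apply (σH R.hom S.X₃).injective
    rw [σH_nat, σH_Hpull R.hom S.X₃ ((eR R).hom ≫ toT R) x₃]
    have h1 : σH R.hom S.X₂ y = t' := (σH R.hom S.X₂).apply_symm_apply t'
    rw [h1]
    change _ = S.g.hom.app _ (S.X₂.obj.map (eR R).hom.op t)
    rw [NatTrans.naturality_apply S.g.hom (eR R).hom.op t, ht]
    change _ = S.X₃.obj.map (eR R).hom.op (S.X₃.obj.map (toT R).op s)
    rw [← Functor.map_comp_apply, ← op_comp]
    rfl
  rw [Hpull_δ R.hom S hS 0 1 (zero_add 1) x₃, hy, Ext.comp_assoc_of_second_deg_zero]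
  have h2 : (Ext.mk₀ ((EtCoh.pull R.hom).map S.g)).comp
      (hS.map_of_exact (EtCoh.pull R.hom)).extClass (zero_add 1) = 0 :=
    (hS.map_of_exact (EtCoh.pull R.hom)).comp_extClass
  rw [h2, Ext.comp_zero]

/-- A degree-one class with coefficients in a finite locally constant sheaf dies on a finite
étale surjective cover. -/
theorem exists_fet_killing (F : EtCoh.Ab Y) (hF : EtCoh.IsFiniteLocallyConstant F)
    (ζ : EtCoh.H Y F 1) :
    ∃ (Y' : Scheme.{u}) (g : Y' ⟶ Y), IsFinite g ∧ Etale g ∧ Surjective g ∧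
      ∀ [PreservesFiniteLimits (EtCoh.pull g)], EtCore.Hpull g F 1 ζ = 0 := by
  let S : ShortComplex (EtCoh.Ab Y) :=
    ShortComplex.mk (Injective.ι F) (cokernel.π (Injective.ι F)) (cokernel.condition _)
  have hS : S.ShortExact :=
    { exact := ShortComplex.exact_cokernel _
      mono_f := inferInstanceAs (Mono (Injective.ι F))
      epi_g := inferInstanceAs (Epi (cokernel.π (Injective.ι F))) }
  have h0 : (ζ : Ext (EtCoh.const Y ℤ) S.X₁ 1).comp (Ext.mk₀ S.f) (add_zero 1) = 0 :=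
    Ext.eq_zero_of_injective _
  obtain ⟨x₃, hx₃⟩ := Ext.covariant_sequence_exact₁ _ hS ζ h0 (zero_add 1)
  obtain ⟨R, hfin, hsurj, t, ht⟩ :=
    exists_fet_lift S hS (Sheaf.H.equiv₀ S.X₃ (EtCore.topIsTerminal Y) x₃) hF
  refine ⟨R.left, R.hom, hfin, R.prop, hsurj, ?_⟩
  intro inst
  have := Hpull_eq_zero_of_lift S hS x₃ R t ht
  rw [hx₃] at this
  exact this

end Groth.Agent.Lib.Helper24.Tors
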