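import Mathlib

set_option backward.isDefEq.respectTransparency false
set_option backward.isDefEq.respectTransparency.types false
set_option autoImplicit false

universe v u

open CategoryTheory CategoryTheory.Limits CategoryTheory.Pretriangulated

namespace Groth.Agent.Lib.Helper24.TriGen

open ObjectProperty

variable {C : Type u} [Category.{v} C] [HasZeroObject C] [HasShift C ℤ] [Preadditive C]
  [∀ n : ℤ, (shiftFunctor C n).Additive] [Pretriangulated C]

/-- Criterion for closure under binary products via products indexed by `WalkingPair`. -/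
theorem isClosedUnderBinaryProducts_of_pi (Q : ObjectProperty C) [Q.IsClosedUnderIsomorphisms]
    (h : ∀ (f : WalkingPair → C), (∀ j, Q (f j)) → Q (∏ᶜ f)) :
    Q.IsClosedUnderBinaryProducts where
  limitsOfShape_le := by
    rintro X ⟨p⟩
    have hQ := h (fun j => p.diag.obj ⟨j⟩) (fun j => p.prop_diag_obj ⟨j⟩)
    refine Q.prop_of_iso ?_ hQ
    exact IsLimit.conePointUniqueUpToIso (limit.isLimit _)
      ((IsLimit.postcomposeHomEquiv (Discrete.natIsoFunctor (F := p.diag)) _).2 p.isLimit)

theorem prop_pi_of_isClosedUnderBinaryProducts (Q : ObjectProperty C)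
    [Q.IsClosedUnderBinaryProducts] (f : WalkingPair → C) (hf : ∀ j, Q (f j)) : Q (∏ᶜ f) :=
  Q.prop_of_isLimit (limit.isLimit (Discrete.functor f)) (fun ⟨j⟩ => hf j)

instance retractClosure_binProd (P : ObjectProperty C) [P.IsClosedUnderBinaryProducts] :
    P.retractClosure.IsClosedUnderBinaryProducts := by
  apply isClosedUnderBinaryProducts_of_pi
  intro f hf
  choose Y hY r using hf
  refine ⟨∏ᶜ Y, prop_pi_of_isClosedUnderBinaryProducts P Y hY, ⟨?_⟩⟩
  exact
    { i := Limits.Pi.map (fun j => (r j).some.i)
      r := Limits.Pi.map (fun j => (r j).some.r)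
      retract := by
        apply Limits.Pi.hom_ext
        intro j
        simp }

instance extensionProduct_binProd (P Q : ObjectProperty C) [P.IsClosedUnderBinaryProducts]
    [Q.IsClosedUnderBinaryProducts] :
    (extensionProduct P Q).IsClosedUnderBinaryProducts := by
  apply isClosedUnderBinaryProducts_of_pi
  intro f hf
  choose Y Z a b c hT hY hZ using hf
  let T : WalkingPair → Triangle C := fun j => Triangle.mk (a j) (b j) (c j)
  have hd := productTriangle_distinguished T hT
  exact ⟨_, _, _, _, _, hd, prop_pi_of_isClosedUnderBinaryProducts P Y hY,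
    prop_pi_of_isClosedUnderBinaryProducts Q Z hZ⟩

theorem extensionProductIter_binProd (P : ObjectProperty C) [P.IsClosedUnderBinaryProducts]
    (n : ℕ) : (P.extensionProductIter n).IsClosedUnderBinaryProducts := by
  induction n with
  | zero => rw [extensionProductIter_zero]; infer_instance
  | succ n ih =>
    rw [extensionProductIter_succ]
    infer_instance

instance triangEnvelopeIter_binProd (P : ObjectProperty C) (n : ℕ) :
    (P.triangEnvelopeIter n).IsClosedUnderBinaryProducts := by
  have := extensionProductIter_binProd
    ((P.shiftClosure ℤ).binaryProductsClosure.retractClosure) n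
  exact retractClosure_binProd _

/-- A nonempty property stable under retracts is closed under the empty product. -/
theorem closedUnderEmpty_of_retracts (R : ObjectProperty C) [R.IsStableUnderRetracts]
    (hR : R.Nonempty) : R.IsClosedUnderLimitsOfShape (Discrete.{0} PEmpty) where
  limitsOfShape_le := by
    rintro X ⟨p⟩
    obtain ⟨Y, hY⟩ := hR
    have hX : IsZero X := by
      rw [IsZero.iff_id_eq_zero]
      exact p.isLimit.hom_ext (fun ⟨j⟩ => j.elim)
    exact R.prop_of_retract { i := 0, r := 0, retract := hX.eq_of_src _ _ } hY

/-- The zeroth step of the envelope of `P` is contained in any step of the envelope of `Q`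
containing `P`. -/
theorem triangEnvelopeIter_zero_le (P Q : ObjectProperty C) (hQ : Q.Nonempty) (m : ℕ)
    (h : P ≤ Q.triangEnvelopeIter m) :
    (P.shiftClosure ℤ).binaryProductsClosure.retractClosure ≤ Q.triangEnvelopeIter m := by
  have hne : (Q.triangEnvelopeIter m).Nonempty := .mono (Q.le_triangEnvelopeIter m)
  have := closedUnderEmpty_of_retracts (Q.triangEnvelopeIter m) hne
  rw [retractClosure_le_iff, binaryProductsClosure_le_iff, shiftClosure_le_iff]
  exact h

/-- The bound on the number of extensions. -/
def k (m : ℕ) : ℕ → ℕ
  | 0 => m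
  | n + 1 => (m + 1) + k m n

theorem triangEnvelopeIter_le [IsTriangulated C] (P Q : ObjectProperty C) (hQ : Q.Nonempty)
    (m : ℕ) (h : P ≤ Q.triangEnvelopeIter m) (n : ℕ) :
    P.triangEnvelopeIter n ≤ Q.triangEnvelopeIter (k m n) := by
  induction n with
  | zero =>
    rw [triangEnvelopeIter_zero]
    exact triangEnvelopeIter_zero_le P Q hQ m h
  | succ n ih =>
    rw [triangEnvelopeIter_succ]
    change _ ≤ Q.triangEnvelopeIter ((m + 1) + k m n)
    rw [triangEnvelopeIter_add Q (n := m + 1) (m := k m n) (n' := m) rfl]
    exact monotone_retractClosure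
      ((monotone_extensionProduct_left _ (triangEnvelopeIter_zero_le P Q hQ m h)).trans
        (monotone_extensionProduct_right _ ih))

/-- If there is a strong generator, every classical generator is strong. -/
theorem main [IsTriangulated C] (G E : C)
    (hG : ObjectProperty.IsStrongTriangulatedGenerator (fun X : C => X = G))
    (hE : ObjectProperty.IsClassicalTriangulatedGenerator (fun X : C => X = E)) :
    ObjectProperty.IsStrongTriangulatedGenerator (fun X : C => X = E) := by
  obtain ⟨n, hn⟩ := hG
  have hGE : ObjectProperty.triangEnvelope (fun X : C => X = E) G := by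
    rw [isClassicalTriangulatedGenerator_iff] at hE
    rw [hE]; trivial
  rw [prop_triangEnvelope_iff] at hGE
  obtain ⟨m, hm⟩ := hGE
  have hle : (fun X : C => X = G) ≤ ObjectProperty.triangEnvelopeIter (fun X : C => X = E) m := by
    rintro X rfl
    exact hm
  have hne : ObjectProperty.Nonempty (fun X : C => X = E) := ⟨E, rfl⟩
  refine ⟨k m n, ?_⟩
  rw [eq_top_iff, ← hn]
  exact triangEnvelopeIter_le _ _ hne m hle n

end Groth.Agent.Lib.Helper24.TriGen
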