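import Groth.Agent.Lib.Helper24.UnivBdd2
import Groth.Prelude.Def_AlgSpCov
import Groth.Agent.Lib.Helper14.FpqcBase4

/-!
# Universally bounded fibres, part 3: permanence for "every affine étale chart is bounded" (helper24)
-/

set_option autoImplicit false
universe u

open CategoryTheory CategoryTheory.Limits AlgebraicGeometry Opposite AlgSp
open Groth.Agent.Lib.Helper14.AS Groth.Agent.Lib.Helper6.BddFibLib

namespace Groth.Agent.Lib.Helper24.UnivBdd

variable {S : Scheme.{u}}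

set_option backward.isDefEq.respectTransparency.types false in
/-- An algebraic space has an étale covering family by affine schemes. -/
theorem exists_affine_etale_cover {Y : Sp S} (hY : IsAlgSpace Y) :
    ∃ (κ : Type u) (V : κ → Over S) (ψ : ∀ k, (yon S).obj (V k) ⟶ Y),
      (∀ k, IsAffine (V k).left) ∧ (∀ k, RepWith @Etale (ψ k)) ∧
      ∀ y : Points Y, ∃ (k : κ) (v : ↥(V k).left), Points.ofPt (ψ k) v = y := by
  obtain ⟨U, a, hae, has⟩ := hY.atlas
  let 𝒰 := U.left.affineCover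
  let V : 𝒰.I₀ → Over S := fun k => Over.mk (𝒰.f k ≫ U.hom)
  let ι : ∀ k, V k ⟶ U := fun k => Over.homMk (𝒰.f k) rfl
  refine ⟨𝒰.I₀, V, fun k => (yon S).map (ι k) ≫ a, fun k => ?_, fun k => ?_, fun y => ?_⟩
  · change IsAffine (𝒰.X k)
    infer_instance
  · exact repWith_comp _ ((repWith_yon_map_iff _ _).2 (inferInstanceAs (Etale (𝒰.f k)))) hae
  · obtain ⟨u, rfl⟩ := ofPt_surjective_of_repWith has y
    obtain ⟨k, v, hv⟩ := 𝒰.exists_eq u
    refine ⟨k, v, ?_⟩
    rw [ofPt_yon_map_comp]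
    congr 1

/-- Composition with a monomorphism does not change the bound. -/
theorem degFibresLE_comp_mono {X Y : Sp S} (m : Y ⟶ X) [Mono m] {V : Over S}
    (ψ : (yon S).obj V ⟶ Y) {n : ℕ} (h : W4dec.DegFibresLE n ψ) :
    W4dec.DegFibresLE n (ψ ≫ m) := by
  have sqB : IsPullback (𝟙 Y) (𝟙 Y) m m := IsKernelPair.id_of_mono m
  have sq : IsPullback (𝟙 ((yon S).obj V)) ψ (ψ ≫ m) m := by
    have := (IsPullback.of_id_fst (f := ψ)).paste_vert sqB
    rwa [Category.comp_id] at this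
  refine degFibresLE_of_baseChange m (ψ ≫ m) (𝟙 _) ψ sq ?_ h
  rintro _ ⟨v, rfl⟩
  exact ⟨Points.ofPt ψ v, Points.map_ofPt ψ m v⟩

/-- S10431. -/
theorem hasUnivBddFibres_of_representable {X Y : Sp S} (hX : IsAlgSpace X) (hYs : IsAlgSpace Y)
    (f : X ⟶ Y) (hf : Representable f)
    (hY : ∀ (V : Over S) (ψ : (yon S).obj V ⟶ Y), IsAffine V.left → RepWith @Etale ψ →
      W4dec.HasUnivBddFibres ψ)
    (U : Over S) (φ : (yon S).obj U ⟶ X) (hU : IsAffine U.left) (hφ : RepWith @Etale φ) :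
    W4dec.HasUnivBddFibres φ := by
  obtain ⟨κ, V, ψ, hVa, hψe, hψs⟩ := exists_affine_etale_cover hYs
  have sqk : ∀ k, IsPullback (hf.fst (ψ k)) ((yon S).map (hf.snd (ψ k))) f (ψ k) :=
    fun k => hf.isPullback (ψ k)
  refine hasUnivBddFibres_of_etale_cover hX (fun k => hf.pullback (ψ k))
    (fun k => hf.fst (ψ k)) (fun k => ?_) (fun x => ?_) (fun k => ?_) φ hφ
  · exact repWith_of_isPullback _ (sqk k).flip (hψe k)
  · obtain ⟨k, v, hv⟩ := hψs (Points.map f x)
    have e : Points.map f x = Points.map (ψ k) (Points.ofScheme (V k) v) := by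
      rw [← Points.ofPt_eq_map_ofScheme, hv]
    obtain ⟨z, hz1, -⟩ := points_exists_of_isPullback (sqk k) _ _ e
    refine ⟨k, Points.toScheme _ z, ?_⟩
    rw [Points.ofPt_eq_map_ofScheme, Points.ofScheme_toScheme, hz1]
  · obtain ⟨n, hn⟩ := hY (V k) (ψ k) (hVa k) (hψe k)
    refine ⟨n, fun q T c snd' sq => ?_⟩
    have big := (sq.flip.paste_horiz (sqk k).flip).flip
    have := hn (q.map f) T c (snd' ≫ (yon S).map (hf.snd (ψ k))) (by
      rw [FieldPt.toHom_map]
      exact big)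
    exact this


set_option backward.isDefEq.respectTransparency.types false in
/-- S10432. -/
theorem hasUnivBddFibres_of_isZarCover {X : Sp S} (hX : IsAlgSpace X) {ι : Type u}
    (Xi : ι → Sp S) (hXi : ∀ i, IsAlgSpace (Xi i)) (j : ∀ i, Xi i ⟶ X) (hj : IsZarCover Xi j)
    (h : ∀ (i : ι) (V : Over S) (ψ : (yon S).obj V ⟶ Xi i), IsAffine V.left → RepWith @Etale ψ →
      W4dec.HasUnivBddFibres ψ)
    (U : Over S) (φ : (yon S).obj U ⟶ X) (hU : IsAffine U.left) (hφ : RepWith @Etale φ) :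
    W4dec.HasUnivBddFibres φ := by
  choose κ V ψ hVa hψe hψs using fun i => exists_affine_etale_cover (hXi i)
  have hmono : ∀ i, Mono (j i) := fun i =>
    mono_of_repWith_mono (repWith_mono isOpenImmersion_le_mono (hj.1 i))
  refine hasUnivBddFibres_of_etale_cover hX (fun ik : Σ i, κ i => V ik.1 ik.2)
    (fun ik => ψ ik.1 ik.2 ≫ j ik.1) (fun ik => ?_) (fun x => ?_) (fun ik => ?_) φ hφ
  · exact repWith_comp _ (hψe ik.1 ik.2) (repWith_mono isOpenImmersion_le_etale (hj.1 ik.1))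
  · obtain ⟨i, y, rfl⟩ := hj.2 x
    obtain ⟨k, v, rfl⟩ := hψs i y
    exact ⟨⟨i, k⟩, v, (Points.map_ofPt _ _ _).symm⟩
  · obtain ⟨n, hn⟩ := h ik.1 (V ik.1 ik.2) (ψ ik.1 ik.2) (hVa ik.1 ik.2) (hψe ik.1 ik.2)
    have := hmono ik.1
    exact ⟨n, degFibresLE_comp_mono (j ik.1) _ hn⟩

end Groth.Agent.Lib.Helper24.UnivBdd
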