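import Groth.Agent.Lib.Helper24.SmLocus2
import Groth.Agent.S10292
import Groth.Agent.S2121
import Groth.Agent.Lib.Helper24.AlgStQCMor
set_option autoImplicit false
open CategoryTheory AlgebraicGeometry Opposite
universe w₁ v₁ w₂ v₂ w₃ v₃ w₄ v₄ u
set_option backward.isDefEq.respectTransparency false
set_option backward.isDefEq.respectTransparency.types false

/-! Lifting spectra of valuation rings along morphisms of algebraic stacks. -/

namespace Groth.Agent.Lib.Helper24.ValLift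
open Groth.Agent.Lib.Helper24.SmLocus1 Groth.Agent.Lib.Helper24.SmLocus2
open Groth.Agent.Lib.Helper24.AlgStLocQ11
open Groth.Agent.Lib.Helper24.FibCatFpMap
open Groth.Agent.Lib.Helper24.FibCatEquiv Groth.Agent.Lib.Helper24.FibCatFpGen
open Groth.Agent.Lib.Helper24.AlgStRep
open Groth.Agent.Lib.Helper24.AlgStBridge Groth.Agent.Lib.Helper24.AlgStBoot
open Groth.Agent.Lib.Helper24.AlgStRepS
open Groth.Agent.Lib.Helper24.AlgStSchLocal
open Groth.Agent.Lib.Helper24.AlgStGC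
open Groth.Agent.Lib.Helper24.AlgStProps Groth.Agent.Lib.Helper24.AlgStSmooth
open Groth.Agent.Lib.Helper24.AlgStFpAlg Groth.Agent.Lib.Helper24.AlgStSmLoc
open Groth.Agent.Lib.Helper24.AlgStEqv Groth.Agent.Lib.Helper24.PshBridge
open Groth.Agent.Lib.Helper24.AlgStLocQ1 Groth.Agent.Lib.Helper24.FibCatFpMapL
open Groth.Agent.Lib.Helper24.AlgStLocQ2 Groth.Agent.Lib.Helper24.FibCatFpLiftIso
open Groth.Agent.Lib.Helper24.AlgStLocQ3 Groth.Agent.Lib.Helper24.AlgStProdAlg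
open Groth.Agent.Lib.Helper24.AlgStLocQ4 Groth.Agent.Lib.Helper24.AlgStLocQ5
open Groth.Agent.Lib.Helper24.AlgStLocQ6 Groth.Agent.Lib.Helper24.AlgStLocQ7
open Groth.Agent.Lib.Helper24.AlgStLocQ8 Groth.Agent.Lib.Helper24.AlgStLocQ9
open Groth.Agent.Lib.Helper24.AlgStLocQ10 Groth.Agent.Lib.Helper24.AlgStLocQ12
open Groth.Agent.Lib.Helper24.AlgStLocQ13
open Groth.Agent.Lib.Helper24.AlgStCalc Groth.Agent.Lib.Helper24.AlgStDiag
open Groth.Agent.Lib.Helper24.AlgStCalc2 Groth.Agent.Lib.Helper24.AlgStDescent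
open Groth.Agent.Lib.Helper24.FibCatOverMap Groth.Agent.Lib.Helper24.AlgStAtlas
open Groth.Agent.Lib.Helper24.FibCatGraph Groth.Agent.Lib.Helper24.AlgStDiagLft
open Groth.Agent.Lib.Helper24.FibCatFpSwap Groth.Agent.Lib.Helper24.AlgStProd
open Groth.Agent.Lib.Helper24.AlgSpSmLocal
open Groth.Agent.Lib.Helper24.AlgStPts1 Groth.Agent.Lib.Helper24.AlgStPts3
open Groth.Agent.Lib.Helper24.AlgStPts4 Groth.Agent.Lib.Helper24.AlgStPts6
open Groth.Agent.Lib.Helper24.AlgStPts5 Groth.Agent.Lib.Helper24.AlgStPts7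
open Groth.Agent.Lib.Helper24.AlgStOpenSub2 Groth.Agent.Lib.Helper24.AlgStOpenSub3
open Groth.Agent.Lib.Helper24.AlgStOpenSub5
open Groth.Agent.Lib.Helper24.FibCatTwoCart
open Groth.Agent.Lib.Helper24.FibCatDiag (mkIso)
open Groth.Agent.Lib.Helper26.StackPoints
open CategoryTheory.Limits AlgSt

variable {S : Scheme.{u}}

section ChartPoint
variable {𝒳 𝒴 : AlgSt.Cat S} (h𝒳 : AlgSt.IsAlgStack Scheme.fppfPrecoverage 𝒳)
  (h𝒴 : AlgSt.IsAlgStack Scheme.fppfPrecoverage 𝒴) (f : 𝒳 ⥤ᵇ 𝒴)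

include h𝒳 h𝒴 in
/-- on a chart square with surjective comparison functor, a point of the target chart whose image
lies in the image of `f` is hit by the chart morphism -/
theorem exists_chart_point_of_mem_image {U V : Over S} (x : FibCat.overCat U ⥤ᵇ 𝒳)
    (y : FibCat.overCat V ⥤ᵇ 𝒴) (h : U ⟶ V)
    (α : BasedFunctor.comp x f ≅ BasedFunctor.comp (AlgSt.overMap h) y)
    (hℓ' : AlgSt.RepByAlgSpWith AlgSp.IsSurjectiveMor (FibCat.fpLift x (AlgSt.overMap h) α))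
    (v : ↥V.left) (hv : Points.ofChart y v ∈ Set.range (Points.map f)) :
    ∃ u : ↥U.left, h.left u = v ∧ Points.map f (Points.ofChart x u) = Points.ofChart y v := by
  have hfV : FibCat.IsFibGrpd (FibCat.overCat V).p := StkFpCrit.isFibGrpd_overForget V
  obtain ⟨ξ, hξ⟩ := hv
  obtain ⟨w, hw1, hw2⟩ := exists_points_fp hfV h𝒴.isStack.1 h𝒳.isStack.1 y f ξ (sch V v)
    (by rw [hξ, ofChart_eq])
  have hfp : FibCat.IsFibGrpd (FibCat.fp f y).p := isFibGrpd_fp _ _ h𝒳.isStack.1 hfV h𝒴.isStack.1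
  obtain ⟨z', hz'⟩ := surjective_map_of_repByAlgSpWith hfp _ hℓ' w
  obtain ⟨u, rfl⟩ := (bijective_sch U).2 z'
  refine ⟨u, ?_, ?_⟩
  · apply (bijective_sch V).1
    rw [← sch_overMap, ← hw2, ← hz', ← map_comp]
    rfl
  · rw [← hξ, ← hw1, ← hz', ← map_comp, ofChart_eq]
    rfl

end ChartPoint

section Atlas
variable {𝒴 : AlgSt.Cat S} (h𝒴 : AlgSt.IsAlgStack Scheme.fppfPrecoverage 𝒴)

/-- the morphism over `S` of spectra induced by a ring homomorphism -/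
noncomputable abbrev specOver {A A' : Type u} [CommRing A] [CommRing A'] (sA : Spec (CommRingCat.of A) ⟶ S)
    (φ : A →+* A') :
    (Over.mk (Spec.map (CommRingCat.ofHom φ) ≫ sA) : Over S) ⟶ Over.mk sA :=
  Over.homMk (Spec.map (CommRingCat.ofHom φ)) rfl

include h𝒴 in
/-- a morphism from the spectrum of a valuation ring to an algebraic stack lifts to a smooth
surjective chart after an extension of valuation rings -/
theorem exists_val_lift_atlas {V : Over S} (yV : FibCat.overCat V ⥤ᵇ 𝒴)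
    (hyV : AlgSt.RepByAlgSpWith (AlgSp.LocP @Smooth) yV)
    (hyV' : AlgSt.RepByAlgSpWith AlgSp.IsSurjectiveMor yV)
    (A : Type u) [CommRing A] [IsDomain A] [ValuationRing A] (sA : Spec (CommRingCat.of A) ⟶ S)
    (a : FibCat.overCat (Over.mk sA) ⥤ᵇ 𝒴) :
    ∃ (A' : Type u) (_ : CommRing A') (_ : IsDomain A') (_ : ValuationRing A') (φ : A →+* A'),
      Function.Injective φ ∧ IsLocalHom φ ∧
      ∃ g : (Over.mk (Spec.map (CommRingCat.ofHom φ) ≫ sA) : Over S) ⟶ V,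
        Nonempty (BasedFunctor.comp (AlgSt.overMap (specOver sA φ)) a ≅
          BasedFunctor.comp (AlgSt.overMap g) yV) := by
  have hfV : FibCat.IsFibGrpd (FibCat.overCat V).p := StkFpCrit.isFibGrpd_overForget V
  have hfA : FibCat.IsFibGrpd (FibCat.overCat (Over.mk sA)).p := StkFpCrit.isFibGrpd_overForget _
  have hValg : AlgSt.IsAlgStack Scheme.fppfPrecoverage (FibCat.overCat V) :=
    isAlgStack_of_repByAlgSp (repByAlgSp_overCat V)
  have hAalg : AlgSt.IsAlgStack Scheme.fppfPrecoverage (FibCat.overCat (Over.mk sA)) :=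
    isAlgStack_of_repByAlgSp (repByAlgSp_overCat _)
  have hfp : AlgSt.IsAlgStack Scheme.fppfPrecoverage (FibCat.fp a yV) :=
    isAlgStack_fp h𝒴.isStack h𝒴.diag hAalg hValg a yV
  obtain ⟨Z, c, hc, hc'⟩ := hfp.atlas
  have hfZ : FibCat.IsFibGrpd (FibCat.overCat Z).p := StkFpCrit.isFibGrpd_overForget Z
  obtain ⟨g, ⟨ig⟩⟩ := exists_iso_overMapC (BasedFunctor.comp c (FibCat.fpFst a yV))
  obtain ⟨gV, ⟨igV⟩⟩ := exists_iso_overMapC (BasedFunctor.comp c (FibCat.fpSnd a yV))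
  have h1 : AlgSt.RepByAlgSpWith (AlgSp.LocP @Smooth) (BasedFunctor.comp c (FibCat.fpFst a yV)) :=
    repByAlgSpWith_comp hfZ hfp.isStack.1 hfA _ good_smooth.nice stableComp_smooth _ _ hc
      (repByAlgSpWith_fpFst _ yV a hyV)
  have h1' : AlgSt.RepByAlgSpWith AlgSp.IsSurjectiveMor
      (BasedFunctor.comp c (FibCat.fpFst a yV)) :=
    repByAlgSpWith_comp hfZ hfp.isStack.1 hfA _ good_isSurjectiveMor.nice
      stableComp_isSurjectiveMor _ _ hc' (repByAlgSpWith_fpFst _ yV a hyV')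
  have h2 : AlgSt.RepByAlgSpWith (AlgSp.LocP @Smooth) (AlgSt.overMap g) :=
    repByAlgSpWith_of_iso _ ig h1
  have h2' : AlgSt.RepByAlgSpWith AlgSp.IsSurjectiveMor (AlgSt.overMap g) :=
    repByAlgSpWith_of_iso _ ig h1'
  have hgsm : Smooth g.left :=
    AlgSp.locP_yon_map ((repByAlgSpWith_overMap_iff _ good_smooth g).1 h2)
  have hgsurj : Function.Surjective (Points.ofChart (AlgSt.overMap g)) :=
    SmLocus1.surjective_ofChart hAalg _ h2'
  obtain ⟨z, hz⟩ := hgsurj (sch _ (IsLocalRing.closedPoint A : ↥(Spec (CommRingCat.of A))))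
  have hz' : g.left z = (IsLocalRing.closedPoint A : ↥(Spec (CommRingCat.of A))) := by
    apply (bijective_sch (Over.mk sA)).1
    rw [← hz]
    exact (ofChart_overMap g (BasedFunctor.id _) z).symm
  obtain ⟨A', i1, i2, i3, φ, hφ1, hφ2, g', hg', -⟩ :=
    Groth.Agent.S10292.lift_flat_type g.left A (𝟙 _) z hz'
  refine ⟨A', i1, i2, i3, φ, hφ1, hφ2, ?_⟩
  rw [Category.comp_id] at hg'
  let g'' : (Over.mk (Spec.map (CommRingCat.ofHom φ) ≫ sA) : Over S) ⟶ Z := Over.homMk g' (by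
    change g' ≫ Z.hom = Spec.map (CommRingCat.ofHom φ) ≫ sA
    have : g.left ≫ sA = Z.hom := Over.w g
    rw [← this, ← Category.assoc, hg'])
  have e1 : g'' ≫ g = specOver sA φ := by
    apply Over.OverMorphism.ext
    exact hg'
  refine ⟨g'' ≫ gV, ⟨?_⟩⟩
  rw [← e1]
  exact (whiskerRightIso (overMapComp g'' g) a).trans
    ((whiskerLeftIso (AlgSt.overMap g'') ((whiskerRightIso ig.symm a).trans
      ((whiskerLeftIso c (FibCat.fpIso a yV)).trans (whiskerRightIso igV yV)))).trans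
      (whiskerRightIso (overMapComp g'' gV).symm yV))

end Atlas

section Flat
variable {𝒳 𝒴 : AlgSt.Cat S} (h𝒳 : AlgSt.IsAlgStack Scheme.fppfPrecoverage 𝒳)
  (h𝒴 : AlgSt.IsAlgStack Scheme.fppfPrecoverage 𝒴) (f : 𝒳 ⥤ᵇ 𝒴)

theorem closedPoint_specMap {A A' : Type u} [CommRing A] [CommRing A'] [IsLocalRing A]
    [IsLocalRing A'] (φ : A →+* A') [IsLocalHom φ] :
    (Spec.map (CommRingCat.ofHom φ)) (IsLocalRing.closedPoint A' : ↥(Spec (CommRingCat.of A'))) =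
      (IsLocalRing.closedPoint A : ↥(Spec (CommRingCat.of A))) :=
  IsLocalRing.comap_closedPoint φ

include h𝒳 h𝒴 in
theorem exists_val_lift_of_flat (hf : AlgSt.LocQ (AlgSp.LocP @Flat) f)
    (A : Type u) [CommRing A] [IsDomain A] [ValuationRing A] (sA : Spec (CommRingCat.of A) ⟶ S)
    (a : FibCat.overCat (Over.mk sA) ⥤ᵇ 𝒴)
    (ha : AlgSt.Points.ofChart a (IsLocalRing.closedPoint A) ∈ Set.range (AlgSt.Points.map f)) :
    ∃ (A' : Type u) (_ : CommRing A') (_ : IsDomain A') (_ : ValuationRing A') (φ : A →+* A'),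
      Function.Injective φ ∧ IsLocalHom φ ∧
      ∃ x : FibCat.overCat (Over.mk (Spec.map (CommRingCat.ofHom φ) ≫ sA)) ⥤ᵇ 𝒳,
        Nonempty (BasedFunctor.comp x f ≅
          BasedFunctor.comp (AlgSt.overMap (specOver sA φ)) a) := by
  obtain ⟨V, yV, hyV, hyV'⟩ := h𝒴.atlas
  obtain ⟨U, x, h, α, hx, hℓ, hℓ', -⟩ := exists_square h𝒳 h𝒴 f yV hyV
  have hh : Flat h.left := AlgSp.locP_yon_map
    ((locQ_iff_forall h𝒳 h𝒴 f isSmoothLocalST_flat).1 hf U V x yV h α hx hyV hℓ)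
  obtain ⟨A₁, i1, i2, i3, φ₁, hφ₁i, hφ₁l, g₁, ⟨iso₁⟩⟩ :=
    exists_val_lift_atlas h𝒴 yV hyV hyV' A sA a
  have hv : Points.ofChart yV (g₁.left (IsLocalRing.closedPoint A₁ : ↥(Spec (CommRingCat.of A₁)))) ∈
      Set.range (Points.map f) := by
    rw [← ofChart_overMap g₁ yV, ← congrFun (ofChart_congr iso₁) _, ofChart_overMap]
    have : (specOver sA φ₁).left (IsLocalRing.closedPoint A₁ : ↥(Spec (CommRingCat.of A₁))) =
        (IsLocalRing.closedPoint A : ↥(Spec (CommRingCat.of A))) := closedPoint_specMap φ₁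
    rw [this]
    exact ha
  obtain ⟨u, hu, -⟩ := exists_chart_point_of_mem_image h𝒳 h𝒴 f x yV h α hℓ' _ hv
  obtain ⟨A₂, j1, j2, j3, φ₂, hφ₂i, hφ₂l, g₂, hg₂, -⟩ :=
    Groth.Agent.S10292.lift_flat_type h.left A₁ g₁.left u hu
  have hcomp : Spec.map (CommRingCat.ofHom (φ₂.comp φ₁)) =
      Spec.map (CommRingCat.ofHom φ₂) ≫ Spec.map (CommRingCat.ofHom φ₁) := by
    rw [← Spec.map_comp]
    rfl
  refine ⟨A₂, j1, j2, j3, φ₂.comp φ₁, hφ₂i.comp hφ₁i, RingHom.isLocalHom_comp φ₂ φ₁, ?_⟩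
  have hU : h.left ≫ V.hom = U.hom := Over.w h
  have hg₁ : g₁.left ≫ V.hom = Spec.map (CommRingCat.ofHom φ₁) ≫ sA := Over.w g₁
  let g₂' : (Over.mk (Spec.map (CommRingCat.ofHom (φ₂.comp φ₁)) ≫ sA) : Over S) ⟶ U :=
    Over.homMk g₂ (by
      change g₂ ≫ U.hom = Spec.map (CommRingCat.ofHom (φ₂.comp φ₁)) ≫ sA
      rw [← hU, ← Category.assoc, hg₂, Category.assoc, hg₁, hcomp, Category.assoc])
  let Φ₂ : (Over.mk (Spec.map (CommRingCat.ofHom (φ₂.comp φ₁)) ≫ sA) : Over S) ⟶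
      Over.mk (Spec.map (CommRingCat.ofHom φ₁) ≫ sA) :=
    Over.homMk (Spec.map (CommRingCat.ofHom φ₂)) (by
      change Spec.map (CommRingCat.ofHom φ₂) ≫ Spec.map (CommRingCat.ofHom φ₁) ≫ sA =
        Spec.map (CommRingCat.ofHom (φ₂.comp φ₁)) ≫ sA
      rw [hcomp, Category.assoc])
  have e1 : g₂' ≫ h = Φ₂ ≫ g₁ := by
    apply Over.OverMorphism.ext
    exact hg₂
  have e2 : Φ₂ ≫ specOver sA φ₁ = specOver sA (φ₂.comp φ₁) := by
    apply Over.OverMorphism.ext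
    exact hcomp.symm
  refine ⟨BasedFunctor.comp (AlgSt.overMap g₂') x, ⟨?_⟩⟩
  rw [← e2]
  exact (whiskerLeftIso (AlgSt.overMap g₂') α).trans
    ((whiskerRightIso (overMapComp g₂' h).symm yV).trans
      ((eqToIso (by rw [e1])).trans
        ((whiskerRightIso (overMapComp Φ₂ g₁) yV).trans
          ((whiskerLeftIso (AlgSt.overMap Φ₂) iso₁.symm).trans
            (whiskerRightIso (overMapComp Φ₂ (specOver sA φ₁)).symm a)))))

end Flat

section QC
variable {𝒳 𝒴 : AlgSt.Cat S} (h𝒳 : AlgSt.IsAlgStack Scheme.fppfPrecoverage 𝒳)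
  (h𝒴 : AlgSt.IsAlgStack Scheme.fppfPrecoverage 𝒴) (f : 𝒳 ⥤ᵇ 𝒴)

include h𝒳 h𝒴 in
theorem exists_val_witness_of_qc (hf : AlgSt.IsQuasiCompactMor Scheme.fppfPrecoverage f)
    (y : AlgSt.Points 𝒴) (hy : y ∈ closure (Set.range (AlgSt.Points.map f))) :
    ∃ (A : Type u) (_ : CommRing A) (_ : IsDomain A) (_ : ValuationRing A)
      (sA : Spec (CommRingCat.of A) ⟶ S) (a : FibCat.overCat (Over.mk sA) ⥤ᵇ 𝒴)
      (x : FibCat.overCat (Over.mk (Spec.map (CommRingCat.ofHom (algebraMap A (FractionRing A))) ≫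
        sA)) ⥤ᵇ 𝒳),
      Nonempty (BasedFunctor.comp x f ≅
        BasedFunctor.comp (AlgSt.overMap (specOver sA (algebraMap A (FractionRing A)))) a) ∧
      AlgSt.Points.ofChart a (IsLocalRing.closedPoint A) = y := by
  obtain ⟨V, yV, hyV, hyV'⟩ := h𝒴.atlas
  obtain ⟨v, rfl⟩ := SmLocus1.surjective_ofChart h𝒴 yV hyV' y
  obtain ⟨_, ⟨V₀, hV₀, rfl⟩, hvV₀, -⟩ :=
    V.left.isBasis_affineOpens.exists_subset_of_mem_open (Set.mem_univ v) isOpen_univ
  have hV₀a : IsAffine (resV V₀).left := hV₀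
  have hfV : FibCat.IsFibGrpd (FibCat.overCat V).p := StkFpCrit.isFibGrpd_overForget V
  have hfV₀ : FibCat.IsFibGrpd (FibCat.overCat (resV V₀)).p := StkFpCrit.isFibGrpd_overForget _
  have hV₀alg : AlgSt.IsAlgStack Scheme.fppfPrecoverage (FibCat.overCat (resV V₀)) :=
    isAlgStack_of_repByAlgSp (repByAlgSp_overCat _)
  let yV₀ : FibCat.overCat (resV V₀) ⥤ᵇ 𝒴 := BasedFunctor.comp (AlgSt.overMap (resι V₀)) yV
  have hyV₀ : AlgSt.RepByAlgSpWith (AlgSp.LocP @Smooth) yV₀ :=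
    repByAlgSpWith_comp hfV₀ hfV h𝒴.isStack.1 _ good_smooth.nice stableComp_smooth _ _
      (smooth_overMap_resι V₀) hyV
  obtain ⟨U₀, c, hU₀a, hc, hc'⟩ := hf _ hV₀alg (Groth.Agent.Lib.Helper24.AlgStQCMor.isQuasiCompact_overCat (resV V₀) hV₀a) yV₀
  have hfU₀ : FibCat.IsFibGrpd (FibCat.overCat U₀).p := StkFpCrit.isFibGrpd_overForget U₀
  let c₂ : FibCat.overCat U₀ ⥤ᵇ FibCat.fp f yV₀ := BasedFunctor.comp c (swap yV₀ f)
  have hc₂' : AlgSt.RepByAlgSpWith AlgSp.IsSurjectiveMor c₂ :=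
    repByAlgSpWith_comp_equiv _ _ _ (isEquivOver_swap yV₀ f) hc'
  obtain ⟨h₀, ⟨i⟩⟩ := exists_iso_overMapC (BasedFunctor.comp c₂ (FibCat.fpSnd f yV₀))
  let x₀ : FibCat.overCat U₀ ⥤ᵇ 𝒳 := BasedFunctor.comp c₂ (FibCat.fpFst f yV₀)
  let α : BasedFunctor.comp x₀ f ≅ BasedFunctor.comp (AlgSt.overMap h₀) yV₀ :=
    liftE c₂ (AlgSt.overMap h₀) i
  have hℓ' : AlgSt.RepByAlgSpWith AlgSp.IsSurjectiveMor (FibCat.fpLift x₀ (AlgSt.overMap h₀) α) :=
    repByAlgSpWith_of_iso _ (liftIso c₂ (AlgSt.overMap h₀) i).symm hc₂'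
  -- the point
  let v₀ : ↥(resV V₀).left := (⟨v, hvV₀⟩ : ↥V₀)
  have hv₀ : Points.ofChart yV₀ v₀ = Points.ofChart yV v := ofChart_overMap (resι V₀) yV v₀
  have hopen : IsOpenMap (Points.ofChart yV₀) := isOpenMap_ofChart h𝒴 yV₀
    (repByAlgSpWith_locP_mono AlgStDiagLft.smooth_le_flat yV₀ hyV₀)
    (repByAlgSpWith_locP_mono AlgStDiagLft.smooth_le_lfp yV₀ hyV₀)
  have hcl : v₀ ∈ closure (Set.range h₀.left) := by
    rw [mem_closure_iff]
    intro N hN hvN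
    have hN' : IsOpen (Points.ofChart yV₀ '' N) := hopen _ hN
    have hyN : Points.ofChart yV v ∈ Points.ofChart yV₀ '' N := ⟨v₀, hvN, hv₀⟩
    obtain ⟨η, ⟨n, hnN, rfl⟩, hη⟩ := mem_closure_iff.1 hy _ hN' hyN
    obtain ⟨u, hu, -⟩ := exists_chart_point_of_mem_image h𝒳 h𝒴 f x₀ yV₀ h₀ α hℓ' n hη
    exact ⟨n, hnN, ⟨u, hu⟩⟩
  have : CompactSpace ↥U₀.left := by
    have : IsAffine U₀.left := hU₀a
    infer_instance
  have hqc : QuasiCompact h₀.left := by
    have : IsAffine (resV V₀).left := hV₀a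
    exact (HasAffineProperty.iff_of_isAffine (P := @QuasiCompact)).2 inferInstance
  obtain ⟨A, i1, i2, i3, xK, yA, hxy, hyA⟩ := Groth.Agent.S2121.result h₀.left v₀ hcl
  let sA : Spec (CommRingCat.of A) ⟶ S := yA ≫ (resV V₀).hom
  let gA : (Over.mk sA : Over S) ⟶ resV V₀ := Over.homMk yA rfl
  let a : FibCat.overCat (Over.mk sA) ⥤ᵇ 𝒴 := BasedFunctor.comp (AlgSt.overMap gA) yV₀
  have hU₀ : h₀.left ≫ (resV V₀).hom = U₀.hom := Over.w h₀
  let gK : (Over.mk (Spec.map (CommRingCat.ofHom (algebraMap A (FractionRing A))) ≫ sA) : Over S) ⟶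
      U₀ := Over.homMk xK (by
    change xK ≫ U₀.hom = Spec.map (CommRingCat.ofHom (algebraMap A (FractionRing A))) ≫ sA
    rw [← hU₀, ← Category.assoc, hxy, Category.assoc])
  have e1 : gK ≫ h₀ = specOver sA (algebraMap A (FractionRing A)) ≫ gA := by
    apply Over.OverMorphism.ext
    exact hxy
  refine ⟨A, i1, i2, i3, sA, a, BasedFunctor.comp (AlgSt.overMap gK) x₀, ⟨?_⟩, ?_⟩
  · exact (whiskerLeftIso (AlgSt.overMap gK) α).trans
      ((whiskerRightIso (overMapComp gK h₀).symm yV₀).trans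
        ((eqToIso (by rw [e1])).trans
          (whiskerRightIso (overMapComp (specOver sA (algebraMap A (FractionRing A))) gA) yV₀)))
  · rw [ofChart_overMap gA yV₀]
    have : gA.left (IsLocalRing.closedPoint A : ↥(Spec (CommRingCat.of A))) = v₀ := hyA
    rw [this, hv₀]

end QC

end Groth.Agent.Lib.Helper24.ValLift
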