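import Groth.Agent.Lib.Helper24.WNA1
import Groth.Agent.Lib.Helper24.AlgStAffLoc
import Groth.Agent.Lib.Helper24.AlgStQCProd
import Groth.Agent.Lib.Helper24.FibCatOverMap
import Groth.Agent.Lib.Helper24.AlgStSmLoc
import Groth.Agent.Lib.Helper24.AlgStSep2
import Groth.Agent.Lib.Helper24.AlgStPts6
import Groth.Agent.Lib.Helper24.ThickFinite
import Groth.Agent.Lib.Helper24.AlgStSepDiag
import Groth.Agent.Lib.Helper24.AlgStLocQ4
set_option autoImplicit false
set_option linter.unusedSectionVars false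
universe u
open CategoryTheory CategoryTheory.Limits AlgebraicGeometry Opposite
set_option backward.isDefEq.respectTransparency false
set_option backward.isDefEq.respectTransparency.types false

/-! Well-nigh affine stacks are quasi-compact, quasi-DM and separated. -/

namespace Groth.Agent.Lib.Helper24.WNA2
open AlgSt
open Groth.Agent.Lib.Helper24.FibCatEquiv Groth.Agent.Lib.Helper24.AlgStRep
open Groth.Agent.Lib.Helper24.AlgStBridge Groth.Agent.Lib.Helper24.AlgStBoot
open Groth.Agent.Lib.Helper24.AlgStGC Groth.Agent.Lib.Helper24.AlgStProps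
open Groth.Agent.Lib.Helper24.AlgStSchLocal Groth.Agent.Lib.Helper24.AlgStRepS
open Groth.Agent.Lib.Helper24.AlgStDiagLC Groth.Agent.Lib.Helper24.AlgStSepDiag

variable {S : Scheme.{u}}

/-- a property of the structure functor of a scheme over the base -/
theorem repByAlgSpWith_to_selfOver_iff (P : MorphismProperty (AlgSp.Sp S)) (hP : Good P)
    {X : Over S} (t : FibCat.overCat X ⥤ᵇ FibCat.selfOver (Over S)) :
    AlgSt.RepByAlgSpWith P t ↔
      ∃ g : X ⟶ Over.mk (𝟙 S), g.left = X.hom ∧ P ((AlgSp.yon S).map g) := by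
  rw [Groth.Agent.Lib.Helper24.AlgStLC.repByAlgSpWith_conj P t (BasedFunctor.id _)
    (Groth.Agent.Lib.Helper24.StkSlice.P₁ (U := S))
    (Groth.Agent.Lib.Helper24.AlgStRep.isEquivOver_id _)
    (Groth.Agent.Lib.Helper24.AlgStQCProd.isEquivOver_P₁ S)]
  obtain ⟨g, ⟨i⟩⟩ := Groth.Agent.Lib.Helper24.FibCatOverMap.exists_iso_overMapC
    (BasedFunctor.comp (BasedFunctor.id _)
      (BasedFunctor.comp t (Groth.Agent.Lib.Helper24.StkSlice.P₁ (U := S))))
  have hg : g.left = X.hom := by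
    have := Over.w g
    simpa using this
  have key : AlgSt.RepByAlgSpWith P (AlgSt.overMap g) ↔ P ((AlgSp.yon S).map g) :=
    Groth.Agent.Lib.Helper24.AlgStSmLoc.repByAlgSpWith_overMap_iff P hP g
  constructor
  · intro h
    exact ⟨g, hg, key.1 (Groth.Agent.Lib.Helper24.AlgStGC.repByAlgSpWith_of_iso P i h)⟩
  · rintro ⟨g', hg', h⟩
    have : g' = g := by
      apply Over.OverMorphism.ext
      rw [hg, hg']
    subst this
    exact Groth.Agent.Lib.Helper24.AlgStGC.repByAlgSpWith_of_iso P i.symm (key.2 h)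

theorem isSeparated_hom_of_isAffine (X : Over S) [IsAffine X.left] : IsSeparated X.hom := by
  have : IsSeparated (X.hom ≫ terminal.from S) := by
    rw [terminal.comp_from]
    infer_instance
  exact IsSeparated.of_comp X.hom (terminal.from S)

theorem wna_props {𝒳 : AlgSt.Cat S}
    (h𝒳 : AlgSt.IsAlgStack Scheme.fppfPrecoverage 𝒳) (hw : AlgSt.IsWellNighAffine 𝒳) :
    AlgSt.IsQuasiCompact 𝒳 ∧ AlgSt.IsQuasiDMOver 𝒳 ∧ AlgSt.IsSeparatedOver 𝒳 := by
  obtain ⟨U, x, hUaff, hx⟩ := hw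
  have hx1 : AlgSt.RepByAlgSpWith AlgSp.IsSurjectiveMor x :=
    repByAlgSpWith_mono (fun _ _ a h => h.1.1.1) x hx
  have hx2 : AlgSt.RepByAlgSpWith (AlgSp.LocP @Flat) x :=
    repByAlgSpWith_mono (fun _ _ a h => h.1.1.2) x hx
  have hx3 : AlgSt.RepByAlgSpWith AlgSp.IsFiniteMor x :=
    repByAlgSpWith_mono (fun _ _ a h => h.1.2) x hx
  have hx4 : AlgSt.RepByAlgSpWith (AlgSp.LocP @LocallyOfFinitePresentation) x :=
    repByAlgSpWith_mono (fun _ _ a h => h.2) x hx
  have hxprop : AlgSt.RepByAlgSpWith AlgSp.IsProperMor x :=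
    repByAlgSpWith_mono' (fun X Y hX hY a ha =>
      ((Groth.Agent.Lib.Helper24.ThickSq.isFiniteMor_iff_isProperMor_and_lqf
        (X := ⟨X, hX⟩) (Y := ⟨Y, hY⟩) (ObjectProperty.homMk a)).1 ha).1) x hx3
  have hxlqf : AlgSt.RepByAlgSpWith
      (AlgSp.LocP (@LocallyQuasiFinite ⊓ @LocallyOfFiniteType)) x :=
    repByAlgSpWith_mono' (fun X Y hX hY a ha =>
      ((Groth.Agent.Lib.Helper24.ThickSq.isFiniteMor_iff_isProperMor_and_lqf
        (X := ⟨X, hX⟩) (Y := ⟨Y, hY⟩) (ObjectProperty.homMk a)).1 ha).2) x hx3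
  have hUfib := Groth.Agent.Lib.Helper24.StkFpCrit.isFibGrpd_overForget U
  have hXfib : FibCat.IsFibGrpd 𝒳.p := h𝒳.isStack.1
  have hSfib := Groth.Agent.Lib.Helper24.FibCatInertia.isFibGrpd_selfOver (C := Over S)
  have hU : AlgSt.RepByAlgSp (FibCat.overCat U) :=
    Groth.Agent.Lib.Helper24.AlgStCalc.repByAlgSp_overCat U
  refine ⟨?_, ?_, ?_⟩
  · have hUalg : AlgSt.IsAlgStack Scheme.fppfPrecoverage (FibCat.overCat U) :=
      Groth.Agent.Lib.Helper24.AlgStAtlas.isAlgStack_of_repByAlgSp hU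
    have hsurj : AlgSt.IsSurjective x :=
      (Groth.Agent.Lib.Helper24.AlgStPts5.isSurjective_iff_repByAlgSpWith hUfib hXfib x
        (repByAlgSp1_of_repByAlgSpWith _ x hx1)).2 hx1
    exact Groth.Agent.Lib.Helper24.AlgStPts6.isQuasiCompact_of_isSurjective hUalg h𝒳 x hsurj
      ⟨U, BasedFunctor.id _, hUaff,
        Groth.Agent.Lib.Helper24.AlgStLocQ4.smooth_of_isEquivOver _ (isEquivOver_id _),
        Groth.Agent.Lib.Helper24.AlgStLocQ4.surjective_of_isEquivOver _ (isEquivOver_id _)⟩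
  · exact Groth.Agent.Lib.Helper24.AlgStDiagAtlas.repByAlgSpWith_diag_of_chart hUfib hXfib hSfib _
      good_lqf leftCancel_lqf (FibCat.toSelf 𝒳) h𝒳.diag x hU
      (Groth.Agent.Lib.Helper24.AlgStDiag.repByAlgSp_fp_comp_toSelf hU hU _ _) hx2 hx4 hx1 hxlqf
  · have : IsAffine U.left := hUaff
    have hsep : AlgSt.RepByAlgSpWith AlgSp.IsSeparatedMor
        (BasedFunctor.comp x (FibCat.toSelf 𝒳)) :=
      (repByAlgSpWith_to_selfOver_iff _ good_isSeparatedMor _).2
        ⟨Over.homMk U.hom, rfl, (AlgSp.isSeparatedMor_yon_map_iff _).2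
          (isSeparated_hom_of_isAffine U)⟩
    exact Groth.Agent.Lib.Helper24.AlgStAffLoc.repByAlgSpWith_diag_of_chart' hUfib hXfib hSfib
      AlgSp.IsProperMor AlgSp.IsSeparatedMor good_isProperMor good_isSeparatedMor.nice
      Groth.Agent.Lib.Helper24.AlgStSep2.leftCancel_proper_sep (FibCat.toSelf 𝒳) h𝒳.diag x hU
      (Groth.Agent.Lib.Helper24.AlgStDiag.repByAlgSp_fp_comp_toSelf hU hU _ _)
      (repByAlgSpWith_fpFst AlgSp.IsSeparatedMor _ _ hsep) hx2 hx4 hx1 hxprop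

end Groth.Agent.Lib.Helper24.WNA2
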