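import Groth.Agent.Lib.Helper24.ZarGlueRep
import Groth.Agent.Lib.Helper14.AlgSpPoints
import Groth.Prelude
set_option autoImplicit false
set_option linter.unusedSectionVars false
universe u
open CategoryTheory CategoryTheory.Limits AlgebraicGeometry Opposite

/-! Properties of morphisms of sheaves tested on affine schemes are Zariski local on the target
(for a Zariski covering of the target by open subspaces). -/

namespace Groth.Agent.Lib.Helper24.ZarCoverLocal
open AlgSp Groth.Agent.Lib.Helper14.AS Groth.Agent.Lib.Helper24.ZarGlue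
open Groth.Agent.Lib.Helper24.ZarGlueRep

variable {S : Scheme.{u}}

/-- A morphism from a scheme to a sheaf with a Zariski covering factors, locally on affine
opens of the scheme, through the members of the covering. -/
theorem exists_affine_lift_of_zarCover {ι : Type u} {Y : Sp S} (Yi : ι → Sp S) (j : ∀ i, Yi i ⟶ Y)
    (hj : IsZarCover Yi j) {Z : Over S} (g : (yon S).obj Z ⟶ Y) (z : Z.left) :
    ∃ (i : ι) (O : Z.left.Opens) (_ : z ∈ O) (_ : IsAffineOpen O)
      (l : (yon S).obj (resOpen Z O) ⟶ Yi i), l ≫ j i = (yon S).map (resOpenι Z O) ≫ g := by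
  obtain ⟨i, y, hy⟩ := hj.2 (Points.ofPt g z)
  have hji : RepWith @IsOpenImmersion (j i) := hj.1 i
  have sq := hji.rep.isPullback g
  have hoi : IsOpenImmersion (hji.rep.snd g).left := hji.property_snd g
  rw [Points.ofPt_eq_map_ofScheme g] at hy
  obtain ⟨w, _, hw2⟩ := points_exists_of_isPullback sq y _ hy
  obtain ⟨v, rfl⟩ := (Points.schemeHomeo _).surjective w
  have hv : (hji.rep.snd g).left v = z :=
    (Points.schemeHomeo Z).injective ((Points.map_yon_map_apply (hji.rep.snd g) v).symm.trans hw2)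
  have hz : z ∈ (hji.rep.snd g).left.opensRange := ⟨v, hv⟩
  obtain ⟨O, hO, hzO, hOle⟩ := exists_isAffineOpen_mem_and_subset hz
  have hr : Set.range O.ι ⊆ Set.range (hji.rep.snd g).left := by
    rw [Scheme.Opens.range_ι]; exact hOle
  let l0 : (O : Scheme.{u}) ⟶ (hji.rep.pullback g).left := IsOpenImmersion.lift (hji.rep.snd g).left O.ι hr
  have hl0 : l0 ≫ (hji.rep.snd g).left = O.ι := IsOpenImmersion.lift_fac _ _ _
  let l1 : resOpen Z O ⟶ hji.rep.pullback g := Over.homMk l0 (by
    change l0 ≫ (hji.rep.pullback g).hom = O.ι ≫ Z.hom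
    rw [← hl0, Category.assoc, Over.w (hji.rep.snd g)])
  have hl1 : l1 ≫ hji.rep.snd g = resOpenι Z O := by ext1; exact hl0
  refine ⟨i, O, hzO, hO, (yon S).map l1 ≫ hji.rep.fst g, ?_⟩
  rw [Category.assoc, sq.w, ← Category.assoc, ← Functor.map_comp, hl1]

/-- **Affine-local properties are local for Zariski coverings of the target.** -/
theorem affine_test_of_zarCover (Qr : MorphismProperty Scheme.{u}) [IsZariskiLocalAtTarget Qr]
    {X Y : Sp S} (f : X ⟶ Y) {ι : Type u}
    (Yi : ι → Sp S) (j : ∀ i, Yi i ⟶ Y) (hj : IsZarCover Yi j)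
    (Xi : ι → Sp S) (p : ∀ i, Xi i ⟶ X) (q : ∀ i, Xi i ⟶ Yi i)
    (sq : ∀ i, IsPullback (p i) (q i) f (j i))
    (h : ∀ i ⦃Z' : Over S⦄, IsAffine Z'.left → ∀ (g' : (yon S).obj Z' ⟶ Yi i),
      ∃ (W' : Over S) (r : W' ⟶ Z') (fst' : (yon S).obj W' ⟶ Xi i),
        IsPullback fst' ((yon S).map r) (q i) g' ∧ Qr r.left)
    ⦃Z : Over S⦄ (g : (yon S).obj Z ⟶ Y) :
    ∃ (W : Over S) (i : W ⟶ Z) (fst : (yon S).obj W ⟶ X),
      IsPullback fst ((yon S).map i) f g ∧ Qr i.left := by
  have : Qr.RespectsIso := inferInstance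
  have hloc : ∀ w : Z.left, ∃ (O : Z.left.Opens) (_ : w ∈ O) (X' : Over S) (r : X' ⟶ resOpen Z O)
      (fst : (yon S).obj X' ⟶ pullback f g),
      IsPullback fst ((yon S).map r) (pullback.snd f g) ((yon S).map (resOpenι Z O)) ∧
        Qr r.left := by
    intro w
    obtain ⟨i, O, hwO, hO, l, hl⟩ := exists_affine_lift_of_zarCover Yi j hj g w
    obtain ⟨W', r, fst', sq', hr⟩ := h i (Z' := resOpen Z O) hO l
    have houter : IsPullback (fst' ≫ p i) ((yon S).map r) f ((yon S).map (resOpenι Z O) ≫ g) := by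
      have := sq'.paste_horiz (sq i)
      rw [hl] at this
      exact this
    exact ⟨O, hwO, W', r, _, isPullback_lift_of_isPullback f g (resOpenι Z O) r _ houter, hr⟩
  obtain ⟨U, ρ, e, he, hU⟩ := exists_rep_of_locally (pullback.snd f g)
    (fun O X' r => Qr r.left) hloc
  refine ⟨U, ρ, e.hom ≫ pullback.fst f g, isPullback_of_iso_pullback f g ρ e he, ?_⟩
  apply IsZariskiLocalAtTarget.of_forall_exists_morphismRestrict
  intro w
  obtain ⟨O, hwO, X', r, fst, j', _, hpb, hQ⟩ := hU w
  exact ⟨O, hwO, (morphismRestrict_iff_of_isPullback Qr hpb).2 hQ⟩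

end Groth.Agent.Lib.Helper24.ZarCoverLocal
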