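import Mathlib

set_option autoImplicit false
set_option backward.isDefEq.respectTransparency false

universe u

namespace Groth.Agent.Lib.Helper24.ZeroCyc

open TensorProduct

/-- Number of primes of an étale algebra over an algebraically closed field = dimension. -/
theorem card_primeSpectrum_of_etale (Ω A : Type u) [Field Ω] [IsSepClosed Ω] [CommRing A]
    [Algebra Ω A] [Algebra.EssFiniteType Ω A] [Algebra.FormallyEtale Ω A] :
    Nat.card (PrimeSpectrum A) = Module.finrank Ω A := by
  have := Algebra.FormallyUnramified.finite_of_free Ω A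
  have : IsArtinianRing A := isArtinian_of_tower Ω inferInstance
  have := Fintype.ofFinite (PrimeSpectrum A)
  rw [(Algebra.FormallyEtale.equivPiOfIsSepClosed Ω A).toLinearEquiv.finrank_eq,
    Module.finrank_pi, Nat.card_eq_fintype_card]

theorem card_primeSpectrum_tensor (K L Ω : Type u) [Field K] [PerfectField K] [Field L]
    [Algebra K L] [Module.Finite K L] [Field Ω] [Algebra K Ω] [IsAlgClosed Ω] :
    Nat.card (PrimeSpectrum (L ⊗[K] Ω)) = Module.finrank K L := by
  have : Algebra.IsSeparable K L := inferInstance
  have : Algebra.FormallyEtale K L := Algebra.FormallyEtale.of_isSeparable K L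
  have : Algebra.FormallyEtale Ω (Ω ⊗[K] L) := inferInstance
  rw [Nat.card_congr (PrimeSpectrum.comapEquiv
    (Algebra.TensorProduct.comm K L Ω).toRingEquiv).toEquiv,
    card_primeSpectrum_of_etale Ω (Ω ⊗[K] L), Module.finrank_baseChange]

theorem discrete_primeSpectrum_tensor (K L Ω : Type u) [Field K] [Field L]
    [Algebra K L] [Module.Finite K L] [Field Ω] [Algebra K Ω] :
    DiscreteTopology (PrimeSpectrum (L ⊗[K] Ω)) := by
  have : IsArtinianRing (Ω ⊗[K] L) := IsArtinianRing.of_finite Ω _
  have : IsArtinianRing (L ⊗[K] Ω) :=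
    (Algebra.TensorProduct.comm K Ω L).toRingEquiv.isArtinianRing
  infer_instance

end Groth.Agent.Lib.Helper24.ZeroCyc
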