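import Groth.Agent.Lib.Helper24.ZeroCycA
import Groth.Agent.Lib27.Sch.ZetaPoints

set_option autoImplicit false
set_option backward.isDefEq.respectTransparency false
set_option backward.isDefEq.respectTransparency.types false

universe u

open CategoryTheory AlgebraicGeometry Limits TensorProduct

namespace Groth.Agent.Lib.Helper24.ZeroCyc

open Groth.Agent.Lib27.ZetaPoints

variable {k : Type u} [Field k] {X : Scheme.{u}} (f : X ⟶ Spec (CommRingCat.of k))
  (Ω : Type u) [Field Ω] [Algebra k Ω]

/-- The fibre of `X_Ω ⟶ X` over `x` is `Spec (κ(x) ⊗_k Ω)`. -/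
theorem nonempty_fibre_homeo (x : X) :
    letI := (strMap f x).hom.toAlgebra
    Nonempty (((pullback.fst f (Spec.map (CommRingCat.ofHom (algebraMap k Ω)))).base ⁻¹' {x}) ≃ₜ
      PrimeSpectrum ((X.residueField x) ⊗[k] Ω)) := by
  letI := (strMap f x).hom.toAlgebra
  obtain ⟨g, hg⟩ : ∃ g, g = Spec.map (CommRingCat.ofHom (algebraMap k Ω)) := ⟨_, rfl⟩
  rw [← hg]
  let π := pullback.fst f g
  let ι := X.fromSpecResidueField x
  have h1 : ι ≫ f = Spec.map (CommRingCat.ofHom (algebraMap k (X.residueField x))) :=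
    (SpecMap_strMap f x).symm
  let e1 : pullback π ι ≅ pullback ι π := pullbackSymmetry _ _
  let e2 : pullback ι π ≅ pullback (ι ≫ f) g := pullbackRightPullbackFstIso f g ι
  let e3 : pullback (ι ≫ f) g ≅
      pullback (Spec.map (CommRingCat.ofHom (algebraMap k (X.residueField x))))
        (Spec.map (CommRingCat.ofHom (algebraMap k Ω))) := pullback.congrHom h1 hg
  let e4 := pullbackSpecIso k (X.residueField x) Ω
  exact ⟨(π.fiberHomeo x).symm.trans (Scheme.homeoOfIso (e1 ≪≫ e2 ≪≫ e3 ≪≫ e4))⟩

variable [LocallyOfFiniteType f]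

theorem finite_strMap_of_isClosed (x : X) (hx : IsClosed ({x} : Set X)) :
    letI := (strMap f x).hom.toAlgebra
    Module.Finite k (X.residueField x) := by
  letI := (strMap f x).hom.toAlgebra
  have : IsFinite (X.fromSpecResidueField x ≫ f) := by
    rw [isClosed_singleton_iff_isClosedImmersion] at hx
    rw [isFinite_iff_locallyOfFiniteType_of_jacobsonSpace]
    infer_instance
  rw [← SpecMap_strMap, IsFinite.SpecMap_iff] at this
  exact this

theorem card_fibre [PerfectField k] [IsAlgClosed Ω] (x : X) (hx : IsClosed ({x} : Set X)) :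
    Nat.card ((pullback.fst f (Spec.map (CommRingCat.ofHom (algebraMap k Ω)))).base ⁻¹' {x}) =
      EGA4loc.residueDegree f x := by
  letI := (strMap f x).hom.toAlgebra
  have := finite_strMap_of_isClosed f x hx
  obtain ⟨e⟩ := nonempty_fibre_homeo f Ω x
  rw [Nat.card_congr e.toEquiv, card_primeSpectrum_tensor, ← finrank_strMap]

theorem discrete_fibre (x : X) (hx : IsClosed ({x} : Set X)) :
    DiscreteTopology
      ((pullback.fst f (Spec.map (CommRingCat.ofHom (algebraMap k Ω)))).base ⁻¹' {x}) := by
  letI := (strMap f x).hom.toAlgebra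
  have := finite_strMap_of_isClosed f x hx
  obtain ⟨e⟩ := nonempty_fibre_homeo f Ω x
  have := discrete_primeSpectrum_tensor k (X.residueField x) Ω
  exact e.symm.discreteTopology

end Groth.Agent.Lib.Helper24.ZeroCyc
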