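import Groth.Agent.Lib.Helper24.ZeroCycB
import Groth.Agent.Lib27.Sch.FibreGalois

set_option autoImplicit false
set_option backward.isDefEq.respectTransparency false
set_option backward.isDefEq.respectTransparency.types false

universe u

open CategoryTheory AlgebraicGeometry Limits TensorProduct

namespace Groth.Agent.Lib.Helper24.ZeroCyc

open Groth.Agent.Lib27.ZetaPoints

variable {k : Type u} [Field k] {X : Scheme.{u}} (f : X ⟶ Spec (CommRingCat.of k))

local notation "gΩ" => Spec.map (CommRingCat.ofHom (algebraMap k (AlgebraicClosure k)))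
local notation "π" => pullback.fst f (Spec.map (CommRingCat.ofHom (algebraMap k (AlgebraicClosure k))))

theorem pi_surjective : Function.Surjective (π).base := by
  have : Surjective gΩ :=
    ⟨fun x => ⟨(default : PrimeSpectrum (AlgebraicClosure k)),
      Subsingleton.elim (α := PrimeSpectrum k) _ _⟩⟩
  exact (pullback.fst f gΩ).surjective

theorem pi_isClosedMap : IsClosedMap (π).base := by
  have h1 : IsIntegralHom gΩ := by
    rw [IsIntegralHom.SpecMap_iff]
    exact algebraMap_isIntegral_iff.mpr inferInstance
  have h2 : UniversallyClosed (π) := inferInstance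
  exact (π).isClosedMap

theorem isClosed_pi (y : ↑(pullback f gΩ)) (hy : IsClosed ({y} : Set _)) :
    IsClosed ({(π).base y} : Set X) := by
  have := pi_isClosedMap f _ hy
  rwa [Set.image_singleton] at this

variable [LocallyOfFiniteType f]

theorem isClosed_of_pi (y : ↑(pullback f gΩ)) (hy : IsClosed ({(π).base y} : Set X)) :
    IsClosed ({y} : Set _) := by
  have hd := discrete_fibre f (AlgebraicClosure k) _ hy
  have hcl : IsClosed ((π).base ⁻¹' {(π).base y}) := hy.preimage (π).continuous
  have h1 : IsClosed ({⟨y, rfl⟩} : Set ((π).base ⁻¹' {(π).base y})) := isClosed_discrete _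
  have h2 := hcl.isClosedEmbedding_subtypeVal.isClosedMap _ h1
  rwa [Set.image_singleton] at h2

theorem residueDegree_pos (x : X) (hx : IsClosed ({x} : Set X)) :
    0 < EGA4loc.residueDegree f x := by
  letI := (strMap f x).hom.toAlgebra
  have := finite_strMap_of_isClosed f x hx
  rw [← finrank_strMap]
  exact Module.finrank_pos

variable [PerfectField k]

theorem finite_fibre (x : X) (hx : IsClosed ({x} : Set X)) : ((π).base ⁻¹' {x}).Finite := by
  apply Set.finite_coe_iff.mp
  apply Nat.finite_of_card_ne_zero
  rw [card_fibre f (AlgebraicClosure k) x hx]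
  exact (residueDegree_pos f x hx).ne'

theorem finite_preimage (c : X → ℕ) (hfin : (Function.support c).Finite)
    (hcl : ∀ x, c x ≠ 0 → IsClosed ({x} : Set X)) :
    ((π).base ⁻¹' (Function.support c)).Finite := by
  refine Set.Finite.subset (hfin.biUnion (fun x hx => finite_fibre f x (hcl x hx))) ?_
  intro y hy
  exact Set.mem_biUnion (x := (π).base y) hy rfl

theorem sum_comp (c : X → ℕ) (hfin : (Function.support c).Finite)
    (hcl : ∀ x, c x ≠ 0 → IsClosed ({x} : Set X)) :
    ∑ᶠ y, c ((π).base y) = ∑ᶠ x, c x * EGA4loc.residueDegree f x := by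
  classical
  have hT := finite_preimage f c hfin hcl
  rw [finsum_eq_sum_of_support_subset (s := hT.toFinset) _ (by
      intro y hy
      simpa using hy),
    finsum_eq_sum_of_support_subset (s := hfin.toFinset) _ (by
      intro x hx
      have : c x ≠ 0 := fun h => hx (by simp [h])
      simpa using this)]
  rw [← Finset.sum_fiberwise_of_maps_to (s := hT.toFinset) (t := hfin.toFinset)
    (g := (π).base) (by
      intro y hy
      simpa using hy)]
  refine Finset.sum_congr rfl fun x hx => ?_
  have hx' : c x ≠ 0 := by simpa using hx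
  rw [Finset.sum_congr rfl (g := fun _ => c x) (fun i hi => by rw [(Finset.mem_filter.mp hi).2]),
    Finset.sum_const, smul_eq_mul, mul_comm]
  congr 1
  rw [← card_fibre f (AlgebraicClosure k) x (hcl x hx'), Nat.card_coe_set_eq,
    ← Set.ncard_coe_finset]
  congr 1
  ext y
  simp only [Finset.coe_filter, Set.Finite.mem_toFinset, Set.mem_preimage, Function.mem_support,
    Set.mem_ofPred_eq, Set.mem_singleton_iff]
  constructor
  · exact fun h => h.2
  · intro h
    exact ⟨by rw [h]; exact hx', h⟩

theorem main [QuasiCompact f]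
    (τ : (AlgebraicClosure k ≃ₐ[k] AlgebraicClosure k) →
      (pullback f (Spec.map (CommRingCat.ofHom (algebraMap k (AlgebraicClosure k)))) ⟶
        pullback f (Spec.map (CommRingCat.ofHom (algebraMap k (AlgebraicClosure k))))))
    (hτ1 : ∀ σ, τ σ ≫ pullback.fst f _ = pullback.fst f _)
    (hτ2 : ∀ σ, τ σ ≫ pullback.snd f (Spec.map (CommRingCat.ofHom (algebraMap k (AlgebraicClosure k)))) =
        pullback.snd f _ ≫ Spec.map (CommRingCat.ofHom (σ : AlgebraicClosure k →+* AlgebraicClosure k)))
    (n : ℕ) :
    Set.BijOn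
      (fun c : X → ℕ => c ∘ (pullback.fst f (Spec.map (CommRingCat.ofHom
        (algebraMap k (AlgebraicClosure k))))).base)
      {c : X → ℕ | (Function.support c).Finite ∧ (∀ x, c x ≠ 0 → IsClosed ({x} : Set X)) ∧
        ∑ᶠ x, c x * EGA4loc.residueDegree f x = n}
      {d : ↑(pullback f (Spec.map (CommRingCat.ofHom (algebraMap k (AlgebraicClosure k))))) → ℕ |
        (Function.support d).Finite ∧ (∀ y, d y ≠ 0 → IsClosed ({y} : Set _)) ∧
        ∑ᶠ y, d y = n ∧ ∀ σ y, d ((τ σ).base y) = d y} := by
  have : Normal k (AlgebraicClosure k) := IsAlgClosure.normal k (AlgebraicClosure k)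
  have hgal := Groth.Agent.Lib27.FibreGalois.main' (AlgebraicClosure k) f _ rfl τ hτ1 hτ2
  have hsurj := pi_surjective f
  refine ⟨?_, ?_, ?_⟩
  · rintro c ⟨hfin, hcl, hsum⟩
    refine ⟨finite_preimage f c hfin hcl, ?_, ?_, ?_⟩
    · intro y hy
      exact isClosed_of_pi f y (hcl _ hy)
    · rw [← hsum, ← sum_comp f c hfin hcl]
      rfl
    · intro σ y
      change c ((π).base ((τ σ).base y)) = c ((π).base y)
      rw [← Scheme.Hom.comp_apply, hτ1]
  · intro c₁ _ c₂ _ h
    funext x
    obtain ⟨y, rfl⟩ := hsurj x
    exact congrFun h y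
  · rintro d ⟨hfin, hcl, hsum, hinv⟩
    let c : X → ℕ := fun x => d (Classical.choose (hsurj x))
    have hc : ∀ x, (π).base (Classical.choose (hsurj x)) = x := fun x =>
      Classical.choose_spec (hsurj x)
    have hcd : c ∘ (π).base = d := by
      funext y
      change d (Classical.choose (hsurj ((π).base y))) = d y
      obtain ⟨σ, hσ⟩ := (hgal _ _).mp (hc ((π).base y))
      have h3 := hinv σ (Classical.choose (hsurj ((π).base y)))
      rw [hσ] at h3
      exact h3.symm
    have h1 : (Function.support c).Finite := by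
      refine (hfin.image (π).base).subset ?_
      intro x hx
      exact ⟨Classical.choose (hsurj x), hx, hc x⟩
    have h2 : ∀ x, c x ≠ 0 → IsClosed ({x} : Set X) := by
      intro x hx
      have := isClosed_pi f _ (hcl _ hx)
      rwa [hc x] at this
    refine ⟨c, ⟨h1, h2, ?_⟩, hcd⟩
    rw [← sum_comp f c h1 h2, ← hsum]
    exact finsum_congr (fun y => congrFun hcd y)

end Groth.Agent.Lib.Helper24.ZeroCyc
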