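import Groth.Agent.Lib.Helper24.CodimZeroA
set_option autoImplicit false
set_option linter.unusedSectionVars false
set_option linter.unusedVariables false
universe u
open CategoryTheory CategoryTheory.Limits AlgebraicGeometry TopologicalSpace

/-! Quasi-separated schemes all of whose points are maximal (dimension 0): separated, and every
quasi-compact open is affine. -/

namespace Groth.Agent.Lib.Helper24.ZeroDimSch
open Groth.Agent.Lib.Helper24.CodimZeroA

variable {V : Scheme.{u}}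

/-- a compact open inside an affine open is relatively closed -/
theorem isOpen_diff_of_isCompact (hmax : ∀ x y : V, y ⤳ x → y = x) {U : V.Opens}
    (hU : IsAffineOpen U) (W : V.Opens) (hWU : W ≤ U) (hW : IsCompact (W : Set V)) :
    IsOpen ((U : Set V) \ (W : Set V)) := by
  rw [isOpen_iff_forall_mem_open]
  intro x hx
  have hUaff : IsAffine U.toScheme := hU
  let P : Set U.toScheme := Subtype.val ⁻¹' (W : Set V)
  have hPo : IsOpen P := W.2.preimage continuous_subtype_val
  have hPc : IsCompact P := by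
    have h1 : IsCompact (Subtype.val ⁻¹' (W : Set V) : Set (U : Set V)) := by
      rw [Subtype.isCompact_iff]
      rwa [Set.image_preimage_eq_of_subset]
      rw [Subtype.range_coe]
      exact hWU
    exact h1
  have hx' : ∀ y : U.toScheme, y ⤳ (⟨x, hx.1⟩ : U.toScheme) → y = ⟨x, hx.1⟩ := by
    intro y hy
    have h1 : y.1 ⤳ x := hy.map continuous_subtype_val
    exact Subtype.ext (hmax _ _ h1)
  obtain ⟨O, hxO, hOP⟩ := exists_open_disjoint_of_isAffine (⟨x, hx.1⟩ : U.toScheme) hx' P hPo hPc hx.2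
  refine ⟨Subtype.val '' (O : Set U.toScheme), ?_, U.2.isOpenMap_subtype_val _ O.2, ⟨_, hxO, rfl⟩⟩
  rintro _ ⟨y, hy, rfl⟩
  exact ⟨y.2, fun hyW => Set.disjoint_left.1 hOP hy hyW⟩

/-- an open subset of an affine open which is relatively closed in it is affine -/
theorem isAffineOpen_of_isOpen_diff {U : V.Opens} (hU : IsAffineOpen U) (D : V.Opens) (hDU : D ≤ U)
    (hcl : IsOpen ((U : Set V) \ (D : Set V))) : IsAffineOpen D := by
  have hUaff : IsAffine U.toScheme := hU
  have hr : Set.range (V.homOfLE hDU) = (Subtype.val ⁻¹' (D : Set V) : Set U.toScheme) := by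
    ext x
    constructor
    · rintro ⟨y, rfl⟩
      have h1 : (V.homOfLE hDU ≫ U.ι) y = D.ι y := by rw [Scheme.homOfLE_ι]
      rw [Scheme.Hom.comp_apply] at h1
      change U.ι (V.homOfLE hDU y) ∈ D
      rw [h1]
      exact y.2
    · intro hx
      refine ⟨⟨x.1, hx⟩, ?_⟩
      apply U.ι.injective
      have h1 : (V.homOfLE hDU ≫ U.ι) (⟨x.1, hx⟩ : D.toScheme) = D.ι (⟨x.1, hx⟩ : D.toScheme) := by
        rw [Scheme.homOfLE_ι]
      exact h1
  have hcl' : IsClosed (Set.range (V.homOfLE hDU)) := by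
    rw [hr, ← isOpen_compl_iff]
    have : ((Subtype.val ⁻¹' (D : Set V) : Set U.toScheme))ᶜ =
        Subtype.val ⁻¹' ((U : Set V) \ (D : Set V)) := by
      ext x
      exact ⟨fun h => ⟨x.2, h⟩, fun h => h.2⟩
    rw [this]
    exact hcl.preimage continuous_subtype_val
  have : IsClosedImmersion (V.homOfLE hDU) := IsClosedImmersion.of_isPreimmersion _ hcl'
  exact isAffine_of_isAffineHom (V.homOfLE hDU)

/-- the union of two affine opens is affine -/
theorem isAffineOpen_sup [QuasiSeparatedSpace V] (hmax : ∀ x y : V, y ⤳ x → y = x) {U U' : V.Opens}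
    (hU : IsAffineOpen U) (hU' : IsAffineOpen U') : IsAffineOpen (U ⊔ U') := by
  have hWc : IsCompact ((U ⊓ U' : V.Opens) : Set V) :=
    QuasiSeparatedSpace.inter_isCompact U.1 U'.1 U.2 hU.isCompact U'.2 hU'.isCompact
  have hDo : IsOpen ((U' : Set V) \ ((U ⊓ U' : V.Opens) : Set V)) :=
    isOpen_diff_of_isCompact hmax hU' (U ⊓ U') inf_le_right hWc
  let D : V.Opens := ⟨(U' : Set V) \ ((U ⊓ U' : V.Opens) : Set V), hDo⟩
  have hDU' : D ≤ U' := fun x hx => hx.1
  have hDcl : IsOpen ((U' : Set V) \ (D : Set V)) := by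
    have : (U' : Set V) \ (D : Set V) = ((U ⊓ U' : V.Opens) : Set V) := by
      ext x
      change x ∈ (U' : Set V) ∧ ¬ (x ∈ (U' : Set V) ∧ ¬ (x ∈ (U : Set V) ∧ x ∈ (U' : Set V))) ↔
        x ∈ (U : Set V) ∧ x ∈ (U' : Set V)
      tauto
    rw [this]
    exact (U ⊓ U').2
  have hD : IsAffineOpen D := isAffineOpen_of_isOpen_diff hU' D hDU' hDcl
  have hdisj : Disjoint U D := by
    rw [disjoint_iff]
    ext x
    change x ∈ (U : Set V) ∧ (x ∈ (U' : Set V) ∧ ¬ (x ∈ (U : Set V) ∧ x ∈ (U' : Set V))) ↔ x ∈ (∅ : Set V)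
    simp only [Set.mem_empty_iff_false, iff_false]
    tauto
  have heq : U ⊔ U' = U ⊔ D := by
    ext x
    change x ∈ (U : Set V) ∨ x ∈ (U' : Set V) ↔
      x ∈ (U : Set V) ∨ (x ∈ (U' : Set V) ∧ ¬ (x ∈ (U : Set V) ∧ x ∈ (U' : Set V)))
    tauto
  rw [heq]
  exact hU.sup_of_disjoint hD hdisj

/-- every quasi-compact open is affine -/
theorem isAffineOpen_of_isCompact [QuasiSeparatedSpace V] (hmax : ∀ x y : V, y ⤳ x → y = x)
    (W : V.Opens) (hW : IsCompact (W : Set V)) : IsAffineOpen W := by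
  refine compact_open_induction_on (P := fun W => IsAffineOpen W) W hW ?_ ?_
  · exact isAffineOpen_bot V
  · intro S _ U hS
    exact isAffineOpen_sup hmax hS U.2

set_option backward.isDefEq.respectTransparency.types false in
/-- a quasi-separated scheme all of whose points are maximal is separated -/
theorem isSeparated [QuasiSeparatedSpace V] (hmax : ∀ x y : V, y ⤳ x → y = x) : V.IsSeparated := by
  have hqs : QuasiSeparated (terminal.from V) :=
    (quasiSeparatedSpace_iff_quasiSeparated V).1 inferInstance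
  refine ⟨IsSeparated.of_valuativeCriterion (terminal.from V) ?_⟩
  intro Sq
  refine ⟨fun l₁ l₂ => ?_⟩
  have hconst : ∀ (l : Spec (.of Sq.R) ⟶ V) (z : Spec (.of Sq.R)),
      l z = l (IsLocalRing.closedPoint Sq.R) := by
    intro l z
    have hz : z ⤳ (IsLocalRing.closedPoint Sq.R : Spec (.of Sq.R)) :=
      IsLocalRing.specializes_closedPoint z
    exact hmax _ _ (hz.map l.continuous)
  have hg : l₁.l (Spec.map (CommRingCat.ofHom (algebraMap Sq.R Sq.K)) (IsLocalRing.closedPoint Sq.K)) =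
      l₂.l (Spec.map (CommRingCat.ofHom (algebraMap Sq.R Sq.K)) (IsLocalRing.closedPoint Sq.K)) := by
    rw [← Scheme.Hom.comp_apply, ← Scheme.Hom.comp_apply, l₁.fac_left, l₂.fac_left]
  have hv : l₁.l (IsLocalRing.closedPoint Sq.R) = l₂.l (IsLocalRing.closedPoint Sq.R) := by
    rw [← hconst l₁.l _, ← hconst l₂.l _]
    exact hg
  obtain ⟨U, hU, hvU, -⟩ := exists_isAffineOpen_mem_and_subset
    (x := l₁.l (IsLocalRing.closedPoint Sq.R)) (U := ⊤) trivial
  have h1 : Set.range l₁.l ⊆ Set.range U.ι := by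
    rw [Scheme.Opens.range_ι]
    rintro _ ⟨z, rfl⟩
    rw [hconst l₁.l z]
    exact hvU
  have h2 : Set.range l₂.l ⊆ Set.range U.ι := by
    rw [Scheme.Opens.range_ι]
    rintro _ ⟨z, rfl⟩
    rw [hconst l₂.l z, ← hv]
    exact hvU
  have e₁ : IsOpenImmersion.lift U.ι l₁.l h1 ≫ U.ι = l₁.l := IsOpenImmersion.lift_fac _ _ _
  have e₂ : IsOpenImmersion.lift U.ι l₂.l h2 ≫ U.ι = l₂.l := IsOpenImmersion.lift_fac _ _ _
  have hUaff : IsAffine U.toScheme := hU
  have huniq := IsSeparated.valuativeCriterion (terminal.from U.toScheme)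
  let Sq' : ValuativeCommSq (terminal.from U.toScheme) :=
    ⟨Sq.R, Sq.K, Spec.map (CommRingCat.ofHom (algebraMap Sq.R Sq.K)) ≫ IsOpenImmersion.lift U.ι l₁.l h1,
      terminal.from _, ⟨terminal.hom_ext _ _⟩⟩
  have hss : Subsingleton Sq'.commSq.LiftStruct := huniq Sq'
  let L₁ : Sq'.commSq.LiftStruct := ⟨IsOpenImmersion.lift U.ι l₁.l h1, rfl, terminal.hom_ext _ _⟩
  let L₂ : Sq'.commSq.LiftStruct := ⟨IsOpenImmersion.lift U.ι l₂.l h2, by
    change Spec.map (CommRingCat.ofHom (algebraMap Sq.R Sq.K)) ≫ IsOpenImmersion.lift U.ι l₂.l h2 =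
      Spec.map (CommRingCat.ofHom (algebraMap Sq.R Sq.K)) ≫ IsOpenImmersion.lift U.ι l₁.l h1
    rw [← cancel_mono U.ι, Category.assoc, Category.assoc, e₁, e₂, l₁.fac_left, l₂.fac_left],
    terminal.hom_ext _ _⟩
  have hL : L₁ = L₂ := Subsingleton.elim _ _
  have hl' : IsOpenImmersion.lift U.ι l₁.l h1 = IsOpenImmersion.lift U.ι l₂.l h2 :=
    congrArg CommSq.LiftStruct.l hL
  apply CommSq.LiftStruct.ext
  rw [← e₁, ← e₂, hl']

end Groth.Agent.Lib.Helper24.ZeroDimSch
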